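import Cfsg.Agent.Helper17.ONTC.Fin3

set_option autoImplicit false
set_option linter.all false
set_option maxRecDepth 100000

noncomputable section

namespace Cfsg.Agent.Helper17.ONTC

theorem N30001 : nd 30001 = n49234 := ndS (p := 14980) (l := 6) rfl N14980 D49234
theorem N30002 : nd 30002 = n49235 := ndS (p := 14981) (l := 0) rfl N14981 D49235
theorem N30003 : nd 30003 = n49236 := ndS (p := 14981) (l := 4) rfl N14981 D49236
theorem N30004 : nd 30004 = n49237 := ndS (p := 14981) (l := 6) rfl N14981 D49237
theorem N30005 : nd 30005 = n49238 := ndS (p := 14982) (l := 4) rfl N14982 D49238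
theorem N30006 : nd 30006 = n49239 := ndS (p := 14983) (l := 3) rfl N14983 D49239
theorem N30007 : nd 30007 = n49240 := ndS (p := 14983) (l := 5) rfl N14983 D49240
theorem N30008 : nd 30008 = n49241 := ndS (p := 14983) (l := 6) rfl N14983 D49241
theorem N30009 : nd 30009 = n49243 := ndS (p := 14984) (l := 1) rfl N14984 D49243
theorem N30010 : nd 30010 = n49244 := ndS (p := 14984) (l := 7) rfl N14984 D49244
theorem N30011 : nd 30011 = n49245 := ndS (p := 14985) (l := 3) rfl N14985 D49245
theorem N30012 : nd 30012 = n49246 := ndS (p := 14985) (l := 5) rfl N14985 D49246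
theorem N30013 : nd 30013 = n49247 := ndS (p := 14985) (l := 6) rfl N14985 D49247
theorem N30014 : nd 30014 = n49248 := ndS (p := 14986) (l := 0) rfl N14986 D49248
theorem N30015 : nd 30015 = n49249 := ndS (p := 14986) (l := 5) rfl N14986 D49249
theorem N30016 : nd 30016 = n49250 := ndS (p := 14986) (l := 7) rfl N14986 D49250
theorem N30017 : nd 30017 = n49251 := ndS (p := 14988) (l := 6) rfl N14988 D49251
theorem N30018 : nd 30018 = n49252 := ndS (p := 14989) (l := 3) rfl N14989 D49252
theorem N30019 : nd 30019 = n49253 := ndS (p := 14989) (l := 5) rfl N14989 D49253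
theorem N30020 : nd 30020 = n49254 := ndS (p := 14989) (l := 6) rfl N14989 D49254
theorem N30021 : nd 30021 = n49256 := ndS (p := 14990) (l := 1) rfl N14990 D49256
theorem N30022 : nd 30022 = n49257 := ndS (p := 14990) (l := 7) rfl N14990 D49257
theorem N30023 : nd 30023 = n49258 := ndS (p := 14991) (l := 6) rfl N14991 D49258
theorem N30024 : nd 30024 = n49259 := ndS (p := 14992) (l := 3) rfl N14992 D49259
theorem N30025 : nd 30025 = n49260 := ndS (p := 14992) (l := 5) rfl N14992 D49260
theorem N30026 : nd 30026 = n49261 := ndS (p := 14992) (l := 6) rfl N14992 D49261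
theorem N30027 : nd 30027 = n49262 := ndS (p := 14993) (l := 0) rfl N14993 D49262
theorem N30028 : nd 30028 = n49264 := ndS (p := 14993) (l := 7) rfl N14993 D49264
theorem N30029 : nd 30029 = n49265 := ndS (p := 14994) (l := 3) rfl N14994 D49265
theorem N30030 : nd 30030 = n49266 := ndS (p := 14994) (l := 5) rfl N14994 D49266
theorem N30031 : nd 30031 = n49267 := ndS (p := 14994) (l := 6) rfl N14994 D49267
theorem N30032 : nd 30032 = n49268 := ndS (p := 14995) (l := 3) rfl N14995 D49268
theorem N30033 : nd 30033 = n49269 := ndS (p := 14995) (l := 5) rfl N14995 D49269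
theorem N30034 : nd 30034 = n49270 := ndS (p := 14995) (l := 6) rfl N14995 D49270
theorem N30035 : nd 30035 = n49271 := ndS (p := 14996) (l := 0) rfl N14996 D49271
theorem N30036 : nd 30036 = n49272 := ndS (p := 14996) (l := 1) rfl N14996 D49272
theorem N30037 : nd 30037 = n49273 := ndS (p := 14996) (l := 2) rfl N14996 D49273
theorem N30038 : nd 30038 = n49274 := ndS (p := 14996) (l := 5) rfl N14996 D49274
theorem N30039 : nd 30039 = n49275 := ndS (p := 14996) (l := 7) rfl N14996 D49275
theorem N30040 : nd 30040 = n49276 := ndS (p := 14997) (l := 0) rfl N14997 D49276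
theorem N30041 : nd 30041 = n49277 := ndS (p := 14997) (l := 1) rfl N14997 D49277
theorem N30042 : nd 30042 = n49278 := ndS (p := 14997) (l := 6) rfl N14997 D49278
theorem N30043 : nd 30043 = n49279 := ndS (p := 14998) (l := 6) rfl N14998 D49279
theorem N30044 : nd 30044 = n49280 := ndS (p := 15000) (l := 6) rfl N15000 D49280
theorem N30045 : nd 30045 = n49281 := ndS (p := 15002) (l := 3) rfl N15002 D49281
theorem N30046 : nd 30046 = n49282 := ndS (p := 15002) (l := 6) rfl N15002 D49282
theorem N30047 : nd 30047 = n49283 := ndS (p := 15003) (l := 0) rfl N15003 D49283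
theorem N30048 : nd 30048 = n49284 := ndS (p := 15003) (l := 1) rfl N15003 D49284
theorem N30049 : nd 30049 = n49285 := ndS (p := 15003) (l := 7) rfl N15003 D49285
theorem N30050 : nd 30050 = n49286 := ndS (p := 15005) (l := 3) rfl N15005 D49286
theorem N30051 : nd 30051 = n49287 := ndS (p := 15007) (l := 6) rfl N15007 D49287
theorem N30052 : nd 30052 = n49288 := ndS (p := 15008) (l := 3) rfl N15008 D49288
theorem N30053 : nd 30053 = n49289 := ndS (p := 15008) (l := 6) rfl N15008 D49289
theorem N30054 : nd 30054 = n49290 := ndS (p := 15009) (l := 0) rfl N15009 D49290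
theorem N30055 : nd 30055 = n49291 := ndS (p := 15009) (l := 1) rfl N15009 D49291
theorem N30056 : nd 30056 = n49292 := ndS (p := 15009) (l := 7) rfl N15009 D49292
theorem N30057 : nd 30057 = n49293 := ndS (p := 15010) (l := 5) rfl N15010 D49293
theorem N30058 : nd 30058 = n49294 := ndS (p := 15011) (l := 6) rfl N15011 D49294
theorem N30059 : nd 30059 = n49295 := ndS (p := 15012) (l := 6) rfl N15012 D49295
theorem N30060 : nd 30060 = n49297 := ndS (p := 15013) (l := 1) rfl N15013 D49297
theorem N30061 : nd 30061 = n49301 := ndS (p := 15014) (l := 6) rfl N15014 D49301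
theorem N30062 : nd 30062 = n49302 := ndS (p := 15016) (l := 0) rfl N15016 D49302
theorem N30063 : nd 30063 = n49303 := ndS (p := 15016) (l := 2) rfl N15016 D49303
theorem N30064 : nd 30064 = n49304 := ndS (p := 15016) (l := 5) rfl N15016 D49304
theorem N30065 : nd 30065 = n49305 := ndS (p := 15017) (l := 6) rfl N15017 D49305
theorem N30066 : nd 30066 = n49306 := ndS (p := 15018) (l := 6) rfl N15018 D49306
theorem N30067 : nd 30067 = n49307 := ndS (p := 15019) (l := 5) rfl N15019 D49307
theorem N30068 : nd 30068 = n49308 := ndS (p := 15020) (l := 2) rfl N15020 D49308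
theorem N30069 : nd 30069 = n49309 := ndS (p := 15020) (l := 3) rfl N15020 D49309
theorem N30070 : nd 30070 = n49310 := ndS (p := 15020) (l := 4) rfl N15020 D49310
theorem N30071 : nd 30071 = n49311 := ndS (p := 15020) (l := 5) rfl N15020 D49311
theorem N30072 : nd 30072 = n49312 := ndS (p := 15020) (l := 6) rfl N15020 D49312
theorem N30073 : nd 30073 = n49313 := ndS (p := 15020) (l := 7) rfl N15020 D49313
theorem N30074 : nd 30074 = n49314 := ndS (p := 15021) (l := 3) rfl N15021 D49314
theorem N30075 : nd 30075 = n49315 := ndS (p := 15021) (l := 4) rfl N15021 D49315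
theorem N30076 : nd 30076 = n49316 := ndS (p := 15021) (l := 5) rfl N15021 D49316
theorem N30077 : nd 30077 = n49317 := ndS (p := 15021) (l := 6) rfl N15021 D49317
theorem N30078 : nd 30078 = n49318 := ndS (p := 15022) (l := 5) rfl N15022 D49318
theorem N30079 : nd 30079 = n49319 := ndS (p := 15023) (l := 0) rfl N15023 D49319
theorem N30080 : nd 30080 = n49320 := ndS (p := 15023) (l := 1) rfl N15023 D49320
theorem N30081 : nd 30081 = n49321 := ndS (p := 15023) (l := 4) rfl N15023 D49321
theorem N30082 : nd 30082 = n49322 := ndS (p := 15023) (l := 6) rfl N15023 D49322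
theorem N30083 : nd 30083 = n49323 := ndS (p := 15023) (l := 7) rfl N15023 D49323
theorem N30084 : nd 30084 = n49324 := ndS (p := 15024) (l := 6) rfl N15024 D49324
theorem N30085 : nd 30085 = n49325 := ndS (p := 15025) (l := 3) rfl N15025 D49325
theorem N30086 : nd 30086 = n49326 := ndS (p := 15025) (l := 6) rfl N15025 D49326
theorem N30087 : nd 30087 = n49327 := ndS (p := 15026) (l := 3) rfl N15026 D49327
theorem N30088 : nd 30088 = n49328 := ndS (p := 15026) (l := 6) rfl N15026 D49328
theorem N30089 : nd 30089 = n49329 := ndS (p := 15027) (l := 3) rfl N15027 D49329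
theorem N30090 : nd 30090 = n49330 := ndS (p := 15027) (l := 6) rfl N15027 D49330
theorem N30091 : nd 30091 = n49331 := ndS (p := 15028) (l := 0) rfl N15028 D49331
theorem N30092 : nd 30092 = n49332 := ndS (p := 15028) (l := 1) rfl N15028 D49332
theorem N30093 : nd 30093 = n49333 := ndS (p := 15028) (l := 7) rfl N15028 D49333
theorem N30094 : nd 30094 = n49334 := ndS (p := 15029) (l := 6) rfl N15029 D49334
theorem N30095 : nd 30095 = n49335 := ndS (p := 15030) (l := 5) rfl N15030 D49335
theorem N30096 : nd 30096 = n49336 := ndS (p := 15031) (l := 0) rfl N15031 D49336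
theorem N30097 : nd 30097 = n49337 := ndS (p := 15031) (l := 1) rfl N15031 D49337
theorem N30098 : nd 30098 = n49338 := ndS (p := 15031) (l := 7) rfl N15031 D49338
theorem N30099 : nd 30099 = n49339 := ndS (p := 15032) (l := 0) rfl N15032 D49339
theorem N30100 : nd 30100 = n49340 := ndS (p := 15032) (l := 1) rfl N15032 D49340
theorem N30101 : nd 30101 = n49341 := ndS (p := 15032) (l := 7) rfl N15032 D49341
theorem N30102 : nd 30102 = n49342 := ndS (p := 15033) (l := 0) rfl N15033 D49342
theorem N30103 : nd 30103 = n49343 := ndS (p := 15033) (l := 1) rfl N15033 D49343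
theorem N30104 : nd 30104 = n49344 := ndS (p := 15033) (l := 2) rfl N15033 D49344
theorem N30105 : nd 30105 = n49345 := ndS (p := 15033) (l := 5) rfl N15033 D49345
theorem N30106 : nd 30106 = n49346 := ndS (p := 15033) (l := 7) rfl N15033 D49346
theorem N30107 : nd 30107 = n49347 := ndS (p := 15034) (l := 6) rfl N15034 D49347
theorem N30108 : nd 30108 = n49348 := ndS (p := 15035) (l := 6) rfl N15035 D49348
theorem N30109 : nd 30109 = n49349 := ndS (p := 15036) (l := 0) rfl N15036 D49349
theorem N30110 : nd 30110 = n49350 := ndS (p := 15036) (l := 1) rfl N15036 D49350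
theorem N30111 : nd 30111 = n49351 := ndS (p := 15037) (l := 4) rfl N15037 D49351
theorem N30112 : nd 30112 = n49352 := ndS (p := 15037) (l := 6) rfl N15037 D49352
theorem N30113 : nd 30113 = n49353 := ndS (p := 15038) (l := 6) rfl N15038 D49353
theorem N30114 : nd 30114 = n49354 := ndS (p := 15039) (l := 3) rfl N15039 D49354
theorem N30115 : nd 30115 = n49355 := ndS (p := 15039) (l := 5) rfl N15039 D49355
theorem N30116 : nd 30116 = n49356 := ndS (p := 15039) (l := 7) rfl N15039 D49356
theorem N30117 : nd 30117 = n49357 := ndS (p := 15040) (l := 6) rfl N15040 D49357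
theorem N30118 : nd 30118 = n49358 := ndS (p := 15041) (l := 0) rfl N15041 D49358
theorem N30119 : nd 30119 = n49359 := ndS (p := 15041) (l := 1) rfl N15041 D49359
theorem N30120 : nd 30120 = n49360 := ndS (p := 15041) (l := 7) rfl N15041 D49360
theorem N30121 : nd 30121 = n49361 := ndS (p := 15042) (l := 0) rfl N15042 D49361
theorem N30122 : nd 30122 = n49362 := ndS (p := 15042) (l := 1) rfl N15042 D49362
theorem N30123 : nd 30123 = n49363 := ndS (p := 15042) (l := 7) rfl N15042 D49363
theorem N30124 : nd 30124 = n49364 := ndS (p := 15043) (l := 0) rfl N15043 D49364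
theorem N30125 : nd 30125 = n49365 := ndS (p := 15043) (l := 1) rfl N15043 D49365
theorem N30126 : nd 30126 = n49366 := ndS (p := 15043) (l := 2) rfl N15043 D49366
theorem N30127 : nd 30127 = n49367 := ndS (p := 15043) (l := 5) rfl N15043 D49367
theorem N30128 : nd 30128 = n49368 := ndS (p := 15043) (l := 7) rfl N15043 D49368
theorem N30129 : nd 30129 = n49369 := ndS (p := 15044) (l := 6) rfl N15044 D49369
theorem N30130 : nd 30130 = n49370 := ndS (p := 15045) (l := 6) rfl N15045 D49370
theorem N30131 : nd 30131 = n49371 := ndS (p := 15046) (l := 0) rfl N15046 D49371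
theorem N30132 : nd 30132 = n49372 := ndS (p := 15046) (l := 1) rfl N15046 D49372
theorem N30133 : nd 30133 = n49373 := ndS (p := 15047) (l := 4) rfl N15047 D49373
theorem N30134 : nd 30134 = n49374 := ndS (p := 15047) (l := 6) rfl N15047 D49374
theorem N30135 : nd 30135 = n49375 := ndS (p := 15048) (l := 7) rfl N15048 D49375
theorem N30136 : nd 30136 = n49376 := ndS (p := 15049) (l := 3) rfl N15049 D49376
theorem N30137 : nd 30137 = n49377 := ndS (p := 15049) (l := 5) rfl N15049 D49377
theorem N30138 : nd 30138 = n49378 := ndS (p := 15049) (l := 6) rfl N15049 D49378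
theorem N30139 : nd 30139 = n49379 := ndS (p := 15050) (l := 7) rfl N15050 D49379
theorem N30140 : nd 30140 = n49380 := ndS (p := 15052) (l := 3) rfl N15052 D49380
theorem N30141 : nd 30141 = n49381 := ndS (p := 15052) (l := 5) rfl N15052 D49381
theorem N30142 : nd 30142 = n49382 := ndS (p := 15052) (l := 6) rfl N15052 D49382
theorem N30143 : nd 30143 = n49383 := ndS (p := 15054) (l := 0) rfl N15054 D49383
theorem N30144 : nd 30144 = n49384 := ndS (p := 15054) (l := 1) rfl N15054 D49384
theorem N30145 : nd 30145 = n49385 := ndS (p := 15054) (l := 7) rfl N15054 D49385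
theorem N30146 : nd 30146 = n49386 := ndS (p := 15055) (l := 3) rfl N15055 D49386
theorem N30147 : nd 30147 = n49387 := ndS (p := 15055) (l := 5) rfl N15055 D49387
theorem N30148 : nd 30148 = n49388 := ndS (p := 15055) (l := 6) rfl N15055 D49388
theorem N30149 : nd 30149 = n49389 := ndS (p := 15056) (l := 3) rfl N15056 D49389
theorem N30150 : nd 30150 = n49390 := ndS (p := 15056) (l := 5) rfl N15056 D49390
theorem N30151 : nd 30151 = n49391 := ndS (p := 15056) (l := 6) rfl N15056 D49391
theorem N30152 : nd 30152 = n49392 := ndS (p := 15057) (l := 0) rfl N15057 D49392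
theorem N30153 : nd 30153 = n49393 := ndS (p := 15057) (l := 1) rfl N15057 D49393
theorem N30154 : nd 30154 = n49394 := ndS (p := 15057) (l := 2) rfl N15057 D49394
theorem N30155 : nd 30155 = n49395 := ndS (p := 15057) (l := 5) rfl N15057 D49395
theorem N30156 : nd 30156 = n49396 := ndS (p := 15057) (l := 7) rfl N15057 D49396
theorem N30157 : nd 30157 = n49397 := ndS (p := 15058) (l := 0) rfl N15058 D49397
theorem N30158 : nd 30158 = n49398 := ndS (p := 15058) (l := 1) rfl N15058 D49398
theorem N30159 : nd 30159 = n49399 := ndS (p := 15058) (l := 4) rfl N15058 D49399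
theorem N30160 : nd 30160 = n49400 := ndS (p := 15058) (l := 6) rfl N15058 D49400
theorem N30161 : nd 30161 = n49401 := ndS (p := 15058) (l := 7) rfl N15058 D49401
theorem N30162 : nd 30162 = n49402 := ndS (p := 15059) (l := 6) rfl N15059 D49402
theorem N30163 : nd 30163 = n49403 := ndS (p := 15060) (l := 0) rfl N15060 D49403
theorem N30164 : nd 30164 = n49405 := ndS (p := 15061) (l := 6) rfl N15061 D49405
theorem N30165 : nd 30165 = n49406 := ndS (p := 15063) (l := 1) rfl N15063 D49406
theorem N30166 : nd 30166 = n49407 := ndS (p := 15063) (l := 3) rfl N15063 D49407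
theorem N30167 : nd 30167 = n49408 := ndS (p := 15063) (l := 5) rfl N15063 D49408
theorem N30168 : nd 30168 = n49409 := ndS (p := 15063) (l := 6) rfl N15063 D49409
theorem N30169 : nd 30169 = n49410 := ndS (p := 15064) (l := 0) rfl N15064 D49410
theorem N30170 : nd 30170 = n49411 := ndS (p := 15064) (l := 1) rfl N15064 D49411
theorem N30171 : nd 30171 = n49412 := ndS (p := 15064) (l := 7) rfl N15064 D49412
theorem N30172 : nd 30172 = n49413 := ndS (p := 15067) (l := 4) rfl N15067 D49413
theorem N30173 : nd 30173 = n49414 := ndS (p := 15067) (l := 6) rfl N15067 D49414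
theorem N30174 : nd 30174 = n49415 := ndS (p := 15069) (l := 3) rfl N15069 D49415
theorem N30175 : nd 30175 = n49416 := ndS (p := 15069) (l := 5) rfl N15069 D49416
theorem N30176 : nd 30176 = n49417 := ndS (p := 15069) (l := 6) rfl N15069 D49417
theorem N30177 : nd 30177 = n49418 := ndS (p := 15070) (l := 0) rfl N15070 D49418
theorem N30178 : nd 30178 = n49419 := ndS (p := 15070) (l := 5) rfl N15070 D49419
theorem N30179 : nd 30179 = n49420 := ndS (p := 15070) (l := 7) rfl N15070 D49420
theorem N30180 : nd 30180 = n49421 := ndS (p := 15072) (l := 4) rfl N15072 D49421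
theorem N30181 : nd 30181 = n49422 := ndS (p := 15074) (l := 3) rfl N15074 D49422
theorem N30182 : nd 30182 = n49423 := ndS (p := 15074) (l := 5) rfl N15074 D49423
theorem N30183 : nd 30183 = n49424 := ndS (p := 15074) (l := 6) rfl N15074 D49424
theorem N30184 : nd 30184 = n49425 := ndS (p := 15076) (l := 0) rfl N15076 D49425
theorem N30185 : nd 30185 = n49426 := ndS (p := 15076) (l := 1) rfl N15076 D49426
theorem N30186 : nd 30186 = n49427 := ndS (p := 15076) (l := 7) rfl N15076 D49427
theorem N30187 : nd 30187 = n49428 := ndS (p := 15077) (l := 3) rfl N15077 D49428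
theorem N30188 : nd 30188 = n49429 := ndS (p := 15077) (l := 5) rfl N15077 D49429
theorem N30189 : nd 30189 = n49430 := ndS (p := 15077) (l := 6) rfl N15077 D49430
theorem N30190 : nd 30190 = n49431 := ndS (p := 15078) (l := 0) rfl N15078 D49431
theorem N30191 : nd 30191 = n49432 := ndS (p := 15078) (l := 1) rfl N15078 D49432
theorem N30192 : nd 30192 = n49433 := ndS (p := 15078) (l := 7) rfl N15078 D49433
theorem N30193 : nd 30193 = n49434 := ndS (p := 15079) (l := 5) rfl N15079 D49434
theorem N30194 : nd 30194 = n49435 := ndS (p := 15079) (l := 6) rfl N15079 D49435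
theorem N30195 : nd 30195 = n49436 := ndS (p := 15080) (l := 3) rfl N15080 D49436
theorem N30196 : nd 30196 = n49437 := ndS (p := 15080) (l := 5) rfl N15080 D49437
theorem N30197 : nd 30197 = n49438 := ndS (p := 15080) (l := 6) rfl N15080 D49438
theorem N30198 : nd 30198 = n49439 := ndS (p := 15081) (l := 0) rfl N15081 D49439
theorem N30199 : nd 30199 = n49440 := ndS (p := 15081) (l := 1) rfl N15081 D49440
theorem N30200 : nd 30200 = n49441 := ndS (p := 15081) (l := 2) rfl N15081 D49441
theorem N30201 : nd 30201 = n49442 := ndS (p := 15081) (l := 5) rfl N15081 D49442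
theorem N30202 : nd 30202 = n49443 := ndS (p := 15081) (l := 7) rfl N15081 D49443
theorem N30203 : nd 30203 = n49444 := ndS (p := 15082) (l := 1) rfl N15082 D49444
theorem N30204 : nd 30204 = n49445 := ndS (p := 15082) (l := 4) rfl N15082 D49445
theorem N30205 : nd 30205 = n49446 := ndS (p := 15082) (l := 6) rfl N15082 D49446
theorem N30206 : nd 30206 = n49447 := ndS (p := 15082) (l := 7) rfl N15082 D49447
theorem N30207 : nd 30207 = n49448 := ndS (p := 15083) (l := 6) rfl N15083 D49448
theorem N30208 : nd 30208 = n49449 := ndS (p := 15085) (l := 4) rfl N15085 D49449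
theorem N30209 : nd 30209 = n49450 := ndS (p := 15086) (l := 0) rfl N15086 D49450
theorem N30210 : nd 30210 = n49451 := ndS (p := 15086) (l := 3) rfl N15086 D49451
theorem N30211 : nd 30211 = n49452 := ndS (p := 15086) (l := 5) rfl N15086 D49452
theorem N30212 : nd 30212 = n49453 := ndS (p := 15086) (l := 6) rfl N15086 D49453
theorem N30213 : nd 30213 = n49454 := ndS (p := 15087) (l := 7) rfl N15087 D49454
theorem N30214 : nd 30214 = n49455 := ndS (p := 15088) (l := 4) rfl N15088 D49455
theorem N30215 : nd 30215 = n49456 := ndS (p := 15090) (l := 3) rfl N15090 D49456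
theorem N30216 : nd 30216 = n49457 := ndS (p := 15090) (l := 6) rfl N15090 D49457
theorem N30217 : nd 30217 = n49458 := ndS (p := 15091) (l := 0) rfl N15091 D49458
theorem N30218 : nd 30218 = n49459 := ndS (p := 15091) (l := 1) rfl N15091 D49459
theorem N30219 : nd 30219 = n49460 := ndS (p := 15091) (l := 7) rfl N15091 D49460
theorem N30220 : nd 30220 = n49461 := ndS (p := 15092) (l := 3) rfl N15092 D49461
theorem N30221 : nd 30221 = n49462 := ndS (p := 15092) (l := 6) rfl N15092 D49462
theorem N30222 : nd 30222 = n49464 := ndS (p := 15094) (l := 0) rfl N15094 D49464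
theorem N30223 : nd 30223 = n49465 := ndS (p := 15094) (l := 1) rfl N15094 D49465
theorem N30224 : nd 30224 = n49466 := ndS (p := 15094) (l := 2) rfl N15094 D49466
theorem N30225 : nd 30225 = n49467 := ndS (p := 15094) (l := 6) rfl N15094 D49467
theorem N30226 : nd 30226 = n49468 := ndS (p := 15095) (l := 0) rfl N15095 D49468
theorem N30227 : nd 30227 = n49469 := ndS (p := 15095) (l := 1) rfl N15095 D49469
theorem N30228 : nd 30228 = n49470 := ndS (p := 15095) (l := 5) rfl N15095 D49470
theorem N30229 : nd 30229 = n49471 := ndS (p := 15095) (l := 7) rfl N15095 D49471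
theorem N30230 : nd 30230 = n49474 := ndS (p := 15096) (l := 4) rfl N15096 D49474
theorem N30231 : nd 30231 = n49475 := ndS (p := 15096) (l := 5) rfl N15096 D49475
theorem N30232 : nd 30232 = n49478 := ndS (p := 15097) (l := 4) rfl N15097 D49478
theorem N30233 : nd 30233 = n49480 := ndS (p := 15097) (l := 6) rfl N15097 D49480
theorem N30234 : nd 30234 = n49481 := ndS (p := 15098) (l := 0) rfl N15098 D49481
theorem N30235 : nd 30235 = n49482 := ndS (p := 15098) (l := 1) rfl N15098 D49482
theorem N30236 : nd 30236 = n49483 := ndS (p := 15098) (l := 4) rfl N15098 D49483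
theorem N30237 : nd 30237 = n49484 := ndS (p := 15098) (l := 7) rfl N15098 D49484
theorem N30238 : nd 30238 = n49485 := ndS (p := 15100) (l := 3) rfl N15100 D49485
theorem N30239 : nd 30239 = n49486 := ndS (p := 15101) (l := 6) rfl N15101 D49486
theorem N30240 : nd 30240 = n49487 := ndS (p := 15102) (l := 6) rfl N15102 D49487
theorem N30241 : nd 30241 = n49488 := ndS (p := 15104) (l := 6) rfl N15104 D49488
theorem N30242 : nd 30242 = n49489 := ndS (p := 15105) (l := 6) rfl N15105 D49489
theorem N30243 : nd 30243 = n49490 := ndS (p := 15106) (l := 3) rfl N15106 D49490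
theorem N30244 : nd 30244 = n49491 := ndS (p := 15106) (l := 5) rfl N15106 D49491
theorem N30245 : nd 30245 = n49492 := ndS (p := 15106) (l := 6) rfl N15106 D49492
theorem N30246 : nd 30246 = n49493 := ndS (p := 15107) (l := 0) rfl N15107 D49493
theorem N30247 : nd 30247 = n49494 := ndS (p := 15107) (l := 1) rfl N15107 D49494
theorem N30248 : nd 30248 = n49495 := ndS (p := 15107) (l := 5) rfl N15107 D49495
theorem N30249 : nd 30249 = n49496 := ndS (p := 15107) (l := 7) rfl N15107 D49496
theorem N30250 : nd 30250 = n49497 := ndS (p := 15112) (l := 0) rfl N15112 D49497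
theorem N30251 : nd 30251 = n49498 := ndS (p := 15112) (l := 1) rfl N15112 D49498
theorem N30252 : nd 30252 = n49499 := ndS (p := 15112) (l := 2) rfl N15112 D49499
theorem N30253 : nd 30253 = n49500 := ndS (p := 15112) (l := 6) rfl N15112 D49500
theorem N30254 : nd 30254 = n49503 := ndS (p := 15113) (l := 5) rfl N15113 D49503
theorem N30255 : nd 30255 = n49504 := ndS (p := 15113) (l := 7) rfl N15113 D49504
theorem N30256 : nd 30256 = n49505 := ndS (p := 15114) (l := 4) rfl N15114 D49505
theorem N30257 : nd 30257 = n49506 := ndS (p := 15114) (l := 5) rfl N15114 D49506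
theorem N30258 : nd 30258 = n49507 := ndS (p := 15114) (l := 6) rfl N15114 D49507
theorem N30259 : nd 30259 = n49508 := ndS (p := 15115) (l := 4) rfl N15115 D49508
theorem N30260 : nd 30260 = n49509 := ndS (p := 15116) (l := 0) rfl N15116 D49509
theorem N30261 : nd 30261 = n49510 := ndS (p := 15116) (l := 1) rfl N15116 D49510
theorem N30262 : nd 30262 = n49511 := ndS (p := 15116) (l := 4) rfl N15116 D49511
theorem N30263 : nd 30263 = n49512 := ndS (p := 15116) (l := 7) rfl N15116 D49512
theorem N30264 : nd 30264 = n49513 := ndS (p := 15118) (l := 3) rfl N15118 D49513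
theorem N30265 : nd 30265 = n49514 := ndS (p := 15118) (l := 5) rfl N15118 D49514
theorem N30266 : nd 30266 = n49515 := ndS (p := 15119) (l := 0) rfl N15119 D49515
theorem N30267 : nd 30267 = n49516 := ndS (p := 15119) (l := 3) rfl N15119 D49516
theorem N30268 : nd 30268 = n49517 := ndS (p := 15119) (l := 5) rfl N15119 D49517
theorem N30269 : nd 30269 = n49518 := ndS (p := 15119) (l := 6) rfl N15119 D49518
theorem N30270 : nd 30270 = n49520 := ndS (p := 15120) (l := 1) rfl N15120 D49520
theorem N30271 : nd 30271 = n49521 := ndS (p := 15120) (l := 7) rfl N15120 D49521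
theorem N30272 : nd 30272 = n49522 := ndS (p := 15121) (l := 0) rfl N15121 D49522
theorem N30273 : nd 30273 = n49523 := ndS (p := 15121) (l := 1) rfl N15121 D49523
theorem N30274 : nd 30274 = n49524 := ndS (p := 15121) (l := 2) rfl N15121 D49524
theorem N30275 : nd 30275 = n49525 := ndS (p := 15121) (l := 6) rfl N15121 D49525
theorem N30276 : nd 30276 = n49526 := ndS (p := 15122) (l := 0) rfl N15122 D49526
theorem N30277 : nd 30277 = n49527 := ndS (p := 15122) (l := 1) rfl N15122 D49527
theorem N30278 : nd 30278 = n49528 := ndS (p := 15122) (l := 5) rfl N15122 D49528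
theorem N30279 : nd 30279 = n49529 := ndS (p := 15122) (l := 7) rfl N15122 D49529
theorem N30280 : nd 30280 = n49531 := ndS (p := 15123) (l := 3) rfl N15123 D49531
theorem N30281 : nd 30281 = n49532 := ndS (p := 15123) (l := 4) rfl N15123 D49532
theorem N30282 : nd 30282 = n49533 := ndS (p := 15123) (l := 5) rfl N15123 D49533
theorem N30283 : nd 30283 = n49537 := ndS (p := 15124) (l := 4) rfl N15124 D49537
theorem N30284 : nd 30284 = n49538 := ndS (p := 15124) (l := 5) rfl N15124 D49538
theorem N30285 : nd 30285 = n49539 := ndS (p := 15124) (l := 6) rfl N15124 D49539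
theorem N30286 : nd 30286 = n49540 := ndS (p := 15125) (l := 1) rfl N15125 D49540
theorem N30287 : nd 30287 = n49541 := ndS (p := 15125) (l := 4) rfl N15125 D49541
theorem N30288 : nd 30288 = n49542 := ndS (p := 15125) (l := 7) rfl N15125 D49542
theorem N30289 : nd 30289 = n49543 := ndS (p := 15127) (l := 6) rfl N15127 D49543
theorem N30290 : nd 30290 = n49544 := ndS (p := 15128) (l := 3) rfl N15128 D49544
theorem N30291 : nd 30291 = n49545 := ndS (p := 15128) (l := 5) rfl N15128 D49545
theorem N30292 : nd 30292 = n49546 := ndS (p := 15128) (l := 6) rfl N15128 D49546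
theorem N30293 : nd 30293 = n49547 := ndS (p := 15129) (l := 0) rfl N15129 D49547
theorem N30294 : nd 30294 = n49548 := ndS (p := 15129) (l := 1) rfl N15129 D49548
theorem N30295 : nd 30295 = n49549 := ndS (p := 15129) (l := 7) rfl N15129 D49549
theorem N30296 : nd 30296 = n49550 := ndS (p := 15130) (l := 0) rfl N15130 D49550
theorem N30297 : nd 30297 = n49551 := ndS (p := 15130) (l := 1) rfl N15130 D49551
theorem N30298 : nd 30298 = n49552 := ndS (p := 15130) (l := 2) rfl N15130 D49552
theorem N30299 : nd 30299 = n49553 := ndS (p := 15130) (l := 6) rfl N15130 D49553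
theorem N30300 : nd 30300 = n49554 := ndS (p := 15131) (l := 0) rfl N15131 D49554
theorem N30301 : nd 30301 = n49555 := ndS (p := 15131) (l := 1) rfl N15131 D49555
theorem N30302 : nd 30302 = n49556 := ndS (p := 15131) (l := 5) rfl N15131 D49556
theorem N30303 : nd 30303 = n49557 := ndS (p := 15131) (l := 7) rfl N15131 D49557
theorem N30304 : nd 30304 = n49560 := ndS (p := 15132) (l := 4) rfl N15132 D49560
theorem N30305 : nd 30305 = n49561 := ndS (p := 15132) (l := 5) rfl N15132 D49561
theorem N30306 : nd 30306 = n49562 := ndS (p := 15132) (l := 6) rfl N15132 D49562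
theorem N30307 : nd 30307 = n49564 := ndS (p := 15133) (l := 3) rfl N15133 D49564
theorem N30308 : nd 30308 = n49565 := ndS (p := 15133) (l := 4) rfl N15133 D49565
theorem N30309 : nd 30309 = n49566 := ndS (p := 15133) (l := 5) rfl N15133 D49566
theorem N30310 : nd 30310 = n49568 := ndS (p := 15135) (l := 0) rfl N15135 D49568
theorem N30311 : nd 30311 = n49569 := ndS (p := 15135) (l := 1) rfl N15135 D49569
theorem N30312 : nd 30312 = n49570 := ndS (p := 15135) (l := 2) rfl N15135 D49570
theorem N30313 : nd 30313 = n49571 := ndS (p := 15135) (l := 6) rfl N15135 D49571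
theorem N30314 : nd 30314 = n49574 := ndS (p := 15136) (l := 5) rfl N15136 D49574
theorem N30315 : nd 30315 = n49575 := ndS (p := 15136) (l := 7) rfl N15136 D49575
theorem N30316 : nd 30316 = n49576 := ndS (p := 15137) (l := 0) rfl N15137 D49576
theorem N30317 : nd 30317 = n49577 := ndS (p := 15137) (l := 1) rfl N15137 D49577
theorem N30318 : nd 30318 = n49578 := ndS (p := 15137) (l := 2) rfl N15137 D49578
theorem N30319 : nd 30319 = n49579 := ndS (p := 15137) (l := 4) rfl N15137 D49579
theorem N30320 : nd 30320 = n49580 := ndS (p := 15137) (l := 6) rfl N15137 D49580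
theorem N30321 : nd 30321 = n49583 := ndS (p := 15138) (l := 5) rfl N15138 D49583
theorem N30322 : nd 30322 = n49584 := ndS (p := 15138) (l := 7) rfl N15138 D49584
theorem N30323 : nd 30323 = n49585 := ndS (p := 15139) (l := 0) rfl N15139 D49585
theorem N30324 : nd 30324 = n49586 := ndS (p := 15139) (l := 2) rfl N15139 D49586
theorem N30325 : nd 30325 = n49587 := ndS (p := 15139) (l := 3) rfl N15139 D49587
theorem N30326 : nd 30326 = n49588 := ndS (p := 15139) (l := 4) rfl N15139 D49588
theorem N30327 : nd 30327 = n49589 := ndS (p := 15139) (l := 5) rfl N15139 D49589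
theorem N30328 : nd 30328 = n49590 := ndS (p := 15139) (l := 6) rfl N15139 D49590
theorem N30329 : nd 30329 = n49591 := ndS (p := 15139) (l := 7) rfl N15139 D49591
theorem N30330 : nd 30330 = n49592 := ndS (p := 15140) (l := 3) rfl N15140 D49592
theorem N30331 : nd 30331 = n49593 := ndS (p := 15140) (l := 4) rfl N15140 D49593
theorem N30332 : nd 30332 = n49594 := ndS (p := 15140) (l := 5) rfl N15140 D49594
theorem N30333 : nd 30333 = n49595 := ndS (p := 15140) (l := 6) rfl N15140 D49595
theorem N30334 : nd 30334 = n49598 := ndS (p := 15141) (l := 5) rfl N15141 D49598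
theorem N30335 : nd 30335 = n49599 := ndS (p := 15142) (l := 0) rfl N15142 D49599
theorem N30336 : nd 30336 = n49600 := ndS (p := 15142) (l := 1) rfl N15142 D49600
theorem N30337 : nd 30337 = n49601 := ndS (p := 15142) (l := 4) rfl N15142 D49601
theorem N30338 : nd 30338 = n49602 := ndS (p := 15142) (l := 6) rfl N15142 D49602
theorem N30339 : nd 30339 = n49603 := ndS (p := 15143) (l := 6) rfl N15143 D49603
theorem N30340 : nd 30340 = n49604 := ndS (p := 15144) (l := 0) rfl N15144 D49604
theorem N30341 : nd 30341 = n49605 := ndS (p := 15144) (l := 1) rfl N15144 D49605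
theorem N30342 : nd 30342 = n49606 := ndS (p := 15144) (l := 7) rfl N15144 D49606
theorem N30343 : nd 30343 = n49607 := ndS (p := 15145) (l := 0) rfl N15145 D49607
theorem N30344 : nd 30344 = n49608 := ndS (p := 15145) (l := 1) rfl N15145 D49608
theorem N30345 : nd 30345 = n49609 := ndS (p := 15145) (l := 5) rfl N15145 D49609
theorem N30346 : nd 30346 = n49612 := ndS (p := 15146) (l := 4) rfl N15146 D49612
theorem N30347 : nd 30347 = n49613 := ndS (p := 15146) (l := 5) rfl N15146 D49613
theorem N30348 : nd 30348 = n49614 := ndS (p := 15146) (l := 6) rfl N15146 D49614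
theorem N30349 : nd 30349 = n49616 := ndS (p := 15147) (l := 3) rfl N15147 D49616
theorem N30350 : nd 30350 = n49617 := ndS (p := 15147) (l := 4) rfl N15147 D49617
theorem N30351 : nd 30351 = n49618 := ndS (p := 15147) (l := 5) rfl N15147 D49618
theorem N30352 : nd 30352 = n49619 := ndS (p := 15147) (l := 6) rfl N15147 D49619
theorem N30353 : nd 30353 = n49620 := ndS (p := 15148) (l := 3) rfl N15148 D49620
theorem N30354 : nd 30354 = n49621 := ndS (p := 15148) (l := 6) rfl N15148 D49621
theorem N30355 : nd 30355 = n49622 := ndS (p := 15149) (l := 0) rfl N15149 D49622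
theorem N30356 : nd 30356 = n49623 := ndS (p := 15149) (l := 1) rfl N15149 D49623
theorem N30357 : nd 30357 = n49624 := ndS (p := 15149) (l := 7) rfl N15149 D49624
theorem N30358 : nd 30358 = n49625 := ndS (p := 15150) (l := 6) rfl N15150 D49625
theorem N30359 : nd 30359 = n49626 := ndS (p := 15151) (l := 3) rfl N15151 D49626
theorem N30360 : nd 30360 = n49627 := ndS (p := 15151) (l := 6) rfl N15151 D49627
theorem N30361 : nd 30361 = n49628 := ndS (p := 15152) (l := 1) rfl N15152 D49628
theorem N30362 : nd 30362 = n49629 := ndS (p := 15152) (l := 7) rfl N15152 D49629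
theorem N30363 : nd 30363 = n49630 := ndS (p := 15153) (l := 0) rfl N15153 D49630
theorem N30364 : nd 30364 = n49631 := ndS (p := 15153) (l := 1) rfl N15153 D49631
theorem N30365 : nd 30365 = n49632 := ndS (p := 15153) (l := 2) rfl N15153 D49632
theorem N30366 : nd 30366 = n49633 := ndS (p := 15153) (l := 6) rfl N15153 D49633
theorem N30367 : nd 30367 = n49636 := ndS (p := 15154) (l := 5) rfl N15154 D49636
theorem N30368 : nd 30368 = n49637 := ndS (p := 15154) (l := 7) rfl N15154 D49637
theorem N30369 : nd 30369 = n49639 := ndS (p := 15155) (l := 3) rfl N15155 D49639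
theorem N30370 : nd 30370 = n49640 := ndS (p := 15155) (l := 4) rfl N15155 D49640
theorem N30371 : nd 30371 = n49642 := ndS (p := 15156) (l := 3) rfl N15156 D49642
theorem N30372 : nd 30372 = n49643 := ndS (p := 15156) (l := 4) rfl N15156 D49643
theorem N30373 : nd 30373 = n49644 := ndS (p := 15156) (l := 6) rfl N15156 D49644
theorem N30374 : nd 30374 = n49645 := ndS (p := 15157) (l := 0) rfl N15157 D49645
theorem N30375 : nd 30375 = n49646 := ndS (p := 15157) (l := 1) rfl N15157 D49646
theorem N30376 : nd 30376 = n49647 := ndS (p := 15157) (l := 4) rfl N15157 D49647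
theorem N30377 : nd 30377 = n49649 := ndS (p := 15159) (l := 5) rfl N15159 D49649
theorem N30378 : nd 30378 = n49650 := ndS (p := 15161) (l := 5) rfl N15161 D49650
theorem N30379 : nd 30379 = n49651 := ndS (p := 15163) (l := 4) rfl N15163 D49651
theorem N30380 : nd 30380 = n49652 := ndS (p := 15163) (l := 6) rfl N15163 D49652
theorem N30381 : nd 30381 = n49653 := ndS (p := 15164) (l := 3) rfl N15164 D49653
theorem N30382 : nd 30382 = n49654 := ndS (p := 15164) (l := 6) rfl N15164 D49654
theorem N30383 : nd 30383 = n49655 := ndS (p := 15165) (l := 0) rfl N15165 D49655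
theorem N30384 : nd 30384 = n49656 := ndS (p := 15165) (l := 7) rfl N15165 D49656
theorem N30385 : nd 30385 = n49657 := ndS (p := 15167) (l := 0) rfl N15167 D49657
theorem N30386 : nd 30386 = n49658 := ndS (p := 15167) (l := 1) rfl N15167 D49658
theorem N30387 : nd 30387 = n49659 := ndS (p := 15167) (l := 2) rfl N15167 D49659
theorem N30388 : nd 30388 = n49660 := ndS (p := 15167) (l := 6) rfl N15167 D49660
theorem N30389 : nd 30389 = n49661 := ndS (p := 15168) (l := 5) rfl N15168 D49661
theorem N30390 : nd 30390 = n49662 := ndS (p := 15168) (l := 7) rfl N15168 D49662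
theorem N30391 : nd 30391 = n49663 := ndS (p := 15169) (l := 3) rfl N15169 D49663
theorem N30392 : nd 30392 = n49664 := ndS (p := 15169) (l := 4) rfl N15169 D49664
theorem N30393 : nd 30393 = n49665 := ndS (p := 15169) (l := 5) rfl N15169 D49665
theorem N30394 : nd 30394 = n49666 := ndS (p := 15169) (l := 6) rfl N15169 D49666
theorem N30395 : nd 30395 = n49667 := ndS (p := 15170) (l := 3) rfl N15170 D49667
theorem N30396 : nd 30396 = n49668 := ndS (p := 15170) (l := 4) rfl N15170 D49668
theorem N30397 : nd 30397 = n49669 := ndS (p := 15171) (l := 0) rfl N15171 D49669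
theorem N30398 : nd 30398 = n49670 := ndS (p := 15171) (l := 1) rfl N15171 D49670
theorem N30399 : nd 30399 = n49671 := ndS (p := 15171) (l := 4) rfl N15171 D49671
theorem N30400 : nd 30400 = n49672 := ndS (p := 15171) (l := 7) rfl N15171 D49672
theorem N30401 : nd 30401 = n49673 := ndS (p := 15174) (l := 3) rfl N15174 D49673
theorem N30402 : nd 30402 = n49674 := ndS (p := 15174) (l := 5) rfl N15174 D49674
theorem N30403 : nd 30403 = n49675 := ndS (p := 15175) (l := 0) rfl N15175 D49675
theorem N30404 : nd 30404 = n49676 := ndS (p := 15175) (l := 1) rfl N15175 D49676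
theorem N30405 : nd 30405 = n49677 := ndS (p := 15175) (l := 7) rfl N15175 D49677
theorem N30406 : nd 30406 = n49678 := ndS (p := 15176) (l := 1) rfl N15176 D49678
theorem N30407 : nd 30407 = n49679 := ndS (p := 15176) (l := 5) rfl N15176 D49679
theorem N30408 : nd 30408 = n49680 := ndS (p := 15177) (l := 4) rfl N15177 D49680
theorem N30409 : nd 30409 = n49681 := ndS (p := 15177) (l := 6) rfl N15177 D49681
theorem N30410 : nd 30410 = n49682 := ndS (p := 15178) (l := 1) rfl N15178 D49682
theorem N30411 : nd 30411 = n49683 := ndS (p := 15180) (l := 0) rfl N15180 D49683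
theorem N30412 : nd 30412 = n49684 := ndS (p := 15180) (l := 2) rfl N15180 D49684
theorem N30413 : nd 30413 = n49685 := ndS (p := 15180) (l := 5) rfl N15180 D49685
theorem N30414 : nd 30414 = n49687 := ndS (p := 15181) (l := 5) rfl N15181 D49687
theorem N30415 : nd 30415 = n49689 := ndS (p := 15182) (l := 5) rfl N15182 D49689
theorem N30416 : nd 30416 = n49690 := ndS (p := 15183) (l := 1) rfl N15183 D49690
theorem N30417 : nd 30417 = n49691 := ndS (p := 15183) (l := 4) rfl N15183 D49691
theorem N30418 : nd 30418 = n49692 := ndS (p := 15183) (l := 6) rfl N15183 D49692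
theorem N30419 : nd 30419 = n49693 := ndS (p := 15183) (l := 7) rfl N15183 D49693
theorem N30420 : nd 30420 = n49694 := ndS (p := 15185) (l := 3) rfl N15185 D49694
theorem N30421 : nd 30421 = n49695 := ndS (p := 15185) (l := 6) rfl N15185 D49695
theorem N30422 : nd 30422 = n49696 := ndS (p := 15186) (l := 0) rfl N15186 D49696
theorem N30423 : nd 30423 = n49697 := ndS (p := 15186) (l := 1) rfl N15186 D49697
theorem N30424 : nd 30424 = n49698 := ndS (p := 15186) (l := 7) rfl N15186 D49698
theorem N30425 : nd 30425 = n49699 := ndS (p := 15187) (l := 6) rfl N15187 D49699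
theorem N30426 : nd 30426 = n49700 := ndS (p := 15190) (l := 0) rfl N15190 D49700
theorem N30427 : nd 30427 = n49701 := ndS (p := 15190) (l := 1) rfl N15190 D49701
theorem N30428 : nd 30428 = n49702 := ndS (p := 15190) (l := 3) rfl N15190 D49702
theorem N30429 : nd 30429 = n49703 := ndS (p := 15190) (l := 5) rfl N15190 D49703
theorem N30430 : nd 30430 = n49704 := ndS (p := 15191) (l := 3) rfl N15191 D49704
theorem N30431 : nd 30431 = n49705 := ndS (p := 15191) (l := 5) rfl N15191 D49705
theorem N30432 : nd 30432 = n49706 := ndS (p := 15192) (l := 4) rfl N15192 D49706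
theorem N30433 : nd 30433 = n49707 := ndS (p := 15193) (l := 4) rfl N15193 D49707
theorem N30434 : nd 30434 = n49708 := ndS (p := 15193) (l := 6) rfl N15193 D49708
theorem N30435 : nd 30435 = n49709 := ndS (p := 15194) (l := 4) rfl N15194 D49709
theorem N30436 : nd 30436 = n49710 := ndS (p := 15194) (l := 6) rfl N15194 D49710
theorem N30437 : nd 30437 = n49711 := ndS (p := 15195) (l := 1) rfl N15195 D49711
theorem N30438 : nd 30438 = n49712 := ndS (p := 15195) (l := 3) rfl N15195 D49712
theorem N30439 : nd 30439 = n49713 := ndS (p := 15195) (l := 5) rfl N15195 D49713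
theorem N30440 : nd 30440 = n49714 := ndS (p := 15195) (l := 7) rfl N15195 D49714
theorem N30441 : nd 30441 = n49715 := ndS (p := 15196) (l := 6) rfl N15196 D49715
theorem N30442 : nd 30442 = n49716 := ndS (p := 15197) (l := 1) rfl N15197 D49716
theorem N30443 : nd 30443 = n49717 := ndS (p := 15197) (l := 4) rfl N15197 D49717
theorem N30444 : nd 30444 = n49718 := ndS (p := 15197) (l := 6) rfl N15197 D49718
theorem N30445 : nd 30445 = n49719 := ndS (p := 15198) (l := 1) rfl N15198 D49719
theorem N30446 : nd 30446 = n49720 := ndS (p := 15199) (l := 4) rfl N15199 D49720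
theorem N30447 : nd 30447 = n49721 := ndS (p := 15199) (l := 6) rfl N15199 D49721
theorem N30448 : nd 30448 = n49722 := ndS (p := 15200) (l := 1) rfl N15200 D49722
theorem N30449 : nd 30449 = n49723 := ndS (p := 15201) (l := 4) rfl N15201 D49723
theorem N30450 : nd 30450 = n49724 := ndS (p := 15201) (l := 6) rfl N15201 D49724
theorem N30451 : nd 30451 = n49725 := ndS (p := 15202) (l := 0) rfl N15202 D49725
theorem N30452 : nd 30452 = n49726 := ndS (p := 15202) (l := 1) rfl N15202 D49726
theorem N30453 : nd 30453 = n49727 := ndS (p := 15202) (l := 3) rfl N15202 D49727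
theorem N30454 : nd 30454 = n49728 := ndS (p := 15202) (l := 5) rfl N15202 D49728
theorem N30455 : nd 30455 = n49729 := ndS (p := 15202) (l := 6) rfl N15202 D49729
theorem N30456 : nd 30456 = n49730 := ndS (p := 15203) (l := 0) rfl N15203 D49730
theorem N30457 : nd 30457 = n49732 := ndS (p := 15203) (l := 7) rfl N15203 D49732
theorem N30458 : nd 30458 = n49733 := ndS (p := 15204) (l := 0) rfl N15204 D49733
theorem N30459 : nd 30459 = n49734 := ndS (p := 15204) (l := 4) rfl N15204 D49734
theorem N30460 : nd 30460 = n49735 := ndS (p := 15204) (l := 6) rfl N15204 D49735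
theorem N30461 : nd 30461 = n49736 := ndS (p := 15205) (l := 3) rfl N15205 D49736
theorem N30462 : nd 30462 = n49737 := ndS (p := 15205) (l := 5) rfl N15205 D49737
theorem N30463 : nd 30463 = n49738 := ndS (p := 15205) (l := 6) rfl N15205 D49738
theorem N30464 : nd 30464 = n49739 := ndS (p := 15206) (l := 1) rfl N15206 D49739
theorem N30465 : nd 30465 = n49740 := ndS (p := 15206) (l := 7) rfl N15206 D49740
theorem N30466 : nd 30466 = n49741 := ndS (p := 15207) (l := 6) rfl N15207 D49741
theorem N30467 : nd 30467 = n49742 := ndS (p := 15208) (l := 0) rfl N15208 D49742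
theorem N30468 : nd 30468 = n49743 := ndS (p := 15208) (l := 3) rfl N15208 D49743
theorem N30469 : nd 30469 = n49744 := ndS (p := 15208) (l := 5) rfl N15208 D49744
theorem N30470 : nd 30470 = n49745 := ndS (p := 15208) (l := 6) rfl N15208 D49745
theorem N30471 : nd 30471 = n49746 := ndS (p := 15209) (l := 0) rfl N15209 D49746
theorem N30472 : nd 30472 = n49747 := ndS (p := 15209) (l := 1) rfl N15209 D49747
theorem N30473 : nd 30473 = n49748 := ndS (p := 15209) (l := 7) rfl N15209 D49748
theorem N30474 : nd 30474 = n49749 := ndS (p := 15210) (l := 6) rfl N15210 D49749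
theorem N30475 : nd 30475 = n49750 := ndS (p := 15211) (l := 3) rfl N15211 D49750
theorem N30476 : nd 30476 = n49751 := ndS (p := 15211) (l := 5) rfl N15211 D49751
theorem N30477 : nd 30477 = n49752 := ndS (p := 15211) (l := 6) rfl N15211 D49752
theorem N30478 : nd 30478 = n49753 := ndS (p := 15212) (l := 0) rfl N15212 D49753
theorem N30479 : nd 30479 = n49754 := ndS (p := 15212) (l := 1) rfl N15212 D49754
theorem N30480 : nd 30480 = n49755 := ndS (p := 15212) (l := 7) rfl N15212 D49755
theorem N30481 : nd 30481 = n49756 := ndS (p := 15213) (l := 3) rfl N15213 D49756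
theorem N30482 : nd 30482 = n49757 := ndS (p := 15213) (l := 5) rfl N15213 D49757
theorem N30483 : nd 30483 = n49758 := ndS (p := 15213) (l := 6) rfl N15213 D49758
theorem N30484 : nd 30484 = n49759 := ndS (p := 15214) (l := 3) rfl N15214 D49759
theorem N30485 : nd 30485 = n49760 := ndS (p := 15214) (l := 5) rfl N15214 D49760
theorem N30486 : nd 30486 = n49761 := ndS (p := 15214) (l := 6) rfl N15214 D49761
theorem N30487 : nd 30487 = n49767 := ndS (p := 15215) (l := 0) rfl N15215 D49767
theorem N30488 : nd 30488 = n49768 := ndS (p := 15215) (l := 1) rfl N15215 D49768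
theorem N30489 : nd 30489 = n49769 := ndS (p := 15215) (l := 4) rfl N15215 D49769
theorem N30490 : nd 30490 = n49770 := ndS (p := 15215) (l := 6) rfl N15215 D49770
theorem N30491 : nd 30491 = n49771 := ndS (p := 15215) (l := 7) rfl N15215 D49771
theorem N30492 : nd 30492 = n49772 := ndS (p := 15216) (l := 6) rfl N15216 D49772
theorem N30493 : nd 30493 = n49773 := ndS (p := 15217) (l := 0) rfl N15217 D49773
theorem N30494 : nd 30494 = n49774 := ndS (p := 15217) (l := 1) rfl N15217 D49774
theorem N30495 : nd 30495 = n49775 := ndS (p := 15218) (l := 0) rfl N15218 D49775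
theorem N30496 : nd 30496 = n49776 := ndS (p := 15218) (l := 1) rfl N15218 D49776
theorem N30497 : nd 30497 = n49777 := ndS (p := 15218) (l := 7) rfl N15218 D49777
theorem N30498 : nd 30498 = n49779 := ndS (p := 15219) (l := 3) rfl N15219 D49779
theorem N30499 : nd 30499 = n49780 := ndS (p := 15219) (l := 5) rfl N15219 D49780
theorem N30500 : nd 30500 = n49783 := ndS (p := 15220) (l := 6) rfl N15220 D49783
theorem N30501 : nd 30501 = n49785 := ndS (p := 15222) (l := 6) rfl N15222 D49785
theorem N30502 : nd 30502 = n49807 := ndS (p := 15223) (l := 1) rfl N15223 D49807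
theorem N30503 : nd 30503 = n49808 := ndS (p := 15223) (l := 7) rfl N15223 D49808
theorem N30504 : nd 30504 = n49809 := ndS (p := 15224) (l := 5) rfl N15224 D49809
theorem N30505 : nd 30505 = n49810 := ndS (p := 15225) (l := 0) rfl N15225 D49810
theorem N30506 : nd 30506 = n49813 := ndS (p := 15227) (l := 0) rfl N15227 D49813
theorem N30507 : nd 30507 = n49814 := ndS (p := 15227) (l := 1) rfl N15227 D49814
theorem N30508 : nd 30508 = n49815 := ndS (p := 15227) (l := 7) rfl N15227 D49815
theorem N30509 : nd 30509 = n49816 := ndS (p := 15229) (l := 6) rfl N15229 D49816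
theorem N30510 : nd 30510 = n49817 := ndS (p := 15231) (l := 4) rfl N15231 D49817
theorem N30511 : nd 30511 = n49818 := ndS (p := 15231) (l := 6) rfl N15231 D49818
theorem N30512 : nd 30512 = n49819 := ndS (p := 15232) (l := 0) rfl N15232 D49819
theorem N30513 : nd 30513 = n49820 := ndS (p := 15232) (l := 1) rfl N15232 D49820
theorem N30514 : nd 30514 = n49822 := ndS (p := 15233) (l := 4) rfl N15233 D49822
theorem N30515 : nd 30515 = n49823 := ndS (p := 15234) (l := 0) rfl N15234 D49823
theorem N30516 : nd 30516 = n49824 := ndS (p := 15234) (l := 4) rfl N15234 D49824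
theorem N30517 : nd 30517 = n49825 := ndS (p := 15234) (l := 6) rfl N15234 D49825
theorem N30518 : nd 30518 = n49827 := ndS (p := 15236) (l := 1) rfl N15236 D49827
theorem N30519 : nd 30519 = n49829 := ndS (p := 15237) (l := 5) rfl N15237 D49829
theorem N30520 : nd 30520 = n49830 := ndS (p := 15238) (l := 3) rfl N15238 D49830
theorem N30521 : nd 30521 = n49831 := ndS (p := 15238) (l := 5) rfl N15238 D49831
theorem N30522 : nd 30522 = n49832 := ndS (p := 15240) (l := 0) rfl N15240 D49832
theorem N30523 : nd 30523 = n49833 := ndS (p := 15240) (l := 1) rfl N15240 D49833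
theorem N30524 : nd 30524 = n49834 := ndS (p := 15240) (l := 3) rfl N15240 D49834
theorem N30525 : nd 30525 = n49835 := ndS (p := 15240) (l := 5) rfl N15240 D49835
theorem N30526 : nd 30526 = n49836 := ndS (p := 15240) (l := 6) rfl N15240 D49836
theorem N30527 : nd 30527 = n49837 := ndS (p := 15240) (l := 7) rfl N15240 D49837
theorem N30528 : nd 30528 = n49839 := ndS (p := 15241) (l := 4) rfl N15241 D49839
theorem N30529 : nd 30529 = n49841 := ndS (p := 15241) (l := 7) rfl N15241 D49841
theorem N30530 : nd 30530 = n49842 := ndS (p := 15244) (l := 2) rfl N15244 D49842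
theorem N30531 : nd 30531 = n49843 := ndS (p := 15244) (l := 5) rfl N15244 D49843
theorem N30532 : nd 30532 = n49844 := ndS (p := 15244) (l := 6) rfl N15244 D49844
theorem N30533 : nd 30533 = n49845 := ndS (p := 15245) (l := 5) rfl N15245 D49845
theorem N30534 : nd 30534 = n49846 := ndS (p := 15245) (l := 6) rfl N15245 D49846
theorem N30535 : nd 30535 = n49847 := ndS (p := 15246) (l := 4) rfl N15246 D49847
theorem N30536 : nd 30536 = n49848 := ndS (p := 15246) (l := 6) rfl N15246 D49848
theorem N30537 : nd 30537 = n49849 := ndS (p := 15247) (l := 5) rfl N15247 D49849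
theorem N30538 : nd 30538 = n49850 := ndS (p := 15248) (l := 0) rfl N15248 D49850
theorem N30539 : nd 30539 = n49851 := ndS (p := 15248) (l := 1) rfl N15248 D49851
theorem N30540 : nd 30540 = n49852 := ndS (p := 15248) (l := 4) rfl N15248 D49852
theorem N30541 : nd 30541 = n49853 := ndS (p := 15248) (l := 6) rfl N15248 D49853
theorem N30542 : nd 30542 = n49854 := ndS (p := 15249) (l := 4) rfl N15249 D49854
theorem N30543 : nd 30543 = n49856 := ndS (p := 15250) (l := 3) rfl N15250 D49856
theorem N30544 : nd 30544 = n49857 := ndS (p := 15250) (l := 4) rfl N15250 D49857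
theorem N30545 : nd 30545 = n49858 := ndS (p := 15250) (l := 6) rfl N15250 D49858
theorem N30546 : nd 30546 = n49859 := ndS (p := 15251) (l := 1) rfl N15251 D49859
theorem N30547 : nd 30547 = n49860 := ndS (p := 15251) (l := 3) rfl N15251 D49860
theorem N30548 : nd 30548 = n49861 := ndS (p := 15251) (l := 5) rfl N15251 D49861
theorem N30549 : nd 30549 = n49862 := ndS (p := 15251) (l := 6) rfl N15251 D49862
theorem N30550 : nd 30550 = n49863 := ndS (p := 15251) (l := 7) rfl N15251 D49863
theorem N30551 : nd 30551 = n49864 := ndS (p := 15252) (l := 0) rfl N15252 D49864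
theorem N30552 : nd 30552 = n49865 := ndS (p := 15252) (l := 1) rfl N15252 D49865
theorem N30553 : nd 30553 = n49866 := ndS (p := 15252) (l := 7) rfl N15252 D49866
theorem N30554 : nd 30554 = n49867 := ndS (p := 15253) (l := 6) rfl N15253 D49867
theorem N30555 : nd 30555 = n49869 := ndS (p := 15254) (l := 1) rfl N15254 D49869
theorem N30556 : nd 30556 = n49873 := ndS (p := 15255) (l := 5) rfl N15255 D49873
theorem N30557 : nd 30557 = n49875 := ndS (p := 15256) (l := 3) rfl N15256 D49875
theorem N30558 : nd 30558 = n49876 := ndS (p := 15256) (l := 6) rfl N15256 D49876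
theorem N30559 : nd 30559 = n49879 := ndS (p := 15258) (l := 6) rfl N15258 D49879
theorem N30560 : nd 30560 = n49880 := ndS (p := 15259) (l := 0) rfl N15259 D49880
theorem N30561 : nd 30561 = n49881 := ndS (p := 15259) (l := 1) rfl N15259 D49881
theorem N30562 : nd 30562 = n49882 := ndS (p := 15262) (l := 0) rfl N15262 D49882
theorem N30563 : nd 30563 = n49883 := ndS (p := 15262) (l := 3) rfl N15262 D49883
theorem N30564 : nd 30564 = n49884 := ndS (p := 15262) (l := 5) rfl N15262 D49884
theorem N30565 : nd 30565 = n49885 := ndS (p := 15263) (l := 3) rfl N15263 D49885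
theorem N30566 : nd 30566 = n49886 := ndS (p := 15263) (l := 5) rfl N15263 D49886
theorem N30567 : nd 30567 = n49887 := ndS (p := 15264) (l := 1) rfl N15264 D49887
theorem N30568 : nd 30568 = n49888 := ndS (p := 15264) (l := 4) rfl N15264 D49888
theorem N30569 : nd 30569 = n49889 := ndS (p := 15265) (l := 4) rfl N15265 D49889
theorem N30570 : nd 30570 = n49890 := ndS (p := 15266) (l := 4) rfl N15266 D49890
theorem N30571 : nd 30571 = n49891 := ndS (p := 15266) (l := 6) rfl N15266 D49891
theorem N30572 : nd 30572 = n49892 := ndS (p := 15267) (l := 3) rfl N15267 D49892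
theorem N30573 : nd 30573 = n49893 := ndS (p := 15267) (l := 5) rfl N15267 D49893
theorem N30574 : nd 30574 = n49894 := ndS (p := 15267) (l := 7) rfl N15267 D49894
theorem N30575 : nd 30575 = n49895 := ndS (p := 15268) (l := 6) rfl N15268 D49895
theorem N30576 : nd 30576 = n49896 := ndS (p := 15269) (l := 1) rfl N15269 D49896
theorem N30577 : nd 30577 = n49897 := ndS (p := 15269) (l := 4) rfl N15269 D49897
theorem N30578 : nd 30578 = n49898 := ndS (p := 15269) (l := 6) rfl N15269 D49898
theorem N30579 : nd 30579 = n49899 := ndS (p := 15271) (l := 5) rfl N15271 D49899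
theorem N30580 : nd 30580 = n49900 := ndS (p := 15272) (l := 0) rfl N15272 D49900
theorem N30581 : nd 30581 = n49901 := ndS (p := 15272) (l := 4) rfl N15272 D49901
theorem N30582 : nd 30582 = n49902 := ndS (p := 15272) (l := 6) rfl N15272 D49902
theorem N30583 : nd 30583 = n49903 := ndS (p := 15274) (l := 4) rfl N15274 D49903
theorem N30584 : nd 30584 = n49904 := ndS (p := 15274) (l := 6) rfl N15274 D49904
theorem N30585 : nd 30585 = n49905 := ndS (p := 15275) (l := 4) rfl N15275 D49905
theorem N30586 : nd 30586 = n49906 := ndS (p := 15276) (l := 0) rfl N15276 D49906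
theorem N30587 : nd 30587 = n49907 := ndS (p := 15276) (l := 1) rfl N15276 D49907
theorem N30588 : nd 30588 = n49908 := ndS (p := 15276) (l := 3) rfl N15276 D49908
theorem N30589 : nd 30589 = n49909 := ndS (p := 15276) (l := 5) rfl N15276 D49909
theorem N30590 : nd 30590 = n49910 := ndS (p := 15276) (l := 6) rfl N15276 D49910
theorem N30591 : nd 30591 = n49911 := ndS (p := 15277) (l := 0) rfl N15277 D49911
theorem N30592 : nd 30592 = n49912 := ndS (p := 15277) (l := 1) rfl N15277 D49912
theorem N30593 : nd 30593 = n49913 := ndS (p := 15277) (l := 7) rfl N15277 D49913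
theorem N30594 : nd 30594 = n49914 := ndS (p := 15278) (l := 0) rfl N15278 D49914
theorem N30595 : nd 30595 = n49915 := ndS (p := 15278) (l := 4) rfl N15278 D49915
theorem N30596 : nd 30596 = n49916 := ndS (p := 15278) (l := 6) rfl N15278 D49916
theorem N30597 : nd 30597 = n49917 := ndS (p := 15280) (l := 4) rfl N15280 D49917
theorem N30598 : nd 30598 = n49918 := ndS (p := 15280) (l := 6) rfl N15280 D49918
theorem N30599 : nd 30599 = n49919 := ndS (p := 15282) (l := 3) rfl N15282 D49919
theorem N30600 : nd 30600 = n49920 := ndS (p := 15282) (l := 5) rfl N15282 D49920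
theorem N30601 : nd 30601 = n49921 := ndS (p := 15282) (l := 6) rfl N15282 D49921
theorem N30602 : nd 30602 = n49923 := ndS (p := 15284) (l := 6) rfl N15284 D49923
theorem N30603 : nd 30603 = n49924 := ndS (p := 15285) (l := 0) rfl N15285 D49924
theorem N30604 : nd 30604 = n49925 := ndS (p := 15285) (l := 3) rfl N15285 D49925
theorem N30605 : nd 30605 = n49926 := ndS (p := 15285) (l := 5) rfl N15285 D49926
theorem N30606 : nd 30606 = n49927 := ndS (p := 15285) (l := 6) rfl N15285 D49927
theorem N30607 : nd 30607 = n49928 := ndS (p := 15286) (l := 0) rfl N15286 D49928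
theorem N30608 : nd 30608 = n49929 := ndS (p := 15286) (l := 1) rfl N15286 D49929
theorem N30609 : nd 30609 = n49930 := ndS (p := 15286) (l := 7) rfl N15286 D49930
theorem N30610 : nd 30610 = n49931 := ndS (p := 15287) (l := 6) rfl N15287 D49931
theorem N30611 : nd 30611 = n49932 := ndS (p := 15288) (l := 3) rfl N15288 D49932
theorem N30612 : nd 30612 = n49933 := ndS (p := 15288) (l := 5) rfl N15288 D49933
theorem N30613 : nd 30613 = n49934 := ndS (p := 15288) (l := 6) rfl N15288 D49934
theorem N30614 : nd 30614 = n49936 := ndS (p := 15289) (l := 1) rfl N15289 D49936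
theorem N30615 : nd 30615 = n49937 := ndS (p := 15289) (l := 7) rfl N15289 D49937
theorem N30616 : nd 30616 = n49938 := ndS (p := 15290) (l := 3) rfl N15290 D49938
theorem N30617 : nd 30617 = n49939 := ndS (p := 15290) (l := 5) rfl N15290 D49939
theorem N30618 : nd 30618 = n49940 := ndS (p := 15290) (l := 6) rfl N15290 D49940
theorem N30619 : nd 30619 = n49941 := ndS (p := 15291) (l := 3) rfl N15291 D49941
theorem N30620 : nd 30620 = n49943 := ndS (p := 15291) (l := 6) rfl N15291 D49943
theorem N30621 : nd 30621 = n49944 := ndS (p := 15292) (l := 0) rfl N15292 D49944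
theorem N30622 : nd 30622 = n49945 := ndS (p := 15292) (l := 1) rfl N15292 D49945
theorem N30623 : nd 30623 = n49946 := ndS (p := 15292) (l := 2) rfl N15292 D49946
theorem N30624 : nd 30624 = n49947 := ndS (p := 15292) (l := 5) rfl N15292 D49947
theorem N30625 : nd 30625 = n49948 := ndS (p := 15292) (l := 7) rfl N15292 D49948
theorem N30626 : nd 30626 = n49949 := ndS (p := 15293) (l := 0) rfl N15293 D49949
theorem N30627 : nd 30627 = n49950 := ndS (p := 15293) (l := 1) rfl N15293 D49950
theorem N30628 : nd 30628 = n49951 := ndS (p := 15293) (l := 4) rfl N15293 D49951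
theorem N30629 : nd 30629 = n49952 := ndS (p := 15293) (l := 6) rfl N15293 D49952
theorem N30630 : nd 30630 = n49953 := ndS (p := 15293) (l := 7) rfl N15293 D49953
theorem N30631 : nd 30631 = n49954 := ndS (p := 15294) (l := 6) rfl N15294 D49954
theorem N30632 : nd 30632 = n49955 := ndS (p := 15295) (l := 0) rfl N15295 D49955
theorem N30633 : nd 30633 = n49956 := ndS (p := 15295) (l := 1) rfl N15295 D49956
theorem N30634 : nd 30634 = n49957 := ndS (p := 15296) (l := 3) rfl N15296 D49957
theorem N30635 : nd 30635 = n49958 := ndS (p := 15296) (l := 5) rfl N15296 D49958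
theorem N30636 : nd 30636 = n49959 := ndS (p := 15296) (l := 6) rfl N15296 D49959
theorem N30637 : nd 30637 = n49960 := ndS (p := 15297) (l := 1) rfl N15297 D49960
theorem N30638 : nd 30638 = n49961 := ndS (p := 15297) (l := 7) rfl N15297 D49961
theorem N30639 : nd 30639 = n49969 := ndS (p := 15302) (l := 0) rfl N15302 D49969
theorem N30640 : nd 30640 = n49970 := ndS (p := 15302) (l := 1) rfl N15302 D49970
theorem N30641 : nd 30641 = n49971 := ndS (p := 15302) (l := 3) rfl N15302 D49971
theorem N30642 : nd 30642 = n49972 := ndS (p := 15302) (l := 5) rfl N15302 D49972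
theorem N30643 : nd 30643 = n49973 := ndS (p := 15302) (l := 6) rfl N15302 D49973
theorem N30644 : nd 30644 = n49974 := ndS (p := 15304) (l := 0) rfl N15304 D49974
theorem N30645 : nd 30645 = n49975 := ndS (p := 15304) (l := 1) rfl N15304 D49975
theorem N30646 : nd 30646 = n49976 := ndS (p := 15304) (l := 2) rfl N15304 D49976
theorem N30647 : nd 30647 = n49977 := ndS (p := 15304) (l := 6) rfl N15304 D49977
theorem N30648 : nd 30648 = n49979 := ndS (p := 15306) (l := 5) rfl N15306 D49979
theorem N30649 : nd 30649 = n49980 := ndS (p := 15306) (l := 6) rfl N15306 D49980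
theorem N30650 : nd 30650 = n49981 := ndS (p := 15307) (l := 0) rfl N15307 D49981
theorem N30651 : nd 30651 = n49982 := ndS (p := 15307) (l := 1) rfl N15307 D49982
theorem N30652 : nd 30652 = n49983 := ndS (p := 15307) (l := 7) rfl N15307 D49983
theorem N30653 : nd 30653 = n49984 := ndS (p := 15308) (l := 3) rfl N15308 D49984
theorem N30654 : nd 30654 = n49985 := ndS (p := 15308) (l := 5) rfl N15308 D49985
theorem N30655 : nd 30655 = n49987 := ndS (p := 15311) (l := 0) rfl N15311 D49987
theorem N30656 : nd 30656 = n49988 := ndS (p := 15311) (l := 2) rfl N15311 D49988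
theorem N30657 : nd 30657 = n49989 := ndS (p := 15311) (l := 3) rfl N15311 D49989
theorem N30658 : nd 30658 = n49990 := ndS (p := 15311) (l := 4) rfl N15311 D49990
theorem N30659 : nd 30659 = n49992 := ndS (p := 15311) (l := 6) rfl N15311 D49992
theorem N30660 : nd 30660 = n49993 := ndS (p := 15311) (l := 7) rfl N15311 D49993
theorem N30661 : nd 30661 = n49994 := ndS (p := 15312) (l := 3) rfl N15312 D49994
theorem N30662 : nd 30662 = n49995 := ndS (p := 15312) (l := 4) rfl N15312 D49995
theorem N30663 : nd 30663 = n50000 := ndS (p := 15313) (l := 5) rfl N15313 D50000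
theorem N30664 : nd 30664 = n50001 := ndS (p := 15314) (l := 0) rfl N15314 D50001
theorem N30665 : nd 30665 = n50002 := ndS (p := 15314) (l := 1) rfl N15314 D50002
theorem N30666 : nd 30666 = n50003 := ndS (p := 15314) (l := 4) rfl N15314 D50003
theorem N30667 : nd 30667 = n50004 := ndS (p := 15314) (l := 6) rfl N15314 D50004
theorem N30668 : nd 30668 = n50005 := ndS (p := 15315) (l := 6) rfl N15315 D50005
theorem N30669 : nd 30669 = n50006 := ndS (p := 15316) (l := 0) rfl N15316 D50006
theorem N30670 : nd 30670 = n50007 := ndS (p := 15316) (l := 1) rfl N15316 D50007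
theorem N30671 : nd 30671 = n50008 := ndS (p := 15316) (l := 7) rfl N15316 D50008
theorem N30672 : nd 30672 = n50009 := ndS (p := 15317) (l := 5) rfl N15317 D50009
theorem N30673 : nd 30673 = n50010 := ndS (p := 15318) (l := 4) rfl N15318 D50010
theorem N30674 : nd 30674 = n50011 := ndS (p := 15320) (l := 5) rfl N15320 D50011
theorem N30675 : nd 30675 = n50013 := ndS (p := 15322) (l := 4) rfl N15322 D50013
theorem N30676 : nd 30676 = n50015 := ndS (p := 15323) (l := 3) rfl N15323 D50015
theorem N30677 : nd 30677 = n50020 := ndS (p := 15326) (l := 6) rfl N15326 D50020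
theorem N30678 : nd 30678 = n50023 := ndS (p := 15329) (l := 1) rfl N15329 D50023
theorem N30679 : nd 30679 = n50025 := ndS (p := 15330) (l := 3) rfl N15330 D50025
theorem N30680 : nd 30680 = n50036 := ndS (p := 15334) (l := 6) rfl N15334 D50036
theorem N30681 : nd 30681 = n50037 := ndS (p := 15335) (l := 4) rfl N15335 D50037
theorem N30682 : nd 30682 = n50038 := ndS (p := 15335) (l := 6) rfl N15335 D50038
theorem N30683 : nd 30683 = n50039 := ndS (p := 15336) (l := 0) rfl N15336 D50039
theorem N30684 : nd 30684 = n50040 := ndS (p := 15336) (l := 1) rfl N15336 D50040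
theorem N30685 : nd 30685 = n50046 := ndS (p := 15338) (l := 5) rfl N15338 D50046
theorem N30686 : nd 30686 = n50050 := ndS (p := 15339) (l := 6) rfl N15339 D50050
theorem N30687 : nd 30687 = n50051 := ndS (p := 15340) (l := 3) rfl N15340 D50051
theorem N30688 : nd 30688 = n50054 := ndS (p := 15341) (l := 6) rfl N15341 D50054
theorem N30689 : nd 30689 = n50055 := ndS (p := 15342) (l := 0) rfl N15342 D50055
theorem N30690 : nd 30690 = n50056 := ndS (p := 15342) (l := 1) rfl N15342 D50056
theorem N30691 : nd 30691 = n50057 := ndS (p := 15344) (l := 4) rfl N15344 D50057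
theorem N30692 : nd 30692 = n50058 := ndS (p := 15344) (l := 6) rfl N15344 D50058
theorem N30693 : nd 30693 = n50059 := ndS (p := 15346) (l := 4) rfl N15346 D50059
theorem N30694 : nd 30694 = n50060 := ndS (p := 15346) (l := 6) rfl N15346 D50060
theorem N30695 : nd 30695 = n50061 := ndS (p := 15347) (l := 3) rfl N15347 D50061
theorem N30696 : nd 30696 = n50062 := ndS (p := 15347) (l := 6) rfl N15347 D50062
theorem N30697 : nd 30697 = n50063 := ndS (p := 15348) (l := 6) rfl N15348 D50063
theorem N30698 : nd 30698 = n50064 := ndS (p := 15349) (l := 3) rfl N15349 D50064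
theorem N30699 : nd 30699 = n50065 := ndS (p := 15349) (l := 5) rfl N15349 D50065
theorem N30700 : nd 30700 = n50066 := ndS (p := 15350) (l := 6) rfl N15350 D50066
theorem N30701 : nd 30701 = n50067 := ndS (p := 15351) (l := 3) rfl N15351 D50067
theorem N30702 : nd 30702 = n50068 := ndS (p := 15351) (l := 5) rfl N15351 D50068
theorem N30703 : nd 30703 = n50069 := ndS (p := 15351) (l := 6) rfl N15351 D50069
theorem N30704 : nd 30704 = n50070 := ndS (p := 15352) (l := 0) rfl N15352 D50070
theorem N30705 : nd 30705 = n50071 := ndS (p := 15352) (l := 1) rfl N15352 D50071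
theorem N30706 : nd 30706 = n50072 := ndS (p := 15352) (l := 7) rfl N15352 D50072
theorem N30707 : nd 30707 = n50073 := ndS (p := 15353) (l := 3) rfl N15353 D50073
theorem N30708 : nd 30708 = n50074 := ndS (p := 15353) (l := 5) rfl N15353 D50074
theorem N30709 : nd 30709 = n50075 := ndS (p := 15353) (l := 6) rfl N15353 D50075
theorem N30710 : nd 30710 = n50077 := ndS (p := 15354) (l := 1) rfl N15354 D50077
theorem N30711 : nd 30711 = n50078 := ndS (p := 15354) (l := 7) rfl N15354 D50078
theorem N30712 : nd 30712 = n50079 := ndS (p := 15355) (l := 3) rfl N15355 D50079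
theorem N30713 : nd 30713 = n50080 := ndS (p := 15355) (l := 5) rfl N15355 D50080
theorem N30714 : nd 30714 = n50081 := ndS (p := 15355) (l := 6) rfl N15355 D50081
theorem N30715 : nd 30715 = n50082 := ndS (p := 15356) (l := 3) rfl N15356 D50082
theorem N30716 : nd 30716 = n50083 := ndS (p := 15356) (l := 5) rfl N15356 D50083
theorem N30717 : nd 30717 = n50084 := ndS (p := 15356) (l := 6) rfl N15356 D50084
theorem N30718 : nd 30718 = n50085 := ndS (p := 15357) (l := 0) rfl N15357 D50085
theorem N30719 : nd 30719 = n50086 := ndS (p := 15357) (l := 1) rfl N15357 D50086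
theorem N30720 : nd 30720 = n50087 := ndS (p := 15357) (l := 2) rfl N15357 D50087
theorem N30721 : nd 30721 = n50088 := ndS (p := 15357) (l := 5) rfl N15357 D50088
theorem N30722 : nd 30722 = n50089 := ndS (p := 15357) (l := 7) rfl N15357 D50089
theorem N30723 : nd 30723 = n50090 := ndS (p := 15358) (l := 0) rfl N15358 D50090
theorem N30724 : nd 30724 = n50091 := ndS (p := 15358) (l := 1) rfl N15358 D50091
theorem N30725 : nd 30725 = n50092 := ndS (p := 15358) (l := 4) rfl N15358 D50092
theorem N30726 : nd 30726 = n50093 := ndS (p := 15358) (l := 6) rfl N15358 D50093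
theorem N30727 : nd 30727 = n50094 := ndS (p := 15358) (l := 7) rfl N15358 D50094
theorem N30728 : nd 30728 = n50095 := ndS (p := 15359) (l := 6) rfl N15359 D50095
theorem N30729 : nd 30729 = n50096 := ndS (p := 15361) (l := 4) rfl N15361 D50096
theorem N30730 : nd 30730 = n50097 := ndS (p := 15361) (l := 6) rfl N15361 D50097
theorem N30731 : nd 30731 = n50098 := ndS (p := 15362) (l := 0) rfl N15362 D50098
theorem N30732 : nd 30732 = n50099 := ndS (p := 15363) (l := 6) rfl N15363 D50099
theorem N30733 : nd 30733 = n50100 := ndS (p := 15364) (l := 6) rfl N15364 D50100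
theorem N30734 : nd 30734 = n50101 := ndS (p := 15365) (l := 3) rfl N15365 D50101
theorem N30735 : nd 30735 = n50102 := ndS (p := 15365) (l := 5) rfl N15365 D50102
theorem N30736 : nd 30736 = n50103 := ndS (p := 15366) (l := 6) rfl N15366 D50103
theorem N30737 : nd 30737 = n50104 := ndS (p := 15367) (l := 4) rfl N15367 D50104
theorem N30738 : nd 30738 = n50105 := ndS (p := 15367) (l := 6) rfl N15367 D50105
theorem N30739 : nd 30739 = n50106 := ndS (p := 15368) (l := 0) rfl N15368 D50106
theorem N30740 : nd 30740 = n50107 := ndS (p := 15368) (l := 7) rfl N15368 D50107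
theorem N30741 : nd 30741 = n50108 := ndS (p := 15369) (l := 6) rfl N15369 D50108
theorem N30742 : nd 30742 = n50109 := ndS (p := 15370) (l := 3) rfl N15370 D50109
theorem N30743 : nd 30743 = n50110 := ndS (p := 15370) (l := 5) rfl N15370 D50110
theorem N30744 : nd 30744 = n50111 := ndS (p := 15370) (l := 7) rfl N15370 D50111
theorem N30745 : nd 30745 = n50112 := ndS (p := 15371) (l := 6) rfl N15371 D50112
theorem N30746 : nd 30746 = n50113 := ndS (p := 15372) (l := 3) rfl N15372 D50113
theorem N30747 : nd 30747 = n50114 := ndS (p := 15372) (l := 5) rfl N15372 D50114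
theorem N30748 : nd 30748 = n50115 := ndS (p := 15372) (l := 6) rfl N15372 D50115
theorem N30749 : nd 30749 = n50116 := ndS (p := 15373) (l := 0) rfl N15373 D50116
theorem N30750 : nd 30750 = n50117 := ndS (p := 15373) (l := 7) rfl N15373 D50117
theorem N30751 : nd 30751 = n50118 := ndS (p := 15376) (l := 3) rfl N15376 D50118
theorem N30752 : nd 30752 = n50119 := ndS (p := 15376) (l := 5) rfl N15376 D50119
theorem N30753 : nd 30753 = n50120 := ndS (p := 15376) (l := 6) rfl N15376 D50120
theorem N30754 : nd 30754 = n50121 := ndS (p := 15377) (l := 0) rfl N15377 D50121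
theorem N30755 : nd 30755 = n50122 := ndS (p := 15377) (l := 1) rfl N15377 D50122
theorem N30756 : nd 30756 = n50123 := ndS (p := 15377) (l := 7) rfl N15377 D50123
theorem N30757 : nd 30757 = n50124 := ndS (p := 15378) (l := 3) rfl N15378 D50124
theorem N30758 : nd 30758 = n50125 := ndS (p := 15378) (l := 5) rfl N15378 D50125
theorem N30759 : nd 30759 = n50126 := ndS (p := 15378) (l := 6) rfl N15378 D50126
theorem N30760 : nd 30760 = n50127 := ndS (p := 15379) (l := 3) rfl N15379 D50127
theorem N30761 : nd 30761 = n50128 := ndS (p := 15379) (l := 5) rfl N15379 D50128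
theorem N30762 : nd 30762 = n50129 := ndS (p := 15379) (l := 6) rfl N15379 D50129
theorem N30763 : nd 30763 = n50130 := ndS (p := 15380) (l := 0) rfl N15380 D50130
theorem N30764 : nd 30764 = n50131 := ndS (p := 15380) (l := 1) rfl N15380 D50131
theorem N30765 : nd 30765 = n50132 := ndS (p := 15380) (l := 2) rfl N15380 D50132
theorem N30766 : nd 30766 = n50133 := ndS (p := 15380) (l := 5) rfl N15380 D50133
theorem N30767 : nd 30767 = n50134 := ndS (p := 15380) (l := 7) rfl N15380 D50134
theorem N30768 : nd 30768 = n50135 := ndS (p := 15381) (l := 0) rfl N15381 D50135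
theorem N30769 : nd 30769 = n50136 := ndS (p := 15381) (l := 1) rfl N15381 D50136
theorem N30770 : nd 30770 = n50137 := ndS (p := 15381) (l := 4) rfl N15381 D50137
theorem N30771 : nd 30771 = n50138 := ndS (p := 15381) (l := 6) rfl N15381 D50138
theorem N30772 : nd 30772 = n50139 := ndS (p := 15381) (l := 7) rfl N15381 D50139
theorem N30773 : nd 30773 = n50140 := ndS (p := 15382) (l := 6) rfl N15382 D50140
theorem N30774 : nd 30774 = n50141 := ndS (p := 15384) (l := 4) rfl N15384 D50141
theorem N30775 : nd 30775 = n50142 := ndS (p := 15384) (l := 6) rfl N15384 D50142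
theorem N30776 : nd 30776 = n50143 := ndS (p := 15386) (l := 4) rfl N15386 D50143
theorem N30777 : nd 30777 = n50144 := ndS (p := 15386) (l := 6) rfl N15386 D50144
theorem N30778 : nd 30778 = n50145 := ndS (p := 15388) (l := 4) rfl N15388 D50145
theorem N30779 : nd 30779 = n50146 := ndS (p := 15389) (l := 3) rfl N15389 D50146
theorem N30780 : nd 30780 = n50147 := ndS (p := 15389) (l := 5) rfl N15389 D50147
theorem N30781 : nd 30781 = n50148 := ndS (p := 15389) (l := 6) rfl N15389 D50148
theorem N30782 : nd 30782 = n50150 := ndS (p := 15390) (l := 1) rfl N15390 D50150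
theorem N30783 : nd 30783 = n50151 := ndS (p := 15390) (l := 7) rfl N15390 D50151
theorem N30784 : nd 30784 = n50152 := ndS (p := 15391) (l := 3) rfl N15391 D50152
theorem N30785 : nd 30785 = n50153 := ndS (p := 15391) (l := 5) rfl N15391 D50153
theorem N30786 : nd 30786 = n50154 := ndS (p := 15391) (l := 6) rfl N15391 D50154
theorem N30787 : nd 30787 = n50155 := ndS (p := 15392) (l := 0) rfl N15392 D50155
theorem N30788 : nd 30788 = n50156 := ndS (p := 15392) (l := 7) rfl N15392 D50156
theorem N30789 : nd 30789 = n50157 := ndS (p := 15393) (l := 6) rfl N15393 D50157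
theorem N30790 : nd 30790 = n50158 := ndS (p := 15394) (l := 3) rfl N15394 D50158
theorem N30791 : nd 30791 = n50159 := ndS (p := 15394) (l := 5) rfl N15394 D50159
theorem N30792 : nd 30792 = n50160 := ndS (p := 15394) (l := 6) rfl N15394 D50160
theorem N30793 : nd 30793 = n50162 := ndS (p := 15395) (l := 1) rfl N15395 D50162
theorem N30794 : nd 30794 = n50163 := ndS (p := 15395) (l := 7) rfl N15395 D50163
theorem N30795 : nd 30795 = n50164 := ndS (p := 15396) (l := 3) rfl N15396 D50164
theorem N30796 : nd 30796 = n50165 := ndS (p := 15396) (l := 5) rfl N15396 D50165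
theorem N30797 : nd 30797 = n50166 := ndS (p := 15396) (l := 6) rfl N15396 D50166
theorem N30798 : nd 30798 = n50167 := ndS (p := 15397) (l := 0) rfl N15397 D50167
theorem N30799 : nd 30799 = n50169 := ndS (p := 15397) (l := 7) rfl N15397 D50169
theorem N30800 : nd 30800 = n50170 := ndS (p := 15398) (l := 3) rfl N15398 D50170
theorem N30801 : nd 30801 = n50171 := ndS (p := 15398) (l := 5) rfl N15398 D50171
theorem N30802 : nd 30802 = n50172 := ndS (p := 15398) (l := 6) rfl N15398 D50172
theorem N30803 : nd 30803 = n50173 := ndS (p := 15399) (l := 3) rfl N15399 D50173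
theorem N30804 : nd 30804 = n50174 := ndS (p := 15399) (l := 5) rfl N15399 D50174
theorem N30805 : nd 30805 = n50175 := ndS (p := 15399) (l := 6) rfl N15399 D50175
theorem N30806 : nd 30806 = n50176 := ndS (p := 15400) (l := 0) rfl N15400 D50176
theorem N30807 : nd 30807 = n50177 := ndS (p := 15400) (l := 1) rfl N15400 D50177
theorem N30808 : nd 30808 = n50178 := ndS (p := 15400) (l := 2) rfl N15400 D50178
theorem N30809 : nd 30809 = n50179 := ndS (p := 15400) (l := 5) rfl N15400 D50179
theorem N30810 : nd 30810 = n50180 := ndS (p := 15400) (l := 7) rfl N15400 D50180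
theorem N30811 : nd 30811 = n50181 := ndS (p := 15401) (l := 0) rfl N15401 D50181
theorem N30812 : nd 30812 = n50182 := ndS (p := 15401) (l := 1) rfl N15401 D50182
theorem N30813 : nd 30813 = n50183 := ndS (p := 15401) (l := 6) rfl N15401 D50183
theorem N30814 : nd 30814 = n50184 := ndS (p := 15402) (l := 6) rfl N15402 D50184
theorem N30815 : nd 30815 = n50185 := ndS (p := 15405) (l := 1) rfl N15405 D50185
theorem N30816 : nd 30816 = n50186 := ndS (p := 15405) (l := 3) rfl N15405 D50186
theorem N30817 : nd 30817 = n50187 := ndS (p := 15405) (l := 5) rfl N15405 D50187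
theorem N30818 : nd 30818 = n50188 := ndS (p := 15405) (l := 6) rfl N15405 D50188
theorem N30819 : nd 30819 = n50189 := ndS (p := 15406) (l := 0) rfl N15406 D50189
theorem N30820 : nd 30820 = n50190 := ndS (p := 15406) (l := 1) rfl N15406 D50190
theorem N30821 : nd 30821 = n50191 := ndS (p := 15406) (l := 7) rfl N15406 D50191
theorem N30822 : nd 30822 = n50192 := ndS (p := 15407) (l := 6) rfl N15407 D50192
theorem N30823 : nd 30823 = n50193 := ndS (p := 15408) (l := 3) rfl N15408 D50193
theorem N30824 : nd 30824 = n50194 := ndS (p := 15408) (l := 6) rfl N15408 D50194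
theorem N30825 : nd 30825 = n50195 := ndS (p := 15409) (l := 6) rfl N15409 D50195
theorem N30826 : nd 30826 = n50196 := ndS (p := 15410) (l := 3) rfl N15410 D50196
theorem N30827 : nd 30827 = n50197 := ndS (p := 15410) (l := 6) rfl N15410 D50197
theorem N30828 : nd 30828 = n50198 := ndS (p := 15411) (l := 0) rfl N15411 D50198
theorem N30829 : nd 30829 = n50199 := ndS (p := 15411) (l := 1) rfl N15411 D50199
theorem N30830 : nd 30830 = n50200 := ndS (p := 15411) (l := 7) rfl N15411 D50200
theorem N30831 : nd 30831 = n50201 := ndS (p := 15414) (l := 3) rfl N15414 D50201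
theorem N30832 : nd 30832 = n50202 := ndS (p := 15414) (l := 5) rfl N15414 D50202
theorem N30833 : nd 30833 = n50203 := ndS (p := 15414) (l := 6) rfl N15414 D50203
theorem N30834 : nd 30834 = n50204 := ndS (p := 15415) (l := 0) rfl N15415 D50204
theorem N30835 : nd 30835 = n50205 := ndS (p := 15415) (l := 1) rfl N15415 D50205
theorem N30836 : nd 30836 = n50206 := ndS (p := 15415) (l := 7) rfl N15415 D50206
theorem N30837 : nd 30837 = n50207 := ndS (p := 15416) (l := 3) rfl N15416 D50207
theorem N30838 : nd 30838 = n50208 := ndS (p := 15416) (l := 5) rfl N15416 D50208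
theorem N30839 : nd 30839 = n50209 := ndS (p := 15416) (l := 6) rfl N15416 D50209
theorem N30840 : nd 30840 = n50210 := ndS (p := 15418) (l := 3) rfl N15418 D50210
theorem N30841 : nd 30841 = n50211 := ndS (p := 15418) (l := 5) rfl N15418 D50211
theorem N30842 : nd 30842 = n50212 := ndS (p := 15418) (l := 6) rfl N15418 D50212
theorem N30843 : nd 30843 = n50213 := ndS (p := 15419) (l := 3) rfl N15419 D50213
theorem N30844 : nd 30844 = n50214 := ndS (p := 15419) (l := 5) rfl N15419 D50214
theorem N30845 : nd 30845 = n50215 := ndS (p := 15419) (l := 6) rfl N15419 D50215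
theorem N30846 : nd 30846 = n50216 := ndS (p := 15420) (l := 0) rfl N15420 D50216
theorem N30847 : nd 30847 = n50217 := ndS (p := 15420) (l := 1) rfl N15420 D50217
theorem N30848 : nd 30848 = n50218 := ndS (p := 15420) (l := 2) rfl N15420 D50218
theorem N30849 : nd 30849 = n50219 := ndS (p := 15420) (l := 5) rfl N15420 D50219
theorem N30850 : nd 30850 = n50220 := ndS (p := 15420) (l := 6) rfl N15420 D50220
theorem N30851 : nd 30851 = n50221 := ndS (p := 15421) (l := 0) rfl N15421 D50221
theorem N30852 : nd 30852 = n50222 := ndS (p := 15421) (l := 1) rfl N15421 D50222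
theorem N30853 : nd 30853 = n50223 := ndS (p := 15421) (l := 6) rfl N15421 D50223
theorem N30854 : nd 30854 = n50224 := ndS (p := 15422) (l := 0) rfl N15422 D50224
theorem N30855 : nd 30855 = n50225 := ndS (p := 15422) (l := 1) rfl N15422 D50225
theorem N30856 : nd 30856 = n50226 := ndS (p := 15422) (l := 5) rfl N15422 D50226
theorem N30857 : nd 30857 = n50227 := ndS (p := 15422) (l := 7) rfl N15422 D50227
theorem N30858 : nd 30858 = n50230 := ndS (p := 15423) (l := 4) rfl N15423 D50230
theorem N30859 : nd 30859 = n50231 := ndS (p := 15423) (l := 5) rfl N15423 D50231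
theorem N30860 : nd 30860 = n50234 := ndS (p := 15424) (l := 4) rfl N15424 D50234
theorem N30861 : nd 30861 = n50236 := ndS (p := 15424) (l := 6) rfl N15424 D50236
theorem N30862 : nd 30862 = n50237 := ndS (p := 15425) (l := 0) rfl N15425 D50237
theorem N30863 : nd 30863 = n50239 := ndS (p := 15425) (l := 4) rfl N15425 D50239
theorem N30864 : nd 30864 = n50240 := ndS (p := 15425) (l := 7) rfl N15425 D50240
theorem N30865 : nd 30865 = n50241 := ndS (p := 15427) (l := 1) rfl N15427 D50241
theorem N30866 : nd 30866 = n50242 := ndS (p := 15427) (l := 3) rfl N15427 D50242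
theorem N30867 : nd 30867 = n50243 := ndS (p := 15427) (l := 5) rfl N15427 D50243
theorem N30868 : nd 30868 = n50244 := ndS (p := 15428) (l := 6) rfl N15428 D50244
theorem N30869 : nd 30869 = n50245 := ndS (p := 15429) (l := 4) rfl N15429 D50245
theorem N30870 : nd 30870 = n50246 := ndS (p := 15429) (l := 6) rfl N15429 D50246
theorem N30871 : nd 30871 = n50247 := ndS (p := 15431) (l := 4) rfl N15431 D50247
theorem N30872 : nd 30872 = n50248 := ndS (p := 15431) (l := 6) rfl N15431 D50248
theorem N30873 : nd 30873 = n50249 := ndS (p := 15433) (l := 6) rfl N15433 D50249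
theorem N30874 : nd 30874 = n50250 := ndS (p := 15434) (l := 6) rfl N15434 D50250
theorem N30875 : nd 30875 = n50251 := ndS (p := 15435) (l := 3) rfl N15435 D50251
theorem N30876 : nd 30876 = n50252 := ndS (p := 15435) (l := 5) rfl N15435 D50252
theorem N30877 : nd 30877 = n50253 := ndS (p := 15435) (l := 6) rfl N15435 D50253
theorem N30878 : nd 30878 = n50254 := ndS (p := 15436) (l := 0) rfl N15436 D50254
theorem N30879 : nd 30879 = n50255 := ndS (p := 15436) (l := 1) rfl N15436 D50255
theorem N30880 : nd 30880 = n50256 := ndS (p := 15436) (l := 7) rfl N15436 D50256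
theorem N30881 : nd 30881 = n50257 := ndS (p := 15438) (l := 4) rfl N15438 D50257
theorem N30882 : nd 30882 = n50258 := ndS (p := 15438) (l := 6) rfl N15438 D50258
theorem N30883 : nd 30883 = n50259 := ndS (p := 15440) (l := 3) rfl N15440 D50259
theorem N30884 : nd 30884 = n50260 := ndS (p := 15440) (l := 6) rfl N15440 D50260
theorem N30885 : nd 30885 = n50261 := ndS (p := 15441) (l := 0) rfl N15441 D50261
theorem N30886 : nd 30886 = n50262 := ndS (p := 15441) (l := 1) rfl N15441 D50262
theorem N30887 : nd 30887 = n50263 := ndS (p := 15441) (l := 5) rfl N15441 D50263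
theorem N30888 : nd 30888 = n50264 := ndS (p := 15441) (l := 7) rfl N15441 D50264
theorem N30889 : nd 30889 = n50265 := ndS (p := 15443) (l := 4) rfl N15443 D50265
theorem N30890 : nd 30890 = n50266 := ndS (p := 15445) (l := 0) rfl N15445 D50266
theorem N30891 : nd 30891 = n50267 := ndS (p := 15445) (l := 1) rfl N15445 D50267
theorem N30892 : nd 30892 = n50268 := ndS (p := 15445) (l := 2) rfl N15445 D50268
theorem N30893 : nd 30893 = n50269 := ndS (p := 15445) (l := 5) rfl N15445 D50269
theorem N30894 : nd 30894 = n50270 := ndS (p := 15445) (l := 6) rfl N15445 D50270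
theorem N30895 : nd 30895 = n50271 := ndS (p := 15446) (l := 6) rfl N15446 D50271
theorem N30896 : nd 30896 = n50272 := ndS (p := 15447) (l := 0) rfl N15447 D50272
theorem N30897 : nd 30897 = n50273 := ndS (p := 15447) (l := 1) rfl N15447 D50273
theorem N30898 : nd 30898 = n50274 := ndS (p := 15447) (l := 5) rfl N15447 D50274
theorem N30899 : nd 30899 = n50275 := ndS (p := 15447) (l := 7) rfl N15447 D50275
theorem N30900 : nd 30900 = n50276 := ndS (p := 15448) (l := 4) rfl N15448 D50276
theorem N30901 : nd 30901 = n50277 := ndS (p := 15449) (l := 4) rfl N15449 D50277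
theorem N30902 : nd 30902 = n50278 := ndS (p := 15450) (l := 0) rfl N15450 D50278
theorem N30903 : nd 30903 = n50279 := ndS (p := 15450) (l := 1) rfl N15450 D50279
theorem N30904 : nd 30904 = n50280 := ndS (p := 15450) (l := 4) rfl N15450 D50280
theorem N30905 : nd 30905 = n50281 := ndS (p := 15450) (l := 7) rfl N15450 D50281
theorem N30906 : nd 30906 = n50282 := ndS (p := 15452) (l := 3) rfl N15452 D50282
theorem N30907 : nd 30907 = n50283 := ndS (p := 15452) (l := 5) rfl N15452 D50283
theorem N30908 : nd 30908 = n50284 := ndS (p := 15453) (l := 3) rfl N15453 D50284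
theorem N30909 : nd 30909 = n50285 := ndS (p := 15453) (l := 5) rfl N15453 D50285
theorem N30910 : nd 30910 = n50286 := ndS (p := 15453) (l := 6) rfl N15453 D50286
theorem N30911 : nd 30911 = n50287 := ndS (p := 15455) (l := 0) rfl N15455 D50287
theorem N30912 : nd 30912 = n50288 := ndS (p := 15455) (l := 1) rfl N15455 D50288
theorem N30913 : nd 30913 = n50289 := ndS (p := 15456) (l := 3) rfl N15456 D50289
theorem N30914 : nd 30914 = n50290 := ndS (p := 15456) (l := 6) rfl N15456 D50290
theorem N30915 : nd 30915 = n50291 := ndS (p := 15457) (l := 3) rfl N15457 D50291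
theorem N30916 : nd 30916 = n50292 := ndS (p := 15458) (l := 0) rfl N15458 D50292
theorem N30917 : nd 30917 = n50293 := ndS (p := 15458) (l := 1) rfl N15458 D50293
theorem N30918 : nd 30918 = n50294 := ndS (p := 15458) (l := 2) rfl N15458 D50294
theorem N30919 : nd 30919 = n50295 := ndS (p := 15458) (l := 5) rfl N15458 D50295
theorem N30920 : nd 30920 = n50296 := ndS (p := 15458) (l := 6) rfl N15458 D50296
theorem N30921 : nd 30921 = n50297 := ndS (p := 15459) (l := 0) rfl N15459 D50297
theorem N30922 : nd 30922 = n50298 := ndS (p := 15459) (l := 1) rfl N15459 D50298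
theorem N30923 : nd 30923 = n50299 := ndS (p := 15459) (l := 6) rfl N15459 D50299
theorem N30924 : nd 30924 = n50300 := ndS (p := 15460) (l := 0) rfl N15460 D50300
theorem N30925 : nd 30925 = n50301 := ndS (p := 15460) (l := 1) rfl N15460 D50301
theorem N30926 : nd 30926 = n50302 := ndS (p := 15460) (l := 5) rfl N15460 D50302
theorem N30927 : nd 30927 = n50303 := ndS (p := 15460) (l := 7) rfl N15460 D50303
theorem N30928 : nd 30928 = n50304 := ndS (p := 15462) (l := 0) rfl N15462 D50304
theorem N30929 : nd 30929 = n50307 := ndS (p := 15463) (l := 4) rfl N15463 D50307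
theorem N30930 : nd 30930 = n50308 := ndS (p := 15463) (l := 5) rfl N15463 D50308
theorem N30931 : nd 30931 = n50311 := ndS (p := 15464) (l := 4) rfl N15464 D50311
theorem N30932 : nd 30932 = n50313 := ndS (p := 15464) (l := 6) rfl N15464 D50313
theorem N30933 : nd 30933 = n50314 := ndS (p := 15465) (l := 4) rfl N15465 D50314
theorem N30934 : nd 30934 = n50315 := ndS (p := 15467) (l := 6) rfl N15467 D50315
theorem N30935 : nd 30935 = n50316 := ndS (p := 15468) (l := 3) rfl N15468 D50316
theorem N30936 : nd 30936 = n50317 := ndS (p := 15468) (l := 5) rfl N15468 D50317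
theorem N30937 : nd 30937 = n50318 := ndS (p := 15468) (l := 6) rfl N15468 D50318
theorem N30938 : nd 30938 = n50319 := ndS (p := 15469) (l := 0) rfl N15469 D50319
theorem N30939 : nd 30939 = n50320 := ndS (p := 15469) (l := 1) rfl N15469 D50320
theorem N30940 : nd 30940 = n50321 := ndS (p := 15469) (l := 5) rfl N15469 D50321
theorem N30941 : nd 30941 = n50322 := ndS (p := 15469) (l := 7) rfl N15469 D50322
theorem N30942 : nd 30942 = n50323 := ndS (p := 15470) (l := 0) rfl N15470 D50323
theorem N30943 : nd 30943 = n50324 := ndS (p := 15470) (l := 1) rfl N15470 D50324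
theorem N30944 : nd 30944 = n50325 := ndS (p := 15470) (l := 2) rfl N15470 D50325
theorem N30945 : nd 30945 = n50326 := ndS (p := 15470) (l := 5) rfl N15470 D50326
theorem N30946 : nd 30946 = n50327 := ndS (p := 15470) (l := 6) rfl N15470 D50327
theorem N30947 : nd 30947 = n50328 := ndS (p := 15471) (l := 6) rfl N15471 D50328
theorem N30948 : nd 30948 = n50329 := ndS (p := 15472) (l := 0) rfl N15472 D50329
theorem N30949 : nd 30949 = n50330 := ndS (p := 15472) (l := 1) rfl N15472 D50330
theorem N30950 : nd 30950 = n50331 := ndS (p := 15472) (l := 5) rfl N15472 D50331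
theorem N30951 : nd 30951 = n50332 := ndS (p := 15472) (l := 7) rfl N15472 D50332
theorem N30952 : nd 30952 = n50335 := ndS (p := 15474) (l := 4) rfl N15474 D50335
theorem N30953 : nd 30953 = n50337 := ndS (p := 15474) (l := 6) rfl N15474 D50337
theorem N30954 : nd 30954 = n50340 := ndS (p := 15475) (l := 4) rfl N15475 D50340
theorem N30955 : nd 30955 = n50342 := ndS (p := 15476) (l := 1) rfl N15476 D50342
theorem N30956 : nd 30956 = n50343 := ndS (p := 15476) (l := 4) rfl N15476 D50343
theorem N30957 : nd 30957 = n50344 := ndS (p := 15476) (l := 7) rfl N15476 D50344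
theorem N30958 : nd 30958 = n50345 := ndS (p := 15478) (l := 0) rfl N15478 D50345
theorem N30959 : nd 30959 = n50346 := ndS (p := 15478) (l := 1) rfl N15478 D50346
theorem N30960 : nd 30960 = n50347 := ndS (p := 15478) (l := 2) rfl N15478 D50347
theorem N30961 : nd 30961 = n50348 := ndS (p := 15478) (l := 4) rfl N15478 D50348
theorem N30962 : nd 30962 = n50349 := ndS (p := 15478) (l := 5) rfl N15478 D50349
theorem N30963 : nd 30963 = n50350 := ndS (p := 15478) (l := 6) rfl N15478 D50350
theorem N30964 : nd 30964 = n50351 := ndS (p := 15479) (l := 6) rfl N15479 D50351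
theorem N30965 : nd 30965 = n50352 := ndS (p := 15480) (l := 0) rfl N15480 D50352
theorem N30966 : nd 30966 = n50353 := ndS (p := 15480) (l := 1) rfl N15480 D50353
theorem N30967 : nd 30967 = n50354 := ndS (p := 15480) (l := 6) rfl N15480 D50354
theorem N30968 : nd 30968 = n50357 := ndS (p := 15481) (l := 5) rfl N15481 D50357
theorem N30969 : nd 30969 = n50358 := ndS (p := 15481) (l := 7) rfl N15481 D50358
theorem N30970 : nd 30970 = n50359 := ndS (p := 15482) (l := 0) rfl N15482 D50359
theorem N30971 : nd 30971 = n50360 := ndS (p := 15482) (l := 1) rfl N15482 D50360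
theorem N30972 : nd 30972 = n50361 := ndS (p := 15482) (l := 2) rfl N15482 D50361
theorem N30973 : nd 30973 = n50362 := ndS (p := 15482) (l := 5) rfl N15482 D50362
theorem N30974 : nd 30974 = n50363 := ndS (p := 15482) (l := 6) rfl N15482 D50363
theorem N30975 : nd 30975 = n50364 := ndS (p := 15483) (l := 6) rfl N15483 D50364
theorem N30976 : nd 30976 = n50367 := ndS (p := 15484) (l := 5) rfl N15484 D50367
theorem N30977 : nd 30977 = n50368 := ndS (p := 15484) (l := 7) rfl N15484 D50368
theorem N30978 : nd 30978 = n50369 := ndS (p := 15485) (l := 0) rfl N15485 D50369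
theorem N30979 : nd 30979 = n50370 := ndS (p := 15485) (l := 2) rfl N15485 D50370
theorem N30980 : nd 30980 = n50371 := ndS (p := 15485) (l := 3) rfl N15485 D50371
theorem N30981 : nd 30981 = n50373 := ndS (p := 15485) (l := 5) rfl N15485 D50373
theorem N30982 : nd 30982 = n50374 := ndS (p := 15485) (l := 6) rfl N15485 D50374
theorem N30983 : nd 30983 = n50376 := ndS (p := 15486) (l := 3) rfl N15486 D50376
theorem N30984 : nd 30984 = n50378 := ndS (p := 15486) (l := 5) rfl N15486 D50378
theorem N30985 : nd 30985 = n50382 := ndS (p := 15487) (l := 5) rfl N15487 D50382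
theorem N30986 : nd 30986 = n50383 := ndS (p := 15488) (l := 0) rfl N15488 D50383
theorem N30987 : nd 30987 = n50384 := ndS (p := 15488) (l := 1) rfl N15488 D50384
theorem N30988 : nd 30988 = n50385 := ndS (p := 15488) (l := 4) rfl N15488 D50385
theorem N30989 : nd 30989 = n50386 := ndS (p := 15488) (l := 6) rfl N15488 D50386
theorem N30990 : nd 30990 = n50387 := ndS (p := 15488) (l := 7) rfl N15488 D50387
theorem N30991 : nd 30991 = n50388 := ndS (p := 15489) (l := 6) rfl N15489 D50388
theorem N30992 : nd 30992 = n50389 := ndS (p := 15490) (l := 3) rfl N15490 D50389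
theorem N30993 : nd 30993 = n50390 := ndS (p := 15490) (l := 6) rfl N15490 D50390
theorem N30994 : nd 30994 = n50391 := ndS (p := 15491) (l := 3) rfl N15491 D50391
theorem N30995 : nd 30995 = n50392 := ndS (p := 15491) (l := 6) rfl N15491 D50392
theorem N30996 : nd 30996 = n50393 := ndS (p := 15492) (l := 3) rfl N15492 D50393
theorem N30997 : nd 30997 = n50394 := ndS (p := 15492) (l := 6) rfl N15492 D50394
theorem N30998 : nd 30998 = n50395 := ndS (p := 15493) (l := 0) rfl N15493 D50395
theorem N30999 : nd 30999 = n50396 := ndS (p := 15493) (l := 1) rfl N15493 D50396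
theorem N31000 : nd 31000 = n50397 := ndS (p := 15493) (l := 7) rfl N15493 D50397
theorem N31001 : nd 31001 = n50398 := ndS (p := 15494) (l := 6) rfl N15494 D50398
theorem N31002 : nd 31002 = n50399 := ndS (p := 15495) (l := 0) rfl N15495 D50399
theorem N31003 : nd 31003 = n50400 := ndS (p := 15495) (l := 1) rfl N15495 D50400
theorem N31004 : nd 31004 = n50401 := ndS (p := 15495) (l := 5) rfl N15495 D50401
theorem N31005 : nd 31005 = n50404 := ndS (p := 15496) (l := 4) rfl N15496 D50404
theorem N31006 : nd 31006 = n50405 := ndS (p := 15496) (l := 5) rfl N15496 D50405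
theorem N31007 : nd 31007 = n50406 := ndS (p := 15496) (l := 6) rfl N15496 D50406
theorem N31008 : nd 31008 = n50408 := ndS (p := 15497) (l := 3) rfl N15497 D50408
theorem N31009 : nd 31009 = n50409 := ndS (p := 15497) (l := 4) rfl N15497 D50409
theorem N31010 : nd 31010 = n50410 := ndS (p := 15497) (l := 5) rfl N15497 D50410
theorem N31011 : nd 31011 = n50411 := ndS (p := 15497) (l := 6) rfl N15497 D50411
theorem N31012 : nd 31012 = n50412 := ndS (p := 15498) (l := 3) rfl N15498 D50412
theorem N31013 : nd 31013 = n50413 := ndS (p := 15498) (l := 6) rfl N15498 D50413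
theorem N31014 : nd 31014 = n50414 := ndS (p := 15499) (l := 0) rfl N15499 D50414
theorem N31015 : nd 31015 = n50416 := ndS (p := 15500) (l := 3) rfl N15500 D50416
theorem N31016 : nd 31016 = n50417 := ndS (p := 15500) (l := 5) rfl N15500 D50417
theorem N31017 : nd 31017 = n50418 := ndS (p := 15500) (l := 6) rfl N15500 D50418
theorem N31018 : nd 31018 = n50419 := ndS (p := 15501) (l := 0) rfl N15501 D50419
theorem N31019 : nd 31019 = n50420 := ndS (p := 15501) (l := 1) rfl N15501 D50420
theorem N31020 : nd 31020 = n50421 := ndS (p := 15501) (l := 7) rfl N15501 D50421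
theorem N31021 : nd 31021 = n50422 := ndS (p := 15504) (l := 4) rfl N15504 D50422
theorem N31022 : nd 31022 = n50423 := ndS (p := 15504) (l := 6) rfl N15504 D50423
theorem N31023 : nd 31023 = n50424 := ndS (p := 15505) (l := 4) rfl N15505 D50424
theorem N31024 : nd 31024 = n50425 := ndS (p := 15505) (l := 6) rfl N15505 D50425
theorem N31025 : nd 31025 = n50426 := ndS (p := 15506) (l := 3) rfl N15506 D50426
theorem N31026 : nd 31026 = n50427 := ndS (p := 15506) (l := 6) rfl N15506 D50427
theorem N31027 : nd 31027 = n50428 := ndS (p := 15507) (l := 0) rfl N15507 D50428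
theorem N31028 : nd 31028 = n50430 := ndS (p := 15507) (l := 5) rfl N15507 D50430
theorem N31029 : nd 31029 = n50431 := ndS (p := 15507) (l := 7) rfl N15507 D50431
theorem N31030 : nd 31030 = n50432 := ndS (p := 15511) (l := 3) rfl N15511 D50432
theorem N31031 : nd 31031 = n50433 := ndS (p := 15511) (l := 5) rfl N15511 D50433
theorem N31032 : nd 31032 = n50434 := ndS (p := 15511) (l := 6) rfl N15511 D50434
theorem N31033 : nd 31033 = n50435 := ndS (p := 15512) (l := 0) rfl N15512 D50435
theorem N31034 : nd 31034 = n50437 := ndS (p := 15512) (l := 7) rfl N15512 D50437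
theorem N31035 : nd 31035 = n50438 := ndS (p := 15513) (l := 3) rfl N15513 D50438
theorem N31036 : nd 31036 = n50439 := ndS (p := 15513) (l := 5) rfl N15513 D50439
theorem N31037 : nd 31037 = n50440 := ndS (p := 15513) (l := 6) rfl N15513 D50440
theorem N31038 : nd 31038 = n50441 := ndS (p := 15514) (l := 1) rfl N15514 D50441
theorem N31039 : nd 31039 = n50442 := ndS (p := 15514) (l := 7) rfl N15514 D50442
theorem N31040 : nd 31040 = n50443 := ndS (p := 15515) (l := 3) rfl N15515 D50443
theorem N31041 : nd 31041 = n50444 := ndS (p := 15515) (l := 5) rfl N15515 D50444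
theorem N31042 : nd 31042 = n50445 := ndS (p := 15515) (l := 6) rfl N15515 D50445
theorem N31043 : nd 31043 = n50446 := ndS (p := 15516) (l := 3) rfl N15516 D50446
theorem N31044 : nd 31044 = n50447 := ndS (p := 15516) (l := 5) rfl N15516 D50447
theorem N31045 : nd 31045 = n50448 := ndS (p := 15516) (l := 6) rfl N15516 D50448
theorem N31046 : nd 31046 = n50449 := ndS (p := 15517) (l := 0) rfl N15517 D50449
theorem N31047 : nd 31047 = n50450 := ndS (p := 15517) (l := 1) rfl N15517 D50450
theorem N31048 : nd 31048 = n50451 := ndS (p := 15517) (l := 2) rfl N15517 D50451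
theorem N31049 : nd 31049 = n50452 := ndS (p := 15517) (l := 5) rfl N15517 D50452
theorem N31050 : nd 31050 = n50453 := ndS (p := 15517) (l := 6) rfl N15517 D50453
theorem N31051 : nd 31051 = n50454 := ndS (p := 15518) (l := 0) rfl N15518 D50454
theorem N31052 : nd 31052 = n50455 := ndS (p := 15518) (l := 1) rfl N15518 D50455
theorem N31053 : nd 31053 = n50456 := ndS (p := 15518) (l := 6) rfl N15518 D50456
theorem N31054 : nd 31054 = n50457 := ndS (p := 15519) (l := 0) rfl N15519 D50457
theorem N31055 : nd 31055 = n50458 := ndS (p := 15519) (l := 1) rfl N15519 D50458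
theorem N31056 : nd 31056 = n50459 := ndS (p := 15519) (l := 5) rfl N15519 D50459
theorem N31057 : nd 31057 = n50460 := ndS (p := 15519) (l := 7) rfl N15519 D50460
theorem N31058 : nd 31058 = n50462 := ndS (p := 15520) (l := 3) rfl N15520 D50462
theorem N31059 : nd 31059 = n50463 := ndS (p := 15520) (l := 4) rfl N15520 D50463
theorem N31060 : nd 31060 = n50466 := ndS (p := 15521) (l := 4) rfl N15521 D50466
theorem N31061 : nd 31061 = n50467 := ndS (p := 15521) (l := 6) rfl N15521 D50467
theorem N31062 : nd 31062 = n50468 := ndS (p := 15523) (l := 0) rfl N15523 D50468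
theorem N31063 : nd 31063 = n50469 := ndS (p := 15523) (l := 1) rfl N15523 D50469
theorem N31064 : nd 31064 = n50470 := ndS (p := 15523) (l := 2) rfl N15523 D50470
theorem N31065 : nd 31065 = n50471 := ndS (p := 15523) (l := 6) rfl N15523 D50471
theorem N31066 : nd 31066 = n50475 := ndS (p := 15525) (l := 2) rfl N15525 D50475
theorem N31067 : nd 31067 = n50476 := ndS (p := 15525) (l := 4) rfl N15525 D50476
theorem N31068 : nd 31068 = n50478 := ndS (p := 15526) (l := 5) rfl N15526 D50478
theorem N31069 : nd 31069 = n50481 := ndS (p := 15527) (l := 4) rfl N15527 D50481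
theorem N31070 : nd 31070 = n50486 := ndS (p := 15528) (l := 4) rfl N15528 D50486
theorem N31071 : nd 31071 = n50502 := ndS (p := 15532) (l := 6) rfl N15532 D50502
theorem N31072 : nd 31072 = n50510 := ndS (p := 15534) (l := 4) rfl N15534 D50510
theorem N31073 : nd 31073 = n50523 := ndS (p := 15536) (l := 6) rfl N15536 D50523
theorem N31074 : nd 31074 = n50524 := ndS (p := 15537) (l := 3) rfl N15537 D50524
theorem N31075 : nd 31075 = n50525 := ndS (p := 15537) (l := 5) rfl N15537 D50525
theorem N31076 : nd 31076 = n50526 := ndS (p := 15537) (l := 6) rfl N15537 D50526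
theorem N31077 : nd 31077 = n50527 := ndS (p := 15539) (l := 3) rfl N15539 D50527
theorem N31078 : nd 31078 = n50528 := ndS (p := 15539) (l := 5) rfl N15539 D50528
theorem N31079 : nd 31079 = n50529 := ndS (p := 15539) (l := 6) rfl N15539 D50529
theorem N31080 : nd 31080 = n50534 := ndS (p := 15544) (l := 3) rfl N15544 D50534
theorem N31081 : nd 31081 = n50535 := ndS (p := 15544) (l := 5) rfl N15544 D50535
theorem N31082 : nd 31082 = n50536 := ndS (p := 15544) (l := 6) rfl N15544 D50536
theorem N31083 : nd 31083 = n50537 := ndS (p := 15545) (l := 3) rfl N15545 D50537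
theorem N31084 : nd 31084 = n50538 := ndS (p := 15545) (l := 5) rfl N15545 D50538
theorem N31085 : nd 31085 = n50539 := ndS (p := 15545) (l := 6) rfl N15545 D50539
theorem N31086 : nd 31086 = n50540 := ndS (p := 15546) (l := 0) rfl N15546 D50540
theorem N31087 : nd 31087 = n50541 := ndS (p := 15546) (l := 1) rfl N15546 D50541
theorem N31088 : nd 31088 = n50542 := ndS (p := 15546) (l := 2) rfl N15546 D50542
theorem N31089 : nd 31089 = n50543 := ndS (p := 15546) (l := 5) rfl N15546 D50543
theorem N31090 : nd 31090 = n50545 := ndS (p := 15547) (l := 0) rfl N15547 D50545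
theorem N31091 : nd 31091 = n50546 := ndS (p := 15547) (l := 1) rfl N15547 D50546
theorem N31092 : nd 31092 = n50547 := ndS (p := 15547) (l := 4) rfl N15547 D50547
theorem N31093 : nd 31093 = n50548 := ndS (p := 15547) (l := 6) rfl N15547 D50548
theorem N31094 : nd 31094 = n50549 := ndS (p := 15548) (l := 0) rfl N15548 D50549
theorem N31095 : nd 31095 = n50551 := ndS (p := 15548) (l := 5) rfl N15548 D50551
theorem N31096 : nd 31096 = n50553 := ndS (p := 15549) (l := 3) rfl N15549 D50553
theorem N31097 : nd 31097 = n50554 := ndS (p := 15549) (l := 4) rfl N15549 D50554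
theorem N31098 : nd 31098 = n50555 := ndS (p := 15550) (l := 0) rfl N15550 D50555
theorem N31099 : nd 31099 = n50556 := ndS (p := 15550) (l := 1) rfl N15550 D50556
theorem N31100 : nd 31100 = n50557 := ndS (p := 15550) (l := 4) rfl N15550 D50557
theorem N31101 : nd 31101 = n50558 := ndS (p := 15550) (l := 7) rfl N15550 D50558
theorem N31102 : nd 31102 = n50559 := ndS (p := 15552) (l := 3) rfl N15552 D50559
theorem N31103 : nd 31103 = n50562 := ndS (p := 15553) (l := 4) rfl N15553 D50562
theorem N31104 : nd 31104 = n50566 := ndS (p := 15554) (l := 3) rfl N15554 D50566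
theorem N31105 : nd 31105 = n50567 := ndS (p := 15554) (l := 4) rfl N15554 D50567
theorem N31106 : nd 31106 = n50576 := ndS (p := 15556) (l := 5) rfl N15556 D50576
theorem N31107 : nd 31107 = n50581 := ndS (p := 15557) (l := 3) rfl N15557 D50581
theorem N31108 : nd 31108 = n50584 := ndS (p := 15559) (l := 3) rfl N15559 D50584
theorem N31109 : nd 31109 = n50585 := ndS (p := 15560) (l := 0) rfl N15560 D50585
theorem N31110 : nd 31110 = n50586 := ndS (p := 15560) (l := 1) rfl N15560 D50586
theorem N31111 : nd 31111 = n50587 := ndS (p := 15560) (l := 3) rfl N15560 D50587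
theorem N31112 : nd 31112 = n50588 := ndS (p := 15560) (l := 5) rfl N15560 D50588
theorem N31113 : nd 31113 = n50589 := ndS (p := 15560) (l := 7) rfl N15560 D50589
theorem N31114 : nd 31114 = n50590 := ndS (p := 15562) (l := 0) rfl N15562 D50590
theorem N31115 : nd 31115 = n50591 := ndS (p := 15562) (l := 1) rfl N15562 D50591
theorem N31116 : nd 31116 = n50592 := ndS (p := 15562) (l := 2) rfl N15562 D50592
theorem N31117 : nd 31117 = n50593 := ndS (p := 15563) (l := 3) rfl N15563 D50593
theorem N31118 : nd 31118 = n50594 := ndS (p := 15563) (l := 5) rfl N15563 D50594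
theorem N31119 : nd 31119 = n50595 := ndS (p := 15563) (l := 6) rfl N15563 D50595
theorem N31120 : nd 31120 = n50596 := ndS (p := 15564) (l := 0) rfl N15564 D50596
theorem N31121 : nd 31121 = n50597 := ndS (p := 15564) (l := 1) rfl N15564 D50597
theorem N31122 : nd 31122 = n50598 := ndS (p := 15564) (l := 7) rfl N15564 D50598
theorem N31123 : nd 31123 = n50599 := ndS (p := 15565) (l := 3) rfl N15565 D50599
theorem N31124 : nd 31124 = n50600 := ndS (p := 15565) (l := 6) rfl N15565 D50600
theorem N31125 : nd 31125 = n50601 := ndS (p := 15566) (l := 3) rfl N15566 D50601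
theorem N31126 : nd 31126 = n50602 := ndS (p := 15567) (l := 0) rfl N15567 D50602
theorem N31127 : nd 31127 = n50603 := ndS (p := 15567) (l := 1) rfl N15567 D50603
theorem N31128 : nd 31128 = n50604 := ndS (p := 15567) (l := 2) rfl N15567 D50604
theorem N31129 : nd 31129 = n50605 := ndS (p := 15567) (l := 5) rfl N15567 D50605
theorem N31130 : nd 31130 = n50606 := ndS (p := 15567) (l := 6) rfl N15567 D50606
theorem N31131 : nd 31131 = n50607 := ndS (p := 15568) (l := 0) rfl N15568 D50607
theorem N31132 : nd 31132 = n50608 := ndS (p := 15568) (l := 1) rfl N15568 D50608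
theorem N31133 : nd 31133 = n50609 := ndS (p := 15568) (l := 6) rfl N15568 D50609
theorem N31134 : nd 31134 = n50610 := ndS (p := 15569) (l := 0) rfl N15569 D50610
theorem N31135 : nd 31135 = n50611 := ndS (p := 15569) (l := 1) rfl N15569 D50611
theorem N31136 : nd 31136 = n50612 := ndS (p := 15569) (l := 5) rfl N15569 D50612
theorem N31137 : nd 31137 = n50613 := ndS (p := 15569) (l := 7) rfl N15569 D50613
theorem N31138 : nd 31138 = n50615 := ndS (p := 15570) (l := 3) rfl N15570 D50615
theorem N31139 : nd 31139 = n50616 := ndS (p := 15570) (l := 4) rfl N15570 D50616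
theorem N31140 : nd 31140 = n50617 := ndS (p := 15570) (l := 5) rfl N15570 D50617
theorem N31141 : nd 31141 = n50618 := ndS (p := 15570) (l := 6) rfl N15570 D50618
theorem N31142 : nd 31142 = n50621 := ndS (p := 15571) (l := 4) rfl N15571 D50621
theorem N31143 : nd 31143 = n50622 := ndS (p := 15571) (l := 6) rfl N15571 D50622
theorem N31144 : nd 31144 = n50623 := ndS (p := 15572) (l := 4) rfl N15572 D50623
theorem N31145 : nd 31145 = n50626 := ndS (p := 15574) (l := 4) rfl N15574 D50626
theorem N31146 : nd 31146 = n50628 := ndS (p := 15574) (l := 6) rfl N15574 D50628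
theorem N31147 : nd 31147 = n50630 := ndS (p := 15575) (l := 3) rfl N15575 D50630
theorem N31148 : nd 31148 = n50631 := ndS (p := 15575) (l := 4) rfl N15575 D50631
theorem N31149 : nd 31149 = n50644 := ndS (p := 15580) (l := 0) rfl N15580 D50644
theorem N31150 : nd 31150 = n50651 := ndS (p := 15582) (l := 4) rfl N15582 D50651
theorem N31151 : nd 31151 = n50652 := ndS (p := 15582) (l := 5) rfl N15582 D50652
theorem N31152 : nd 31152 = n50655 := ndS (p := 15583) (l := 4) rfl N15583 D50655
theorem N31153 : nd 31153 = n50664 := ndS (p := 15585) (l := 3) rfl N15585 D50664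
theorem N31154 : nd 31154 = n50665 := ndS (p := 15585) (l := 5) rfl N15585 D50665
theorem N31155 : nd 31155 = n50666 := ndS (p := 15586) (l := 3) rfl N15586 D50666
theorem N31156 : nd 31156 = n50667 := ndS (p := 15586) (l := 5) rfl N15586 D50667
theorem N31157 : nd 31157 = n50668 := ndS (p := 15586) (l := 6) rfl N15586 D50668
theorem N31158 : nd 31158 = n50669 := ndS (p := 15587) (l := 0) rfl N15587 D50669
theorem N31159 : nd 31159 = n50671 := ndS (p := 15587) (l := 7) rfl N15587 D50671
theorem N31160 : nd 31160 = n50672 := ndS (p := 15588) (l := 3) rfl N15588 D50672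
theorem N31161 : nd 31161 = n50673 := ndS (p := 15589) (l := 3) rfl N15589 D50673
theorem N31162 : nd 31162 = n50674 := ndS (p := 15589) (l := 6) rfl N15589 D50674
theorem N31163 : nd 31163 = n50675 := ndS (p := 15590) (l := 0) rfl N15590 D50675
theorem N31164 : nd 31164 = n50676 := ndS (p := 15590) (l := 1) rfl N15590 D50676
theorem N31165 : nd 31165 = n50677 := ndS (p := 15590) (l := 2) rfl N15590 D50677
theorem N31166 : nd 31166 = n50678 := ndS (p := 15590) (l := 5) rfl N15590 D50678
theorem N31167 : nd 31167 = n50680 := ndS (p := 15591) (l := 0) rfl N15591 D50680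
theorem N31168 : nd 31168 = n50681 := ndS (p := 15591) (l := 1) rfl N15591 D50681
theorem N31169 : nd 31169 = n50682 := ndS (p := 15591) (l := 4) rfl N15591 D50682
theorem N31170 : nd 31170 = n50683 := ndS (p := 15591) (l := 6) rfl N15591 D50683
theorem N31171 : nd 31171 = n50684 := ndS (p := 15592) (l := 0) rfl N15592 D50684
theorem N31172 : nd 31172 = n50685 := ndS (p := 15592) (l := 1) rfl N15592 D50685
theorem N31173 : nd 31173 = n50686 := ndS (p := 15592) (l := 5) rfl N15592 D50686
theorem N31174 : nd 31174 = n50687 := ndS (p := 15592) (l := 7) rfl N15592 D50687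
theorem N31175 : nd 31175 = n50690 := ndS (p := 15593) (l := 4) rfl N15593 D50690
theorem N31176 : nd 31176 = n50691 := ndS (p := 15593) (l := 6) rfl N15593 D50691
theorem N31177 : nd 31177 = n50693 := ndS (p := 15594) (l := 3) rfl N15594 D50693
theorem N31178 : nd 31178 = n50694 := ndS (p := 15594) (l := 4) rfl N15594 D50694
theorem N31179 : nd 31179 = n50699 := ndS (p := 15596) (l := 4) rfl N15596 D50699
theorem N31180 : nd 31180 = n50704 := ndS (p := 15597) (l := 4) rfl N15597 D50704
theorem N31181 : nd 31181 = n50706 := ndS (p := 15597) (l := 6) rfl N15597 D50706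
theorem N31182 : nd 31182 = n50732 := ndS (p := 15603) (l := 4) rfl N15603 D50732
theorem N31183 : nd 31183 = n50736 := ndS (p := 15604) (l := 3) rfl N15604 D50736
theorem N31184 : nd 31184 = n50737 := ndS (p := 15604) (l := 4) rfl N15604 D50737
theorem N31185 : nd 31185 = n50739 := ndS (p := 15604) (l := 6) rfl N15604 D50739
theorem N31186 : nd 31186 = n50741 := ndS (p := 15605) (l := 3) rfl N15605 D50741
theorem N31187 : nd 31187 = n50742 := ndS (p := 15605) (l := 4) rfl N15605 D50742
theorem N31188 : nd 31188 = n50745 := ndS (p := 15606) (l := 4) rfl N15606 D50745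
theorem N31189 : nd 31189 = n50747 := ndS (p := 15607) (l := 0) rfl N15607 D50747
theorem N31190 : nd 31190 = n50748 := ndS (p := 15607) (l := 1) rfl N15607 D50748
theorem N31191 : nd 31191 = n50749 := ndS (p := 15607) (l := 5) rfl N15607 D50749
theorem N31192 : nd 31192 = n50783 := ndS (p := 15608) (l := 6) rfl N15608 D50783
theorem N31193 : nd 31193 = n50786 := ndS (p := 15609) (l := 3) rfl N15609 D50786
theorem N31194 : nd 31194 = n50787 := ndS (p := 15609) (l := 4) rfl N15609 D50787
theorem N31195 : nd 31195 = n50788 := ndS (p := 15609) (l := 5) rfl N15609 D50788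
theorem N31196 : nd 31196 = n50789 := ndS (p := 15609) (l := 6) rfl N15609 D50789
theorem N31197 : nd 31197 = n50791 := ndS (p := 15610) (l := 1) rfl N15610 D50791
theorem N31198 : nd 31198 = n50792 := ndS (p := 15610) (l := 2) rfl N15610 D50792
theorem N31199 : nd 31199 = n50793 := ndS (p := 15610) (l := 4) rfl N15610 D50793
theorem N31200 : nd 31200 = n50794 := ndS (p := 15610) (l := 5) rfl N15610 D50794
theorem N31201 : nd 31201 = n50797 := ndS (p := 15611) (l := 0) rfl N15611 D50797
theorem N31202 : nd 31202 = n50798 := ndS (p := 15611) (l := 1) rfl N15611 D50798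
theorem N31203 : nd 31203 = n50799 := ndS (p := 15611) (l := 3) rfl N15611 D50799
theorem N31204 : nd 31204 = n50800 := ndS (p := 15611) (l := 5) rfl N15611 D50800
theorem N31205 : nd 31205 = n50801 := ndS (p := 15611) (l := 6) rfl N15611 D50801
theorem N31206 : nd 31206 = n50802 := ndS (p := 15611) (l := 7) rfl N15611 D50802
theorem N31207 : nd 31207 = n50803 := ndS (p := 15612) (l := 0) rfl N15612 D50803
theorem N31208 : nd 31208 = n50805 := ndS (p := 15612) (l := 4) rfl N15612 D50805
theorem N31209 : nd 31209 = n50806 := ndS (p := 15612) (l := 6) rfl N15612 D50806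
theorem N31210 : nd 31210 = n50807 := ndS (p := 15612) (l := 7) rfl N15612 D50807
theorem N31211 : nd 31211 = n50808 := ndS (p := 15613) (l := 0) rfl N15613 D50808
theorem N31212 : nd 31212 = n50811 := ndS (p := 15613) (l := 7) rfl N15613 D50811
theorem N31213 : nd 31213 = n50813 := ndS (p := 15615) (l := 0) rfl N15615 D50813
theorem N31214 : nd 31214 = n50816 := ndS (p := 15615) (l := 4) rfl N15615 D50816
theorem N31215 : nd 31215 = n50819 := ndS (p := 15616) (l := 3) rfl N15616 D50819
theorem N31216 : nd 31216 = n50820 := ndS (p := 15616) (l := 5) rfl N15616 D50820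
theorem N31217 : nd 31217 = n50821 := ndS (p := 15616) (l := 6) rfl N15616 D50821
theorem N31218 : nd 31218 = n50822 := ndS (p := 15617) (l := 4) rfl N15617 D50822
theorem N31219 : nd 31219 = n50838 := ndS (p := 15619) (l := 4) rfl N15619 D50838
theorem N31220 : nd 31220 = n50839 := ndS (p := 15619) (l := 6) rfl N15619 D50839
theorem N31221 : nd 31221 = n50842 := ndS (p := 15620) (l := 4) rfl N15620 D50842
theorem N31222 : nd 31222 = n50846 := ndS (p := 15621) (l := 3) rfl N15621 D50846
theorem N31223 : nd 31223 = n50847 := ndS (p := 15621) (l := 4) rfl N15621 D50847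
theorem N31224 : nd 31224 = n50849 := ndS (p := 15621) (l := 6) rfl N15621 D50849
theorem N31225 : nd 31225 = n50850 := ndS (p := 15622) (l := 0) rfl N15622 D50850
theorem N31226 : nd 31226 = n50851 := ndS (p := 15622) (l := 1) rfl N15622 D50851
theorem N31227 : nd 31227 = n50852 := ndS (p := 15622) (l := 5) rfl N15622 D50852
theorem N31228 : nd 31228 = n50853 := ndS (p := 15622) (l := 6) rfl N15622 D50853
theorem N31229 : nd 31229 = n50854 := ndS (p := 15623) (l := 0) rfl N15623 D50854
theorem N31230 : nd 31230 = n50855 := ndS (p := 15623) (l := 1) rfl N15623 D50855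
theorem N31231 : nd 31231 = n50856 := ndS (p := 15624) (l := 0) rfl N15624 D50856
theorem N31232 : nd 31232 = n50857 := ndS (p := 15624) (l := 1) rfl N15624 D50857
theorem N31233 : nd 31233 = n50864 := ndS (p := 15626) (l := 5) rfl N15626 D50864
theorem N31234 : nd 31234 = n50869 := ndS (p := 15627) (l := 4) rfl N15627 D50869
theorem N31235 : nd 31235 = n50870 := ndS (p := 15627) (l := 5) rfl N15627 D50870
theorem N31236 : nd 31236 = n50871 := ndS (p := 15627) (l := 6) rfl N15627 D50871
theorem N31237 : nd 31237 = n50873 := ndS (p := 15628) (l := 3) rfl N15628 D50873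
theorem N31238 : nd 31238 = n50874 := ndS (p := 15628) (l := 5) rfl N15628 D50874
theorem N31239 : nd 31239 = n50875 := ndS (p := 15628) (l := 6) rfl N15628 D50875
theorem N31240 : nd 31240 = n50876 := ndS (p := 15629) (l := 4) rfl N15629 D50876
theorem N31241 : nd 31241 = n50877 := ndS (p := 15632) (l := 1) rfl N15632 D50877
theorem N31242 : nd 31242 = n50878 := ndS (p := 15632) (l := 2) rfl N15632 D50878
theorem N31243 : nd 31243 = n50879 := ndS (p := 15633) (l := 4) rfl N15633 D50879
theorem N31244 : nd 31244 = n50880 := ndS (p := 15633) (l := 6) rfl N15633 D50880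
theorem N31245 : nd 31245 = n50881 := ndS (p := 15634) (l := 6) rfl N15634 D50881
theorem N31246 : nd 31246 = n50882 := ndS (p := 15635) (l := 6) rfl N15635 D50882
theorem N31247 : nd 31247 = n50883 := ndS (p := 15636) (l := 3) rfl N15636 D50883
theorem N31248 : nd 31248 = n50884 := ndS (p := 15636) (l := 5) rfl N15636 D50884
theorem N31249 : nd 31249 = n50885 := ndS (p := 15636) (l := 6) rfl N15636 D50885
theorem N31250 : nd 31250 = n50886 := ndS (p := 15637) (l := 0) rfl N15637 D50886
theorem N31251 : nd 31251 = n50888 := ndS (p := 15638) (l := 3) rfl N15638 D50888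
theorem N31252 : nd 31252 = n50889 := ndS (p := 15638) (l := 5) rfl N15638 D50889
theorem N31253 : nd 31253 = n50890 := ndS (p := 15638) (l := 6) rfl N15638 D50890
theorem N31254 : nd 31254 = n50891 := ndS (p := 15639) (l := 0) rfl N15639 D50891
theorem N31255 : nd 31255 = n50892 := ndS (p := 15639) (l := 1) rfl N15639 D50892
theorem N31256 : nd 31256 = n50893 := ndS (p := 15639) (l := 7) rfl N15639 D50893
theorem N31257 : nd 31257 = n50894 := ndS (p := 15642) (l := 6) rfl N15642 D50894
theorem N31258 : nd 31258 = n50895 := ndS (p := 15643) (l := 3) rfl N15643 D50895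
theorem N31259 : nd 31259 = n50896 := ndS (p := 15643) (l := 5) rfl N15643 D50896
theorem N31260 : nd 31260 = n50897 := ndS (p := 15643) (l := 6) rfl N15643 D50897
theorem N31261 : nd 31261 = n50898 := ndS (p := 15644) (l := 0) rfl N15644 D50898
theorem N31262 : nd 31262 = n50899 := ndS (p := 15644) (l := 1) rfl N15644 D50899
theorem N31263 : nd 31263 = n50900 := ndS (p := 15644) (l := 7) rfl N15644 D50900
theorem N31264 : nd 31264 = n50901 := ndS (p := 15645) (l := 4) rfl N15645 D50901
theorem N31265 : nd 31265 = n50902 := ndS (p := 15645) (l := 6) rfl N15645 D50902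
theorem N31266 : nd 31266 = n50903 := ndS (p := 15646) (l := 3) rfl N15646 D50903
theorem N31267 : nd 31267 = n50904 := ndS (p := 15646) (l := 5) rfl N15646 D50904
theorem N31268 : nd 31268 = n50905 := ndS (p := 15646) (l := 6) rfl N15646 D50905
theorem N31269 : nd 31269 = n50906 := ndS (p := 15647) (l := 1) rfl N15647 D50906
theorem N31270 : nd 31270 = n50907 := ndS (p := 15647) (l := 7) rfl N15647 D50907
theorem N31271 : nd 31271 = n50908 := ndS (p := 15648) (l := 3) rfl N15648 D50908
theorem N31272 : nd 31272 = n50909 := ndS (p := 15648) (l := 5) rfl N15648 D50909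
theorem N31273 : nd 31273 = n50910 := ndS (p := 15648) (l := 6) rfl N15648 D50910
theorem N31274 : nd 31274 = n50911 := ndS (p := 15649) (l := 3) rfl N15649 D50911
theorem N31275 : nd 31275 = n50912 := ndS (p := 15649) (l := 5) rfl N15649 D50912
theorem N31276 : nd 31276 = n50913 := ndS (p := 15649) (l := 6) rfl N15649 D50913
theorem N31277 : nd 31277 = n50914 := ndS (p := 15650) (l := 0) rfl N15650 D50914
theorem N31278 : nd 31278 = n50915 := ndS (p := 15650) (l := 1) rfl N15650 D50915
theorem N31279 : nd 31279 = n50917 := ndS (p := 15650) (l := 5) rfl N15650 D50917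
theorem N31280 : nd 31280 = n50919 := ndS (p := 15651) (l := 0) rfl N15651 D50919
theorem N31281 : nd 31281 = n50920 := ndS (p := 15651) (l := 1) rfl N15651 D50920
theorem N31282 : nd 31282 = n50921 := ndS (p := 15651) (l := 4) rfl N15651 D50921
theorem N31283 : nd 31283 = n50922 := ndS (p := 15651) (l := 6) rfl N15651 D50922
theorem N31284 : nd 31284 = n50923 := ndS (p := 15652) (l := 0) rfl N15652 D50923
theorem N31285 : nd 31285 = n50924 := ndS (p := 15652) (l := 1) rfl N15652 D50924
theorem N31286 : nd 31286 = n50928 := ndS (p := 15653) (l := 3) rfl N15653 D50928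
theorem N31287 : nd 31287 = n50929 := ndS (p := 15653) (l := 4) rfl N15653 D50929
theorem N31288 : nd 31288 = n50930 := ndS (p := 15653) (l := 5) rfl N15653 D50930
theorem N31289 : nd 31289 = n50932 := ndS (p := 15654) (l := 3) rfl N15654 D50932
theorem N31290 : nd 31290 = n50933 := ndS (p := 15654) (l := 4) rfl N15654 D50933
theorem N31291 : nd 31291 = n50934 := ndS (p := 15654) (l := 5) rfl N15654 D50934
theorem N31292 : nd 31292 = n50935 := ndS (p := 15654) (l := 6) rfl N15654 D50935
theorem N31293 : nd 31293 = n50936 := ndS (p := 15656) (l := 5) rfl N15656 D50936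
theorem N31294 : nd 31294 = n50937 := ndS (p := 15659) (l := 3) rfl N15659 D50937
theorem N31295 : nd 31295 = n50938 := ndS (p := 15659) (l := 5) rfl N15659 D50938
theorem N31296 : nd 31296 = n50939 := ndS (p := 15659) (l := 6) rfl N15659 D50939
theorem N31297 : nd 31297 = n50940 := ndS (p := 15660) (l := 0) rfl N15660 D50940
theorem N31298 : nd 31298 = n50941 := ndS (p := 15660) (l := 1) rfl N15660 D50941
theorem N31299 : nd 31299 = n50942 := ndS (p := 15660) (l := 7) rfl N15660 D50942
theorem N31300 : nd 31300 = n50945 := ndS (p := 15661) (l := 2) rfl N15661 D50945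
theorem N31301 : nd 31301 = n50946 := ndS (p := 15661) (l := 6) rfl N15661 D50946
theorem N31302 : nd 31302 = n50947 := ndS (p := 15662) (l := 0) rfl N15662 D50947
theorem N31303 : nd 31303 = n50948 := ndS (p := 15662) (l := 1) rfl N15662 D50948
theorem N31304 : nd 31304 = n50949 := ndS (p := 15662) (l := 7) rfl N15662 D50949
theorem N31305 : nd 31305 = n50950 := ndS (p := 15663) (l := 3) rfl N15663 D50950
theorem N31306 : nd 31306 = n50952 := ndS (p := 15666) (l := 3) rfl N15666 D50952
theorem N31307 : nd 31307 = n50953 := ndS (p := 15666) (l := 6) rfl N15666 D50953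
theorem N31308 : nd 31308 = n50957 := ndS (p := 15668) (l := 6) rfl N15668 D50957
theorem N31309 : nd 31309 = n50958 := ndS (p := 15669) (l := 5) rfl N15669 D50958
theorem N31310 : nd 31310 = n50960 := ndS (p := 15670) (l := 3) rfl N15670 D50960
theorem N31311 : nd 31311 = n50965 := ndS (p := 15671) (l := 3) rfl N15671 D50965
theorem N31312 : nd 31312 = n50979 := ndS (p := 15672) (l := 4) rfl N15672 D50979
theorem N31313 : nd 31313 = n50984 := ndS (p := 15674) (l := 4) rfl N15674 D50984
theorem N31314 : nd 31314 = n50985 := ndS (p := 15674) (l := 6) rfl N15674 D50985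
theorem N31315 : nd 31315 = n50987 := ndS (p := 15675) (l := 6) rfl N15675 D50987
theorem N31316 : nd 31316 = n50988 := ndS (p := 15679) (l := 6) rfl N15679 D50988
theorem N31317 : nd 31317 = n50989 := ndS (p := 15680) (l := 3) rfl N15680 D50989
theorem N31318 : nd 31318 = n50990 := ndS (p := 15680) (l := 5) rfl N15680 D50990
theorem N31319 : nd 31319 = n50991 := ndS (p := 15680) (l := 6) rfl N15680 D50991
theorem N31320 : nd 31320 = n50992 := ndS (p := 15682) (l := 3) rfl N15682 D50992
theorem N31321 : nd 31321 = n50993 := ndS (p := 15682) (l := 5) rfl N15682 D50993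
theorem N31322 : nd 31322 = n50994 := ndS (p := 15682) (l := 6) rfl N15682 D50994
theorem N31323 : nd 31323 = n50995 := ndS (p := 15686) (l := 6) rfl N15686 D50995
theorem N31324 : nd 31324 = n50996 := ndS (p := 15687) (l := 0) rfl N15687 D50996
theorem N31325 : nd 31325 = n50997 := ndS (p := 15687) (l := 3) rfl N15687 D50997
theorem N31326 : nd 31326 = n50998 := ndS (p := 15687) (l := 5) rfl N15687 D50998
theorem N31327 : nd 31327 = n50999 := ndS (p := 15687) (l := 6) rfl N15687 D50999
theorem N31328 : nd 31328 = n51001 := ndS (p := 15689) (l := 6) rfl N15689 D51001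
theorem N31329 : nd 31329 = n51002 := ndS (p := 15690) (l := 3) rfl N15690 D51002
theorem N31330 : nd 31330 = n51003 := ndS (p := 15690) (l := 5) rfl N15690 D51003
theorem N31331 : nd 31331 = n51004 := ndS (p := 15690) (l := 6) rfl N15690 D51004
theorem N31332 : nd 31332 = n51006 := ndS (p := 15691) (l := 1) rfl N15691 D51006
theorem N31333 : nd 31333 = n51007 := ndS (p := 15691) (l := 7) rfl N15691 D51007
theorem N31334 : nd 31334 = n51008 := ndS (p := 15692) (l := 3) rfl N15692 D51008
theorem N31335 : nd 31335 = n51009 := ndS (p := 15692) (l := 5) rfl N15692 D51009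
theorem N31336 : nd 31336 = n51010 := ndS (p := 15692) (l := 6) rfl N15692 D51010
theorem N31337 : nd 31337 = n51011 := ndS (p := 15693) (l := 3) rfl N15693 D51011
theorem N31338 : nd 31338 = n51012 := ndS (p := 15693) (l := 5) rfl N15693 D51012
theorem N31339 : nd 31339 = n51013 := ndS (p := 15693) (l := 6) rfl N15693 D51013
theorem N31340 : nd 31340 = n51014 := ndS (p := 15694) (l := 0) rfl N15694 D51014
theorem N31341 : nd 31341 = n51015 := ndS (p := 15694) (l := 1) rfl N15694 D51015
theorem N31342 : nd 31342 = n51016 := ndS (p := 15694) (l := 2) rfl N15694 D51016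
theorem N31343 : nd 31343 = n51017 := ndS (p := 15694) (l := 5) rfl N15694 D51017
theorem N31344 : nd 31344 = n51019 := ndS (p := 15695) (l := 0) rfl N15695 D51019
theorem N31345 : nd 31345 = n51020 := ndS (p := 15695) (l := 4) rfl N15695 D51020
theorem N31346 : nd 31346 = n51021 := ndS (p := 15695) (l := 6) rfl N15695 D51021
theorem N31347 : nd 31347 = n51022 := ndS (p := 15696) (l := 0) rfl N15696 D51022
theorem N31348 : nd 31348 = n51024 := ndS (p := 15696) (l := 5) rfl N15696 D51024
theorem N31349 : nd 31349 = n51025 := ndS (p := 15696) (l := 7) rfl N15696 D51025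
theorem N31350 : nd 31350 = n51026 := ndS (p := 15697) (l := 3) rfl N15697 D51026
theorem N31351 : nd 31351 = n51027 := ndS (p := 15697) (l := 4) rfl N15697 D51027
theorem N31352 : nd 31352 = n51029 := ndS (p := 15702) (l := 3) rfl N15702 D51029
theorem N31353 : nd 31353 = n51034 := ndS (p := 15703) (l := 3) rfl N15703 D51034
theorem N31354 : nd 31354 = n51035 := ndS (p := 15703) (l := 4) rfl N15703 D51035
theorem N31355 : nd 31355 = n51047 := ndS (p := 15706) (l := 4) rfl N15706 D51047
theorem N31356 : nd 31356 = n51050 := ndS (p := 15711) (l := 3) rfl N15711 D51050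
theorem N31357 : nd 31357 = n51051 := ndS (p := 15711) (l := 5) rfl N15711 D51051
theorem N31358 : nd 31358 = n51052 := ndS (p := 15712) (l := 0) rfl N15712 D51052
theorem N31359 : nd 31359 = n51053 := ndS (p := 15712) (l := 1) rfl N15712 D51053
theorem N31360 : nd 31360 = n51054 := ndS (p := 15712) (l := 2) rfl N15712 D51054
theorem N31361 : nd 31361 = n51055 := ndS (p := 15713) (l := 0) rfl N15713 D51055
theorem N31362 : nd 31362 = n51056 := ndS (p := 15714) (l := 0) rfl N15714 D51056
theorem N31363 : nd 31363 = n51057 := ndS (p := 15714) (l := 3) rfl N15714 D51057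
theorem N31364 : nd 31364 = n51058 := ndS (p := 15714) (l := 5) rfl N15714 D51058
theorem N31365 : nd 31365 = n51059 := ndS (p := 15714) (l := 7) rfl N15714 D51059
theorem N31366 : nd 31366 = n51060 := ndS (p := 15715) (l := 5) rfl N15715 D51060
theorem N31367 : nd 31367 = n51061 := ndS (p := 15715) (l := 6) rfl N15715 D51061
theorem N31368 : nd 31368 = n51062 := ndS (p := 15716) (l := 5) rfl N15716 D51062
theorem N31369 : nd 31369 = n51063 := ndS (p := 15717) (l := 0) rfl N15717 D51063
theorem N31370 : nd 31370 = n51064 := ndS (p := 15717) (l := 1) rfl N15717 D51064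
theorem N31371 : nd 31371 = n51065 := ndS (p := 15717) (l := 4) rfl N15717 D51065
theorem N31372 : nd 31372 = n51066 := ndS (p := 15717) (l := 6) rfl N15717 D51066
theorem N31373 : nd 31373 = n51067 := ndS (p := 15717) (l := 7) rfl N15717 D51067
theorem N31374 : nd 31374 = n51068 := ndS (p := 15719) (l := 3) rfl N15719 D51068
theorem N31375 : nd 31375 = n51069 := ndS (p := 15719) (l := 6) rfl N15719 D51069
theorem N31376 : nd 31376 = n51070 := ndS (p := 15720) (l := 0) rfl N15720 D51070
theorem N31377 : nd 31377 = n51071 := ndS (p := 15720) (l := 1) rfl N15720 D51071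
theorem N31378 : nd 31378 = n51072 := ndS (p := 15720) (l := 7) rfl N15720 D51072
theorem N31379 : nd 31379 = n51073 := ndS (p := 15721) (l := 6) rfl N15721 D51073
theorem N31380 : nd 31380 = n51074 := ndS (p := 15722) (l := 0) rfl N15722 D51074
theorem N31381 : nd 31381 = n51075 := ndS (p := 15723) (l := 4) rfl N15723 D51075
theorem N31382 : nd 31382 = n51076 := ndS (p := 15723) (l := 6) rfl N15723 D51076
theorem N31383 : nd 31383 = n51077 := ndS (p := 15725) (l := 6) rfl N15725 D51077
theorem N31384 : nd 31384 = n51078 := ndS (p := 15726) (l := 3) rfl N15726 D51078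
theorem N31385 : nd 31385 = n51079 := ndS (p := 15726) (l := 5) rfl N15726 D51079
theorem N31386 : nd 31386 = n51080 := ndS (p := 15727) (l := 6) rfl N15727 D51080
theorem N31387 : nd 31387 = n51081 := ndS (p := 15728) (l := 7) rfl N15728 D51081
theorem N31388 : nd 31388 = n51082 := ndS (p := 15730) (l := 4) rfl N15730 D51082
theorem N31389 : nd 31389 = n51083 := ndS (p := 15730) (l := 6) rfl N15730 D51083
theorem N31390 : nd 31390 = n51084 := ndS (p := 15732) (l := 6) rfl N15732 D51084
theorem N31391 : nd 31391 = n51085 := ndS (p := 15733) (l := 3) rfl N15733 D51085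
theorem N31392 : nd 31392 = n51086 := ndS (p := 15733) (l := 5) rfl N15733 D51086
theorem N31393 : nd 31393 = n51087 := ndS (p := 15734) (l := 6) rfl N15734 D51087
theorem N31394 : nd 31394 = n51088 := ndS (p := 15735) (l := 6) rfl N15735 D51088
theorem N31395 : nd 31395 = n51089 := ndS (p := 15737) (l := 6) rfl N15737 D51089
theorem N31396 : nd 31396 = n51090 := ndS (p := 15738) (l := 3) rfl N15738 D51090
theorem N31397 : nd 31397 = n51091 := ndS (p := 15738) (l := 5) rfl N15738 D51091
theorem N31398 : nd 31398 = n51092 := ndS (p := 15739) (l := 6) rfl N15739 D51092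
theorem N31399 : nd 31399 = n51093 := ndS (p := 15740) (l := 6) rfl N15740 D51093
theorem N31400 : nd 31400 = n51094 := ndS (p := 15741) (l := 6) rfl N15741 D51094
theorem N31401 : nd 31401 = n51095 := ndS (p := 15742) (l := 3) rfl N15742 D51095
theorem N31402 : nd 31402 = n51096 := ndS (p := 15742) (l := 5) rfl N15742 D51096
theorem N31403 : nd 31403 = n51097 := ndS (p := 15743) (l := 6) rfl N15743 D51097
theorem N31404 : nd 31404 = n51098 := ndS (p := 15744) (l := 4) rfl N15744 D51098
theorem N31405 : nd 31405 = n51099 := ndS (p := 15744) (l := 6) rfl N15744 D51099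
theorem N31406 : nd 31406 = n51100 := ndS (p := 15746) (l := 6) rfl N15746 D51100
theorem N31407 : nd 31407 = n51101 := ndS (p := 15747) (l := 3) rfl N15747 D51101
theorem N31408 : nd 31408 = n51102 := ndS (p := 15747) (l := 5) rfl N15747 D51102
theorem N31409 : nd 31409 = n51103 := ndS (p := 15747) (l := 6) rfl N15747 D51103
theorem N31410 : nd 31410 = n51104 := ndS (p := 15748) (l := 0) rfl N15748 D51104
theorem N31411 : nd 31411 = n51105 := ndS (p := 15748) (l := 1) rfl N15748 D51105
theorem N31412 : nd 31412 = n51106 := ndS (p := 15748) (l := 7) rfl N15748 D51106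
theorem N31413 : nd 31413 = n51107 := ndS (p := 15750) (l := 6) rfl N15750 D51107
theorem N31414 : nd 31414 = n51108 := ndS (p := 15752) (l := 4) rfl N15752 D51108
theorem N31415 : nd 31415 = n51109 := ndS (p := 15752) (l := 6) rfl N15752 D51109
theorem N31416 : nd 31416 = n51110 := ndS (p := 15754) (l := 3) rfl N15754 D51110
theorem N31417 : nd 31417 = n51111 := ndS (p := 15754) (l := 5) rfl N15754 D51111
theorem N31418 : nd 31418 = n51112 := ndS (p := 15754) (l := 6) rfl N15754 D51112
theorem N31419 : nd 31419 = n51114 := ndS (p := 15755) (l := 1) rfl N15755 D51114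
theorem N31420 : nd 31420 = n51115 := ndS (p := 15755) (l := 7) rfl N15755 D51115
theorem N31421 : nd 31421 = n51116 := ndS (p := 15757) (l := 3) rfl N15757 D51116
theorem N31422 : nd 31422 = n51117 := ndS (p := 15757) (l := 5) rfl N15757 D51117
theorem N31423 : nd 31423 = n51118 := ndS (p := 15757) (l := 6) rfl N15757 D51118
theorem N31424 : nd 31424 = n51119 := ndS (p := 15758) (l := 0) rfl N15758 D51119
theorem N31425 : nd 31425 = n51120 := ndS (p := 15758) (l := 1) rfl N15758 D51120
theorem N31426 : nd 31426 = n51121 := ndS (p := 15758) (l := 5) rfl N15758 D51121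
theorem N31427 : nd 31427 = n51122 := ndS (p := 15758) (l := 7) rfl N15758 D51122
theorem N31428 : nd 31428 = n51123 := ndS (p := 15759) (l := 6) rfl N15759 D51123
theorem N31429 : nd 31429 = n51124 := ndS (p := 15760) (l := 3) rfl N15760 D51124
theorem N31430 : nd 31430 = n51125 := ndS (p := 15760) (l := 5) rfl N15760 D51125
theorem N31431 : nd 31431 = n51126 := ndS (p := 15760) (l := 6) rfl N15760 D51126
theorem N31432 : nd 31432 = n51127 := ndS (p := 15761) (l := 0) rfl N15761 D51127
theorem N31433 : nd 31433 = n51128 := ndS (p := 15761) (l := 1) rfl N15761 D51128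
theorem N31434 : nd 31434 = n51129 := ndS (p := 15761) (l := 5) rfl N15761 D51129
theorem N31435 : nd 31435 = n51130 := ndS (p := 15761) (l := 7) rfl N15761 D51130
theorem N31436 : nd 31436 = n51131 := ndS (p := 15762) (l := 3) rfl N15762 D51131
theorem N31437 : nd 31437 = n51132 := ndS (p := 15762) (l := 5) rfl N15762 D51132
theorem N31438 : nd 31438 = n51133 := ndS (p := 15762) (l := 6) rfl N15762 D51133
theorem N31439 : nd 31439 = n51134 := ndS (p := 15763) (l := 0) rfl N15763 D51134
theorem N31440 : nd 31440 = n51135 := ndS (p := 15763) (l := 1) rfl N15763 D51135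
theorem N31441 : nd 31441 = n51136 := ndS (p := 15763) (l := 2) rfl N15763 D51136
theorem N31442 : nd 31442 = n51137 := ndS (p := 15763) (l := 5) rfl N15763 D51137
theorem N31443 : nd 31443 = n51138 := ndS (p := 15763) (l := 7) rfl N15763 D51138
theorem N31444 : nd 31444 = n51139 := ndS (p := 15764) (l := 1) rfl N15764 D51139
theorem N31445 : nd 31445 = n51140 := ndS (p := 15764) (l := 4) rfl N15764 D51140
theorem N31446 : nd 31446 = n51141 := ndS (p := 15764) (l := 6) rfl N15764 D51141
theorem N31447 : nd 31447 = n51142 := ndS (p := 15764) (l := 7) rfl N15764 D51142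
theorem N31448 : nd 31448 = n51143 := ndS (p := 15765) (l := 6) rfl N15765 D51143
theorem N31449 : nd 31449 = n51144 := ndS (p := 15766) (l := 0) rfl N15766 D51144
theorem N31450 : nd 31450 = n51145 := ndS (p := 15766) (l := 1) rfl N15766 D51145
theorem N31451 : nd 31451 = n51146 := ndS (p := 15767) (l := 3) rfl N15767 D51146
theorem N31452 : nd 31452 = n51147 := ndS (p := 15767) (l := 5) rfl N15767 D51147
theorem N31453 : nd 31453 = n51148 := ndS (p := 15767) (l := 6) rfl N15767 D51148
theorem N31454 : nd 31454 = n51149 := ndS (p := 15768) (l := 0) rfl N15768 D51149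
theorem N31455 : nd 31455 = n51150 := ndS (p := 15768) (l := 1) rfl N15768 D51150
theorem N31456 : nd 31456 = n51151 := ndS (p := 15768) (l := 7) rfl N15768 D51151
theorem N31457 : nd 31457 = n51152 := ndS (p := 15769) (l := 3) rfl N15769 D51152
theorem N31458 : nd 31458 = n51153 := ndS (p := 15769) (l := 5) rfl N15769 D51153
theorem N31459 : nd 31459 = n51154 := ndS (p := 15769) (l := 6) rfl N15769 D51154
theorem N31460 : nd 31460 = n51155 := ndS (p := 15770) (l := 0) rfl N15770 D51155
theorem N31461 : nd 31461 = n51156 := ndS (p := 15770) (l := 1) rfl N15770 D51156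
theorem N31462 : nd 31462 = n51157 := ndS (p := 15770) (l := 7) rfl N15770 D51157
theorem N31463 : nd 31463 = n51158 := ndS (p := 15771) (l := 0) rfl N15771 D51158
theorem N31464 : nd 31464 = n51159 := ndS (p := 15771) (l := 1) rfl N15771 D51159
theorem N31465 : nd 31465 = n51160 := ndS (p := 15771) (l := 2) rfl N15771 D51160
theorem N31466 : nd 31466 = n51161 := ndS (p := 15771) (l := 5) rfl N15771 D51161
theorem N31467 : nd 31467 = n51162 := ndS (p := 15771) (l := 7) rfl N15771 D51162
theorem N31468 : nd 31468 = n51163 := ndS (p := 15772) (l := 6) rfl N15772 D51163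
theorem N31469 : nd 31469 = n51164 := ndS (p := 15773) (l := 6) rfl N15773 D51164
theorem N31470 : nd 31470 = n51165 := ndS (p := 15775) (l := 0) rfl N15775 D51165
theorem N31471 : nd 31471 = n51166 := ndS (p := 15775) (l := 1) rfl N15775 D51166
theorem N31472 : nd 31472 = n51167 := ndS (p := 15775) (l := 2) rfl N15775 D51167
theorem N31473 : nd 31473 = n51169 := ndS (p := 15776) (l := 0) rfl N15776 D51169
theorem N31474 : nd 31474 = n51170 := ndS (p := 15776) (l := 1) rfl N15776 D51170
theorem N31475 : nd 31475 = n51171 := ndS (p := 15776) (l := 5) rfl N15776 D51171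
theorem N31476 : nd 31476 = n51172 := ndS (p := 15776) (l := 7) rfl N15776 D51172
theorem N31477 : nd 31477 = n51174 := ndS (p := 15777) (l := 3) rfl N15777 D51174
theorem N31478 : nd 31478 = n51179 := ndS (p := 15778) (l := 6) rfl N15778 D51179
theorem N31479 : nd 31479 = n51180 := ndS (p := 15779) (l := 0) rfl N15779 D51180
theorem N31480 : nd 31480 = n51181 := ndS (p := 15779) (l := 1) rfl N15779 D51181
theorem N31481 : nd 31481 = n51182 := ndS (p := 15779) (l := 4) rfl N15779 D51182
theorem N31482 : nd 31482 = n51183 := ndS (p := 15779) (l := 7) rfl N15779 D51183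
theorem N31483 : nd 31483 = n51184 := ndS (p := 15781) (l := 3) rfl N15781 D51184
theorem N31484 : nd 31484 = n51185 := ndS (p := 15781) (l := 5) rfl N15781 D51185
theorem N31485 : nd 31485 = n51186 := ndS (p := 15782) (l := 3) rfl N15782 D51186
theorem N31486 : nd 31486 = n51187 := ndS (p := 15782) (l := 5) rfl N15782 D51187
theorem N31487 : nd 31487 = n51188 := ndS (p := 15782) (l := 6) rfl N15782 D51188
theorem N31488 : nd 31488 = n51189 := ndS (p := 15783) (l := 0) rfl N15783 D51189
theorem N31489 : nd 31489 = n51190 := ndS (p := 15783) (l := 1) rfl N15783 D51190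
theorem N31490 : nd 31490 = n51191 := ndS (p := 15783) (l := 7) rfl N15783 D51191
theorem N31491 : nd 31491 = n51192 := ndS (p := 15784) (l := 0) rfl N15784 D51192
theorem N31492 : nd 31492 = n51193 := ndS (p := 15784) (l := 1) rfl N15784 D51193
theorem N31493 : nd 31493 = n51194 := ndS (p := 15784) (l := 2) rfl N15784 D51194
theorem N31494 : nd 31494 = n51195 := ndS (p := 15784) (l := 6) rfl N15784 D51195
theorem N31495 : nd 31495 = n51196 := ndS (p := 15785) (l := 0) rfl N15785 D51196
theorem N31496 : nd 31496 = n51197 := ndS (p := 15785) (l := 1) rfl N15785 D51197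
theorem N31497 : nd 31497 = n51198 := ndS (p := 15785) (l := 5) rfl N15785 D51198
theorem N31498 : nd 31498 = n51199 := ndS (p := 15785) (l := 7) rfl N15785 D51199
theorem N31499 : nd 31499 = n51201 := ndS (p := 15786) (l := 3) rfl N15786 D51201
theorem N31500 : nd 31500 = n51203 := ndS (p := 15786) (l := 5) rfl N15786 D51203
theorem N31501 : nd 31501 = n51208 := ndS (p := 15787) (l := 5) rfl N15787 D51208
theorem N31502 : nd 31502 = n51209 := ndS (p := 15787) (l := 6) rfl N15787 D51209
theorem N31503 : nd 31503 = n51210 := ndS (p := 15788) (l := 1) rfl N15788 D51210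
theorem N31504 : nd 31504 = n51211 := ndS (p := 15788) (l := 4) rfl N15788 D51211
theorem N31505 : nd 31505 = n51212 := ndS (p := 15788) (l := 7) rfl N15788 D51212
theorem N31506 : nd 31506 = n51213 := ndS (p := 15790) (l := 0) rfl N15790 D51213
theorem N31507 : nd 31507 = n51214 := ndS (p := 15790) (l := 1) rfl N15790 D51214
theorem N31508 : nd 31508 = n51215 := ndS (p := 15790) (l := 5) rfl N15790 D51215
theorem N31509 : nd 31509 = n51216 := ndS (p := 15790) (l := 7) rfl N15790 D51216
theorem N31510 : nd 31510 = n51221 := ndS (p := 15791) (l := 6) rfl N15791 D51221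
theorem N31511 : nd 31511 = n51223 := ndS (p := 15792) (l := 3) rfl N15792 D51223
theorem N31512 : nd 31512 = n51225 := ndS (p := 15794) (l := 0) rfl N15794 D51225
theorem N31513 : nd 31513 = n51226 := ndS (p := 15794) (l := 2) rfl N15794 D51226
theorem N31514 : nd 31514 = n51227 := ndS (p := 15794) (l := 3) rfl N15794 D51227
theorem N31515 : nd 31515 = n51228 := ndS (p := 15794) (l := 4) rfl N15794 D51228
theorem N31516 : nd 31516 = n51229 := ndS (p := 15794) (l := 5) rfl N15794 D51229
theorem N31517 : nd 31517 = n51230 := ndS (p := 15794) (l := 6) rfl N15794 D51230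
theorem N31518 : nd 31518 = n51231 := ndS (p := 15794) (l := 7) rfl N15794 D51231
theorem N31519 : nd 31519 = n51232 := ndS (p := 15795) (l := 3) rfl N15795 D51232
theorem N31520 : nd 31520 = n51233 := ndS (p := 15795) (l := 4) rfl N15795 D51233
theorem N31521 : nd 31521 = n51234 := ndS (p := 15795) (l := 5) rfl N15795 D51234
theorem N31522 : nd 31522 = n51235 := ndS (p := 15795) (l := 6) rfl N15795 D51235
theorem N31523 : nd 31523 = n51238 := ndS (p := 15796) (l := 5) rfl N15796 D51238
theorem N31524 : nd 31524 = n51239 := ndS (p := 15797) (l := 0) rfl N15797 D51239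
theorem N31525 : nd 31525 = n51240 := ndS (p := 15797) (l := 1) rfl N15797 D51240
theorem N31526 : nd 31526 = n51241 := ndS (p := 15797) (l := 6) rfl N15797 D51241
theorem N31527 : nd 31527 = n51242 := ndS (p := 15798) (l := 6) rfl N15798 D51242
theorem N31528 : nd 31528 = n51243 := ndS (p := 15799) (l := 0) rfl N15799 D51243
theorem N31529 : nd 31529 = n51244 := ndS (p := 15799) (l := 1) rfl N15799 D51244
theorem N31530 : nd 31530 = n51245 := ndS (p := 15799) (l := 7) rfl N15799 D51245
theorem N31531 : nd 31531 = n51248 := ndS (p := 15800) (l := 5) rfl N15800 D51248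
theorem N31532 : nd 31532 = n51252 := ndS (p := 15801) (l := 5) rfl N15801 D51252
theorem N31533 : nd 31533 = n51253 := ndS (p := 15801) (l := 6) rfl N15801 D51253
theorem N31534 : nd 31534 = n51257 := ndS (p := 15802) (l := 5) rfl N15802 D51257
theorem N31535 : nd 31535 = n51258 := ndS (p := 15802) (l := 6) rfl N15802 D51258
theorem N31536 : nd 31536 = n51259 := ndS (p := 15803) (l := 3) rfl N15803 D51259
theorem N31537 : nd 31537 = n51260 := ndS (p := 15803) (l := 5) rfl N15803 D51260
theorem N31538 : nd 31538 = n51261 := ndS (p := 15803) (l := 6) rfl N15803 D51261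
theorem N31539 : nd 31539 = n51262 := ndS (p := 15804) (l := 0) rfl N15804 D51262
theorem N31540 : nd 31540 = n51263 := ndS (p := 15804) (l := 1) rfl N15804 D51263
theorem N31541 : nd 31541 = n51264 := ndS (p := 15804) (l := 7) rfl N15804 D51264
theorem N31542 : nd 31542 = n51265 := ndS (p := 15805) (l := 3) rfl N15805 D51265
theorem N31543 : nd 31543 = n51266 := ndS (p := 15805) (l := 5) rfl N15805 D51266
theorem N31544 : nd 31544 = n51267 := ndS (p := 15805) (l := 6) rfl N15805 D51267
theorem N31545 : nd 31545 = n51268 := ndS (p := 15806) (l := 0) rfl N15806 D51268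
theorem N31546 : nd 31546 = n51269 := ndS (p := 15806) (l := 1) rfl N15806 D51269
theorem N31547 : nd 31547 = n51270 := ndS (p := 15806) (l := 7) rfl N15806 D51270
theorem N31548 : nd 31548 = n51271 := ndS (p := 15807) (l := 3) rfl N15807 D51271
theorem N31549 : nd 31549 = n51272 := ndS (p := 15807) (l := 5) rfl N15807 D51272
theorem N31550 : nd 31550 = n51273 := ndS (p := 15807) (l := 6) rfl N15807 D51273
theorem N31551 : nd 31551 = n51274 := ndS (p := 15808) (l := 3) rfl N15808 D51274
theorem N31552 : nd 31552 = n51275 := ndS (p := 15808) (l := 5) rfl N15808 D51275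
theorem N31553 : nd 31553 = n51276 := ndS (p := 15808) (l := 6) rfl N15808 D51276
theorem N31554 : nd 31554 = n51277 := ndS (p := 15809) (l := 0) rfl N15809 D51277
theorem N31555 : nd 31555 = n51278 := ndS (p := 15809) (l := 1) rfl N15809 D51278
theorem N31556 : nd 31556 = n51279 := ndS (p := 15809) (l := 2) rfl N15809 D51279
theorem N31557 : nd 31557 = n51280 := ndS (p := 15809) (l := 5) rfl N15809 D51280
theorem N31558 : nd 31558 = n51281 := ndS (p := 15809) (l := 7) rfl N15809 D51281
theorem N31559 : nd 31559 = n51282 := ndS (p := 15810) (l := 0) rfl N15810 D51282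
theorem N31560 : nd 31560 = n51283 := ndS (p := 15810) (l := 1) rfl N15810 D51283
theorem N31561 : nd 31561 = n51284 := ndS (p := 15810) (l := 4) rfl N15810 D51284
theorem N31562 : nd 31562 = n51286 := ndS (p := 15810) (l := 7) rfl N15810 D51286
theorem N31563 : nd 31563 = n51287 := ndS (p := 15811) (l := 6) rfl N15811 D51287
theorem N31564 : nd 31564 = n51288 := ndS (p := 15812) (l := 0) rfl N15812 D51288
theorem N31565 : nd 31565 = n51290 := ndS (p := 15814) (l := 6) rfl N15814 D51290
theorem N31566 : nd 31566 = n51291 := ndS (p := 15815) (l := 3) rfl N15815 D51291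
theorem N31567 : nd 31567 = n51292 := ndS (p := 15815) (l := 5) rfl N15815 D51292
theorem N31568 : nd 31568 = n51293 := ndS (p := 15816) (l := 6) rfl N15816 D51293
theorem N31569 : nd 31569 = n51294 := ndS (p := 15817) (l := 3) rfl N15817 D51294
theorem N31570 : nd 31570 = n51295 := ndS (p := 15817) (l := 5) rfl N15817 D51295
theorem N31571 : nd 31571 = n51296 := ndS (p := 15817) (l := 6) rfl N15817 D51296
theorem N31572 : nd 31572 = n51297 := ndS (p := 15821) (l := 3) rfl N15821 D51297
theorem N31573 : nd 31573 = n51298 := ndS (p := 15821) (l := 5) rfl N15821 D51298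
theorem N31574 : nd 31574 = n51299 := ndS (p := 15821) (l := 6) rfl N15821 D51299
theorem N31575 : nd 31575 = n51300 := ndS (p := 15822) (l := 0) rfl N15822 D51300
theorem N31576 : nd 31576 = n51301 := ndS (p := 15822) (l := 7) rfl N15822 D51301
theorem N31577 : nd 31577 = n51302 := ndS (p := 15823) (l := 3) rfl N15823 D51302
theorem N31578 : nd 31578 = n51303 := ndS (p := 15823) (l := 5) rfl N15823 D51303
theorem N31579 : nd 31579 = n51304 := ndS (p := 15823) (l := 6) rfl N15823 D51304
theorem N31580 : nd 31580 = n51305 := ndS (p := 15824) (l := 3) rfl N15824 D51305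
theorem N31581 : nd 31581 = n51306 := ndS (p := 15824) (l := 5) rfl N15824 D51306
theorem N31582 : nd 31582 = n51307 := ndS (p := 15824) (l := 6) rfl N15824 D51307
theorem N31583 : nd 31583 = n51308 := ndS (p := 15825) (l := 0) rfl N15825 D51308
theorem N31584 : nd 31584 = n51309 := ndS (p := 15825) (l := 1) rfl N15825 D51309
theorem N31585 : nd 31585 = n51310 := ndS (p := 15825) (l := 2) rfl N15825 D51310
theorem N31586 : nd 31586 = n51311 := ndS (p := 15825) (l := 5) rfl N15825 D51311
theorem N31587 : nd 31587 = n51312 := ndS (p := 15825) (l := 7) rfl N15825 D51312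
theorem N31588 : nd 31588 = n51313 := ndS (p := 15826) (l := 0) rfl N15826 D51313
theorem N31589 : nd 31589 = n51314 := ndS (p := 15826) (l := 1) rfl N15826 D51314
theorem N31590 : nd 31590 = n51315 := ndS (p := 15826) (l := 6) rfl N15826 D51315
theorem N31591 : nd 31591 = n51316 := ndS (p := 15827) (l := 6) rfl N15827 D51316
theorem N31592 : nd 31592 = n51317 := ndS (p := 15829) (l := 6) rfl N15829 D51317
theorem N31593 : nd 31593 = n51318 := ndS (p := 15831) (l := 4) rfl N15831 D51318
theorem N31594 : nd 31594 = n51319 := ndS (p := 15832) (l := 3) rfl N15832 D51319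
theorem N31595 : nd 31595 = n51320 := ndS (p := 15832) (l := 5) rfl N15832 D51320
theorem N31596 : nd 31596 = n51321 := ndS (p := 15832) (l := 6) rfl N15832 D51321
theorem N31597 : nd 31597 = n51323 := ndS (p := 15833) (l := 1) rfl N15833 D51323
theorem N31598 : nd 31598 = n51324 := ndS (p := 15833) (l := 7) rfl N15833 D51324
theorem N31599 : nd 31599 = n51325 := ndS (p := 15834) (l := 3) rfl N15834 D51325
theorem N31600 : nd 31600 = n51326 := ndS (p := 15834) (l := 5) rfl N15834 D51326
theorem N31601 : nd 31601 = n51327 := ndS (p := 15834) (l := 6) rfl N15834 D51327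
theorem N31602 : nd 31602 = n51328 := ndS (p := 15835) (l := 0) rfl N15835 D51328
theorem N31603 : nd 31603 = n51329 := ndS (p := 15835) (l := 7) rfl N15835 D51329
theorem N31604 : nd 31604 = n51330 := ndS (p := 15836) (l := 6) rfl N15836 D51330
theorem N31605 : nd 31605 = n51331 := ndS (p := 15837) (l := 0) rfl N15837 D51331
theorem N31606 : nd 31606 = n51332 := ndS (p := 15837) (l := 3) rfl N15837 D51332
theorem N31607 : nd 31607 = n51333 := ndS (p := 15837) (l := 5) rfl N15837 D51333
theorem N31608 : nd 31608 = n51334 := ndS (p := 15837) (l := 6) rfl N15837 D51334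
theorem N31609 : nd 31609 = n51336 := ndS (p := 15838) (l := 1) rfl N15838 D51336
theorem N31610 : nd 31610 = n51337 := ndS (p := 15838) (l := 7) rfl N15838 D51337
theorem N31611 : nd 31611 = n51338 := ndS (p := 15839) (l := 3) rfl N15839 D51338
theorem N31612 : nd 31612 = n51339 := ndS (p := 15839) (l := 5) rfl N15839 D51339
theorem N31613 : nd 31613 = n51340 := ndS (p := 15839) (l := 6) rfl N15839 D51340
theorem N31614 : nd 31614 = n51341 := ndS (p := 15840) (l := 0) rfl N15840 D51341
theorem N31615 : nd 31615 = n51343 := ndS (p := 15840) (l := 7) rfl N15840 D51343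
theorem N31616 : nd 31616 = n51344 := ndS (p := 15841) (l := 3) rfl N15841 D51344
theorem N31617 : nd 31617 = n51345 := ndS (p := 15841) (l := 5) rfl N15841 D51345
theorem N31618 : nd 31618 = n51346 := ndS (p := 15841) (l := 6) rfl N15841 D51346
theorem N31619 : nd 31619 = n51347 := ndS (p := 15842) (l := 3) rfl N15842 D51347
theorem N31620 : nd 31620 = n51348 := ndS (p := 15842) (l := 5) rfl N15842 D51348
theorem N31621 : nd 31621 = n51349 := ndS (p := 15842) (l := 6) rfl N15842 D51349
theorem N31622 : nd 31622 = n51350 := ndS (p := 15843) (l := 0) rfl N15843 D51350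
theorem N31623 : nd 31623 = n51351 := ndS (p := 15843) (l := 1) rfl N15843 D51351
theorem N31624 : nd 31624 = n51352 := ndS (p := 15843) (l := 2) rfl N15843 D51352
theorem N31625 : nd 31625 = n51353 := ndS (p := 15843) (l := 5) rfl N15843 D51353
theorem N31626 : nd 31626 = n51354 := ndS (p := 15843) (l := 7) rfl N15843 D51354
theorem N31627 : nd 31627 = n51355 := ndS (p := 15844) (l := 0) rfl N15844 D51355
theorem N31628 : nd 31628 = n51356 := ndS (p := 15844) (l := 1) rfl N15844 D51356
theorem N31629 : nd 31629 = n51357 := ndS (p := 15844) (l := 6) rfl N15844 D51357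
theorem N31630 : nd 31630 = n51358 := ndS (p := 15845) (l := 6) rfl N15845 D51358
theorem N31631 : nd 31631 = n51359 := ndS (p := 15847) (l := 3) rfl N15847 D51359
theorem N31632 : nd 31632 = n51360 := ndS (p := 15847) (l := 5) rfl N15847 D51360
theorem N31633 : nd 31633 = n51361 := ndS (p := 15847) (l := 6) rfl N15847 D51361
theorem N31634 : nd 31634 = n51362 := ndS (p := 15848) (l := 0) rfl N15848 D51362
theorem N31635 : nd 31635 = n51363 := ndS (p := 15848) (l := 1) rfl N15848 D51363
theorem N31636 : nd 31636 = n51364 := ndS (p := 15848) (l := 7) rfl N15848 D51364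
theorem N31637 : nd 31637 = n51365 := ndS (p := 15849) (l := 3) rfl N15849 D51365
theorem N31638 : nd 31638 = n51366 := ndS (p := 15849) (l := 5) rfl N15849 D51366
theorem N31639 : nd 31639 = n51367 := ndS (p := 15849) (l := 6) rfl N15849 D51367
theorem N31640 : nd 31640 = n51368 := ndS (p := 15851) (l := 3) rfl N15851 D51368
theorem N31641 : nd 31641 = n51369 := ndS (p := 15851) (l := 5) rfl N15851 D51369
theorem N31642 : nd 31642 = n51370 := ndS (p := 15851) (l := 6) rfl N15851 D51370
theorem N31643 : nd 31643 = n51371 := ndS (p := 15852) (l := 3) rfl N15852 D51371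
theorem N31644 : nd 31644 = n51372 := ndS (p := 15852) (l := 5) rfl N15852 D51372
theorem N31645 : nd 31645 = n51373 := ndS (p := 15852) (l := 6) rfl N15852 D51373
theorem N31646 : nd 31646 = n51374 := ndS (p := 15853) (l := 0) rfl N15853 D51374
theorem N31647 : nd 31647 = n51375 := ndS (p := 15853) (l := 1) rfl N15853 D51375
theorem N31648 : nd 31648 = n51376 := ndS (p := 15853) (l := 2) rfl N15853 D51376
theorem N31649 : nd 31649 = n51377 := ndS (p := 15853) (l := 5) rfl N15853 D51377
theorem N31650 : nd 31650 = n51378 := ndS (p := 15853) (l := 6) rfl N15853 D51378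
theorem N31651 : nd 31651 = n51379 := ndS (p := 15854) (l := 0) rfl N15854 D51379
theorem N31652 : nd 31652 = n51380 := ndS (p := 15854) (l := 1) rfl N15854 D51380
theorem N31653 : nd 31653 = n51381 := ndS (p := 15854) (l := 6) rfl N15854 D51381
theorem N31654 : nd 31654 = n51382 := ndS (p := 15855) (l := 0) rfl N15855 D51382
theorem N31655 : nd 31655 = n51383 := ndS (p := 15855) (l := 1) rfl N15855 D51383
theorem N31656 : nd 31656 = n51384 := ndS (p := 15855) (l := 5) rfl N15855 D51384
theorem N31657 : nd 31657 = n51385 := ndS (p := 15855) (l := 7) rfl N15855 D51385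
theorem N31658 : nd 31658 = n51388 := ndS (p := 15856) (l := 4) rfl N15856 D51388
theorem N31659 : nd 31659 = n51391 := ndS (p := 15857) (l := 4) rfl N15857 D51391
theorem N31660 : nd 31660 = n51392 := ndS (p := 15857) (l := 6) rfl N15857 D51392
theorem N31661 : nd 31661 = n51393 := ndS (p := 15858) (l := 0) rfl N15858 D51393
theorem N31662 : nd 31662 = n51395 := ndS (p := 15858) (l := 4) rfl N15858 D51395
theorem N31663 : nd 31663 = n51396 := ndS (p := 15858) (l := 7) rfl N15858 D51396
theorem N31664 : nd 31664 = n51397 := ndS (p := 15860) (l := 3) rfl N15860 D51397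
theorem N31665 : nd 31665 = n51398 := ndS (p := 15860) (l := 5) rfl N15860 D51398
theorem N31666 : nd 31666 = n51399 := ndS (p := 15861) (l := 6) rfl N15861 D51399
theorem N31667 : nd 31667 = n51400 := ndS (p := 15863) (l := 6) rfl N15863 D51400
theorem N31668 : nd 31668 = n51401 := ndS (p := 15864) (l := 3) rfl N15864 D51401
theorem N31669 : nd 31669 = n51402 := ndS (p := 15864) (l := 5) rfl N15864 D51402
theorem N31670 : nd 31670 = n51403 := ndS (p := 15864) (l := 6) rfl N15864 D51403
theorem N31671 : nd 31671 = n51404 := ndS (p := 15865) (l := 0) rfl N15865 D51404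
theorem N31672 : nd 31672 = n51405 := ndS (p := 15865) (l := 1) rfl N15865 D51405
theorem N31673 : nd 31673 = n51406 := ndS (p := 15865) (l := 7) rfl N15865 D51406
theorem N31674 : nd 31674 = n51407 := ndS (p := 15867) (l := 3) rfl N15867 D51407
theorem N31675 : nd 31675 = n51408 := ndS (p := 15867) (l := 6) rfl N15867 D51408
theorem N31676 : nd 31676 = n51409 := ndS (p := 15868) (l := 0) rfl N15868 D51409
theorem N31677 : nd 31677 = n51410 := ndS (p := 15868) (l := 7) rfl N15868 D51410
theorem N31678 : nd 31678 = n51411 := ndS (p := 15869) (l := 0) rfl N15869 D51411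
theorem N31679 : nd 31679 = n51412 := ndS (p := 15869) (l := 1) rfl N15869 D51412
theorem N31680 : nd 31680 = n51413 := ndS (p := 15869) (l := 2) rfl N15869 D51413
theorem N31681 : nd 31681 = n51414 := ndS (p := 15869) (l := 5) rfl N15869 D51414
theorem N31682 : nd 31682 = n51415 := ndS (p := 15869) (l := 6) rfl N15869 D51415
theorem N31683 : nd 31683 = n51416 := ndS (p := 15870) (l := 6) rfl N15870 D51416
theorem N31684 : nd 31684 = n51417 := ndS (p := 15871) (l := 0) rfl N15871 D51417
theorem N31685 : nd 31685 = n51418 := ndS (p := 15871) (l := 1) rfl N15871 D51418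
theorem N31686 : nd 31686 = n51419 := ndS (p := 15871) (l := 5) rfl N15871 D51419
theorem N31687 : nd 31687 = n51420 := ndS (p := 15871) (l := 7) rfl N15871 D51420
theorem N31688 : nd 31688 = n51421 := ndS (p := 15872) (l := 4) rfl N15872 D51421
theorem N31689 : nd 31689 = n51422 := ndS (p := 15872) (l := 6) rfl N15872 D51422
theorem N31690 : nd 31690 = n51423 := ndS (p := 15873) (l := 4) rfl N15873 D51423
theorem N31691 : nd 31691 = n51424 := ndS (p := 15875) (l := 3) rfl N15875 D51424
theorem N31692 : nd 31692 = n51425 := ndS (p := 15875) (l := 6) rfl N15875 D51425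
theorem N31693 : nd 31693 = n51426 := ndS (p := 15876) (l := 3) rfl N15876 D51426
theorem N31694 : nd 31694 = n51427 := ndS (p := 15877) (l := 0) rfl N15877 D51427
theorem N31695 : nd 31695 = n51428 := ndS (p := 15877) (l := 1) rfl N15877 D51428
theorem N31696 : nd 31696 = n51429 := ndS (p := 15877) (l := 2) rfl N15877 D51429
theorem N31697 : nd 31697 = n51430 := ndS (p := 15877) (l := 5) rfl N15877 D51430
theorem N31698 : nd 31698 = n51431 := ndS (p := 15877) (l := 6) rfl N15877 D51431
theorem N31699 : nd 31699 = n51432 := ndS (p := 15878) (l := 0) rfl N15878 D51432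
theorem N31700 : nd 31700 = n51433 := ndS (p := 15878) (l := 1) rfl N15878 D51433
theorem N31701 : nd 31701 = n51434 := ndS (p := 15878) (l := 6) rfl N15878 D51434
theorem N31702 : nd 31702 = n51435 := ndS (p := 15879) (l := 0) rfl N15879 D51435
theorem N31703 : nd 31703 = n51436 := ndS (p := 15879) (l := 1) rfl N15879 D51436
theorem N31704 : nd 31704 = n51437 := ndS (p := 15879) (l := 5) rfl N15879 D51437
theorem N31705 : nd 31705 = n51438 := ndS (p := 15879) (l := 7) rfl N15879 D51438
theorem N31706 : nd 31706 = n51441 := ndS (p := 15880) (l := 4) rfl N15880 D51441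
theorem N31707 : nd 31707 = n51442 := ndS (p := 15880) (l := 5) rfl N15880 D51442
theorem N31708 : nd 31708 = n51445 := ndS (p := 15881) (l := 4) rfl N15881 D51445
theorem N31709 : nd 31709 = n51446 := ndS (p := 15881) (l := 5) rfl N15881 D51446
theorem N31710 : nd 31710 = n51447 := ndS (p := 15881) (l := 6) rfl N15881 D51447
theorem N31711 : nd 31711 = n51448 := ndS (p := 15882) (l := 4) rfl N15882 D51448
theorem N31712 : nd 31712 = n51449 := ndS (p := 15884) (l := 3) rfl N15884 D51449
theorem N31713 : nd 31713 = n51450 := ndS (p := 15884) (l := 5) rfl N15884 D51450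
theorem N31714 : nd 31714 = n51451 := ndS (p := 15884) (l := 6) rfl N15884 D51451
theorem N31715 : nd 31715 = n51452 := ndS (p := 15885) (l := 0) rfl N15885 D51452
theorem N31716 : nd 31716 = n51453 := ndS (p := 15885) (l := 1) rfl N15885 D51453
theorem N31717 : nd 31717 = n51454 := ndS (p := 15885) (l := 7) rfl N15885 D51454
theorem N31718 : nd 31718 = n51455 := ndS (p := 15886) (l := 0) rfl N15886 D51455
theorem N31719 : nd 31719 = n51456 := ndS (p := 15886) (l := 1) rfl N15886 D51456
theorem N31720 : nd 31720 = n51457 := ndS (p := 15886) (l := 2) rfl N15886 D51457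
theorem N31721 : nd 31721 = n51458 := ndS (p := 15886) (l := 5) rfl N15886 D51458
theorem N31722 : nd 31722 = n51459 := ndS (p := 15886) (l := 6) rfl N15886 D51459
theorem N31723 : nd 31723 = n51460 := ndS (p := 15887) (l := 6) rfl N15887 D51460
theorem N31724 : nd 31724 = n51461 := ndS (p := 15888) (l := 0) rfl N15888 D51461
theorem N31725 : nd 31725 = n51462 := ndS (p := 15888) (l := 1) rfl N15888 D51462
theorem N31726 : nd 31726 = n51463 := ndS (p := 15888) (l := 5) rfl N15888 D51463
theorem N31727 : nd 31727 = n51464 := ndS (p := 15888) (l := 7) rfl N15888 D51464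
theorem N31728 : nd 31728 = n51467 := ndS (p := 15889) (l := 4) rfl N15889 D51467
theorem N31729 : nd 31729 = n51468 := ndS (p := 15889) (l := 6) rfl N15889 D51468
theorem N31730 : nd 31730 = n51471 := ndS (p := 15890) (l := 4) rfl N15890 D51471
theorem N31731 : nd 31731 = n51472 := ndS (p := 15891) (l := 4) rfl N15891 D51472
theorem N31732 : nd 31732 = n51473 := ndS (p := 15891) (l := 7) rfl N15891 D51473
theorem N31733 : nd 31733 = n51474 := ndS (p := 15893) (l := 0) rfl N15893 D51474
theorem N31734 : nd 31734 = n51475 := ndS (p := 15893) (l := 1) rfl N15893 D51475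
theorem N31735 : nd 31735 = n51476 := ndS (p := 15893) (l := 2) rfl N15893 D51476
theorem N31736 : nd 31736 = n51477 := ndS (p := 15893) (l := 4) rfl N15893 D51477
theorem N31737 : nd 31737 = n51478 := ndS (p := 15893) (l := 5) rfl N15893 D51478
theorem N31738 : nd 31738 = n51479 := ndS (p := 15893) (l := 6) rfl N15893 D51479
theorem N31739 : nd 31739 = n51480 := ndS (p := 15894) (l := 3) rfl N15894 D51480
theorem N31740 : nd 31740 = n51481 := ndS (p := 15894) (l := 6) rfl N15894 D51481
theorem N31741 : nd 31741 = n51482 := ndS (p := 15895) (l := 0) rfl N15895 D51482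
theorem N31742 : nd 31742 = n51483 := ndS (p := 15895) (l := 6) rfl N15895 D51483
theorem N31743 : nd 31743 = n51486 := ndS (p := 15896) (l := 5) rfl N15896 D51486
theorem N31744 : nd 31744 = n51487 := ndS (p := 15896) (l := 7) rfl N15896 D51487
theorem N31745 : nd 31745 = n51488 := ndS (p := 15897) (l := 0) rfl N15897 D51488
theorem N31746 : nd 31746 = n51489 := ndS (p := 15897) (l := 1) rfl N15897 D51489
theorem N31747 : nd 31747 = n51490 := ndS (p := 15897) (l := 2) rfl N15897 D51490
theorem N31748 : nd 31748 = n51491 := ndS (p := 15897) (l := 4) rfl N15897 D51491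
theorem N31749 : nd 31749 = n51492 := ndS (p := 15897) (l := 5) rfl N15897 D51492
theorem N31750 : nd 31750 = n51493 := ndS (p := 15897) (l := 6) rfl N15897 D51493
theorem N31751 : nd 31751 = n51494 := ndS (p := 15898) (l := 6) rfl N15898 D51494
theorem N31752 : nd 31752 = n51495 := ndS (p := 15899) (l := 6) rfl N15899 D51495
theorem N31753 : nd 31753 = n51498 := ndS (p := 15900) (l := 5) rfl N15900 D51498
theorem N31754 : nd 31754 = n51499 := ndS (p := 15900) (l := 7) rfl N15900 D51499
theorem N31755 : nd 31755 = n51501 := ndS (p := 15901) (l := 3) rfl N15901 D51501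
theorem N31756 : nd 31756 = n51502 := ndS (p := 15901) (l := 4) rfl N15901 D51502
theorem N31757 : nd 31757 = n51506 := ndS (p := 15902) (l := 3) rfl N15902 D51506
theorem N31758 : nd 31758 = n51508 := ndS (p := 15902) (l := 5) rfl N15902 D51508
theorem N31759 : nd 31759 = n51510 := ndS (p := 15903) (l := 5) rfl N15903 D51510
theorem N31760 : nd 31760 = n51511 := ndS (p := 15904) (l := 0) rfl N15904 D51511
theorem N31761 : nd 31761 = n51512 := ndS (p := 15904) (l := 1) rfl N15904 D51512
theorem N31762 : nd 31762 = n51513 := ndS (p := 15904) (l := 4) rfl N15904 D51513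
theorem N31763 : nd 31763 = n51514 := ndS (p := 15904) (l := 6) rfl N15904 D51514
theorem N31764 : nd 31764 = n51515 := ndS (p := 15905) (l := 3) rfl N15905 D51515
theorem N31765 : nd 31765 = n51516 := ndS (p := 15905) (l := 6) rfl N15905 D51516
theorem N31766 : nd 31766 = n51517 := ndS (p := 15906) (l := 3) rfl N15906 D51517
theorem N31767 : nd 31767 = n51518 := ndS (p := 15906) (l := 6) rfl N15906 D51518
theorem N31768 : nd 31768 = n51519 := ndS (p := 15907) (l := 3) rfl N15907 D51519
theorem N31769 : nd 31769 = n51520 := ndS (p := 15907) (l := 6) rfl N15907 D51520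
theorem N31770 : nd 31770 = n51521 := ndS (p := 15908) (l := 0) rfl N15908 D51521
theorem N31771 : nd 31771 = n51522 := ndS (p := 15908) (l := 1) rfl N15908 D51522
theorem N31772 : nd 31772 = n51523 := ndS (p := 15908) (l := 7) rfl N15908 D51523
theorem N31773 : nd 31773 = n51524 := ndS (p := 15909) (l := 6) rfl N15909 D51524
theorem N31774 : nd 31774 = n51525 := ndS (p := 15910) (l := 0) rfl N15910 D51525
theorem N31775 : nd 31775 = n51526 := ndS (p := 15910) (l := 1) rfl N15910 D51526
theorem N31776 : nd 31776 = n51527 := ndS (p := 15910) (l := 5) rfl N15910 D51527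
theorem N31777 : nd 31777 = n51530 := ndS (p := 15911) (l := 4) rfl N15911 D51530
theorem N31778 : nd 31778 = n51531 := ndS (p := 15911) (l := 5) rfl N15911 D51531
theorem N31779 : nd 31779 = n51532 := ndS (p := 15911) (l := 6) rfl N15911 D51532
theorem N31780 : nd 31780 = n51534 := ndS (p := 15912) (l := 3) rfl N15912 D51534
theorem N31781 : nd 31781 = n51535 := ndS (p := 15912) (l := 4) rfl N15912 D51535
theorem N31782 : nd 31782 = n51536 := ndS (p := 15912) (l := 5) rfl N15912 D51536
theorem N31783 : nd 31783 = n51537 := ndS (p := 15912) (l := 6) rfl N15912 D51537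
theorem N31784 : nd 31784 = n51538 := ndS (p := 15913) (l := 6) rfl N15913 D51538
theorem N31785 : nd 31785 = n51539 := ndS (p := 15914) (l := 3) rfl N15914 D51539
theorem N31786 : nd 31786 = n51540 := ndS (p := 15914) (l := 5) rfl N15914 D51540
theorem N31787 : nd 31787 = n51541 := ndS (p := 15914) (l := 6) rfl N15914 D51541
theorem N31788 : nd 31788 = n51542 := ndS (p := 15915) (l := 0) rfl N15915 D51542
theorem N31789 : nd 31789 = n51544 := ndS (p := 15916) (l := 3) rfl N15916 D51544
theorem N31790 : nd 31790 = n51545 := ndS (p := 15916) (l := 6) rfl N15916 D51545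
theorem N31791 : nd 31791 = n51546 := ndS (p := 15917) (l := 0) rfl N15917 D51546
theorem N31792 : nd 31792 = n51547 := ndS (p := 15917) (l := 1) rfl N15917 D51547
theorem N31793 : nd 31793 = n51548 := ndS (p := 15917) (l := 7) rfl N15917 D51548
theorem N31794 : nd 31794 = n51549 := ndS (p := 15918) (l := 1) rfl N15918 D51549
theorem N31795 : nd 31795 = n51550 := ndS (p := 15918) (l := 3) rfl N15918 D51550
theorem N31796 : nd 31796 = n51551 := ndS (p := 15918) (l := 5) rfl N15918 D51551
theorem N31797 : nd 31797 = n51552 := ndS (p := 15918) (l := 6) rfl N15918 D51552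
theorem N31798 : nd 31798 = n51553 := ndS (p := 15919) (l := 0) rfl N15919 D51553
theorem N31799 : nd 31799 = n51554 := ndS (p := 15919) (l := 1) rfl N15919 D51554
theorem N31800 : nd 31800 = n51555 := ndS (p := 15919) (l := 7) rfl N15919 D51555
theorem N31801 : nd 31801 = n51556 := ndS (p := 15920) (l := 4) rfl N15920 D51556
theorem N31802 : nd 31802 = n51557 := ndS (p := 15921) (l := 3) rfl N15921 D51557
theorem N31803 : nd 31803 = n51558 := ndS (p := 15921) (l := 5) rfl N15921 D51558
theorem N31804 : nd 31804 = n51559 := ndS (p := 15921) (l := 6) rfl N15921 D51559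
theorem N31805 : nd 31805 = n51560 := ndS (p := 15922) (l := 1) rfl N15922 D51560
theorem N31806 : nd 31806 = n51561 := ndS (p := 15922) (l := 7) rfl N15922 D51561
theorem N31807 : nd 31807 = n51562 := ndS (p := 15923) (l := 3) rfl N15923 D51562
theorem N31808 : nd 31808 = n51563 := ndS (p := 15923) (l := 6) rfl N15923 D51563
theorem N31809 : nd 31809 = n51564 := ndS (p := 15924) (l := 3) rfl N15924 D51564
theorem N31810 : nd 31810 = n51565 := ndS (p := 15924) (l := 6) rfl N15924 D51565
theorem N31811 : nd 31811 = n51566 := ndS (p := 15925) (l := 0) rfl N15925 D51566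
theorem N31812 : nd 31812 = n51567 := ndS (p := 15925) (l := 1) rfl N15925 D51567
theorem N31813 : nd 31813 = n51568 := ndS (p := 15925) (l := 2) rfl N15925 D51568
theorem N31814 : nd 31814 = n51569 := ndS (p := 15925) (l := 5) rfl N15925 D51569
theorem N31815 : nd 31815 = n51571 := ndS (p := 15926) (l := 0) rfl N15926 D51571
theorem N31816 : nd 31816 = n51572 := ndS (p := 15926) (l := 1) rfl N15926 D51572
theorem N31817 : nd 31817 = n51573 := ndS (p := 15926) (l := 6) rfl N15926 D51573
theorem N31818 : nd 31818 = n51574 := ndS (p := 15927) (l := 0) rfl N15927 D51574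
theorem N31819 : nd 31819 = n51575 := ndS (p := 15927) (l := 1) rfl N15927 D51575
theorem N31820 : nd 31820 = n51576 := ndS (p := 15927) (l := 5) rfl N15927 D51576
theorem N31821 : nd 31821 = n51579 := ndS (p := 15928) (l := 3) rfl N15928 D51579
theorem N31822 : nd 31822 = n51580 := ndS (p := 15928) (l := 4) rfl N15928 D51580
theorem N31823 : nd 31823 = n51581 := ndS (p := 15928) (l := 5) rfl N15928 D51581
theorem N31824 : nd 31824 = n51583 := ndS (p := 15929) (l := 3) rfl N15929 D51583
theorem N31825 : nd 31825 = n51584 := ndS (p := 15929) (l := 4) rfl N15929 D51584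
theorem N31826 : nd 31826 = n51585 := ndS (p := 15929) (l := 5) rfl N15929 D51585
theorem N31827 : nd 31827 = n51586 := ndS (p := 15929) (l := 6) rfl N15929 D51586
theorem N31828 : nd 31828 = n51587 := ndS (p := 15933) (l := 3) rfl N15933 D51587
theorem N31829 : nd 31829 = n51588 := ndS (p := 15933) (l := 6) rfl N15933 D51588
theorem N31830 : nd 31830 = n51589 := ndS (p := 15934) (l := 0) rfl N15934 D51589
theorem N31831 : nd 31831 = n51590 := ndS (p := 15934) (l := 1) rfl N15934 D51590
theorem N31832 : nd 31832 = n51593 := ndS (p := 15935) (l := 2) rfl N15935 D51593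
theorem N31833 : nd 31833 = n51596 := ndS (p := 15936) (l := 3) rfl N15936 D51596
theorem N31834 : nd 31834 = n51601 := ndS (p := 15939) (l := 6) rfl N15939 D51601
theorem N31835 : nd 31835 = n51602 := ndS (p := 15940) (l := 5) rfl N15940 D51602
theorem N31836 : nd 31836 = n51605 := ndS (p := 15941) (l := 4) rfl N15941 D51605
theorem N31837 : nd 31837 = n51609 := ndS (p := 15942) (l := 3) rfl N15942 D51609
theorem N31838 : nd 31838 = n51610 := ndS (p := 15942) (l := 4) rfl N15942 D51610
theorem N31839 : nd 31839 = n51612 := ndS (p := 15942) (l := 6) rfl N15942 D51612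
theorem N31840 : nd 31840 = n51625 := ndS (p := 15944) (l := 4) rfl N15944 D51625
theorem N31841 : nd 31841 = n51634 := ndS (p := 15946) (l := 3) rfl N15946 D51634
theorem N31842 : nd 31842 = n51635 := ndS (p := 15946) (l := 5) rfl N15946 D51635
theorem N31843 : nd 31843 = n51636 := ndS (p := 15946) (l := 6) rfl N15946 D51636
theorem N31844 : nd 31844 = n51637 := ndS (p := 15948) (l := 3) rfl N15948 D51637
theorem N31845 : nd 31845 = n51638 := ndS (p := 15948) (l := 5) rfl N15948 D51638
theorem N31846 : nd 31846 = n51639 := ndS (p := 15948) (l := 6) rfl N15948 D51639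
theorem N31847 : nd 31847 = n51640 := ndS (p := 15952) (l := 0) rfl N15952 D51640
theorem N31848 : nd 31848 = n51641 := ndS (p := 15952) (l := 1) rfl N15952 D51641
theorem N31849 : nd 31849 = n51642 := ndS (p := 15952) (l := 3) rfl N15952 D51642
theorem N31850 : nd 31850 = n51643 := ndS (p := 15952) (l := 5) rfl N15952 D51643
theorem N31851 : nd 31851 = n51644 := ndS (p := 15952) (l := 6) rfl N15952 D51644
theorem N31852 : nd 31852 = n51645 := ndS (p := 15954) (l := 3) rfl N15954 D51645
theorem N31853 : nd 31853 = n51646 := ndS (p := 15954) (l := 5) rfl N15954 D51646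
theorem N31854 : nd 31854 = n51647 := ndS (p := 15954) (l := 6) rfl N15954 D51647
theorem N31855 : nd 31855 = n51649 := ndS (p := 15955) (l := 1) rfl N15955 D51649
theorem N31856 : nd 31856 = n51650 := ndS (p := 15955) (l := 7) rfl N15955 D51650
theorem N31857 : nd 31857 = n51651 := ndS (p := 15956) (l := 3) rfl N15956 D51651
theorem N31858 : nd 31858 = n51652 := ndS (p := 15956) (l := 6) rfl N15956 D51652
theorem N31859 : nd 31859 = n51653 := ndS (p := 15957) (l := 3) rfl N15957 D51653
theorem N31860 : nd 31860 = n51654 := ndS (p := 15957) (l := 6) rfl N15957 D51654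
theorem N31861 : nd 31861 = n51655 := ndS (p := 15958) (l := 0) rfl N15958 D51655
theorem N31862 : nd 31862 = n51656 := ndS (p := 15958) (l := 1) rfl N15958 D51656
theorem N31863 : nd 31863 = n51657 := ndS (p := 15958) (l := 2) rfl N15958 D51657
theorem N31864 : nd 31864 = n51658 := ndS (p := 15958) (l := 5) rfl N15958 D51658
theorem N31865 : nd 31865 = n51659 := ndS (p := 15958) (l := 6) rfl N15958 D51659
theorem N31866 : nd 31866 = n51660 := ndS (p := 15959) (l := 0) rfl N15959 D51660
theorem N31867 : nd 31867 = n51661 := ndS (p := 15959) (l := 1) rfl N15959 D51661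
theorem N31868 : nd 31868 = n51662 := ndS (p := 15959) (l := 4) rfl N15959 D51662
theorem N31869 : nd 31869 = n51663 := ndS (p := 15959) (l := 6) rfl N15959 D51663
theorem N31870 : nd 31870 = n51664 := ndS (p := 15960) (l := 0) rfl N15960 D51664
theorem N31871 : nd 31871 = n51666 := ndS (p := 15960) (l := 5) rfl N15960 D51666
theorem N31872 : nd 31872 = n51667 := ndS (p := 15960) (l := 7) rfl N15960 D51667
theorem N31873 : nd 31873 = n51668 := ndS (p := 15961) (l := 3) rfl N15961 D51668
theorem N31874 : nd 31874 = n51669 := ndS (p := 15961) (l := 4) rfl N15961 D51669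
theorem N31875 : nd 31875 = n51672 := ndS (p := 15964) (l := 4) rfl N15964 D51672
theorem N31876 : nd 31876 = n51676 := ndS (p := 15965) (l := 3) rfl N15965 D51676
theorem N31877 : nd 31877 = n51677 := ndS (p := 15965) (l := 4) rfl N15965 D51677
theorem N31878 : nd 31878 = n51679 := ndS (p := 15965) (l := 6) rfl N15965 D51679
theorem N31879 : nd 31879 = n51689 := ndS (p := 15970) (l := 3) rfl N15970 D51689
theorem N31880 : nd 31880 = n51691 := ndS (p := 15971) (l := 3) rfl N15971 D51691
theorem N31881 : nd 31881 = n51692 := ndS (p := 15971) (l := 5) rfl N15971 D51692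
theorem N31882 : nd 31882 = n51693 := ndS (p := 15971) (l := 6) rfl N15971 D51693
theorem N31883 : nd 31883 = n51694 := ndS (p := 15972) (l := 0) rfl N15972 D51694
theorem N31884 : nd 31884 = n51695 := ndS (p := 15972) (l := 1) rfl N15972 D51695
theorem N31885 : nd 31885 = n51696 := ndS (p := 15972) (l := 7) rfl N15972 D51696
theorem N31886 : nd 31886 = n51697 := ndS (p := 15973) (l := 3) rfl N15973 D51697
theorem N31887 : nd 31887 = n51698 := ndS (p := 15973) (l := 6) rfl N15973 D51698
theorem N31888 : nd 31888 = n51699 := ndS (p := 15974) (l := 3) rfl N15974 D51699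
theorem N31889 : nd 31889 = n51700 := ndS (p := 15975) (l := 0) rfl N15975 D51700
theorem N31890 : nd 31890 = n51701 := ndS (p := 15975) (l := 1) rfl N15975 D51701
theorem N31891 : nd 31891 = n51702 := ndS (p := 15975) (l := 2) rfl N15975 D51702
theorem N31892 : nd 31892 = n51703 := ndS (p := 15975) (l := 5) rfl N15975 D51703
theorem N31893 : nd 31893 = n51704 := ndS (p := 15975) (l := 6) rfl N15975 D51704
theorem N31894 : nd 31894 = n51705 := ndS (p := 15976) (l := 4) rfl N15976 D51705
theorem N31895 : nd 31895 = n51706 := ndS (p := 15976) (l := 6) rfl N15976 D51706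
theorem N31896 : nd 31896 = n51707 := ndS (p := 15977) (l := 0) rfl N15977 D51707
theorem N31897 : nd 31897 = n51708 := ndS (p := 15977) (l := 1) rfl N15977 D51708
theorem N31898 : nd 31898 = n51709 := ndS (p := 15977) (l := 5) rfl N15977 D51709
theorem N31899 : nd 31899 = n51710 := ndS (p := 15977) (l := 7) rfl N15977 D51710
theorem N31900 : nd 31900 = n51712 := ndS (p := 15978) (l := 3) rfl N15978 D51712
theorem N31901 : nd 31901 = n51713 := ndS (p := 15978) (l := 4) rfl N15978 D51713
theorem N31902 : nd 31902 = n51714 := ndS (p := 15978) (l := 5) rfl N15978 D51714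
theorem N31903 : nd 31903 = n51715 := ndS (p := 15978) (l := 6) rfl N15978 D51715
theorem N31904 : nd 31904 = n51717 := ndS (p := 15979) (l := 3) rfl N15979 D51717
theorem N31905 : nd 31905 = n51718 := ndS (p := 15979) (l := 4) rfl N15979 D51718
theorem N31906 : nd 31906 = n51719 := ndS (p := 15979) (l := 5) rfl N15979 D51719
theorem N31907 : nd 31907 = n51720 := ndS (p := 15979) (l := 6) rfl N15979 D51720
theorem N31908 : nd 31908 = n51723 := ndS (p := 15981) (l := 4) rfl N15981 D51723
theorem N31909 : nd 31909 = n51725 := ndS (p := 15981) (l := 6) rfl N15981 D51725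
theorem N31910 : nd 31910 = n51727 := ndS (p := 15982) (l := 3) rfl N15982 D51727
theorem N31911 : nd 31911 = n51728 := ndS (p := 15982) (l := 4) rfl N15982 D51728
theorem N31912 : nd 31912 = n51740 := ndS (p := 15986) (l := 6) rfl N15986 D51740
theorem N31913 : nd 31913 = n51742 := ndS (p := 15987) (l := 4) rfl N15987 D51742
theorem N31914 : nd 31914 = n51747 := ndS (p := 15989) (l := 4) rfl N15989 D51747
theorem N31915 : nd 31915 = n51748 := ndS (p := 15989) (l := 5) rfl N15989 D51748
theorem N31916 : nd 31916 = n51751 := ndS (p := 15990) (l := 4) rfl N15990 D51751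
theorem N31917 : nd 31917 = n51758 := ndS (p := 15991) (l := 3) rfl N15991 D51758
theorem N31918 : nd 31918 = n51761 := ndS (p := 15992) (l := 4) rfl N15992 D51761
theorem N31919 : nd 31919 = n51762 := ndS (p := 15994) (l := 3) rfl N15994 D51762
theorem N31920 : nd 31920 = n51763 := ndS (p := 15994) (l := 5) rfl N15994 D51763
theorem N31921 : nd 31921 = n51764 := ndS (p := 15994) (l := 6) rfl N15994 D51764
theorem N31922 : nd 31922 = n51765 := ndS (p := 15995) (l := 0) rfl N15995 D51765
theorem N31923 : nd 31923 = n51766 := ndS (p := 15995) (l := 7) rfl N15995 D51766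
theorem N31924 : nd 31924 = n51767 := ndS (p := 15996) (l := 3) rfl N15996 D51767
theorem N31925 : nd 31925 = n51768 := ndS (p := 15997) (l := 3) rfl N15997 D51768
theorem N31926 : nd 31926 = n51769 := ndS (p := 15997) (l := 6) rfl N15997 D51769
theorem N31927 : nd 31927 = n51770 := ndS (p := 15998) (l := 0) rfl N15998 D51770
theorem N31928 : nd 31928 = n51771 := ndS (p := 15998) (l := 1) rfl N15998 D51771
theorem N31929 : nd 31929 = n51772 := ndS (p := 15998) (l := 2) rfl N15998 D51772
theorem N31930 : nd 31930 = n51773 := ndS (p := 15998) (l := 5) rfl N15998 D51773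
theorem N31931 : nd 31931 = n51775 := ndS (p := 15999) (l := 4) rfl N15999 D51775
theorem N31932 : nd 31932 = n51776 := ndS (p := 15999) (l := 6) rfl N15999 D51776
theorem N31933 : nd 31933 = n51777 := ndS (p := 16000) (l := 0) rfl N16000 D51777
theorem N31934 : nd 31934 = n51778 := ndS (p := 16000) (l := 1) rfl N16000 D51778
theorem N31935 : nd 31935 = n51779 := ndS (p := 16000) (l := 5) rfl N16000 D51779
theorem N31936 : nd 31936 = n51780 := ndS (p := 16000) (l := 7) rfl N16000 D51780
theorem N31937 : nd 31937 = n51782 := ndS (p := 16001) (l := 3) rfl N16001 D51782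
theorem N31938 : nd 31938 = n51783 := ndS (p := 16001) (l := 4) rfl N16001 D51783
theorem N31939 : nd 31939 = n51784 := ndS (p := 16001) (l := 6) rfl N16001 D51784
theorem N31940 : nd 31940 = n51787 := ndS (p := 16002) (l := 4) rfl N16002 D51787
theorem N31941 : nd 31941 = n51790 := ndS (p := 16004) (l := 4) rfl N16004 D51790
theorem N31942 : nd 31942 = n51793 := ndS (p := 16005) (l := 3) rfl N16005 D51793
theorem N31943 : nd 31943 = n51794 := ndS (p := 16005) (l := 4) rfl N16005 D51794
theorem N31944 : nd 31944 = n51795 := ndS (p := 16005) (l := 6) rfl N16005 D51795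
theorem N31945 : nd 31945 = n51802 := ndS (p := 16007) (l := 6) rfl N16007 D51802
theorem N31946 : nd 31946 = n51817 := ndS (p := 16010) (l := 4) rfl N16010 D51817
theorem N31947 : nd 31947 = n51821 := ndS (p := 16011) (l := 3) rfl N16011 D51821
theorem N31948 : nd 31948 = n51822 := ndS (p := 16011) (l := 4) rfl N16011 D51822
theorem N31949 : nd 31949 = n51824 := ndS (p := 16011) (l := 6) rfl N16011 D51824
theorem N31950 : nd 31950 = n51826 := ndS (p := 16012) (l := 3) rfl N16012 D51826
theorem N31951 : nd 31951 = n51827 := ndS (p := 16012) (l := 4) rfl N16012 D51827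
theorem N31952 : nd 31952 = n51834 := ndS (p := 16014) (l := 5) rfl N16014 D51834
theorem N31953 : nd 31953 = n51844 := ndS (p := 16015) (l := 3) rfl N16015 D51844
theorem N31954 : nd 31954 = n51845 := ndS (p := 16015) (l := 4) rfl N16015 D51845
theorem N31955 : nd 31955 = n51849 := ndS (p := 16016) (l := 3) rfl N16016 D51849
theorem N31956 : nd 31956 = n51850 := ndS (p := 16016) (l := 4) rfl N16016 D51850
theorem N31957 : nd 31957 = n51852 := ndS (p := 16016) (l := 6) rfl N16016 D51852
theorem N31958 : nd 31958 = n51853 := ndS (p := 16017) (l := 4) rfl N16017 D51853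
theorem N31959 : nd 31959 = n51855 := ndS (p := 16018) (l := 0) rfl N16018 D51855
theorem N31960 : nd 31960 = n51856 := ndS (p := 16018) (l := 1) rfl N16018 D51856
theorem N31961 : nd 31961 = n51857 := ndS (p := 16018) (l := 5) rfl N16018 D51857
theorem N31962 : nd 31962 = n51872 := ndS (p := 16019) (l := 1) rfl N16019 D51872
theorem N31963 : nd 31963 = n51873 := ndS (p := 16019) (l := 2) rfl N16019 D51873
theorem N31964 : nd 31964 = n51874 := ndS (p := 16019) (l := 4) rfl N16019 D51874
theorem N31965 : nd 31965 = n51875 := ndS (p := 16019) (l := 5) rfl N16019 D51875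
theorem N31966 : nd 31966 = n51878 := ndS (p := 16020) (l := 0) rfl N16020 D51878
theorem N31967 : nd 31967 = n51879 := ndS (p := 16020) (l := 1) rfl N16020 D51879
theorem N31968 : nd 31968 = n51880 := ndS (p := 16020) (l := 3) rfl N16020 D51880
theorem N31969 : nd 31969 = n51886 := ndS (p := 16021) (l := 4) rfl N16021 D51886
theorem N31970 : nd 31970 = n51887 := ndS (p := 16021) (l := 6) rfl N16021 D51887
theorem N31971 : nd 31971 = n51891 := ndS (p := 16022) (l := 5) rfl N16022 D51891
theorem N31972 : nd 31972 = n51892 := ndS (p := 16022) (l := 7) rfl N16022 D51892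
theorem N31973 : nd 31973 = n51894 := ndS (p := 16023) (l := 0) rfl N16023 D51894
theorem N31974 : nd 31974 = n51897 := ndS (p := 16023) (l := 4) rfl N16023 D51897
theorem N31975 : nd 31975 = n51900 := ndS (p := 16024) (l := 3) rfl N16024 D51900
theorem N31976 : nd 31976 = n51901 := ndS (p := 16024) (l := 5) rfl N16024 D51901
theorem N31977 : nd 31977 = n51903 := ndS (p := 16025) (l := 4) rfl N16025 D51903
theorem N31978 : nd 31978 = n51906 := ndS (p := 16026) (l := 1) rfl N16026 D51906
theorem N31979 : nd 31979 = n51912 := ndS (p := 16027) (l := 4) rfl N16027 D51912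
theorem N31980 : nd 31980 = n51913 := ndS (p := 16027) (l := 5) rfl N16027 D51913
theorem N31981 : nd 31981 = n51914 := ndS (p := 16027) (l := 6) rfl N16027 D51914
theorem N31982 : nd 31982 = n51915 := ndS (p := 16028) (l := 3) rfl N16028 D51915
theorem N31983 : nd 31983 = n51916 := ndS (p := 16028) (l := 6) rfl N16028 D51916
theorem N31984 : nd 31984 = n51917 := ndS (p := 16031) (l := 6) rfl N16031 D51917
theorem N31985 : nd 31985 = n51918 := ndS (p := 16032) (l := 6) rfl N16032 D51918
theorem N31986 : nd 31986 = n51919 := ndS (p := 16033) (l := 3) rfl N16033 D51919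
theorem N31987 : nd 31987 = n51920 := ndS (p := 16033) (l := 5) rfl N16033 D51920
theorem N31988 : nd 31988 = n51921 := ndS (p := 16033) (l := 6) rfl N16033 D51921
theorem N31989 : nd 31989 = n51922 := ndS (p := 16034) (l := 0) rfl N16034 D51922
theorem N31990 : nd 31990 = n51924 := ndS (p := 16035) (l := 3) rfl N16035 D51924
theorem N31991 : nd 31991 = n51925 := ndS (p := 16035) (l := 6) rfl N16035 D51925
theorem N31992 : nd 31992 = n51926 := ndS (p := 16036) (l := 0) rfl N16036 D51926
theorem N31993 : nd 31993 = n51927 := ndS (p := 16036) (l := 1) rfl N16036 D51927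
theorem N31994 : nd 31994 = n51928 := ndS (p := 16036) (l := 7) rfl N16036 D51928
theorem N31995 : nd 31995 = n51929 := ndS (p := 16038) (l := 6) rfl N16038 D51929
theorem N31996 : nd 31996 = n51930 := ndS (p := 16039) (l := 3) rfl N16039 D51930
theorem N31997 : nd 31997 = n51931 := ndS (p := 16039) (l := 5) rfl N16039 D51931
theorem N31998 : nd 31998 = n51932 := ndS (p := 16039) (l := 6) rfl N16039 D51932
theorem N31999 : nd 31999 = n51933 := ndS (p := 16040) (l := 0) rfl N16040 D51933
theorem N32000 : nd 32000 = n51935 := ndS (p := 16040) (l := 7) rfl N16040 D51935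
theorem N32001 : nd 32001 = n51936 := ndS (p := 16041) (l := 3) rfl N16041 D51936
theorem N32002 : nd 32002 = n51937 := ndS (p := 16041) (l := 5) rfl N16041 D51937
theorem N32003 : nd 32003 = n51938 := ndS (p := 16041) (l := 6) rfl N16041 D51938
theorem N32004 : nd 32004 = n51939 := ndS (p := 16042) (l := 1) rfl N16042 D51939
theorem N32005 : nd 32005 = n51940 := ndS (p := 16042) (l := 7) rfl N16042 D51940
theorem N32006 : nd 32006 = n51941 := ndS (p := 16043) (l := 3) rfl N16043 D51941
theorem N32007 : nd 32007 = n51942 := ndS (p := 16043) (l := 5) rfl N16043 D51942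
theorem N32008 : nd 32008 = n51943 := ndS (p := 16043) (l := 6) rfl N16043 D51943
theorem N32009 : nd 32009 = n51944 := ndS (p := 16044) (l := 6) rfl N16044 D51944
theorem N32010 : nd 32010 = n51945 := ndS (p := 16045) (l := 0) rfl N16045 D51945
theorem N32011 : nd 32011 = n51948 := ndS (p := 16045) (l := 5) rfl N16045 D51948
theorem N32012 : nd 32012 = n51950 := ndS (p := 16046) (l := 0) rfl N16046 D51950
theorem N32013 : nd 32013 = n51951 := ndS (p := 16046) (l := 1) rfl N16046 D51951
theorem N32014 : nd 32014 = n51952 := ndS (p := 16046) (l := 6) rfl N16046 D51952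
theorem N32015 : nd 32015 = n51953 := ndS (p := 16047) (l := 0) rfl N16047 D51953
theorem N32016 : nd 32016 = n51954 := ndS (p := 16047) (l := 1) rfl N16047 D51954
theorem N32017 : nd 32017 = n51955 := ndS (p := 16047) (l := 5) rfl N16047 D51955
theorem N32018 : nd 32018 = n51958 := ndS (p := 16048) (l := 3) rfl N16048 D51958
theorem N32019 : nd 32019 = n51959 := ndS (p := 16048) (l := 4) rfl N16048 D51959
theorem N32020 : nd 32020 = n51960 := ndS (p := 16048) (l := 5) rfl N16048 D51960
theorem N32021 : nd 32021 = n51962 := ndS (p := 16049) (l := 3) rfl N16049 D51962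
theorem N32022 : nd 32022 = n51963 := ndS (p := 16049) (l := 4) rfl N16049 D51963
theorem N32023 : nd 32023 = n51964 := ndS (p := 16049) (l := 5) rfl N16049 D51964
theorem N32024 : nd 32024 = n51965 := ndS (p := 16049) (l := 6) rfl N16049 D51965
theorem N32025 : nd 32025 = n51966 := ndS (p := 16052) (l := 0) rfl N16052 D51966
theorem N32026 : nd 32026 = n51967 := ndS (p := 16056) (l := 5) rfl N16056 D51967
theorem N32027 : nd 32027 = n51968 := ndS (p := 16056) (l := 6) rfl N16056 D51968
theorem N32028 : nd 32028 = n51971 := ndS (p := 16058) (l := 4) rfl N16058 D51971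
theorem N32029 : nd 32029 = n51989 := ndS (p := 16059) (l := 4) rfl N16059 D51989
theorem N32030 : nd 32030 = n51991 := ndS (p := 16060) (l := 1) rfl N16060 D51991
theorem N32031 : nd 32031 = n51992 := ndS (p := 16060) (l := 2) rfl N16060 D51992
theorem N32032 : nd 32032 = n51993 := ndS (p := 16060) (l := 4) rfl N16060 D51993
theorem N32033 : nd 32033 = n51994 := ndS (p := 16060) (l := 6) rfl N16060 D51994
theorem N32034 : nd 32034 = n51995 := ndS (p := 16067) (l := 1) rfl N16067 D51995
theorem N32035 : nd 32035 = n51996 := ndS (p := 16067) (l := 7) rfl N16067 D51996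
theorem N32036 : nd 32036 = n51997 := ndS (p := 16068) (l := 0) rfl N16068 D51997
theorem N32037 : nd 32037 = n51998 := ndS (p := 16068) (l := 1) rfl N16068 D51998
theorem N32038 : nd 32038 = n51999 := ndS (p := 16068) (l := 7) rfl N16068 D51999
theorem N32039 : nd 32039 = n52000 := ndS (p := 16069) (l := 0) rfl N16069 D52000
theorem N32040 : nd 32040 = n52001 := ndS (p := 16069) (l := 1) rfl N16069 D52001
theorem N32041 : nd 32041 = n52002 := ndS (p := 16069) (l := 2) rfl N16069 D52002
theorem N32042 : nd 32042 = n52003 := ndS (p := 16069) (l := 6) rfl N16069 D52003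
theorem N32043 : nd 32043 = n52006 := ndS (p := 16070) (l := 5) rfl N16070 D52006
theorem N32044 : nd 32044 = n52007 := ndS (p := 16070) (l := 7) rfl N16070 D52007
theorem N32045 : nd 32045 = n52008 := ndS (p := 16071) (l := 3) rfl N16071 D52008
theorem N32046 : nd 32046 = n52009 := ndS (p := 16071) (l := 5) rfl N16071 D52009
theorem N32047 : nd 32047 = n52010 := ndS (p := 16071) (l := 6) rfl N16071 D52010
theorem N32048 : nd 32048 = n52011 := ndS (p := 16073) (l := 0) rfl N16073 D52011
theorem N32049 : nd 32049 = n52012 := ndS (p := 16073) (l := 1) rfl N16073 D52012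
theorem N32050 : nd 32050 = n52013 := ndS (p := 16073) (l := 4) rfl N16073 D52013
theorem N32051 : nd 32051 = n52014 := ndS (p := 16073) (l := 7) rfl N16073 D52014
theorem N32052 : nd 32052 = n52015 := ndS (p := 16076) (l := 3) rfl N16076 D52015
theorem N32053 : nd 32053 = n52016 := ndS (p := 16076) (l := 5) rfl N16076 D52016
theorem N32054 : nd 32054 = n52017 := ndS (p := 16077) (l := 5) rfl N16077 D52017
theorem N32055 : nd 32055 = n52018 := ndS (p := 16078) (l := 4) rfl N16078 D52018
theorem N32056 : nd 32056 = n52019 := ndS (p := 16078) (l := 6) rfl N16078 D52019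
theorem N32057 : nd 32057 = n52020 := ndS (p := 16079) (l := 6) rfl N16079 D52020
theorem N32058 : nd 32058 = n52021 := ndS (p := 16080) (l := 3) rfl N16080 D52021
theorem N32059 : nd 32059 = n52022 := ndS (p := 16080) (l := 5) rfl N16080 D52022
theorem N32060 : nd 32060 = n52023 := ndS (p := 16080) (l := 6) rfl N16080 D52023
theorem N32061 : nd 32061 = n52024 := ndS (p := 16082) (l := 3) rfl N16082 D52024
theorem N32062 : nd 32062 = n52025 := ndS (p := 16082) (l := 5) rfl N16082 D52025
theorem N32063 : nd 32063 = n52026 := ndS (p := 16082) (l := 6) rfl N16082 D52026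
theorem N32064 : nd 32064 = n52027 := ndS (p := 16085) (l := 6) rfl N16085 D52027
theorem N32065 : nd 32065 = n52028 := ndS (p := 16086) (l := 3) rfl N16086 D52028
theorem N32066 : nd 32066 = n52029 := ndS (p := 16086) (l := 5) rfl N16086 D52029
theorem N32067 : nd 32067 = n52030 := ndS (p := 16086) (l := 6) rfl N16086 D52030
theorem N32068 : nd 32068 = n52031 := ndS (p := 16088) (l := 6) rfl N16088 D52031
theorem N32069 : nd 32069 = n52032 := ndS (p := 16089) (l := 3) rfl N16089 D52032
theorem N32070 : nd 32070 = n52033 := ndS (p := 16089) (l := 5) rfl N16089 D52033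
theorem N32071 : nd 32071 = n52034 := ndS (p := 16089) (l := 6) rfl N16089 D52034
theorem N32072 : nd 32072 = n52036 := ndS (p := 16090) (l := 1) rfl N16090 D52036
theorem N32073 : nd 32073 = n52037 := ndS (p := 16090) (l := 7) rfl N16090 D52037
theorem N32074 : nd 32074 = n52038 := ndS (p := 16091) (l := 3) rfl N16091 D52038
theorem N32075 : nd 32075 = n52039 := ndS (p := 16091) (l := 5) rfl N16091 D52039
theorem N32076 : nd 32076 = n52040 := ndS (p := 16091) (l := 6) rfl N16091 D52040
theorem N32077 : nd 32077 = n52041 := ndS (p := 16092) (l := 3) rfl N16092 D52041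
theorem N32078 : nd 32078 = n52042 := ndS (p := 16092) (l := 5) rfl N16092 D52042
theorem N32079 : nd 32079 = n52043 := ndS (p := 16092) (l := 6) rfl N16092 D52043
theorem N32080 : nd 32080 = n52047 := ndS (p := 16093) (l := 5) rfl N16093 D52047
theorem N32081 : nd 32081 = n52049 := ndS (p := 16094) (l := 6) rfl N16094 D52049
theorem N32082 : nd 32082 = n52050 := ndS (p := 16095) (l := 0) rfl N16095 D52050
theorem N32083 : nd 32083 = n52051 := ndS (p := 16095) (l := 5) rfl N16095 D52051
theorem N32084 : nd 32084 = n52053 := ndS (p := 16096) (l := 3) rfl N16096 D52053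
theorem N32085 : nd 32085 = n52054 := ndS (p := 16096) (l := 4) rfl N16096 D52054
theorem N32086 : nd 32086 = n52055 := ndS (p := 16097) (l := 0) rfl N16097 D52055
theorem N32087 : nd 32087 = n52056 := ndS (p := 16097) (l := 1) rfl N16097 D52056
theorem N32088 : nd 32088 = n52057 := ndS (p := 16097) (l := 4) rfl N16097 D52057
theorem N32089 : nd 32089 = n52058 := ndS (p := 16097) (l := 7) rfl N16097 D52058
theorem N32090 : nd 32090 = n52059 := ndS (p := 16102) (l := 5) rfl N16102 D52059
theorem N32091 : nd 32091 = n52079 := ndS (p := 16103) (l := 0) rfl N16103 D52079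
theorem N32092 : nd 32092 = n52080 := ndS (p := 16103) (l := 2) rfl N16103 D52080
theorem N32093 : nd 32093 = n52081 := ndS (p := 16103) (l := 4) rfl N16103 D52081
theorem N32094 : nd 32094 = n52082 := ndS (p := 16104) (l := 3) rfl N16104 D52082
theorem N32095 : nd 32095 = n52084 := ndS (p := 16110) (l := 3) rfl N16110 D52084
theorem N32096 : nd 32096 = n52085 := ndS (p := 16110) (l := 4) rfl N16110 D52085
theorem N32097 : nd 32097 = n52086 := ndS (p := 16112) (l := 3) rfl N16112 D52086
theorem N32098 : nd 32098 = n52087 := ndS (p := 16112) (l := 6) rfl N16112 D52087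
theorem N32099 : nd 32099 = n52088 := ndS (p := 16113) (l := 0) rfl N16113 D52088
theorem N32100 : nd 32100 = n52089 := ndS (p := 16113) (l := 1) rfl N16113 D52089
theorem N32101 : nd 32101 = n52090 := ndS (p := 16113) (l := 7) rfl N16113 D52090
theorem N32102 : nd 32102 = n52091 := ndS (p := 16114) (l := 3) rfl N16114 D52091
theorem N32103 : nd 32103 = n52092 := ndS (p := 16114) (l := 6) rfl N16114 D52092
theorem N32104 : nd 32104 = n52093 := ndS (p := 16115) (l := 0) rfl N16115 D52093
theorem N32105 : nd 32105 = n52094 := ndS (p := 16115) (l := 1) rfl N16115 D52094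
theorem N32106 : nd 32106 = n52095 := ndS (p := 16115) (l := 7) rfl N16115 D52095
theorem N32107 : nd 32107 = n52096 := ndS (p := 16116) (l := 3) rfl N16116 D52096
theorem N32108 : nd 32108 = n52097 := ndS (p := 16116) (l := 6) rfl N16116 D52097
theorem N32109 : nd 32109 = n52099 := ndS (p := 16117) (l := 5) rfl N16117 D52099
theorem N32110 : nd 32110 = n52101 := ndS (p := 16118) (l := 0) rfl N16118 D52101
theorem N32111 : nd 32111 = n52102 := ndS (p := 16118) (l := 1) rfl N16118 D52102
theorem N32112 : nd 32112 = n52103 := ndS (p := 16118) (l := 2) rfl N16118 D52103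
theorem N32113 : nd 32113 = n52104 := ndS (p := 16118) (l := 5) rfl N16118 D52104
theorem N32114 : nd 32114 = n52105 := ndS (p := 16118) (l := 7) rfl N16118 D52105
theorem N32115 : nd 32115 = n52106 := ndS (p := 16119) (l := 6) rfl N16119 D52106
theorem N32116 : nd 32116 = n52107 := ndS (p := 16120) (l := 6) rfl N16120 D52107
theorem N32117 : nd 32117 = n52108 := ndS (p := 16121) (l := 0) rfl N16121 D52108
theorem N32118 : nd 32118 = n52110 := ndS (p := 16122) (l := 3) rfl N16122 D52110
theorem N32119 : nd 32119 = n52111 := ndS (p := 16122) (l := 6) rfl N16122 D52111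
theorem N32120 : nd 32120 = n52112 := ndS (p := 16123) (l := 0) rfl N16123 D52112
theorem N32121 : nd 32121 = n52113 := ndS (p := 16123) (l := 1) rfl N16123 D52113
theorem N32122 : nd 32122 = n52114 := ndS (p := 16123) (l := 7) rfl N16123 D52114
theorem N32123 : nd 32123 = n52115 := ndS (p := 16124) (l := 5) rfl N16124 D52115
theorem N32124 : nd 32124 = n52116 := ndS (p := 16125) (l := 6) rfl N16125 D52116
theorem N32125 : nd 32125 = n52117 := ndS (p := 16126) (l := 6) rfl N16126 D52117
theorem N32126 : nd 32126 = n52118 := ndS (p := 16127) (l := 5) rfl N16127 D52118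
theorem N32127 : nd 32127 = n52119 := ndS (p := 16127) (l := 6) rfl N16127 D52119
theorem N32128 : nd 32128 = n52120 := ndS (p := 16128) (l := 6) rfl N16128 D52120
theorem N32129 : nd 32129 = n52121 := ndS (p := 16130) (l := 0) rfl N16130 D52121
theorem N32130 : nd 32130 = n52122 := ndS (p := 16130) (l := 5) rfl N16130 D52122
theorem N32131 : nd 32131 = n52123 := ndS (p := 16130) (l := 7) rfl N16130 D52123
theorem N32132 : nd 32132 = n52124 := ndS (p := 16131) (l := 5) rfl N16131 D52124
theorem N32133 : nd 32133 = n52125 := ndS (p := 16132) (l := 5) rfl N16132 D52125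
theorem N32134 : nd 32134 = n52126 := ndS (p := 16133) (l := 0) rfl N16133 D52126
theorem N32135 : nd 32135 = n52127 := ndS (p := 16133) (l := 1) rfl N16133 D52127
theorem N32136 : nd 32136 = n52128 := ndS (p := 16133) (l := 4) rfl N16133 D52128
theorem N32137 : nd 32137 = n52129 := ndS (p := 16133) (l := 6) rfl N16133 D52129
theorem N32138 : nd 32138 = n52130 := ndS (p := 16133) (l := 7) rfl N16133 D52130
theorem N32139 : nd 32139 = n52131 := ndS (p := 16135) (l := 3) rfl N16135 D52131
theorem N32140 : nd 32140 = n52132 := ndS (p := 16135) (l := 6) rfl N16135 D52132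
theorem N32141 : nd 32141 = n52133 := ndS (p := 16136) (l := 3) rfl N16136 D52133
theorem N32142 : nd 32142 = n52134 := ndS (p := 16136) (l := 6) rfl N16136 D52134
theorem N32143 : nd 32143 = n52135 := ndS (p := 16137) (l := 0) rfl N16137 D52135
theorem N32144 : nd 32144 = n52136 := ndS (p := 16137) (l := 1) rfl N16137 D52136
theorem N32145 : nd 32145 = n52137 := ndS (p := 16137) (l := 7) rfl N16137 D52137
theorem N32146 : nd 32146 = n52138 := ndS (p := 16138) (l := 6) rfl N16138 D52138
theorem N32147 : nd 32147 = n52139 := ndS (p := 16139) (l := 6) rfl N16139 D52139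
theorem N32148 : nd 32148 = n52140 := ndS (p := 16140) (l := 6) rfl N16140 D52140
theorem N32149 : nd 32149 = n52141 := ndS (p := 16141) (l := 3) rfl N16141 D52141
theorem N32150 : nd 32150 = n52142 := ndS (p := 16141) (l := 5) rfl N16141 D52142
theorem N32151 : nd 32151 = n52143 := ndS (p := 16142) (l := 6) rfl N16142 D52143
theorem N32152 : nd 32152 = n52144 := ndS (p := 16143) (l := 3) rfl N16143 D52144
theorem N32153 : nd 32153 = n52145 := ndS (p := 16143) (l := 5) rfl N16143 D52145
theorem N32154 : nd 32154 = n52146 := ndS (p := 16143) (l := 6) rfl N16143 D52146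
theorem N32155 : nd 32155 = n52147 := ndS (p := 16145) (l := 3) rfl N16145 D52147
theorem N32156 : nd 32156 = n52148 := ndS (p := 16145) (l := 6) rfl N16145 D52148
theorem N32157 : nd 32157 = n52149 := ndS (p := 16146) (l := 0) rfl N16146 D52149
theorem N32158 : nd 32158 = n52150 := ndS (p := 16146) (l := 1) rfl N16146 D52150
theorem N32159 : nd 32159 = n52151 := ndS (p := 16146) (l := 2) rfl N16146 D52151
theorem N32160 : nd 32160 = n52152 := ndS (p := 16146) (l := 5) rfl N16146 D52152
theorem N32161 : nd 32161 = n52153 := ndS (p := 16146) (l := 7) rfl N16146 D52153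
theorem N32162 : nd 32162 = n52154 := ndS (p := 16147) (l := 6) rfl N16147 D52154
theorem N32163 : nd 32163 = n52155 := ndS (p := 16148) (l := 6) rfl N16148 D52155
theorem N32164 : nd 32164 = n52156 := ndS (p := 16150) (l := 3) rfl N16150 D52156
theorem N32165 : nd 32165 = n52157 := ndS (p := 16150) (l := 6) rfl N16150 D52157
theorem N32166 : nd 32166 = n52158 := ndS (p := 16151) (l := 0) rfl N16151 D52158
theorem N32167 : nd 32167 = n52159 := ndS (p := 16151) (l := 1) rfl N16151 D52159
theorem N32168 : nd 32168 = n52160 := ndS (p := 16151) (l := 7) rfl N16151 D52160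
theorem N32169 : nd 32169 = n52161 := ndS (p := 16152) (l := 6) rfl N16152 D52161
theorem N32170 : nd 32170 = n52162 := ndS (p := 16153) (l := 6) rfl N16153 D52162
theorem N32171 : nd 32171 = n52163 := ndS (p := 16155) (l := 1) rfl N16155 D52163
theorem N32172 : nd 32172 = n52164 := ndS (p := 16155) (l := 5) rfl N16155 D52164
theorem N32173 : nd 32173 = n52165 := ndS (p := 16156) (l := 6) rfl N16156 D52165
theorem N32174 : nd 32174 = n52166 := ndS (p := 16157) (l := 5) rfl N16157 D52166
theorem N32175 : nd 32175 = n52167 := ndS (p := 16158) (l := 5) rfl N16158 D52167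
theorem N32176 : nd 32176 = n52168 := ndS (p := 16159) (l := 0) rfl N16159 D52168
theorem N32177 : nd 32177 = n52169 := ndS (p := 16159) (l := 1) rfl N16159 D52169
theorem N32178 : nd 32178 = n52170 := ndS (p := 16159) (l := 4) rfl N16159 D52170
theorem N32179 : nd 32179 = n52171 := ndS (p := 16159) (l := 6) rfl N16159 D52171
theorem N32180 : nd 32180 = n52172 := ndS (p := 16159) (l := 7) rfl N16159 D52172
theorem N32181 : nd 32181 = n52173 := ndS (p := 16161) (l := 6) rfl N16161 D52173
theorem N32182 : nd 32182 = n52174 := ndS (p := 16162) (l := 6) rfl N16162 D52174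
theorem N32183 : nd 32183 = n52175 := ndS (p := 16163) (l := 3) rfl N16163 D52175
theorem N32184 : nd 32184 = n52176 := ndS (p := 16163) (l := 6) rfl N16163 D52176
theorem N32185 : nd 32185 = n52177 := ndS (p := 16164) (l := 0) rfl N16164 D52177
theorem N32186 : nd 32186 = n52178 := ndS (p := 16164) (l := 1) rfl N16164 D52178
theorem N32187 : nd 32187 = n52179 := ndS (p := 16164) (l := 7) rfl N16164 D52179
theorem N32188 : nd 32188 = n52180 := ndS (p := 16165) (l := 6) rfl N16165 D52180
theorem N32189 : nd 32189 = n52181 := ndS (p := 16166) (l := 3) rfl N16166 D52181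
theorem N32190 : nd 32190 = n52182 := ndS (p := 16167) (l := 0) rfl N16167 D52182
theorem N32191 : nd 32191 = n52183 := ndS (p := 16167) (l := 1) rfl N16167 D52183
theorem N32192 : nd 32192 = n52184 := ndS (p := 16167) (l := 7) rfl N16167 D52184
theorem N32193 : nd 32193 = n52185 := ndS (p := 16168) (l := 0) rfl N16168 D52185
theorem N32194 : nd 32194 = n52186 := ndS (p := 16168) (l := 1) rfl N16168 D52186
theorem N32195 : nd 32195 = n52187 := ndS (p := 16168) (l := 7) rfl N16168 D52187
theorem N32196 : nd 32196 = n52188 := ndS (p := 16169) (l := 0) rfl N16169 D52188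
theorem N32197 : nd 32197 = n52189 := ndS (p := 16169) (l := 1) rfl N16169 D52189
theorem N32198 : nd 32198 = n52190 := ndS (p := 16169) (l := 2) rfl N16169 D52190
theorem N32199 : nd 32199 = n52191 := ndS (p := 16169) (l := 5) rfl N16169 D52191
theorem N32200 : nd 32200 = n52192 := ndS (p := 16169) (l := 7) rfl N16169 D52192
theorem N32201 : nd 32201 = n52193 := ndS (p := 16170) (l := 6) rfl N16170 D52193
theorem N32202 : nd 32202 = n52194 := ndS (p := 16171) (l := 6) rfl N16171 D52194
theorem N32203 : nd 32203 = n52196 := ndS (p := 16172) (l := 1) rfl N16172 D52196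
theorem N32204 : nd 32204 = n52197 := ndS (p := 16173) (l := 3) rfl N16173 D52197
theorem N32205 : nd 32205 = n52198 := ndS (p := 16173) (l := 5) rfl N16173 D52198
theorem N32206 : nd 32206 = n52199 := ndS (p := 16173) (l := 7) rfl N16173 D52199
theorem N32207 : nd 32207 = n52200 := ndS (p := 16174) (l := 6) rfl N16174 D52200
theorem N32208 : nd 32208 = n52201 := ndS (p := 16175) (l := 6) rfl N16175 D52201
theorem N32209 : nd 32209 = n52202 := ndS (p := 16176) (l := 3) rfl N16176 D52202
theorem N32210 : nd 32210 = n52203 := ndS (p := 16176) (l := 5) rfl N16176 D52203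
theorem N32211 : nd 32211 = n52204 := ndS (p := 16177) (l := 0) rfl N16177 D52204
theorem N32212 : nd 32212 = n52205 := ndS (p := 16177) (l := 1) rfl N16177 D52205
theorem N32213 : nd 32213 = n52206 := ndS (p := 16177) (l := 7) rfl N16177 D52206
theorem N32214 : nd 32214 = n52207 := ndS (p := 16178) (l := 0) rfl N16178 D52207
theorem N32215 : nd 32215 = n52208 := ndS (p := 16178) (l := 1) rfl N16178 D52208
theorem N32216 : nd 32216 = n52209 := ndS (p := 16178) (l := 2) rfl N16178 D52209
theorem N32217 : nd 32217 = n52210 := ndS (p := 16178) (l := 5) rfl N16178 D52210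
theorem N32218 : nd 32218 = n52211 := ndS (p := 16178) (l := 7) rfl N16178 D52211
theorem N32219 : nd 32219 = n52212 := ndS (p := 16179) (l := 6) rfl N16179 D52212
theorem N32220 : nd 32220 = n52213 := ndS (p := 16180) (l := 6) rfl N16180 D52213
theorem N32221 : nd 32221 = n52214 := ndS (p := 16181) (l := 0) rfl N16181 D52214
theorem N32222 : nd 32222 = n52215 := ndS (p := 16181) (l := 1) rfl N16181 D52215
theorem N32223 : nd 32223 = n52216 := ndS (p := 16182) (l := 3) rfl N16182 D52216
theorem N32224 : nd 32224 = n52217 := ndS (p := 16182) (l := 5) rfl N16182 D52217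
theorem N32225 : nd 32225 = n52218 := ndS (p := 16182) (l := 7) rfl N16182 D52218
theorem N32226 : nd 32226 = n52219 := ndS (p := 16183) (l := 6) rfl N16183 D52219
theorem N32227 : nd 32227 = n52220 := ndS (p := 16184) (l := 3) rfl N16184 D52220
theorem N32228 : nd 32228 = n52221 := ndS (p := 16185) (l := 3) rfl N16185 D52221
theorem N32229 : nd 32229 = n52222 := ndS (p := 16186) (l := 4) rfl N16186 D52222
theorem N32230 : nd 32230 = n52223 := ndS (p := 16186) (l := 6) rfl N16186 D52223
theorem N32231 : nd 32231 = n52224 := ndS (p := 16188) (l := 3) rfl N16188 D52224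
theorem N32232 : nd 32232 = n52225 := ndS (p := 16188) (l := 5) rfl N16188 D52225
theorem N32233 : nd 32233 = n52226 := ndS (p := 16188) (l := 6) rfl N16188 D52226
theorem N32234 : nd 32234 = n52228 := ndS (p := 16189) (l := 1) rfl N16189 D52228
theorem N32235 : nd 32235 = n52229 := ndS (p := 16189) (l := 5) rfl N16189 D52229
theorem N32236 : nd 32236 = n52230 := ndS (p := 16189) (l := 7) rfl N16189 D52230
theorem N32237 : nd 32237 = n52231 := ndS (p := 16193) (l := 3) rfl N16193 D52231
theorem N32238 : nd 32238 = n52232 := ndS (p := 16193) (l := 5) rfl N16193 D52232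
theorem N32239 : nd 32239 = n52233 := ndS (p := 16193) (l := 6) rfl N16193 D52233
theorem N32240 : nd 32240 = n52235 := ndS (p := 16194) (l := 1) rfl N16194 D52235
theorem N32241 : nd 32241 = n52236 := ndS (p := 16194) (l := 7) rfl N16194 D52236
theorem N32242 : nd 32242 = n52237 := ndS (p := 16195) (l := 3) rfl N16195 D52237
theorem N32243 : nd 32243 = n52238 := ndS (p := 16195) (l := 5) rfl N16195 D52238
theorem N32244 : nd 32244 = n52239 := ndS (p := 16195) (l := 6) rfl N16195 D52239
theorem N32245 : nd 32245 = n52240 := ndS (p := 16196) (l := 0) rfl N16196 D52240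
theorem N32246 : nd 32246 = n52241 := ndS (p := 16196) (l := 1) rfl N16196 D52241
theorem N32247 : nd 32247 = n52242 := ndS (p := 16196) (l := 2) rfl N16196 D52242
theorem N32248 : nd 32248 = n52243 := ndS (p := 16196) (l := 5) rfl N16196 D52243
theorem N32249 : nd 32249 = n52244 := ndS (p := 16196) (l := 7) rfl N16196 D52244
theorem N32250 : nd 32250 = n52245 := ndS (p := 16197) (l := 4) rfl N16197 D52245
theorem N32251 : nd 32251 = n52246 := ndS (p := 16197) (l := 6) rfl N16197 D52246
theorem N32252 : nd 32252 = n52247 := ndS (p := 16198) (l := 6) rfl N16198 D52247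
theorem N32253 : nd 32253 = n52248 := ndS (p := 16199) (l := 0) rfl N16199 D52248
theorem N32254 : nd 32254 = n52250 := ndS (p := 16200) (l := 3) rfl N16200 D52250
theorem N32255 : nd 32255 = n52251 := ndS (p := 16200) (l := 5) rfl N16200 D52251
theorem N32256 : nd 32256 = n52252 := ndS (p := 16200) (l := 6) rfl N16200 D52252
theorem N32257 : nd 32257 = n52253 := ndS (p := 16201) (l := 0) rfl N16201 D52253
theorem N32258 : nd 32258 = n52254 := ndS (p := 16201) (l := 5) rfl N16201 D52254
theorem N32259 : nd 32259 = n52255 := ndS (p := 16201) (l := 7) rfl N16201 D52255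
theorem N32260 : nd 32260 = n52256 := ndS (p := 16205) (l := 3) rfl N16205 D52256
theorem N32261 : nd 32261 = n52257 := ndS (p := 16205) (l := 5) rfl N16205 D52257
theorem N32262 : nd 32262 = n52258 := ndS (p := 16205) (l := 6) rfl N16205 D52258
theorem N32263 : nd 32263 = n52259 := ndS (p := 16206) (l := 0) rfl N16206 D52259
theorem N32264 : nd 32264 = n52261 := ndS (p := 16206) (l := 7) rfl N16206 D52261
theorem N32265 : nd 32265 = n52262 := ndS (p := 16207) (l := 0) rfl N16207 D52262
theorem N32266 : nd 32266 = n52263 := ndS (p := 16207) (l := 1) rfl N16207 D52263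
theorem N32267 : nd 32267 = n52264 := ndS (p := 16207) (l := 2) rfl N16207 D52264
theorem N32268 : nd 32268 = n52265 := ndS (p := 16207) (l := 5) rfl N16207 D52265
theorem N32269 : nd 32269 = n52266 := ndS (p := 16207) (l := 7) rfl N16207 D52266
theorem N32270 : nd 32270 = n52267 := ndS (p := 16208) (l := 4) rfl N16208 D52267
theorem N32271 : nd 32271 = n52268 := ndS (p := 16208) (l := 6) rfl N16208 D52268
theorem N32272 : nd 32272 = n52269 := ndS (p := 16209) (l := 6) rfl N16209 D52269
theorem N32273 : nd 32273 = n52270 := ndS (p := 16211) (l := 3) rfl N16211 D52270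
theorem N32274 : nd 32274 = n52271 := ndS (p := 16211) (l := 6) rfl N16211 D52271
theorem N32275 : nd 32275 = n52272 := ndS (p := 16213) (l := 3) rfl N16213 D52272
theorem N32276 : nd 32276 = n52273 := ndS (p := 16213) (l := 5) rfl N16213 D52273
theorem N32277 : nd 32277 = n52274 := ndS (p := 16213) (l := 6) rfl N16213 D52274
theorem N32278 : nd 32278 = n52275 := ndS (p := 16214) (l := 0) rfl N16214 D52275
theorem N32279 : nd 32279 = n52276 := ndS (p := 16214) (l := 1) rfl N16214 D52276
theorem N32280 : nd 32280 = n52277 := ndS (p := 16214) (l := 2) rfl N16214 D52277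
theorem N32281 : nd 32281 = n52278 := ndS (p := 16214) (l := 5) rfl N16214 D52278
theorem N32282 : nd 32282 = n52279 := ndS (p := 16214) (l := 6) rfl N16214 D52279
theorem N32283 : nd 32283 = n52280 := ndS (p := 16215) (l := 6) rfl N16215 D52280
theorem N32284 : nd 32284 = n52282 := ndS (p := 16216) (l := 1) rfl N16216 D52282
theorem N32285 : nd 32285 = n52283 := ndS (p := 16216) (l := 5) rfl N16216 D52283
theorem N32286 : nd 32286 = n52284 := ndS (p := 16216) (l := 7) rfl N16216 D52284
theorem N32287 : nd 32287 = n52287 := ndS (p := 16217) (l := 4) rfl N16217 D52287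
theorem N32288 : nd 32288 = n52288 := ndS (p := 16217) (l := 5) rfl N16217 D52288
theorem N32289 : nd 32289 = n52291 := ndS (p := 16218) (l := 4) rfl N16218 D52291
theorem N32290 : nd 32290 = n52292 := ndS (p := 16218) (l := 5) rfl N16218 D52292
theorem N32291 : nd 32291 = n52293 := ndS (p := 16218) (l := 6) rfl N16218 D52293
theorem N32292 : nd 32292 = n52294 := ndS (p := 16220) (l := 6) rfl N16220 D52294
theorem N32293 : nd 32293 = n52295 := ndS (p := 16221) (l := 3) rfl N16221 D52295
theorem N32294 : nd 32294 = n52296 := ndS (p := 16221) (l := 5) rfl N16221 D52296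
theorem N32295 : nd 32295 = n52297 := ndS (p := 16221) (l := 6) rfl N16221 D52297
theorem N32296 : nd 32296 = n52298 := ndS (p := 16222) (l := 7) rfl N16222 D52298
theorem N32297 : nd 32297 = n52299 := ndS (p := 16223) (l := 0) rfl N16223 D52299
theorem N32298 : nd 32298 = n52300 := ndS (p := 16223) (l := 1) rfl N16223 D52300
theorem N32299 : nd 32299 = n52301 := ndS (p := 16223) (l := 2) rfl N16223 D52301
theorem N32300 : nd 32300 = n52302 := ndS (p := 16223) (l := 5) rfl N16223 D52302
theorem N32301 : nd 32301 = n52303 := ndS (p := 16223) (l := 6) rfl N16223 D52303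
theorem N32302 : nd 32302 = n52304 := ndS (p := 16224) (l := 6) rfl N16224 D52304
theorem N32303 : nd 32303 = n52305 := ndS (p := 16225) (l := 0) rfl N16225 D52305
theorem N32304 : nd 32304 = n52306 := ndS (p := 16225) (l := 5) rfl N16225 D52306
theorem N32305 : nd 32305 = n52307 := ndS (p := 16225) (l := 7) rfl N16225 D52307
theorem N32306 : nd 32306 = n52308 := ndS (p := 16226) (l := 4) rfl N16226 D52308
theorem N32307 : nd 32307 = n52309 := ndS (p := 16226) (l := 5) rfl N16226 D52309
theorem N32308 : nd 32308 = n52310 := ndS (p := 16226) (l := 6) rfl N16226 D52310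
theorem N32309 : nd 32309 = n52311 := ndS (p := 16227) (l := 4) rfl N16227 D52311
theorem N32310 : nd 32310 = n52312 := ndS (p := 16229) (l := 0) rfl N16229 D52312
theorem N32311 : nd 32311 = n52313 := ndS (p := 16229) (l := 1) rfl N16229 D52313
theorem N32312 : nd 32312 = n52314 := ndS (p := 16229) (l := 2) rfl N16229 D52314
theorem N32313 : nd 32313 = n52315 := ndS (p := 16229) (l := 5) rfl N16229 D52315
theorem N32314 : nd 32314 = n52316 := ndS (p := 16229) (l := 6) rfl N16229 D52316
theorem N32315 : nd 32315 = n52317 := ndS (p := 16230) (l := 6) rfl N16230 D52317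
theorem N32316 : nd 32316 = n52318 := ndS (p := 16231) (l := 0) rfl N16231 D52318
theorem N32317 : nd 32317 = n52319 := ndS (p := 16231) (l := 1) rfl N16231 D52319
theorem N32318 : nd 32318 = n52320 := ndS (p := 16231) (l := 5) rfl N16231 D52320
theorem N32319 : nd 32319 = n52321 := ndS (p := 16231) (l := 7) rfl N16231 D52321
theorem N32320 : nd 32320 = n52324 := ndS (p := 16232) (l := 4) rfl N16232 D52324
theorem N32321 : nd 32321 = n52325 := ndS (p := 16232) (l := 5) rfl N16232 D52325
theorem N32322 : nd 32322 = n52328 := ndS (p := 16233) (l := 4) rfl N16233 D52328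
theorem N32323 : nd 32323 = n52329 := ndS (p := 16233) (l := 5) rfl N16233 D52329
theorem N32324 : nd 32324 = n52330 := ndS (p := 16233) (l := 6) rfl N16233 D52330
theorem N32325 : nd 32325 = n52331 := ndS (p := 16234) (l := 1) rfl N16234 D52331
theorem N32326 : nd 32326 = n52332 := ndS (p := 16234) (l := 4) rfl N16234 D52332
theorem N32327 : nd 32327 = n52333 := ndS (p := 16234) (l := 7) rfl N16234 D52333
theorem N32328 : nd 32328 = n52334 := ndS (p := 16236) (l := 3) rfl N16236 D52334
theorem N32329 : nd 32329 = n52335 := ndS (p := 16236) (l := 5) rfl N16236 D52335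
theorem N32330 : nd 32330 = n52336 := ndS (p := 16236) (l := 6) rfl N16236 D52336
theorem N32331 : nd 32331 = n52339 := ndS (p := 16237) (l := 7) rfl N16237 D52339
theorem N32332 : nd 32332 = n52340 := ndS (p := 16238) (l := 0) rfl N16238 D52340
theorem N32333 : nd 32333 = n52341 := ndS (p := 16238) (l := 1) rfl N16238 D52341
theorem N32334 : nd 32334 = n52342 := ndS (p := 16238) (l := 2) rfl N16238 D52342
theorem N32335 : nd 32335 = n52343 := ndS (p := 16238) (l := 5) rfl N16238 D52343
theorem N32336 : nd 32336 = n52344 := ndS (p := 16238) (l := 6) rfl N16238 D52344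
theorem N32337 : nd 32337 = n52345 := ndS (p := 16239) (l := 6) rfl N16239 D52345
theorem N32338 : nd 32338 = n52346 := ndS (p := 16240) (l := 0) rfl N16240 D52346
theorem N32339 : nd 32339 = n52347 := ndS (p := 16240) (l := 1) rfl N16240 D52347
theorem N32340 : nd 32340 = n52348 := ndS (p := 16240) (l := 5) rfl N16240 D52348
theorem N32341 : nd 32341 = n52349 := ndS (p := 16240) (l := 7) rfl N16240 D52349
theorem N32342 : nd 32342 = n52352 := ndS (p := 16241) (l := 4) rfl N16241 D52352
theorem N32343 : nd 32343 = n52353 := ndS (p := 16241) (l := 5) rfl N16241 D52353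
theorem N32344 : nd 32344 = n52354 := ndS (p := 16241) (l := 6) rfl N16241 D52354
theorem N32345 : nd 32345 = n52357 := ndS (p := 16242) (l := 4) rfl N16242 D52357
theorem N32346 : nd 32346 = n52358 := ndS (p := 16242) (l := 5) rfl N16242 D52358
theorem N32347 : nd 32347 = n52360 := ndS (p := 16244) (l := 0) rfl N16244 D52360
theorem N32348 : nd 32348 = n52361 := ndS (p := 16244) (l := 1) rfl N16244 D52361
theorem N32349 : nd 32349 = n52362 := ndS (p := 16244) (l := 2) rfl N16244 D52362
theorem N32350 : nd 32350 = n52363 := ndS (p := 16244) (l := 5) rfl N16244 D52363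
theorem N32351 : nd 32351 = n52364 := ndS (p := 16244) (l := 6) rfl N16244 D52364
theorem N32352 : nd 32352 = n52365 := ndS (p := 16245) (l := 6) rfl N16245 D52365
theorem N32353 : nd 32353 = n52368 := ndS (p := 16246) (l := 5) rfl N16246 D52368
theorem N32354 : nd 32354 = n52369 := ndS (p := 16246) (l := 7) rfl N16246 D52369
theorem N32355 : nd 32355 = n52370 := ndS (p := 16247) (l := 0) rfl N16247 D52370
theorem N32356 : nd 32356 = n52371 := ndS (p := 16247) (l := 1) rfl N16247 D52371
theorem N32357 : nd 32357 = n52372 := ndS (p := 16247) (l := 2) rfl N16247 D52372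
theorem N32358 : nd 32358 = n52373 := ndS (p := 16247) (l := 4) rfl N16247 D52373
theorem N32359 : nd 32359 = n52374 := ndS (p := 16247) (l := 5) rfl N16247 D52374
theorem N32360 : nd 32360 = n52375 := ndS (p := 16247) (l := 6) rfl N16247 D52375
theorem N32361 : nd 32361 = n52376 := ndS (p := 16248) (l := 6) rfl N16248 D52376
theorem N32362 : nd 32362 = n52379 := ndS (p := 16249) (l := 5) rfl N16249 D52379
theorem N32363 : nd 32363 = n52380 := ndS (p := 16249) (l := 7) rfl N16249 D52380
theorem N32364 : nd 32364 = n52381 := ndS (p := 16250) (l := 0) rfl N16250 D52381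
theorem N32365 : nd 32365 = n52382 := ndS (p := 16250) (l := 2) rfl N16250 D52382
theorem N32366 : nd 32366 = n52383 := ndS (p := 16250) (l := 3) rfl N16250 D52383
theorem N32367 : nd 32367 = n52384 := ndS (p := 16250) (l := 4) rfl N16250 D52384
theorem N32368 : nd 32368 = n52385 := ndS (p := 16250) (l := 5) rfl N16250 D52385
theorem N32369 : nd 32369 = n52386 := ndS (p := 16250) (l := 6) rfl N16250 D52386
theorem N32370 : nd 32370 = n52387 := ndS (p := 16250) (l := 7) rfl N16250 D52387
theorem N32371 : nd 32371 = n52388 := ndS (p := 16251) (l := 3) rfl N16251 D52388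
theorem N32372 : nd 32372 = n52389 := ndS (p := 16251) (l := 4) rfl N16251 D52389
theorem N32373 : nd 32373 = n52390 := ndS (p := 16251) (l := 5) rfl N16251 D52390
theorem N32374 : nd 32374 = n52391 := ndS (p := 16251) (l := 6) rfl N16251 D52391
theorem N32375 : nd 32375 = n52394 := ndS (p := 16252) (l := 5) rfl N16252 D52394
theorem N32376 : nd 32376 = n52395 := ndS (p := 16253) (l := 0) rfl N16253 D52395
theorem N32377 : nd 32377 = n52396 := ndS (p := 16253) (l := 1) rfl N16253 D52396
theorem N32378 : nd 32378 = n52397 := ndS (p := 16253) (l := 4) rfl N16253 D52397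
theorem N32379 : nd 32379 = n52398 := ndS (p := 16253) (l := 6) rfl N16253 D52398
theorem N32380 : nd 32380 = n52399 := ndS (p := 16254) (l := 6) rfl N16254 D52399
theorem N32381 : nd 32381 = n52400 := ndS (p := 16255) (l := 3) rfl N16255 D52400
theorem N32382 : nd 32382 = n52401 := ndS (p := 16255) (l := 6) rfl N16255 D52401
theorem N32383 : nd 32383 = n52402 := ndS (p := 16256) (l := 3) rfl N16256 D52402
theorem N32384 : nd 32384 = n52403 := ndS (p := 16256) (l := 6) rfl N16256 D52403
theorem N32385 : nd 32385 = n52404 := ndS (p := 16257) (l := 0) rfl N16257 D52404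
theorem N32386 : nd 32386 = n52405 := ndS (p := 16257) (l := 1) rfl N16257 D52405
theorem N32387 : nd 32387 = n52406 := ndS (p := 16257) (l := 7) rfl N16257 D52406
theorem N32388 : nd 32388 = n52407 := ndS (p := 16258) (l := 0) rfl N16258 D52407
theorem N32389 : nd 32389 = n52408 := ndS (p := 16258) (l := 1) rfl N16258 D52408
theorem N32390 : nd 32390 = n52409 := ndS (p := 16258) (l := 5) rfl N16258 D52409
theorem N32391 : nd 32391 = n52412 := ndS (p := 16259) (l := 4) rfl N16259 D52412
theorem N32392 : nd 32392 = n52413 := ndS (p := 16259) (l := 5) rfl N16259 D52413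
theorem N32393 : nd 32393 = n52414 := ndS (p := 16259) (l := 6) rfl N16259 D52414
theorem N32394 : nd 32394 = n52417 := ndS (p := 16260) (l := 4) rfl N16260 D52417
theorem N32395 : nd 32395 = n52418 := ndS (p := 16260) (l := 5) rfl N16260 D52418
theorem N32396 : nd 32396 = n52419 := ndS (p := 16260) (l := 6) rfl N16260 D52419
theorem N32397 : nd 32397 = n52420 := ndS (p := 16261) (l := 6) rfl N16261 D52420
theorem N32398 : nd 32398 = n52421 := ndS (p := 16262) (l := 3) rfl N16262 D52421
theorem N32399 : nd 32399 = n52422 := ndS (p := 16262) (l := 6) rfl N16262 D52422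
theorem N32400 : nd 32400 = n52423 := ndS (p := 16263) (l := 0) rfl N16263 D52423
theorem N32401 : nd 32401 = n52424 := ndS (p := 16263) (l := 1) rfl N16263 D52424
theorem N32402 : nd 32402 = n52425 := ndS (p := 16263) (l := 7) rfl N16263 D52425
theorem N32403 : nd 32403 = n52426 := ndS (p := 16266) (l := 0) rfl N16266 D52426
theorem N32404 : nd 32404 = n52427 := ndS (p := 16266) (l := 1) rfl N16266 D52427
theorem N32405 : nd 32405 = n52428 := ndS (p := 16266) (l := 2) rfl N16266 D52428
theorem N32406 : nd 32406 = n52429 := ndS (p := 16266) (l := 6) rfl N16266 D52429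
theorem N32407 : nd 32407 = n52432 := ndS (p := 16267) (l := 5) rfl N16267 D52432
theorem N32408 : nd 32408 = n52433 := ndS (p := 16267) (l := 7) rfl N16267 D52433
theorem N32409 : nd 32409 = n52436 := ndS (p := 16268) (l := 4) rfl N16268 D52436
theorem N32410 : nd 32410 = n52437 := ndS (p := 16268) (l := 5) rfl N16268 D52437
theorem N32411 : nd 32411 = n52443 := ndS (p := 16270) (l := 0) rfl N16270 D52443
theorem N32412 : nd 32412 = n52444 := ndS (p := 16270) (l := 1) rfl N16270 D52444
theorem N32413 : nd 32413 = n52445 := ndS (p := 16270) (l := 5) rfl N16270 D52445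
theorem N32414 : nd 32414 = n52446 := ndS (p := 16271) (l := 6) rfl N16271 D52446
theorem N32415 : nd 32415 = n52447 := ndS (p := 16272) (l := 6) rfl N16272 D52447
theorem N32416 : nd 32416 = n52448 := ndS (p := 16273) (l := 3) rfl N16273 D52448
theorem N32417 : nd 32417 = n52450 := ndS (p := 16273) (l := 6) rfl N16273 D52450
theorem N32418 : nd 32418 = n52451 := ndS (p := 16275) (l := 5) rfl N16275 D52451
theorem N32419 : nd 32419 = n52452 := ndS (p := 16275) (l := 6) rfl N16275 D52452
theorem N32420 : nd 32420 = n52453 := ndS (p := 16276) (l := 0) rfl N16276 D52453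
theorem N32421 : nd 32421 = n52454 := ndS (p := 16276) (l := 1) rfl N16276 D52454
theorem N32422 : nd 32422 = n52455 := ndS (p := 16276) (l := 4) rfl N16276 D52455
theorem N32423 : nd 32423 = n52456 := ndS (p := 16276) (l := 6) rfl N16276 D52456
theorem N32424 : nd 32424 = n52457 := ndS (p := 16277) (l := 0) rfl N16277 D52457
theorem N32425 : nd 32425 = n52458 := ndS (p := 16277) (l := 1) rfl N16277 D52458
theorem N32426 : nd 32426 = n52459 := ndS (p := 16277) (l := 5) rfl N16277 D52459
theorem N32427 : nd 32427 = n52460 := ndS (p := 16278) (l := 0) rfl N16278 D52460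
theorem N32428 : nd 32428 = n52461 := ndS (p := 16278) (l := 1) rfl N16278 D52461
theorem N32429 : nd 32429 = n52462 := ndS (p := 16278) (l := 5) rfl N16278 D52462
theorem N32430 : nd 32430 = n52463 := ndS (p := 16278) (l := 7) rfl N16278 D52463
theorem N32431 : nd 32431 = n52464 := ndS (p := 16279) (l := 3) rfl N16279 D52464
theorem N32432 : nd 32432 = n52465 := ndS (p := 16280) (l := 3) rfl N16280 D52465
theorem N32433 : nd 32433 = n52466 := ndS (p := 16281) (l := 4) rfl N16281 D52466
theorem N32434 : nd 32434 = n52467 := ndS (p := 16282) (l := 3) rfl N16282 D52467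
theorem N32435 : nd 32435 = n52468 := ndS (p := 16283) (l := 6) rfl N16283 D52468
theorem N32436 : nd 32436 = n52469 := ndS (p := 16284) (l := 3) rfl N16284 D52469
theorem N32437 : nd 32437 = n52470 := ndS (p := 16284) (l := 5) rfl N16284 D52470
theorem N32438 : nd 32438 = n52471 := ndS (p := 16284) (l := 6) rfl N16284 D52471
theorem N32439 : nd 32439 = n52472 := ndS (p := 16285) (l := 0) rfl N16285 D52472
theorem N32440 : nd 32440 = n52473 := ndS (p := 16285) (l := 7) rfl N16285 D52473
theorem N32441 : nd 32441 = n52474 := ndS (p := 16286) (l := 0) rfl N16286 D52474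
theorem N32442 : nd 32442 = n52475 := ndS (p := 16286) (l := 1) rfl N16286 D52475
theorem N32443 : nd 32443 = n52476 := ndS (p := 16286) (l := 2) rfl N16286 D52476
theorem N32444 : nd 32444 = n52477 := ndS (p := 16286) (l := 6) rfl N16286 D52477
theorem N32445 : nd 32445 = n52480 := ndS (p := 16287) (l := 5) rfl N16287 D52480
theorem N32446 : nd 32446 = n52481 := ndS (p := 16287) (l := 7) rfl N16287 D52481
theorem N32447 : nd 32447 = n52482 := ndS (p := 16288) (l := 4) rfl N16288 D52482
theorem N32448 : nd 32448 = n52483 := ndS (p := 16290) (l := 5) rfl N16290 D52483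
theorem N32449 : nd 32449 = n52484 := ndS (p := 16291) (l := 3) rfl N16291 D52484
theorem N32450 : nd 32450 = n52485 := ndS (p := 16291) (l := 5) rfl N16291 D52485
theorem N32451 : nd 32451 = n52486 := ndS (p := 16291) (l := 6) rfl N16291 D52486
theorem N32452 : nd 32452 = n52487 := ndS (p := 16292) (l := 5) rfl N16292 D52487
theorem N32453 : nd 32453 = n52488 := ndS (p := 16293) (l := 0) rfl N16293 D52488
theorem N32454 : nd 32454 = n52489 := ndS (p := 16293) (l := 1) rfl N16293 D52489
theorem N32455 : nd 32455 = n52490 := ndS (p := 16293) (l := 4) rfl N16293 D52490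
theorem N32456 : nd 32456 = n52491 := ndS (p := 16293) (l := 6) rfl N16293 D52491
theorem N32457 : nd 32457 = n52492 := ndS (p := 16294) (l := 0) rfl N16294 D52492
theorem N32458 : nd 32458 = n52493 := ndS (p := 16294) (l := 1) rfl N16294 D52493
theorem N32459 : nd 32459 = n52494 := ndS (p := 16294) (l := 7) rfl N16294 D52494
theorem N32460 : nd 32460 = n52495 := ndS (p := 16295) (l := 6) rfl N16295 D52495
theorem N32461 : nd 32461 = n52496 := ndS (p := 16297) (l := 5) rfl N16297 D52496
theorem N32462 : nd 32462 = n52497 := ndS (p := 16298) (l := 0) rfl N16298 D52497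
theorem N32463 : nd 32463 = n52498 := ndS (p := 16298) (l := 1) rfl N16298 D52498
theorem N32464 : nd 32464 = n52499 := ndS (p := 16298) (l := 4) rfl N16298 D52499
theorem N32465 : nd 32465 = n52500 := ndS (p := 16298) (l := 6) rfl N16298 D52500
theorem N32466 : nd 32466 = n52501 := ndS (p := 16299) (l := 0) rfl N16299 D52501
theorem N32467 : nd 32467 = n52502 := ndS (p := 16299) (l := 5) rfl N16299 D52502
theorem N32468 : nd 32468 = n52503 := ndS (p := 16300) (l := 3) rfl N16300 D52503
theorem N32469 : nd 32469 = n52504 := ndS (p := 16300) (l := 6) rfl N16300 D52504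
theorem N32470 : nd 32470 = n52505 := ndS (p := 16301) (l := 6) rfl N16301 D52505
theorem N32471 : nd 32471 = n52506 := ndS (p := 16302) (l := 0) rfl N16302 D52506
theorem N32472 : nd 32472 = n52507 := ndS (p := 16302) (l := 1) rfl N16302 D52507
theorem N32473 : nd 32473 = n52508 := ndS (p := 16302) (l := 5) rfl N16302 D52508
theorem N32474 : nd 32474 = n52509 := ndS (p := 16302) (l := 7) rfl N16302 D52509
theorem N32475 : nd 32475 = n52510 := ndS (p := 16303) (l := 5) rfl N16303 D52510
theorem N32476 : nd 32476 = n52511 := ndS (p := 16304) (l := 4) rfl N16304 D52511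
theorem N32477 : nd 32477 = n52512 := ndS (p := 16306) (l := 5) rfl N16306 D52512
theorem N32478 : nd 32478 = n52513 := ndS (p := 16307) (l := 5) rfl N16307 D52513
theorem N32479 : nd 32479 = n52515 := ndS (p := 16309) (l := 6) rfl N16309 D52515
theorem N32480 : nd 32480 = n52516 := ndS (p := 16310) (l := 0) rfl N16310 D52516
theorem N32481 : nd 32481 = n52517 := ndS (p := 16310) (l := 1) rfl N16310 D52517
theorem N32482 : nd 32482 = n52518 := ndS (p := 16310) (l := 4) rfl N16310 D52518
theorem N32483 : nd 32483 = n52519 := ndS (p := 16311) (l := 0) rfl N16311 D52519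
theorem N32484 : nd 32484 = n52520 := ndS (p := 16311) (l := 1) rfl N16311 D52520
theorem N32485 : nd 32485 = n52521 := ndS (p := 16311) (l := 7) rfl N16311 D52521
theorem N32486 : nd 32486 = n52522 := ndS (p := 16313) (l := 3) rfl N16313 D52522
theorem N32487 : nd 32487 = n52523 := ndS (p := 16314) (l := 6) rfl N16314 D52523
theorem N32488 : nd 32488 = n52524 := ndS (p := 16315) (l := 0) rfl N16315 D52524
theorem N32489 : nd 32489 = n52525 := ndS (p := 16315) (l := 1) rfl N16315 D52525
theorem N32490 : nd 32490 = n52526 := ndS (p := 16315) (l := 5) rfl N16315 D52526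
theorem N32491 : nd 32491 = n52527 := ndS (p := 16315) (l := 7) rfl N16315 D52527
theorem N32492 : nd 32492 = n52528 := ndS (p := 16316) (l := 4) rfl N16316 D52528
theorem N32493 : nd 32493 = n52530 := ndS (p := 16318) (l := 5) rfl N16318 D52530
theorem N32494 : nd 32494 = n52532 := ndS (p := 16319) (l := 3) rfl N16319 D52532
theorem N32495 : nd 32495 = n52533 := ndS (p := 16319) (l := 5) rfl N16319 D52533
theorem N32496 : nd 32496 = n52534 := ndS (p := 16319) (l := 6) rfl N16319 D52534
theorem N32497 : nd 32497 = n52535 := ndS (p := 16320) (l := 0) rfl N16320 D52535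
theorem N32498 : nd 32498 = n52536 := ndS (p := 16320) (l := 1) rfl N16320 D52536
theorem N32499 : nd 32499 = n52537 := ndS (p := 16320) (l := 4) rfl N16320 D52537
theorem N32500 : nd 32500 = n52538 := ndS (p := 16321) (l := 0) rfl N16321 D52538
theorem N32501 : nd 32501 = n52539 := ndS (p := 16321) (l := 1) rfl N16321 D52539
theorem N32502 : nd 32502 = n52540 := ndS (p := 16321) (l := 7) rfl N16321 D52540
theorem N32503 : nd 32503 = n52541 := ndS (p := 16322) (l := 5) rfl N16322 D52541
theorem N32504 : nd 32504 = n52542 := ndS (p := 16323) (l := 3) rfl N16323 D52542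
theorem N32505 : nd 32505 = n52544 := ndS (p := 16324) (l := 1) rfl N16324 D52544
theorem N32506 : nd 32506 = n52545 := ndS (p := 16324) (l := 5) rfl N16324 D52545
theorem N32507 : nd 32507 = n52546 := ndS (p := 16325) (l := 0) rfl N16325 D52546
theorem N32508 : nd 32508 = n52547 := ndS (p := 16325) (l := 5) rfl N16325 D52547
theorem N32509 : nd 32509 = n52548 := ndS (p := 16325) (l := 7) rfl N16325 D52548
theorem N32510 : nd 32510 = n52551 := ndS (p := 16326) (l := 7) rfl N16326 D52551
theorem N32511 : nd 32511 = n52552 := ndS (p := 16327) (l := 5) rfl N16327 D52552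
theorem N32512 : nd 32512 = n52553 := ndS (p := 16328) (l := 6) rfl N16328 D52553
theorem N32513 : nd 32513 = n52554 := ndS (p := 16329) (l := 5) rfl N16329 D52554
theorem N32514 : nd 32514 = n52555 := ndS (p := 16329) (l := 6) rfl N16329 D52555
theorem N32515 : nd 32515 = n52556 := ndS (p := 16330) (l := 5) rfl N16330 D52556
theorem N32516 : nd 32516 = n52557 := ndS (p := 16330) (l := 6) rfl N16330 D52557
theorem N32517 : nd 32517 = n52559 := ndS (p := 16331) (l := 6) rfl N16331 D52559
theorem N32518 : nd 32518 = n52560 := ndS (p := 16332) (l := 1) rfl N16332 D52560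
theorem N32519 : nd 32519 = n52561 := ndS (p := 16333) (l := 0) rfl N16333 D52561
theorem N32520 : nd 32520 = n52562 := ndS (p := 16333) (l := 1) rfl N16333 D52562
theorem N32521 : nd 32521 = n52563 := ndS (p := 16333) (l := 4) rfl N16333 D52563
theorem N32522 : nd 32522 = n52564 := ndS (p := 16333) (l := 6) rfl N16333 D52564
theorem N32523 : nd 32523 = n52565 := ndS (p := 16334) (l := 3) rfl N16334 D52565
theorem N32524 : nd 32524 = n52566 := ndS (p := 16334) (l := 4) rfl N16334 D52566
theorem N32525 : nd 32525 = n52567 := ndS (p := 16334) (l := 6) rfl N16334 D52567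
theorem N32526 : nd 32526 = n52568 := ndS (p := 16335) (l := 3) rfl N16335 D52568
theorem N32527 : nd 32527 = n52569 := ndS (p := 16335) (l := 4) rfl N16335 D52569
theorem N32528 : nd 32528 = n52570 := ndS (p := 16335) (l := 6) rfl N16335 D52570
theorem N32529 : nd 32529 = n52571 := ndS (p := 16336) (l := 0) rfl N16336 D52571
theorem N32530 : nd 32530 = n52572 := ndS (p := 16336) (l := 1) rfl N16336 D52572
theorem N32531 : nd 32531 = n52573 := ndS (p := 16336) (l := 3) rfl N16336 D52573
theorem N32532 : nd 32532 = n52574 := ndS (p := 16336) (l := 5) rfl N16336 D52574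
theorem N32533 : nd 32533 = n52575 := ndS (p := 16336) (l := 6) rfl N16336 D52575
theorem N32534 : nd 32534 = n52576 := ndS (p := 16336) (l := 7) rfl N16336 D52576
theorem N32535 : nd 32535 = n52577 := ndS (p := 16337) (l := 0) rfl N16337 D52577
theorem N32536 : nd 32536 = n52579 := ndS (p := 16337) (l := 7) rfl N16337 D52579
theorem N32537 : nd 32537 = n52580 := ndS (p := 16338) (l := 6) rfl N16338 D52580
theorem N32538 : nd 32538 = n52581 := ndS (p := 16339) (l := 1) rfl N16339 D52581
theorem N32539 : nd 32539 = n52582 := ndS (p := 16339) (l := 5) rfl N16339 D52582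
theorem N32540 : nd 32540 = n52583 := ndS (p := 16340) (l := 2) rfl N16340 D52583
theorem N32541 : nd 32541 = n52584 := ndS (p := 16340) (l := 4) rfl N16340 D52584
theorem N32542 : nd 32542 = n52585 := ndS (p := 16340) (l := 6) rfl N16340 D52585
theorem N32543 : nd 32543 = n52586 := ndS (p := 16341) (l := 0) rfl N16341 D52586
theorem N32544 : nd 32544 = n52587 := ndS (p := 16341) (l := 1) rfl N16341 D52587
theorem N32545 : nd 32545 = n52588 := ndS (p := 16341) (l := 5) rfl N16341 D52588
theorem N32546 : nd 32546 = n52589 := ndS (p := 16341) (l := 7) rfl N16341 D52589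
theorem N32547 : nd 32547 = n52592 := ndS (p := 16342) (l := 2) rfl N16342 D52592
theorem N32548 : nd 32548 = n52593 := ndS (p := 16342) (l := 4) rfl N16342 D52593
theorem N32549 : nd 32549 = n52594 := ndS (p := 16342) (l := 6) rfl N16342 D52594
theorem N32550 : nd 32550 = n52595 := ndS (p := 16343) (l := 0) rfl N16343 D52595
theorem N32551 : nd 32551 = n52596 := ndS (p := 16343) (l := 1) rfl N16343 D52596
theorem N32552 : nd 32552 = n52597 := ndS (p := 16343) (l := 7) rfl N16343 D52597
theorem N32553 : nd 32553 = n52598 := ndS (p := 16344) (l := 0) rfl N16344 D52598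
theorem N32554 : nd 32554 = n52599 := ndS (p := 16344) (l := 1) rfl N16344 D52599
theorem N32555 : nd 32555 = n52600 := ndS (p := 16344) (l := 2) rfl N16344 D52600
theorem N32556 : nd 32556 = n52601 := ndS (p := 16344) (l := 6) rfl N16344 D52601
theorem N32557 : nd 32557 = n52602 := ndS (p := 16345) (l := 0) rfl N16345 D52602
theorem N32558 : nd 32558 = n52603 := ndS (p := 16345) (l := 1) rfl N16345 D52603
theorem N32559 : nd 32559 = n52604 := ndS (p := 16345) (l := 5) rfl N16345 D52604
theorem N32560 : nd 32560 = n52605 := ndS (p := 16345) (l := 7) rfl N16345 D52605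
theorem N32561 : nd 32561 = n52607 := ndS (p := 16346) (l := 3) rfl N16346 D52607
theorem N32562 : nd 32562 = n52608 := ndS (p := 16346) (l := 4) rfl N16346 D52608
theorem N32563 : nd 32563 = n52609 := ndS (p := 16346) (l := 5) rfl N16346 D52609
theorem N32564 : nd 32564 = n52610 := ndS (p := 16346) (l := 6) rfl N16346 D52610
theorem N32565 : nd 32565 = n52612 := ndS (p := 16347) (l := 3) rfl N16347 D52612
theorem N32566 : nd 32566 = n52613 := ndS (p := 16347) (l := 4) rfl N16347 D52613
theorem N32567 : nd 32567 = n52614 := ndS (p := 16347) (l := 5) rfl N16347 D52614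
theorem N32568 : nd 32568 = n52615 := ndS (p := 16347) (l := 6) rfl N16347 D52615
theorem N32569 : nd 32569 = n52616 := ndS (p := 16348) (l := 6) rfl N16348 D52616
theorem N32570 : nd 32570 = n52617 := ndS (p := 16349) (l := 0) rfl N16349 D52617
theorem N32571 : nd 32571 = n52618 := ndS (p := 16349) (l := 1) rfl N16349 D52618
theorem N32572 : nd 32572 = n52619 := ndS (p := 16349) (l := 5) rfl N16349 D52619
theorem N32573 : nd 32573 = n52620 := ndS (p := 16350) (l := 4) rfl N16350 D52620
theorem N32574 : nd 32574 = n52621 := ndS (p := 16351) (l := 4) rfl N16351 D52621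
theorem N32575 : nd 32575 = n52622 := ndS (p := 16352) (l := 6) rfl N16352 D52622
theorem N32576 : nd 32576 = n52623 := ndS (p := 16353) (l := 5) rfl N16353 D52623
theorem N32577 : nd 32577 = n52624 := ndS (p := 16354) (l := 6) rfl N16354 D52624
theorem N32578 : nd 32578 = n52625 := ndS (p := 16355) (l := 5) rfl N16355 D52625
theorem N32579 : nd 32579 = n52626 := ndS (p := 16356) (l := 0) rfl N16356 D52626
theorem N32580 : nd 32580 = n52627 := ndS (p := 16356) (l := 1) rfl N16356 D52627
theorem N32581 : nd 32581 = n52628 := ndS (p := 16356) (l := 5) rfl N16356 D52628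
theorem N32582 : nd 32582 = n52629 := ndS (p := 16356) (l := 7) rfl N16356 D52629
theorem N32583 : nd 32583 = n52630 := ndS (p := 16357) (l := 4) rfl N16357 D52630
theorem N32584 : nd 32584 = n52631 := ndS (p := 16358) (l := 6) rfl N16358 D52631
theorem N32585 : nd 32585 = n52632 := ndS (p := 16359) (l := 0) rfl N16359 D52632
theorem N32586 : nd 32586 = n52633 := ndS (p := 16359) (l := 1) rfl N16359 D52633
theorem N32587 : nd 32587 = n52634 := ndS (p := 16359) (l := 7) rfl N16359 D52634
theorem N32588 : nd 32588 = n52635 := ndS (p := 16361) (l := 0) rfl N16361 D52635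
theorem N32589 : nd 32589 = n52637 := ndS (p := 16363) (l := 5) rfl N16363 D52637
theorem N32590 : nd 32590 = n52638 := ndS (p := 16364) (l := 4) rfl N16364 D52638
theorem N32591 : nd 32591 = n52639 := ndS (p := 16365) (l := 3) rfl N16365 D52639
theorem N32592 : nd 32592 = n52640 := ndS (p := 16365) (l := 4) rfl N16365 D52640
theorem N32593 : nd 32593 = n52641 := ndS (p := 16365) (l := 6) rfl N16365 D52641
theorem N32594 : nd 32594 = n52642 := ndS (p := 16366) (l := 4) rfl N16366 D52642
theorem N32595 : nd 32595 = n52643 := ndS (p := 16366) (l := 6) rfl N16366 D52643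
theorem N32596 : nd 32596 = n52644 := ndS (p := 16367) (l := 0) rfl N16367 D52644
theorem N32597 : nd 32597 = n52645 := ndS (p := 16367) (l := 1) rfl N16367 D52645
theorem N32598 : nd 32598 = n52646 := ndS (p := 16367) (l := 5) rfl N16367 D52646
theorem N32599 : nd 32599 = n52647 := ndS (p := 16367) (l := 6) rfl N16367 D52647
theorem N32600 : nd 32600 = n52648 := ndS (p := 16368) (l := 0) rfl N16368 D52648
theorem N32601 : nd 32601 = n52649 := ndS (p := 16368) (l := 1) rfl N16368 D52649
theorem N32602 : nd 32602 = n52650 := ndS (p := 16368) (l := 7) rfl N16368 D52650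
theorem N32603 : nd 32603 = n52651 := ndS (p := 16370) (l := 6) rfl N16370 D52651
theorem N32604 : nd 32604 = n52653 := ndS (p := 16372) (l := 3) rfl N16372 D52653
theorem N32605 : nd 32605 = n52655 := ndS (p := 16372) (l := 5) rfl N16372 D52655
theorem N32606 : nd 32606 = n52656 := ndS (p := 16372) (l := 6) rfl N16372 D52656
theorem N32607 : nd 32607 = n52658 := ndS (p := 16373) (l := 3) rfl N16373 D52658
theorem N32608 : nd 32608 = n52660 := ndS (p := 16373) (l := 5) rfl N16373 D52660
theorem N32609 : nd 32609 = n52661 := ndS (p := 16373) (l := 6) rfl N16373 D52661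
theorem N32610 : nd 32610 = n52662 := ndS (p := 16374) (l := 0) rfl N16374 D52662
theorem N32611 : nd 32611 = n52663 := ndS (p := 16374) (l := 1) rfl N16374 D52663
theorem N32612 : nd 32612 = n52664 := ndS (p := 16374) (l := 7) rfl N16374 D52664
theorem N32613 : nd 32613 = n52665 := ndS (p := 16377) (l := 5) rfl N16377 D52665
theorem N32614 : nd 32614 = n52666 := ndS (p := 16379) (l := 5) rfl N16379 D52666
theorem N32615 : nd 32615 = n52667 := ndS (p := 16379) (l := 6) rfl N16379 D52667
theorem N32616 : nd 32616 = n52668 := ndS (p := 16380) (l := 4) rfl N16380 D52668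
theorem N32617 : nd 32617 = n52669 := ndS (p := 16380) (l := 6) rfl N16380 D52669
theorem N32618 : nd 32618 = n52670 := ndS (p := 16381) (l := 5) rfl N16381 D52670
theorem N32619 : nd 32619 = n52671 := ndS (p := 16383) (l := 4) rfl N16383 D52671
theorem N32620 : nd 32620 = n52672 := ndS (p := 16383) (l := 6) rfl N16383 D52672
theorem N32621 : nd 32621 = n52673 := ndS (p := 16384) (l := 1) rfl N16384 D52673
theorem N32622 : nd 32622 = n52674 := ndS (p := 16384) (l := 5) rfl N16384 D52674
theorem N32623 : nd 32623 = n52675 := ndS (p := 16385) (l := 4) rfl N16385 D52675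
theorem N32624 : nd 32624 = n52676 := ndS (p := 16385) (l := 6) rfl N16385 D52676
theorem N32625 : nd 32625 = n52677 := ndS (p := 16386) (l := 5) rfl N16386 D52677
theorem N32626 : nd 32626 = n52678 := ndS (p := 16387) (l := 4) rfl N16387 D52678
theorem N32627 : nd 32627 = n52679 := ndS (p := 16387) (l := 6) rfl N16387 D52679
theorem N32628 : nd 32628 = n52680 := ndS (p := 16388) (l := 3) rfl N16388 D52680
theorem N32629 : nd 32629 = n52681 := ndS (p := 16388) (l := 4) rfl N16388 D52681
theorem N32630 : nd 32630 = n52682 := ndS (p := 16388) (l := 6) rfl N16388 D52682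
theorem N32631 : nd 32631 = n52683 := ndS (p := 16389) (l := 0) rfl N16389 D52683
theorem N32632 : nd 32632 = n52684 := ndS (p := 16389) (l := 6) rfl N16389 D52684
theorem N32633 : nd 32633 = n52685 := ndS (p := 16390) (l := 0) rfl N16390 D52685
theorem N32634 : nd 32634 = n52686 := ndS (p := 16390) (l := 1) rfl N16390 D52686
theorem N32635 : nd 32635 = n52687 := ndS (p := 16390) (l := 5) rfl N16390 D52687
theorem N32636 : nd 32636 = n52688 := ndS (p := 16390) (l := 7) rfl N16390 D52688
theorem N32637 : nd 32637 = n52689 := ndS (p := 16391) (l := 0) rfl N16391 D52689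
theorem N32638 : nd 32638 = n52690 := ndS (p := 16391) (l := 4) rfl N16391 D52690
theorem N32639 : nd 32639 = n52692 := ndS (p := 16392) (l := 3) rfl N16392 D52692
theorem N32640 : nd 32640 = n52694 := ndS (p := 16392) (l := 5) rfl N16392 D52694
theorem N32641 : nd 32641 = n52695 := ndS (p := 16392) (l := 6) rfl N16392 D52695
theorem N32642 : nd 32642 = n52697 := ndS (p := 16393) (l := 3) rfl N16393 D52697
theorem N32643 : nd 32643 = n52699 := ndS (p := 16393) (l := 5) rfl N16393 D52699
theorem N32644 : nd 32644 = n52700 := ndS (p := 16393) (l := 6) rfl N16393 D52700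
theorem N32645 : nd 32645 = n52702 := ndS (p := 16394) (l := 1) rfl N16394 D52702
theorem N32646 : nd 32646 = n52703 := ndS (p := 16394) (l := 4) rfl N16394 D52703
theorem N32647 : nd 32647 = n52704 := ndS (p := 16394) (l := 7) rfl N16394 D52704
theorem N32648 : nd 32648 = n52705 := ndS (p := 16396) (l := 6) rfl N16396 D52705
theorem N32649 : nd 32649 = n52706 := ndS (p := 16397) (l := 6) rfl N16397 D52706
theorem N32650 : nd 32650 = n52707 := ndS (p := 16400) (l := 6) rfl N16400 D52707
theorem N32651 : nd 32651 = n52708 := ndS (p := 16401) (l := 6) rfl N16401 D52708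
theorem N32652 : nd 32652 = n52709 := ndS (p := 16402) (l := 0) rfl N16402 D52709
theorem N32653 : nd 32653 = n52710 := ndS (p := 16402) (l := 5) rfl N16402 D52710
theorem N32654 : nd 32654 = n52711 := ndS (p := 16403) (l := 4) rfl N16403 D52711
theorem N32655 : nd 32655 = n52712 := ndS (p := 16403) (l := 6) rfl N16403 D52712
theorem N32656 : nd 32656 = n52713 := ndS (p := 16404) (l := 5) rfl N16404 D52713
theorem N32657 : nd 32657 = n52714 := ndS (p := 16404) (l := 6) rfl N16404 D52714
theorem N32658 : nd 32658 = n52715 := ndS (p := 16405) (l := 0) rfl N16405 D52715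
theorem N32659 : nd 32659 = n52716 := ndS (p := 16405) (l := 1) rfl N16405 D52716
theorem N32660 : nd 32660 = n52717 := ndS (p := 16405) (l := 7) rfl N16405 D52717
theorem N32661 : nd 32661 = n52719 := ndS (p := 16406) (l := 3) rfl N16406 D52719
theorem N32662 : nd 32662 = n52721 := ndS (p := 16406) (l := 5) rfl N16406 D52721
theorem N32663 : nd 32663 = n52722 := ndS (p := 16406) (l := 6) rfl N16406 D52722
theorem N32664 : nd 32664 = n52724 := ndS (p := 16407) (l := 3) rfl N16407 D52724
theorem N32665 : nd 32665 = n52726 := ndS (p := 16407) (l := 5) rfl N16407 D52726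
theorem N32666 : nd 32666 = n52727 := ndS (p := 16407) (l := 6) rfl N16407 D52727
theorem N32667 : nd 32667 = n52728 := ndS (p := 16411) (l := 1) rfl N16411 D52728
theorem N32668 : nd 32668 = n52729 := ndS (p := 16411) (l := 5) rfl N16411 D52729
theorem N32669 : nd 32669 = n52730 := ndS (p := 16412) (l := 4) rfl N16412 D52730
theorem N32670 : nd 32670 = n52731 := ndS (p := 16412) (l := 6) rfl N16412 D52731
theorem N32671 : nd 32671 = n52732 := ndS (p := 16413) (l := 1) rfl N16413 D52732
theorem N32672 : nd 32672 = n52733 := ndS (p := 16413) (l := 5) rfl N16413 D52733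
theorem N32673 : nd 32673 = n52734 := ndS (p := 16413) (l := 7) rfl N16413 D52734
theorem N32674 : nd 32674 = n52735 := ndS (p := 16414) (l := 6) rfl N16414 D52735
theorem N32675 : nd 32675 = n52736 := ndS (p := 16415) (l := 4) rfl N16415 D52736
theorem N32676 : nd 32676 = n52737 := ndS (p := 16415) (l := 6) rfl N16415 D52737
theorem N32677 : nd 32677 = n52738 := ndS (p := 16416) (l := 0) rfl N16416 D52738
theorem N32678 : nd 32678 = n52739 := ndS (p := 16416) (l := 1) rfl N16416 D52739
theorem N32679 : nd 32679 = n52740 := ndS (p := 16416) (l := 6) rfl N16416 D52740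
theorem N32680 : nd 32680 = n52741 := ndS (p := 16417) (l := 0) rfl N16417 D52741
theorem N32681 : nd 32681 = n52742 := ndS (p := 16417) (l := 1) rfl N16417 D52742
theorem N32682 : nd 32682 = n52743 := ndS (p := 16417) (l := 5) rfl N16417 D52743
theorem N32683 : nd 32683 = n52744 := ndS (p := 16417) (l := 7) rfl N16417 D52744
theorem N32684 : nd 32684 = n52745 := ndS (p := 16418) (l := 5) rfl N16418 D52745
theorem N32685 : nd 32685 = n52746 := ndS (p := 16419) (l := 5) rfl N16419 D52746
theorem N32686 : nd 32686 = n52747 := ndS (p := 16420) (l := 0) rfl N16420 D52747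
theorem N32687 : nd 32687 = n52748 := ndS (p := 16420) (l := 1) rfl N16420 D52748
theorem N32688 : nd 32688 = n52749 := ndS (p := 16420) (l := 4) rfl N16420 D52749
theorem N32689 : nd 32689 = n52750 := ndS (p := 16420) (l := 7) rfl N16420 D52750
theorem N32690 : nd 32690 = n52752 := ndS (p := 16422) (l := 3) rfl N16422 D52752
theorem N32691 : nd 32691 = n52754 := ndS (p := 16422) (l := 5) rfl N16422 D52754
theorem N32692 : nd 32692 = n52755 := ndS (p := 16422) (l := 6) rfl N16422 D52755
theorem N32693 : nd 32693 = n52757 := ndS (p := 16423) (l := 3) rfl N16423 D52757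
theorem N32694 : nd 32694 = n52759 := ndS (p := 16423) (l := 5) rfl N16423 D52759
theorem N32695 : nd 32695 = n52760 := ndS (p := 16423) (l := 6) rfl N16423 D52760
theorem N32696 : nd 32696 = n52761 := ndS (p := 16424) (l := 0) rfl N16424 D52761
theorem N32697 : nd 32697 = n52762 := ndS (p := 16424) (l := 1) rfl N16424 D52762
theorem N32698 : nd 32698 = n52763 := ndS (p := 16424) (l := 4) rfl N16424 D52763
theorem N32699 : nd 32699 = n52764 := ndS (p := 16424) (l := 7) rfl N16424 D52764
theorem N32700 : nd 32700 = n52765 := ndS (p := 16426) (l := 4) rfl N16426 D52765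
theorem N32701 : nd 32701 = n52766 := ndS (p := 16426) (l := 6) rfl N16426 D52766
theorem N32702 : nd 32702 = n52767 := ndS (p := 16427) (l := 5) rfl N16427 D52767
theorem N32703 : nd 32703 = n52768 := ndS (p := 16428) (l := 4) rfl N16428 D52768
theorem N32704 : nd 32704 = n52769 := ndS (p := 16428) (l := 6) rfl N16428 D52769
theorem N32705 : nd 32705 = n52770 := ndS (p := 16429) (l := 3) rfl N16429 D52770
theorem N32706 : nd 32706 = n52771 := ndS (p := 16429) (l := 4) rfl N16429 D52771
theorem N32707 : nd 32707 = n52772 := ndS (p := 16429) (l := 6) rfl N16429 D52772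
theorem N32708 : nd 32708 = n52773 := ndS (p := 16430) (l := 3) rfl N16430 D52773
theorem N32709 : nd 32709 = n52774 := ndS (p := 16430) (l := 4) rfl N16430 D52774
theorem N32710 : nd 32710 = n52775 := ndS (p := 16430) (l := 6) rfl N16430 D52775
theorem N32711 : nd 32711 = n52776 := ndS (p := 16431) (l := 0) rfl N16431 D52776
theorem N32712 : nd 32712 = n52777 := ndS (p := 16431) (l := 1) rfl N16431 D52777
theorem N32713 : nd 32713 = n52778 := ndS (p := 16431) (l := 3) rfl N16431 D52778
theorem N32714 : nd 32714 = n52779 := ndS (p := 16431) (l := 5) rfl N16431 D52779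
theorem N32715 : nd 32715 = n52780 := ndS (p := 16431) (l := 7) rfl N16431 D52780
theorem N32716 : nd 32716 = n52781 := ndS (p := 16432) (l := 6) rfl N16432 D52781
theorem N32717 : nd 32717 = n52782 := ndS (p := 16433) (l := 0) rfl N16433 D52782
theorem N32718 : nd 32718 = n52783 := ndS (p := 16433) (l := 5) rfl N16433 D52783
theorem N32719 : nd 32719 = n52784 := ndS (p := 16434) (l := 4) rfl N16434 D52784
theorem N32720 : nd 32720 = n52785 := ndS (p := 16434) (l := 6) rfl N16434 D52785
theorem N32721 : nd 32721 = n52786 := ndS (p := 16435) (l := 5) rfl N16435 D52786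
theorem N32722 : nd 32722 = n52787 := ndS (p := 16436) (l := 4) rfl N16436 D52787
theorem N32723 : nd 32723 = n52788 := ndS (p := 16436) (l := 6) rfl N16436 D52788
theorem N32724 : nd 32724 = n52790 := ndS (p := 16437) (l := 3) rfl N16437 D52790
theorem N32725 : nd 32725 = n52792 := ndS (p := 16437) (l := 5) rfl N16437 D52792
theorem N32726 : nd 32726 = n52793 := ndS (p := 16437) (l := 6) rfl N16437 D52793
theorem N32727 : nd 32727 = n52795 := ndS (p := 16438) (l := 3) rfl N16438 D52795
theorem N32728 : nd 32728 = n52797 := ndS (p := 16438) (l := 5) rfl N16438 D52797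
theorem N32729 : nd 32729 = n52798 := ndS (p := 16438) (l := 6) rfl N16438 D52798
theorem N32730 : nd 32730 = n52799 := ndS (p := 16439) (l := 0) rfl N16439 D52799
theorem N32731 : nd 32731 = n52800 := ndS (p := 16439) (l := 1) rfl N16439 D52800
theorem N32732 : nd 32732 = n52801 := ndS (p := 16439) (l := 4) rfl N16439 D52801
theorem N32733 : nd 32733 = n52802 := ndS (p := 16439) (l := 7) rfl N16439 D52802
theorem N32734 : nd 32734 = n52803 := ndS (p := 16441) (l := 3) rfl N16441 D52803
theorem N32735 : nd 32735 = n52804 := ndS (p := 16442) (l := 6) rfl N16442 D52804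
theorem N32736 : nd 32736 = n52808 := ndS (p := 16443) (l := 5) rfl N16443 D52808
theorem N32737 : nd 32737 = n52809 := ndS (p := 16444) (l := 5) rfl N16444 D52809
theorem N32738 : nd 32738 = n52810 := ndS (p := 16445) (l := 4) rfl N16445 D52810
theorem N32739 : nd 32739 = n52811 := ndS (p := 16445) (l := 6) rfl N16445 D52811
theorem N32740 : nd 32740 = n52812 := ndS (p := 16446) (l := 5) rfl N16446 D52812
theorem N32741 : nd 32741 = n52813 := ndS (p := 16446) (l := 6) rfl N16446 D52813
theorem N32742 : nd 32742 = n52814 := ndS (p := 16447) (l := 5) rfl N16447 D52814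
theorem N32743 : nd 32743 = n52815 := ndS (p := 16448) (l := 4) rfl N16448 D52815
theorem N32744 : nd 32744 = n52816 := ndS (p := 16448) (l := 6) rfl N16448 D52816
theorem N32745 : nd 32745 = n52817 := ndS (p := 16449) (l := 5) rfl N16449 D52817
theorem N32746 : nd 32746 = n52818 := ndS (p := 16450) (l := 4) rfl N16450 D52818
theorem N32747 : nd 32747 = n52819 := ndS (p := 16450) (l := 6) rfl N16450 D52819
theorem N32748 : nd 32748 = n52820 := ndS (p := 16451) (l := 0) rfl N16451 D52820
theorem N32749 : nd 32749 = n52821 := ndS (p := 16451) (l := 1) rfl N16451 D52821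
theorem N32750 : nd 32750 = n52823 := ndS (p := 16452) (l := 3) rfl N16452 D52823
theorem N32751 : nd 32751 = n52824 := ndS (p := 16452) (l := 4) rfl N16452 D52824
theorem N32752 : nd 32752 = n52827 := ndS (p := 16453) (l := 3) rfl N16453 D52827
theorem N32753 : nd 32753 = n52828 := ndS (p := 16453) (l := 4) rfl N16453 D52828
theorem N32754 : nd 32754 = n52829 := ndS (p := 16453) (l := 6) rfl N16453 D52829
theorem N32755 : nd 32755 = n52831 := ndS (p := 16454) (l := 1) rfl N16454 D52831
theorem N32756 : nd 32756 = n52832 := ndS (p := 16454) (l := 5) rfl N16454 D52832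
theorem N32757 : nd 32757 = n52833 := ndS (p := 16454) (l := 6) rfl N16454 D52833
theorem N32758 : nd 32758 = n52834 := ndS (p := 16455) (l := 0) rfl N16455 D52834
theorem N32759 : nd 32759 = n52835 := ndS (p := 16455) (l := 1) rfl N16455 D52835
theorem N32760 : nd 32760 = n52836 := ndS (p := 16455) (l := 5) rfl N16455 D52836
theorem N32761 : nd 32761 = n52837 := ndS (p := 16455) (l := 7) rfl N16455 D52837
theorem N32762 : nd 32762 = n52838 := ndS (p := 16456) (l := 5) rfl N16456 D52838
theorem N32763 : nd 32763 = n52839 := ndS (p := 16457) (l := 3) rfl N16457 D52839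
theorem N32764 : nd 32764 = n52840 := ndS (p := 16457) (l := 4) rfl N16457 D52840
theorem N32765 : nd 32765 = n52841 := ndS (p := 16457) (l := 5) rfl N16457 D52841
theorem N32766 : nd 32766 = n52843 := ndS (p := 16458) (l := 4) rfl N16458 D52843
theorem N32767 : nd 32767 = n52845 := ndS (p := 16460) (l := 3) rfl N16460 D52845
theorem N32768 : nd 32768 = n52847 := ndS (p := 16460) (l := 5) rfl N16460 D52847
theorem N32769 : nd 32769 = n52848 := ndS (p := 16460) (l := 6) rfl N16460 D52848
theorem N32770 : nd 32770 = n52852 := ndS (p := 16461) (l := 5) rfl N16461 D52852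
theorem N32771 : nd 32771 = n52853 := ndS (p := 16461) (l := 6) rfl N16461 D52853
theorem N32772 : nd 32772 = n52854 := ndS (p := 16462) (l := 0) rfl N16462 D52854
theorem N32773 : nd 32773 = n52855 := ndS (p := 16462) (l := 1) rfl N16462 D52855
theorem N32774 : nd 32774 = n52856 := ndS (p := 16462) (l := 4) rfl N16462 D52856
theorem N32775 : nd 32775 = n52857 := ndS (p := 16462) (l := 7) rfl N16462 D52857
theorem N32776 : nd 32776 = n52858 := ndS (p := 16464) (l := 3) rfl N16464 D52858
theorem N32777 : nd 32777 = n52859 := ndS (p := 16464) (l := 6) rfl N16464 D52859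
theorem N32778 : nd 32778 = n52860 := ndS (p := 16465) (l := 3) rfl N16465 D52860
theorem N32779 : nd 32779 = n52861 := ndS (p := 16465) (l := 6) rfl N16465 D52861
theorem N32780 : nd 32780 = n52862 := ndS (p := 16466) (l := 0) rfl N16466 D52862
theorem N32781 : nd 32781 = n52863 := ndS (p := 16466) (l := 1) rfl N16466 D52863
theorem N32782 : nd 32782 = n52864 := ndS (p := 16466) (l := 3) rfl N16466 D52864
theorem N32783 : nd 32783 = n52865 := ndS (p := 16466) (l := 5) rfl N16466 D52865
theorem N32784 : nd 32784 = n52866 := ndS (p := 16466) (l := 7) rfl N16466 D52866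
theorem N32785 : nd 32785 = n52867 := ndS (p := 16467) (l := 6) rfl N16467 D52867
theorem N32786 : nd 32786 = n52868 := ndS (p := 16468) (l := 4) rfl N16468 D52868
theorem N32787 : nd 32787 = n52869 := ndS (p := 16468) (l := 6) rfl N16468 D52869
theorem N32788 : nd 32788 = n52870 := ndS (p := 16469) (l := 5) rfl N16469 D52870
theorem N32789 : nd 32789 = n52871 := ndS (p := 16470) (l := 6) rfl N16470 D52871
theorem N32790 : nd 32790 = n52872 := ndS (p := 16471) (l := 4) rfl N16471 D52872
theorem N32791 : nd 32791 = n52873 := ndS (p := 16471) (l := 6) rfl N16471 D52873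
theorem N32792 : nd 32792 = n52874 := ndS (p := 16472) (l := 5) rfl N16472 D52874
theorem N32793 : nd 32793 = n52875 := ndS (p := 16473) (l := 5) rfl N16473 D52875
theorem N32794 : nd 32794 = n52876 := ndS (p := 16474) (l := 1) rfl N16474 D52876
theorem N32795 : nd 32795 = n52877 := ndS (p := 16474) (l := 6) rfl N16474 D52877
theorem N32796 : nd 32796 = n52878 := ndS (p := 16475) (l := 1) rfl N16475 D52878
theorem N32797 : nd 32797 = n52879 := ndS (p := 16475) (l := 5) rfl N16475 D52879
theorem N32798 : nd 32798 = n52880 := ndS (p := 16475) (l := 7) rfl N16475 D52880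
theorem N32799 : nd 32799 = n52881 := ndS (p := 16478) (l := 6) rfl N16478 D52881
theorem N32800 : nd 32800 = n52882 := ndS (p := 16479) (l := 0) rfl N16479 D52882
theorem N32801 : nd 32801 = n52883 := ndS (p := 16479) (l := 5) rfl N16479 D52883
theorem N32802 : nd 32802 = n52884 := ndS (p := 16479) (l := 7) rfl N16479 D52884
theorem N32803 : nd 32803 = n52885 := ndS (p := 16481) (l := 4) rfl N16481 D52885
theorem N32804 : nd 32804 = n52886 := ndS (p := 16481) (l := 6) rfl N16481 D52886
theorem N32805 : nd 32805 = n52887 := ndS (p := 16482) (l := 0) rfl N16482 D52887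
theorem N32806 : nd 32806 = n52888 := ndS (p := 16482) (l := 1) rfl N16482 D52888
theorem N32807 : nd 32807 = n52890 := ndS (p := 16483) (l := 0) rfl N16483 D52890
theorem N32808 : nd 32808 = n52892 := ndS (p := 16483) (l := 5) rfl N16483 D52892
theorem N32809 : nd 32809 = n52894 := ndS (p := 16484) (l := 6) rfl N16484 D52894
theorem N32810 : nd 32810 = n52895 := ndS (p := 16485) (l := 5) rfl N16485 D52895
theorem N32811 : nd 32811 = n52896 := ndS (p := 16486) (l := 0) rfl N16486 D52896
theorem N32812 : nd 32812 = n52897 := ndS (p := 16486) (l := 4) rfl N16486 D52897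
theorem N32813 : nd 32813 = n52898 := ndS (p := 16486) (l := 7) rfl N16486 D52898
theorem N32814 : nd 32814 = n52899 := ndS (p := 16488) (l := 5) rfl N16488 D52899
theorem N32815 : nd 32815 = n52900 := ndS (p := 16489) (l := 4) rfl N16489 D52900
theorem N32816 : nd 32816 = n52901 := ndS (p := 16489) (l := 6) rfl N16489 D52901
theorem N32817 : nd 32817 = n52902 := ndS (p := 16490) (l := 5) rfl N16490 D52902
theorem N32818 : nd 32818 = n52903 := ndS (p := 16491) (l := 6) rfl N16491 D52903
theorem N32819 : nd 32819 = n52904 := ndS (p := 16492) (l := 1) rfl N16492 D52904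
theorem N32820 : nd 32820 = n52905 := ndS (p := 16492) (l := 5) rfl N16492 D52905
theorem N32821 : nd 32821 = n52906 := ndS (p := 16492) (l := 7) rfl N16492 D52906
theorem N32822 : nd 32822 = n52907 := ndS (p := 16493) (l := 3) rfl N16493 D52907
theorem N32823 : nd 32823 = n52908 := ndS (p := 16493) (l := 5) rfl N16493 D52908
theorem N32824 : nd 32824 = n52909 := ndS (p := 16493) (l := 6) rfl N16493 D52909
theorem N32825 : nd 32825 = n52911 := ndS (p := 16494) (l := 1) rfl N16494 D52911
theorem N32826 : nd 32826 = n52912 := ndS (p := 16494) (l := 5) rfl N16494 D52912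
theorem N32827 : nd 32827 = n52913 := ndS (p := 16494) (l := 7) rfl N16494 D52913
theorem N32828 : nd 32828 = n52914 := ndS (p := 16495) (l := 5) rfl N16495 D52914
theorem N32829 : nd 32829 = n52915 := ndS (p := 16496) (l := 1) rfl N16496 D52915
theorem N32830 : nd 32830 = n52916 := ndS (p := 16496) (l := 4) rfl N16496 D52916
theorem N32831 : nd 32831 = n52917 := ndS (p := 16496) (l := 7) rfl N16496 D52917
theorem N32832 : nd 32832 = n52918 := ndS (p := 16498) (l := 3) rfl N16498 D52918
theorem N32833 : nd 32833 = n52919 := ndS (p := 16498) (l := 4) rfl N16498 D52919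
theorem N32834 : nd 32834 = n52920 := ndS (p := 16498) (l := 6) rfl N16498 D52920
theorem N32835 : nd 32835 = n52921 := ndS (p := 16499) (l := 6) rfl N16499 D52921
theorem N32836 : nd 32836 = n52922 := ndS (p := 16500) (l := 1) rfl N16500 D52922
theorem N32837 : nd 32837 = n52923 := ndS (p := 16500) (l := 3) rfl N16500 D52923
theorem N32838 : nd 32838 = n52924 := ndS (p := 16500) (l := 6) rfl N16500 D52924
theorem N32839 : nd 32839 = n52925 := ndS (p := 16501) (l := 0) rfl N16501 D52925
theorem N32840 : nd 32840 = n52927 := ndS (p := 16501) (l := 7) rfl N16501 D52927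
theorem N32841 : nd 32841 = n52928 := ndS (p := 16502) (l := 2) rfl N16502 D52928
theorem N32842 : nd 32842 = n52929 := ndS (p := 16502) (l := 6) rfl N16502 D52929
theorem N32843 : nd 32843 = n52930 := ndS (p := 16503) (l := 0) rfl N16503 D52930
theorem N32844 : nd 32844 = n52931 := ndS (p := 16503) (l := 1) rfl N16503 D52931
theorem N32845 : nd 32845 = n52932 := ndS (p := 16503) (l := 6) rfl N16503 D52932
theorem N32846 : nd 32846 = n52933 := ndS (p := 16504) (l := 0) rfl N16504 D52933
theorem N32847 : nd 32847 = n52935 := ndS (p := 16504) (l := 5) rfl N16504 D52935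
theorem N32848 : nd 32848 = n52936 := ndS (p := 16504) (l := 7) rfl N16504 D52936
theorem N32849 : nd 32849 = n52937 := ndS (p := 16505) (l := 2) rfl N16505 D52937
theorem N32850 : nd 32850 = n52938 := ndS (p := 16505) (l := 4) rfl N16505 D52938
theorem N32851 : nd 32851 = n52939 := ndS (p := 16505) (l := 6) rfl N16505 D52939
theorem N32852 : nd 32852 = n52940 := ndS (p := 16506) (l := 3) rfl N16506 D52940
theorem N32853 : nd 32853 = n52941 := ndS (p := 16506) (l := 5) rfl N16506 D52941
theorem N32854 : nd 32854 = n52942 := ndS (p := 16506) (l := 6) rfl N16506 D52942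
theorem N32855 : nd 32855 = n52943 := ndS (p := 16507) (l := 0) rfl N16507 D52943
theorem N32856 : nd 32856 = n52944 := ndS (p := 16507) (l := 1) rfl N16507 D52944
theorem N32857 : nd 32857 = n52945 := ndS (p := 16507) (l := 7) rfl N16507 D52945
theorem N32858 : nd 32858 = n52946 := ndS (p := 16508) (l := 3) rfl N16508 D52946
theorem N32859 : nd 32859 = n52947 := ndS (p := 16508) (l := 6) rfl N16508 D52947
theorem N32860 : nd 32860 = n52948 := ndS (p := 16509) (l := 6) rfl N16509 D52948
theorem N32861 : nd 32861 = n52949 := ndS (p := 16510) (l := 0) rfl N16510 D52949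
theorem N32862 : nd 32862 = n52950 := ndS (p := 16510) (l := 2) rfl N16510 D52950
theorem N32863 : nd 32863 = n52951 := ndS (p := 16510) (l := 5) rfl N16510 D52951
theorem N32864 : nd 32864 = n52953 := ndS (p := 16511) (l := 6) rfl N16511 D52953
theorem N32865 : nd 32865 = n52954 := ndS (p := 16512) (l := 0) rfl N16512 D52954
theorem N32866 : nd 32866 = n52955 := ndS (p := 16512) (l := 1) rfl N16512 D52955
theorem N32867 : nd 32867 = n52956 := ndS (p := 16512) (l := 5) rfl N16512 D52956
theorem N32868 : nd 32868 = n52957 := ndS (p := 16512) (l := 7) rfl N16512 D52957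
theorem N32869 : nd 32869 = n52958 := ndS (p := 16513) (l := 6) rfl N16513 D52958
theorem N32870 : nd 32870 = n52960 := ndS (p := 16514) (l := 3) rfl N16514 D52960
theorem N32871 : nd 32871 = n52962 := ndS (p := 16514) (l := 5) rfl N16514 D52962
theorem N32872 : nd 32872 = n52963 := ndS (p := 16514) (l := 6) rfl N16514 D52963
theorem N32873 : nd 32873 = n52965 := ndS (p := 16515) (l := 3) rfl N16515 D52965
theorem N32874 : nd 32874 = n52967 := ndS (p := 16515) (l := 5) rfl N16515 D52967
theorem N32875 : nd 32875 = n52969 := ndS (p := 16516) (l := 6) rfl N16516 D52969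
theorem N32876 : nd 32876 = n52970 := ndS (p := 16517) (l := 0) rfl N16517 D52970
theorem N32877 : nd 32877 = n52971 := ndS (p := 16517) (l := 1) rfl N16517 D52971
theorem N32878 : nd 32878 = n52972 := ndS (p := 16517) (l := 5) rfl N16517 D52972
theorem N32879 : nd 32879 = n52973 := ndS (p := 16518) (l := 3) rfl N16518 D52973
theorem N32880 : nd 32880 = n52974 := ndS (p := 16518) (l := 5) rfl N16518 D52974
theorem N32881 : nd 32881 = n52975 := ndS (p := 16518) (l := 6) rfl N16518 D52975
theorem N32882 : nd 32882 = n52976 := ndS (p := 16519) (l := 0) rfl N16519 D52976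
theorem N32883 : nd 32883 = n52977 := ndS (p := 16519) (l := 1) rfl N16519 D52977
theorem N32884 : nd 32884 = n52978 := ndS (p := 16519) (l := 4) rfl N16519 D52978
theorem N32885 : nd 32885 = n52979 := ndS (p := 16520) (l := 4) rfl N16520 D52979
theorem N32886 : nd 32886 = n52980 := ndS (p := 16520) (l := 6) rfl N16520 D52980
theorem N32887 : nd 32887 = n52981 := ndS (p := 16521) (l := 0) rfl N16521 D52981
theorem N32888 : nd 32888 = n52982 := ndS (p := 16521) (l := 1) rfl N16521 D52982
theorem N32889 : nd 32889 = n52983 := ndS (p := 16521) (l := 5) rfl N16521 D52983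
theorem N32890 : nd 32890 = n52984 := ndS (p := 16521) (l := 6) rfl N16521 D52984
theorem N32891 : nd 32891 = n52985 := ndS (p := 16522) (l := 0) rfl N16522 D52985
theorem N32892 : nd 32892 = n52986 := ndS (p := 16522) (l := 1) rfl N16522 D52986
theorem N32893 : nd 32893 = n52987 := ndS (p := 16522) (l := 5) rfl N16522 D52987
theorem N32894 : nd 32894 = n52988 := ndS (p := 16522) (l := 7) rfl N16522 D52988
theorem N32895 : nd 32895 = n52992 := ndS (p := 16523) (l := 5) rfl N16523 D52992
theorem N32896 : nd 32896 = n52993 := ndS (p := 16523) (l := 6) rfl N16523 D52993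
theorem N32897 : nd 32897 = n52995 := ndS (p := 16524) (l := 3) rfl N16524 D52995
theorem N32898 : nd 32898 = n52997 := ndS (p := 16524) (l := 5) rfl N16524 D52997
theorem N32899 : nd 32899 = n52998 := ndS (p := 16524) (l := 6) rfl N16524 D52998
theorem N32900 : nd 32900 = n52999 := ndS (p := 16525) (l := 0) rfl N16525 D52999
theorem N32901 : nd 32901 = n53000 := ndS (p := 16525) (l := 1) rfl N16525 D53000
theorem N32902 : nd 32902 = n53001 := ndS (p := 16525) (l := 4) rfl N16525 D53001
theorem N32903 : nd 32903 = n53002 := ndS (p := 16525) (l := 7) rfl N16525 D53002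
theorem N32904 : nd 32904 = n53003 := ndS (p := 16527) (l := 6) rfl N16527 D53003
theorem N32905 : nd 32905 = n53004 := ndS (p := 16528) (l := 4) rfl N16528 D53004
theorem N32906 : nd 32906 = n53005 := ndS (p := 16529) (l := 6) rfl N16529 D53005
theorem N32907 : nd 32907 = n53006 := ndS (p := 16530) (l := 0) rfl N16530 D53006
theorem N32908 : nd 32908 = n53007 := ndS (p := 16530) (l := 1) rfl N16530 D53007
theorem N32909 : nd 32909 = n53008 := ndS (p := 16530) (l := 5) rfl N16530 D53008
theorem N32910 : nd 32910 = n53009 := ndS (p := 16530) (l := 7) rfl N16530 D53009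
theorem N32911 : nd 32911 = n53011 := ndS (p := 16531) (l := 3) rfl N16531 D53011
theorem N32912 : nd 32912 = n53013 := ndS (p := 16531) (l := 5) rfl N16531 D53013
theorem N32913 : nd 32913 = n53014 := ndS (p := 16531) (l := 6) rfl N16531 D53014
theorem N32914 : nd 32914 = n53016 := ndS (p := 16532) (l := 3) rfl N16532 D53016
theorem N32915 : nd 32915 = n53018 := ndS (p := 16532) (l := 5) rfl N16532 D53018
theorem N32916 : nd 32916 = n53019 := ndS (p := 16532) (l := 6) rfl N16532 D53019
theorem N32917 : nd 32917 = n53020 := ndS (p := 16533) (l := 0) rfl N16533 D53020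
theorem N32918 : nd 32918 = n53021 := ndS (p := 16533) (l := 1) rfl N16533 D53021
theorem N32919 : nd 32919 = n53022 := ndS (p := 16533) (l := 4) rfl N16533 D53022
theorem N32920 : nd 32920 = n53023 := ndS (p := 16533) (l := 7) rfl N16533 D53023
theorem N32921 : nd 32921 = n53030 := ndS (p := 16535) (l := 0) rfl N16535 D53030
theorem N32922 : nd 32922 = n53032 := ndS (p := 16535) (l := 2) rfl N16535 D53032
theorem N32923 : nd 32923 = n53033 := ndS (p := 16535) (l := 4) rfl N16535 D53033
theorem N32924 : nd 32924 = n53034 := ndS (p := 16535) (l := 5) rfl N16535 D53034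
theorem N32925 : nd 32925 = n53035 := ndS (p := 16535) (l := 6) rfl N16535 D53035
theorem N32926 : nd 32926 = n53039 := ndS (p := 16536) (l := 3) rfl N16536 D53039
theorem N32927 : nd 32927 = n53040 := ndS (p := 16536) (l := 5) rfl N16536 D53040
theorem N32928 : nd 32928 = n53041 := ndS (p := 16536) (l := 6) rfl N16536 D53041
theorem N32929 : nd 32929 = n53043 := ndS (p := 16537) (l := 0) rfl N16537 D53043
theorem N32930 : nd 32930 = n53044 := ndS (p := 16537) (l := 1) rfl N16537 D53044
theorem N32931 : nd 32931 = n53045 := ndS (p := 16537) (l := 4) rfl N16537 D53045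
theorem N32932 : nd 32932 = n53046 := ndS (p := 16537) (l := 6) rfl N16537 D53046
theorem N32933 : nd 32933 = n53049 := ndS (p := 16538) (l := 1) rfl N16538 D53049
theorem N32934 : nd 32934 = n53050 := ndS (p := 16538) (l := 7) rfl N16538 D53050
theorem N32935 : nd 32935 = n53053 := ndS (p := 16539) (l := 1) rfl N16539 D53053
theorem N32936 : nd 32936 = n53054 := ndS (p := 16539) (l := 2) rfl N16539 D53054
theorem N32937 : nd 32937 = n53055 := ndS (p := 16539) (l := 4) rfl N16539 D53055
theorem N32938 : nd 32938 = n53056 := ndS (p := 16539) (l := 5) rfl N16539 D53056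
theorem N32939 : nd 32939 = n53057 := ndS (p := 16539) (l := 6) rfl N16539 D53057
theorem N32940 : nd 32940 = n53058 := ndS (p := 16540) (l := 3) rfl N16540 D53058
theorem N32941 : nd 32941 = n53059 := ndS (p := 16540) (l := 5) rfl N16540 D53059
theorem N32942 : nd 32942 = n53060 := ndS (p := 16540) (l := 6) rfl N16540 D53060
theorem N32943 : nd 32943 = n53061 := ndS (p := 16541) (l := 4) rfl N16541 D53061
theorem N32944 : nd 32944 = n53062 := ndS (p := 16541) (l := 6) rfl N16541 D53062
theorem N32945 : nd 32945 = n53063 := ndS (p := 16542) (l := 0) rfl N16542 D53063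
theorem N32946 : nd 32946 = n53065 := ndS (p := 16542) (l := 5) rfl N16542 D53065
theorem N32947 : nd 32947 = n53066 := ndS (p := 16542) (l := 7) rfl N16542 D53066
theorem N32948 : nd 32948 = n53067 := ndS (p := 16543) (l := 5) rfl N16543 D53067
theorem N32949 : nd 32949 = n53069 := ndS (p := 16544) (l := 3) rfl N16544 D53069
theorem N32950 : nd 32950 = n53071 := ndS (p := 16544) (l := 5) rfl N16544 D53071
theorem N32951 : nd 32951 = n53072 := ndS (p := 16544) (l := 6) rfl N16544 D53072
theorem N32952 : nd 32952 = n53074 := ndS (p := 16545) (l := 3) rfl N16545 D53074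
theorem N32953 : nd 32953 = n53076 := ndS (p := 16545) (l := 5) rfl N16545 D53076
theorem N32954 : nd 32954 = n53077 := ndS (p := 16545) (l := 6) rfl N16545 D53077
theorem N32955 : nd 32955 = n53078 := ndS (p := 16546) (l := 0) rfl N16546 D53078
theorem N32956 : nd 32956 = n53079 := ndS (p := 16546) (l := 1) rfl N16546 D53079
theorem N32957 : nd 32957 = n53080 := ndS (p := 16546) (l := 4) rfl N16546 D53080
theorem N32958 : nd 32958 = n53081 := ndS (p := 16547) (l := 0) rfl N16547 D53081
theorem N32959 : nd 32959 = n53082 := ndS (p := 16547) (l := 1) rfl N16547 D53082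
theorem N32960 : nd 32960 = n53083 := ndS (p := 16547) (l := 4) rfl N16547 D53083
theorem N32961 : nd 32961 = n53084 := ndS (p := 16547) (l := 6) rfl N16547 D53084
theorem N32962 : nd 32962 = n53085 := ndS (p := 16548) (l := 5) rfl N16548 D53085
theorem N32963 : nd 32963 = n53086 := ndS (p := 16549) (l := 4) rfl N16549 D53086
theorem N32964 : nd 32964 = n53087 := ndS (p := 16549) (l := 6) rfl N16549 D53087
theorem N32965 : nd 32965 = n53088 := ndS (p := 16551) (l := 3) rfl N16551 D53088
theorem N32966 : nd 32966 = n53089 := ndS (p := 16551) (l := 4) rfl N16551 D53089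
theorem N32967 : nd 32967 = n53090 := ndS (p := 16551) (l := 6) rfl N16551 D53090
theorem N32968 : nd 32968 = n53091 := ndS (p := 16552) (l := 4) rfl N16552 D53091
theorem N32969 : nd 32969 = n53092 := ndS (p := 16552) (l := 6) rfl N16552 D53092
theorem N32970 : nd 32970 = n53093 := ndS (p := 16553) (l := 0) rfl N16553 D53093
theorem N32971 : nd 32971 = n53094 := ndS (p := 16553) (l := 1) rfl N16553 D53094
theorem N32972 : nd 32972 = n53095 := ndS (p := 16553) (l := 3) rfl N16553 D53095
theorem N32973 : nd 32973 = n53096 := ndS (p := 16553) (l := 5) rfl N16553 D53096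
theorem N32974 : nd 32974 = n53097 := ndS (p := 16554) (l := 5) rfl N16554 D53097
theorem N32975 : nd 32975 = n53098 := ndS (p := 16555) (l := 4) rfl N16555 D53098
theorem N32976 : nd 32976 = n53099 := ndS (p := 16555) (l := 6) rfl N16555 D53099
theorem N32977 : nd 32977 = n53100 := ndS (p := 16556) (l := 4) rfl N16556 D53100
theorem N32978 : nd 32978 = n53101 := ndS (p := 16557) (l := 3) rfl N16557 D53101
theorem N32979 : nd 32979 = n53102 := ndS (p := 16558) (l := 5) rfl N16558 D53102
theorem N32980 : nd 32980 = n53103 := ndS (p := 16559) (l := 4) rfl N16559 D53103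
theorem N32981 : nd 32981 = n53104 := ndS (p := 16559) (l := 6) rfl N16559 D53104
theorem N32982 : nd 32982 = n53105 := ndS (p := 16561) (l := 4) rfl N16561 D53105
theorem N32983 : nd 32983 = n53106 := ndS (p := 16562) (l := 4) rfl N16562 D53106
theorem N32984 : nd 32984 = n53107 := ndS (p := 16562) (l := 6) rfl N16562 D53107
theorem N32985 : nd 32985 = n53108 := ndS (p := 16563) (l := 6) rfl N16563 D53108
theorem N32986 : nd 32986 = n53109 := ndS (p := 16564) (l := 3) rfl N16564 D53109
theorem N32987 : nd 32987 = n53110 := ndS (p := 16564) (l := 5) rfl N16564 D53110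
theorem N32988 : nd 32988 = n53111 := ndS (p := 16565) (l := 6) rfl N16565 D53111
theorem N32989 : nd 32989 = n53112 := ndS (p := 16566) (l := 3) rfl N16566 D53112
theorem N32990 : nd 32990 = n53113 := ndS (p := 16566) (l := 5) rfl N16566 D53113
theorem N32991 : nd 32991 = n53114 := ndS (p := 16566) (l := 6) rfl N16566 D53114
theorem N32992 : nd 32992 = n53115 := ndS (p := 16567) (l := 7) rfl N16567 D53115
theorem N32993 : nd 32993 = n53116 := ndS (p := 16568) (l := 3) rfl N16568 D53116
theorem N32994 : nd 32994 = n53117 := ndS (p := 16568) (l := 5) rfl N16568 D53117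
theorem N32995 : nd 32995 = n53118 := ndS (p := 16568) (l := 6) rfl N16568 D53118
theorem N32996 : nd 32996 = n53119 := ndS (p := 16569) (l := 0) rfl N16569 D53119
theorem N32997 : nd 32997 = n53120 := ndS (p := 16569) (l := 1) rfl N16569 D53120
theorem N32998 : nd 32998 = n53121 := ndS (p := 16569) (l := 7) rfl N16569 D53121
theorem N32999 : nd 32999 = n53122 := ndS (p := 16570) (l := 3) rfl N16570 D53122
theorem N33000 : nd 33000 = n53123 := ndS (p := 16570) (l := 5) rfl N16570 D53123
theorem N33001 : nd 33001 = n53124 := ndS (p := 16570) (l := 6) rfl N16570 D53124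
theorem N33002 : nd 33002 = n53125 := ndS (p := 16571) (l := 3) rfl N16571 D53125
theorem N33003 : nd 33003 = n53126 := ndS (p := 16571) (l := 5) rfl N16571 D53126
theorem N33004 : nd 33004 = n53127 := ndS (p := 16571) (l := 6) rfl N16571 D53127
theorem N33005 : nd 33005 = n53128 := ndS (p := 16572) (l := 0) rfl N16572 D53128
theorem N33006 : nd 33006 = n53129 := ndS (p := 16572) (l := 1) rfl N16572 D53129
theorem N33007 : nd 33007 = n53130 := ndS (p := 16572) (l := 2) rfl N16572 D53130
theorem N33008 : nd 33008 = n53131 := ndS (p := 16572) (l := 5) rfl N16572 D53131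
theorem N33009 : nd 33009 = n53132 := ndS (p := 16572) (l := 7) rfl N16572 D53132
theorem N33010 : nd 33010 = n53133 := ndS (p := 16573) (l := 0) rfl N16573 D53133
theorem N33011 : nd 33011 = n53135 := ndS (p := 16573) (l := 6) rfl N16573 D53135
theorem N33012 : nd 33012 = n53136 := ndS (p := 16574) (l := 6) rfl N16574 D53136
theorem N33013 : nd 33013 = n53137 := ndS (p := 16576) (l := 3) rfl N16576 D53137
theorem N33014 : nd 33014 = n53140 := ndS (p := 16577) (l := 0) rfl N16577 D53140
theorem N33015 : nd 33015 = n53141 := ndS (p := 16577) (l := 7) rfl N16577 D53141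
theorem N33016 : nd 33016 = n53142 := ndS (p := 16578) (l := 3) rfl N16578 D53142
theorem N33017 : nd 33017 = n53143 := ndS (p := 16578) (l := 5) rfl N16578 D53143
theorem N33018 : nd 33018 = n53144 := ndS (p := 16578) (l := 6) rfl N16578 D53144
theorem N33019 : nd 33019 = n53145 := ndS (p := 16579) (l := 0) rfl N16579 D53145
theorem N33020 : nd 33020 = n53146 := ndS (p := 16579) (l := 1) rfl N16579 D53146
theorem N33021 : nd 33021 = n53147 := ndS (p := 16579) (l := 7) rfl N16579 D53147
theorem N33022 : nd 33022 = n53148 := ndS (p := 16580) (l := 3) rfl N16580 D53148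
theorem N33023 : nd 33023 = n53149 := ndS (p := 16580) (l := 5) rfl N16580 D53149
theorem N33024 : nd 33024 = n53150 := ndS (p := 16580) (l := 6) rfl N16580 D53150
theorem N33025 : nd 33025 = n53151 := ndS (p := 16581) (l := 3) rfl N16581 D53151
theorem N33026 : nd 33026 = n53152 := ndS (p := 16581) (l := 5) rfl N16581 D53152
theorem N33027 : nd 33027 = n53153 := ndS (p := 16581) (l := 6) rfl N16581 D53153
theorem N33028 : nd 33028 = n53154 := ndS (p := 16582) (l := 0) rfl N16582 D53154
theorem N33029 : nd 33029 = n53155 := ndS (p := 16582) (l := 1) rfl N16582 D53155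
theorem N33030 : nd 33030 = n53156 := ndS (p := 16582) (l := 2) rfl N16582 D53156
theorem N33031 : nd 33031 = n53157 := ndS (p := 16582) (l := 5) rfl N16582 D53157
theorem N33032 : nd 33032 = n53158 := ndS (p := 16582) (l := 7) rfl N16582 D53158
theorem N33033 : nd 33033 = n53159 := ndS (p := 16583) (l := 0) rfl N16583 D53159
theorem N33034 : nd 33034 = n53160 := ndS (p := 16583) (l := 1) rfl N16583 D53160
theorem N33035 : nd 33035 = n53161 := ndS (p := 16583) (l := 4) rfl N16583 D53161
theorem N33036 : nd 33036 = n53162 := ndS (p := 16583) (l := 6) rfl N16583 D53162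
theorem N33037 : nd 33037 = n53163 := ndS (p := 16583) (l := 7) rfl N16583 D53163
theorem N33038 : nd 33038 = n53165 := ndS (p := 16586) (l := 3) rfl N16586 D53165
theorem N33039 : nd 33039 = n53166 := ndS (p := 16586) (l := 6) rfl N16586 D53166
theorem N33040 : nd 33040 = n53167 := ndS (p := 16587) (l := 0) rfl N16587 D53167
theorem N33041 : nd 33041 = n53168 := ndS (p := 16587) (l := 7) rfl N16587 D53168
theorem N33042 : nd 33042 = n53169 := ndS (p := 16588) (l := 3) rfl N16588 D53169
theorem N33043 : nd 33043 = n53170 := ndS (p := 16588) (l := 5) rfl N16588 D53170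
theorem N33044 : nd 33044 = n53171 := ndS (p := 16588) (l := 6) rfl N16588 D53171
theorem N33045 : nd 33045 = n53172 := ndS (p := 16589) (l := 0) rfl N16589 D53172
theorem N33046 : nd 33046 = n53174 := ndS (p := 16589) (l := 7) rfl N16589 D53174
theorem N33047 : nd 33047 = n53175 := ndS (p := 16590) (l := 3) rfl N16590 D53175
theorem N33048 : nd 33048 = n53176 := ndS (p := 16590) (l := 5) rfl N16590 D53176
theorem N33049 : nd 33049 = n53177 := ndS (p := 16590) (l := 6) rfl N16590 D53177
theorem N33050 : nd 33050 = n53178 := ndS (p := 16591) (l := 3) rfl N16591 D53178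
theorem N33051 : nd 33051 = n53179 := ndS (p := 16591) (l := 5) rfl N16591 D53179
theorem N33052 : nd 33052 = n53180 := ndS (p := 16591) (l := 6) rfl N16591 D53180
theorem N33053 : nd 33053 = n53181 := ndS (p := 16592) (l := 0) rfl N16592 D53181
theorem N33054 : nd 33054 = n53182 := ndS (p := 16592) (l := 1) rfl N16592 D53182
theorem N33055 : nd 33055 = n53183 := ndS (p := 16592) (l := 2) rfl N16592 D53183
theorem N33056 : nd 33056 = n53184 := ndS (p := 16592) (l := 5) rfl N16592 D53184
theorem N33057 : nd 33057 = n53185 := ndS (p := 16592) (l := 7) rfl N16592 D53185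
theorem N33058 : nd 33058 = n53186 := ndS (p := 16593) (l := 0) rfl N16593 D53186
theorem N33059 : nd 33059 = n53187 := ndS (p := 16593) (l := 1) rfl N16593 D53187
theorem N33060 : nd 33060 = n53188 := ndS (p := 16593) (l := 6) rfl N16593 D53188
theorem N33061 : nd 33061 = n53189 := ndS (p := 16594) (l := 6) rfl N16594 D53189
theorem N33062 : nd 33062 = n53190 := ndS (p := 16596) (l := 3) rfl N16596 D53190
theorem N33063 : nd 33063 = n53191 := ndS (p := 16596) (l := 6) rfl N16596 D53191
theorem N33064 : nd 33064 = n53192 := ndS (p := 16597) (l := 0) rfl N16597 D53192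
theorem N33065 : nd 33065 = n53193 := ndS (p := 16597) (l := 1) rfl N16597 D53193
theorem N33066 : nd 33066 = n53194 := ndS (p := 16597) (l := 7) rfl N16597 D53194
theorem N33067 : nd 33067 = n53195 := ndS (p := 16600) (l := 3) rfl N16600 D53195
theorem N33068 : nd 33068 = n53196 := ndS (p := 16600) (l := 5) rfl N16600 D53196
theorem N33069 : nd 33069 = n53197 := ndS (p := 16600) (l := 6) rfl N16600 D53197
theorem N33070 : nd 33070 = n53198 := ndS (p := 16601) (l := 0) rfl N16601 D53198
theorem N33071 : nd 33071 = n53199 := ndS (p := 16601) (l := 1) rfl N16601 D53199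
theorem N33072 : nd 33072 = n53200 := ndS (p := 16601) (l := 7) rfl N16601 D53200
theorem N33073 : nd 33073 = n53201 := ndS (p := 16602) (l := 3) rfl N16602 D53201
theorem N33074 : nd 33074 = n53202 := ndS (p := 16602) (l := 5) rfl N16602 D53202
theorem N33075 : nd 33075 = n53203 := ndS (p := 16602) (l := 6) rfl N16602 D53203
theorem N33076 : nd 33076 = n53204 := ndS (p := 16604) (l := 3) rfl N16604 D53204
theorem N33077 : nd 33077 = n53205 := ndS (p := 16604) (l := 5) rfl N16604 D53205
theorem N33078 : nd 33078 = n53206 := ndS (p := 16604) (l := 6) rfl N16604 D53206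
theorem N33079 : nd 33079 = n53207 := ndS (p := 16605) (l := 3) rfl N16605 D53207
theorem N33080 : nd 33080 = n53208 := ndS (p := 16605) (l := 5) rfl N16605 D53208
theorem N33081 : nd 33081 = n53209 := ndS (p := 16605) (l := 6) rfl N16605 D53209
theorem N33082 : nd 33082 = n53210 := ndS (p := 16606) (l := 0) rfl N16606 D53210
theorem N33083 : nd 33083 = n53211 := ndS (p := 16606) (l := 1) rfl N16606 D53211
theorem N33084 : nd 33084 = n53212 := ndS (p := 16606) (l := 2) rfl N16606 D53212
theorem N33085 : nd 33085 = n53213 := ndS (p := 16606) (l := 5) rfl N16606 D53213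
theorem N33086 : nd 33086 = n53214 := ndS (p := 16606) (l := 6) rfl N16606 D53214
theorem N33087 : nd 33087 = n53215 := ndS (p := 16607) (l := 0) rfl N16607 D53215
theorem N33088 : nd 33088 = n53216 := ndS (p := 16607) (l := 1) rfl N16607 D53216
theorem N33089 : nd 33089 = n53217 := ndS (p := 16607) (l := 6) rfl N16607 D53217
theorem N33090 : nd 33090 = n53218 := ndS (p := 16608) (l := 0) rfl N16608 D53218
theorem N33091 : nd 33091 = n53219 := ndS (p := 16608) (l := 1) rfl N16608 D53219
theorem N33092 : nd 33092 = n53220 := ndS (p := 16608) (l := 5) rfl N16608 D53220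
theorem N33093 : nd 33093 = n53221 := ndS (p := 16608) (l := 7) rfl N16608 D53221
theorem N33094 : nd 33094 = n53224 := ndS (p := 16609) (l := 4) rfl N16609 D53224
theorem N33095 : nd 33095 = n53227 := ndS (p := 16610) (l := 4) rfl N16610 D53227
theorem N33096 : nd 33096 = n53228 := ndS (p := 16610) (l := 6) rfl N16610 D53228
theorem N33097 : nd 33097 = n53229 := ndS (p := 16611) (l := 0) rfl N16611 D53229
theorem N33098 : nd 33098 = n53231 := ndS (p := 16611) (l := 4) rfl N16611 D53231
theorem N33099 : nd 33099 = n53232 := ndS (p := 16611) (l := 7) rfl N16611 D53232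
theorem N33100 : nd 33100 = n53233 := ndS (p := 16613) (l := 1) rfl N16613 D53233
theorem N33101 : nd 33101 = n53234 := ndS (p := 16613) (l := 3) rfl N16613 D53234
theorem N33102 : nd 33102 = n53235 := ndS (p := 16613) (l := 5) rfl N16613 D53235
theorem N33103 : nd 33103 = n53236 := ndS (p := 16614) (l := 0) rfl N16614 D53236
theorem N33104 : nd 33104 = n53237 := ndS (p := 16614) (l := 1) rfl N16614 D53237
theorem N33105 : nd 33105 = n53238 := ndS (p := 16614) (l := 2) rfl N16614 D53238
theorem N33106 : nd 33106 = n53239 := ndS (p := 16614) (l := 5) rfl N16614 D53239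
theorem N33107 : nd 33107 = n53240 := ndS (p := 16614) (l := 6) rfl N16614 D53240
theorem N33108 : nd 33108 = n53241 := ndS (p := 16615) (l := 6) rfl N16615 D53241
theorem N33109 : nd 33109 = n53242 := ndS (p := 16616) (l := 0) rfl N16616 D53242
theorem N33110 : nd 33110 = n53243 := ndS (p := 16616) (l := 1) rfl N16616 D53243
theorem N33111 : nd 33111 = n53244 := ndS (p := 16616) (l := 5) rfl N16616 D53244
theorem N33112 : nd 33112 = n53245 := ndS (p := 16616) (l := 7) rfl N16616 D53245
theorem N33113 : nd 33113 = n53246 := ndS (p := 16617) (l := 4) rfl N16617 D53246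
theorem N33114 : nd 33114 = n53247 := ndS (p := 16617) (l := 6) rfl N16617 D53247
theorem N33115 : nd 33115 = n53248 := ndS (p := 16618) (l := 4) rfl N16618 D53248
theorem N33116 : nd 33116 = n53249 := ndS (p := 16620) (l := 3) rfl N16620 D53249
theorem N33117 : nd 33117 = n53250 := ndS (p := 16620) (l := 6) rfl N16620 D53250
theorem N33118 : nd 33118 = n53251 := ndS (p := 16621) (l := 0) rfl N16621 D53251
theorem N33119 : nd 33119 = n53252 := ndS (p := 16621) (l := 1) rfl N16621 D53252
theorem N33120 : nd 33120 = n53253 := ndS (p := 16621) (l := 5) rfl N16621 D53253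
theorem N33121 : nd 33121 = n53254 := ndS (p := 16621) (l := 7) rfl N16621 D53254
theorem N33122 : nd 33122 = n53255 := ndS (p := 16622) (l := 3) rfl N16622 D53255
theorem N33123 : nd 33123 = n53256 := ndS (p := 16622) (l := 6) rfl N16622 D53256
theorem N33124 : nd 33124 = n53257 := ndS (p := 16623) (l := 3) rfl N16623 D53257
theorem N33125 : nd 33125 = n53258 := ndS (p := 16624) (l := 0) rfl N16624 D53258
theorem N33126 : nd 33126 = n53259 := ndS (p := 16624) (l := 1) rfl N16624 D53259
theorem N33127 : nd 33127 = n53260 := ndS (p := 16624) (l := 2) rfl N16624 D53260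
theorem N33128 : nd 33128 = n53261 := ndS (p := 16624) (l := 5) rfl N16624 D53261
theorem N33129 : nd 33129 = n53262 := ndS (p := 16624) (l := 6) rfl N16624 D53262
theorem N33130 : nd 33130 = n53263 := ndS (p := 16625) (l := 0) rfl N16625 D53263
theorem N33131 : nd 33131 = n53264 := ndS (p := 16625) (l := 1) rfl N16625 D53264
theorem N33132 : nd 33132 = n53265 := ndS (p := 16625) (l := 6) rfl N16625 D53265
theorem N33133 : nd 33133 = n53266 := ndS (p := 16626) (l := 0) rfl N16626 D53266
theorem N33134 : nd 33134 = n53267 := ndS (p := 16626) (l := 1) rfl N16626 D53267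
theorem N33135 : nd 33135 = n53268 := ndS (p := 16626) (l := 5) rfl N16626 D53268
theorem N33136 : nd 33136 = n53269 := ndS (p := 16626) (l := 7) rfl N16626 D53269
theorem N33137 : nd 33137 = n53272 := ndS (p := 16627) (l := 4) rfl N16627 D53272
theorem N33138 : nd 33138 = n53273 := ndS (p := 16627) (l := 5) rfl N16627 D53273
theorem N33139 : nd 33139 = n53276 := ndS (p := 16628) (l := 4) rfl N16628 D53276
theorem N33140 : nd 33140 = n53277 := ndS (p := 16628) (l := 5) rfl N16628 D53277
theorem N33141 : nd 33141 = n53278 := ndS (p := 16628) (l := 6) rfl N16628 D53278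
theorem N33142 : nd 33142 = n53279 := ndS (p := 16629) (l := 4) rfl N16629 D53279
theorem N33143 : nd 33143 = n53280 := ndS (p := 16631) (l := 0) rfl N16631 D53280
theorem N33144 : nd 33144 = n53281 := ndS (p := 16631) (l := 1) rfl N16631 D53281
theorem N33145 : nd 33145 = n53282 := ndS (p := 16631) (l := 2) rfl N16631 D53282
theorem N33146 : nd 33146 = n53283 := ndS (p := 16631) (l := 5) rfl N16631 D53283
theorem N33147 : nd 33147 = n53284 := ndS (p := 16631) (l := 6) rfl N16631 D53284
theorem N33148 : nd 33148 = n53285 := ndS (p := 16632) (l := 6) rfl N16632 D53285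
theorem N33149 : nd 33149 = n53286 := ndS (p := 16633) (l := 0) rfl N16633 D53286
theorem N33150 : nd 33150 = n53287 := ndS (p := 16633) (l := 1) rfl N16633 D53287
theorem N33151 : nd 33151 = n53288 := ndS (p := 16633) (l := 5) rfl N16633 D53288
theorem N33152 : nd 33152 = n53289 := ndS (p := 16633) (l := 7) rfl N16633 D53289
theorem N33153 : nd 33153 = n53292 := ndS (p := 16634) (l := 4) rfl N16634 D53292
theorem N33154 : nd 33154 = n53293 := ndS (p := 16634) (l := 6) rfl N16634 D53293
theorem N33155 : nd 33155 = n53296 := ndS (p := 16635) (l := 4) rfl N16635 D53296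
theorem N33156 : nd 33156 = n53298 := ndS (p := 16636) (l := 1) rfl N16636 D53298
theorem N33157 : nd 33157 = n53301 := ndS (p := 16638) (l := 0) rfl N16638 D53301
theorem N33158 : nd 33158 = n53302 := ndS (p := 16638) (l := 1) rfl N16638 D53302
theorem N33159 : nd 33159 = n53303 := ndS (p := 16638) (l := 2) rfl N16638 D53303
theorem N33160 : nd 33160 = n53304 := ndS (p := 16638) (l := 4) rfl N16638 D53304
theorem N33161 : nd 33161 = n53306 := ndS (p := 16638) (l := 6) rfl N16638 D53306
theorem N33162 : nd 33162 = n53307 := ndS (p := 16639) (l := 6) rfl N16639 D53307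
theorem N33163 : nd 33163 = n53308 := ndS (p := 16640) (l := 0) rfl N16640 D53308
theorem N33164 : nd 33164 = n53313 := ndS (p := 16641) (l := 7) rfl N16641 D53313
theorem N33165 : nd 33165 = n53314 := ndS (p := 16642) (l := 0) rfl N16642 D53314
theorem N33166 : nd 33166 = n53315 := ndS (p := 16642) (l := 1) rfl N16642 D53315
theorem N33167 : nd 33167 = n53316 := ndS (p := 16642) (l := 2) rfl N16642 D53316
theorem N33168 : nd 33168 = n53317 := ndS (p := 16642) (l := 4) rfl N16642 D53317
theorem N33169 : nd 33169 = n53318 := ndS (p := 16642) (l := 5) rfl N16642 D53318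
theorem N33170 : nd 33170 = n53319 := ndS (p := 16642) (l := 6) rfl N16642 D53319
theorem N33171 : nd 33171 = n53320 := ndS (p := 16643) (l := 6) rfl N16643 D53320
theorem N33172 : nd 33172 = n53321 := ndS (p := 16644) (l := 6) rfl N16644 D53321
theorem N33173 : nd 33173 = n53324 := ndS (p := 16645) (l := 5) rfl N16645 D53324
theorem N33174 : nd 33174 = n53325 := ndS (p := 16645) (l := 7) rfl N16645 D53325
theorem N33175 : nd 33175 = n53326 := ndS (p := 16646) (l := 0) rfl N16646 D53326
theorem N33176 : nd 33176 = n53327 := ndS (p := 16646) (l := 2) rfl N16646 D53327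
theorem N33177 : nd 33177 = n53328 := ndS (p := 16646) (l := 3) rfl N16646 D53328
theorem N33178 : nd 33178 = n53329 := ndS (p := 16646) (l := 4) rfl N16646 D53329
theorem N33179 : nd 33179 = n53330 := ndS (p := 16646) (l := 5) rfl N16646 D53330
theorem N33180 : nd 33180 = n53331 := ndS (p := 16646) (l := 6) rfl N16646 D53331
theorem N33181 : nd 33181 = n53332 := ndS (p := 16646) (l := 7) rfl N16646 D53332
theorem N33182 : nd 33182 = n53333 := ndS (p := 16647) (l := 3) rfl N16647 D53333
theorem N33183 : nd 33183 = n53334 := ndS (p := 16647) (l := 4) rfl N16647 D53334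
theorem N33184 : nd 33184 = n53335 := ndS (p := 16647) (l := 5) rfl N16647 D53335
theorem N33185 : nd 33185 = n53336 := ndS (p := 16647) (l := 6) rfl N16647 D53336
theorem N33186 : nd 33186 = n53339 := ndS (p := 16648) (l := 5) rfl N16648 D53339
theorem N33187 : nd 33187 = n53340 := ndS (p := 16649) (l := 0) rfl N16649 D53340
theorem N33188 : nd 33188 = n53341 := ndS (p := 16649) (l := 1) rfl N16649 D53341
theorem N33189 : nd 33189 = n53342 := ndS (p := 16649) (l := 4) rfl N16649 D53342
theorem N33190 : nd 33190 = n53343 := ndS (p := 16649) (l := 6) rfl N16649 D53343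
theorem N33191 : nd 33191 = n53344 := ndS (p := 16649) (l := 7) rfl N16649 D53344
theorem N33192 : nd 33192 = n53345 := ndS (p := 16650) (l := 6) rfl N16650 D53345
theorem N33193 : nd 33193 = n53346 := ndS (p := 16651) (l := 3) rfl N16651 D53346
theorem N33194 : nd 33194 = n53347 := ndS (p := 16651) (l := 6) rfl N16651 D53347
theorem N33195 : nd 33195 = n53348 := ndS (p := 16652) (l := 3) rfl N16652 D53348
theorem N33196 : nd 33196 = n53349 := ndS (p := 16652) (l := 6) rfl N16652 D53349
theorem N33197 : nd 33197 = n53350 := ndS (p := 16653) (l := 3) rfl N16653 D53350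
theorem N33198 : nd 33198 = n53351 := ndS (p := 16653) (l := 6) rfl N16653 D53351
theorem N33199 : nd 33199 = n53352 := ndS (p := 16654) (l := 0) rfl N16654 D53352
theorem N33200 : nd 33200 = n53353 := ndS (p := 16654) (l := 1) rfl N16654 D53353
theorem N33201 : nd 33201 = n53354 := ndS (p := 16654) (l := 7) rfl N16654 D53354
theorem N33202 : nd 33202 = n53355 := ndS (p := 16655) (l := 6) rfl N16655 D53355
theorem N33203 : nd 33203 = n53356 := ndS (p := 16656) (l := 0) rfl N16656 D53356
theorem N33204 : nd 33204 = n53357 := ndS (p := 16656) (l := 1) rfl N16656 D53357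
theorem N33205 : nd 33205 = n53358 := ndS (p := 16656) (l := 5) rfl N16656 D53358
theorem N33206 : nd 33206 = n53360 := ndS (p := 16657) (l := 3) rfl N16657 D53360
theorem N33207 : nd 33207 = n53361 := ndS (p := 16657) (l := 4) rfl N16657 D53361
theorem N33208 : nd 33208 = n53362 := ndS (p := 16657) (l := 5) rfl N16657 D53362
theorem N33209 : nd 33209 = n53363 := ndS (p := 16657) (l := 6) rfl N16657 D53363
theorem N33210 : nd 33210 = n53366 := ndS (p := 16658) (l := 4) rfl N16658 D53366
theorem N33211 : nd 33211 = n53367 := ndS (p := 16658) (l := 5) rfl N16658 D53367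
theorem N33212 : nd 33212 = n53368 := ndS (p := 16659) (l := 3) rfl N16659 D53368
theorem N33213 : nd 33213 = n53369 := ndS (p := 16659) (l := 5) rfl N16659 D53369
theorem N33214 : nd 33214 = n53370 := ndS (p := 16659) (l := 6) rfl N16659 D53370
theorem N33215 : nd 33215 = n53371 := ndS (p := 16660) (l := 0) rfl N16660 D53371
theorem N33216 : nd 33216 = n53373 := ndS (p := 16660) (l := 7) rfl N16660 D53373
theorem N33217 : nd 33217 = n53374 := ndS (p := 16661) (l := 3) rfl N16661 D53374
theorem N33218 : nd 33218 = n53375 := ndS (p := 16661) (l := 5) rfl N16661 D53375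
theorem N33219 : nd 33219 = n53376 := ndS (p := 16661) (l := 6) rfl N16661 D53376
theorem N33220 : nd 33220 = n53377 := ndS (p := 16663) (l := 3) rfl N16663 D53377
theorem N33221 : nd 33221 = n53378 := ndS (p := 16663) (l := 6) rfl N16663 D53378
theorem N33222 : nd 33222 = n53379 := ndS (p := 16664) (l := 3) rfl N16664 D53379
theorem N33223 : nd 33223 = n53380 := ndS (p := 16664) (l := 6) rfl N16664 D53380
theorem N33224 : nd 33224 = n53381 := ndS (p := 16665) (l := 0) rfl N16665 D53381
theorem N33225 : nd 33225 = n53382 := ndS (p := 16665) (l := 1) rfl N16665 D53382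
theorem N33226 : nd 33226 = n53383 := ndS (p := 16665) (l := 2) rfl N16665 D53383
theorem N33227 : nd 33227 = n53384 := ndS (p := 16665) (l := 5) rfl N16665 D53384
theorem N33228 : nd 33228 = n53386 := ndS (p := 16666) (l := 0) rfl N16666 D53386
theorem N33229 : nd 33229 = n53387 := ndS (p := 16666) (l := 1) rfl N16666 D53387
theorem N33230 : nd 33230 = n53388 := ndS (p := 16666) (l := 6) rfl N16666 D53388
theorem N33231 : nd 33231 = n53389 := ndS (p := 16667) (l := 0) rfl N16667 D53389
theorem N33232 : nd 33232 = n53390 := ndS (p := 16667) (l := 1) rfl N16667 D53390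
theorem N33233 : nd 33233 = n53391 := ndS (p := 16667) (l := 5) rfl N16667 D53391
theorem N33234 : nd 33234 = n53392 := ndS (p := 16667) (l := 7) rfl N16667 D53392
theorem N33235 : nd 33235 = n53395 := ndS (p := 16668) (l := 4) rfl N16668 D53395
theorem N33236 : nd 33236 = n53398 := ndS (p := 16669) (l := 4) rfl N16669 D53398
theorem N33237 : nd 33237 = n53399 := ndS (p := 16669) (l := 6) rfl N16669 D53399
theorem N33238 : nd 33238 = n53400 := ndS (p := 16671) (l := 0) rfl N16671 D53400
theorem N33239 : nd 33239 = n53401 := ndS (p := 16671) (l := 1) rfl N16671 D53401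
theorem N33240 : nd 33240 = n53402 := ndS (p := 16671) (l := 2) rfl N16671 D53402
theorem N33241 : nd 33241 = n53403 := ndS (p := 16671) (l := 6) rfl N16671 D53403
theorem N33242 : nd 33242 = n53404 := ndS (p := 16672) (l := 5) rfl N16672 D53404
theorem N33243 : nd 33243 = n53406 := ndS (p := 16673) (l := 3) rfl N16673 D53406
theorem N33244 : nd 33244 = n53407 := ndS (p := 16673) (l := 4) rfl N16673 D53407
theorem N33245 : nd 33245 = n53409 := ndS (p := 16673) (l := 6) rfl N16673 D53409
theorem N33246 : nd 33246 = n53411 := ndS (p := 16674) (l := 3) rfl N16674 D53411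
theorem N33247 : nd 33247 = n53412 := ndS (p := 16674) (l := 4) rfl N16674 D53412
theorem N33248 : nd 33248 = n53414 := ndS (p := 16674) (l := 6) rfl N16674 D53414
theorem N33249 : nd 33249 = n53415 := ndS (p := 16675) (l := 5) rfl N16675 D53415
theorem N33250 : nd 33250 = n53417 := ndS (p := 16676) (l := 0) rfl N16676 D53417
theorem N33251 : nd 33251 = n53418 := ndS (p := 16676) (l := 1) rfl N16676 D53418
theorem N33252 : nd 33252 = n53419 := ndS (p := 16676) (l := 4) rfl N16676 D53419
theorem N33253 : nd 33253 = n53436 := ndS (p := 16677) (l := 4) rfl N16677 D53436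
theorem N33254 : nd 33254 = n53447 := ndS (p := 16679) (l := 6) rfl N16679 D53447
theorem N33255 : nd 33255 = n53448 := ndS (p := 16680) (l := 3) rfl N16680 D53448
theorem N33256 : nd 33256 = n53449 := ndS (p := 16680) (l := 5) rfl N16680 D53449
theorem N33257 : nd 33257 = n53450 := ndS (p := 16680) (l := 6) rfl N16680 D53450
theorem N33258 : nd 33258 = n53451 := ndS (p := 16683) (l := 3) rfl N16683 D53451
theorem N33259 : nd 33259 = n53452 := ndS (p := 16683) (l := 5) rfl N16683 D53452
theorem N33260 : nd 33260 = n53453 := ndS (p := 16683) (l := 6) rfl N16683 D53453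
theorem N33261 : nd 33261 = n53454 := ndS (p := 16685) (l := 3) rfl N16685 D53454
theorem N33262 : nd 33262 = n53455 := ndS (p := 16685) (l := 6) rfl N16685 D53455
theorem N33263 : nd 33263 = n53456 := ndS (p := 16686) (l := 3) rfl N16686 D53456
theorem N33264 : nd 33264 = n53457 := ndS (p := 16686) (l := 6) rfl N16686 D53457
theorem N33265 : nd 33265 = n53458 := ndS (p := 16687) (l := 0) rfl N16687 D53458
theorem N33266 : nd 33266 = n53459 := ndS (p := 16687) (l := 1) rfl N16687 D53459
theorem N33267 : nd 33267 = n53460 := ndS (p := 16687) (l := 2) rfl N16687 D53460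
theorem N33268 : nd 33268 = n53461 := ndS (p := 16687) (l := 5) rfl N16687 D53461
theorem N33269 : nd 33269 = n53462 := ndS (p := 16687) (l := 6) rfl N16687 D53462
theorem N33270 : nd 33270 = n53463 := ndS (p := 16688) (l := 6) rfl N16688 D53463
theorem N33271 : nd 33271 = n53464 := ndS (p := 16689) (l := 0) rfl N16689 D53464
theorem N33272 : nd 33272 = n53465 := ndS (p := 16689) (l := 1) rfl N16689 D53465
theorem N33273 : nd 33273 = n53468 := ndS (p := 16690) (l := 4) rfl N16690 D53468
theorem N33274 : nd 33274 = n53469 := ndS (p := 16690) (l := 6) rfl N16690 D53469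
theorem N33275 : nd 33275 = n53472 := ndS (p := 16693) (l := 3) rfl N16693 D53472
theorem N33276 : nd 33276 = n53473 := ndS (p := 16693) (l := 4) rfl N16693 D53473
theorem N33277 : nd 33277 = n53475 := ndS (p := 16693) (l := 6) rfl N16693 D53475
theorem N33278 : nd 33278 = n53477 := ndS (p := 16694) (l := 3) rfl N16694 D53477
theorem N33279 : nd 33279 = n53478 := ndS (p := 16694) (l := 4) rfl N16694 D53478
theorem N33280 : nd 33280 = n53480 := ndS (p := 16694) (l := 6) rfl N16694 D53480
theorem N33281 : nd 33281 = n53481 := ndS (p := 16695) (l := 5) rfl N16695 D53481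
theorem N33282 : nd 33282 = n53482 := ndS (p := 16695) (l := 6) rfl N16695 D53482
theorem N33283 : nd 33283 = n53483 := ndS (p := 16696) (l := 0) rfl N16696 D53483
theorem N33284 : nd 33284 = n53484 := ndS (p := 16696) (l := 1) rfl N16696 D53484
theorem N33285 : nd 33285 = n53485 := ndS (p := 16696) (l := 4) rfl N16696 D53485
theorem N33286 : nd 33286 = n53486 := ndS (p := 16696) (l := 6) rfl N16696 D53486
theorem N33287 : nd 33287 = n53487 := ndS (p := 16697) (l := 0) rfl N16697 D53487
theorem N33288 : nd 33288 = n53488 := ndS (p := 16697) (l := 1) rfl N16697 D53488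
theorem N33289 : nd 33289 = n53489 := ndS (p := 16697) (l := 5) rfl N16697 D53489
theorem N33290 : nd 33290 = n53499 := ndS (p := 16700) (l := 3) rfl N16700 D53499
theorem N33291 : nd 33291 = n53500 := ndS (p := 16700) (l := 5) rfl N16700 D53500
theorem N33292 : nd 33292 = n53501 := ndS (p := 16700) (l := 6) rfl N16700 D53501
theorem N33293 : nd 33293 = n53502 := ndS (p := 16702) (l := 3) rfl N16702 D53502
theorem N33294 : nd 33294 = n53503 := ndS (p := 16702) (l := 6) rfl N16702 D53503
theorem N33295 : nd 33295 = n53504 := ndS (p := 16703) (l := 3) rfl N16703 D53504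
theorem N33296 : nd 33296 = n53505 := ndS (p := 16704) (l := 0) rfl N16704 D53505
theorem N33297 : nd 33297 = n53506 := ndS (p := 16704) (l := 1) rfl N16704 D53506
theorem N33298 : nd 33298 = n53507 := ndS (p := 16704) (l := 2) rfl N16704 D53507
theorem N33299 : nd 33299 = n53508 := ndS (p := 16704) (l := 5) rfl N16704 D53508
theorem N33300 : nd 33300 = n53509 := ndS (p := 16704) (l := 6) rfl N16704 D53509
theorem N33301 : nd 33301 = n53510 := ndS (p := 16705) (l := 6) rfl N16705 D53510
theorem N33302 : nd 33302 = n53511 := ndS (p := 16706) (l := 0) rfl N16706 D53511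
theorem N33303 : nd 33303 = n53512 := ndS (p := 16706) (l := 1) rfl N16706 D53512
theorem N33304 : nd 33304 = n53513 := ndS (p := 16706) (l := 5) rfl N16706 D53513
theorem N33305 : nd 33305 = n53514 := ndS (p := 16706) (l := 7) rfl N16706 D53514
theorem N33306 : nd 33306 = n53517 := ndS (p := 16707) (l := 4) rfl N16707 D53517
theorem N33307 : nd 33307 = n53518 := ndS (p := 16707) (l := 5) rfl N16707 D53518
theorem N33308 : nd 33308 = n53520 := ndS (p := 16708) (l := 3) rfl N16708 D53520
theorem N33309 : nd 33309 = n53521 := ndS (p := 16708) (l := 4) rfl N16708 D53521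
theorem N33310 : nd 33310 = n53522 := ndS (p := 16708) (l := 5) rfl N16708 D53522
theorem N33311 : nd 33311 = n53523 := ndS (p := 16708) (l := 6) rfl N16708 D53523
theorem N33312 : nd 33312 = n53524 := ndS (p := 16709) (l := 4) rfl N16709 D53524
theorem N33313 : nd 33313 = n53526 := ndS (p := 16711) (l := 3) rfl N16711 D53526
theorem N33314 : nd 33314 = n53527 := ndS (p := 16711) (l := 4) rfl N16711 D53527
theorem N33315 : nd 33315 = n53529 := ndS (p := 16711) (l := 6) rfl N16711 D53529
theorem N33316 : nd 33316 = n53531 := ndS (p := 16712) (l := 3) rfl N16712 D53531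
theorem N33317 : nd 33317 = n53532 := ndS (p := 16712) (l := 4) rfl N16712 D53532
theorem N33318 : nd 33318 = n53535 := ndS (p := 16713) (l := 5) rfl N16713 D53535
theorem N33319 : nd 33319 = n53536 := ndS (p := 16713) (l := 6) rfl N16713 D53536
theorem N33320 : nd 33320 = n53539 := ndS (p := 16714) (l := 4) rfl N16714 D53539
theorem N33321 : nd 33321 = n53540 := ndS (p := 16714) (l := 6) rfl N16714 D53540
theorem N33322 : nd 33322 = n53541 := ndS (p := 16715) (l := 0) rfl N16715 D53541
theorem N33323 : nd 33323 = n53542 := ndS (p := 16715) (l := 1) rfl N16715 D53542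
theorem N33324 : nd 33324 = n53543 := ndS (p := 16715) (l := 5) rfl N16715 D53543
theorem N33325 : nd 33325 = n53544 := ndS (p := 16715) (l := 7) rfl N16715 D53544
theorem N33326 : nd 33326 = n53551 := ndS (p := 16718) (l := 3) rfl N16718 D53551
theorem N33327 : nd 33327 = n53553 := ndS (p := 16718) (l := 6) rfl N16718 D53553
theorem N33328 : nd 33328 = n53554 := ndS (p := 16719) (l := 0) rfl N16719 D53554
theorem N33329 : nd 33329 = n53555 := ndS (p := 16719) (l := 1) rfl N16719 D53555
theorem N33330 : nd 33330 = n53556 := ndS (p := 16719) (l := 4) rfl N16719 D53556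
theorem N33331 : nd 33331 = n53557 := ndS (p := 16719) (l := 7) rfl N16719 D53557
theorem N33332 : nd 33332 = n53561 := ndS (p := 16721) (l := 4) rfl N16721 D53561
theorem N33333 : nd 33333 = n53562 := ndS (p := 16721) (l := 5) rfl N16721 D53562
theorem N33334 : nd 33334 = n53565 := ndS (p := 16722) (l := 4) rfl N16722 D53565
theorem N33335 : nd 33335 = n53572 := ndS (p := 16723) (l := 3) rfl N16723 D53572
theorem N33336 : nd 33336 = n53574 := ndS (p := 16723) (l := 6) rfl N16723 D53574
theorem N33337 : nd 33337 = n53575 := ndS (p := 16724) (l := 4) rfl N16724 D53575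
theorem N33338 : nd 33338 = n53576 := ndS (p := 16726) (l := 3) rfl N16726 D53576
theorem N33339 : nd 33339 = n53578 := ndS (p := 16727) (l := 0) rfl N16727 D53578
theorem N33340 : nd 33340 = n53579 := ndS (p := 16727) (l := 1) rfl N16727 D53579
theorem N33341 : nd 33341 = n53580 := ndS (p := 16727) (l := 7) rfl N16727 D53580
theorem N33342 : nd 33342 = n53581 := ndS (p := 16728) (l := 0) rfl N16728 D53581
theorem N33343 : nd 33343 = n53582 := ndS (p := 16728) (l := 1) rfl N16728 D53582
theorem N33344 : nd 33344 = n53583 := ndS (p := 16728) (l := 2) rfl N16728 D53583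
theorem N33345 : nd 33345 = n53584 := ndS (p := 16728) (l := 5) rfl N16728 D53584
theorem N33346 : nd 33346 = n53585 := ndS (p := 16728) (l := 6) rfl N16728 D53585
theorem N33347 : nd 33347 = n53586 := ndS (p := 16729) (l := 6) rfl N16729 D53586
theorem N33348 : nd 33348 = n53587 := ndS (p := 16730) (l := 0) rfl N16730 D53587
theorem N33349 : nd 33349 = n53588 := ndS (p := 16730) (l := 1) rfl N16730 D53588
theorem N33350 : nd 33350 = n53589 := ndS (p := 16730) (l := 5) rfl N16730 D53589
theorem N33351 : nd 33351 = n53590 := ndS (p := 16730) (l := 7) rfl N16730 D53590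
theorem N33352 : nd 33352 = n53593 := ndS (p := 16731) (l := 4) rfl N16731 D53593
theorem N33353 : nd 33353 = n53594 := ndS (p := 16731) (l := 6) rfl N16731 D53594
theorem N33354 : nd 33354 = n53597 := ndS (p := 16732) (l := 4) rfl N16732 D53597
theorem N33355 : nd 33355 = n53599 := ndS (p := 16734) (l := 3) rfl N16734 D53599
theorem N33356 : nd 33356 = n53600 := ndS (p := 16734) (l := 4) rfl N16734 D53600
theorem N33357 : nd 33357 = n53604 := ndS (p := 16735) (l := 3) rfl N16735 D53604
theorem N33358 : nd 33358 = n53605 := ndS (p := 16735) (l := 4) rfl N16735 D53605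
theorem N33359 : nd 33359 = n53607 := ndS (p := 16735) (l := 6) rfl N16735 D53607
theorem N33360 : nd 33360 = n53608 := ndS (p := 16736) (l := 5) rfl N16736 D53608
theorem N33361 : nd 33361 = n53609 := ndS (p := 16736) (l := 6) rfl N16736 D53609
theorem N33362 : nd 33362 = n53612 := ndS (p := 16737) (l := 4) rfl N16737 D53612
theorem N33363 : nd 33363 = n53614 := ndS (p := 16738) (l := 0) rfl N16738 D53614
theorem N33364 : nd 33364 = n53615 := ndS (p := 16738) (l := 1) rfl N16738 D53615
theorem N33365 : nd 33365 = n53625 := ndS (p := 16739) (l := 3) rfl N16739 D53625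
theorem N33366 : nd 33366 = n53636 := ndS (p := 16740) (l := 3) rfl N16740 D53636
theorem N33367 : nd 33367 = n53638 := ndS (p := 16740) (l := 6) rfl N16740 D53638
theorem N33368 : nd 33368 = n53642 := ndS (p := 16742) (l := 4) rfl N16742 D53642
theorem N33369 : nd 33369 = n53643 := ndS (p := 16743) (l := 3) rfl N16743 D53643
theorem N33370 : nd 33370 = n53646 := ndS (p := 16744) (l := 3) rfl N16744 D53646
theorem N33371 : nd 33371 = n53647 := ndS (p := 16744) (l := 4) rfl N16744 D53647
theorem N33372 : nd 33372 = n53648 := ndS (p := 16744) (l := 5) rfl N16744 D53648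
theorem N33373 : nd 33373 = n53649 := ndS (p := 16744) (l := 6) rfl N16744 D53649
theorem N33374 : nd 33374 = n53651 := ndS (p := 16745) (l := 3) rfl N16745 D53651
theorem N33375 : nd 33375 = n53652 := ndS (p := 16745) (l := 4) rfl N16745 D53652
theorem N33376 : nd 33376 = n53653 := ndS (p := 16745) (l := 5) rfl N16745 D53653
theorem N33377 : nd 33377 = n53655 := ndS (p := 16746) (l := 5) rfl N16746 D53655
theorem N33378 : nd 33378 = n53656 := ndS (p := 16746) (l := 6) rfl N16746 D53656
theorem N33379 : nd 33379 = n53659 := ndS (p := 16747) (l := 4) rfl N16747 D53659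
theorem N33380 : nd 33380 = n53660 := ndS (p := 16747) (l := 6) rfl N16747 D53660
theorem N33381 : nd 33381 = n53662 := ndS (p := 16748) (l := 1) rfl N16748 D53662
theorem N33382 : nd 33382 = n53663 := ndS (p := 16748) (l := 5) rfl N16748 D53663
theorem N33383 : nd 33383 = n53664 := ndS (p := 16748) (l := 7) rfl N16748 D53664
theorem N33384 : nd 33384 = n53665 := ndS (p := 16749) (l := 0) rfl N16749 D53665
theorem N33385 : nd 33385 = n53666 := ndS (p := 16749) (l := 1) rfl N16749 D53666
theorem N33386 : nd 33386 = n53668 := ndS (p := 16749) (l := 7) rfl N16749 D53668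
theorem N33387 : nd 33387 = n53669 := ndS (p := 16750) (l := 0) rfl N16750 D53669
theorem N33388 : nd 33388 = n53670 := ndS (p := 16750) (l := 1) rfl N16750 D53670
theorem N33389 : nd 33389 = n53671 := ndS (p := 16750) (l := 4) rfl N16750 D53671
theorem N33390 : nd 33390 = n53672 := ndS (p := 16750) (l := 7) rfl N16750 D53672
theorem N33391 : nd 33391 = n53674 := ndS (p := 16752) (l := 3) rfl N16752 D53674
theorem N33392 : nd 33392 = n53675 := ndS (p := 16752) (l := 4) rfl N16752 D53675
theorem N33393 : nd 33393 = n53676 := ndS (p := 16752) (l := 5) rfl N16752 D53676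
theorem N33394 : nd 33394 = n53680 := ndS (p := 16753) (l := 4) rfl N16753 D53680
theorem N33395 : nd 33395 = n53681 := ndS (p := 16753) (l := 5) rfl N16753 D53681
theorem N33396 : nd 33396 = n53682 := ndS (p := 16753) (l := 6) rfl N16753 D53682
theorem N33397 : nd 33397 = n53683 := ndS (p := 16754) (l := 4) rfl N16754 D53683
theorem N33398 : nd 33398 = n53684 := ndS (p := 16754) (l := 5) rfl N16754 D53684
theorem N33399 : nd 33399 = n53685 := ndS (p := 16754) (l := 6) rfl N16754 D53685
theorem N33400 : nd 33400 = n53686 := ndS (p := 16755) (l := 0) rfl N16755 D53686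
theorem N33401 : nd 33401 = n53687 := ndS (p := 16755) (l := 1) rfl N16755 D53687
theorem N33402 : nd 33402 = n53688 := ndS (p := 16755) (l := 5) rfl N16755 D53688
theorem N33403 : nd 33403 = n53689 := ndS (p := 16755) (l := 6) rfl N16755 D53689
theorem N33404 : nd 33404 = n53692 := ndS (p := 16756) (l := 4) rfl N16756 D53692
theorem N33405 : nd 33405 = n53693 := ndS (p := 16756) (l := 6) rfl N16756 D53693
theorem N33406 : nd 33406 = n53694 := ndS (p := 16757) (l := 0) rfl N16757 D53694
theorem N33407 : nd 33407 = n53695 := ndS (p := 16757) (l := 1) rfl N16757 D53695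
theorem N33408 : nd 33408 = n53706 := ndS (p := 16759) (l := 6) rfl N16759 D53706
theorem N33409 : nd 33409 = n53709 := ndS (p := 16760) (l := 3) rfl N16760 D53709
theorem N33410 : nd 33410 = n53710 := ndS (p := 16760) (l := 4) rfl N16760 D53710
theorem N33411 : nd 33411 = n53711 := ndS (p := 16760) (l := 5) rfl N16760 D53711
theorem N33412 : nd 33412 = n53712 := ndS (p := 16760) (l := 6) rfl N16760 D53712
theorem N33413 : nd 33413 = n53716 := ndS (p := 16761) (l := 4) rfl N16761 D53716
theorem N33414 : nd 33414 = n53717 := ndS (p := 16761) (l := 5) rfl N16761 D53717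
theorem N33415 : nd 33415 = n53720 := ndS (p := 16762) (l := 0) rfl N16762 D53720
theorem N33416 : nd 33416 = n53721 := ndS (p := 16762) (l := 1) rfl N16762 D53721
theorem N33417 : nd 33417 = n53723 := ndS (p := 16762) (l := 5) rfl N16762 D53723
theorem N33418 : nd 33418 = n53725 := ndS (p := 16762) (l := 7) rfl N16762 D53725
theorem N33419 : nd 33419 = n53726 := ndS (p := 16763) (l := 0) rfl N16763 D53726
theorem N33420 : nd 33420 = n53728 := ndS (p := 16763) (l := 4) rfl N16763 D53728
theorem N33421 : nd 33421 = n53729 := ndS (p := 16763) (l := 6) rfl N16763 D53729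
theorem N33422 : nd 33422 = n53730 := ndS (p := 16763) (l := 7) rfl N16763 D53730
theorem N33423 : nd 33423 = n53731 := ndS (p := 16764) (l := 0) rfl N16764 D53731
theorem N33424 : nd 33424 = n53733 := ndS (p := 16764) (l := 5) rfl N16764 D53733
theorem N33425 : nd 33425 = n53734 := ndS (p := 16764) (l := 7) rfl N16764 D53734
theorem N33426 : nd 33426 = n53736 := ndS (p := 16766) (l := 0) rfl N16766 D53736
theorem N33427 : nd 33427 = n53738 := ndS (p := 16766) (l := 2) rfl N16766 D53738
theorem N33428 : nd 33428 = n53739 := ndS (p := 16766) (l := 4) rfl N16766 D53739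
theorem N33429 : nd 33429 = n53740 := ndS (p := 16766) (l := 5) rfl N16766 D53740
theorem N33430 : nd 33430 = n53741 := ndS (p := 16766) (l := 6) rfl N16766 D53741
theorem N33431 : nd 33431 = n53742 := ndS (p := 16767) (l := 3) rfl N16767 D53742
theorem N33432 : nd 33432 = n53743 := ndS (p := 16767) (l := 5) rfl N16767 D53743
theorem N33433 : nd 33433 = n53744 := ndS (p := 16767) (l := 6) rfl N16767 D53744
theorem N33434 : nd 33434 = n53745 := ndS (p := 16768) (l := 4) rfl N16768 D53745
theorem N33435 : nd 33435 = n53746 := ndS (p := 16768) (l := 6) rfl N16768 D53746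
theorem N33436 : nd 33436 = n53748 := ndS (p := 16769) (l := 1) rfl N16769 D53748
theorem N33437 : nd 33437 = n53761 := ndS (p := 16770) (l := 4) rfl N16770 D53761
theorem N33438 : nd 33438 = n53762 := ndS (p := 16770) (l := 6) rfl N16770 D53762
theorem N33439 : nd 33439 = n53765 := ndS (p := 16771) (l := 4) rfl N16771 D53765
theorem N33440 : nd 33440 = n53769 := ndS (p := 16772) (l := 3) rfl N16772 D53769
theorem N33441 : nd 33441 = n53770 := ndS (p := 16772) (l := 4) rfl N16772 D53770
theorem N33442 : nd 33442 = n53772 := ndS (p := 16772) (l := 6) rfl N16772 D53772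
theorem N33443 : nd 33443 = n53773 := ndS (p := 16773) (l := 0) rfl N16773 D53773
theorem N33444 : nd 33444 = n53774 := ndS (p := 16773) (l := 1) rfl N16773 D53774
theorem N33445 : nd 33445 = n53775 := ndS (p := 16773) (l := 5) rfl N16773 D53775
theorem N33446 : nd 33446 = n53776 := ndS (p := 16773) (l := 6) rfl N16773 D53776
theorem N33447 : nd 33447 = n53779 := ndS (p := 16774) (l := 7) rfl N16774 D53779
theorem N33448 : nd 33448 = n53780 := ndS (p := 16775) (l := 0) rfl N16775 D53780
theorem N33449 : nd 33449 = n53781 := ndS (p := 16775) (l := 1) rfl N16775 D53781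
theorem N33450 : nd 33450 = n53782 := ndS (p := 16775) (l := 5) rfl N16775 D53782
theorem N33451 : nd 33451 = n53785 := ndS (p := 16776) (l := 2) rfl N16776 D53785
theorem N33452 : nd 33452 = n53795 := ndS (p := 16777) (l := 4) rfl N16777 D53795
theorem N33453 : nd 33453 = n53799 := ndS (p := 16778) (l := 5) rfl N16778 D53799
theorem N33454 : nd 33454 = n53802 := ndS (p := 16779) (l := 3) rfl N16779 D53802
theorem N33455 : nd 33455 = n53805 := ndS (p := 16779) (l := 6) rfl N16779 D53805
theorem N33456 : nd 33456 = n53807 := ndS (p := 16780) (l := 3) rfl N16780 D53807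
theorem N33457 : nd 33457 = n53810 := ndS (p := 16780) (l := 6) rfl N16780 D53810
theorem N33458 : nd 33458 = n53812 := ndS (p := 16782) (l := 3) rfl N16782 D53812
theorem N33459 : nd 33459 = n53815 := ndS (p := 16782) (l := 6) rfl N16782 D53815
theorem N33460 : nd 33460 = n53817 := ndS (p := 16783) (l := 3) rfl N16783 D53817
theorem N33461 : nd 33461 = n53820 := ndS (p := 16783) (l := 6) rfl N16783 D53820
theorem N33462 : nd 33462 = n53821 := ndS (p := 16784) (l := 0) rfl N16784 D53821
theorem N33463 : nd 33463 = n53822 := ndS (p := 16784) (l := 1) rfl N16784 D53822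
theorem N33464 : nd 33464 = n53823 := ndS (p := 16784) (l := 4) rfl N16784 D53823
theorem N33465 : nd 33465 = n53827 := ndS (p := 16785) (l := 4) rfl N16785 D53827
theorem N33466 : nd 33466 = n53828 := ndS (p := 16785) (l := 5) rfl N16785 D53828
theorem N33467 : nd 33467 = n53829 := ndS (p := 16785) (l := 6) rfl N16785 D53829
theorem N33468 : nd 33468 = n53832 := ndS (p := 16786) (l := 3) rfl N16786 D53832
theorem N33469 : nd 33469 = n53834 := ndS (p := 16786) (l := 6) rfl N16786 D53834
theorem N33470 : nd 33470 = n53835 := ndS (p := 16787) (l := 4) rfl N16787 D53835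
theorem N33471 : nd 33471 = n53839 := ndS (p := 16789) (l := 4) rfl N16789 D53839
theorem N33472 : nd 33472 = n53840 := ndS (p := 16789) (l := 5) rfl N16789 D53840
theorem N33473 : nd 33473 = n53841 := ndS (p := 16790) (l := 3) rfl N16790 D53841
theorem N33474 : nd 33474 = n53843 := ndS (p := 16791) (l := 4) rfl N16791 D53843
theorem N33475 : nd 33475 = n53845 := ndS (p := 16793) (l := 6) rfl N16793 D53845
theorem N33476 : nd 33476 = n53847 := ndS (p := 16795) (l := 3) rfl N16795 D53847
theorem N33477 : nd 33477 = n53848 := ndS (p := 16795) (l := 4) rfl N16795 D53848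
theorem N33478 : nd 33478 = n53850 := ndS (p := 16795) (l := 6) rfl N16795 D53850
theorem N33479 : nd 33479 = n53852 := ndS (p := 16796) (l := 3) rfl N16796 D53852
theorem N33480 : nd 33480 = n53853 := ndS (p := 16796) (l := 4) rfl N16796 D53853
theorem N33481 : nd 33481 = n53855 := ndS (p := 16796) (l := 6) rfl N16796 D53855
theorem N33482 : nd 33482 = n53868 := ndS (p := 16799) (l := 4) rfl N16799 D53868
theorem N33483 : nd 33483 = n53870 := ndS (p := 16800) (l := 1) rfl N16800 D53870
theorem N33484 : nd 33484 = n53871 := ndS (p := 16800) (l := 2) rfl N16800 D53871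
theorem N33485 : nd 33485 = n53872 := ndS (p := 16800) (l := 4) rfl N16800 D53872
theorem N33486 : nd 33486 = n53873 := ndS (p := 16800) (l := 6) rfl N16800 D53873
theorem N33487 : nd 33487 = n53874 := ndS (p := 16804) (l := 6) rfl N16804 D53874
theorem N33488 : nd 33488 = n53875 := ndS (p := 16805) (l := 3) rfl N16805 D53875
theorem N33489 : nd 33489 = n53876 := ndS (p := 16805) (l := 6) rfl N16805 D53876
theorem N33490 : nd 33490 = n53877 := ndS (p := 16808) (l := 3) rfl N16808 D53877
theorem N33491 : nd 33491 = n53878 := ndS (p := 16808) (l := 4) rfl N16808 D53878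
theorem N33492 : nd 33492 = n53879 := ndS (p := 16808) (l := 6) rfl N16808 D53879
theorem N33493 : nd 33493 = n53880 := ndS (p := 16809) (l := 3) rfl N16809 D53880
theorem N33494 : nd 33494 = n53881 := ndS (p := 16809) (l := 4) rfl N16809 D53881
theorem N33495 : nd 33495 = n53882 := ndS (p := 16809) (l := 6) rfl N16809 D53882
theorem N33496 : nd 33496 = n53883 := ndS (p := 16810) (l := 0) rfl N16810 D53883
theorem N33497 : nd 33497 = n53884 := ndS (p := 16810) (l := 1) rfl N16810 D53884
theorem N33498 : nd 33498 = n53885 := ndS (p := 16810) (l := 6) rfl N16810 D53885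
theorem N33499 : nd 33499 = n53886 := ndS (p := 16811) (l := 0) rfl N16811 D53886
theorem N33500 : nd 33500 = n53887 := ndS (p := 16811) (l := 1) rfl N16811 D53887
theorem N33501 : nd 33501 = n53888 := ndS (p := 16811) (l := 7) rfl N16811 D53888
theorem N33502 : nd 33502 = n53892 := ndS (p := 16812) (l := 5) rfl N16812 D53892
theorem N33503 : nd 33503 = n53893 := ndS (p := 16812) (l := 6) rfl N16812 D53893
theorem N33504 : nd 33504 = n53895 := ndS (p := 16813) (l := 3) rfl N16813 D53895
theorem N33505 : nd 33505 = n53897 := ndS (p := 16813) (l := 5) rfl N16813 D53897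
theorem N33506 : nd 33506 = n53898 := ndS (p := 16813) (l := 6) rfl N16813 D53898
theorem N33507 : nd 33507 = n53902 := ndS (p := 16815) (l := 2) rfl N16815 D53902
theorem N33508 : nd 33508 = n53904 := ndS (p := 16817) (l := 2) rfl N16817 D53904
theorem N33509 : nd 33509 = n53905 := ndS (p := 16818) (l := 3) rfl N16818 D53905
theorem N33510 : nd 33510 = n53906 := ndS (p := 16818) (l := 5) rfl N16818 D53906
theorem N33511 : nd 33511 = n53907 := ndS (p := 16818) (l := 6) rfl N16818 D53907
theorem N33512 : nd 33512 = n53908 := ndS (p := 16820) (l := 3) rfl N16820 D53908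
theorem N33513 : nd 33513 = n53909 := ndS (p := 16820) (l := 5) rfl N16820 D53909
theorem N33514 : nd 33514 = n53910 := ndS (p := 16820) (l := 6) rfl N16820 D53910
theorem N33515 : nd 33515 = n53911 := ndS (p := 16822) (l := 6) rfl N16822 D53911
theorem N33516 : nd 33516 = n53912 := ndS (p := 16823) (l := 3) rfl N16823 D53912
theorem N33517 : nd 33517 = n53913 := ndS (p := 16823) (l := 5) rfl N16823 D53913
theorem N33518 : nd 33518 = n53914 := ndS (p := 16823) (l := 6) rfl N16823 D53914
theorem N33519 : nd 33519 = n53916 := ndS (p := 16824) (l := 1) rfl N16824 D53916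
theorem N33520 : nd 33520 = n53917 := ndS (p := 16824) (l := 7) rfl N16824 D53917
theorem N33521 : nd 33521 = n53918 := ndS (p := 16825) (l := 3) rfl N16825 D53918
theorem N33522 : nd 33522 = n53919 := ndS (p := 16825) (l := 5) rfl N16825 D53919
theorem N33523 : nd 33523 = n53920 := ndS (p := 16825) (l := 6) rfl N16825 D53920
theorem N33524 : nd 33524 = n53921 := ndS (p := 16826) (l := 3) rfl N16826 D53921
theorem N33525 : nd 33525 = n53922 := ndS (p := 16826) (l := 5) rfl N16826 D53922
theorem N33526 : nd 33526 = n53923 := ndS (p := 16826) (l := 6) rfl N16826 D53923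
theorem N33527 : nd 33527 = n53924 := ndS (p := 16827) (l := 0) rfl N16827 D53924
theorem N33528 : nd 33528 = n53925 := ndS (p := 16827) (l := 1) rfl N16827 D53925
theorem N33529 : nd 33529 = n53926 := ndS (p := 16827) (l := 2) rfl N16827 D53926
theorem N33530 : nd 33530 = n53927 := ndS (p := 16827) (l := 5) rfl N16827 D53927
theorem N33531 : nd 33531 = n53928 := ndS (p := 16827) (l := 6) rfl N16827 D53928
theorem N33532 : nd 33532 = n53929 := ndS (p := 16828) (l := 1) rfl N16828 D53929
theorem N33533 : nd 33533 = n53930 := ndS (p := 16828) (l := 6) rfl N16828 D53930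
theorem N33534 : nd 33534 = n53931 := ndS (p := 16829) (l := 0) rfl N16829 D53931
theorem N33535 : nd 33535 = n53932 := ndS (p := 16829) (l := 5) rfl N16829 D53932
theorem N33536 : nd 33536 = n53933 := ndS (p := 16829) (l := 7) rfl N16829 D53933
theorem N33537 : nd 33537 = n53935 := ndS (p := 16830) (l := 4) rfl N16830 D53935
theorem N33538 : nd 33538 = n53936 := ndS (p := 16830) (l := 6) rfl N16830 D53936
theorem N33539 : nd 33539 = n53937 := ndS (p := 16831) (l := 3) rfl N16831 D53937
theorem N33540 : nd 33540 = n53938 := ndS (p := 16831) (l := 4) rfl N16831 D53938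
theorem N33541 : nd 33541 = n53940 := ndS (p := 16833) (l := 3) rfl N16833 D53940
theorem N33542 : nd 33542 = n53941 := ndS (p := 16833) (l := 4) rfl N16833 D53941
theorem N33543 : nd 33543 = n53943 := ndS (p := 16833) (l := 6) rfl N16833 D53943
theorem N33544 : nd 33544 = n53945 := ndS (p := 16834) (l := 3) rfl N16834 D53945
theorem N33545 : nd 33545 = n53946 := ndS (p := 16834) (l := 4) rfl N16834 D53946
theorem N33546 : nd 33546 = n53948 := ndS (p := 16834) (l := 6) rfl N16834 D53948
theorem N33547 : nd 33547 = n53949 := ndS (p := 16835) (l := 6) rfl N16835 D53949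
theorem N33548 : nd 33548 = n53950 := ndS (p := 16836) (l := 0) rfl N16836 D53950
theorem N33549 : nd 33549 = n53951 := ndS (p := 16836) (l := 1) rfl N16836 D53951
theorem N33550 : nd 33550 = n53952 := ndS (p := 16836) (l := 5) rfl N16836 D53952
theorem N33551 : nd 33551 = n53953 := ndS (p := 16836) (l := 7) rfl N16836 D53953
theorem N33552 : nd 33552 = n53954 := ndS (p := 16837) (l := 0) rfl N16837 D53954
theorem N33553 : nd 33553 = n53956 := ndS (p := 16837) (l := 4) rfl N16837 D53956
theorem N33554 : nd 33554 = n53957 := ndS (p := 16837) (l := 7) rfl N16837 D53957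
theorem N33555 : nd 33555 = n53958 := ndS (p := 16839) (l := 0) rfl N16839 D53958
theorem N33556 : nd 33556 = n53959 := ndS (p := 16839) (l := 2) rfl N16839 D53959
theorem N33557 : nd 33557 = n53960 := ndS (p := 16839) (l := 4) rfl N16839 D53960
theorem N33558 : nd 33558 = n53961 := ndS (p := 16839) (l := 6) rfl N16839 D53961
theorem N33559 : nd 33559 = n53962 := ndS (p := 16841) (l := 4) rfl N16841 D53962
theorem N33560 : nd 33560 = n53963 := ndS (p := 16842) (l := 1) rfl N16842 D53963
theorem N33561 : nd 33561 = n53964 := ndS (p := 16842) (l := 2) rfl N16842 D53964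
theorem N33562 : nd 33562 = n53965 := ndS (p := 16843) (l := 2) rfl N16843 D53965
theorem N33563 : nd 33563 = n53966 := ndS (p := 16844) (l := 5) rfl N16844 D53966
theorem N33564 : nd 33564 = n53969 := ndS (p := 16846) (l := 3) rfl N16846 D53969
theorem N33565 : nd 33565 = n53970 := ndS (p := 16846) (l := 4) rfl N16846 D53970
theorem N33566 : nd 33566 = n53971 := ndS (p := 16846) (l := 6) rfl N16846 D53971
theorem N33567 : nd 33567 = n53972 := ndS (p := 16847) (l := 3) rfl N16847 D53972
theorem N33568 : nd 33568 = n53973 := ndS (p := 16847) (l := 4) rfl N16847 D53973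
theorem N33569 : nd 33569 = n53974 := ndS (p := 16847) (l := 6) rfl N16847 D53974
theorem N33570 : nd 33570 = n53991 := ndS (p := 16848) (l := 6) rfl N16848 D53991
theorem N33571 : nd 33571 = n53992 := ndS (p := 16851) (l := 6) rfl N16851 D53992
theorem N33572 : nd 33572 = n53993 := ndS (p := 16852) (l := 0) rfl N16852 D53993
theorem N33573 : nd 33573 = n53994 := ndS (p := 16852) (l := 1) rfl N16852 D53994
theorem N33574 : nd 33574 = n53995 := ndS (p := 16852) (l := 7) rfl N16852 D53995
theorem N33575 : nd 33575 = n53997 := ndS (p := 16853) (l := 3) rfl N16853 D53997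
theorem N33576 : nd 33576 = n53999 := ndS (p := 16853) (l := 5) rfl N16853 D53999
theorem N33577 : nd 33577 = n54002 := ndS (p := 16854) (l := 3) rfl N16854 D54002
theorem N33578 : nd 33578 = n54004 := ndS (p := 16854) (l := 5) rfl N16854 D54004
theorem N33579 : nd 33579 = n54005 := ndS (p := 16854) (l := 6) rfl N16854 D54005
theorem N33580 : nd 33580 = n54006 := ndS (p := 16856) (l := 6) rfl N16856 D54006
theorem N33581 : nd 33581 = n54007 := ndS (p := 16857) (l := 6) rfl N16857 D54007
theorem N33582 : nd 33582 = n54008 := ndS (p := 16860) (l := 5) rfl N16860 D54008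
theorem N33583 : nd 33583 = n54009 := ndS (p := 16861) (l := 4) rfl N16861 D54009
theorem N33584 : nd 33584 = n54010 := ndS (p := 16861) (l := 6) rfl N16861 D54010
theorem N33585 : nd 33585 = n54011 := ndS (p := 16863) (l := 0) rfl N16863 D54011
theorem N33586 : nd 33586 = n54012 := ndS (p := 16863) (l := 1) rfl N16863 D54012
theorem N33587 : nd 33587 = n54013 := ndS (p := 16863) (l := 5) rfl N16863 D54013
theorem N33588 : nd 33588 = n54014 := ndS (p := 16863) (l := 6) rfl N16863 D54014
theorem N33589 : nd 33589 = n54015 := ndS (p := 16864) (l := 0) rfl N16864 D54015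
theorem N33590 : nd 33590 = n54016 := ndS (p := 16864) (l := 1) rfl N16864 D54016
theorem N33591 : nd 33591 = n54017 := ndS (p := 16864) (l := 5) rfl N16864 D54017
theorem N33592 : nd 33592 = n54018 := ndS (p := 16864) (l := 7) rfl N16864 D54018
theorem N33593 : nd 33593 = n54019 := ndS (p := 16865) (l := 3) rfl N16865 D54019
theorem N33594 : nd 33594 = n54020 := ndS (p := 16867) (l := 3) rfl N16867 D54020
theorem N33595 : nd 33595 = n54024 := ndS (p := 16868) (l := 3) rfl N16868 D54024
theorem N33596 : nd 33596 = n54027 := ndS (p := 16869) (l := 0) rfl N16869 D54027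
theorem N33597 : nd 33597 = n54028 := ndS (p := 16869) (l := 1) rfl N16869 D54028
theorem N33598 : nd 33598 = n54029 := ndS (p := 16869) (l := 7) rfl N16869 D54029
theorem N33599 : nd 33599 = n54030 := ndS (p := 16872) (l := 5) rfl N16872 D54030
theorem N33600 : nd 33600 = n54031 := ndS (p := 16873) (l := 4) rfl N16873 D54031
theorem N33601 : nd 33601 = n54032 := ndS (p := 16873) (l := 6) rfl N16873 D54032
theorem N33602 : nd 33602 = n54033 := ndS (p := 16874) (l := 5) rfl N16874 D54033
theorem N33603 : nd 33603 = n54034 := ndS (p := 16875) (l := 4) rfl N16875 D54034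
theorem N33604 : nd 33604 = n54035 := ndS (p := 16875) (l := 6) rfl N16875 D54035
theorem N33605 : nd 33605 = n54036 := ndS (p := 16876) (l := 4) rfl N16876 D54036
theorem N33606 : nd 33606 = n54037 := ndS (p := 16876) (l := 6) rfl N16876 D54037
theorem N33607 : nd 33607 = n54038 := ndS (p := 16877) (l := 4) rfl N16877 D54038
theorem N33608 : nd 33608 = n54039 := ndS (p := 16877) (l := 6) rfl N16877 D54039
theorem N33609 : nd 33609 = n54040 := ndS (p := 16878) (l := 0) rfl N16878 D54040
theorem N33610 : nd 33610 = n54041 := ndS (p := 16878) (l := 1) rfl N16878 D54041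
theorem N33611 : nd 33611 = n54042 := ndS (p := 16878) (l := 5) rfl N16878 D54042
theorem N33612 : nd 33612 = n54043 := ndS (p := 16878) (l := 6) rfl N16878 D54043
theorem N33613 : nd 33613 = n54044 := ndS (p := 16879) (l := 0) rfl N16879 D54044
theorem N33614 : nd 33614 = n54045 := ndS (p := 16879) (l := 1) rfl N16879 D54045
theorem N33615 : nd 33615 = n54046 := ndS (p := 16879) (l := 5) rfl N16879 D54046
theorem N33616 : nd 33616 = n54047 := ndS (p := 16879) (l := 7) rfl N16879 D54047
theorem N33617 : nd 33617 = n54048 := ndS (p := 16880) (l := 4) rfl N16880 D54048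
theorem N33618 : nd 33618 = n54050 := ndS (p := 16881) (l := 3) rfl N16881 D54050
theorem N33619 : nd 33619 = n54052 := ndS (p := 16881) (l := 5) rfl N16881 D54052
theorem N33620 : nd 33620 = n54055 := ndS (p := 16882) (l := 3) rfl N16882 D54055
theorem N33621 : nd 33621 = n54057 := ndS (p := 16882) (l := 5) rfl N16882 D54057
theorem N33622 : nd 33622 = n54058 := ndS (p := 16882) (l := 6) rfl N16882 D54058
theorem N33623 : nd 33623 = n54059 := ndS (p := 16883) (l := 0) rfl N16883 D54059
theorem N33624 : nd 33624 = n54060 := ndS (p := 16883) (l := 1) rfl N16883 D54060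
theorem N33625 : nd 33625 = n54062 := ndS (p := 16883) (l := 7) rfl N16883 D54062
theorem N33626 : nd 33626 = n54063 := ndS (p := 16885) (l := 3) rfl N16885 D54063
theorem N33627 : nd 33627 = n54064 := ndS (p := 16886) (l := 5) rfl N16886 D54064
theorem N33628 : nd 33628 = n54065 := ndS (p := 16887) (l := 4) rfl N16887 D54065
theorem N33629 : nd 33629 = n54066 := ndS (p := 16887) (l := 6) rfl N16887 D54066
theorem N33630 : nd 33630 = n54067 := ndS (p := 16888) (l := 5) rfl N16888 D54067
theorem N33631 : nd 33631 = n54068 := ndS (p := 16889) (l := 5) rfl N16889 D54068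
theorem N33632 : nd 33632 = n54069 := ndS (p := 16890) (l := 4) rfl N16890 D54069
theorem N33633 : nd 33633 = n54070 := ndS (p := 16890) (l := 6) rfl N16890 D54070
theorem N33634 : nd 33634 = n54071 := ndS (p := 16891) (l := 5) rfl N16891 D54071
theorem N33635 : nd 33635 = n54072 := ndS (p := 16892) (l := 5) rfl N16892 D54072
theorem N33636 : nd 33636 = n54073 := ndS (p := 16893) (l := 4) rfl N16893 D54073
theorem N33637 : nd 33637 = n54074 := ndS (p := 16893) (l := 6) rfl N16893 D54074
theorem N33638 : nd 33638 = n54075 := ndS (p := 16895) (l := 5) rfl N16895 D54075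
theorem N33639 : nd 33639 = n54076 := ndS (p := 16896) (l := 5) rfl N16896 D54076
theorem N33640 : nd 33640 = n54077 := ndS (p := 16897) (l := 0) rfl N16897 D54077
theorem N33641 : nd 33641 = n54078 := ndS (p := 16897) (l := 4) rfl N16897 D54078
theorem N33642 : nd 33642 = n54079 := ndS (p := 16897) (l := 6) rfl N16897 D54079
theorem N33643 : nd 33643 = n54080 := ndS (p := 16899) (l := 4) rfl N16899 D54080
theorem N33644 : nd 33644 = n54081 := ndS (p := 16899) (l := 6) rfl N16899 D54081
theorem N33645 : nd 33645 = n54082 := ndS (p := 16900) (l := 4) rfl N16900 D54082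
theorem N33646 : nd 33646 = n54083 := ndS (p := 16900) (l := 6) rfl N16900 D54083
theorem N33647 : nd 33647 = n54084 := ndS (p := 16901) (l := 0) rfl N16901 D54084
theorem N33648 : nd 33648 = n54085 := ndS (p := 16901) (l := 5) rfl N16901 D54085
theorem N33649 : nd 33649 = n54086 := ndS (p := 16901) (l := 6) rfl N16901 D54086
theorem N33650 : nd 33650 = n54087 := ndS (p := 16902) (l := 0) rfl N16902 D54087
theorem N33651 : nd 33651 = n54088 := ndS (p := 16902) (l := 1) rfl N16902 D54088
theorem N33652 : nd 33652 = n54089 := ndS (p := 16902) (l := 5) rfl N16902 D54089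
theorem N33653 : nd 33653 = n54090 := ndS (p := 16902) (l := 7) rfl N16902 D54090
theorem N33654 : nd 33654 = n54091 := ndS (p := 16903) (l := 4) rfl N16903 D54091
theorem N33655 : nd 33655 = n54092 := ndS (p := 16905) (l := 4) rfl N16905 D54092
theorem N33656 : nd 33656 = n54093 := ndS (p := 16907) (l := 3) rfl N16907 D54093
theorem N33657 : nd 33657 = n54097 := ndS (p := 16908) (l := 3) rfl N16908 D54097
theorem N33658 : nd 33658 = n54101 := ndS (p := 16909) (l := 1) rfl N16909 D54101
theorem N33659 : nd 33659 = n54102 := ndS (p := 16909) (l := 4) rfl N16909 D54102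
theorem N33660 : nd 33660 = n54103 := ndS (p := 16909) (l := 7) rfl N16909 D54103
theorem N33661 : nd 33661 = n54104 := ndS (p := 16911) (l := 3) rfl N16911 D54104
theorem N33662 : nd 33662 = n54105 := ndS (p := 16912) (l := 4) rfl N16912 D54105
theorem N33663 : nd 33663 = n54106 := ndS (p := 16912) (l := 6) rfl N16912 D54106
theorem N33664 : nd 33664 = n54107 := ndS (p := 16913) (l := 5) rfl N16913 D54107
theorem N33665 : nd 33665 = n54108 := ndS (p := 16914) (l := 5) rfl N16914 D54108
theorem N33666 : nd 33666 = n54109 := ndS (p := 16915) (l := 4) rfl N16915 D54109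
theorem N33667 : nd 33667 = n54110 := ndS (p := 16915) (l := 6) rfl N16915 D54110
theorem N33668 : nd 33668 = n54111 := ndS (p := 16917) (l := 5) rfl N16917 D54111
theorem N33669 : nd 33669 = n54112 := ndS (p := 16918) (l := 5) rfl N16918 D54112
theorem N33670 : nd 33670 = n54113 := ndS (p := 16919) (l := 5) rfl N16919 D54113
theorem N33671 : nd 33671 = n54114 := ndS (p := 16920) (l := 1) rfl N16920 D54114
theorem N33672 : nd 33672 = n54115 := ndS (p := 16920) (l := 4) rfl N16920 D54115
theorem N33673 : nd 33673 = n54117 := ndS (p := 16920) (l := 7) rfl N16920 D54117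
theorem N33674 : nd 33674 = n54118 := ndS (p := 16922) (l := 0) rfl N16922 D54118
theorem N33675 : nd 33675 = n54119 := ndS (p := 16922) (l := 1) rfl N16922 D54119
theorem N33676 : nd 33676 = n54120 := ndS (p := 16922) (l := 3) rfl N16922 D54120
theorem N33677 : nd 33677 = n54121 := ndS (p := 16922) (l := 5) rfl N16922 D54121
theorem N33678 : nd 33678 = n54122 := ndS (p := 16922) (l := 6) rfl N16922 D54122
theorem N33679 : nd 33679 = n54123 := ndS (p := 16922) (l := 7) rfl N16922 D54123
theorem N33680 : nd 33680 = n54124 := ndS (p := 16923) (l := 0) rfl N16923 D54124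
theorem N33681 : nd 33681 = n54126 := ndS (p := 16923) (l := 7) rfl N16923 D54126
theorem N33682 : nd 33682 = n54127 := ndS (p := 16924) (l := 6) rfl N16924 D54127
theorem N33683 : nd 33683 = n54128 := ndS (p := 16926) (l := 4) rfl N16926 D54128
theorem N33684 : nd 33684 = n54129 := ndS (p := 16926) (l := 6) rfl N16926 D54129
theorem N33685 : nd 33685 = n54130 := ndS (p := 16928) (l := 3) rfl N16928 D54130
theorem N33686 : nd 33686 = n54132 := ndS (p := 16928) (l := 6) rfl N16928 D54132
theorem N33687 : nd 33687 = n54134 := ndS (p := 16929) (l := 1) rfl N16929 D54134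
theorem N33688 : nd 33688 = n54135 := ndS (p := 16929) (l := 5) rfl N16929 D54135
theorem N33689 : nd 33689 = n54136 := ndS (p := 16929) (l := 7) rfl N16929 D54136
theorem N33690 : nd 33690 = n54137 := ndS (p := 16930) (l := 5) rfl N16930 D54137
theorem N33691 : nd 33691 = n54138 := ndS (p := 16931) (l := 4) rfl N16931 D54138
theorem N33692 : nd 33692 = n54139 := ndS (p := 16932) (l := 4) rfl N16932 D54139
theorem N33693 : nd 33693 = n54140 := ndS (p := 16932) (l := 6) rfl N16932 D54140
theorem N33694 : nd 33694 = n54141 := ndS (p := 16933) (l := 3) rfl N16933 D54141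
theorem N33695 : nd 33695 = n54142 := ndS (p := 16933) (l := 4) rfl N16933 D54142
theorem N33696 : nd 33696 = n54143 := ndS (p := 16933) (l := 6) rfl N16933 D54143
theorem N33697 : nd 33697 = n54144 := ndS (p := 16934) (l := 0) rfl N16934 D54144
theorem N33698 : nd 33698 = n54145 := ndS (p := 16934) (l := 1) rfl N16934 D54145
theorem N33699 : nd 33699 = n54146 := ndS (p := 16934) (l := 3) rfl N16934 D54146
theorem N33700 : nd 33700 = n54148 := ndS (p := 16934) (l := 6) rfl N16934 D54148
theorem N33701 : nd 33701 = n54149 := ndS (p := 16935) (l := 0) rfl N16935 D54149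
theorem N33702 : nd 33702 = n54150 := ndS (p := 16935) (l := 1) rfl N16935 D54150
theorem N33703 : nd 33703 = n54151 := ndS (p := 16935) (l := 7) rfl N16935 D54151
theorem N33704 : nd 33704 = n54152 := ndS (p := 16936) (l := 4) rfl N16936 D54152
theorem N33705 : nd 33705 = n54153 := ndS (p := 16936) (l := 6) rfl N16936 D54153
theorem N33706 : nd 33706 = n54154 := ndS (p := 16937) (l := 0) rfl N16937 D54154
theorem N33707 : nd 33707 = n54155 := ndS (p := 16937) (l := 1) rfl N16937 D54155
theorem N33708 : nd 33708 = n54156 := ndS (p := 16937) (l := 3) rfl N16937 D54156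
theorem N33709 : nd 33709 = n54157 := ndS (p := 16937) (l := 5) rfl N16937 D54157
theorem N33710 : nd 33710 = n54158 := ndS (p := 16937) (l := 6) rfl N16937 D54158
theorem N33711 : nd 33711 = n54159 := ndS (p := 16938) (l := 0) rfl N16938 D54159
theorem N33712 : nd 33712 = n54160 := ndS (p := 16938) (l := 1) rfl N16938 D54160
theorem N33713 : nd 33713 = n54162 := ndS (p := 16938) (l := 7) rfl N16938 D54162
theorem N33714 : nd 33714 = n54163 := ndS (p := 16939) (l := 3) rfl N16939 D54163
theorem N33715 : nd 33715 = n54164 := ndS (p := 16939) (l := 5) rfl N16939 D54164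
theorem N33716 : nd 33716 = n54165 := ndS (p := 16939) (l := 6) rfl N16939 D54165
theorem N33717 : nd 33717 = n54167 := ndS (p := 16940) (l := 1) rfl N16940 D54167
theorem N33718 : nd 33718 = n54169 := ndS (p := 16940) (l := 7) rfl N16940 D54169
theorem N33719 : nd 33719 = n54171 := ndS (p := 16941) (l := 3) rfl N16941 D54171
theorem N33720 : nd 33720 = n54172 := ndS (p := 16941) (l := 4) rfl N16941 D54172
theorem N33721 : nd 33721 = n54173 := ndS (p := 16941) (l := 5) rfl N16941 D54173
theorem N33722 : nd 33722 = n54174 := ndS (p := 16941) (l := 6) rfl N16941 D54174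
theorem N33723 : nd 33723 = n54175 := ndS (p := 16942) (l := 3) rfl N16942 D54175
theorem N33724 : nd 33724 = n54176 := ndS (p := 16942) (l := 4) rfl N16942 D54176
theorem N33725 : nd 33725 = n54177 := ndS (p := 16942) (l := 5) rfl N16942 D54177
theorem N33726 : nd 33726 = n54178 := ndS (p := 16942) (l := 6) rfl N16942 D54178
theorem N33727 : nd 33727 = n54179 := ndS (p := 16943) (l := 0) rfl N16943 D54179
theorem N33728 : nd 33728 = n54180 := ndS (p := 16943) (l := 1) rfl N16943 D54180
theorem N33729 : nd 33729 = n54181 := ndS (p := 16943) (l := 2) rfl N16943 D54181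
theorem N33730 : nd 33730 = n54182 := ndS (p := 16943) (l := 5) rfl N16943 D54182
theorem N33731 : nd 33731 = n54183 := ndS (p := 16943) (l := 6) rfl N16943 D54183
theorem N33732 : nd 33732 = n54186 := ndS (p := 16944) (l := 4) rfl N16944 D54186
theorem N33733 : nd 33733 = n54187 := ndS (p := 16944) (l := 6) rfl N16944 D54187
theorem N33734 : nd 33734 = n54189 := ndS (p := 16945) (l := 0) rfl N16945 D54189
theorem N33735 : nd 33735 = n54190 := ndS (p := 16945) (l := 1) rfl N16945 D54190
theorem N33736 : nd 33736 = n54191 := ndS (p := 16945) (l := 5) rfl N16945 D54191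
theorem N33737 : nd 33737 = n54192 := ndS (p := 16945) (l := 7) rfl N16945 D54192
theorem N33738 : nd 33738 = n54193 := ndS (p := 16946) (l := 6) rfl N16946 D54193
theorem N33739 : nd 33739 = n54195 := ndS (p := 16947) (l := 3) rfl N16947 D54195
theorem N33740 : nd 33740 = n54196 := ndS (p := 16947) (l := 4) rfl N16947 D54196
theorem N33741 : nd 33741 = n54197 := ndS (p := 16947) (l := 5) rfl N16947 D54197
theorem N33742 : nd 33742 = n54198 := ndS (p := 16947) (l := 6) rfl N16947 D54198
theorem N33743 : nd 33743 = n54200 := ndS (p := 16948) (l := 3) rfl N16948 D54200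
theorem N33744 : nd 33744 = n54201 := ndS (p := 16948) (l := 4) rfl N16948 D54201
theorem N33745 : nd 33745 = n54202 := ndS (p := 16948) (l := 5) rfl N16948 D54202
theorem N33746 : nd 33746 = n54203 := ndS (p := 16948) (l := 6) rfl N16948 D54203
theorem N33747 : nd 33747 = n54204 := ndS (p := 16949) (l := 6) rfl N16949 D54204
theorem N33748 : nd 33748 = n54205 := ndS (p := 16950) (l := 0) rfl N16950 D54205
theorem N33749 : nd 33749 = n54206 := ndS (p := 16950) (l := 1) rfl N16950 D54206
theorem N33750 : nd 33750 = n54207 := ndS (p := 16950) (l := 5) rfl N16950 D54207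
theorem N33751 : nd 33751 = n54208 := ndS (p := 16951) (l := 0) rfl N16951 D54208
theorem N33752 : nd 33752 = n54209 := ndS (p := 16951) (l := 4) rfl N16951 D54209
theorem N33753 : nd 33753 = n54210 := ndS (p := 16952) (l := 4) rfl N16952 D54210
theorem N33754 : nd 33754 = n54211 := ndS (p := 16952) (l := 6) rfl N16952 D54211
theorem N33755 : nd 33755 = n54212 := ndS (p := 16953) (l := 0) rfl N16953 D54212
theorem N33756 : nd 33756 = n54213 := ndS (p := 16953) (l := 1) rfl N16953 D54213
theorem N33757 : nd 33757 = n54214 := ndS (p := 16953) (l := 5) rfl N16953 D54214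
theorem N33758 : nd 33758 = n54215 := ndS (p := 16953) (l := 6) rfl N16953 D54215
theorem N33759 : nd 33759 = n54216 := ndS (p := 16954) (l := 0) rfl N16954 D54216
theorem N33760 : nd 33760 = n54217 := ndS (p := 16954) (l := 1) rfl N16954 D54217
theorem N33761 : nd 33761 = n54219 := ndS (p := 16954) (l := 7) rfl N16954 D54219
theorem N33762 : nd 33762 = n54221 := ndS (p := 16955) (l := 3) rfl N16955 D54221
theorem N33763 : nd 33763 = n54223 := ndS (p := 16955) (l := 5) rfl N16955 D54223
theorem N33764 : nd 33764 = n54224 := ndS (p := 16955) (l := 6) rfl N16955 D54224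
theorem N33765 : nd 33765 = n54228 := ndS (p := 16956) (l := 5) rfl N16956 D54228
theorem N33766 : nd 33766 = n54229 := ndS (p := 16956) (l := 6) rfl N16956 D54229
theorem N33767 : nd 33767 = n54234 := ndS (p := 16958) (l := 4) rfl N16958 D54234
theorem N33768 : nd 33768 = n54235 := ndS (p := 16958) (l := 6) rfl N16958 D54235
theorem N33769 : nd 33769 = n54236 := ndS (p := 16959) (l := 0) rfl N16959 D54236
theorem N33770 : nd 33770 = n54237 := ndS (p := 16959) (l := 1) rfl N16959 D54237
theorem N33771 : nd 33771 = n54238 := ndS (p := 16959) (l := 5) rfl N16959 D54238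
theorem N33772 : nd 33772 = n54241 := ndS (p := 16960) (l := 1) rfl N16960 D54241
theorem N33773 : nd 33773 = n54249 := ndS (p := 16961) (l := 3) rfl N16961 D54249
theorem N33774 : nd 33774 = n54252 := ndS (p := 16961) (l := 6) rfl N16961 D54252
theorem N33775 : nd 33775 = n54254 := ndS (p := 16962) (l := 3) rfl N16962 D54254
theorem N33776 : nd 33776 = n54255 := ndS (p := 16962) (l := 4) rfl N16962 D54255
theorem N33777 : nd 33777 = n54257 := ndS (p := 16962) (l := 6) rfl N16962 D54257
theorem N33778 : nd 33778 = n54260 := ndS (p := 16963) (l := 4) rfl N16963 D54260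
theorem N33779 : nd 33779 = n54263 := ndS (p := 16964) (l := 6) rfl N16964 D54263
theorem N33780 : nd 33780 = n54264 := ndS (p := 16965) (l := 0) rfl N16965 D54264
theorem N33781 : nd 33781 = n54265 := ndS (p := 16965) (l := 1) rfl N16965 D54265
theorem N33782 : nd 33782 = n54266 := ndS (p := 16965) (l := 5) rfl N16965 D54266
theorem N33783 : nd 33783 = n54267 := ndS (p := 16965) (l := 7) rfl N16965 D54267
theorem N33784 : nd 33784 = n54268 := ndS (p := 16966) (l := 3) rfl N16966 D54268
theorem N33785 : nd 33785 = n54269 := ndS (p := 16966) (l := 5) rfl N16966 D54269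
theorem N33786 : nd 33786 = n54270 := ndS (p := 16966) (l := 6) rfl N16966 D54270
theorem N33787 : nd 33787 = n54276 := ndS (p := 16968) (l := 4) rfl N16968 D54276
theorem N33788 : nd 33788 = n54278 := ndS (p := 16970) (l := 0) rfl N16970 D54278
theorem N33789 : nd 33789 = n54280 := ndS (p := 16970) (l := 2) rfl N16970 D54280
theorem N33790 : nd 33790 = n54281 := ndS (p := 16970) (l := 4) rfl N16970 D54281
theorem N33791 : nd 33791 = n54282 := ndS (p := 16970) (l := 5) rfl N16970 D54282
theorem N33792 : nd 33792 = n54284 := ndS (p := 16971) (l := 3) rfl N16971 D54284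
theorem N33793 : nd 33793 = n54285 := ndS (p := 16971) (l := 5) rfl N16971 D54285
theorem N33794 : nd 33794 = n54286 := ndS (p := 16971) (l := 6) rfl N16971 D54286
theorem N33795 : nd 33795 = n54288 := ndS (p := 16973) (l := 1) rfl N16973 D54288
theorem N33796 : nd 33796 = n54290 := ndS (p := 16973) (l := 7) rfl N16973 D54290
theorem N33797 : nd 33797 = n54292 := ndS (p := 16974) (l := 1) rfl N16974 D54292
theorem N33798 : nd 33798 = n54293 := ndS (p := 16974) (l := 2) rfl N16974 D54293
theorem N33799 : nd 33799 = n54294 := ndS (p := 16974) (l := 4) rfl N16974 D54294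
theorem N33800 : nd 33800 = n54295 := ndS (p := 16974) (l := 5) rfl N16974 D54295
theorem N33801 : nd 33801 = n54296 := ndS (p := 16974) (l := 6) rfl N16974 D54296
theorem N33802 : nd 33802 = n54297 := ndS (p := 16975) (l := 3) rfl N16975 D54297
theorem N33803 : nd 33803 = n54300 := ndS (p := 16977) (l := 0) rfl N16977 D54300
theorem N33804 : nd 33804 = n54302 := ndS (p := 16977) (l := 5) rfl N16977 D54302
theorem N33805 : nd 33805 = n54305 := ndS (p := 16979) (l := 3) rfl N16979 D54305
theorem N33806 : nd 33806 = n54307 := ndS (p := 16979) (l := 5) rfl N16979 D54307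
theorem N33807 : nd 33807 = n54308 := ndS (p := 16979) (l := 6) rfl N16979 D54308
theorem N33808 : nd 33808 = n54310 := ndS (p := 16980) (l := 3) rfl N16980 D54310
theorem N33809 : nd 33809 = n54312 := ndS (p := 16980) (l := 5) rfl N16980 D54312
theorem N33810 : nd 33810 = n54313 := ndS (p := 16980) (l := 6) rfl N16980 D54313
theorem N33811 : nd 33811 = n54314 := ndS (p := 16981) (l := 0) rfl N16981 D54314
theorem N33812 : nd 33812 = n54315 := ndS (p := 16981) (l := 1) rfl N16981 D54315
theorem N33813 : nd 33813 = n54316 := ndS (p := 16982) (l := 3) rfl N16982 D54316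
theorem N33814 : nd 33814 = n54317 := ndS (p := 16982) (l := 6) rfl N16982 D54317
theorem N33815 : nd 33815 = n54318 := ndS (p := 16983) (l := 0) rfl N16983 D54318
theorem N33816 : nd 33816 = n54319 := ndS (p := 16983) (l := 1) rfl N16983 D54319
theorem N33817 : nd 33817 = n54320 := ndS (p := 16983) (l := 7) rfl N16983 D54320
theorem N33818 : nd 33818 = n54325 := ndS (p := 16985) (l := 6) rfl N16985 D54325
theorem N33819 : nd 33819 = n54332 := ndS (p := 16988) (l := 0) rfl N16988 D54332
theorem N33820 : nd 33820 = n54333 := ndS (p := 16988) (l := 1) rfl N16988 D54333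
theorem N33821 : nd 33821 = n54334 := ndS (p := 16988) (l := 5) rfl N16988 D54334
theorem N33822 : nd 33822 = n54335 := ndS (p := 16988) (l := 7) rfl N16988 D54335
theorem N33823 : nd 33823 = n54338 := ndS (p := 16989) (l := 4) rfl N16989 D54338
theorem N33824 : nd 33824 = n54342 := ndS (p := 16990) (l := 3) rfl N16990 D54342
theorem N33825 : nd 33825 = n54343 := ndS (p := 16990) (l := 4) rfl N16990 D54343
theorem N33826 : nd 33826 = n54346 := ndS (p := 16991) (l := 0) rfl N16991 D54346
theorem N33827 : nd 33827 = n54347 := ndS (p := 16991) (l := 1) rfl N16991 D54347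
theorem N33828 : nd 33828 = n54348 := ndS (p := 16991) (l := 4) rfl N16991 D54348
theorem N33829 : nd 33829 = n54349 := ndS (p := 16991) (l := 7) rfl N16991 D54349
theorem N33830 : nd 33830 = n54350 := ndS (p := 16994) (l := 3) rfl N16994 D54350
theorem N33831 : nd 33831 = n54358 := ndS (p := 16996) (l := 2) rfl N16996 D54358
theorem N33832 : nd 33832 = n54359 := ndS (p := 16996) (l := 6) rfl N16996 D54359
theorem N33833 : nd 33833 = n54361 := ndS (p := 16997) (l := 1) rfl N16997 D54361
theorem N33834 : nd 33834 = n54363 := ndS (p := 16998) (l := 2) rfl N16998 D54363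
theorem N33835 : nd 33835 = n54369 := ndS (p := 17000) (l := 3) rfl N17000 D54369
theorem N33836 : nd 33836 = n54376 := ndS (p := 17004) (l := 4) rfl N17004 D54376
theorem N33837 : nd 33837 = n54383 := ndS (p := 17009) (l := 6) rfl N17009 D54383
theorem N33838 : nd 33838 = n54384 := ndS (p := 17010) (l := 5) rfl N17010 D54384
theorem N33839 : nd 33839 = n54385 := ndS (p := 17013) (l := 3) rfl N17013 D54385
theorem N33840 : nd 33840 = n54386 := ndS (p := 17013) (l := 6) rfl N17013 D54386
theorem N33841 : nd 33841 = n54387 := ndS (p := 17014) (l := 0) rfl N17014 D54387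
theorem N33842 : nd 33842 = n54389 := ndS (p := 17014) (l := 7) rfl N17014 D54389
theorem N33843 : nd 33843 = n54390 := ndS (p := 17015) (l := 6) rfl N17015 D54390
theorem N33844 : nd 33844 = n54394 := ndS (p := 17017) (l := 6) rfl N17017 D54394
theorem N33845 : nd 33845 = n54399 := ndS (p := 17019) (l := 6) rfl N17019 D54399
theorem N33846 : nd 33846 = n54400 := ndS (p := 17020) (l := 0) rfl N17020 D54400
theorem N33847 : nd 33847 = n54401 := ndS (p := 17020) (l := 1) rfl N17020 D54401
theorem N33848 : nd 33848 = n54402 := ndS (p := 17020) (l := 5) rfl N17020 D54402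
theorem N33849 : nd 33849 = n54403 := ndS (p := 17020) (l := 7) rfl N17020 D54403
theorem N33850 : nd 33850 = n54405 := ndS (p := 17021) (l := 3) rfl N17021 D54405
theorem N33851 : nd 33851 = n54407 := ndS (p := 17021) (l := 5) rfl N17021 D54407
theorem N33852 : nd 33852 = n54408 := ndS (p := 17021) (l := 6) rfl N17021 D54408
theorem N33853 : nd 33853 = n54410 := ndS (p := 17022) (l := 3) rfl N17022 D54410
theorem N33854 : nd 33854 = n54412 := ndS (p := 17022) (l := 6) rfl N17022 D54412
theorem N33855 : nd 33855 = n54413 := ndS (p := 17024) (l := 3) rfl N17024 D54413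
theorem N33856 : nd 33856 = n54414 := ndS (p := 17024) (l := 6) rfl N17024 D54414
theorem N33857 : nd 33857 = n54415 := ndS (p := 17025) (l := 3) rfl N17025 D54415
theorem N33858 : nd 33858 = n54417 := ndS (p := 17026) (l := 0) rfl N17026 D54417
theorem N33859 : nd 33859 = n54418 := ndS (p := 17026) (l := 1) rfl N17026 D54418
theorem N33860 : nd 33860 = n54419 := ndS (p := 17026) (l := 3) rfl N17026 D54419
theorem N33861 : nd 33861 = n54421 := ndS (p := 17026) (l := 7) rfl N17026 D54421
theorem N33862 : nd 33862 = n54425 := ndS (p := 17030) (l := 0) rfl N17030 D54425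
theorem N33863 : nd 33863 = n54426 := ndS (p := 17030) (l := 7) rfl N17030 D54426
theorem N33864 : nd 33864 = n54428 := ndS (p := 17031) (l := 7) rfl N17031 D54428
theorem N33865 : nd 33865 = n54436 := ndS (p := 17035) (l := 5) rfl N17035 D54436
theorem N33866 : nd 33866 = n54437 := ndS (p := 17036) (l := 4) rfl N17036 D54437
theorem N33867 : nd 33867 = n54438 := ndS (p := 17037) (l := 3) rfl N17037 D54438
theorem N33868 : nd 33868 = n54439 := ndS (p := 17037) (l := 6) rfl N17037 D54439
theorem N33869 : nd 33869 = n54440 := ndS (p := 17038) (l := 0) rfl N17038 D54440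
theorem N33870 : nd 33870 = n54441 := ndS (p := 17038) (l := 1) rfl N17038 D54441
theorem N33871 : nd 33871 = n54442 := ndS (p := 17038) (l := 5) rfl N17038 D54442
theorem N33872 : nd 33872 = n54443 := ndS (p := 17038) (l := 7) rfl N17038 D54443
theorem N33873 : nd 33873 = n54444 := ndS (p := 17039) (l := 4) rfl N17039 D54444
theorem N33874 : nd 33874 = n54445 := ndS (p := 17040) (l := 6) rfl N17040 D54445
theorem N33875 : nd 33875 = n54446 := ndS (p := 17041) (l := 0) rfl N17041 D54446
theorem N33876 : nd 33876 = n54447 := ndS (p := 17041) (l := 1) rfl N17041 D54447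
theorem N33877 : nd 33877 = n54448 := ndS (p := 17041) (l := 5) rfl N17041 D54448
theorem N33878 : nd 33878 = n54449 := ndS (p := 17041) (l := 7) rfl N17041 D54449
theorem N33879 : nd 33879 = n54451 := ndS (p := 17042) (l := 3) rfl N17042 D54451
theorem N33880 : nd 33880 = n54452 := ndS (p := 17042) (l := 4) rfl N17042 D54452
theorem N33881 : nd 33881 = n54453 := ndS (p := 17042) (l := 5) rfl N17042 D54453
theorem N33882 : nd 33882 = n54454 := ndS (p := 17042) (l := 6) rfl N17042 D54454
theorem N33883 : nd 33883 = n54456 := ndS (p := 17043) (l := 3) rfl N17043 D54456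
theorem N33884 : nd 33884 = n54457 := ndS (p := 17043) (l := 4) rfl N17043 D54457
theorem N33885 : nd 33885 = n54458 := ndS (p := 17043) (l := 5) rfl N17043 D54458
theorem N33886 : nd 33886 = n54459 := ndS (p := 17043) (l := 6) rfl N17043 D54459
theorem N33887 : nd 33887 = n54460 := ndS (p := 17044) (l := 0) rfl N17044 D54460
theorem N33888 : nd 33888 = n54461 := ndS (p := 17044) (l := 1) rfl N17044 D54461
theorem N33889 : nd 33889 = n54462 := ndS (p := 17044) (l := 4) rfl N17044 D54462
theorem N33890 : nd 33890 = n54463 := ndS (p := 17044) (l := 7) rfl N17044 D54463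
theorem N33891 : nd 33891 = n54464 := ndS (p := 17046) (l := 5) rfl N17046 D54464
theorem N33892 : nd 33892 = n54465 := ndS (p := 17047) (l := 4) rfl N17047 D54465
theorem N33893 : nd 33893 = n54466 := ndS (p := 17047) (l := 6) rfl N17047 D54466
theorem N33894 : nd 33894 = n54467 := ndS (p := 17048) (l := 3) rfl N17048 D54467
theorem N33895 : nd 33895 = n54468 := ndS (p := 17048) (l := 4) rfl N17048 D54468
theorem N33896 : nd 33896 = n54469 := ndS (p := 17048) (l := 6) rfl N17048 D54469
theorem N33897 : nd 33897 = n54470 := ndS (p := 17049) (l := 3) rfl N17049 D54470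
theorem N33898 : nd 33898 = n54471 := ndS (p := 17049) (l := 4) rfl N17049 D54471
theorem N33899 : nd 33899 = n54473 := ndS (p := 17050) (l := 0) rfl N17050 D54473
theorem N33900 : nd 33900 = n54474 := ndS (p := 17050) (l := 1) rfl N17050 D54474
theorem N33901 : nd 33901 = n54476 := ndS (p := 17050) (l := 5) rfl N17050 D54476
theorem N33902 : nd 33902 = n54477 := ndS (p := 17050) (l := 7) rfl N17050 D54477
theorem N33903 : nd 33903 = n54478 := ndS (p := 17051) (l := 6) rfl N17051 D54478
theorem N33904 : nd 33904 = n54479 := ndS (p := 17052) (l := 3) rfl N17052 D54479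
theorem N33905 : nd 33905 = n54486 := ndS (p := 17053) (l := 6) rfl N17053 D54486
theorem N33906 : nd 33906 = n54487 := ndS (p := 17054) (l := 5) rfl N17054 D54487
theorem N33907 : nd 33907 = n54488 := ndS (p := 17055) (l := 5) rfl N17055 D54488
theorem N33908 : nd 33908 = n54489 := ndS (p := 17056) (l := 0) rfl N17056 D54489
theorem N33909 : nd 33909 = n54490 := ndS (p := 17056) (l := 1) rfl N17056 D54490
theorem N33910 : nd 33910 = n54491 := ndS (p := 17056) (l := 4) rfl N17056 D54491
theorem N33911 : nd 33911 = n54498 := ndS (p := 17057) (l := 0) rfl N17057 D54498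
theorem N33912 : nd 33912 = n54499 := ndS (p := 17057) (l := 4) rfl N17057 D54499
theorem N33913 : nd 33913 = n54500 := ndS (p := 17057) (l := 6) rfl N17057 D54500
theorem N33914 : nd 33914 = n54506 := ndS (p := 17059) (l := 2) rfl N17059 D54506
theorem N33915 : nd 33915 = n54507 := ndS (p := 17059) (l := 4) rfl N17059 D54507
theorem N33916 : nd 33916 = n54527 := ndS (p := 17061) (l := 5) rfl N17061 D54527
theorem N33917 : nd 33917 = n54528 := ndS (p := 17062) (l := 0) rfl N17062 D54528
theorem N33918 : nd 33918 = n54529 := ndS (p := 17062) (l := 4) rfl N17062 D54529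
theorem N33919 : nd 33919 = n54536 := ndS (p := 17063) (l := 0) rfl N17063 D54536
theorem N33920 : nd 33920 = n54537 := ndS (p := 17063) (l := 4) rfl N17063 D54537
theorem N33921 : nd 33921 = n54538 := ndS (p := 17063) (l := 6) rfl N17063 D54538
theorem N33922 : nd 33922 = n54544 := ndS (p := 17065) (l := 6) rfl N17065 D54544
theorem N33923 : nd 33923 = n54545 := ndS (p := 17066) (l := 1) rfl N17066 D54545
theorem N33924 : nd 33924 = n54546 := ndS (p := 17066) (l := 6) rfl N17066 D54546
theorem N33925 : nd 33925 = n54550 := ndS (p := 17068) (l := 6) rfl N17068 D54550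
theorem N33926 : nd 33926 = n54551 := ndS (p := 17069) (l := 3) rfl N17069 D54551
theorem N33927 : nd 33927 = n54552 := ndS (p := 17069) (l := 5) rfl N17069 D54552
theorem N33928 : nd 33928 = n54553 := ndS (p := 17069) (l := 6) rfl N17069 D54553
theorem N33929 : nd 33929 = n54557 := ndS (p := 17071) (l := 3) rfl N17071 D54557
theorem N33930 : nd 33930 = n54559 := ndS (p := 17072) (l := 0) rfl N17072 D54559
theorem N33931 : nd 33931 = n54560 := ndS (p := 17072) (l := 1) rfl N17072 D54560
theorem N33932 : nd 33932 = n54561 := ndS (p := 17072) (l := 5) rfl N17072 D54561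
theorem N33933 : nd 33933 = n54562 := ndS (p := 17072) (l := 7) rfl N17072 D54562
theorem N33934 : nd 33934 = n54563 := ndS (p := 17073) (l := 5) rfl N17073 D54563
theorem N33935 : nd 33935 = n54564 := ndS (p := 17074) (l := 0) rfl N17074 D54564
theorem N33936 : nd 33936 = n54565 := ndS (p := 17074) (l := 4) rfl N17074 D54565
theorem N33937 : nd 33937 = n54566 := ndS (p := 17074) (l := 7) rfl N17074 D54566
theorem N33938 : nd 33938 = n54567 := ndS (p := 17076) (l := 6) rfl N17076 D54567
theorem N33939 : nd 33939 = n54568 := ndS (p := 17077) (l := 4) rfl N17077 D54568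
theorem N33940 : nd 33940 = n54569 := ndS (p := 17077) (l := 6) rfl N17077 D54569
theorem N33941 : nd 33941 = n54570 := ndS (p := 17078) (l := 0) rfl N17078 D54570
theorem N33942 : nd 33942 = n54571 := ndS (p := 17078) (l := 1) rfl N17078 D54571
theorem N33943 : nd 33943 = n54572 := ndS (p := 17078) (l := 5) rfl N17078 D54572
theorem N33944 : nd 33944 = n54576 := ndS (p := 17079) (l := 5) rfl N17079 D54576
theorem N33945 : nd 33945 = n54580 := ndS (p := 17080) (l := 5) rfl N17080 D54580
theorem N33946 : nd 33946 = n54581 := ndS (p := 17080) (l := 6) rfl N17080 D54581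
theorem N33947 : nd 33947 = n54582 := ndS (p := 17081) (l := 0) rfl N17081 D54582
theorem N33948 : nd 33948 = n54583 := ndS (p := 17081) (l := 1) rfl N17081 D54583
theorem N33949 : nd 33949 = n54584 := ndS (p := 17081) (l := 4) rfl N17081 D54584
theorem N33950 : nd 33950 = n54585 := ndS (p := 17081) (l := 7) rfl N17081 D54585
theorem N33951 : nd 33951 = n54586 := ndS (p := 17083) (l := 5) rfl N17083 D54586
theorem N33952 : nd 33952 = n54588 := ndS (p := 17084) (l := 6) rfl N17084 D54588
theorem N33953 : nd 33953 = n54589 := ndS (p := 17085) (l := 5) rfl N17085 D54589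
theorem N33954 : nd 33954 = n54590 := ndS (p := 17086) (l := 4) rfl N17086 D54590
theorem N33955 : nd 33955 = n54591 := ndS (p := 17086) (l := 6) rfl N17086 D54591
theorem N33956 : nd 33956 = n54592 := ndS (p := 17087) (l := 4) rfl N17087 D54592
theorem N33957 : nd 33957 = n54593 := ndS (p := 17087) (l := 6) rfl N17087 D54593
theorem N33958 : nd 33958 = n54594 := ndS (p := 17088) (l := 4) rfl N17088 D54594
theorem N33959 : nd 33959 = n54595 := ndS (p := 17088) (l := 6) rfl N17088 D54595
theorem N33960 : nd 33960 = n54596 := ndS (p := 17089) (l := 0) rfl N17089 D54596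
theorem N33961 : nd 33961 = n54597 := ndS (p := 17089) (l := 1) rfl N17089 D54597
theorem N33962 : nd 33962 = n54598 := ndS (p := 17089) (l := 3) rfl N17089 D54598
theorem N33963 : nd 33963 = n54599 := ndS (p := 17089) (l := 5) rfl N17089 D54599
theorem N33964 : nd 33964 = n54600 := ndS (p := 17089) (l := 7) rfl N17089 D54600
theorem N33965 : nd 33965 = n54601 := ndS (p := 17090) (l := 6) rfl N17090 D54601
theorem N33966 : nd 33966 = n54610 := ndS (p := 17092) (l := 1) rfl N17092 D54610
theorem N33967 : nd 33967 = n54612 := ndS (p := 17092) (l := 4) rfl N17092 D54612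
theorem N33968 : nd 33968 = n54614 := ndS (p := 17092) (l := 6) rfl N17092 D54614
theorem N33969 : nd 33969 = n54624 := ndS (p := 17095) (l := 6) rfl N17095 D54624
theorem N33970 : nd 33970 = n54625 := ndS (p := 17096) (l := 0) rfl N17096 D54625
theorem N33971 : nd 33971 = n54626 := ndS (p := 17096) (l := 1) rfl N17096 D54626
theorem N33972 : nd 33972 = n54627 := ndS (p := 17096) (l := 2) rfl N17096 D54627
theorem N33973 : nd 33973 = n54630 := ndS (p := 17098) (l := 0) rfl N17098 D54630
theorem N33974 : nd 33974 = n54631 := ndS (p := 17098) (l := 4) rfl N17098 D54631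
theorem N33975 : nd 33975 = n54632 := ndS (p := 17098) (l := 6) rfl N17098 D54632
theorem N33976 : nd 33976 = n54633 := ndS (p := 17099) (l := 0) rfl N17099 D54633
theorem N33977 : nd 33977 = n54634 := ndS (p := 17099) (l := 1) rfl N17099 D54634
theorem N33978 : nd 33978 = n54635 := ndS (p := 17099) (l := 6) rfl N17099 D54635
theorem N33979 : nd 33979 = n54641 := ndS (p := 17104) (l := 6) rfl N17104 D54641
theorem N33980 : nd 33980 = n54642 := ndS (p := 17105) (l := 5) rfl N17105 D54642
theorem N33981 : nd 33981 = n54643 := ndS (p := 17106) (l := 3) rfl N17106 D54643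
theorem N33982 : nd 33982 = n54644 := ndS (p := 17106) (l := 6) rfl N17106 D54644
theorem N33983 : nd 33983 = n54649 := ndS (p := 17108) (l := 5) rfl N17108 D54649
theorem N33984 : nd 33984 = n54650 := ndS (p := 17109) (l := 1) rfl N17109 D54650
theorem N33985 : nd 33985 = n54651 := ndS (p := 17109) (l := 4) rfl N17109 D54651
theorem N33986 : nd 33986 = n54652 := ndS (p := 17110) (l := 4) rfl N17110 D54652
theorem N33987 : nd 33987 = n54653 := ndS (p := 17110) (l := 6) rfl N17110 D54653
theorem N33988 : nd 33988 = n54654 := ndS (p := 17111) (l := 5) rfl N17111 D54654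
theorem N33989 : nd 33989 = n54655 := ndS (p := 17111) (l := 7) rfl N17111 D54655
theorem N33990 : nd 33990 = n54657 := ndS (p := 17112) (l := 5) rfl N17112 D54657
theorem N33991 : nd 33991 = n54658 := ndS (p := 17112) (l := 6) rfl N17112 D54658
theorem N33992 : nd 33992 = n54660 := ndS (p := 17113) (l := 1) rfl N17113 D54660
theorem N33993 : nd 33993 = n54661 := ndS (p := 17113) (l := 5) rfl N17113 D54661
theorem N33994 : nd 33994 = n54663 := ndS (p := 17114) (l := 4) rfl N17114 D54663
theorem N33995 : nd 33995 = n54664 := ndS (p := 17114) (l := 5) rfl N17114 D54664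
theorem N33996 : nd 33996 = n54665 := ndS (p := 17115) (l := 0) rfl N17115 D54665
theorem N33997 : nd 33997 = n54666 := ndS (p := 17115) (l := 4) rfl N17115 D54666
theorem N33998 : nd 33998 = n54667 := ndS (p := 17115) (l := 7) rfl N17115 D54667
theorem N33999 : nd 33999 = n54668 := ndS (p := 17117) (l := 4) rfl N17117 D54668
theorem N34000 : nd 34000 = n54669 := ndS (p := 17117) (l := 6) rfl N17117 D54669
theorem N34001 : nd 34001 = n54670 := ndS (p := 17119) (l := 4) rfl N17119 D54670
theorem N34002 : nd 34002 = n54671 := ndS (p := 17119) (l := 6) rfl N17119 D54671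
theorem N34003 : nd 34003 = n54672 := ndS (p := 17120) (l := 6) rfl N17120 D54672
theorem N34004 : nd 34004 = n54673 := ndS (p := 17121) (l := 0) rfl N17121 D54673
theorem N34005 : nd 34005 = n54674 := ndS (p := 17121) (l := 1) rfl N17121 D54674
theorem N34006 : nd 34006 = n54675 := ndS (p := 17121) (l := 5) rfl N17121 D54675
theorem N34007 : nd 34007 = n54676 := ndS (p := 17121) (l := 7) rfl N17121 D54676
theorem N34008 : nd 34008 = n54677 := ndS (p := 17122) (l := 5) rfl N17122 D54677
theorem N34009 : nd 34009 = n54678 := ndS (p := 17123) (l := 5) rfl N17123 D54678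
theorem N34010 : nd 34010 = n54679 := ndS (p := 17124) (l := 0) rfl N17124 D54679
theorem N34011 : nd 34011 = n54680 := ndS (p := 17124) (l := 1) rfl N17124 D54680
theorem N34012 : nd 34012 = n54681 := ndS (p := 17124) (l := 4) rfl N17124 D54681
theorem N34013 : nd 34013 = n54682 := ndS (p := 17124) (l := 7) rfl N17124 D54682
theorem N34014 : nd 34014 = n54683 := ndS (p := 17126) (l := 3) rfl N17126 D54683
theorem N34015 : nd 34015 = n54684 := ndS (p := 17126) (l := 6) rfl N17126 D54684
theorem N34016 : nd 34016 = n54685 := ndS (p := 17127) (l := 6) rfl N17127 D54685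
theorem N34017 : nd 34017 = n54686 := ndS (p := 17128) (l := 0) rfl N17128 D54686
theorem N34018 : nd 34018 = n54687 := ndS (p := 17128) (l := 6) rfl N17128 D54687
theorem N34019 : nd 34019 = n54690 := ndS (p := 17129) (l := 5) rfl N17129 D54690
theorem N34020 : nd 34020 = n54693 := ndS (p := 17130) (l := 3) rfl N17130 D54693
theorem N34021 : nd 34021 = n54694 := ndS (p := 17130) (l := 4) rfl N17130 D54694
theorem N34022 : nd 34022 = n54696 := ndS (p := 17130) (l := 6) rfl N17130 D54696
theorem N34023 : nd 34023 = n54698 := ndS (p := 17131) (l := 3) rfl N17131 D54698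
theorem N34024 : nd 34024 = n54701 := ndS (p := 17131) (l := 6) rfl N17131 D54701
theorem N34025 : nd 34025 = n54702 := ndS (p := 17132) (l := 0) rfl N17132 D54702
theorem N34026 : nd 34026 = n54703 := ndS (p := 17132) (l := 1) rfl N17132 D54703
theorem N34027 : nd 34027 = n54704 := ndS (p := 17132) (l := 4) rfl N17132 D54704
theorem N34028 : nd 34028 = n54706 := ndS (p := 17133) (l := 5) rfl N17133 D54706
theorem N34029 : nd 34029 = n54707 := ndS (p := 17134) (l := 0) rfl N17134 D54707
theorem N34030 : nd 34030 = n54708 := ndS (p := 17134) (l := 4) rfl N17134 D54708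
theorem N34031 : nd 34031 = n54710 := ndS (p := 17135) (l := 5) rfl N17135 D54710
theorem N34032 : nd 34032 = n54711 := ndS (p := 17136) (l := 4) rfl N17136 D54711
theorem N34033 : nd 34033 = n54712 := ndS (p := 17136) (l := 6) rfl N17136 D54712
theorem N34034 : nd 34034 = n54713 := ndS (p := 17137) (l := 3) rfl N17137 D54713
theorem N34035 : nd 34035 = n54714 := ndS (p := 17137) (l := 4) rfl N17137 D54714
theorem N34036 : nd 34036 = n54715 := ndS (p := 17137) (l := 6) rfl N17137 D54715
theorem N34037 : nd 34037 = n54716 := ndS (p := 17138) (l := 4) rfl N17138 D54716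
theorem N34038 : nd 34038 = n54718 := ndS (p := 17139) (l := 0) rfl N17139 D54718
theorem N34039 : nd 34039 = n54719 := ndS (p := 17139) (l := 1) rfl N17139 D54719
theorem N34040 : nd 34040 = n54721 := ndS (p := 17139) (l := 5) rfl N17139 D54721
theorem N34041 : nd 34041 = n54722 := ndS (p := 17139) (l := 7) rfl N17139 D54722
theorem N34042 : nd 34042 = n54723 := ndS (p := 17140) (l := 6) rfl N17140 D54723
theorem N34043 : nd 34043 = n54724 := ndS (p := 17141) (l := 0) rfl N17141 D54724
theorem N34044 : nd 34044 = n54726 := ndS (p := 17141) (l := 2) rfl N17141 D54726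
theorem N34045 : nd 34045 = n54727 := ndS (p := 17141) (l := 4) rfl N17141 D54727
theorem N34046 : nd 34046 = n54729 := ndS (p := 17141) (l := 6) rfl N17141 D54729
theorem N34047 : nd 34047 = n54732 := ndS (p := 17142) (l := 1) rfl N17142 D54732
theorem N34048 : nd 34048 = n54736 := ndS (p := 17143) (l := 4) rfl N17143 D54736
theorem N34049 : nd 34049 = n54738 := ndS (p := 17143) (l := 6) rfl N17143 D54738
theorem N34050 : nd 34050 = n54740 := ndS (p := 17145) (l := 3) rfl N17145 D54740
theorem N34051 : nd 34051 = n54745 := ndS (p := 17146) (l := 6) rfl N17146 D54745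
theorem N34052 : nd 34052 = n54746 := ndS (p := 17147) (l := 2) rfl N17147 D54746
theorem N34053 : nd 34053 = n54747 := ndS (p := 17147) (l := 4) rfl N17147 D54747
theorem N34054 : nd 34054 = n54761 := ndS (p := 17148) (l := 0) rfl N17148 D54761
theorem N34055 : nd 34055 = n54762 := ndS (p := 17148) (l := 1) rfl N17148 D54762
theorem N34056 : nd 34056 = n54763 := ndS (p := 17149) (l := 4) rfl N17149 D54763
theorem N34057 : nd 34057 = n54764 := ndS (p := 17150) (l := 6) rfl N17150 D54764
theorem N34058 : nd 34058 = n54765 := ndS (p := 17151) (l := 0) rfl N17151 D54765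
theorem N34059 : nd 34059 = n54766 := ndS (p := 17151) (l := 5) rfl N17151 D54766
theorem N34060 : nd 34060 = n54767 := ndS (p := 17151) (l := 6) rfl N17151 D54767
theorem N34061 : nd 34061 = n54768 := ndS (p := 17153) (l := 6) rfl N17153 D54768
theorem N34062 : nd 34062 = n54769 := ndS (p := 17154) (l := 6) rfl N17154 D54769
theorem N34063 : nd 34063 = n54770 := ndS (p := 17155) (l := 5) rfl N17155 D54770
theorem N34064 : nd 34064 = n54771 := ndS (p := 17156) (l := 4) rfl N17156 D54771
theorem N34065 : nd 34065 = n54772 := ndS (p := 17156) (l := 6) rfl N17156 D54772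
theorem N34066 : nd 34066 = n54773 := ndS (p := 17157) (l := 5) rfl N17157 D54773
theorem N34067 : nd 34067 = n54774 := ndS (p := 17158) (l := 6) rfl N17158 D54774
theorem N34068 : nd 34068 = n54779 := ndS (p := 17160) (l := 7) rfl N17160 D54779
theorem N34069 : nd 34069 = n54780 := ndS (p := 17161) (l := 6) rfl N17161 D54780
theorem N34070 : nd 34070 = n54782 := ndS (p := 17163) (l := 4) rfl N17163 D54782
theorem N34071 : nd 34071 = n54783 := ndS (p := 17163) (l := 6) rfl N17163 D54783
theorem N34072 : nd 34072 = n54784 := ndS (p := 17164) (l := 5) rfl N17164 D54784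
theorem N34073 : nd 34073 = n54785 := ndS (p := 17165) (l := 4) rfl N17165 D54785
theorem N34074 : nd 34074 = n54786 := ndS (p := 17165) (l := 6) rfl N17165 D54786
theorem N34075 : nd 34075 = n54787 := ndS (p := 17166) (l := 5) rfl N17166 D54787
theorem N34076 : nd 34076 = n54788 := ndS (p := 17167) (l := 1) rfl N17167 D54788
theorem N34077 : nd 34077 = n54789 := ndS (p := 17167) (l := 4) rfl N17167 D54789
theorem N34078 : nd 34078 = n54790 := ndS (p := 17167) (l := 6) rfl N17167 D54790
theorem N34079 : nd 34079 = n54791 := ndS (p := 17167) (l := 7) rfl N17167 D54791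
theorem N34080 : nd 34080 = n54792 := ndS (p := 17168) (l := 5) rfl N17168 D54792
theorem N34081 : nd 34081 = n54793 := ndS (p := 17170) (l := 4) rfl N17170 D54793
theorem N34082 : nd 34082 = n54794 := ndS (p := 17170) (l := 6) rfl N17170 D54794
theorem N34083 : nd 34083 = n54795 := ndS (p := 17171) (l := 4) rfl N17171 D54795
theorem N34084 : nd 34084 = n54796 := ndS (p := 17171) (l := 6) rfl N17171 D54796
theorem N34085 : nd 34085 = n54799 := ndS (p := 17172) (l := 7) rfl N17172 D54799
theorem N34086 : nd 34086 = n54802 := ndS (p := 17173) (l := 5) rfl N17173 D54802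
theorem N34087 : nd 34087 = n54803 := ndS (p := 17173) (l := 7) rfl N17173 D54803
theorem N34088 : nd 34088 = n54804 := ndS (p := 17174) (l := 6) rfl N17174 D54804
theorem N34089 : nd 34089 = n54805 := ndS (p := 17175) (l := 5) rfl N17175 D54805
theorem N34090 : nd 34090 = n54806 := ndS (p := 17176) (l := 5) rfl N17176 D54806
theorem N34091 : nd 34091 = n54807 := ndS (p := 17177) (l := 0) rfl N17177 D54807
theorem N34092 : nd 34092 = n54808 := ndS (p := 17177) (l := 4) rfl N17177 D54808
theorem N34093 : nd 34093 = n54809 := ndS (p := 17177) (l := 7) rfl N17177 D54809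
theorem N34094 : nd 34094 = n54810 := ndS (p := 17179) (l := 5) rfl N17179 D54810
theorem N34095 : nd 34095 = n54811 := ndS (p := 17180) (l := 3) rfl N17180 D54811
theorem N34096 : nd 34096 = n54812 := ndS (p := 17180) (l := 6) rfl N17180 D54812
theorem N34097 : nd 34097 = n54813 := ndS (p := 17181) (l := 0) rfl N17181 D54813
theorem N34098 : nd 34098 = n54814 := ndS (p := 17181) (l := 1) rfl N17181 D54814
theorem N34099 : nd 34099 = n54815 := ndS (p := 17181) (l := 7) rfl N17181 D54815
theorem N34100 : nd 34100 = n54816 := ndS (p := 17182) (l := 6) rfl N17182 D54816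
theorem N34101 : nd 34101 = n54817 := ndS (p := 17183) (l := 6) rfl N17183 D54817
theorem N34102 : nd 34102 = n54818 := ndS (p := 17184) (l := 6) rfl N17184 D54818
theorem N34103 : nd 34103 = n54819 := ndS (p := 17185) (l := 0) rfl N17185 D54819
theorem N34104 : nd 34104 = n54820 := ndS (p := 17185) (l := 1) rfl N17185 D54820
theorem N34105 : nd 34105 = n54821 := ndS (p := 17185) (l := 6) rfl N17185 D54821
theorem N34106 : nd 34106 = n54822 := ndS (p := 17186) (l := 0) rfl N17186 D54822
theorem N34107 : nd 34107 = n54823 := ndS (p := 17186) (l := 1) rfl N17186 D54823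
theorem N34108 : nd 34108 = n54824 := ndS (p := 17186) (l := 5) rfl N17186 D54824
theorem N34109 : nd 34109 = n54825 := ndS (p := 17186) (l := 7) rfl N17186 D54825
theorem N34110 : nd 34110 = n54826 := ndS (p := 17187) (l := 6) rfl N17187 D54826
theorem N34111 : nd 34111 = n54827 := ndS (p := 17188) (l := 4) rfl N17188 D54827
theorem N34112 : nd 34112 = n54836 := ndS (p := 17191) (l := 5) rfl N17191 D54836
theorem N34113 : nd 34113 = n54837 := ndS (p := 17192) (l := 4) rfl N17192 D54837
theorem N34114 : nd 34114 = n54838 := ndS (p := 17192) (l := 6) rfl N17192 D54838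
theorem N34115 : nd 34115 = n54839 := ndS (p := 17193) (l := 4) rfl N17193 D54839
theorem N34116 : nd 34116 = n54840 := ndS (p := 17193) (l := 6) rfl N17193 D54840
theorem N34117 : nd 34117 = n54842 := ndS (p := 17194) (l := 1) rfl N17194 D54842
theorem N34118 : nd 34118 = n54844 := ndS (p := 17194) (l := 5) rfl N17194 D54844
theorem N34119 : nd 34119 = n54845 := ndS (p := 17194) (l := 7) rfl N17194 D54845
theorem N34120 : nd 34120 = n54846 := ndS (p := 17195) (l := 6) rfl N17195 D54846
theorem N34121 : nd 34121 = n54847 := ndS (p := 17196) (l := 4) rfl N17196 D54847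
theorem N34122 : nd 34122 = n54848 := ndS (p := 17197) (l := 3) rfl N17197 D54848
theorem N34123 : nd 34123 = n54849 := ndS (p := 17197) (l := 6) rfl N17197 D54849
theorem N34124 : nd 34124 = n54850 := ndS (p := 17198) (l := 0) rfl N17198 D54850
theorem N34125 : nd 34125 = n54851 := ndS (p := 17198) (l := 1) rfl N17198 D54851
theorem N34126 : nd 34126 = n54852 := ndS (p := 17198) (l := 7) rfl N17198 D54852
theorem N34127 : nd 34127 = n54853 := ndS (p := 17199) (l := 6) rfl N17199 D54853
theorem N34128 : nd 34128 = n54854 := ndS (p := 17200) (l := 6) rfl N17200 D54854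
theorem N34129 : nd 34129 = n54855 := ndS (p := 17201) (l := 0) rfl N17201 D54855
theorem N34130 : nd 34130 = n54856 := ndS (p := 17201) (l := 1) rfl N17201 D54856
theorem N34131 : nd 34131 = n54857 := ndS (p := 17201) (l := 5) rfl N17201 D54857
theorem N34132 : nd 34132 = n54858 := ndS (p := 17201) (l := 7) rfl N17201 D54858
theorem N34133 : nd 34133 = n54859 := ndS (p := 17202) (l := 5) rfl N17202 D54859
theorem N34134 : nd 34134 = n54860 := ndS (p := 17203) (l := 0) rfl N17203 D54860
theorem N34135 : nd 34135 = n54861 := ndS (p := 17203) (l := 1) rfl N17203 D54861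
theorem N34136 : nd 34136 = n54862 := ndS (p := 17203) (l := 4) rfl N17203 D54862
theorem N34137 : nd 34137 = n54863 := ndS (p := 17204) (l := 5) rfl N17204 D54863
theorem N34138 : nd 34138 = n54864 := ndS (p := 17204) (l := 6) rfl N17204 D54864
theorem N34139 : nd 34139 = n54865 := ndS (p := 17205) (l := 6) rfl N17205 D54865
theorem N34140 : nd 34140 = n54866 := ndS (p := 17206) (l := 0) rfl N17206 D54866
theorem N34141 : nd 34141 = n54867 := ndS (p := 17206) (l := 1) rfl N17206 D54867
theorem N34142 : nd 34142 = n54868 := ndS (p := 17206) (l := 5) rfl N17206 D54868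
theorem N34143 : nd 34143 = n54869 := ndS (p := 17206) (l := 7) rfl N17206 D54869
theorem N34144 : nd 34144 = n54877 := ndS (p := 17207) (l := 4) rfl N17207 D54877
theorem N34145 : nd 34145 = n54878 := ndS (p := 17207) (l := 5) rfl N17207 D54878
theorem N34146 : nd 34146 = n54879 := ndS (p := 17207) (l := 6) rfl N17207 D54879
theorem N34147 : nd 34147 = n54881 := ndS (p := 17208) (l := 1) rfl N17208 D54881
theorem N34148 : nd 34148 = n54882 := ndS (p := 17208) (l := 4) rfl N17208 D54882
theorem N34149 : nd 34149 = n54883 := ndS (p := 17208) (l := 7) rfl N17208 D54883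
theorem N34150 : nd 34150 = n54884 := ndS (p := 17210) (l := 4) rfl N17210 D54884
theorem N34151 : nd 34151 = n54885 := ndS (p := 17210) (l := 6) rfl N17210 D54885
theorem N34152 : nd 34152 = n54886 := ndS (p := 17211) (l := 4) rfl N17211 D54886
theorem N34153 : nd 34153 = n54888 := ndS (p := 17212) (l := 0) rfl N17212 D54888
theorem N34154 : nd 34154 = n54889 := ndS (p := 17212) (l := 1) rfl N17212 D54889
theorem N34155 : nd 34155 = n54892 := ndS (p := 17212) (l := 7) rfl N17212 D54892
theorem N34156 : nd 34156 = n54893 := ndS (p := 17213) (l := 6) rfl N17213 D54893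
theorem N34157 : nd 34157 = n54894 := ndS (p := 17214) (l := 6) rfl N17214 D54894
theorem N34158 : nd 34158 = n54895 := ndS (p := 17215) (l := 6) rfl N17215 D54895
theorem N34159 : nd 34159 = n54896 := ndS (p := 17216) (l := 0) rfl N17216 D54896
theorem N34160 : nd 34160 = n54897 := ndS (p := 17216) (l := 1) rfl N17216 D54897
theorem N34161 : nd 34161 = n54898 := ndS (p := 17216) (l := 5) rfl N17216 D54898
theorem N34162 : nd 34162 = n54899 := ndS (p := 17216) (l := 7) rfl N17216 D54899
theorem N34163 : nd 34163 = n54901 := ndS (p := 17217) (l := 3) rfl N17217 D54901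
theorem N34164 : nd 34164 = n54902 := ndS (p := 17217) (l := 4) rfl N17217 D54902
theorem N34165 : nd 34165 = n54903 := ndS (p := 17217) (l := 5) rfl N17217 D54903
theorem N34166 : nd 34166 = n54904 := ndS (p := 17217) (l := 6) rfl N17217 D54904
theorem N34167 : nd 34167 = n54906 := ndS (p := 17218) (l := 3) rfl N17218 D54906
theorem N34168 : nd 34168 = n54907 := ndS (p := 17218) (l := 4) rfl N17218 D54907
theorem N34169 : nd 34169 = n54908 := ndS (p := 17218) (l := 5) rfl N17218 D54908
theorem N34170 : nd 34170 = n54909 := ndS (p := 17218) (l := 6) rfl N17218 D54909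
theorem N34171 : nd 34171 = n54910 := ndS (p := 17220) (l := 6) rfl N17220 D54910
theorem N34172 : nd 34172 = n54911 := ndS (p := 17221) (l := 0) rfl N17221 D54911
theorem N34173 : nd 34173 = n54912 := ndS (p := 17221) (l := 1) rfl N17221 D54912
theorem N34174 : nd 34174 = n54913 := ndS (p := 17221) (l := 5) rfl N17221 D54913
theorem N34175 : nd 34175 = n54914 := ndS (p := 17221) (l := 7) rfl N17221 D54914
theorem N34176 : nd 34176 = n54915 := ndS (p := 17222) (l := 3) rfl N17222 D54915
theorem N34177 : nd 34177 = n54916 := ndS (p := 17222) (l := 6) rfl N17222 D54916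
theorem N34178 : nd 34178 = n54917 := ndS (p := 17223) (l := 6) rfl N17223 D54917
theorem N34179 : nd 34179 = n54918 := ndS (p := 17224) (l := 0) rfl N17224 D54918
theorem N34180 : nd 34180 = n54919 := ndS (p := 17224) (l := 1) rfl N17224 D54919
theorem N34181 : nd 34181 = n54920 := ndS (p := 17224) (l := 5) rfl N17224 D54920
theorem N34182 : nd 34182 = n54921 := ndS (p := 17224) (l := 7) rfl N17224 D54921
theorem N34183 : nd 34183 = n54924 := ndS (p := 17225) (l := 4) rfl N17225 D54924
theorem N34184 : nd 34184 = n54925 := ndS (p := 17225) (l := 5) rfl N17225 D54925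
theorem N34185 : nd 34185 = n54929 := ndS (p := 17226) (l := 4) rfl N17226 D54929
theorem N34186 : nd 34186 = n54930 := ndS (p := 17226) (l := 5) rfl N17226 D54930
theorem N34187 : nd 34187 = n54932 := ndS (p := 17227) (l := 0) rfl N17227 D54932
theorem N34188 : nd 34188 = n54934 := ndS (p := 17227) (l := 4) rfl N17227 D54934
theorem N34189 : nd 34189 = n54935 := ndS (p := 17227) (l := 7) rfl N17227 D54935
theorem N34190 : nd 34190 = n54936 := ndS (p := 17229) (l := 6) rfl N17229 D54936
theorem N34191 : nd 34191 = n54937 := ndS (p := 17230) (l := 6) rfl N17230 D54937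
theorem N34192 : nd 34192 = n54938 := ndS (p := 17231) (l := 0) rfl N17231 D54938
theorem N34193 : nd 34193 = n54939 := ndS (p := 17231) (l := 1) rfl N17231 D54939
theorem N34194 : nd 34194 = n54940 := ndS (p := 17231) (l := 5) rfl N17231 D54940
theorem N34195 : nd 34195 = n54941 := ndS (p := 17231) (l := 7) rfl N17231 D54941
theorem N34196 : nd 34196 = n54942 := ndS (p := 17232) (l := 4) rfl N17232 D54942
theorem N34197 : nd 34197 = n54943 := ndS (p := 17232) (l := 5) rfl N17232 D54943
theorem N34198 : nd 34198 = n54945 := ndS (p := 17233) (l := 4) rfl N17233 D54945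
theorem N34199 : nd 34199 = n54946 := ndS (p := 17233) (l := 5) rfl N17233 D54946
theorem N34200 : nd 34200 = n54947 := ndS (p := 17233) (l := 6) rfl N17233 D54947
theorem N34201 : nd 34201 = n54948 := ndS (p := 17235) (l := 0) rfl N17235 D54948
theorem N34202 : nd 34202 = n54949 := ndS (p := 17235) (l := 1) rfl N17235 D54949
theorem N34203 : nd 34203 = n54950 := ndS (p := 17235) (l := 2) rfl N17235 D54950
theorem N34204 : nd 34204 = n54952 := ndS (p := 17235) (l := 5) rfl N17235 D54952
theorem N34205 : nd 34205 = n54954 := ndS (p := 17236) (l := 6) rfl N17236 D54954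
theorem N34206 : nd 34206 = n54955 := ndS (p := 17237) (l := 6) rfl N17237 D54955
theorem N34207 : nd 34207 = n54958 := ndS (p := 17238) (l := 5) rfl N17238 D54958
theorem N34208 : nd 34208 = n54959 := ndS (p := 17238) (l := 7) rfl N17238 D54959
theorem N34209 : nd 34209 = n54960 := ndS (p := 17239) (l := 0) rfl N17239 D54960
theorem N34210 : nd 34210 = n54961 := ndS (p := 17239) (l := 1) rfl N17239 D54961
theorem N34211 : nd 34211 = n54962 := ndS (p := 17239) (l := 4) rfl N17239 D54962
theorem N34212 : nd 34212 = n54963 := ndS (p := 17239) (l := 6) rfl N17239 D54963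
theorem N34213 : nd 34213 = n54964 := ndS (p := 17240) (l := 6) rfl N17240 D54964
theorem N34214 : nd 34214 = n54965 := ndS (p := 17241) (l := 6) rfl N17241 D54965
theorem N34215 : nd 34215 = n54968 := ndS (p := 17242) (l := 5) rfl N17242 D54968
theorem N34216 : nd 34216 = n54969 := ndS (p := 17242) (l := 7) rfl N17242 D54969
theorem N34217 : nd 34217 = n54970 := ndS (p := 17243) (l := 3) rfl N17243 D54970
theorem N34218 : nd 34218 = n54971 := ndS (p := 17243) (l := 6) rfl N17243 D54971
theorem N34219 : nd 34219 = n54973 := ndS (p := 17245) (l := 6) rfl N17245 D54973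
theorem N34220 : nd 34220 = n54974 := ndS (p := 17246) (l := 0) rfl N17246 D54974
theorem N34221 : nd 34221 = n54975 := ndS (p := 17246) (l := 1) rfl N17246 D54975
theorem N34222 : nd 34222 = n54976 := ndS (p := 17246) (l := 5) rfl N17246 D54976
theorem N34223 : nd 34223 = n54977 := ndS (p := 17246) (l := 7) rfl N17246 D54977
theorem N34224 : nd 34224 = n54979 := ndS (p := 17247) (l := 3) rfl N17247 D54979
theorem N34225 : nd 34225 = n54980 := ndS (p := 17247) (l := 4) rfl N17247 D54980
theorem N34226 : nd 34226 = n54981 := ndS (p := 17247) (l := 5) rfl N17247 D54981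
theorem N34227 : nd 34227 = n54982 := ndS (p := 17247) (l := 6) rfl N17247 D54982
theorem N34228 : nd 34228 = n54984 := ndS (p := 17248) (l := 3) rfl N17248 D54984
theorem N34229 : nd 34229 = n54985 := ndS (p := 17248) (l := 4) rfl N17248 D54985
theorem N34230 : nd 34230 = n54986 := ndS (p := 17248) (l := 5) rfl N17248 D54986
theorem N34231 : nd 34231 = n54987 := ndS (p := 17248) (l := 6) rfl N17248 D54987
theorem N34232 : nd 34232 = n54988 := ndS (p := 17249) (l := 0) rfl N17249 D54988
theorem N34233 : nd 34233 = n54989 := ndS (p := 17249) (l := 1) rfl N17249 D54989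
theorem N34234 : nd 34234 = n54990 := ndS (p := 17249) (l := 4) rfl N17249 D54990
theorem N34235 : nd 34235 = n54991 := ndS (p := 17249) (l := 7) rfl N17249 D54991
theorem N34236 : nd 34236 = n54998 := ndS (p := 17251) (l := 0) rfl N17251 D54998
theorem N34237 : nd 34237 = n55000 := ndS (p := 17251) (l := 2) rfl N17251 D55000
theorem N34238 : nd 34238 = n55001 := ndS (p := 17251) (l := 4) rfl N17251 D55001
theorem N34239 : nd 34239 = n55002 := ndS (p := 17251) (l := 5) rfl N17251 D55002
theorem N34240 : nd 34240 = n55003 := ndS (p := 17251) (l := 6) rfl N17251 D55003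
theorem N34241 : nd 34241 = n55005 := ndS (p := 17252) (l := 0) rfl N17252 D55005
theorem N34242 : nd 34242 = n55007 := ndS (p := 17252) (l := 3) rfl N17252 D55007
theorem N34243 : nd 34243 = n55008 := ndS (p := 17252) (l := 5) rfl N17252 D55008
theorem N34244 : nd 34244 = n55009 := ndS (p := 17252) (l := 6) rfl N17252 D55009
theorem N34245 : nd 34245 = n55011 := ndS (p := 17253) (l := 0) rfl N17253 D55011
theorem N34246 : nd 34246 = n55012 := ndS (p := 17253) (l := 1) rfl N17253 D55012
theorem N34247 : nd 34247 = n55013 := ndS (p := 17253) (l := 4) rfl N17253 D55013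
theorem N34248 : nd 34248 = n55014 := ndS (p := 17253) (l := 6) rfl N17253 D55014
theorem N34249 : nd 34249 = n55017 := ndS (p := 17254) (l := 1) rfl N17254 D55017
theorem N34250 : nd 34250 = n55018 := ndS (p := 17254) (l := 5) rfl N17254 D55018
theorem N34251 : nd 34251 = n55019 := ndS (p := 17254) (l := 7) rfl N17254 D55019
theorem N34252 : nd 34252 = n55023 := ndS (p := 17255) (l := 2) rfl N17255 D55023
theorem N34253 : nd 34253 = n55025 := ndS (p := 17255) (l := 5) rfl N17255 D55025
theorem N34254 : nd 34254 = n55026 := ndS (p := 17255) (l := 6) rfl N17255 D55026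
theorem N34255 : nd 34255 = n55027 := ndS (p := 17256) (l := 3) rfl N17256 D55027
theorem N34256 : nd 34256 = n55028 := ndS (p := 17256) (l := 5) rfl N17256 D55028
theorem N34257 : nd 34257 = n55029 := ndS (p := 17256) (l := 6) rfl N17256 D55029
theorem N34258 : nd 34258 = n55030 := ndS (p := 17257) (l := 4) rfl N17257 D55030
theorem N34259 : nd 34259 = n55031 := ndS (p := 17257) (l := 6) rfl N17257 D55031
theorem N34260 : nd 34260 = n55035 := ndS (p := 17258) (l := 7) rfl N17258 D55035
theorem N34261 : nd 34261 = n55036 := ndS (p := 17259) (l := 5) rfl N17259 D55036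
theorem N34262 : nd 34262 = n55037 := ndS (p := 17260) (l := 4) rfl N17260 D55037
theorem N34263 : nd 34263 = n55038 := ndS (p := 17260) (l := 6) rfl N17260 D55038
theorem N34264 : nd 34264 = n55039 := ndS (p := 17261) (l := 4) rfl N17261 D55039
theorem N34265 : nd 34265 = n55040 := ndS (p := 17261) (l := 6) rfl N17261 D55040
theorem N34266 : nd 34266 = n55041 := ndS (p := 17262) (l := 4) rfl N17262 D55041
theorem N34267 : nd 34267 = n55042 := ndS (p := 17263) (l := 0) rfl N17263 D55042
theorem N34268 : nd 34268 = n55043 := ndS (p := 17263) (l := 1) rfl N17263 D55043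
theorem N34269 : nd 34269 = n55044 := ndS (p := 17263) (l := 3) rfl N17263 D55044
theorem N34270 : nd 34270 = n55045 := ndS (p := 17263) (l := 5) rfl N17263 D55045
theorem N34271 : nd 34271 = n55046 := ndS (p := 17264) (l := 3) rfl N17264 D55046
theorem N34272 : nd 34272 = n55047 := ndS (p := 17264) (l := 6) rfl N17264 D55047
theorem N34273 : nd 34273 = n55048 := ndS (p := 17265) (l := 0) rfl N17265 D55048
theorem N34274 : nd 34274 = n55049 := ndS (p := 17265) (l := 1) rfl N17265 D55049
theorem N34275 : nd 34275 = n55050 := ndS (p := 17265) (l := 5) rfl N17265 D55050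
theorem N34276 : nd 34276 = n55051 := ndS (p := 17265) (l := 7) rfl N17265 D55051
theorem N34277 : nd 34277 = n55052 := ndS (p := 17266) (l := 3) rfl N17266 D55052
theorem N34278 : nd 34278 = n55053 := ndS (p := 17266) (l := 6) rfl N17266 D55053
theorem N34279 : nd 34279 = n55054 := ndS (p := 17267) (l := 6) rfl N17267 D55054
theorem N34280 : nd 34280 = n55055 := ndS (p := 17268) (l := 4) rfl N17268 D55055
theorem N34281 : nd 34281 = n55056 := ndS (p := 17268) (l := 6) rfl N17268 D55056
theorem N34282 : nd 34282 = n55057 := ndS (p := 17269) (l := 0) rfl N17269 D55057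
theorem N34283 : nd 34283 = n55058 := ndS (p := 17269) (l := 1) rfl N17269 D55058
theorem N34284 : nd 34284 = n55059 := ndS (p := 17269) (l := 5) rfl N17269 D55059
theorem N34285 : nd 34285 = n55060 := ndS (p := 17269) (l := 7) rfl N17269 D55060
theorem N34286 : nd 34286 = n55067 := ndS (p := 17271) (l := 3) rfl N17271 D55067
theorem N34287 : nd 34287 = n55068 := ndS (p := 17271) (l := 4) rfl N17271 D55068
theorem N34288 : nd 34288 = n55069 := ndS (p := 17271) (l := 5) rfl N17271 D55069
theorem N34289 : nd 34289 = n55070 := ndS (p := 17271) (l := 6) rfl N17271 D55070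
theorem N34290 : nd 34290 = n55071 := ndS (p := 17272) (l := 0) rfl N17272 D55071
theorem N34291 : nd 34291 = n55073 := ndS (p := 17272) (l := 4) rfl N17272 D55073
theorem N34292 : nd 34292 = n55074 := ndS (p := 17272) (l := 7) rfl N17272 D55074
theorem N34293 : nd 34293 = n55079 := ndS (p := 17274) (l := 5) rfl N17274 D55079
theorem N34294 : nd 34294 = n55081 := ndS (p := 17275) (l := 0) rfl N17275 D55081
theorem N34295 : nd 34295 = n55082 := ndS (p := 17275) (l := 1) rfl N17275 D55082
theorem N34296 : nd 34296 = n55090 := ndS (p := 17276) (l := 4) rfl N17276 D55090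
theorem N34297 : nd 34297 = n55091 := ndS (p := 17276) (l := 6) rfl N17276 D55091
theorem N34298 : nd 34298 = n55092 := ndS (p := 17277) (l := 3) rfl N17277 D55092
theorem N34299 : nd 34299 = n55098 := ndS (p := 17278) (l := 6) rfl N17278 D55098
theorem N34300 : nd 34300 = n55099 := ndS (p := 17279) (l := 3) rfl N17279 D55099
theorem N34301 : nd 34301 = n55100 := ndS (p := 17279) (l := 5) rfl N17279 D55100
theorem N34302 : nd 34302 = n55101 := ndS (p := 17279) (l := 6) rfl N17279 D55101
theorem N34303 : nd 34303 = n55102 := ndS (p := 17280) (l := 0) rfl N17280 D55102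
theorem N34304 : nd 34304 = n55103 := ndS (p := 17280) (l := 1) rfl N17280 D55103
theorem N34305 : nd 34305 = n55104 := ndS (p := 17280) (l := 7) rfl N17280 D55104
theorem N34306 : nd 34306 = n55105 := ndS (p := 17281) (l := 3) rfl N17281 D55105
theorem N34307 : nd 34307 = n55107 := ndS (p := 17282) (l := 6) rfl N17282 D55107
theorem N34308 : nd 34308 = n55108 := ndS (p := 17283) (l := 6) rfl N17283 D55108
theorem N34309 : nd 34309 = n55109 := ndS (p := 17284) (l := 0) rfl N17284 D55109
theorem N34310 : nd 34310 = n55110 := ndS (p := 17284) (l := 1) rfl N17284 D55110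
theorem N34311 : nd 34311 = n55114 := ndS (p := 17285) (l := 3) rfl N17285 D55114
theorem N34312 : nd 34312 = n55115 := ndS (p := 17285) (l := 4) rfl N17285 D55115
theorem N34313 : nd 34313 = n55116 := ndS (p := 17285) (l := 5) rfl N17285 D55116
theorem N34314 : nd 34314 = n55117 := ndS (p := 17285) (l := 6) rfl N17285 D55117
theorem N34315 : nd 34315 = n55119 := ndS (p := 17286) (l := 3) rfl N17286 D55119
theorem N34316 : nd 34316 = n55120 := ndS (p := 17286) (l := 4) rfl N17286 D55120
theorem N34317 : nd 34317 = n55121 := ndS (p := 17286) (l := 5) rfl N17286 D55121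
theorem N34318 : nd 34318 = n55123 := ndS (p := 17287) (l := 0) rfl N17287 D55123
theorem N34319 : nd 34319 = n55125 := ndS (p := 17287) (l := 7) rfl N17287 D55125
theorem N34320 : nd 34320 = n55126 := ndS (p := 17289) (l := 0) rfl N17289 D55126
theorem N34321 : nd 34321 = n55127 := ndS (p := 17289) (l := 1) rfl N17289 D55127
theorem N34322 : nd 34322 = n55133 := ndS (p := 17290) (l := 5) rfl N17290 D55133
theorem N34323 : nd 34323 = n55136 := ndS (p := 17291) (l := 6) rfl N17291 D55136
theorem N34324 : nd 34324 = n55137 := ndS (p := 17292) (l := 5) rfl N17292 D55137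
theorem N34325 : nd 34325 = n55138 := ndS (p := 17293) (l := 6) rfl N17293 D55138
theorem N34326 : nd 34326 = n55139 := ndS (p := 17294) (l := 3) rfl N17294 D55139
theorem N34327 : nd 34327 = n55140 := ndS (p := 17294) (l := 6) rfl N17294 D55140
theorem N34328 : nd 34328 = n55141 := ndS (p := 17295) (l := 3) rfl N17295 D55141
theorem N34329 : nd 34329 = n55143 := ndS (p := 17295) (l := 7) rfl N17295 D55143
theorem N34330 : nd 34330 = n55144 := ndS (p := 17296) (l := 6) rfl N17296 D55144
theorem N34331 : nd 34331 = n55147 := ndS (p := 17297) (l := 4) rfl N17297 D55147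
theorem N34332 : nd 34332 = n55155 := ndS (p := 17298) (l := 4) rfl N17298 D55155
theorem N34333 : nd 34333 = n55156 := ndS (p := 17298) (l := 5) rfl N17298 D55156
theorem N34334 : nd 34334 = n55157 := ndS (p := 17298) (l := 6) rfl N17298 D55157
theorem N34335 : nd 34335 = n55158 := ndS (p := 17299) (l := 0) rfl N17299 D55158
theorem N34336 : nd 34336 = n55160 := ndS (p := 17299) (l := 5) rfl N17299 D55160
theorem N34337 : nd 34337 = n55161 := ndS (p := 17299) (l := 6) rfl N17299 D55161
theorem N34338 : nd 34338 = n55162 := ndS (p := 17300) (l := 0) rfl N17300 D55162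
theorem N34339 : nd 34339 = n55163 := ndS (p := 17300) (l := 1) rfl N17300 D55163
theorem N34340 : nd 34340 = n55164 := ndS (p := 17300) (l := 4) rfl N17300 D55164
theorem N34341 : nd 34341 = n55166 := ndS (p := 17301) (l := 0) rfl N17301 D55166
theorem N34342 : nd 34342 = n55167 := ndS (p := 17301) (l := 1) rfl N17301 D55167
theorem N34343 : nd 34343 = n55168 := ndS (p := 17301) (l := 7) rfl N17301 D55168
theorem N34344 : nd 34344 = n55169 := ndS (p := 17302) (l := 3) rfl N17302 D55169
theorem N34345 : nd 34345 = n55170 := ndS (p := 17302) (l := 4) rfl N17302 D55170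
theorem N34346 : nd 34346 = n55173 := ndS (p := 17303) (l := 4) rfl N17303 D55173
theorem N34347 : nd 34347 = n55182 := ndS (p := 17304) (l := 5) rfl N17304 D55182
theorem N34348 : nd 34348 = n55190 := ndS (p := 17306) (l := 4) rfl N17306 D55190
theorem N34349 : nd 34349 = n55194 := ndS (p := 17307) (l := 5) rfl N17307 D55194
theorem N34350 : nd 34350 = n55200 := ndS (p := 17308) (l := 0) rfl N17308 D55200
theorem N34351 : nd 34351 = n55201 := ndS (p := 17308) (l := 1) rfl N17308 D55201
theorem N34352 : nd 34352 = n55202 := ndS (p := 17308) (l := 4) rfl N17308 D55202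
theorem N34353 : nd 34353 = n55203 := ndS (p := 17308) (l := 6) rfl N17308 D55203
theorem N34354 : nd 34354 = n55208 := ndS (p := 17309) (l := 3) rfl N17309 D55208
theorem N34355 : nd 34355 = n55214 := ndS (p := 17311) (l := 4) rfl N17311 D55214
theorem N34356 : nd 34356 = n55215 := ndS (p := 17312) (l := 3) rfl N17312 D55215
theorem N34357 : nd 34357 = n55219 := ndS (p := 17313) (l := 7) rfl N17313 D55219
theorem N34358 : nd 34358 = n55220 := ndS (p := 17314) (l := 5) rfl N17314 D55220
theorem N34359 : nd 34359 = n55221 := ndS (p := 17315) (l := 0) rfl N17315 D55221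
theorem N34360 : nd 34360 = n55222 := ndS (p := 17315) (l := 4) rfl N17315 D55222
theorem N34361 : nd 34361 = n55223 := ndS (p := 17315) (l := 6) rfl N17315 D55223
theorem N34362 : nd 34362 = n55224 := ndS (p := 17316) (l := 3) rfl N17316 D55224
theorem N34363 : nd 34363 = n55225 := ndS (p := 17316) (l := 6) rfl N17316 D55225
theorem N34364 : nd 34364 = n55226 := ndS (p := 17317) (l := 0) rfl N17317 D55226
theorem N34365 : nd 34365 = n55227 := ndS (p := 17317) (l := 1) rfl N17317 D55227
theorem N34366 : nd 34366 = n55228 := ndS (p := 17317) (l := 7) rfl N17317 D55228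
theorem N34367 : nd 34367 = n55229 := ndS (p := 17318) (l := 4) rfl N17318 D55229
theorem N34368 : nd 34368 = n55230 := ndS (p := 17318) (l := 6) rfl N17318 D55230
theorem N34369 : nd 34369 = n55231 := ndS (p := 17319) (l := 3) rfl N17319 D55231
theorem N34370 : nd 34370 = n55232 := ndS (p := 17319) (l := 6) rfl N17319 D55232
theorem N34371 : nd 34371 = n55233 := ndS (p := 17320) (l := 0) rfl N17320 D55233
theorem N34372 : nd 34372 = n55234 := ndS (p := 17320) (l := 1) rfl N17320 D55234
theorem N34373 : nd 34373 = n55235 := ndS (p := 17320) (l := 7) rfl N17320 D55235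
theorem N34374 : nd 34374 = n55236 := ndS (p := 17321) (l := 4) rfl N17321 D55236
theorem N34375 : nd 34375 = n55237 := ndS (p := 17321) (l := 6) rfl N17321 D55237
theorem N34376 : nd 34376 = n55238 := ndS (p := 17322) (l := 3) rfl N17322 D55238
theorem N34377 : nd 34377 = n55239 := ndS (p := 17322) (l := 6) rfl N17322 D55239
theorem N34378 : nd 34378 = n55240 := ndS (p := 17323) (l := 0) rfl N17323 D55240
theorem N34379 : nd 34379 = n55241 := ndS (p := 17323) (l := 1) rfl N17323 D55241
theorem N34380 : nd 34380 = n55242 := ndS (p := 17323) (l := 7) rfl N17323 D55242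
theorem N34381 : nd 34381 = n55243 := ndS (p := 17324) (l := 3) rfl N17324 D55243
theorem N34382 : nd 34382 = n55244 := ndS (p := 17324) (l := 6) rfl N17324 D55244
theorem N34383 : nd 34383 = n55245 := ndS (p := 17325) (l := 3) rfl N17325 D55245
theorem N34384 : nd 34384 = n55246 := ndS (p := 17325) (l := 6) rfl N17325 D55246
theorem N34385 : nd 34385 = n55247 := ndS (p := 17326) (l := 0) rfl N17326 D55247
theorem N34386 : nd 34386 = n55248 := ndS (p := 17326) (l := 1) rfl N17326 D55248
theorem N34387 : nd 34387 = n55249 := ndS (p := 17326) (l := 2) rfl N17326 D55249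
theorem N34388 : nd 34388 = n55250 := ndS (p := 17327) (l := 3) rfl N17327 D55250
theorem N34389 : nd 34389 = n55255 := ndS (p := 17329) (l := 7) rfl N17329 D55255
theorem N34390 : nd 34390 = n55256 := ndS (p := 17330) (l := 3) rfl N17330 D55256
theorem N34391 : nd 34391 = n55257 := ndS (p := 17330) (l := 6) rfl N17330 D55257
theorem N34392 : nd 34392 = n55258 := ndS (p := 17331) (l := 0) rfl N17331 D55258
theorem N34393 : nd 34393 = n55259 := ndS (p := 17331) (l := 1) rfl N17331 D55259
theorem N34394 : nd 34394 = n55260 := ndS (p := 17331) (l := 7) rfl N17331 D55260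
theorem N34395 : nd 34395 = n55261 := ndS (p := 17332) (l := 1) rfl N17332 D55261
theorem N34396 : nd 34396 = n55262 := ndS (p := 17334) (l := 6) rfl N17334 D55262
theorem N34397 : nd 34397 = n55263 := ndS (p := 17335) (l := 0) rfl N17335 D55263
theorem N34398 : nd 34398 = n55264 := ndS (p := 17335) (l := 1) rfl N17335 D55264
theorem N34399 : nd 34399 = n55265 := ndS (p := 17335) (l := 7) rfl N17335 D55265
theorem N34400 : nd 34400 = n55267 := ndS (p := 17336) (l := 3) rfl N17336 D55267
theorem N34401 : nd 34401 = n55269 := ndS (p := 17336) (l := 5) rfl N17336 D55269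
theorem N34402 : nd 34402 = n55270 := ndS (p := 17336) (l := 6) rfl N17336 D55270
theorem N34403 : nd 34403 = n55272 := ndS (p := 17337) (l := 3) rfl N17337 D55272
theorem N34404 : nd 34404 = n55274 := ndS (p := 17337) (l := 5) rfl N17337 D55274
theorem N34405 : nd 34405 = n55275 := ndS (p := 17337) (l := 6) rfl N17337 D55275
theorem N34406 : nd 34406 = n55276 := ndS (p := 17341) (l := 0) rfl N17341 D55276
theorem N34407 : nd 34407 = n55277 := ndS (p := 17341) (l := 3) rfl N17341 D55277
theorem N34408 : nd 34408 = n55278 := ndS (p := 17341) (l := 5) rfl N17341 D55278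
theorem N34409 : nd 34409 = n55279 := ndS (p := 17341) (l := 7) rfl N17341 D55279
theorem N34410 : nd 34410 = n55280 := ndS (p := 17342) (l := 4) rfl N17342 D55280
theorem N34411 : nd 34411 = n55281 := ndS (p := 17342) (l := 6) rfl N17342 D55281
theorem N34412 : nd 34412 = n55282 := ndS (p := 17342) (l := 7) rfl N17342 D55282
theorem N34413 : nd 34413 = n55283 := ndS (p := 17344) (l := 5) rfl N17344 D55283
theorem N34414 : nd 34414 = n55284 := ndS (p := 17345) (l := 4) rfl N17345 D55284
theorem N34415 : nd 34415 = n55285 := ndS (p := 17345) (l := 6) rfl N17345 D55285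
theorem N34416 : nd 34416 = n55286 := ndS (p := 17347) (l := 0) rfl N17347 D55286
theorem N34417 : nd 34417 = n55287 := ndS (p := 17347) (l := 1) rfl N17347 D55287
theorem N34418 : nd 34418 = n55288 := ndS (p := 17347) (l := 3) rfl N17347 D55288
theorem N34419 : nd 34419 = n55289 := ndS (p := 17347) (l := 5) rfl N17347 D55289
theorem N34420 : nd 34420 = n55290 := ndS (p := 17347) (l := 6) rfl N17347 D55290
theorem N34421 : nd 34421 = n55291 := ndS (p := 17348) (l := 0) rfl N17348 D55291
theorem N34422 : nd 34422 = n55292 := ndS (p := 17348) (l := 1) rfl N17348 D55292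
theorem N34423 : nd 34423 = n55293 := ndS (p := 17348) (l := 7) rfl N17348 D55293
theorem N34424 : nd 34424 = n55295 := ndS (p := 17349) (l := 1) rfl N17349 D55295
theorem N34425 : nd 34425 = n55296 := ndS (p := 17349) (l := 2) rfl N17349 D55296
theorem N34426 : nd 34426 = n55298 := ndS (p := 17350) (l := 5) rfl N17350 D55298
theorem N34427 : nd 34427 = n55300 := ndS (p := 17351) (l := 3) rfl N17351 D55300
theorem N34428 : nd 34428 = n55301 := ndS (p := 17351) (l := 6) rfl N17351 D55301
theorem N34429 : nd 34429 = n55302 := ndS (p := 17352) (l := 6) rfl N17352 D55302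
theorem N34430 : nd 34430 = n55303 := ndS (p := 17353) (l := 0) rfl N17353 D55303
theorem N34431 : nd 34431 = n55304 := ndS (p := 17353) (l := 1) rfl N17353 D55304
theorem N34432 : nd 34432 = n55305 := ndS (p := 17355) (l := 4) rfl N17355 D55305
theorem N34433 : nd 34433 = n55306 := ndS (p := 17356) (l := 3) rfl N17356 D55306
theorem N34434 : nd 34434 = n55307 := ndS (p := 17356) (l := 6) rfl N17356 D55307
theorem N34435 : nd 34435 = n55308 := ndS (p := 17357) (l := 6) rfl N17357 D55308
theorem N34436 : nd 34436 = n55309 := ndS (p := 17358) (l := 6) rfl N17358 D55309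
theorem N34437 : nd 34437 = n55310 := ndS (p := 17359) (l := 0) rfl N17359 D55310
theorem N34438 : nd 34438 = n55311 := ndS (p := 17359) (l := 1) rfl N17359 D55311
theorem N34439 : nd 34439 = n55312 := ndS (p := 17359) (l := 5) rfl N17359 D55312
theorem N34440 : nd 34440 = n55313 := ndS (p := 17359) (l := 7) rfl N17359 D55313
theorem N34441 : nd 34441 = n55315 := ndS (p := 17360) (l := 3) rfl N17360 D55315
theorem N34442 : nd 34442 = n55316 := ndS (p := 17360) (l := 4) rfl N17360 D55316
theorem N34443 : nd 34443 = n55317 := ndS (p := 17360) (l := 5) rfl N17360 D55317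
theorem N34444 : nd 34444 = n55321 := ndS (p := 17361) (l := 4) rfl N17361 D55321
theorem N34445 : nd 34445 = n55322 := ndS (p := 17361) (l := 5) rfl N17361 D55322
theorem N34446 : nd 34446 = n55323 := ndS (p := 17361) (l := 6) rfl N17361 D55323
theorem N34447 : nd 34447 = n55327 := ndS (p := 17363) (l := 4) rfl N17363 D55327
theorem N34448 : nd 34448 = n55328 := ndS (p := 17363) (l := 5) rfl N17363 D55328
theorem N34449 : nd 34449 = n55329 := ndS (p := 17363) (l := 6) rfl N17363 D55329
theorem N34450 : nd 34450 = n55335 := ndS (p := 17366) (l := 4) rfl N17366 D55335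
theorem N34451 : nd 34451 = n55336 := ndS (p := 17366) (l := 5) rfl N17366 D55336
theorem N34452 : nd 34452 = n55337 := ndS (p := 17366) (l := 6) rfl N17366 D55337
theorem N34453 : nd 34453 = n55338 := ndS (p := 17367) (l := 4) rfl N17367 D55338
theorem N34454 : nd 34454 = n55339 := ndS (p := 17367) (l := 6) rfl N17367 D55339
theorem N34455 : nd 34455 = n55341 := ndS (p := 17370) (l := 0) rfl N17370 D55341
theorem N34456 : nd 34456 = n55345 := ndS (p := 17371) (l := 5) rfl N17371 D55345
theorem N34457 : nd 34457 = n55346 := ndS (p := 17373) (l := 0) rfl N17373 D55346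
theorem N34458 : nd 34458 = n55347 := ndS (p := 17373) (l := 1) rfl N17373 D55347
theorem N34459 : nd 34459 = n55348 := ndS (p := 17373) (l := 3) rfl N17373 D55348
theorem N34460 : nd 34460 = n55349 := ndS (p := 17373) (l := 5) rfl N17373 D55349
theorem N34461 : nd 34461 = n55352 := ndS (p := 17374) (l := 1) rfl N17374 D55352
theorem N34462 : nd 34462 = n55353 := ndS (p := 17374) (l := 5) rfl N17374 D55353
theorem N34463 : nd 34463 = n55354 := ndS (p := 17374) (l := 7) rfl N17374 D55354
theorem N34464 : nd 34464 = n55355 := ndS (p := 17375) (l := 4) rfl N17375 D55355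
theorem N34465 : nd 34465 = n55356 := ndS (p := 17376) (l := 0) rfl N17376 D55356
theorem N34466 : nd 34466 = n55357 := ndS (p := 17376) (l := 1) rfl N17376 D55357
theorem N34467 : nd 34467 = n55358 := ndS (p := 17376) (l := 3) rfl N17376 D55358
theorem N34468 : nd 34468 = n55359 := ndS (p := 17376) (l := 5) rfl N17376 D55359
theorem N34469 : nd 34469 = n55360 := ndS (p := 17377) (l := 0) rfl N17377 D55360
theorem N34470 : nd 34470 = n55361 := ndS (p := 17377) (l := 1) rfl N17377 D55361
theorem N34471 : nd 34471 = n55362 := ndS (p := 17377) (l := 2) rfl N17377 D55362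
theorem N34472 : nd 34472 = n55363 := ndS (p := 17377) (l := 5) rfl N17377 D55363
theorem N34473 : nd 34473 = n55364 := ndS (p := 17377) (l := 6) rfl N17377 D55364
theorem N34474 : nd 34474 = n55365 := ndS (p := 17378) (l := 6) rfl N17378 D55365
theorem N34475 : nd 34475 = n55366 := ndS (p := 17379) (l := 0) rfl N17379 D55366
theorem N34476 : nd 34476 = n55367 := ndS (p := 17379) (l := 1) rfl N17379 D55367
theorem N34477 : nd 34477 = n55368 := ndS (p := 17379) (l := 5) rfl N17379 D55368
theorem N34478 : nd 34478 = n55369 := ndS (p := 17379) (l := 7) rfl N17379 D55369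
theorem N34479 : nd 34479 = n55372 := ndS (p := 17380) (l := 4) rfl N17380 D55372
theorem N34480 : nd 34480 = n55374 := ndS (p := 17380) (l := 6) rfl N17380 D55374
theorem N34481 : nd 34481 = n55377 := ndS (p := 17381) (l := 4) rfl N17381 D55377
theorem N34482 : nd 34482 = n55379 := ndS (p := 17383) (l := 6) rfl N17383 D55379
theorem N34483 : nd 34483 = n55380 := ndS (p := 17384) (l := 2) rfl N17384 D55380
theorem N34484 : nd 34484 = n55382 := ndS (p := 17385) (l := 1) rfl N17385 D55382
theorem N34485 : nd 34485 = n55383 := ndS (p := 17385) (l := 6) rfl N17385 D55383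
theorem N34486 : nd 34486 = n55405 := ndS (p := 17386) (l := 0) rfl N17386 D55405
theorem N34487 : nd 34487 = n55406 := ndS (p := 17386) (l := 1) rfl N17386 D55406
theorem N34488 : nd 34488 = n55407 := ndS (p := 17386) (l := 2) rfl N17386 D55407
theorem N34489 : nd 34489 = n55408 := ndS (p := 17386) (l := 5) rfl N17386 D55408
theorem N34490 : nd 34490 = n55410 := ndS (p := 17387) (l := 6) rfl N17387 D55410
theorem N34491 : nd 34491 = n55413 := ndS (p := 17388) (l := 5) rfl N17388 D55413
theorem N34492 : nd 34492 = n55421 := ndS (p := 17389) (l := 4) rfl N17389 D55421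
theorem N34493 : nd 34493 = n55423 := ndS (p := 17390) (l := 0) rfl N17390 D55423
theorem N34494 : nd 34494 = n55424 := ndS (p := 17390) (l := 1) rfl N17390 D55424
theorem N34495 : nd 34495 = n55425 := ndS (p := 17390) (l := 2) rfl N17390 D55425
theorem N34496 : nd 34496 = n55426 := ndS (p := 17390) (l := 5) rfl N17390 D55426
theorem N34497 : nd 34497 = n55428 := ndS (p := 17391) (l := 6) rfl N17391 D55428
theorem N34498 : nd 34498 = n55433 := ndS (p := 17392) (l := 0) rfl N17392 D55433
theorem N34499 : nd 34499 = n55435 := ndS (p := 17392) (l := 2) rfl N17392 D55435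
theorem N34500 : nd 34500 = n55436 := ndS (p := 17392) (l := 6) rfl N17392 D55436
theorem N34501 : nd 34501 = n55437 := ndS (p := 17393) (l := 6) rfl N17393 D55437
theorem N34502 : nd 34502 = n55440 := ndS (p := 17394) (l := 5) rfl N17394 D55440
theorem N34503 : nd 34503 = n55444 := ndS (p := 17395) (l := 3) rfl N17395 D55444
theorem N34504 : nd 34504 = n55445 := ndS (p := 17395) (l := 6) rfl N17395 D55445
theorem N34505 : nd 34505 = n55446 := ndS (p := 17396) (l := 6) rfl N17396 D55446
theorem N34506 : nd 34506 = n55447 := ndS (p := 17397) (l := 4) rfl N17397 D55447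
theorem N34507 : nd 34507 = n55448 := ndS (p := 17397) (l := 6) rfl N17397 D55448
theorem N34508 : nd 34508 = n55449 := ndS (p := 17398) (l := 0) rfl N17398 D55449
theorem N34509 : nd 34509 = n55450 := ndS (p := 17398) (l := 1) rfl N17398 D55450
theorem N34510 : nd 34510 = n55451 := ndS (p := 17398) (l := 5) rfl N17398 D55451
theorem N34511 : nd 34511 = n55452 := ndS (p := 17398) (l := 7) rfl N17398 D55452
theorem N34512 : nd 34512 = n55453 := ndS (p := 17399) (l := 3) rfl N17399 D55453
theorem N34513 : nd 34513 = n55454 := ndS (p := 17399) (l := 6) rfl N17399 D55454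
theorem N34514 : nd 34514 = n55455 := ndS (p := 17400) (l := 0) rfl N17400 D55455
theorem N34515 : nd 34515 = n55456 := ndS (p := 17400) (l := 1) rfl N17400 D55456
theorem N34516 : nd 34516 = n55457 := ndS (p := 17400) (l := 5) rfl N17400 D55457
theorem N34517 : nd 34517 = n55458 := ndS (p := 17400) (l := 7) rfl N17400 D55458
theorem N34518 : nd 34518 = n55460 := ndS (p := 17401) (l := 3) rfl N17401 D55460
theorem N34519 : nd 34519 = n55462 := ndS (p := 17401) (l := 5) rfl N17401 D55462
theorem N34520 : nd 34520 = n55463 := ndS (p := 17401) (l := 6) rfl N17401 D55463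
theorem N34521 : nd 34521 = n55465 := ndS (p := 17402) (l := 3) rfl N17402 D55465
theorem N34522 : nd 34522 = n55467 := ndS (p := 17402) (l := 5) rfl N17402 D55467
theorem N34523 : nd 34523 = n55468 := ndS (p := 17402) (l := 6) rfl N17402 D55468
theorem N34524 : nd 34524 = n55469 := ndS (p := 17403) (l := 0) rfl N17403 D55469
theorem N34525 : nd 34525 = n55470 := ndS (p := 17403) (l := 1) rfl N17403 D55470
theorem N34526 : nd 34526 = n55471 := ndS (p := 17403) (l := 4) rfl N17403 D55471
theorem N34527 : nd 34527 = n55472 := ndS (p := 17403) (l := 7) rfl N17403 D55472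
theorem N34528 : nd 34528 = n55484 := ndS (p := 17405) (l := 6) rfl N17405 D55484
theorem N34529 : nd 34529 = n55486 := ndS (p := 17406) (l := 0) rfl N17406 D55486
theorem N34530 : nd 34530 = n55489 := ndS (p := 17406) (l := 5) rfl N17406 D55489
theorem N34531 : nd 34531 = n55490 := ndS (p := 17406) (l := 6) rfl N17406 D55490
theorem N34532 : nd 34532 = n55494 := ndS (p := 17407) (l := 4) rfl N17407 D55494
theorem N34533 : nd 34533 = n55495 := ndS (p := 17407) (l := 6) rfl N17407 D55495
theorem N34534 : nd 34534 = n55499 := ndS (p := 17408) (l := 5) rfl N17408 D55499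
theorem N34535 : nd 34535 = n55500 := ndS (p := 17408) (l := 7) rfl N17408 D55500
theorem N34536 : nd 34536 = n55507 := ndS (p := 17409) (l := 3) rfl N17409 D55507
theorem N34537 : nd 34537 = n55508 := ndS (p := 17409) (l := 5) rfl N17409 D55508
theorem N34538 : nd 34538 = n55515 := ndS (p := 17410) (l := 0) rfl N17410 D55515
theorem N34539 : nd 34539 = n55516 := ndS (p := 17410) (l := 1) rfl N17410 D55516
theorem N34540 : nd 34540 = n55517 := ndS (p := 17410) (l := 5) rfl N17410 D55517
theorem N34541 : nd 34541 = n55518 := ndS (p := 17410) (l := 7) rfl N17410 D55518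
theorem N34542 : nd 34542 = n55520 := ndS (p := 17411) (l := 3) rfl N17411 D55520
theorem N34543 : nd 34543 = n55521 := ndS (p := 17411) (l := 4) rfl N17411 D55521
theorem N34544 : nd 34544 = n55523 := ndS (p := 17411) (l := 6) rfl N17411 D55523
theorem N34545 : nd 34545 = n55525 := ndS (p := 17412) (l := 3) rfl N17412 D55525
theorem N34546 : nd 34546 = n55526 := ndS (p := 17412) (l := 4) rfl N17412 D55526
theorem N34547 : nd 34547 = n55528 := ndS (p := 17412) (l := 6) rfl N17412 D55528
theorem N34548 : nd 34548 = n55529 := ndS (p := 17413) (l := 0) rfl N17413 D55529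
theorem N34549 : nd 34549 = n55530 := ndS (p := 17413) (l := 1) rfl N17413 D55530
theorem N34550 : nd 34550 = n55531 := ndS (p := 17413) (l := 4) rfl N17413 D55531
theorem N34551 : nd 34551 = n55532 := ndS (p := 17413) (l := 7) rfl N17413 D55532
theorem N34552 : nd 34552 = n55536 := ndS (p := 17415) (l := 4) rfl N17415 D55536
theorem N34553 : nd 34553 = n55537 := ndS (p := 17415) (l := 5) rfl N17415 D55537
theorem N34554 : nd 34554 = n55538 := ndS (p := 17416) (l := 4) rfl N17416 D55538
theorem N34555 : nd 34555 = n55542 := ndS (p := 17417) (l := 4) rfl N17417 D55542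
theorem N34556 : nd 34556 = n55543 := ndS (p := 17417) (l := 5) rfl N17417 D55543
theorem N34557 : nd 34557 = n55544 := ndS (p := 17417) (l := 6) rfl N17417 D55544
theorem N34558 : nd 34558 = n55545 := ndS (p := 17418) (l := 4) rfl N17418 D55545
theorem N34559 : nd 34559 = n55546 := ndS (p := 17418) (l := 6) rfl N17418 D55546
theorem N34560 : nd 34560 = n55548 := ndS (p := 17420) (l := 4) rfl N17420 D55548
theorem N34561 : nd 34561 = n55549 := ndS (p := 17420) (l := 6) rfl N17420 D55549
theorem N34562 : nd 34562 = n55550 := ndS (p := 17421) (l := 0) rfl N17421 D55550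
theorem N34563 : nd 34563 = n55551 := ndS (p := 17421) (l := 3) rfl N17421 D55551
theorem N34564 : nd 34564 = n55552 := ndS (p := 17422) (l := 6) rfl N17422 D55552
theorem N34565 : nd 34565 = n55555 := ndS (p := 17423) (l := 4) rfl N17423 D55555
theorem N34566 : nd 34566 = n55566 := ndS (p := 17424) (l := 0) rfl N17424 D55566
theorem N34567 : nd 34567 = n55568 := ndS (p := 17424) (l := 3) rfl N17424 D55568
theorem N34568 : nd 34568 = n55569 := ndS (p := 17424) (l := 5) rfl N17424 D55569
theorem N34569 : nd 34569 = n55570 := ndS (p := 17424) (l := 6) rfl N17424 D55570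
theorem N34570 : nd 34570 = n55576 := ndS (p := 17425) (l := 1) rfl N17425 D55576
theorem N34571 : nd 34571 = n55581 := ndS (p := 17426) (l := 5) rfl N17426 D55581
theorem N34572 : nd 34572 = n55582 := ndS (p := 17426) (l := 6) rfl N17426 D55582
theorem N34573 : nd 34573 = n55583 := ndS (p := 17427) (l := 4) rfl N17427 D55583
theorem N34574 : nd 34574 = n55584 := ndS (p := 17427) (l := 6) rfl N17427 D55584
theorem N34575 : nd 34575 = n55595 := ndS (p := 17433) (l := 3) rfl N17433 D55595
theorem N34576 : nd 34576 = n55596 := ndS (p := 17433) (l := 5) rfl N17433 D55596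
theorem N34577 : nd 34577 = n55603 := ndS (p := 17434) (l := 5) rfl N17434 D55603
theorem N34578 : nd 34578 = n55610 := ndS (p := 17436) (l := 4) rfl N17436 D55610
theorem N34579 : nd 34579 = n55614 := ndS (p := 17443) (l := 6) rfl N17443 D55614
theorem N34580 : nd 34580 = n55615 := ndS (p := 17444) (l := 5) rfl N17444 D55615
theorem N34581 : nd 34581 = n55616 := ndS (p := 17445) (l := 4) rfl N17445 D55616
theorem N34582 : nd 34582 = n55617 := ndS (p := 17446) (l := 4) rfl N17446 D55617
theorem N34583 : nd 34583 = n55618 := ndS (p := 17447) (l := 6) rfl N17447 D55618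
theorem N34584 : nd 34584 = n55619 := ndS (p := 17448) (l := 4) rfl N17448 D55619
theorem N34585 : nd 34585 = n55621 := ndS (p := 17450) (l := 4) rfl N17450 D55621
theorem N34586 : nd 34586 = n55622 := ndS (p := 17450) (l := 6) rfl N17450 D55622
theorem N34587 : nd 34587 = n55623 := ndS (p := 17451) (l := 4) rfl N17451 D55623
theorem N34588 : nd 34588 = n55624 := ndS (p := 17451) (l := 6) rfl N17451 D55624
theorem N34589 : nd 34589 = n55625 := ndS (p := 17452) (l := 0) rfl N17452 D55625
theorem N34590 : nd 34590 = n55626 := ndS (p := 17452) (l := 1) rfl N17452 D55626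
theorem N34591 : nd 34591 = n55627 := ndS (p := 17452) (l := 3) rfl N17452 D55627
theorem N34592 : nd 34592 = n55628 := ndS (p := 17452) (l := 7) rfl N17452 D55628
theorem N34593 : nd 34593 = n55629 := ndS (p := 17454) (l := 6) rfl N17454 D55629
theorem N34594 : nd 34594 = n55631 := ndS (p := 17455) (l := 1) rfl N17455 D55631
theorem N34595 : nd 34595 = n55632 := ndS (p := 17455) (l := 7) rfl N17455 D55632
theorem N34596 : nd 34596 = n55636 := ndS (p := 17457) (l := 1) rfl N17457 D55636
theorem N34597 : nd 34597 = n55637 := ndS (p := 17457) (l := 2) rfl N17457 D55637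
theorem N34598 : nd 34598 = n55638 := ndS (p := 17457) (l := 7) rfl N17457 D55638
theorem N34599 : nd 34599 = n55639 := ndS (p := 17458) (l := 6) rfl N17458 D55639
theorem N34600 : nd 34600 = n55640 := ndS (p := 17459) (l := 6) rfl N17459 D55640
theorem N34601 : nd 34601 = n55641 := ndS (p := 17460) (l := 0) rfl N17460 D55641
theorem N34602 : nd 34602 = n55642 := ndS (p := 17460) (l := 1) rfl N17460 D55642
theorem N34603 : nd 34603 = n55643 := ndS (p := 17462) (l := 5) rfl N17462 D55643
theorem N34604 : nd 34604 = n55660 := ndS (p := 17465) (l := 0) rfl N17465 D55660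
theorem N34605 : nd 34605 = n55661 := ndS (p := 17465) (l := 3) rfl N17465 D55661
theorem N34606 : nd 34606 = n55683 := ndS (p := 17468) (l := 0) rfl N17468 D55683
theorem N34607 : nd 34607 = n55684 := ndS (p := 17468) (l := 2) rfl N17468 D55684
theorem N34608 : nd 34608 = n55692 := ndS (p := 17469) (l := 4) rfl N17469 D55692
theorem N34609 : nd 34609 = n55703 := ndS (p := 17470) (l := 3) rfl N17470 D55703
theorem N34610 : nd 34610 = n55704 := ndS (p := 17470) (l := 6) rfl N17470 D55704
theorem N34611 : nd 34611 = n55732 := ndS (p := 17472) (l := 5) rfl N17472 D55732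
theorem N34612 : nd 34612 = n55737 := ndS (p := 17473) (l := 3) rfl N17473 D55737
theorem N34613 : nd 34613 = n55738 := ndS (p := 17473) (l := 5) rfl N17473 D55738
theorem N34614 : nd 34614 = n55757 := ndS (p := 17475) (l := 4) rfl N17475 D55757
theorem N34615 : nd 34615 = n55773 := ndS (p := 17476) (l := 3) rfl N17476 D55773
theorem N34616 : nd 34616 = n55780 := ndS (p := 17477) (l := 3) rfl N17477 D55780
theorem N34617 : nd 34617 = n55788 := ndS (p := 17478) (l := 3) rfl N17478 D55788
theorem N34618 : nd 34618 = n55790 := ndS (p := 17478) (l := 6) rfl N17478 D55790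
theorem N34619 : nd 34619 = n55794 := ndS (p := 17480) (l := 3) rfl N17480 D55794
theorem N34620 : nd 34620 = n55796 := ndS (p := 17481) (l := 3) rfl N17481 D55796
theorem N34621 : nd 34621 = n55798 := ndS (p := 17482) (l := 0) rfl N17482 D55798
theorem N34622 : nd 34622 = n55799 := ndS (p := 17482) (l := 1) rfl N17482 D55799
theorem N34623 : nd 34623 = n55800 := ndS (p := 17482) (l := 2) rfl N17482 D55800
theorem N34624 : nd 34624 = n55825 := ndS (p := 17485) (l := 0) rfl N17485 D55825
theorem N34625 : nd 34625 = n55826 := ndS (p := 17485) (l := 1) rfl N17485 D55826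
theorem N34626 : nd 34626 = n55827 := ndS (p := 17485) (l := 4) rfl N17485 D55827
theorem N34627 : nd 34627 = n55829 := ndS (p := 17486) (l := 4) rfl N17486 D55829
theorem N34628 : nd 34628 = n55830 := ndS (p := 17487) (l := 4) rfl N17487 D55830
theorem N34629 : nd 34629 = n55831 := ndS (p := 17488) (l := 3) rfl N17488 D55831
theorem N34630 : nd 34630 = n55839 := ndS (p := 17489) (l := 4) rfl N17489 D55839
theorem N34631 : nd 34631 = n55843 := ndS (p := 17490) (l := 5) rfl N17490 D55843
theorem N34632 : nd 34632 = n55847 := ndS (p := 17491) (l := 5) rfl N17491 D55847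
theorem N34633 : nd 34633 = n55849 := ndS (p := 17492) (l := 0) rfl N17492 D55849
theorem N34634 : nd 34634 = n55850 := ndS (p := 17492) (l := 1) rfl N17492 D55850
theorem N34635 : nd 34635 = n55851 := ndS (p := 17492) (l := 4) rfl N17492 D55851
theorem N34636 : nd 34636 = n55856 := ndS (p := 17493) (l := 3) rfl N17493 D55856
theorem N34637 : nd 34637 = n55863 := ndS (p := 17494) (l := 4) rfl N17494 D55863
theorem N34638 : nd 34638 = n55869 := ndS (p := 17495) (l := 3) rfl N17495 D55869
theorem N34639 : nd 34639 = n55870 := ndS (p := 17495) (l := 5) rfl N17495 D55870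
theorem N34640 : nd 34640 = n55871 := ndS (p := 17496) (l := 3) rfl N17496 D55871
theorem N34641 : nd 34641 = n55872 := ndS (p := 17496) (l := 5) rfl N17496 D55872
theorem N34642 : nd 34642 = n55874 := ndS (p := 17497) (l := 0) rfl N17497 D55874
theorem N34643 : nd 34643 = n55875 := ndS (p := 17497) (l := 1) rfl N17497 D55875
theorem N34644 : nd 34644 = n55876 := ndS (p := 17497) (l := 2) rfl N17497 D55876
theorem N34645 : nd 34645 = n55878 := ndS (p := 17497) (l := 7) rfl N17497 D55878
theorem N34646 : nd 34646 = n55879 := ndS (p := 17498) (l := 0) rfl N17498 D55879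
theorem N34647 : nd 34647 = n55883 := ndS (p := 17498) (l := 7) rfl N17498 D55883
theorem N34648 : nd 34648 = n55884 := ndS (p := 17500) (l := 0) rfl N17500 D55884
theorem N34649 : nd 34649 = n55885 := ndS (p := 17500) (l := 1) rfl N17500 D55885
theorem N34650 : nd 34650 = n55886 := ndS (p := 17500) (l := 2) rfl N17500 D55886
theorem N34651 : nd 34651 = n55895 := ndS (p := 17501) (l := 4) rfl N17501 D55895
theorem N34652 : nd 34652 = n55896 := ndS (p := 17501) (l := 6) rfl N17501 D55896
theorem N34653 : nd 34653 = n55898 := ndS (p := 17502) (l := 3) rfl N17502 D55898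
theorem N34654 : nd 34654 = n55899 := ndS (p := 17502) (l := 5) rfl N17502 D55899
theorem N34655 : nd 34655 = n55900 := ndS (p := 17502) (l := 6) rfl N17502 D55900
theorem N34656 : nd 34656 = n55901 := ndS (p := 17503) (l := 0) rfl N17503 D55901
theorem N34657 : nd 34657 = n55902 := ndS (p := 17503) (l := 1) rfl N17503 D55902
theorem N34658 : nd 34658 = n55904 := ndS (p := 17504) (l := 0) rfl N17504 D55904
theorem N34659 : nd 34659 = n55905 := ndS (p := 17504) (l := 1) rfl N17504 D55905
theorem N34660 : nd 34660 = n55906 := ndS (p := 17504) (l := 2) rfl N17504 D55906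
theorem N34661 : nd 34661 = n55907 := ndS (p := 17504) (l := 6) rfl N17504 D55907
theorem N34662 : nd 34662 = n55913 := ndS (p := 17506) (l := 5) rfl N17506 D55913
theorem N34663 : nd 34663 = n55915 := ndS (p := 17507) (l := 4) rfl N17507 D55915
theorem N34664 : nd 34664 = n55917 := ndS (p := 17508) (l := 3) rfl N17508 D55917
theorem N34665 : nd 34665 = n55918 := ndS (p := 17508) (l := 4) rfl N17508 D55918
theorem N34666 : nd 34666 = n55920 := ndS (p := 17508) (l := 6) rfl N17508 D55920
theorem N34667 : nd 34667 = n55922 := ndS (p := 17509) (l := 3) rfl N17509 D55922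
theorem N34668 : nd 34668 = n55923 := ndS (p := 17509) (l := 4) rfl N17509 D55923
theorem N34669 : nd 34669 = n55925 := ndS (p := 17509) (l := 6) rfl N17509 D55925
theorem N34670 : nd 34670 = n55942 := ndS (p := 17511) (l := 4) rfl N17511 D55942
theorem N34671 : nd 34671 = n55943 := ndS (p := 17511) (l := 6) rfl N17511 D55943
theorem N34672 : nd 34672 = n55944 := ndS (p := 17512) (l := 0) rfl N17512 D55944
theorem N34673 : nd 34673 = n55945 := ndS (p := 17512) (l := 3) rfl N17512 D55945
theorem N34674 : nd 34674 = n55946 := ndS (p := 17512) (l := 5) rfl N17512 D55946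
theorem N34675 : nd 34675 = n55947 := ndS (p := 17512) (l := 6) rfl N17512 D55947
theorem N34676 : nd 34676 = n55948 := ndS (p := 17513) (l := 0) rfl N17513 D55948
theorem N34677 : nd 34677 = n55949 := ndS (p := 17513) (l := 1) rfl N17513 D55949
theorem N34678 : nd 34678 = n55953 := ndS (p := 17514) (l := 2) rfl N17514 D55953
theorem N34679 : nd 34679 = n55954 := ndS (p := 17514) (l := 6) rfl N17514 D55954
theorem N34680 : nd 34680 = n55958 := ndS (p := 17515) (l := 7) rfl N17515 D55958
theorem N34681 : nd 34681 = n55961 := ndS (p := 17516) (l := 5) rfl N17516 D55961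
theorem N34682 : nd 34682 = n55962 := ndS (p := 17517) (l := 3) rfl N17517 D55962
theorem N34683 : nd 34683 = n55964 := ndS (p := 17519) (l := 5) rfl N17519 D55964
theorem N34684 : nd 34684 = n55965 := ndS (p := 17520) (l := 4) rfl N17520 D55965
theorem N34685 : nd 34685 = n55966 := ndS (p := 17520) (l := 6) rfl N17520 D55966
theorem N34686 : nd 34686 = n55967 := ndS (p := 17521) (l := 6) rfl N17521 D55967
theorem N34687 : nd 34687 = n55968 := ndS (p := 17522) (l := 0) rfl N17522 D55968
theorem N34688 : nd 34688 = n55969 := ndS (p := 17522) (l := 1) rfl N17522 D55969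
theorem N34689 : nd 34689 = n55970 := ndS (p := 17522) (l := 7) rfl N17522 D55970
theorem N34690 : nd 34690 = n55972 := ndS (p := 17523) (l := 3) rfl N17523 D55972
theorem N34691 : nd 34691 = n55974 := ndS (p := 17523) (l := 5) rfl N17523 D55974
theorem N34692 : nd 34692 = n55975 := ndS (p := 17523) (l := 6) rfl N17523 D55975
theorem N34693 : nd 34693 = n55977 := ndS (p := 17524) (l := 3) rfl N17524 D55977
theorem N34694 : nd 34694 = n55979 := ndS (p := 17524) (l := 5) rfl N17524 D55979
theorem N34695 : nd 34695 = n55980 := ndS (p := 17524) (l := 6) rfl N17524 D55980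
theorem N34696 : nd 34696 = n55981 := ndS (p := 17525) (l := 0) rfl N17525 D55981
theorem N34697 : nd 34697 = n55982 := ndS (p := 17525) (l := 1) rfl N17525 D55982
theorem N34698 : nd 34698 = n55983 := ndS (p := 17525) (l := 7) rfl N17525 D55983
theorem N34699 : nd 34699 = n55984 := ndS (p := 17527) (l := 6) rfl N17527 D55984
theorem N34700 : nd 34700 = n55985 := ndS (p := 17528) (l := 6) rfl N17528 D55985
theorem N34701 : nd 34701 = n55986 := ndS (p := 17529) (l := 6) rfl N17529 D55986
theorem N34702 : nd 34702 = n55987 := ndS (p := 17532) (l := 6) rfl N17532 D55987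
theorem N34703 : nd 34703 = n55988 := ndS (p := 17533) (l := 5) rfl N17533 D55988
theorem N34704 : nd 34704 = n55990 := ndS (p := 17535) (l := 5) rfl N17535 D55990
theorem N34705 : nd 34705 = n55991 := ndS (p := 17536) (l := 6) rfl N17536 D55991
theorem N34706 : nd 34706 = n55992 := ndS (p := 17537) (l := 5) rfl N17537 D55992
theorem N34707 : nd 34707 = n55993 := ndS (p := 17537) (l := 7) rfl N17537 D55993
theorem N34708 : nd 34708 = n55994 := ndS (p := 17539) (l := 4) rfl N17539 D55994
theorem N34709 : nd 34709 = n55995 := ndS (p := 17541) (l := 4) rfl N17541 D55995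
theorem N34710 : nd 34710 = n55996 := ndS (p := 17541) (l := 6) rfl N17541 D55996
theorem N34711 : nd 34711 = n56010 := ndS (p := 17548) (l := 0) rfl N17548 D56010
theorem N34712 : nd 34712 = n56011 := ndS (p := 17548) (l := 1) rfl N17548 D56011
theorem N34713 : nd 34713 = n56014 := ndS (p := 17549) (l := 1) rfl N17549 D56014
theorem N34714 : nd 34714 = n56015 := ndS (p := 17549) (l := 5) rfl N17549 D56015
theorem N34715 : nd 34715 = n56051 := ndS (p := 17555) (l := 5) rfl N17555 D56051
theorem N34716 : nd 34716 = n56063 := ndS (p := 17556) (l := 1) rfl N17556 D56063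
theorem N34717 : nd 34717 = n56064 := ndS (p := 17556) (l := 6) rfl N17556 D56064
theorem N34718 : nd 34718 = n56072 := ndS (p := 17559) (l := 5) rfl N17559 D56072
theorem N34719 : nd 34719 = n56075 := ndS (p := 17560) (l := 1) rfl N17560 D56075
theorem N34720 : nd 34720 = n56076 := ndS (p := 17560) (l := 5) rfl N17560 D56076
theorem N34721 : nd 34721 = n56077 := ndS (p := 17560) (l := 7) rfl N17560 D56077
theorem N34722 : nd 34722 = n56084 := ndS (p := 17561) (l := 3) rfl N17561 D56084
theorem N34723 : nd 34723 = n56086 := ndS (p := 17561) (l := 5) rfl N17561 D56086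
theorem N34724 : nd 34724 = n56088 := ndS (p := 17562) (l := 0) rfl N17562 D56088
theorem N34725 : nd 34725 = n56089 := ndS (p := 17562) (l := 1) rfl N17562 D56089
theorem N34726 : nd 34726 = n56091 := ndS (p := 17562) (l := 7) rfl N17562 D56091
theorem N34727 : nd 34727 = n56124 := ndS (p := 17564) (l := 5) rfl N17564 D56124
theorem N34728 : nd 34728 = n56127 := ndS (p := 17565) (l := 5) rfl N17565 D56127
theorem N34729 : nd 34729 = n56149 := ndS (p := 17568) (l := 6) rfl N17568 D56149
theorem N34730 : nd 34730 = n56183 := ndS (p := 17571) (l := 5) rfl N17571 D56183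
theorem N34731 : nd 34731 = n56197 := ndS (p := 17572) (l := 0) rfl N17572 D56197
theorem N34732 : nd 34732 = n56198 := ndS (p := 17572) (l := 1) rfl N17572 D56198
theorem N34733 : nd 34733 = n56199 := ndS (p := 17572) (l := 4) rfl N17572 D56199
theorem N34734 : nd 34734 = n56205 := ndS (p := 17573) (l := 4) rfl N17573 D56205
theorem N34735 : nd 34735 = n56207 := ndS (p := 17574) (l := 4) rfl N17574 D56207
theorem N34736 : nd 34736 = n56208 := ndS (p := 17575) (l := 3) rfl N17575 D56208
theorem N34737 : nd 34737 = n56226 := ndS (p := 17576) (l := 5) rfl N17576 D56226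
theorem N34738 : nd 34738 = n56230 := ndS (p := 17577) (l := 4) rfl N17577 D56230
theorem N34739 : nd 34739 = n56234 := ndS (p := 17578) (l := 3) rfl N17578 D56234
theorem N34740 : nd 34740 = n56237 := ndS (p := 17579) (l := 2) rfl N17579 D56237
theorem N34741 : nd 34741 = n56243 := ndS (p := 17580) (l := 4) rfl N17580 D56243
theorem N34742 : nd 34742 = n56245 := ndS (p := 17581) (l := 3) rfl N17581 D56245
theorem N34743 : nd 34743 = n56248 := ndS (p := 17582) (l := 3) rfl N17582 D56248
theorem N34744 : nd 34744 = n56249 := ndS (p := 17582) (l := 5) rfl N17582 D56249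
theorem N34745 : nd 34745 = n56250 := ndS (p := 17582) (l := 6) rfl N17582 D56250
theorem N34746 : nd 34746 = n56252 := ndS (p := 17583) (l := 1) rfl N17583 D56252
theorem N34747 : nd 34747 = n56253 := ndS (p := 17583) (l := 2) rfl N17583 D56253
theorem N34748 : nd 34748 = n56254 := ndS (p := 17583) (l := 5) rfl N17583 D56254
theorem N34749 : nd 34749 = n56256 := ndS (p := 17584) (l := 0) rfl N17584 D56256
theorem N34750 : nd 34750 = n56257 := ndS (p := 17584) (l := 1) rfl N17584 D56257
theorem N34751 : nd 34751 = n56259 := ndS (p := 17584) (l := 7) rfl N17584 D56259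
theorem N34752 : nd 34752 = n56261 := ndS (p := 17586) (l := 3) rfl N17586 D56261
theorem N34753 : nd 34753 = n56264 := ndS (p := 17586) (l := 6) rfl N17586 D56264
theorem N34754 : nd 34754 = n56266 := ndS (p := 17587) (l := 3) rfl N17587 D56266
theorem N34755 : nd 34755 = n56269 := ndS (p := 17587) (l := 6) rfl N17587 D56269
theorem N34756 : nd 34756 = n56275 := ndS (p := 17590) (l := 3) rfl N17590 D56275
theorem N34757 : nd 34757 = n56383 := ndS (p := 17593) (l := 4) rfl N17593 D56383
theorem N34758 : nd 34758 = n56384 := ndS (p := 17594) (l := 0) rfl N17594 D56384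
theorem N34759 : nd 34759 = n56385 := ndS (p := 17594) (l := 1) rfl N17594 D56385
theorem N34760 : nd 34760 = n56386 := ndS (p := 17595) (l := 3) rfl N17595 D56386
theorem N34761 : nd 34761 = n56402 := ndS (p := 17597) (l := 0) rfl N17597 D56402
theorem N34762 : nd 34762 = n56403 := ndS (p := 17597) (l := 1) rfl N17597 D56403
theorem N34763 : nd 34763 = n56404 := ndS (p := 17597) (l := 7) rfl N17597 D56404
theorem N34764 : nd 34764 = n56429 := ndS (p := 17600) (l := 1) rfl N17600 D56429
theorem N34765 : nd 34765 = n56430 := ndS (p := 17600) (l := 6) rfl N17600 D56430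
theorem N34766 : nd 34766 = n56434 := ndS (p := 17601) (l := 7) rfl N17601 D56434
theorem N34767 : nd 34767 = n56438 := ndS (p := 17602) (l := 7) rfl N17602 D56438
theorem N34768 : nd 34768 = n56622 := ndS (p := 17604) (l := 5) rfl N17604 D56622
theorem N34769 : nd 34769 = n56624 := ndS (p := 17606) (l := 0) rfl N17606 D56624
theorem N34770 : nd 34770 = n56626 := ndS (p := 17606) (l := 5) rfl N17606 D56626
theorem N34771 : nd 34771 = n56630 := ndS (p := 17607) (l := 4) rfl N17607 D56630
theorem N34772 : nd 34772 = n56631 := ndS (p := 17607) (l := 5) rfl N17607 D56631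
theorem N34773 : nd 34773 = n56638 := ndS (p := 17608) (l := 0) rfl N17608 D56638
theorem N34774 : nd 34774 = n56640 := ndS (p := 17608) (l := 4) rfl N17608 D56640
theorem N34775 : nd 34775 = n56642 := ndS (p := 17609) (l := 0) rfl N17609 D56642
theorem N34776 : nd 34776 = n56644 := ndS (p := 17609) (l := 3) rfl N17609 D56644
theorem N34777 : nd 34777 = n56645 := ndS (p := 17609) (l := 5) rfl N17609 D56645
theorem N34778 : nd 34778 = n56646 := ndS (p := 17610) (l := 3) rfl N17610 D56646
theorem N34779 : nd 34779 = n56647 := ndS (p := 17610) (l := 5) rfl N17610 D56647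
theorem N34780 : nd 34780 = n56652 := ndS (p := 17611) (l := 6) rfl N17611 D56652
theorem N34781 : nd 34781 = n56653 := ndS (p := 17612) (l := 0) rfl N17612 D56653
theorem N34782 : nd 34782 = n56655 := ndS (p := 17612) (l := 5) rfl N17612 D56655
theorem N34783 : nd 34783 = n56665 := ndS (p := 17613) (l := 0) rfl N17613 D56665
theorem N34784 : nd 34784 = n56666 := ndS (p := 17613) (l := 1) rfl N17613 D56666
theorem N34785 : nd 34785 = n56667 := ndS (p := 17613) (l := 6) rfl N17613 D56667
theorem N34786 : nd 34786 = n56669 := ndS (p := 17614) (l := 5) rfl N17614 D56669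
theorem N34787 : nd 34787 = n56678 := ndS (p := 17615) (l := 0) rfl N17615 D56678
theorem N34788 : nd 34788 = n56679 := ndS (p := 17615) (l := 1) rfl N17615 D56679
theorem N34789 : nd 34789 = n56680 := ndS (p := 17615) (l := 5) rfl N17615 D56680
theorem N34790 : nd 34790 = n56692 := ndS (p := 17616) (l := 3) rfl N17616 D56692
theorem N34791 : nd 34791 = n56693 := ndS (p := 17616) (l := 5) rfl N17616 D56693
theorem N34792 : nd 34792 = n56694 := ndS (p := 17616) (l := 6) rfl N17616 D56694
theorem N34793 : nd 34793 = n56696 := ndS (p := 17617) (l := 1) rfl N17617 D56696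
theorem N34794 : nd 34794 = n56699 := ndS (p := 17618) (l := 6) rfl N17618 D56699
theorem N34795 : nd 34795 = n56701 := ndS (p := 17619) (l := 1) rfl N17619 D56701
theorem N34796 : nd 34796 = n56702 := ndS (p := 17619) (l := 5) rfl N17619 D56702
theorem N34797 : nd 34797 = n56703 := ndS (p := 17619) (l := 7) rfl N17619 D56703
theorem N34798 : nd 34798 = n56711 := ndS (p := 17620) (l := 5) rfl N17620 D56711
theorem N34799 : nd 34799 = n56715 := ndS (p := 17621) (l := 4) rfl N17621 D56715
theorem N34800 : nd 34800 = n56719 := ndS (p := 17623) (l := 5) rfl N17623 D56719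
theorem N34801 : nd 34801 = n56721 := ndS (p := 17624) (l := 0) rfl N17624 D56721
theorem N34802 : nd 34802 = n56722 := ndS (p := 17624) (l := 1) rfl N17624 D56722
theorem N34803 : nd 34803 = n56723 := ndS (p := 17624) (l := 5) rfl N17624 D56723
theorem N34804 : nd 34804 = n56724 := ndS (p := 17624) (l := 7) rfl N17624 D56724
theorem N34805 : nd 34805 = n56726 := ndS (p := 17625) (l := 3) rfl N17625 D56726
theorem N34806 : nd 34806 = n56728 := ndS (p := 17625) (l := 5) rfl N17625 D56728
theorem N34807 : nd 34807 = n56729 := ndS (p := 17625) (l := 6) rfl N17625 D56729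
theorem N34808 : nd 34808 = n56732 := ndS (p := 17626) (l := 5) rfl N17626 D56732
theorem N34809 : nd 34809 = n56733 := ndS (p := 17626) (l := 6) rfl N17626 D56733
theorem N34810 : nd 34810 = n56734 := ndS (p := 17627) (l := 0) rfl N17627 D56734
theorem N34811 : nd 34811 = n56735 := ndS (p := 17627) (l := 1) rfl N17627 D56735
theorem N34812 : nd 34812 = n56736 := ndS (p := 17627) (l := 4) rfl N17627 D56736
theorem N34813 : nd 34813 = n56753 := ndS (p := 17628) (l := 5) rfl N17628 D56753
theorem N34814 : nd 34814 = n56754 := ndS (p := 17628) (l := 6) rfl N17628 D56754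
theorem N34815 : nd 34815 = n56771 := ndS (p := 17630) (l := 3) rfl N17630 D56771
theorem N34816 : nd 34816 = n56772 := ndS (p := 17630) (l := 5) rfl N17630 D56772
theorem N34817 : nd 34817 = n56773 := ndS (p := 17630) (l := 6) rfl N17630 D56773
theorem N34818 : nd 34818 = n56791 := ndS (p := 17632) (l := 5) rfl N17632 D56791
theorem N34819 : nd 34819 = n56792 := ndS (p := 17632) (l := 6) rfl N17632 D56792
theorem N34820 : nd 34820 = n56793 := ndS (p := 17633) (l := 0) rfl N17633 D56793
theorem N34821 : nd 34821 = n56794 := ndS (p := 17633) (l := 1) rfl N17633 D56794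
theorem N34822 : nd 34822 = n56852 := ndS (p := 17634) (l := 5) rfl N17634 D56852
theorem N34823 : nd 34823 = n56853 := ndS (p := 17634) (l := 6) rfl N17634 D56853
theorem N34824 : nd 34824 = n56886 := ndS (p := 17636) (l := 0) rfl N17636 D56886
theorem N34825 : nd 34825 = n56887 := ndS (p := 17636) (l := 1) rfl N17636 D56887
theorem N34826 : nd 34826 = n56888 := ndS (p := 17636) (l := 6) rfl N17636 D56888
theorem N34827 : nd 34827 = n56889 := ndS (p := 17637) (l := 0) rfl N17637 D56889
theorem N34828 : nd 34828 = n56891 := ndS (p := 17637) (l := 5) rfl N17637 D56891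
theorem N34829 : nd 34829 = n56903 := ndS (p := 17638) (l := 0) rfl N17638 D56903
theorem N34830 : nd 34830 = n56904 := ndS (p := 17638) (l := 4) rfl N17638 D56904
theorem N34831 : nd 34831 = n56906 := ndS (p := 17639) (l := 3) rfl N17639 D56906
theorem N34832 : nd 34832 = n56907 := ndS (p := 17639) (l := 5) rfl N17639 D56907
theorem N34833 : nd 34833 = n56915 := ndS (p := 17640) (l := 0) rfl N17640 D56915
theorem N34834 : nd 34834 = n56916 := ndS (p := 17640) (l := 1) rfl N17640 D56916
theorem N34835 : nd 34835 = n56917 := ndS (p := 17640) (l := 6) rfl N17640 D56917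
theorem N34836 : nd 34836 = n56920 := ndS (p := 17641) (l := 5) rfl N17641 D56920
theorem N34837 : nd 34837 = n56932 := ndS (p := 17642) (l := 3) rfl N17642 D56932
theorem N34838 : nd 34838 = n56936 := ndS (p := 17643) (l := 5) rfl N17643 D56936
theorem N34839 : nd 34839 = n56937 := ndS (p := 17643) (l := 7) rfl N17643 D56937
theorem N34840 : nd 34840 = n56939 := ndS (p := 17645) (l := 1) rfl N17645 D56939
theorem N34841 : nd 34841 = n56940 := ndS (p := 17645) (l := 7) rfl N17645 D56940
theorem N34842 : nd 34842 = n56941 := ndS (p := 17646) (l := 0) rfl N17646 D56941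
theorem N34843 : nd 34843 = n56942 := ndS (p := 17646) (l := 1) rfl N17646 D56942
theorem N34844 : nd 34844 = n56943 := ndS (p := 17646) (l := 2) rfl N17646 D56943
theorem N34845 : nd 34845 = n56944 := ndS (p := 17646) (l := 6) rfl N17646 D56944
theorem N34846 : nd 34846 = n56947 := ndS (p := 17647) (l := 5) rfl N17647 D56947
theorem N34847 : nd 34847 = n56965 := ndS (p := 17648) (l := 5) rfl N17648 D56965
theorem N34848 : nd 34848 = n56966 := ndS (p := 17648) (l := 6) rfl N17648 D56966
theorem N34849 : nd 34849 = n56967 := ndS (p := 17649) (l := 6) rfl N17649 D56967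
theorem N34850 : nd 34850 = n56972 := ndS (p := 17651) (l := 5) rfl N17651 D56972
theorem N34851 : nd 34851 = n56973 := ndS (p := 17651) (l := 6) rfl N17651 D56973
theorem N34852 : nd 34852 = n56974 := ndS (p := 17652) (l := 6) rfl N17652 D56974
theorem N34853 : nd 34853 = n56977 := ndS (p := 17653) (l := 5) rfl N17653 D56977
theorem N34854 : nd 34854 = n56978 := ndS (p := 17653) (l := 7) rfl N17653 D56978
theorem N34855 : nd 34855 = n56979 := ndS (p := 17654) (l := 3) rfl N17654 D56979
theorem N34856 : nd 34856 = n56981 := ndS (p := 17655) (l := 3) rfl N17655 D56981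
theorem N34857 : nd 34857 = n56982 := ndS (p := 17655) (l := 6) rfl N17655 D56982
theorem N34858 : nd 34858 = n56983 := ndS (p := 17656) (l := 6) rfl N17656 D56983
theorem N34859 : nd 34859 = n56984 := ndS (p := 17657) (l := 6) rfl N17657 D56984
theorem N34860 : nd 34860 = n56985 := ndS (p := 17658) (l := 0) rfl N17658 D56985
theorem N34861 : nd 34861 = n56986 := ndS (p := 17658) (l := 1) rfl N17658 D56986
theorem N34862 : nd 34862 = n56987 := ndS (p := 17658) (l := 5) rfl N17658 D56987
theorem N34863 : nd 34863 = n56989 := ndS (p := 17659) (l := 3) rfl N17659 D56989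
theorem N34864 : nd 34864 = n56990 := ndS (p := 17659) (l := 6) rfl N17659 D56990
theorem N34865 : nd 34865 = n56991 := ndS (p := 17660) (l := 3) rfl N17660 D56991
theorem N34866 : nd 34866 = n56992 := ndS (p := 17660) (l := 6) rfl N17660 D56992
theorem N34867 : nd 34867 = n56993 := ndS (p := 17661) (l := 0) rfl N17661 D56993
theorem N34868 : nd 34868 = n56994 := ndS (p := 17661) (l := 1) rfl N17661 D56994
theorem N34869 : nd 34869 = n56995 := ndS (p := 17661) (l := 5) rfl N17661 D56995
theorem N34870 : nd 34870 = n56996 := ndS (p := 17661) (l := 7) rfl N17661 D56996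
theorem N34871 : nd 34871 = n57009 := ndS (p := 17662) (l := 4) rfl N17662 D57009
theorem N34872 : nd 34872 = n57078 := ndS (p := 17663) (l := 0) rfl N17663 D57078
theorem N34873 : nd 34873 = n57079 := ndS (p := 17663) (l := 1) rfl N17663 D57079
theorem N34874 : nd 34874 = n57103 := ndS (p := 17664) (l := 3) rfl N17664 D57103
theorem N34875 : nd 34875 = n57104 := ndS (p := 17664) (l := 4) rfl N17664 D57104
theorem N34876 : nd 34876 = n57105 := ndS (p := 17664) (l := 5) rfl N17664 D57105
theorem N34877 : nd 34877 = n57106 := ndS (p := 17664) (l := 6) rfl N17664 D57106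
theorem N34878 : nd 34878 = n57107 := ndS (p := 17665) (l := 5) rfl N17665 D57107
theorem N34879 : nd 34879 = n57108 := ndS (p := 17665) (l := 6) rfl N17665 D57108
theorem N34880 : nd 34880 = n57109 := ndS (p := 17666) (l := 5) rfl N17666 D57109
theorem N34881 : nd 34881 = n57111 := ndS (p := 17667) (l := 0) rfl N17667 D57111
theorem N34882 : nd 34882 = n57112 := ndS (p := 17667) (l := 1) rfl N17667 D57112
theorem N34883 : nd 34883 = n57113 := ndS (p := 17667) (l := 4) rfl N17667 D57113
theorem N34884 : nd 34884 = n57114 := ndS (p := 17667) (l := 6) rfl N17667 D57114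
theorem N34885 : nd 34885 = n57119 := ndS (p := 17668) (l := 0) rfl N17668 D57119
theorem N34886 : nd 34886 = n57122 := ndS (p := 17668) (l := 7) rfl N17668 D57122
theorem N34887 : nd 34887 = n57213 := ndS (p := 17670) (l := 0) rfl N17670 D57213
theorem N34888 : nd 34888 = n57214 := ndS (p := 17670) (l := 1) rfl N17670 D57214
theorem N34889 : nd 34889 = n57215 := ndS (p := 17670) (l := 2) rfl N17670 D57215
theorem N34890 : nd 34890 = n57216 := ndS (p := 17670) (l := 5) rfl N17670 D57216
theorem N34891 : nd 34891 = n57217 := ndS (p := 17670) (l := 6) rfl N17670 D57217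
theorem N34892 : nd 34892 = n57218 := ndS (p := 17671) (l := 6) rfl N17671 D57218
theorem N34893 : nd 34893 = n57219 := ndS (p := 17672) (l := 0) rfl N17672 D57219
theorem N34894 : nd 34894 = n57222 := ndS (p := 17672) (l := 7) rfl N17672 D57222
theorem N34895 : nd 34895 = n57229 := ndS (p := 17673) (l := 4) rfl N17673 D57229
theorem N34896 : nd 34896 = n57230 := ndS (p := 17673) (l := 5) rfl N17673 D57230
theorem N34897 : nd 34897 = n57234 := ndS (p := 17674) (l := 4) rfl N17674 D57234
theorem N34898 : nd 34898 = n57236 := ndS (p := 17676) (l := 2) rfl N17676 D57236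
theorem N34899 : nd 34899 = n57237 := ndS (p := 17676) (l := 6) rfl N17676 D57237
theorem N34900 : nd 34900 = n57238 := ndS (p := 17677) (l := 6) rfl N17677 D57238
theorem N34901 : nd 34901 = n57240 := ndS (p := 17678) (l := 1) rfl N17678 D57240
theorem N34902 : nd 34902 = n57241 := ndS (p := 17678) (l := 5) rfl N17678 D57241
theorem N34903 : nd 34903 = n57252 := ndS (p := 17679) (l := 0) rfl N17679 D57252
theorem N34904 : nd 34904 = n57254 := ndS (p := 17679) (l := 4) rfl N17679 D57254
theorem N34905 : nd 34905 = n57256 := ndS (p := 17680) (l := 0) rfl N17680 D57256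
theorem N34906 : nd 34906 = n57257 := ndS (p := 17680) (l := 1) rfl N17680 D57257
theorem N34907 : nd 34907 = n57258 := ndS (p := 17680) (l := 2) rfl N17680 D57258
theorem N34908 : nd 34908 = n57259 := ndS (p := 17680) (l := 6) rfl N17680 D57259
theorem N34909 : nd 34909 = n57260 := ndS (p := 17681) (l := 6) rfl N17681 D57260
theorem N34910 : nd 34910 = n57264 := ndS (p := 17682) (l := 7) rfl N17682 D57264
theorem N34911 : nd 34911 = n57265 := ndS (p := 17683) (l := 0) rfl N17683 D57265
theorem N34912 : nd 34912 = n57266 := ndS (p := 17683) (l := 1) rfl N17683 D57266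
theorem N34913 : nd 34913 = n57267 := ndS (p := 17683) (l := 2) rfl N17683 D57267
theorem N34914 : nd 34914 = n57268 := ndS (p := 17683) (l := 5) rfl N17683 D57268
theorem N34915 : nd 34915 = n57269 := ndS (p := 17683) (l := 6) rfl N17683 D57269
theorem N34916 : nd 34916 = n57270 := ndS (p := 17684) (l := 6) rfl N17684 D57270
theorem N34917 : nd 34917 = n57273 := ndS (p := 17685) (l := 5) rfl N17685 D57273
theorem N34918 : nd 34918 = n57276 := ndS (p := 17686) (l := 4) rfl N17686 D57276
theorem N34919 : nd 34919 = n57277 := ndS (p := 17686) (l := 5) rfl N17686 D57277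
theorem N34920 : nd 34920 = n57278 := ndS (p := 17686) (l := 6) rfl N17686 D57278
theorem N34921 : nd 34921 = n57280 := ndS (p := 17687) (l := 3) rfl N17687 D57280
theorem N34922 : nd 34922 = n57281 := ndS (p := 17687) (l := 4) rfl N17687 D57281
theorem N34923 : nd 34923 = n57282 := ndS (p := 17687) (l := 5) rfl N17687 D57282
theorem N34924 : nd 34924 = n57283 := ndS (p := 17687) (l := 6) rfl N17687 D57283
theorem N34925 : nd 34925 = n57284 := ndS (p := 17688) (l := 5) rfl N17688 D57284
theorem N34926 : nd 34926 = n57285 := ndS (p := 17688) (l := 6) rfl N17688 D57285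
theorem N34927 : nd 34927 = n57286 := ndS (p := 17689) (l := 0) rfl N17689 D57286
theorem N34928 : nd 34928 = n57287 := ndS (p := 17689) (l := 1) rfl N17689 D57287
theorem N34929 : nd 34929 = n57288 := ndS (p := 17689) (l := 6) rfl N17689 D57288
theorem N34930 : nd 34930 = n57289 := ndS (p := 17690) (l := 0) rfl N17690 D57289
theorem N34931 : nd 34931 = n57290 := ndS (p := 17690) (l := 1) rfl N17690 D57290
theorem N34932 : nd 34932 = n57291 := ndS (p := 17690) (l := 5) rfl N17690 D57291
theorem N34933 : nd 34933 = n57292 := ndS (p := 17690) (l := 7) rfl N17690 D57292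
theorem N34934 : nd 34934 = n57293 := ndS (p := 17691) (l := 0) rfl N17691 D57293
theorem N34935 : nd 34935 = n57295 := ndS (p := 17691) (l := 5) rfl N17691 D57295
theorem N34936 : nd 34936 = n57296 := ndS (p := 17691) (l := 7) rfl N17691 D57296
theorem N34937 : nd 34937 = n57298 := ndS (p := 17692) (l := 3) rfl N17692 D57298
theorem N34938 : nd 34938 = n57299 := ndS (p := 17692) (l := 5) rfl N17692 D57299
theorem N34939 : nd 34939 = n57303 := ndS (p := 17693) (l := 5) rfl N17693 D57303
theorem N34940 : nd 34940 = n57304 := ndS (p := 17693) (l := 6) rfl N17693 D57304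
theorem N34941 : nd 34941 = n57305 := ndS (p := 17694) (l := 0) rfl N17694 D57305
theorem N34942 : nd 34942 = n57306 := ndS (p := 17694) (l := 1) rfl N17694 D57306
theorem N34943 : nd 34943 = n57307 := ndS (p := 17694) (l := 4) rfl N17694 D57307
theorem N34944 : nd 34944 = n57308 := ndS (p := 17694) (l := 7) rfl N17694 D57308
theorem N34945 : nd 34945 = n57320 := ndS (p := 17696) (l := 3) rfl N17696 D57320
theorem N34946 : nd 34946 = n57321 := ndS (p := 17696) (l := 5) rfl N17696 D57321
theorem N34947 : nd 34947 = n57322 := ndS (p := 17696) (l := 6) rfl N17696 D57322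
theorem N34948 : nd 34948 = n57323 := ndS (p := 17698) (l := 0) rfl N17698 D57323
theorem N34949 : nd 34949 = n57324 := ndS (p := 17698) (l := 1) rfl N17698 D57324
theorem N34950 : nd 34950 = n57325 := ndS (p := 17698) (l := 6) rfl N17698 D57325
theorem N34951 : nd 34951 = n57328 := ndS (p := 17699) (l := 5) rfl N17699 D57328
theorem N34952 : nd 34952 = n57333 := ndS (p := 17700) (l := 5) rfl N17700 D57333
theorem N34953 : nd 34953 = n57341 := ndS (p := 17702) (l := 4) rfl N17702 D57341
theorem N34954 : nd 34954 = n57343 := ndS (p := 17704) (l := 0) rfl N17704 D57343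
theorem N34955 : nd 34955 = n57344 := ndS (p := 17704) (l := 1) rfl N17704 D57344
theorem N34956 : nd 34956 = n57345 := ndS (p := 17704) (l := 2) rfl N17704 D57345
theorem N34957 : nd 34957 = n57346 := ndS (p := 17704) (l := 6) rfl N17704 D57346
theorem N34958 : nd 34958 = n57349 := ndS (p := 17705) (l := 5) rfl N17705 D57349
theorem N34959 : nd 34959 = n57351 := ndS (p := 17706) (l := 1) rfl N17706 D57351
theorem N34960 : nd 34960 = n57352 := ndS (p := 17706) (l := 6) rfl N17706 D57352
theorem N34961 : nd 34961 = n57355 := ndS (p := 17707) (l := 5) rfl N17707 D57355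
theorem N34962 : nd 34962 = n57357 := ndS (p := 17708) (l := 3) rfl N17708 D57357
theorem N34963 : nd 34963 = n57358 := ndS (p := 17708) (l := 6) rfl N17708 D57358
theorem N34964 : nd 34964 = n57359 := ndS (p := 17709) (l := 3) rfl N17709 D57359
theorem N34965 : nd 34965 = n57360 := ndS (p := 17709) (l := 6) rfl N17709 D57360
theorem N34966 : nd 34966 = n57361 := ndS (p := 17710) (l := 6) rfl N17710 D57361
theorem N34967 : nd 34967 = n57362 := ndS (p := 17711) (l := 6) rfl N17711 D57362
theorem N34968 : nd 34968 = n57363 := ndS (p := 17712) (l := 0) rfl N17712 D57363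
theorem N34969 : nd 34969 = n57364 := ndS (p := 17712) (l := 1) rfl N17712 D57364
theorem N34970 : nd 34970 = n57365 := ndS (p := 17712) (l := 5) rfl N17712 D57365
theorem N34971 : nd 34971 = n57366 := ndS (p := 17712) (l := 7) rfl N17712 D57366
theorem N34972 : nd 34972 = n57367 := ndS (p := 17713) (l := 3) rfl N17713 D57367
theorem N34973 : nd 34973 = n57368 := ndS (p := 17713) (l := 6) rfl N17713 D57368
theorem N34974 : nd 34974 = n57369 := ndS (p := 17714) (l := 6) rfl N17714 D57369
theorem N34975 : nd 34975 = n57373 := ndS (p := 17715) (l := 7) rfl N17715 D57373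
theorem N34976 : nd 34976 = n57375 := ndS (p := 17716) (l := 3) rfl N17716 D57375
theorem N34977 : nd 34977 = n57377 := ndS (p := 17716) (l := 5) rfl N17716 D57377
theorem N34978 : nd 34978 = n57378 := ndS (p := 17716) (l := 6) rfl N17716 D57378
theorem N34979 : nd 34979 = n57380 := ndS (p := 17717) (l := 3) rfl N17717 D57380
theorem N34980 : nd 34980 = n57382 := ndS (p := 17717) (l := 5) rfl N17717 D57382
theorem N34981 : nd 34981 = n57383 := ndS (p := 17717) (l := 6) rfl N17717 D57383
theorem N34982 : nd 34982 = n57403 := ndS (p := 17720) (l := 3) rfl N17720 D57403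
theorem N34983 : nd 34983 = n57404 := ndS (p := 17720) (l := 5) rfl N17720 D57404
theorem N34984 : nd 34984 = n57405 := ndS (p := 17720) (l := 6) rfl N17720 D57405
theorem N34985 : nd 34985 = n57408 := ndS (p := 17721) (l := 4) rfl N17721 D57408
theorem N34986 : nd 34986 = n57420 := ndS (p := 17723) (l := 5) rfl N17723 D57420
theorem N34987 : nd 34987 = n57422 := ndS (p := 17724) (l := 4) rfl N17724 D57422
theorem N34988 : nd 34988 = n57423 := ndS (p := 17724) (l := 6) rfl N17724 D57423
theorem N34989 : nd 34989 = n57426 := ndS (p := 17725) (l := 5) rfl N17725 D57426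
theorem N34990 : nd 34990 = n57430 := ndS (p := 17726) (l := 4) rfl N17726 D57430
theorem N34991 : nd 34991 = n57436 := ndS (p := 17727) (l := 0) rfl N17727 D57436
theorem N34992 : nd 34992 = n57437 := ndS (p := 17727) (l := 1) rfl N17727 D57437
theorem N34993 : nd 34993 = n57438 := ndS (p := 17727) (l := 3) rfl N17727 D57438
theorem N34994 : nd 34994 = n57439 := ndS (p := 17727) (l := 5) rfl N17727 D57439
theorem N34995 : nd 34995 = n57440 := ndS (p := 17727) (l := 7) rfl N17727 D57440
theorem N34996 : nd 34996 = n57446 := ndS (p := 17729) (l := 0) rfl N17729 D57446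
theorem N34997 : nd 34997 = n57447 := ndS (p := 17729) (l := 1) rfl N17729 D57447
theorem N34998 : nd 34998 = n57448 := ndS (p := 17729) (l := 2) rfl N17729 D57448
theorem N34999 : nd 34999 = n57449 := ndS (p := 17729) (l := 5) rfl N17729 D57449
theorem N35000 : nd 35000 = n57451 := ndS (p := 17730) (l := 6) rfl N17730 D57451
theorem N35001 : nd 35001 = n57470 := ndS (p := 17731) (l := 3) rfl N17731 D57470
theorem N35002 : nd 35002 = n57471 := ndS (p := 17731) (l := 4) rfl N17731 D57471
theorem N35003 : nd 35003 = n57473 := ndS (p := 17731) (l := 6) rfl N17731 D57473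
theorem N35004 : nd 35004 = n57475 := ndS (p := 17732) (l := 6) rfl N17732 D57475
theorem N35005 : nd 35005 = n57476 := ndS (p := 17733) (l := 5) rfl N17733 D57476
theorem N35006 : nd 35006 = n57477 := ndS (p := 17733) (l := 6) rfl N17733 D57477
theorem N35007 : nd 35007 = n57478 := ndS (p := 17734) (l := 0) rfl N17734 D57478
theorem N35008 : nd 35008 = n57480 := ndS (p := 17734) (l := 4) rfl N17734 D57480
theorem N35009 : nd 35009 = n57481 := ndS (p := 17734) (l := 6) rfl N17734 D57481
theorem N35010 : nd 35010 = n57483 := ndS (p := 17735) (l := 1) rfl N17735 D57483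
theorem N35011 : nd 35011 = n57484 := ndS (p := 17735) (l := 5) rfl N17735 D57484
theorem N35012 : nd 35012 = n57489 := ndS (p := 17736) (l := 7) rfl N17736 D57489
theorem N35013 : nd 35013 = n57491 := ndS (p := 17737) (l := 3) rfl N17737 D57491
theorem N35014 : nd 35014 = n57493 := ndS (p := 17737) (l := 5) rfl N17737 D57493
theorem N35015 : nd 35015 = n57498 := ndS (p := 17738) (l := 5) rfl N17738 D57498
theorem N35016 : nd 35016 = n57500 := ndS (p := 17739) (l := 0) rfl N17739 D57500
theorem N35017 : nd 35017 = n57501 := ndS (p := 17739) (l := 1) rfl N17739 D57501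
theorem N35018 : nd 35018 = n57503 := ndS (p := 17739) (l := 7) rfl N17739 D57503
theorem N35019 : nd 35019 = n57537 := ndS (p := 17741) (l := 3) rfl N17741 D57537
theorem N35020 : nd 35020 = n57538 := ndS (p := 17741) (l := 5) rfl N17741 D57538
theorem N35021 : nd 35021 = n57540 := ndS (p := 17742) (l := 4) rfl N17742 D57540
theorem N35022 : nd 35022 = n57545 := ndS (p := 17743) (l := 4) rfl N17743 D57545
theorem N35023 : nd 35023 = n57547 := ndS (p := 17743) (l := 6) rfl N17743 D57547
theorem N35024 : nd 35024 = n57550 := ndS (p := 17744) (l := 4) rfl N17744 D57550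
theorem N35025 : nd 35025 = n57551 := ndS (p := 17744) (l := 6) rfl N17744 D57551
theorem N35026 : nd 35026 = n57552 := ndS (p := 17745) (l := 0) rfl N17745 D57552
theorem N35027 : nd 35027 = n57553 := ndS (p := 17745) (l := 1) rfl N17745 D57553
theorem N35028 : nd 35028 = n57554 := ndS (p := 17745) (l := 3) rfl N17745 D57554
theorem N35029 : nd 35029 = n57555 := ndS (p := 17745) (l := 5) rfl N17745 D57555
theorem N35030 : nd 35030 = n57556 := ndS (p := 17745) (l := 7) rfl N17745 D57556
theorem N35031 : nd 35031 = n57557 := ndS (p := 17746) (l := 6) rfl N17746 D57557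
theorem N35032 : nd 35032 = n57559 := ndS (p := 17747) (l := 3) rfl N17747 D57559
theorem N35033 : nd 35033 = n57560 := ndS (p := 17747) (l := 4) rfl N17747 D57560
theorem N35034 : nd 35034 = n57561 := ndS (p := 17747) (l := 5) rfl N17747 D57561
theorem N35035 : nd 35035 = n57562 := ndS (p := 17747) (l := 6) rfl N17747 D57562
theorem N35036 : nd 35036 = n57563 := ndS (p := 17748) (l := 3) rfl N17748 D57563
theorem N35037 : nd 35037 = n57564 := ndS (p := 17748) (l := 4) rfl N17748 D57564
theorem N35038 : nd 35038 = n57565 := ndS (p := 17748) (l := 5) rfl N17748 D57565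
theorem N35039 : nd 35039 = n57566 := ndS (p := 17748) (l := 6) rfl N17748 D57566
theorem N35040 : nd 35040 = n57567 := ndS (p := 17749) (l := 4) rfl N17749 D57567
theorem N35041 : nd 35041 = n57568 := ndS (p := 17749) (l := 5) rfl N17749 D57568
theorem N35042 : nd 35042 = n57569 := ndS (p := 17749) (l := 6) rfl N17749 D57569
theorem N35043 : nd 35043 = n57570 := ndS (p := 17750) (l := 1) rfl N17750 D57570
theorem N35044 : nd 35044 = n57571 := ndS (p := 17750) (l := 5) rfl N17750 D57571
theorem N35045 : nd 35045 = n57572 := ndS (p := 17750) (l := 6) rfl N17750 D57572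
theorem N35046 : nd 35046 = n57573 := ndS (p := 17751) (l := 0) rfl N17751 D57573
theorem N35047 : nd 35047 = n57575 := ndS (p := 17751) (l := 4) rfl N17751 D57575
theorem N35048 : nd 35048 = n57576 := ndS (p := 17751) (l := 6) rfl N17751 D57576
theorem N35049 : nd 35049 = n57577 := ndS (p := 17752) (l := 0) rfl N17752 D57577
theorem N35050 : nd 35050 = n57578 := ndS (p := 17752) (l := 1) rfl N17752 D57578
theorem N35051 : nd 35051 = n57579 := ndS (p := 17752) (l := 5) rfl N17752 D57579
theorem N35052 : nd 35052 = n57580 := ndS (p := 17752) (l := 7) rfl N17752 D57580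
theorem N35053 : nd 35053 = n57584 := ndS (p := 17753) (l := 7) rfl N17753 D57584
theorem N35054 : nd 35054 = n57598 := ndS (p := 17754) (l := 7) rfl N17754 D57598
theorem N35055 : nd 35055 = n57600 := ndS (p := 17756) (l := 3) rfl N17756 D57600
theorem N35056 : nd 35056 = n57601 := ndS (p := 17756) (l := 4) rfl N17756 D57601
theorem N35057 : nd 35057 = n57602 := ndS (p := 17756) (l := 5) rfl N17756 D57602
theorem N35058 : nd 35058 = n57603 := ndS (p := 17756) (l := 6) rfl N17756 D57603
theorem N35059 : nd 35059 = n57606 := ndS (p := 17757) (l := 4) rfl N17757 D57606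
theorem N35060 : nd 35060 = n57607 := ndS (p := 17757) (l := 5) rfl N17757 D57607
theorem N35061 : nd 35061 = n57609 := ndS (p := 17758) (l := 4) rfl N17758 D57609
theorem N35062 : nd 35062 = n57611 := ndS (p := 17759) (l := 0) rfl N17759 D57611
theorem N35063 : nd 35063 = n57612 := ndS (p := 17759) (l := 1) rfl N17759 D57612
theorem N35064 : nd 35064 = n57613 := ndS (p := 17759) (l := 6) rfl N17759 D57613
theorem N35065 : nd 35065 = n57614 := ndS (p := 17760) (l := 0) rfl N17760 D57614
theorem N35066 : nd 35066 = n57615 := ndS (p := 17760) (l := 1) rfl N17760 D57615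
theorem N35067 : nd 35067 = n57616 := ndS (p := 17760) (l := 6) rfl N17760 D57616
theorem N35068 : nd 35068 = n57619 := ndS (p := 17761) (l := 5) rfl N17761 D57619
theorem N35069 : nd 35069 = n57623 := ndS (p := 17762) (l := 5) rfl N17762 D57623
theorem N35070 : nd 35070 = n57624 := ndS (p := 17762) (l := 7) rfl N17762 D57624
theorem N35071 : nd 35071 = n57635 := ndS (p := 17763) (l := 0) rfl N17763 D57635
theorem N35072 : nd 35072 = n57636 := ndS (p := 17763) (l := 1) rfl N17763 D57636
theorem N35073 : nd 35073 = n57637 := ndS (p := 17763) (l := 4) rfl N17763 D57637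
theorem N35074 : nd 35074 = n57638 := ndS (p := 17763) (l := 7) rfl N17763 D57638
theorem N35075 : nd 35075 = n57639 := ndS (p := 17765) (l := 1) rfl N17765 D57639
theorem N35076 : nd 35076 = n57640 := ndS (p := 17765) (l := 2) rfl N17765 D57640
theorem N35077 : nd 35077 = n57641 := ndS (p := 17765) (l := 5) rfl N17765 D57641
theorem N35078 : nd 35078 = n57643 := ndS (p := 17766) (l := 6) rfl N17766 D57643
theorem N35079 : nd 35079 = n57644 := ndS (p := 17767) (l := 4) rfl N17767 D57644
theorem N35080 : nd 35080 = n57645 := ndS (p := 17767) (l := 6) rfl N17767 D57645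
theorem N35081 : nd 35081 = n57646 := ndS (p := 17768) (l := 0) rfl N17768 D57646
theorem N35082 : nd 35082 = n57648 := ndS (p := 17768) (l := 5) rfl N17768 D57648
theorem N35083 : nd 35083 = n57649 := ndS (p := 17768) (l := 7) rfl N17768 D57649
theorem N35084 : nd 35084 = n57650 := ndS (p := 17769) (l := 0) rfl N17769 D57650
theorem N35085 : nd 35085 = n57651 := ndS (p := 17769) (l := 2) rfl N17769 D57651
theorem N35086 : nd 35086 = n57652 := ndS (p := 17769) (l := 6) rfl N17769 D57652
theorem N35087 : nd 35087 = n57653 := ndS (p := 17770) (l := 4) rfl N17770 D57653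
theorem N35088 : nd 35088 = n57654 := ndS (p := 17770) (l := 6) rfl N17770 D57654
theorem N35089 : nd 35089 = n57657 := ndS (p := 17771) (l := 5) rfl N17771 D57657
theorem N35090 : nd 35090 = n57659 := ndS (p := 17772) (l := 6) rfl N17772 D57659
theorem N35091 : nd 35091 = n57660 := ndS (p := 17773) (l := 0) rfl N17773 D57660
theorem N35092 : nd 35092 = n57661 := ndS (p := 17773) (l := 1) rfl N17773 D57661
theorem N35093 : nd 35093 = n57662 := ndS (p := 17773) (l := 5) rfl N17773 D57662
theorem N35094 : nd 35094 = n57663 := ndS (p := 17773) (l := 7) rfl N17773 D57663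
theorem N35095 : nd 35095 = n57665 := ndS (p := 17774) (l := 4) rfl N17774 D57665
theorem N35096 : nd 35096 = n57666 := ndS (p := 17774) (l := 6) rfl N17774 D57666
theorem N35097 : nd 35097 = n57667 := ndS (p := 17775) (l := 4) rfl N17775 D57667
theorem N35098 : nd 35098 = n57669 := ndS (p := 17776) (l := 1) rfl N17776 D57669
theorem N35099 : nd 35099 = n57670 := ndS (p := 17776) (l := 3) rfl N17776 D57670
theorem N35100 : nd 35100 = n57671 := ndS (p := 17776) (l := 6) rfl N17776 D57671
theorem N35101 : nd 35101 = n57672 := ndS (p := 17777) (l := 0) rfl N17777 D57672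
theorem N35102 : nd 35102 = n57673 := ndS (p := 17777) (l := 1) rfl N17777 D57673
theorem N35103 : nd 35103 = n57674 := ndS (p := 17777) (l := 5) rfl N17777 D57674
theorem N35104 : nd 35104 = n57675 := ndS (p := 17777) (l := 7) rfl N17777 D57675
theorem N35105 : nd 35105 = n57678 := ndS (p := 17778) (l := 4) rfl N17778 D57678
theorem N35106 : nd 35106 = n57679 := ndS (p := 17778) (l := 5) rfl N17778 D57679
theorem N35107 : nd 35107 = n57682 := ndS (p := 17779) (l := 3) rfl N17779 D57682
theorem N35108 : nd 35108 = n57683 := ndS (p := 17779) (l := 4) rfl N17779 D57683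
theorem N35109 : nd 35109 = n57684 := ndS (p := 17779) (l := 5) rfl N17779 D57684
theorem N35110 : nd 35110 = n57685 := ndS (p := 17779) (l := 6) rfl N17779 D57685
theorem N35111 : nd 35111 = n57686 := ndS (p := 17780) (l := 0) rfl N17780 D57686
theorem N35112 : nd 35112 = n57687 := ndS (p := 17780) (l := 1) rfl N17780 D57687
theorem N35113 : nd 35113 = n57688 := ndS (p := 17780) (l := 4) rfl N17780 D57688
theorem N35114 : nd 35114 = n57689 := ndS (p := 17780) (l := 7) rfl N17780 D57689
theorem N35115 : nd 35115 = n57692 := ndS (p := 17782) (l := 2) rfl N17782 D57692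
theorem N35116 : nd 35116 = n57693 := ndS (p := 17782) (l := 4) rfl N17782 D57693
theorem N35117 : nd 35117 = n57694 := ndS (p := 17782) (l := 6) rfl N17782 D57694
theorem N35118 : nd 35118 = n57695 := ndS (p := 17783) (l := 0) rfl N17783 D57695
theorem N35119 : nd 35119 = n57696 := ndS (p := 17783) (l := 1) rfl N17783 D57696
theorem N35120 : nd 35120 = n57697 := ndS (p := 17783) (l := 5) rfl N17783 D57697
theorem N35121 : nd 35121 = n57698 := ndS (p := 17783) (l := 7) rfl N17783 D57698
theorem N35122 : nd 35122 = n57700 := ndS (p := 17784) (l := 6) rfl N17784 D57700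
theorem N35123 : nd 35123 = n57701 := ndS (p := 17785) (l := 0) rfl N17785 D57701
theorem N35124 : nd 35124 = n57702 := ndS (p := 17785) (l := 1) rfl N17785 D57702
theorem N35125 : nd 35125 = n57704 := ndS (p := 17785) (l := 7) rfl N17785 D57704
theorem N35126 : nd 35126 = n57705 := ndS (p := 17786) (l := 0) rfl N17786 D57705
theorem N35127 : nd 35127 = n57706 := ndS (p := 17786) (l := 1) rfl N17786 D57706
theorem N35128 : nd 35128 = n57707 := ndS (p := 17786) (l := 6) rfl N17786 D57707
theorem N35129 : nd 35129 = n57708 := ndS (p := 17787) (l := 0) rfl N17787 D57708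
theorem N35130 : nd 35130 = n57709 := ndS (p := 17787) (l := 1) rfl N17787 D57709
theorem N35131 : nd 35131 = n57710 := ndS (p := 17787) (l := 5) rfl N17787 D57710
theorem N35132 : nd 35132 = n57711 := ndS (p := 17787) (l := 7) rfl N17787 D57711
theorem N35133 : nd 35133 = n57713 := ndS (p := 17788) (l := 3) rfl N17788 D57713
theorem N35134 : nd 35134 = n57714 := ndS (p := 17788) (l := 4) rfl N17788 D57714
theorem N35135 : nd 35135 = n57715 := ndS (p := 17788) (l := 5) rfl N17788 D57715
theorem N35136 : nd 35136 = n57716 := ndS (p := 17788) (l := 6) rfl N17788 D57716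
theorem N35137 : nd 35137 = n57718 := ndS (p := 17789) (l := 3) rfl N17789 D57718
theorem N35138 : nd 35138 = n57719 := ndS (p := 17789) (l := 4) rfl N17789 D57719
theorem N35139 : nd 35139 = n57720 := ndS (p := 17789) (l := 5) rfl N17789 D57720
theorem N35140 : nd 35140 = n57722 := ndS (p := 17790) (l := 0) rfl N17790 D57722
theorem N35141 : nd 35141 = n57723 := ndS (p := 17790) (l := 1) rfl N17790 D57723
theorem N35142 : nd 35142 = n57724 := ndS (p := 17790) (l := 4) rfl N17790 D57724
theorem N35143 : nd 35143 = n57725 := ndS (p := 17790) (l := 7) rfl N17790 D57725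
theorem N35144 : nd 35144 = n57726 := ndS (p := 17791) (l := 6) rfl N17791 D57726
theorem N35145 : nd 35145 = n57727 := ndS (p := 17792) (l := 0) rfl N17792 D57727
theorem N35146 : nd 35146 = n57728 := ndS (p := 17792) (l := 1) rfl N17792 D57728
theorem N35147 : nd 35147 = n57729 := ndS (p := 17792) (l := 5) rfl N17792 D57729
theorem N35148 : nd 35148 = n57730 := ndS (p := 17793) (l := 0) rfl N17793 D57730
theorem N35149 : nd 35149 = n57734 := ndS (p := 17793) (l := 5) rfl N17793 D57734
theorem N35150 : nd 35150 = n57735 := ndS (p := 17793) (l := 6) rfl N17793 D57735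
theorem N35151 : nd 35151 = n57736 := ndS (p := 17794) (l := 0) rfl N17794 D57736
theorem N35152 : nd 35152 = n57741 := ndS (p := 17795) (l := 1) rfl N17795 D57741
theorem N35153 : nd 35153 = n57742 := ndS (p := 17795) (l := 4) rfl N17795 D57742
theorem N35154 : nd 35154 = n57743 := ndS (p := 17795) (l := 6) rfl N17795 D57743
theorem N35155 : nd 35155 = n57746 := ndS (p := 17796) (l := 5) rfl N17796 D57746
theorem N35156 : nd 35156 = n57749 := ndS (p := 17797) (l := 1) rfl N17797 D57749
theorem N35157 : nd 35157 = n57750 := ndS (p := 17797) (l := 2) rfl N17797 D57750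
theorem N35158 : nd 35158 = n57751 := ndS (p := 17797) (l := 4) rfl N17797 D57751
theorem N35159 : nd 35159 = n57752 := ndS (p := 17797) (l := 5) rfl N17797 D57752
theorem N35160 : nd 35160 = n57753 := ndS (p := 17797) (l := 6) rfl N17797 D57753
theorem N35161 : nd 35161 = n57755 := ndS (p := 17798) (l := 6) rfl N17798 D57755
theorem N35162 : nd 35162 = n57756 := ndS (p := 17799) (l := 4) rfl N17799 D57756
theorem N35163 : nd 35163 = n57757 := ndS (p := 17799) (l := 6) rfl N17799 D57757
theorem N35164 : nd 35164 = n57760 := ndS (p := 17800) (l := 5) rfl N17800 D57760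
theorem N35165 : nd 35165 = n57761 := ndS (p := 17800) (l := 7) rfl N17800 D57761
theorem N35166 : nd 35166 = n57763 := ndS (p := 17801) (l := 3) rfl N17801 D57763
theorem N35167 : nd 35167 = n57764 := ndS (p := 17801) (l := 4) rfl N17801 D57764
theorem N35168 : nd 35168 = n57766 := ndS (p := 17801) (l := 6) rfl N17801 D57766
theorem N35169 : nd 35169 = n57768 := ndS (p := 17802) (l := 3) rfl N17802 D57768
theorem N35170 : nd 35170 = n57769 := ndS (p := 17802) (l := 4) rfl N17802 D57769
theorem N35171 : nd 35171 = n57771 := ndS (p := 17802) (l := 6) rfl N17802 D57771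
theorem N35172 : nd 35172 = n57772 := ndS (p := 17803) (l := 0) rfl N17803 D57772
theorem N35173 : nd 35173 = n57773 := ndS (p := 17803) (l := 1) rfl N17803 D57773
theorem N35174 : nd 35174 = n57774 := ndS (p := 17803) (l := 3) rfl N17803 D57774
theorem N35175 : nd 35175 = n57775 := ndS (p := 17803) (l := 5) rfl N17803 D57775
theorem N35176 : nd 35176 = n57776 := ndS (p := 17803) (l := 7) rfl N17803 D57776
theorem N35177 : nd 35177 = n57777 := ndS (p := 17804) (l := 6) rfl N17804 D57777
theorem N35178 : nd 35178 = n57778 := ndS (p := 17805) (l := 5) rfl N17805 D57778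
theorem N35179 : nd 35179 = n57780 := ndS (p := 17806) (l := 3) rfl N17806 D57780
theorem N35180 : nd 35180 = n57782 := ndS (p := 17806) (l := 5) rfl N17806 D57782
theorem N35181 : nd 35181 = n57783 := ndS (p := 17806) (l := 6) rfl N17806 D57783
theorem N35182 : nd 35182 = n57787 := ndS (p := 17807) (l := 5) rfl N17807 D57787
theorem N35183 : nd 35183 = n57789 := ndS (p := 17808) (l := 0) rfl N17808 D57789
theorem N35184 : nd 35184 = n57790 := ndS (p := 17808) (l := 1) rfl N17808 D57790
theorem N35185 : nd 35185 = n57791 := ndS (p := 17808) (l := 4) rfl N17808 D57791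
theorem N35186 : nd 35186 = n57796 := ndS (p := 17809) (l := 3) rfl N17809 D57796
theorem N35187 : nd 35187 = n57797 := ndS (p := 17809) (l := 5) rfl N17809 D57797
theorem N35188 : nd 35188 = n57806 := ndS (p := 17810) (l := 3) rfl N17810 D57806
theorem N35189 : nd 35189 = n57808 := ndS (p := 17810) (l := 5) rfl N17810 D57808
theorem N35190 : nd 35190 = n57815 := ndS (p := 17811) (l := 0) rfl N17811 D57815
theorem N35191 : nd 35191 = n57817 := ndS (p := 17811) (l := 2) rfl N17811 D57817
theorem N35192 : nd 35192 = n57818 := ndS (p := 17811) (l := 5) rfl N17811 D57818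
theorem N35193 : nd 35193 = n57819 := ndS (p := 17811) (l := 6) rfl N17811 D57819
theorem N35194 : nd 35194 = n57826 := ndS (p := 17813) (l := 5) rfl N17813 D57826
theorem N35195 : nd 35195 = n57854 := ndS (p := 17814) (l := 1) rfl N17814 D57854
theorem N35196 : nd 35196 = n57855 := ndS (p := 17814) (l := 2) rfl N17814 D57855
theorem N35197 : nd 35197 = n57856 := ndS (p := 17814) (l := 5) rfl N17814 D57856
theorem N35198 : nd 35198 = n57857 := ndS (p := 17814) (l := 6) rfl N17814 D57857
theorem N35199 : nd 35199 = n57858 := ndS (p := 17815) (l := 4) rfl N17815 D57858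
theorem N35200 : nd 35200 = n57859 := ndS (p := 17815) (l := 6) rfl N17815 D57859
theorem N35201 : nd 35201 = n57860 := ndS (p := 17816) (l := 0) rfl N17816 D57860
theorem N35202 : nd 35202 = n57862 := ndS (p := 17816) (l := 5) rfl N17816 D57862
theorem N35203 : nd 35203 = n57868 := ndS (p := 17817) (l := 4) rfl N17817 D57868
theorem N35204 : nd 35204 = n57878 := ndS (p := 17818) (l := 4) rfl N17818 D57878
theorem N35205 : nd 35205 = n57879 := ndS (p := 17818) (l := 5) rfl N17818 D57879
theorem N35206 : nd 35206 = n57884 := ndS (p := 17819) (l := 3) rfl N17819 D57884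
theorem N35207 : nd 35207 = n57885 := ndS (p := 17819) (l := 5) rfl N17819 D57885
theorem N35208 : nd 35208 = n57886 := ndS (p := 17819) (l := 6) rfl N17819 D57886
theorem N35209 : nd 35209 = n57889 := ndS (p := 17820) (l := 4) rfl N17820 D57889
theorem N35210 : nd 35210 = n57890 := ndS (p := 17820) (l := 6) rfl N17820 D57890
theorem N35211 : nd 35211 = n57892 := ndS (p := 17821) (l := 5) rfl N17821 D57892
theorem N35212 : nd 35212 = n57909 := ndS (p := 17822) (l := 3) rfl N17822 D57909
theorem N35213 : nd 35213 = n57910 := ndS (p := 17822) (l := 4) rfl N17822 D57910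
theorem N35214 : nd 35214 = n57911 := ndS (p := 17822) (l := 6) rfl N17822 D57911
theorem N35215 : nd 35215 = n57914 := ndS (p := 17823) (l := 4) rfl N17823 D57914
theorem N35216 : nd 35216 = n57916 := ndS (p := 17824) (l := 0) rfl N17824 D57916
theorem N35217 : nd 35217 = n57917 := ndS (p := 17824) (l := 1) rfl N17824 D57917
theorem N35218 : nd 35218 = n57918 := ndS (p := 17824) (l := 3) rfl N17824 D57918
theorem N35219 : nd 35219 = n57919 := ndS (p := 17824) (l := 5) rfl N17824 D57919
theorem N35220 : nd 35220 = n57920 := ndS (p := 17825) (l := 6) rfl N17825 D57920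
theorem N35221 : nd 35221 = n57921 := ndS (p := 17826) (l := 1) rfl N17826 D57921
theorem N35222 : nd 35222 = n57922 := ndS (p := 17826) (l := 3) rfl N17826 D57922
theorem N35223 : nd 35223 = n57923 := ndS (p := 17826) (l := 5) rfl N17826 D57923
theorem N35224 : nd 35224 = n57926 := ndS (p := 17828) (l := 3) rfl N17828 D57926
theorem N35225 : nd 35225 = n57927 := ndS (p := 17828) (l := 5) rfl N17828 D57927
theorem N35226 : nd 35226 = n57928 := ndS (p := 17828) (l := 6) rfl N17828 D57928
theorem N35227 : nd 35227 = n57930 := ndS (p := 17830) (l := 6) rfl N17830 D57930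
theorem N35228 : nd 35228 = n57931 := ndS (p := 17831) (l := 3) rfl N17831 D57931
theorem N35229 : nd 35229 = n57932 := ndS (p := 17831) (l := 5) rfl N17831 D57932
theorem N35230 : nd 35230 = n57934 := ndS (p := 17832) (l := 0) rfl N17832 D57934
theorem N35231 : nd 35231 = n57937 := ndS (p := 17833) (l := 3) rfl N17833 D57937
theorem N35232 : nd 35232 = n57938 := ndS (p := 17833) (l := 5) rfl N17833 D57938
theorem N35233 : nd 35233 = n57939 := ndS (p := 17833) (l := 6) rfl N17833 D57939
theorem N35234 : nd 35234 = n57940 := ndS (p := 17834) (l := 3) rfl N17834 D57940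
theorem N35235 : nd 35235 = n57941 := ndS (p := 17834) (l := 5) rfl N17834 D57941
theorem N35236 : nd 35236 = n57943 := ndS (p := 17835) (l := 0) rfl N17835 D57943
theorem N35237 : nd 35237 = n57944 := ndS (p := 17835) (l := 1) rfl N17835 D57944
theorem N35238 : nd 35238 = n57945 := ndS (p := 17835) (l := 2) rfl N17835 D57945
theorem N35239 : nd 35239 = n57946 := ndS (p := 17835) (l := 5) rfl N17835 D57946
theorem N35240 : nd 35240 = n57947 := ndS (p := 17836) (l := 0) rfl N17836 D57947
theorem N35241 : nd 35241 = n57948 := ndS (p := 17836) (l := 1) rfl N17836 D57948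
theorem N35242 : nd 35242 = n57949 := ndS (p := 17836) (l := 4) rfl N17836 D57949
theorem N35243 : nd 35243 = n57950 := ndS (p := 17836) (l := 6) rfl N17836 D57950
theorem N35244 : nd 35244 = n57951 := ndS (p := 17837) (l := 0) rfl N17837 D57951
theorem N35245 : nd 35245 = n57952 := ndS (p := 17837) (l := 1) rfl N17837 D57952
theorem N35246 : nd 35246 = n57953 := ndS (p := 17837) (l := 6) rfl N17837 D57953
theorem N35247 : nd 35247 = n57955 := ndS (p := 17838) (l := 5) rfl N17838 D57955
theorem N35248 : nd 35248 = n57959 := ndS (p := 17839) (l := 4) rfl N17839 D57959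
theorem N35249 : nd 35249 = n57965 := ndS (p := 17840) (l := 4) rfl N17840 D57965
theorem N35250 : nd 35250 = n57972 := ndS (p := 17842) (l := 5) rfl N17842 D57972
theorem N35251 : nd 35251 = n57975 := ndS (p := 17843) (l := 5) rfl N17843 D57975
theorem N35252 : nd 35252 = n57977 := ndS (p := 17844) (l := 3) rfl N17844 D57977
theorem N35253 : nd 35253 = n57978 := ndS (p := 17844) (l := 5) rfl N17844 D57978
theorem N35254 : nd 35254 = n57980 := ndS (p := 17845) (l := 3) rfl N17845 D57980
theorem N35255 : nd 35255 = n57981 := ndS (p := 17845) (l := 5) rfl N17845 D57981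
theorem N35256 : nd 35256 = n57983 := ndS (p := 17846) (l := 0) rfl N17846 D57983
theorem N35257 : nd 35257 = n57984 := ndS (p := 17846) (l := 1) rfl N17846 D57984
theorem N35258 : nd 35258 = n57985 := ndS (p := 17846) (l := 4) rfl N17846 D57985
theorem N35259 : nd 35259 = n57986 := ndS (p := 17846) (l := 7) rfl N17846 D57986
theorem N35260 : nd 35260 = n58002 := ndS (p := 17848) (l := 5) rfl N17848 D58002
theorem N35261 : nd 35261 = n58007 := ndS (p := 17849) (l := 4) rfl N17849 D58007
theorem N35262 : nd 35262 = n58016 := ndS (p := 17850) (l := 4) rfl N17850 D58016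
theorem N35263 : nd 35263 = n58019 := ndS (p := 17851) (l := 3) rfl N17851 D58019
theorem N35264 : nd 35264 = n58020 := ndS (p := 17851) (l := 5) rfl N17851 D58020
theorem N35265 : nd 35265 = n58022 := ndS (p := 17852) (l := 4) rfl N17852 D58022
theorem N35266 : nd 35266 = n58030 := ndS (p := 17853) (l := 4) rfl N17853 D58030
theorem N35267 : nd 35267 = n58034 := ndS (p := 17854) (l := 4) rfl N17854 D58034
theorem N35268 : nd 35268 = n58036 := ndS (p := 17855) (l := 0) rfl N17855 D58036
theorem N35269 : nd 35269 = n58037 := ndS (p := 17855) (l := 1) rfl N17855 D58037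
theorem N35270 : nd 35270 = n58038 := ndS (p := 17855) (l := 3) rfl N17855 D58038
theorem N35271 : nd 35271 = n58039 := ndS (p := 17855) (l := 5) rfl N17855 D58039
theorem N35272 : nd 35272 = n58055 := ndS (p := 17857) (l := 5) rfl N17857 D58055
theorem N35273 : nd 35273 = n58056 := ndS (p := 17858) (l := 0) rfl N17858 D58056
theorem N35274 : nd 35274 = n58057 := ndS (p := 17858) (l := 1) rfl N17858 D58057
theorem N35275 : nd 35275 = n58058 := ndS (p := 17858) (l := 4) rfl N17858 D58058
theorem N35276 : nd 35276 = n58060 := ndS (p := 17860) (l := 3) rfl N17860 D58060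
theorem N35277 : nd 35277 = n58085 := ndS (p := 17861) (l := 3) rfl N17861 D58085
theorem N35278 : nd 35278 = n58086 := ndS (p := 17862) (l := 5) rfl N17862 D58086
theorem N35279 : nd 35279 = n58088 := ndS (p := 17863) (l := 4) rfl N17863 D58088
theorem N35280 : nd 35280 = n58092 := ndS (p := 17864) (l := 4) rfl N17864 D58092
theorem N35281 : nd 35281 = n58098 := ndS (p := 17865) (l := 0) rfl N17865 D58098
theorem N35282 : nd 35282 = n58099 := ndS (p := 17865) (l := 1) rfl N17865 D58099
theorem N35283 : nd 35283 = n58100 := ndS (p := 17865) (l := 2) rfl N17865 D58100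
theorem N35284 : nd 35284 = n58101 := ndS (p := 17865) (l := 5) rfl N17865 D58101
theorem N35285 : nd 35285 = n58102 := ndS (p := 17865) (l := 7) rfl N17865 D58102
theorem N35286 : nd 35286 = n58104 := ndS (p := 17866) (l := 6) rfl N17866 D58104
theorem N35287 : nd 35287 = n58105 := ndS (p := 17866) (l := 7) rfl N17866 D58105
theorem N35288 : nd 35288 = n58106 := ndS (p := 17868) (l := 6) rfl N17868 D58106
theorem N35289 : nd 35289 = n58107 := ndS (p := 17869) (l := 1) rfl N17869 D58107
theorem N35290 : nd 35290 = n58108 := ndS (p := 17869) (l := 5) rfl N17869 D58108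
theorem N35291 : nd 35291 = n58115 := ndS (p := 17870) (l := 4) rfl N17870 D58115
theorem N35292 : nd 35292 = n58117 := ndS (p := 17871) (l := 0) rfl N17871 D58117
theorem N35293 : nd 35293 = n58118 := ndS (p := 17871) (l := 4) rfl N17871 D58118
theorem N35294 : nd 35294 = n58120 := ndS (p := 17872) (l := 0) rfl N17872 D58120
theorem N35295 : nd 35295 = n58121 := ndS (p := 17872) (l := 1) rfl N17872 D58121
theorem N35296 : nd 35296 = n58122 := ndS (p := 17872) (l := 5) rfl N17872 D58122
theorem N35297 : nd 35297 = n58125 := ndS (p := 17873) (l := 3) rfl N17873 D58125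
theorem N35298 : nd 35298 = n58127 := ndS (p := 17873) (l := 5) rfl N17873 D58127
theorem N35299 : nd 35299 = n58131 := ndS (p := 17874) (l := 5) rfl N17874 D58131
theorem N35300 : nd 35300 = n58133 := ndS (p := 17875) (l := 0) rfl N17875 D58133
theorem N35301 : nd 35301 = n58134 := ndS (p := 17875) (l := 1) rfl N17875 D58134
theorem N35302 : nd 35302 = n58135 := ndS (p := 17875) (l := 4) rfl N17875 D58135
theorem N35303 : nd 35303 = n58136 := ndS (p := 17875) (l := 7) rfl N17875 D58136
theorem N35304 : nd 35304 = n58151 := ndS (p := 17877) (l := 3) rfl N17877 D58151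
theorem N35305 : nd 35305 = n58156 := ndS (p := 17878) (l := 1) rfl N17878 D58156
theorem N35306 : nd 35306 = n58157 := ndS (p := 17878) (l := 4) rfl N17878 D58157
theorem N35307 : nd 35307 = n58170 := ndS (p := 17879) (l := 3) rfl N17879 D58170
theorem N35308 : nd 35308 = n58171 := ndS (p := 17879) (l := 5) rfl N17879 D58171
theorem N35309 : nd 35309 = n58173 := ndS (p := 17880) (l := 4) rfl N17880 D58173
theorem N35310 : nd 35310 = n58179 := ndS (p := 17881) (l := 4) rfl N17881 D58179
theorem N35311 : nd 35311 = n58184 := ndS (p := 17882) (l := 4) rfl N17882 D58184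
theorem N35312 : nd 35312 = n58186 := ndS (p := 17883) (l := 0) rfl N17883 D58186
theorem N35313 : nd 35313 = n58187 := ndS (p := 17883) (l := 1) rfl N17883 D58187
theorem N35314 : nd 35314 = n58188 := ndS (p := 17883) (l := 3) rfl N17883 D58188
theorem N35315 : nd 35315 = n58189 := ndS (p := 17883) (l := 5) rfl N17883 D58189
theorem N35316 : nd 35316 = n58190 := ndS (p := 17883) (l := 7) rfl N17883 D58190
theorem N35317 : nd 35317 = n58216 := ndS (p := 17887) (l := 3) rfl N17887 D58216
theorem N35318 : nd 35318 = n58233 := ndS (p := 17888) (l := 5) rfl N17888 D58233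
theorem N35319 : nd 35319 = n58234 := ndS (p := 17889) (l := 0) rfl N17889 D58234
theorem N35320 : nd 35320 = n58235 := ndS (p := 17889) (l := 1) rfl N17889 D58235
theorem N35321 : nd 35321 = n58236 := ndS (p := 17889) (l := 4) rfl N17889 D58236
theorem N35322 : nd 35322 = n58237 := ndS (p := 17890) (l := 3) rfl N17890 D58237
theorem N35323 : nd 35323 = n58246 := ndS (p := 17892) (l := 4) rfl N17892 D58246
theorem N35324 : nd 35324 = n58247 := ndS (p := 17892) (l := 6) rfl N17892 D58247
theorem N35325 : nd 35325 = n58248 := ndS (p := 17894) (l := 0) rfl N17894 D58248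
theorem N35326 : nd 35326 = n58249 := ndS (p := 17894) (l := 1) rfl N17894 D58249
theorem N35327 : nd 35327 = n58250 := ndS (p := 17894) (l := 2) rfl N17894 D58250
theorem N35328 : nd 35328 = n58251 := ndS (p := 17894) (l := 5) rfl N17894 D58251
theorem N35329 : nd 35329 = n58252 := ndS (p := 17894) (l := 7) rfl N17894 D58252
theorem N35330 : nd 35330 = n58254 := ndS (p := 17895) (l := 7) rfl N17895 D58254
theorem N35331 : nd 35331 = n58255 := ndS (p := 17896) (l := 6) rfl N17896 D58255
theorem N35332 : nd 35332 = n58256 := ndS (p := 17898) (l := 0) rfl N17898 D58256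
theorem N35333 : nd 35333 = n58258 := ndS (p := 17898) (l := 7) rfl N17898 D58258
theorem N35334 : nd 35334 = n58259 := ndS (p := 17899) (l := 3) rfl N17899 D58259
theorem N35335 : nd 35335 = n58260 := ndS (p := 17899) (l := 5) rfl N17899 D58260
theorem N35336 : nd 35336 = n58261 := ndS (p := 17899) (l := 6) rfl N17899 D58261
theorem N35337 : nd 35337 = n58262 := ndS (p := 17900) (l := 5) rfl N17900 D58262
theorem N35338 : nd 35338 = n58263 := ndS (p := 17900) (l := 6) rfl N17900 D58263
theorem N35339 : nd 35339 = n58264 := ndS (p := 17901) (l := 1) rfl N17901 D58264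
theorem N35340 : nd 35340 = n58265 := ndS (p := 17901) (l := 2) rfl N17901 D58265
theorem N35341 : nd 35341 = n58266 := ndS (p := 17901) (l := 6) rfl N17901 D58266
theorem N35342 : nd 35342 = n58267 := ndS (p := 17902) (l := 6) rfl N17902 D58267
theorem N35343 : nd 35343 = n58268 := ndS (p := 17903) (l := 0) rfl N17903 D58268
theorem N35344 : nd 35344 = n58269 := ndS (p := 17903) (l := 1) rfl N17903 D58269
theorem N35345 : nd 35345 = n58270 := ndS (p := 17903) (l := 5) rfl N17903 D58270
theorem N35346 : nd 35346 = n58271 := ndS (p := 17903) (l := 7) rfl N17903 D58271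
theorem N35347 : nd 35347 = n58275 := ndS (p := 17904) (l := 5) rfl N17904 D58275
theorem N35348 : nd 35348 = n58276 := ndS (p := 17904) (l := 6) rfl N17904 D58276
theorem N35349 : nd 35349 = n58282 := ndS (p := 17906) (l := 6) rfl N17906 D58282
theorem N35350 : nd 35350 = n58283 := ndS (p := 17907) (l := 3) rfl N17907 D58283
theorem N35351 : nd 35351 = n58284 := ndS (p := 17907) (l := 6) rfl N17907 D58284
theorem N35352 : nd 35352 = n58285 := ndS (p := 17908) (l := 0) rfl N17908 D58285
theorem N35353 : nd 35353 = n58286 := ndS (p := 17908) (l := 1) rfl N17908 D58286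
theorem N35354 : nd 35354 = n58287 := ndS (p := 17908) (l := 5) rfl N17908 D58287
theorem N35355 : nd 35355 = n58288 := ndS (p := 17908) (l := 7) rfl N17908 D58288
theorem N35356 : nd 35356 = n58289 := ndS (p := 17909) (l := 5) rfl N17909 D58289
theorem N35357 : nd 35357 = n58290 := ndS (p := 17909) (l := 6) rfl N17909 D58290
theorem N35358 : nd 35358 = n58291 := ndS (p := 17910) (l := 4) rfl N17910 D58291
theorem N35359 : nd 35359 = n58292 := ndS (p := 17910) (l := 6) rfl N17910 D58292
theorem N35360 : nd 35360 = n58295 := ndS (p := 17911) (l := 5) rfl N17911 D58295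
theorem N35361 : nd 35361 = n58305 := ndS (p := 17912) (l := 5) rfl N17912 D58305
theorem N35362 : nd 35362 = n58306 := ndS (p := 17912) (l := 6) rfl N17912 D58306
theorem N35363 : nd 35363 = n58308 := ndS (p := 17913) (l := 1) rfl N17913 D58308
theorem N35364 : nd 35364 = n58309 := ndS (p := 17913) (l := 7) rfl N17913 D58309
theorem N35365 : nd 35365 = n58311 := ndS (p := 17915) (l := 3) rfl N17915 D58311
theorem N35366 : nd 35366 = n58312 := ndS (p := 17915) (l := 4) rfl N17915 D58312
theorem N35367 : nd 35367 = n58313 := ndS (p := 17915) (l := 5) rfl N17915 D58313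
theorem N35368 : nd 35368 = n58314 := ndS (p := 17915) (l := 6) rfl N17915 D58314
theorem N35369 : nd 35369 = n58316 := ndS (p := 17916) (l := 3) rfl N17916 D58316
theorem N35370 : nd 35370 = n58317 := ndS (p := 17916) (l := 4) rfl N17916 D58317
theorem N35371 : nd 35371 = n58318 := ndS (p := 17916) (l := 5) rfl N17916 D58318
theorem N35372 : nd 35372 = n58319 := ndS (p := 17916) (l := 6) rfl N17916 D58319
theorem N35373 : nd 35373 = n58320 := ndS (p := 17917) (l := 0) rfl N17917 D58320
theorem N35374 : nd 35374 = n58321 := ndS (p := 17917) (l := 1) rfl N17917 D58321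
theorem N35375 : nd 35375 = n58322 := ndS (p := 17917) (l := 4) rfl N17917 D58322
theorem N35376 : nd 35376 = n58323 := ndS (p := 17917) (l := 7) rfl N17917 D58323
theorem N35377 : nd 35377 = n58330 := ndS (p := 17919) (l := 0) rfl N17919 D58330
theorem N35378 : nd 35378 = n58332 := ndS (p := 17919) (l := 2) rfl N17919 D58332
theorem N35379 : nd 35379 = n58333 := ndS (p := 17919) (l := 4) rfl N17919 D58333
theorem N35380 : nd 35380 = n58335 := ndS (p := 17919) (l := 6) rfl N17919 D58335
theorem N35381 : nd 35381 = n58337 := ndS (p := 17920) (l := 0) rfl N17920 D58337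
theorem N35382 : nd 35382 = n58339 := ndS (p := 17920) (l := 3) rfl N17920 D58339
theorem N35383 : nd 35383 = n58340 := ndS (p := 17920) (l := 5) rfl N17920 D58340
theorem N35384 : nd 35384 = n58343 := ndS (p := 17921) (l := 0) rfl N17921 D58343
theorem N35385 : nd 35385 = n58344 := ndS (p := 17921) (l := 1) rfl N17921 D58344
theorem N35386 : nd 35386 = n58345 := ndS (p := 17921) (l := 4) rfl N17921 D58345
theorem N35387 : nd 35387 = n58346 := ndS (p := 17921) (l := 6) rfl N17921 D58346
theorem N35388 : nd 35388 = n58350 := ndS (p := 17922) (l := 5) rfl N17922 D58350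
theorem N35389 : nd 35389 = n58351 := ndS (p := 17922) (l := 7) rfl N17922 D58351
theorem N35390 : nd 35390 = n58354 := ndS (p := 17923) (l := 1) rfl N17923 D58354
theorem N35391 : nd 35391 = n58355 := ndS (p := 17923) (l := 2) rfl N17923 D58355
theorem N35392 : nd 35392 = n58356 := ndS (p := 17923) (l := 4) rfl N17923 D58356
theorem N35393 : nd 35393 = n58357 := ndS (p := 17923) (l := 5) rfl N17923 D58357
theorem N35394 : nd 35394 = n58358 := ndS (p := 17923) (l := 6) rfl N17923 D58358
theorem N35395 : nd 35395 = n58359 := ndS (p := 17924) (l := 3) rfl N17924 D58359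
theorem N35396 : nd 35396 = n58360 := ndS (p := 17924) (l := 5) rfl N17924 D58360
theorem N35397 : nd 35397 = n58361 := ndS (p := 17924) (l := 6) rfl N17924 D58361
theorem N35398 : nd 35398 = n58362 := ndS (p := 17925) (l := 4) rfl N17925 D58362
theorem N35399 : nd 35399 = n58363 := ndS (p := 17925) (l := 6) rfl N17925 D58363
theorem N35400 : nd 35400 = n58366 := ndS (p := 17926) (l := 5) rfl N17926 D58366
theorem N35401 : nd 35401 = n58367 := ndS (p := 17926) (l := 7) rfl N17926 D58367
theorem N35402 : nd 35402 = n58370 := ndS (p := 17927) (l := 4) rfl N17927 D58370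
theorem N35403 : nd 35403 = n58371 := ndS (p := 17927) (l := 5) rfl N17927 D58371
theorem N35404 : nd 35404 = n58374 := ndS (p := 17928) (l := 3) rfl N17928 D58374
theorem N35405 : nd 35405 = n58375 := ndS (p := 17928) (l := 4) rfl N17928 D58375
theorem N35406 : nd 35406 = n58376 := ndS (p := 17928) (l := 5) rfl N17928 D58376
theorem N35407 : nd 35407 = n58377 := ndS (p := 17928) (l := 6) rfl N17928 D58377
theorem N35408 : nd 35408 = n58378 := ndS (p := 17929) (l := 0) rfl N17929 D58378
theorem N35409 : nd 35409 = n58379 := ndS (p := 17929) (l := 1) rfl N17929 D58379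
theorem N35410 : nd 35410 = n58381 := ndS (p := 17929) (l := 5) rfl N17929 D58381
theorem N35411 : nd 35411 = n58382 := ndS (p := 17929) (l := 7) rfl N17929 D58382
theorem N35412 : nd 35412 = n58383 := ndS (p := 17930) (l := 6) rfl N17930 D58383
theorem N35413 : nd 35413 = n58386 := ndS (p := 17931) (l := 4) rfl N17931 D58386
theorem N35414 : nd 35414 = n58387 := ndS (p := 17931) (l := 5) rfl N17931 D58387
theorem N35415 : nd 35415 = n58394 := ndS (p := 17932) (l := 4) rfl N17932 D58394
theorem N35416 : nd 35416 = n58395 := ndS (p := 17932) (l := 5) rfl N17932 D58395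
theorem N35417 : nd 35417 = n58397 := ndS (p := 17933) (l := 0) rfl N17933 D58397
theorem N35418 : nd 35418 = n58401 := ndS (p := 17934) (l := 0) rfl N17934 D58401
theorem N35419 : nd 35419 = n58402 := ndS (p := 17934) (l := 1) rfl N17934 D58402
theorem N35420 : nd 35420 = n58403 := ndS (p := 17934) (l := 4) rfl N17934 D58403
theorem N35421 : nd 35421 = n58404 := ndS (p := 17934) (l := 6) rfl N17934 D58404
theorem N35422 : nd 35422 = n58408 := ndS (p := 17935) (l := 3) rfl N17935 D58408
theorem N35423 : nd 35423 = n58409 := ndS (p := 17935) (l := 4) rfl N17935 D58409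
theorem N35424 : nd 35424 = n58410 := ndS (p := 17935) (l := 6) rfl N17935 D58410
theorem N35425 : nd 35425 = n58412 := ndS (p := 17936) (l := 4) rfl N17936 D58412
theorem N35426 : nd 35426 = n58413 := ndS (p := 17937) (l := 3) rfl N17937 D58413
theorem N35427 : nd 35427 = n58414 := ndS (p := 17937) (l := 6) rfl N17937 D58414
theorem N35428 : nd 35428 = n58415 := ndS (p := 17938) (l := 0) rfl N17938 D58415
theorem N35429 : nd 35429 = n58416 := ndS (p := 17938) (l := 1) rfl N17938 D58416
theorem N35430 : nd 35430 = n58417 := ndS (p := 17938) (l := 7) rfl N17938 D58417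
theorem N35431 : nd 35431 = n58425 := ndS (p := 17939) (l := 4) rfl N17939 D58425
theorem N35432 : nd 35432 = n58428 := ndS (p := 17940) (l := 4) rfl N17940 D58428
theorem N35433 : nd 35433 = n58430 := ndS (p := 17940) (l := 6) rfl N17940 D58430
theorem N35434 : nd 35434 = n58432 := ndS (p := 17941) (l := 1) rfl N17941 D58432
theorem N35435 : nd 35435 = n58433 := ndS (p := 17941) (l := 5) rfl N17941 D58433
theorem N35436 : nd 35436 = n58434 := ndS (p := 17941) (l := 6) rfl N17941 D58434
theorem N35437 : nd 35437 = n58437 := ndS (p := 17942) (l := 4) rfl N17942 D58437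
theorem N35438 : nd 35438 = n58439 := ndS (p := 17943) (l := 0) rfl N17943 D58439
theorem N35439 : nd 35439 = n58440 := ndS (p := 17943) (l := 1) rfl N17943 D58440
theorem N35440 : nd 35440 = n58442 := ndS (p := 17943) (l := 7) rfl N17943 D58442
theorem N35441 : nd 35441 = n58443 := ndS (p := 17944) (l := 3) rfl N17944 D58443
theorem N35442 : nd 35442 = n58444 := ndS (p := 17944) (l := 6) rfl N17944 D58444
theorem N35443 : nd 35443 = n58451 := ndS (p := 17947) (l := 2) rfl N17947 D58451
theorem N35444 : nd 35444 = n58452 := ndS (p := 17947) (l := 4) rfl N17947 D58452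
theorem N35445 : nd 35445 = n58455 := ndS (p := 17948) (l := 3) rfl N17948 D58455
theorem N35446 : nd 35446 = n58456 := ndS (p := 17948) (l := 6) rfl N17948 D58456
theorem N35447 : nd 35447 = n58458 := ndS (p := 17950) (l := 1) rfl N17950 D58458
theorem N35448 : nd 35448 = n58459 := ndS (p := 17950) (l := 7) rfl N17950 D58459
theorem N35449 : nd 35449 = n58463 := ndS (p := 17951) (l := 4) rfl N17951 D58463
theorem N35450 : nd 35450 = n58464 := ndS (p := 17951) (l := 6) rfl N17951 D58464
theorem N35451 : nd 35451 = n58465 := ndS (p := 17952) (l := 3) rfl N17952 D58465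
theorem N35452 : nd 35452 = n58467 := ndS (p := 17953) (l := 0) rfl N17953 D58467
theorem N35453 : nd 35453 = n58468 := ndS (p := 17953) (l := 1) rfl N17953 D58468
theorem N35454 : nd 35454 = n58469 := ndS (p := 17953) (l := 7) rfl N17953 D58469
theorem N35455 : nd 35455 = n58470 := ndS (p := 17954) (l := 3) rfl N17954 D58470
theorem N35456 : nd 35456 = n58474 := ndS (p := 17956) (l := 0) rfl N17956 D58474
theorem N35457 : nd 35457 = n58475 := ndS (p := 17956) (l := 1) rfl N17956 D58475
theorem N35458 : nd 35458 = n58476 := ndS (p := 17956) (l := 2) rfl N17956 D58476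
theorem N35459 : nd 35459 = n58477 := ndS (p := 17956) (l := 5) rfl N17956 D58477
theorem N35460 : nd 35460 = n58478 := ndS (p := 17956) (l := 7) rfl N17956 D58478
theorem N35461 : nd 35461 = n58479 := ndS (p := 17957) (l := 6) rfl N17957 D58479
theorem N35462 : nd 35462 = n58480 := ndS (p := 17958) (l := 6) rfl N17958 D58480
theorem N35463 : nd 35463 = n58483 := ndS (p := 17960) (l := 5) rfl N17960 D58483
theorem N35464 : nd 35464 = n58501 := ndS (p := 17961) (l := 3) rfl N17961 D58501
theorem N35465 : nd 35465 = n58502 := ndS (p := 17961) (l := 5) rfl N17961 D58502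
theorem N35466 : nd 35466 = n58503 := ndS (p := 17962) (l := 0) rfl N17962 D58503
theorem N35467 : nd 35467 = n58505 := ndS (p := 17962) (l := 2) rfl N17962 D58505
theorem N35468 : nd 35468 = n58506 := ndS (p := 17962) (l := 5) rfl N17962 D58506
theorem N35469 : nd 35469 = n58507 := ndS (p := 17963) (l := 0) rfl N17963 D58507
theorem N35470 : nd 35470 = n58508 := ndS (p := 17963) (l := 1) rfl N17963 D58508
theorem N35471 : nd 35471 = n58525 := ndS (p := 17964) (l := 0) rfl N17964 D58525
theorem N35472 : nd 35472 = n58526 := ndS (p := 17964) (l := 1) rfl N17964 D58526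
theorem N35473 : nd 35473 = n58527 := ndS (p := 17964) (l := 2) rfl N17964 D58527
theorem N35474 : nd 35474 = n58528 := ndS (p := 17964) (l := 4) rfl N17964 D58528
theorem N35475 : nd 35475 = n58529 := ndS (p := 17964) (l := 5) rfl N17964 D58529
theorem N35476 : nd 35476 = n58530 := ndS (p := 17965) (l := 6) rfl N17965 D58530
theorem N35477 : nd 35477 = n58532 := ndS (p := 17966) (l := 3) rfl N17966 D58532
theorem N35478 : nd 35478 = n58542 := ndS (p := 17968) (l := 0) rfl N17968 D58542
theorem N35479 : nd 35479 = n58543 := ndS (p := 17968) (l := 1) rfl N17968 D58543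
theorem N35480 : nd 35480 = n58544 := ndS (p := 17968) (l := 4) rfl N17968 D58544
theorem N35481 : nd 35481 = n58545 := ndS (p := 17968) (l := 6) rfl N17968 D58545
theorem N35482 : nd 35482 = n58546 := ndS (p := 17969) (l := 3) rfl N17969 D58546
theorem N35483 : nd 35483 = n58547 := ndS (p := 17969) (l := 6) rfl N17969 D58547
theorem N35484 : nd 35484 = n58548 := ndS (p := 17970) (l := 3) rfl N17970 D58548
theorem N35485 : nd 35485 = n58549 := ndS (p := 17971) (l := 3) rfl N17971 D58549
theorem N35486 : nd 35486 = n58550 := ndS (p := 17971) (l := 6) rfl N17971 D58550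
theorem N35487 : nd 35487 = n58551 := ndS (p := 17972) (l := 0) rfl N17972 D58551
theorem N35488 : nd 35488 = n58552 := ndS (p := 17972) (l := 1) rfl N17972 D58552
theorem N35489 : nd 35489 = n58553 := ndS (p := 17972) (l := 7) rfl N17972 D58553
theorem N35490 : nd 35490 = n58554 := ndS (p := 17973) (l := 0) rfl N17973 D58554
theorem N35491 : nd 35491 = n58556 := ndS (p := 17973) (l := 2) rfl N17973 D58556
theorem N35492 : nd 35492 = n58557 := ndS (p := 17973) (l := 5) rfl N17973 D58557
theorem N35493 : nd 35493 = n58558 := ndS (p := 17974) (l := 6) rfl N17974 D58558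
theorem N35494 : nd 35494 = n58574 := ndS (p := 17976) (l := 3) rfl N17976 D58574
theorem N35495 : nd 35495 = n58576 := ndS (p := 17976) (l := 6) rfl N17976 D58576
theorem N35496 : nd 35496 = n58588 := ndS (p := 17978) (l := 0) rfl N17978 D58588
theorem N35497 : nd 35497 = n58612 := ndS (p := 17979) (l := 6) rfl N17979 D58612
theorem N35498 : nd 35498 = n58617 := ndS (p := 17980) (l := 0) rfl N17980 D58617
theorem N35499 : nd 35499 = n58621 := ndS (p := 17981) (l := 6) rfl N17981 D58621
theorem N35500 : nd 35500 = n58626 := ndS (p := 17983) (l := 3) rfl N17983 D58626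
theorem N35501 : nd 35501 = n58651 := ndS (p := 17984) (l := 4) rfl N17984 D58651
theorem N35502 : nd 35502 = n58653 := ndS (p := 17985) (l := 3) rfl N17985 D58653
theorem N35503 : nd 35503 = n58654 := ndS (p := 17985) (l := 5) rfl N17985 D58654
theorem N35504 : nd 35504 = n58655 := ndS (p := 17985) (l := 6) rfl N17985 D58655
theorem N35505 : nd 35505 = n58675 := ndS (p := 17988) (l := 4) rfl N17988 D58675
theorem N35506 : nd 35506 = n58678 := ndS (p := 17989) (l := 3) rfl N17989 D58678
theorem N35507 : nd 35507 = n58682 := ndS (p := 17990) (l := 4) rfl N17990 D58682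
theorem N35508 : nd 35508 = n58683 := ndS (p := 17990) (l := 6) rfl N17990 D58683
theorem N35509 : nd 35509 = n58684 := ndS (p := 17991) (l := 3) rfl N17991 D58684
theorem N35510 : nd 35510 = n58687 := ndS (p := 17992) (l := 0) rfl N17992 D58687
theorem N35511 : nd 35511 = n58688 := ndS (p := 17992) (l := 1) rfl N17992 D58688
theorem N35512 : nd 35512 = n58691 := ndS (p := 17993) (l := 4) rfl N17993 D58691
theorem N35513 : nd 35513 = n58692 := ndS (p := 17994) (l := 3) rfl N17994 D58692
theorem N35514 : nd 35514 = n58693 := ndS (p := 17994) (l := 5) rfl N17994 D58693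
theorem N35515 : nd 35515 = n58694 := ndS (p := 17995) (l := 3) rfl N17995 D58694
theorem N35516 : nd 35516 = n58697 := ndS (p := 17996) (l := 3) rfl N17996 D58697
theorem N35517 : nd 35517 = n58698 := ndS (p := 17996) (l := 5) rfl N17996 D58698
theorem N35518 : nd 35518 = n58699 := ndS (p := 17997) (l := 0) rfl N17997 D58699
theorem N35519 : nd 35519 = n58700 := ndS (p := 17997) (l := 1) rfl N17997 D58700
theorem N35520 : nd 35520 = n58701 := ndS (p := 17997) (l := 2) rfl N17997 D58701
theorem N35521 : nd 35521 = n58702 := ndS (p := 17997) (l := 5) rfl N17997 D58702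
theorem N35522 : nd 35522 = n58703 := ndS (p := 17998) (l := 0) rfl N17998 D58703
theorem N35523 : nd 35523 = n58705 := ndS (p := 17999) (l := 0) rfl N17999 D58705
theorem N35524 : nd 35524 = n58706 := ndS (p := 17999) (l := 1) rfl N17999 D58706
theorem N35525 : nd 35525 = n58707 := ndS (p := 17999) (l := 2) rfl N17999 D58707
theorem N35526 : nd 35526 = n58708 := ndS (p := 17999) (l := 6) rfl N17999 D58708
theorem N35527 : nd 35527 = n58710 := ndS (p := 18002) (l := 3) rfl N18002 D58710
theorem N35528 : nd 35528 = n58711 := ndS (p := 18002) (l := 5) rfl N18002 D58711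
theorem N35529 : nd 35529 = n58715 := ndS (p := 18003) (l := 0) rfl N18003 D58715
theorem N35530 : nd 35530 = n58716 := ndS (p := 18003) (l := 1) rfl N18003 D58716
theorem N35531 : nd 35531 = n58717 := ndS (p := 18003) (l := 2) rfl N18003 D58717
theorem N35532 : nd 35532 = n58718 := ndS (p := 18003) (l := 6) rfl N18003 D58718
theorem N35533 : nd 35533 = n58721 := ndS (p := 18005) (l := 5) rfl N18005 D58721
theorem N35534 : nd 35534 = n58725 := ndS (p := 18007) (l := 3) rfl N18007 D58725
theorem N35535 : nd 35535 = n58726 := ndS (p := 18007) (l := 4) rfl N18007 D58726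
theorem N35536 : nd 35536 = n58728 := ndS (p := 18007) (l := 6) rfl N18007 D58728
theorem N35537 : nd 35537 = n58730 := ndS (p := 18008) (l := 3) rfl N18008 D58730
theorem N35538 : nd 35538 = n58731 := ndS (p := 18008) (l := 4) rfl N18008 D58731
theorem N35539 : nd 35539 = n58733 := ndS (p := 18008) (l := 6) rfl N18008 D58733
theorem N35540 : nd 35540 = n58734 := ndS (p := 18011) (l := 4) rfl N18011 D58734
theorem N35541 : nd 35541 = n58735 := ndS (p := 18011) (l := 6) rfl N18011 D58735
theorem N35542 : nd 35542 = n58736 := ndS (p := 18013) (l := 4) rfl N18013 D58736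
theorem N35543 : nd 35543 = n58737 := ndS (p := 18013) (l := 6) rfl N18013 D58737
theorem N35544 : nd 35544 = n58738 := ndS (p := 18014) (l := 6) rfl N18014 D58738
theorem N35545 : nd 35545 = n58739 := ndS (p := 18015) (l := 6) rfl N18015 D58739
theorem N35546 : nd 35546 = n58740 := ndS (p := 18016) (l := 3) rfl N18016 D58740
theorem N35547 : nd 35547 = n58741 := ndS (p := 18016) (l := 5) rfl N18016 D58741
theorem N35548 : nd 35548 = n58742 := ndS (p := 18017) (l := 6) rfl N18017 D58742
theorem N35549 : nd 35549 = n58743 := ndS (p := 18018) (l := 3) rfl N18018 D58743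
theorem N35550 : nd 35550 = n58744 := ndS (p := 18018) (l := 6) rfl N18018 D58744
theorem N35551 : nd 35551 = n58745 := ndS (p := 18020) (l := 0) rfl N18020 D58745
theorem N35552 : nd 35552 = n58746 := ndS (p := 18020) (l := 1) rfl N18020 D58746
theorem N35553 : nd 35553 = n58747 := ndS (p := 18020) (l := 7) rfl N18020 D58747
theorem N35554 : nd 35554 = n58748 := ndS (p := 18021) (l := 3) rfl N18021 D58748
theorem N35555 : nd 35555 = n58749 := ndS (p := 18021) (l := 5) rfl N18021 D58749
theorem N35556 : nd 35556 = n58750 := ndS (p := 18021) (l := 6) rfl N18021 D58750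
theorem N35557 : nd 35557 = n58751 := ndS (p := 18022) (l := 3) rfl N18022 D58751
theorem N35558 : nd 35558 = n58752 := ndS (p := 18022) (l := 5) rfl N18022 D58752
theorem N35559 : nd 35559 = n58753 := ndS (p := 18022) (l := 6) rfl N18022 D58753
theorem N35560 : nd 35560 = n58754 := ndS (p := 18023) (l := 0) rfl N18023 D58754
theorem N35561 : nd 35561 = n58755 := ndS (p := 18023) (l := 1) rfl N18023 D58755
theorem N35562 : nd 35562 = n58756 := ndS (p := 18023) (l := 2) rfl N18023 D58756
theorem N35563 : nd 35563 = n58757 := ndS (p := 18023) (l := 5) rfl N18023 D58757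
theorem N35564 : nd 35564 = n58758 := ndS (p := 18023) (l := 7) rfl N18023 D58758
theorem N35565 : nd 35565 = n58759 := ndS (p := 18024) (l := 0) rfl N18024 D58759
theorem N35566 : nd 35566 = n58760 := ndS (p := 18024) (l := 1) rfl N18024 D58760
theorem N35567 : nd 35567 = n58761 := ndS (p := 18024) (l := 4) rfl N18024 D58761
theorem N35568 : nd 35568 = n58762 := ndS (p := 18024) (l := 7) rfl N18024 D58762
theorem N35569 : nd 35569 = n58763 := ndS (p := 18027) (l := 6) rfl N18027 D58763
theorem N35570 : nd 35570 = n58764 := ndS (p := 18029) (l := 0) rfl N18029 D58764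
theorem N35571 : nd 35571 = n58765 := ndS (p := 18029) (l := 3) rfl N18029 D58765
theorem N35572 : nd 35572 = n58766 := ndS (p := 18029) (l := 5) rfl N18029 D58766
theorem N35573 : nd 35573 = n58767 := ndS (p := 18029) (l := 6) rfl N18029 D58767
theorem N35574 : nd 35574 = n58771 := ndS (p := 18031) (l := 3) rfl N18031 D58771
theorem N35575 : nd 35575 = n58772 := ndS (p := 18031) (l := 5) rfl N18031 D58772
theorem N35576 : nd 35576 = n58773 := ndS (p := 18031) (l := 6) rfl N18031 D58773
theorem N35577 : nd 35577 = n58774 := ndS (p := 18033) (l := 6) rfl N18033 D58774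
theorem N35578 : nd 35578 = n58775 := ndS (p := 18034) (l := 3) rfl N18034 D58775
theorem N35579 : nd 35579 = n58776 := ndS (p := 18034) (l := 5) rfl N18034 D58776
theorem N35580 : nd 35580 = n58777 := ndS (p := 18034) (l := 6) rfl N18034 D58777
theorem N35581 : nd 35581 = n58779 := ndS (p := 18035) (l := 1) rfl N18035 D58779
theorem N35582 : nd 35582 = n58780 := ndS (p := 18036) (l := 5) rfl N18036 D58780
theorem N35583 : nd 35583 = n58781 := ndS (p := 18036) (l := 6) rfl N18036 D58781
theorem N35584 : nd 35584 = n58782 := ndS (p := 18037) (l := 0) rfl N18037 D58782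
theorem N35585 : nd 35585 = n58784 := ndS (p := 18037) (l := 7) rfl N18037 D58784
theorem N35586 : nd 35586 = n58785 := ndS (p := 18038) (l := 0) rfl N18038 D58785
theorem N35587 : nd 35587 = n58786 := ndS (p := 18038) (l := 1) rfl N18038 D58786
theorem N35588 : nd 35588 = n58787 := ndS (p := 18038) (l := 2) rfl N18038 D58787
theorem N35589 : nd 35589 = n58788 := ndS (p := 18038) (l := 5) rfl N18038 D58788
theorem N35590 : nd 35590 = n58789 := ndS (p := 18038) (l := 7) rfl N18038 D58789
theorem N35591 : nd 35591 = n58790 := ndS (p := 18039) (l := 6) rfl N18039 D58790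
theorem N35592 : nd 35592 = n58791 := ndS (p := 18040) (l := 6) rfl N18040 D58791
theorem N35593 : nd 35593 = n58792 := ndS (p := 18043) (l := 3) rfl N18043 D58792
theorem N35594 : nd 35594 = n58793 := ndS (p := 18043) (l := 6) rfl N18043 D58793
theorem N35595 : nd 35595 = n58794 := ndS (p := 18044) (l := 0) rfl N18044 D58794
theorem N35596 : nd 35596 = n58795 := ndS (p := 18044) (l := 1) rfl N18044 D58795
theorem N35597 : nd 35597 = n58796 := ndS (p := 18044) (l := 7) rfl N18044 D58796
theorem N35598 : nd 35598 = n58797 := ndS (p := 18046) (l := 6) rfl N18046 D58797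
theorem N35599 : nd 35599 = n58798 := ndS (p := 18047) (l := 3) rfl N18047 D58798
theorem N35600 : nd 35600 = n58799 := ndS (p := 18047) (l := 6) rfl N18047 D58799
theorem N35601 : nd 35601 = n58800 := ndS (p := 18048) (l := 0) rfl N18048 D58800
theorem N35602 : nd 35602 = n58802 := ndS (p := 18048) (l := 7) rfl N18048 D58802
theorem N35603 : nd 35603 = n58803 := ndS (p := 18050) (l := 3) rfl N18050 D58803
theorem N35604 : nd 35604 = n58804 := ndS (p := 18050) (l := 5) rfl N18050 D58804
theorem N35605 : nd 35605 = n58805 := ndS (p := 18050) (l := 6) rfl N18050 D58805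
theorem N35606 : nd 35606 = n58806 := ndS (p := 18051) (l := 0) rfl N18051 D58806
theorem N35607 : nd 35607 = n58807 := ndS (p := 18051) (l := 1) rfl N18051 D58807
theorem N35608 : nd 35608 = n58808 := ndS (p := 18051) (l := 7) rfl N18051 D58808
theorem N35609 : nd 35609 = n58809 := ndS (p := 18052) (l := 3) rfl N18052 D58809
theorem N35610 : nd 35610 = n58810 := ndS (p := 18052) (l := 5) rfl N18052 D58810
theorem N35611 : nd 35611 = n58811 := ndS (p := 18052) (l := 6) rfl N18052 D58811
theorem N35612 : nd 35612 = n58812 := ndS (p := 18053) (l := 3) rfl N18053 D58812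
theorem N35613 : nd 35613 = n58813 := ndS (p := 18053) (l := 5) rfl N18053 D58813
theorem N35614 : nd 35614 = n58814 := ndS (p := 18053) (l := 6) rfl N18053 D58814
theorem N35615 : nd 35615 = n58815 := ndS (p := 18054) (l := 0) rfl N18054 D58815
theorem N35616 : nd 35616 = n58816 := ndS (p := 18054) (l := 1) rfl N18054 D58816
theorem N35617 : nd 35617 = n58817 := ndS (p := 18054) (l := 2) rfl N18054 D58817
theorem N35618 : nd 35618 = n58818 := ndS (p := 18054) (l := 5) rfl N18054 D58818
theorem N35619 : nd 35619 = n58819 := ndS (p := 18054) (l := 6) rfl N18054 D58819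
theorem N35620 : nd 35620 = n58820 := ndS (p := 18055) (l := 0) rfl N18055 D58820
theorem N35621 : nd 35621 = n58821 := ndS (p := 18055) (l := 6) rfl N18055 D58821
theorem N35622 : nd 35622 = n58822 := ndS (p := 18056) (l := 0) rfl N18056 D58822
theorem N35623 : nd 35623 = n58823 := ndS (p := 18056) (l := 1) rfl N18056 D58823
theorem N35624 : nd 35624 = n58824 := ndS (p := 18056) (l := 5) rfl N18056 D58824
theorem N35625 : nd 35625 = n58825 := ndS (p := 18056) (l := 7) rfl N18056 D58825
theorem N35626 : nd 35626 = n58828 := ndS (p := 18057) (l := 4) rfl N18057 D58828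
theorem N35627 : nd 35627 = n58833 := ndS (p := 18058) (l := 0) rfl N18058 D58833
theorem N35628 : nd 35628 = n58835 := ndS (p := 18058) (l := 4) rfl N18058 D58835
theorem N35629 : nd 35629 = n58836 := ndS (p := 18058) (l := 7) rfl N18058 D58836
theorem N35630 : nd 35630 = n58837 := ndS (p := 18060) (l := 3) rfl N18060 D58837
theorem N35631 : nd 35631 = n58838 := ndS (p := 18060) (l := 5) rfl N18060 D58838
theorem N35632 : nd 35632 = n58839 := ndS (p := 18061) (l := 6) rfl N18061 D58839
theorem N35633 : nd 35633 = n58840 := ndS (p := 18062) (l := 6) rfl N18062 D58840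
theorem N35634 : nd 35634 = n58841 := ndS (p := 18063) (l := 3) rfl N18063 D58841
theorem N35635 : nd 35635 = n58842 := ndS (p := 18063) (l := 5) rfl N18063 D58842
theorem N35636 : nd 35636 = n58843 := ndS (p := 18063) (l := 6) rfl N18063 D58843
theorem N35637 : nd 35637 = n58844 := ndS (p := 18064) (l := 0) rfl N18064 D58844
theorem N35638 : nd 35638 = n58845 := ndS (p := 18064) (l := 7) rfl N18064 D58845
theorem N35639 : nd 35639 = n58846 := ndS (p := 18066) (l := 3) rfl N18066 D58846
theorem N35640 : nd 35640 = n58847 := ndS (p := 18066) (l := 6) rfl N18066 D58847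
theorem N35641 : nd 35641 = n58848 := ndS (p := 18067) (l := 0) rfl N18067 D58848
theorem N35642 : nd 35642 = n58849 := ndS (p := 18067) (l := 7) rfl N18067 D58849
theorem N35643 : nd 35643 = n58850 := ndS (p := 18068) (l := 0) rfl N18068 D58850
theorem N35644 : nd 35644 = n58851 := ndS (p := 18068) (l := 1) rfl N18068 D58851
theorem N35645 : nd 35645 = n58852 := ndS (p := 18068) (l := 2) rfl N18068 D58852
theorem N35646 : nd 35646 = n58853 := ndS (p := 18068) (l := 5) rfl N18068 D58853
theorem N35647 : nd 35647 = n58854 := ndS (p := 18068) (l := 6) rfl N18068 D58854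
theorem N35648 : nd 35648 = n58855 := ndS (p := 18069) (l := 6) rfl N18069 D58855
theorem N35649 : nd 35649 = n58856 := ndS (p := 18070) (l := 0) rfl N18070 D58856
theorem N35650 : nd 35650 = n58857 := ndS (p := 18070) (l := 1) rfl N18070 D58857
theorem N35651 : nd 35651 = n58858 := ndS (p := 18070) (l := 5) rfl N18070 D58858
theorem N35652 : nd 35652 = n58859 := ndS (p := 18070) (l := 7) rfl N18070 D58859
theorem N35653 : nd 35653 = n58860 := ndS (p := 18073) (l := 0) rfl N18073 D58860
theorem N35654 : nd 35654 = n58861 := ndS (p := 18073) (l := 1) rfl N18073 D58861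
theorem N35655 : nd 35655 = n58862 := ndS (p := 18073) (l := 7) rfl N18073 D58862
theorem N35656 : nd 35656 = n58863 := ndS (p := 18074) (l := 3) rfl N18074 D58863
theorem N35657 : nd 35657 = n58864 := ndS (p := 18074) (l := 6) rfl N18074 D58864
theorem N35658 : nd 35658 = n58865 := ndS (p := 18075) (l := 0) rfl N18075 D58865
theorem N35659 : nd 35659 = n58866 := ndS (p := 18075) (l := 1) rfl N18075 D58866
theorem N35660 : nd 35660 = n58867 := ndS (p := 18075) (l := 2) rfl N18075 D58867
theorem N35661 : nd 35661 = n58868 := ndS (p := 18075) (l := 5) rfl N18075 D58868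
theorem N35662 : nd 35662 = n58869 := ndS (p := 18075) (l := 6) rfl N18075 D58869
theorem N35663 : nd 35663 = n58870 := ndS (p := 18076) (l := 0) rfl N18076 D58870
theorem N35664 : nd 35664 = n58871 := ndS (p := 18076) (l := 1) rfl N18076 D58871
theorem N35665 : nd 35665 = n58872 := ndS (p := 18076) (l := 6) rfl N18076 D58872
theorem N35666 : nd 35666 = n58873 := ndS (p := 18077) (l := 0) rfl N18077 D58873
theorem N35667 : nd 35667 = n58874 := ndS (p := 18077) (l := 1) rfl N18077 D58874
theorem N35668 : nd 35668 = n58875 := ndS (p := 18077) (l := 5) rfl N18077 D58875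
theorem N35669 : nd 35669 = n58876 := ndS (p := 18077) (l := 7) rfl N18077 D58876
theorem N35670 : nd 35670 = n58879 := ndS (p := 18078) (l := 4) rfl N18078 D58879
theorem N35671 : nd 35671 = n58880 := ndS (p := 18078) (l := 5) rfl N18078 D58880
theorem N35672 : nd 35672 = n58883 := ndS (p := 18079) (l := 4) rfl N18079 D58883
theorem N35673 : nd 35673 = n58884 := ndS (p := 18079) (l := 6) rfl N18079 D58884
theorem N35674 : nd 35674 = n58885 := ndS (p := 18081) (l := 6) rfl N18081 D58885
theorem N35675 : nd 35675 = n58886 := ndS (p := 18082) (l := 3) rfl N18082 D58886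
theorem N35676 : nd 35676 = n58887 := ndS (p := 18082) (l := 5) rfl N18082 D58887
theorem N35677 : nd 35677 = n58888 := ndS (p := 18082) (l := 6) rfl N18082 D58888
theorem N35678 : nd 35678 = n58889 := ndS (p := 18083) (l := 0) rfl N18083 D58889
theorem N35679 : nd 35679 = n58890 := ndS (p := 18083) (l := 1) rfl N18083 D58890
theorem N35680 : nd 35680 = n58891 := ndS (p := 18083) (l := 5) rfl N18083 D58891
theorem N35681 : nd 35681 = n58892 := ndS (p := 18083) (l := 7) rfl N18083 D58892
theorem N35682 : nd 35682 = n58893 := ndS (p := 18084) (l := 0) rfl N18084 D58893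
theorem N35683 : nd 35683 = n58894 := ndS (p := 18084) (l := 1) rfl N18084 D58894
theorem N35684 : nd 35684 = n58895 := ndS (p := 18084) (l := 2) rfl N18084 D58895
theorem N35685 : nd 35685 = n58896 := ndS (p := 18084) (l := 5) rfl N18084 D58896
theorem N35686 : nd 35686 = n58897 := ndS (p := 18084) (l := 6) rfl N18084 D58897
theorem N35687 : nd 35687 = n58898 := ndS (p := 18085) (l := 6) rfl N18085 D58898
theorem N35688 : nd 35688 = n58899 := ndS (p := 18086) (l := 0) rfl N18086 D58899
theorem N35689 : nd 35689 = n58900 := ndS (p := 18086) (l := 1) rfl N18086 D58900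
theorem N35690 : nd 35690 = n58901 := ndS (p := 18086) (l := 5) rfl N18086 D58901
theorem N35691 : nd 35691 = n58902 := ndS (p := 18086) (l := 7) rfl N18086 D58902
theorem N35692 : nd 35692 = n58906 := ndS (p := 18087) (l := 6) rfl N18087 D58906
theorem N35693 : nd 35693 = n58909 := ndS (p := 18088) (l := 4) rfl N18088 D58909
theorem N35694 : nd 35694 = n58910 := ndS (p := 18089) (l := 4) rfl N18089 D58910
theorem N35695 : nd 35695 = n58911 := ndS (p := 18089) (l := 7) rfl N18089 D58911
theorem N35696 : nd 35696 = n58912 := ndS (p := 18091) (l := 0) rfl N18091 D58912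
theorem N35697 : nd 35697 = n58913 := ndS (p := 18091) (l := 1) rfl N18091 D58913
theorem N35698 : nd 35698 = n58914 := ndS (p := 18091) (l := 2) rfl N18091 D58914
theorem N35699 : nd 35699 = n58915 := ndS (p := 18091) (l := 5) rfl N18091 D58915
theorem N35700 : nd 35700 = n58916 := ndS (p := 18091) (l := 6) rfl N18091 D58916
theorem N35701 : nd 35701 = n58917 := ndS (p := 18092) (l := 0) rfl N18092 D58917
theorem N35702 : nd 35702 = n58918 := ndS (p := 18092) (l := 6) rfl N18092 D58918
theorem N35703 : nd 35703 = n58920 := ndS (p := 18093) (l := 5) rfl N18093 D58920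
theorem N35704 : nd 35704 = n58921 := ndS (p := 18093) (l := 7) rfl N18093 D58921
theorem N35705 : nd 35705 = n58922 := ndS (p := 18094) (l := 0) rfl N18094 D58922
theorem N35706 : nd 35706 = n58923 := ndS (p := 18094) (l := 1) rfl N18094 D58923
theorem N35707 : nd 35707 = n58924 := ndS (p := 18094) (l := 2) rfl N18094 D58924
theorem N35708 : nd 35708 = n58925 := ndS (p := 18094) (l := 5) rfl N18094 D58925
theorem N35709 : nd 35709 = n58926 := ndS (p := 18094) (l := 6) rfl N18094 D58926
theorem N35710 : nd 35710 = n58927 := ndS (p := 18095) (l := 6) rfl N18095 D58927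
theorem N35711 : nd 35711 = n58930 := ndS (p := 18096) (l := 5) rfl N18096 D58930
theorem N35712 : nd 35712 = n58931 := ndS (p := 18096) (l := 7) rfl N18096 D58931
theorem N35713 : nd 35713 = n58932 := ndS (p := 18097) (l := 0) rfl N18097 D58932
theorem N35714 : nd 35714 = n58934 := ndS (p := 18097) (l := 3) rfl N18097 D58934
theorem N35715 : nd 35715 = n58936 := ndS (p := 18097) (l := 5) rfl N18097 D58936
theorem N35716 : nd 35716 = n58937 := ndS (p := 18097) (l := 6) rfl N18097 D58937
theorem N35717 : nd 35717 = n58938 := ndS (p := 18097) (l := 7) rfl N18097 D58938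
theorem N35718 : nd 35718 = n58939 := ndS (p := 18098) (l := 3) rfl N18098 D58939
theorem N35719 : nd 35719 = n58940 := ndS (p := 18098) (l := 5) rfl N18098 D58940
theorem N35720 : nd 35720 = n58943 := ndS (p := 18099) (l := 5) rfl N18099 D58943
theorem N35721 : nd 35721 = n58944 := ndS (p := 18100) (l := 0) rfl N18100 D58944
theorem N35722 : nd 35722 = n58945 := ndS (p := 18100) (l := 1) rfl N18100 D58945
theorem N35723 : nd 35723 = n58946 := ndS (p := 18100) (l := 4) rfl N18100 D58946
theorem N35724 : nd 35724 = n58947 := ndS (p := 18100) (l := 6) rfl N18100 D58947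
theorem N35725 : nd 35725 = n58948 := ndS (p := 18100) (l := 7) rfl N18100 D58948
theorem N35726 : nd 35726 = n58949 := ndS (p := 18101) (l := 6) rfl N18101 D58949
theorem N35727 : nd 35727 = n58950 := ndS (p := 18102) (l := 3) rfl N18102 D58950
theorem N35728 : nd 35728 = n58951 := ndS (p := 18102) (l := 6) rfl N18102 D58951
theorem N35729 : nd 35729 = n58952 := ndS (p := 18103) (l := 3) rfl N18103 D58952
theorem N35730 : nd 35730 = n58953 := ndS (p := 18103) (l := 6) rfl N18103 D58953
theorem N35731 : nd 35731 = n58954 := ndS (p := 18104) (l := 3) rfl N18104 D58954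
theorem N35732 : nd 35732 = n58955 := ndS (p := 18104) (l := 6) rfl N18104 D58955
theorem N35733 : nd 35733 = n58956 := ndS (p := 18105) (l := 0) rfl N18105 D58956
theorem N35734 : nd 35734 = n58957 := ndS (p := 18105) (l := 1) rfl N18105 D58957
theorem N35735 : nd 35735 = n58958 := ndS (p := 18105) (l := 7) rfl N18105 D58958
theorem N35736 : nd 35736 = n58959 := ndS (p := 18106) (l := 6) rfl N18106 D58959
theorem N35737 : nd 35737 = n58962 := ndS (p := 18107) (l := 5) rfl N18107 D58962
theorem N35738 : nd 35738 = n58964 := ndS (p := 18108) (l := 3) rfl N18108 D58964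
theorem N35739 : nd 35739 = n58965 := ndS (p := 18108) (l := 4) rfl N18108 D58965
theorem N35740 : nd 35740 = n58966 := ndS (p := 18108) (l := 5) rfl N18108 D58966
theorem N35741 : nd 35741 = n58967 := ndS (p := 18108) (l := 6) rfl N18108 D58967
theorem N35742 : nd 35742 = n58969 := ndS (p := 18109) (l := 3) rfl N18109 D58969
theorem N35743 : nd 35743 = n58970 := ndS (p := 18109) (l := 4) rfl N18109 D58970
theorem N35744 : nd 35744 = n58971 := ndS (p := 18109) (l := 5) rfl N18109 D58971
theorem N35745 : nd 35745 = n58972 := ndS (p := 18109) (l := 6) rfl N18109 D58972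
theorem N35746 : nd 35746 = n58973 := ndS (p := 18110) (l := 3) rfl N18110 D58973
theorem N35747 : nd 35747 = n58974 := ndS (p := 18110) (l := 6) rfl N18110 D58974
theorem N35748 : nd 35748 = n58975 := ndS (p := 18111) (l := 0) rfl N18111 D58975
theorem N35749 : nd 35749 = n58976 := ndS (p := 18111) (l := 1) rfl N18111 D58976
theorem N35750 : nd 35750 = n58977 := ndS (p := 18111) (l := 7) rfl N18111 D58977
theorem N35751 : nd 35751 = n58978 := ndS (p := 18112) (l := 3) rfl N18112 D58978
theorem N35752 : nd 35752 = n58979 := ndS (p := 18112) (l := 6) rfl N18112 D58979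
theorem N35753 : nd 35753 = n58980 := ndS (p := 18113) (l := 3) rfl N18113 D58980
theorem N35754 : nd 35754 = n58981 := ndS (p := 18114) (l := 6) rfl N18114 D58981
theorem N35755 : nd 35755 = n58982 := ndS (p := 18115) (l := 0) rfl N18115 D58982
theorem N35756 : nd 35756 = n58983 := ndS (p := 18115) (l := 1) rfl N18115 D58983
theorem N35757 : nd 35757 = n58984 := ndS (p := 18115) (l := 5) rfl N18115 D58984
theorem N35758 : nd 35758 = n58987 := ndS (p := 18116) (l := 3) rfl N18116 D58987
theorem N35759 : nd 35759 = n58988 := ndS (p := 18116) (l := 4) rfl N18116 D58988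
theorem N35760 : nd 35760 = n58989 := ndS (p := 18116) (l := 5) rfl N18116 D58989
theorem N35761 : nd 35761 = n58990 := ndS (p := 18116) (l := 6) rfl N18116 D58990
theorem N35762 : nd 35762 = n58992 := ndS (p := 18117) (l := 3) rfl N18117 D58992
theorem N35763 : nd 35763 = n58993 := ndS (p := 18117) (l := 4) rfl N18117 D58993
theorem N35764 : nd 35764 = n58994 := ndS (p := 18117) (l := 5) rfl N18117 D58994
theorem N35765 : nd 35765 = n58995 := ndS (p := 18117) (l := 6) rfl N18117 D58995
theorem N35766 : nd 35766 = n59000 := ndS (p := 18119) (l := 5) rfl N18119 D59000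
theorem N35767 : nd 35767 = n59001 := ndS (p := 18120) (l := 4) rfl N18120 D59001
theorem N35768 : nd 35768 = n59009 := ndS (p := 18123) (l := 3) rfl N18123 D59009
theorem N35769 : nd 35769 = n59010 := ndS (p := 18123) (l := 5) rfl N18123 D59010
theorem N35770 : nd 35770 = n59011 := ndS (p := 18123) (l := 6) rfl N18123 D59011
theorem N35771 : nd 35771 = n59012 := ndS (p := 18124) (l := 0) rfl N18124 D59012
theorem N35772 : nd 35772 = n59014 := ndS (p := 18124) (l := 7) rfl N18124 D59014
theorem N35773 : nd 35773 = n59015 := ndS (p := 18125) (l := 3) rfl N18125 D59015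
theorem N35774 : nd 35774 = n59016 := ndS (p := 18125) (l := 6) rfl N18125 D59016
theorem N35775 : nd 35775 = n59017 := ndS (p := 18126) (l := 6) rfl N18126 D59017
theorem N35776 : nd 35776 = n59018 := ndS (p := 18127) (l := 0) rfl N18127 D59018
theorem N35777 : nd 35777 = n59019 := ndS (p := 18127) (l := 1) rfl N18127 D59019
theorem N35778 : nd 35778 = n59020 := ndS (p := 18127) (l := 5) rfl N18127 D59020
theorem N35779 : nd 35779 = n59023 := ndS (p := 18128) (l := 3) rfl N18128 D59023
theorem N35780 : nd 35780 = n59024 := ndS (p := 18128) (l := 4) rfl N18128 D59024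
theorem N35781 : nd 35781 = n59026 := ndS (p := 18128) (l := 6) rfl N18128 D59026
theorem N35782 : nd 35782 = n59028 := ndS (p := 18129) (l := 3) rfl N18129 D59028
theorem N35783 : nd 35783 = n59029 := ndS (p := 18129) (l := 4) rfl N18129 D59029
theorem N35784 : nd 35784 = n59041 := ndS (p := 18133) (l := 6) rfl N18133 D59041
theorem N35785 : nd 35785 = n59045 := ndS (p := 18134) (l := 4) rfl N18134 D59045
theorem N35786 : nd 35786 = n59054 := ndS (p := 18136) (l := 0) rfl N18136 D59054
theorem N35787 : nd 35787 = n59055 := ndS (p := 18136) (l := 1) rfl N18136 D59055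
theorem N35788 : nd 35788 = n59056 := ndS (p := 18136) (l := 3) rfl N18136 D59056
theorem N35789 : nd 35789 = n59057 := ndS (p := 18136) (l := 5) rfl N18136 D59057
theorem N35790 : nd 35790 = n59058 := ndS (p := 18136) (l := 6) rfl N18136 D59058
theorem N35791 : nd 35791 = n59059 := ndS (p := 18136) (l := 7) rfl N18136 D59059
theorem N35792 : nd 35792 = n59062 := ndS (p := 18137) (l := 4) rfl N18137 D59062
theorem N35793 : nd 35793 = n59076 := ndS (p := 18140) (l := 3) rfl N18140 D59076
theorem N35794 : nd 35794 = n59077 := ndS (p := 18140) (l := 5) rfl N18140 D59077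
theorem N35795 : nd 35795 = n59094 := ndS (p := 18141) (l := 4) rfl N18141 D59094
theorem N35796 : nd 35796 = n59095 := ndS (p := 18141) (l := 6) rfl N18141 D59095
theorem N35797 : nd 35797 = n59097 := ndS (p := 18142) (l := 4) rfl N18142 D59097
theorem N35798 : nd 35798 = n59104 := ndS (p := 18144) (l := 0) rfl N18144 D59104
theorem N35799 : nd 35799 = n59105 := ndS (p := 18144) (l := 6) rfl N18144 D59105
theorem N35800 : nd 35800 = n59106 := ndS (p := 18145) (l := 0) rfl N18145 D59106
theorem N35801 : nd 35801 = n59107 := ndS (p := 18145) (l := 1) rfl N18145 D59107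
theorem N35802 : nd 35802 = n59108 := ndS (p := 18146) (l := 0) rfl N18146 D59108
theorem N35803 : nd 35803 = n59113 := ndS (p := 18147) (l := 4) rfl N18147 D59113
theorem N35804 : nd 35804 = n59114 := ndS (p := 18147) (l := 5) rfl N18147 D59114
theorem N35805 : nd 35805 = n59115 := ndS (p := 18147) (l := 6) rfl N18147 D59115
theorem N35806 : nd 35806 = n59116 := ndS (p := 18150) (l := 0) rfl N18150 D59116
theorem N35807 : nd 35807 = n59117 := ndS (p := 18150) (l := 1) rfl N18150 D59117
theorem N35808 : nd 35808 = n59118 := ndS (p := 18150) (l := 2) rfl N18150 D59118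
theorem N35809 : nd 35809 = n59119 := ndS (p := 18150) (l := 6) rfl N18150 D59119
theorem N35810 : nd 35810 = n59122 := ndS (p := 18151) (l := 5) rfl N18151 D59122
theorem N35811 : nd 35811 = n59123 := ndS (p := 18151) (l := 7) rfl N18151 D59123
theorem N35812 : nd 35812 = n59127 := ndS (p := 18152) (l := 5) rfl N18152 D59127
theorem N35813 : nd 35813 = n59128 := ndS (p := 18152) (l := 6) rfl N18152 D59128
theorem N35814 : nd 35814 = n59132 := ndS (p := 18153) (l := 5) rfl N18153 D59132
theorem N35815 : nd 35815 = n59133 := ndS (p := 18153) (l := 6) rfl N18153 D59133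
theorem N35816 : nd 35816 = n59134 := ndS (p := 18158) (l := 0) rfl N18158 D59134
theorem N35817 : nd 35817 = n59135 := ndS (p := 18158) (l := 1) rfl N18158 D59135
theorem N35818 : nd 35818 = n59136 := ndS (p := 18158) (l := 5) rfl N18158 D59136
theorem N35819 : nd 35819 = n59137 := ndS (p := 18158) (l := 7) rfl N18158 D59137
theorem N35820 : nd 35820 = n59140 := ndS (p := 18159) (l := 4) rfl N18159 D59140
theorem N35821 : nd 35821 = n59141 := ndS (p := 18159) (l := 5) rfl N18159 D59141
theorem N35822 : nd 35822 = n59144 := ndS (p := 18160) (l := 4) rfl N18160 D59144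
theorem N35823 : nd 35823 = n59145 := ndS (p := 18160) (l := 5) rfl N18160 D59145
theorem N35824 : nd 35824 = n59146 := ndS (p := 18160) (l := 6) rfl N18160 D59146
theorem N35825 : nd 35825 = n59147 := ndS (p := 18161) (l := 4) rfl N18161 D59147
theorem N35826 : nd 35826 = n59148 := ndS (p := 18163) (l := 6) rfl N18163 D59148
theorem N35827 : nd 35827 = n59149 := ndS (p := 18164) (l := 5) rfl N18164 D59149
theorem N35828 : nd 35828 = n59150 := ndS (p := 18164) (l := 6) rfl N18164 D59150
theorem N35829 : nd 35829 = n59151 := ndS (p := 18165) (l := 0) rfl N18165 D59151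
theorem N35830 : nd 35830 = n59152 := ndS (p := 18165) (l := 1) rfl N18165 D59152
theorem N35831 : nd 35831 = n59153 := ndS (p := 18165) (l := 7) rfl N18165 D59153
theorem N35832 : nd 35832 = n59156 := ndS (p := 18166) (l := 4) rfl N18166 D59156
theorem N35833 : nd 35833 = n59157 := ndS (p := 18166) (l := 6) rfl N18166 D59157
theorem N35834 : nd 35834 = n59160 := ndS (p := 18167) (l := 4) rfl N18167 D59160
theorem N35835 : nd 35835 = n59161 := ndS (p := 18169) (l := 0) rfl N18169 D59161
theorem N35836 : nd 35836 = n59162 := ndS (p := 18169) (l := 1) rfl N18169 D59162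
theorem N35837 : nd 35837 = n59163 := ndS (p := 18169) (l := 2) rfl N18169 D59163
theorem N35838 : nd 35838 = n59164 := ndS (p := 18169) (l := 4) rfl N18169 D59164
theorem N35839 : nd 35839 = n59165 := ndS (p := 18169) (l := 5) rfl N18169 D59165
theorem N35840 : nd 35840 = n59166 := ndS (p := 18169) (l := 6) rfl N18169 D59166
theorem N35841 : nd 35841 = n59167 := ndS (p := 18170) (l := 6) rfl N18170 D59167
theorem N35842 : nd 35842 = n59170 := ndS (p := 18171) (l := 5) rfl N18171 D59170
theorem N35843 : nd 35843 = n59171 := ndS (p := 18171) (l := 7) rfl N18171 D59171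
theorem N35844 : nd 35844 = n59172 := ndS (p := 18172) (l := 0) rfl N18172 D59172
theorem N35845 : nd 35845 = n59173 := ndS (p := 18172) (l := 1) rfl N18172 D59173
theorem N35846 : nd 35846 = n59174 := ndS (p := 18172) (l := 2) rfl N18172 D59174
theorem N35847 : nd 35847 = n59175 := ndS (p := 18172) (l := 5) rfl N18172 D59175
theorem N35848 : nd 35848 = n59176 := ndS (p := 18172) (l := 6) rfl N18172 D59176
theorem N35849 : nd 35849 = n59177 := ndS (p := 18173) (l := 6) rfl N18173 D59177
theorem N35850 : nd 35850 = n59180 := ndS (p := 18174) (l := 5) rfl N18174 D59180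
theorem N35851 : nd 35851 = n59181 := ndS (p := 18174) (l := 7) rfl N18174 D59181
theorem N35852 : nd 35852 = n59183 := ndS (p := 18175) (l := 3) rfl N18175 D59183
theorem N35853 : nd 35853 = n59185 := ndS (p := 18175) (l := 5) rfl N18175 D59185
theorem N35854 : nd 35854 = n59186 := ndS (p := 18175) (l := 6) rfl N18175 D59186
theorem N35855 : nd 35855 = n59188 := ndS (p := 18176) (l := 3) rfl N18176 D59188
theorem N35856 : nd 35856 = n59189 := ndS (p := 18176) (l := 5) rfl N18176 D59189
theorem N35857 : nd 35857 = n59191 := ndS (p := 18177) (l := 5) rfl N18177 D59191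
theorem N35858 : nd 35858 = n59192 := ndS (p := 18178) (l := 0) rfl N18178 D59192
theorem N35859 : nd 35859 = n59193 := ndS (p := 18178) (l := 1) rfl N18178 D59193
theorem N35860 : nd 35860 = n59194 := ndS (p := 18178) (l := 4) rfl N18178 D59194
theorem N35861 : nd 35861 = n59195 := ndS (p := 18178) (l := 6) rfl N18178 D59195
theorem N35862 : nd 35862 = n59196 := ndS (p := 18179) (l := 3) rfl N18179 D59196
theorem N35863 : nd 35863 = n59197 := ndS (p := 18179) (l := 6) rfl N18179 D59197
theorem N35864 : nd 35864 = n59198 := ndS (p := 18180) (l := 3) rfl N18180 D59198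
theorem N35865 : nd 35865 = n59199 := ndS (p := 18180) (l := 6) rfl N18180 D59199
theorem N35866 : nd 35866 = n59200 := ndS (p := 18181) (l := 0) rfl N18181 D59200
theorem N35867 : nd 35867 = n59201 := ndS (p := 18181) (l := 1) rfl N18181 D59201
theorem N35868 : nd 35868 = n59202 := ndS (p := 18181) (l := 7) rfl N18181 D59202
theorem N35869 : nd 35869 = n59203 := ndS (p := 18182) (l := 0) rfl N18182 D59203
theorem N35870 : nd 35870 = n59204 := ndS (p := 18182) (l := 1) rfl N18182 D59204
theorem N35871 : nd 35871 = n59205 := ndS (p := 18182) (l := 5) rfl N18182 D59205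
theorem N35872 : nd 35872 = n59207 := ndS (p := 18183) (l := 3) rfl N18183 D59207
theorem N35873 : nd 35873 = n59209 := ndS (p := 18183) (l := 5) rfl N18183 D59209
theorem N35874 : nd 35874 = n59210 := ndS (p := 18183) (l := 6) rfl N18183 D59210
theorem N35875 : nd 35875 = n59212 := ndS (p := 18184) (l := 3) rfl N18184 D59212
theorem N35876 : nd 35876 = n59214 := ndS (p := 18184) (l := 5) rfl N18184 D59214
theorem N35877 : nd 35877 = n59215 := ndS (p := 18184) (l := 6) rfl N18184 D59215
theorem N35878 : nd 35878 = n59216 := ndS (p := 18185) (l := 0) rfl N18185 D59216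
theorem N35879 : nd 35879 = n59217 := ndS (p := 18185) (l := 1) rfl N18185 D59217
theorem N35880 : nd 35880 = n59218 := ndS (p := 18185) (l := 7) rfl N18185 D59218
theorem N35881 : nd 35881 = n59219 := ndS (p := 18186) (l := 6) rfl N18186 D59219
theorem N35882 : nd 35882 = n59221 := ndS (p := 18187) (l := 1) rfl N18187 D59221
theorem N35883 : nd 35883 = n59222 := ndS (p := 18187) (l := 5) rfl N18187 D59222
theorem N35884 : nd 35884 = n59223 := ndS (p := 18187) (l := 7) rfl N18187 D59223
theorem N35885 : nd 35885 = n59225 := ndS (p := 18188) (l := 3) rfl N18188 D59225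
theorem N35886 : nd 35886 = n59226 := ndS (p := 18188) (l := 4) rfl N18188 D59226
theorem N35887 : nd 35887 = n59227 := ndS (p := 18188) (l := 5) rfl N18188 D59227
theorem N35888 : nd 35888 = n59230 := ndS (p := 18189) (l := 3) rfl N18189 D59230
theorem N35889 : nd 35889 = n59231 := ndS (p := 18189) (l := 4) rfl N18189 D59231
theorem N35890 : nd 35890 = n59232 := ndS (p := 18189) (l := 5) rfl N18189 D59232
theorem N35891 : nd 35891 = n59233 := ndS (p := 18189) (l := 6) rfl N18189 D59233
theorem N35892 : nd 35892 = n59237 := ndS (p := 18191) (l := 4) rfl N18191 D59237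
theorem N35893 : nd 35893 = n59238 := ndS (p := 18191) (l := 5) rfl N18191 D59238
theorem N35894 : nd 35894 = n59239 := ndS (p := 18192) (l := 4) rfl N18192 D59239
theorem N35895 : nd 35895 = n59247 := ndS (p := 18195) (l := 3) rfl N18195 D59247
theorem N35896 : nd 35896 = n59252 := ndS (p := 18197) (l := 6) rfl N18197 D59252
theorem N35897 : nd 35897 = n59259 := ndS (p := 18199) (l := 3) rfl N18199 D59259
theorem N35898 : nd 35898 = n59260 := ndS (p := 18199) (l := 4) rfl N18199 D59260
theorem N35899 : nd 35899 = n59262 := ndS (p := 18199) (l := 6) rfl N18199 D59262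
theorem N35900 : nd 35900 = n59264 := ndS (p := 18200) (l := 3) rfl N18200 D59264
theorem N35901 : nd 35901 = n59265 := ndS (p := 18200) (l := 4) rfl N18200 D59265
theorem N35902 : nd 35902 = n59274 := ndS (p := 18202) (l := 4) rfl N18202 D59274
theorem N35903 : nd 35903 = n59284 := ndS (p := 18203) (l := 5) rfl N18203 D59284
theorem N35904 : nd 35904 = n59287 := ndS (p := 18204) (l := 0) rfl N18204 D59287
theorem N35905 : nd 35905 = n59288 := ndS (p := 18204) (l := 1) rfl N18204 D59288
theorem N35906 : nd 35906 = n59289 := ndS (p := 18204) (l := 3) rfl N18204 D59289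
theorem N35907 : nd 35907 = n59290 := ndS (p := 18204) (l := 5) rfl N18204 D59290
theorem N35908 : nd 35908 = n59291 := ndS (p := 18204) (l := 6) rfl N18204 D59291
theorem N35909 : nd 35909 = n59295 := ndS (p := 18205) (l := 4) rfl N18205 D59295
theorem N35910 : nd 35910 = n59306 := ndS (p := 18207) (l := 4) rfl N18207 D59306
theorem N35911 : nd 35911 = n59309 := ndS (p := 18208) (l := 5) rfl N18208 D59309
theorem N35912 : nd 35912 = n59311 := ndS (p := 18209) (l := 4) rfl N18209 D59311
theorem N35913 : nd 35913 = n59320 := ndS (p := 18210) (l := 4) rfl N18210 D59320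
theorem N35914 : nd 35914 = n59321 := ndS (p := 18210) (l := 5) rfl N18210 D59321
theorem N35915 : nd 35915 = n59322 := ndS (p := 18210) (l := 6) rfl N18210 D59322
theorem N35916 : nd 35916 = n59323 := ndS (p := 18220) (l := 3) rfl N18220 D59323
theorem N35917 : nd 35917 = n59324 := ndS (p := 18220) (l := 6) rfl N18220 D59324
theorem N35918 : nd 35918 = n59325 := ndS (p := 18222) (l := 0) rfl N18222 D59325
theorem N35919 : nd 35919 = n59326 := ndS (p := 18222) (l := 4) rfl N18222 D59326
theorem N35920 : nd 35920 = n59327 := ndS (p := 18223) (l := 4) rfl N18223 D59327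
theorem N35921 : nd 35921 = n59328 := ndS (p := 18223) (l := 6) rfl N18223 D59328
theorem N35922 : nd 35922 = n59329 := ndS (p := 18224) (l := 6) rfl N18224 D59329
theorem N35923 : nd 35923 = n59330 := ndS (p := 18225) (l := 6) rfl N18225 D59330
theorem N35924 : nd 35924 = n59331 := ndS (p := 18226) (l := 3) rfl N18226 D59331
theorem N35925 : nd 35925 = n59332 := ndS (p := 18226) (l := 5) rfl N18226 D59332
theorem N35926 : nd 35926 = n59333 := ndS (p := 18227) (l := 6) rfl N18227 D59333
theorem N35927 : nd 35927 = n59334 := ndS (p := 18228) (l := 4) rfl N18228 D59334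
theorem N35928 : nd 35928 = n59335 := ndS (p := 18228) (l := 6) rfl N18228 D59335
theorem N35929 : nd 35929 = n59336 := ndS (p := 18230) (l := 6) rfl N18230 D59336
theorem N35930 : nd 35930 = n59337 := ndS (p := 18231) (l := 3) rfl N18231 D59337
theorem N35931 : nd 35931 = n59338 := ndS (p := 18231) (l := 5) rfl N18231 D59338
theorem N35932 : nd 35932 = n59339 := ndS (p := 18232) (l := 6) rfl N18232 D59339
theorem N35933 : nd 35933 = n59340 := ndS (p := 18233) (l := 3) rfl N18233 D59340
theorem N35934 : nd 35934 = n59341 := ndS (p := 18233) (l := 5) rfl N18233 D59341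
theorem N35935 : nd 35935 = n59342 := ndS (p := 18233) (l := 6) rfl N18233 D59342
theorem N35936 : nd 35936 = n59343 := ndS (p := 18234) (l := 7) rfl N18234 D59343
theorem N35937 : nd 35937 = n59344 := ndS (p := 18235) (l := 3) rfl N18235 D59344
theorem N35938 : nd 35938 = n59345 := ndS (p := 18235) (l := 5) rfl N18235 D59345
theorem N35939 : nd 35939 = n59346 := ndS (p := 18235) (l := 6) rfl N18235 D59346
theorem N35940 : nd 35940 = n59347 := ndS (p := 18236) (l := 0) rfl N18236 D59347
theorem N35941 : nd 35941 = n59348 := ndS (p := 18236) (l := 1) rfl N18236 D59348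
theorem N35942 : nd 35942 = n59349 := ndS (p := 18236) (l := 7) rfl N18236 D59349
theorem N35943 : nd 35943 = n59350 := ndS (p := 18237) (l := 3) rfl N18237 D59350
theorem N35944 : nd 35944 = n59351 := ndS (p := 18237) (l := 5) rfl N18237 D59351
theorem N35945 : nd 35945 = n59352 := ndS (p := 18237) (l := 6) rfl N18237 D59352
theorem N35946 : nd 35946 = n59353 := ndS (p := 18238) (l := 3) rfl N18238 D59353
theorem N35947 : nd 35947 = n59354 := ndS (p := 18238) (l := 5) rfl N18238 D59354
theorem N35948 : nd 35948 = n59355 := ndS (p := 18238) (l := 6) rfl N18238 D59355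
theorem N35949 : nd 35949 = n59356 := ndS (p := 18239) (l := 0) rfl N18239 D59356
theorem N35950 : nd 35950 = n59357 := ndS (p := 18239) (l := 1) rfl N18239 D59357
theorem N35951 : nd 35951 = n59358 := ndS (p := 18239) (l := 2) rfl N18239 D59358
theorem N35952 : nd 35952 = n59359 := ndS (p := 18239) (l := 5) rfl N18239 D59359
theorem N35953 : nd 35953 = n59360 := ndS (p := 18239) (l := 7) rfl N18239 D59360
theorem N35954 : nd 35954 = n59361 := ndS (p := 18240) (l := 0) rfl N18240 D59361
theorem N35955 : nd 35955 = n59362 := ndS (p := 18240) (l := 1) rfl N18240 D59362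
theorem N35956 : nd 35956 = n59363 := ndS (p := 18240) (l := 4) rfl N18240 D59363
theorem N35957 : nd 35957 = n59364 := ndS (p := 18240) (l := 6) rfl N18240 D59364
theorem N35958 : nd 35958 = n59365 := ndS (p := 18240) (l := 7) rfl N18240 D59365
theorem N35959 : nd 35959 = n59366 := ndS (p := 18241) (l := 6) rfl N18241 D59366
theorem N35960 : nd 35960 = n59367 := ndS (p := 18242) (l := 0) rfl N18242 D59367
theorem N35961 : nd 35961 = n59369 := ndS (p := 18243) (l := 4) rfl N18243 D59369
theorem N35962 : nd 35962 = n59370 := ndS (p := 18243) (l := 6) rfl N18243 D59370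
theorem N35963 : nd 35963 = n59371 := ndS (p := 18245) (l := 6) rfl N18245 D59371
theorem N35964 : nd 35964 = n59372 := ndS (p := 18246) (l := 3) rfl N18246 D59372
theorem N35965 : nd 35965 = n59373 := ndS (p := 18246) (l := 5) rfl N18246 D59373
theorem N35966 : nd 35966 = n59374 := ndS (p := 18247) (l := 6) rfl N18247 D59374
theorem N35967 : nd 35967 = n59375 := ndS (p := 18248) (l := 3) rfl N18248 D59375
theorem N35968 : nd 35968 = n59376 := ndS (p := 18248) (l := 5) rfl N18248 D59376
theorem N35969 : nd 35969 = n59377 := ndS (p := 18248) (l := 6) rfl N18248 D59377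
theorem N35970 : nd 35970 = n59378 := ndS (p := 18249) (l := 0) rfl N18249 D59378
theorem N35971 : nd 35971 = n59379 := ndS (p := 18249) (l := 7) rfl N18249 D59379
theorem N35972 : nd 35972 = n59380 := ndS (p := 18250) (l := 3) rfl N18250 D59380
theorem N35973 : nd 35973 = n59381 := ndS (p := 18250) (l := 5) rfl N18250 D59381
theorem N35974 : nd 35974 = n59382 := ndS (p := 18250) (l := 6) rfl N18250 D59382
theorem N35975 : nd 35975 = n59383 := ndS (p := 18251) (l := 0) rfl N18251 D59383
theorem N35976 : nd 35976 = n59384 := ndS (p := 18251) (l := 1) rfl N18251 D59384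
theorem N35977 : nd 35977 = n59385 := ndS (p := 18251) (l := 7) rfl N18251 D59385
theorem N35978 : nd 35978 = n59386 := ndS (p := 18252) (l := 3) rfl N18252 D59386
theorem N35979 : nd 35979 = n59387 := ndS (p := 18252) (l := 5) rfl N18252 D59387
theorem N35980 : nd 35980 = n59388 := ndS (p := 18252) (l := 6) rfl N18252 D59388
theorem N35981 : nd 35981 = n59389 := ndS (p := 18253) (l := 3) rfl N18253 D59389
theorem N35982 : nd 35982 = n59390 := ndS (p := 18253) (l := 5) rfl N18253 D59390
theorem N35983 : nd 35983 = n59391 := ndS (p := 18253) (l := 6) rfl N18253 D59391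
theorem N35984 : nd 35984 = n59392 := ndS (p := 18254) (l := 0) rfl N18254 D59392
theorem N35985 : nd 35985 = n59393 := ndS (p := 18254) (l := 1) rfl N18254 D59393
theorem N35986 : nd 35986 = n59394 := ndS (p := 18254) (l := 2) rfl N18254 D59394
theorem N35987 : nd 35987 = n59395 := ndS (p := 18254) (l := 5) rfl N18254 D59395
theorem N35988 : nd 35988 = n59396 := ndS (p := 18254) (l := 7) rfl N18254 D59396
theorem N35989 : nd 35989 = n59397 := ndS (p := 18255) (l := 0) rfl N18255 D59397
theorem N35990 : nd 35990 = n59398 := ndS (p := 18255) (l := 1) rfl N18255 D59398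
theorem N35991 : nd 35991 = n59399 := ndS (p := 18255) (l := 4) rfl N18255 D59399
theorem N35992 : nd 35992 = n59400 := ndS (p := 18255) (l := 6) rfl N18255 D59400
theorem N35993 : nd 35993 = n59401 := ndS (p := 18255) (l := 7) rfl N18255 D59401
theorem N35994 : nd 35994 = n59402 := ndS (p := 18256) (l := 6) rfl N18256 D59402
theorem N35995 : nd 35995 = n59404 := ndS (p := 18257) (l := 1) rfl N18257 D59404
theorem N35996 : nd 35996 = n59405 := ndS (p := 18258) (l := 3) rfl N18258 D59405
theorem N35997 : nd 35997 = n59406 := ndS (p := 18258) (l := 5) rfl N18258 D59406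
theorem N35998 : nd 35998 = n59407 := ndS (p := 18258) (l := 6) rfl N18258 D59407
theorem N35999 : nd 35999 = n59411 := ndS (p := 18260) (l := 3) rfl N18260 D59411
theorem N36000 : nd 36000 = n59412 := ndS (p := 18260) (l := 5) rfl N18260 D59412
theorem N36001 : nd 36001 = n59413 := ndS (p := 18260) (l := 6) rfl N18260 D59413
theorem N36002 : nd 36002 = n59414 := ndS (p := 18262) (l := 3) rfl N18262 D59414
theorem N36003 : nd 36003 = n59415 := ndS (p := 18262) (l := 5) rfl N18262 D59415
theorem N36004 : nd 36004 = n59416 := ndS (p := 18262) (l := 6) rfl N18262 D59416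
theorem N36005 : nd 36005 = n59418 := ndS (p := 18263) (l := 1) rfl N18263 D59418
theorem N36006 : nd 36006 = n59419 := ndS (p := 18263) (l := 7) rfl N18263 D59419
theorem N36007 : nd 36007 = n59420 := ndS (p := 18264) (l := 5) rfl N18264 D59420
theorem N36008 : nd 36008 = n59421 := ndS (p := 18264) (l := 6) rfl N18264 D59421
theorem N36009 : nd 36009 = n59422 := ndS (p := 18265) (l := 0) rfl N18265 D59422
theorem N36010 : nd 36010 = n59424 := ndS (p := 18265) (l := 7) rfl N18265 D59424
theorem N36011 : nd 36011 = n59425 := ndS (p := 18266) (l := 3) rfl N18266 D59425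
theorem N36012 : nd 36012 = n59426 := ndS (p := 18266) (l := 5) rfl N18266 D59426
theorem N36013 : nd 36013 = n59427 := ndS (p := 18266) (l := 6) rfl N18266 D59427
theorem N36014 : nd 36014 = n59428 := ndS (p := 18267) (l := 0) rfl N18267 D59428
theorem N36015 : nd 36015 = n59429 := ndS (p := 18267) (l := 1) rfl N18267 D59429
theorem N36016 : nd 36016 = n59430 := ndS (p := 18267) (l := 2) rfl N18267 D59430
theorem N36017 : nd 36017 = n59431 := ndS (p := 18267) (l := 5) rfl N18267 D59431
theorem N36018 : nd 36018 = n59432 := ndS (p := 18267) (l := 7) rfl N18267 D59432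
theorem N36019 : nd 36019 = n59433 := ndS (p := 18268) (l := 1) rfl N18268 D59433
theorem N36020 : nd 36020 = n59434 := ndS (p := 18268) (l := 6) rfl N18268 D59434
theorem N36021 : nd 36021 = n59435 := ndS (p := 18269) (l := 6) rfl N18269 D59435
theorem N36022 : nd 36022 = n59436 := ndS (p := 18271) (l := 6) rfl N18271 D59436
theorem N36023 : nd 36023 = n59437 := ndS (p := 18272) (l := 3) rfl N18272 D59437
theorem N36024 : nd 36024 = n59438 := ndS (p := 18272) (l := 6) rfl N18272 D59438
theorem N36025 : nd 36025 = n59439 := ndS (p := 18273) (l := 0) rfl N18273 D59439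
theorem N36026 : nd 36026 = n59440 := ndS (p := 18273) (l := 1) rfl N18273 D59440
theorem N36027 : nd 36027 = n59441 := ndS (p := 18273) (l := 7) rfl N18273 D59441
theorem N36028 : nd 36028 = n59442 := ndS (p := 18276) (l := 6) rfl N18276 D59442
theorem N36029 : nd 36029 = n59443 := ndS (p := 18277) (l := 6) rfl N18277 D59443
theorem N36030 : nd 36030 = n59444 := ndS (p := 18278) (l := 3) rfl N18278 D59444
theorem N36031 : nd 36031 = n59445 := ndS (p := 18278) (l := 6) rfl N18278 D59445
theorem N36032 : nd 36032 = n59446 := ndS (p := 18279) (l := 0) rfl N18279 D59446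
theorem N36033 : nd 36033 = n59448 := ndS (p := 18279) (l := 5) rfl N18279 D59448
theorem N36034 : nd 36034 = n59449 := ndS (p := 18279) (l := 7) rfl N18279 D59449
theorem N36035 : nd 36035 = n59450 := ndS (p := 18282) (l := 3) rfl N18282 D59450
theorem N36036 : nd 36036 = n59451 := ndS (p := 18282) (l := 5) rfl N18282 D59451
theorem N36037 : nd 36037 = n59452 := ndS (p := 18282) (l := 6) rfl N18282 D59452
theorem N36038 : nd 36038 = n59453 := ndS (p := 18283) (l := 0) rfl N18283 D59453
theorem N36039 : nd 36039 = n59454 := ndS (p := 18283) (l := 1) rfl N18283 D59454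
theorem N36040 : nd 36040 = n59455 := ndS (p := 18283) (l := 7) rfl N18283 D59455
theorem N36041 : nd 36041 = n59456 := ndS (p := 18284) (l := 3) rfl N18284 D59456
theorem N36042 : nd 36042 = n59457 := ndS (p := 18284) (l := 5) rfl N18284 D59457
theorem N36043 : nd 36043 = n59458 := ndS (p := 18284) (l := 6) rfl N18284 D59458
theorem N36044 : nd 36044 = n59459 := ndS (p := 18285) (l := 3) rfl N18285 D59459
theorem N36045 : nd 36045 = n59460 := ndS (p := 18285) (l := 5) rfl N18285 D59460
theorem N36046 : nd 36046 = n59461 := ndS (p := 18285) (l := 6) rfl N18285 D59461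
theorem N36047 : nd 36047 = n59462 := ndS (p := 18286) (l := 0) rfl N18286 D59462
theorem N36048 : nd 36048 = n59463 := ndS (p := 18286) (l := 1) rfl N18286 D59463
theorem N36049 : nd 36049 = n59464 := ndS (p := 18286) (l := 2) rfl N18286 D59464
theorem N36050 : nd 36050 = n59465 := ndS (p := 18286) (l := 5) rfl N18286 D59465
theorem N36051 : nd 36051 = n59466 := ndS (p := 18286) (l := 6) rfl N18286 D59466
theorem N36052 : nd 36052 = n59467 := ndS (p := 18287) (l := 0) rfl N18287 D59467
theorem N36053 : nd 36053 = n59468 := ndS (p := 18287) (l := 6) rfl N18287 D59468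
theorem N36054 : nd 36054 = n59469 := ndS (p := 18288) (l := 0) rfl N18288 D59469
theorem N36055 : nd 36055 = n59470 := ndS (p := 18288) (l := 1) rfl N18288 D59470
theorem N36056 : nd 36056 = n59471 := ndS (p := 18288) (l := 5) rfl N18288 D59471
theorem N36057 : nd 36057 = n59472 := ndS (p := 18288) (l := 7) rfl N18288 D59472
theorem N36058 : nd 36058 = n59475 := ndS (p := 18289) (l := 4) rfl N18289 D59475
theorem N36059 : nd 36059 = n59482 := ndS (p := 18290) (l := 0) rfl N18290 D59482
theorem N36060 : nd 36060 = n59484 := ndS (p := 18290) (l := 4) rfl N18290 D59484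
theorem N36061 : nd 36061 = n59485 := ndS (p := 18290) (l := 7) rfl N18290 D59485
theorem N36062 : nd 36062 = n59486 := ndS (p := 18292) (l := 3) rfl N18292 D59486
theorem N36063 : nd 36063 = n59487 := ndS (p := 18292) (l := 5) rfl N18292 D59487
theorem N36064 : nd 36064 = n59488 := ndS (p := 18293) (l := 6) rfl N18293 D59488
theorem N36065 : nd 36065 = n59489 := ndS (p := 18295) (l := 6) rfl N18295 D59489
theorem N36066 : nd 36066 = n59490 := ndS (p := 18296) (l := 3) rfl N18296 D59490
theorem N36067 : nd 36067 = n59491 := ndS (p := 18296) (l := 5) rfl N18296 D59491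
theorem N36068 : nd 36068 = n59492 := ndS (p := 18296) (l := 6) rfl N18296 D59492
theorem N36069 : nd 36069 = n59493 := ndS (p := 18297) (l := 0) rfl N18297 D59493
theorem N36070 : nd 36070 = n59494 := ndS (p := 18297) (l := 7) rfl N18297 D59494
theorem N36071 : nd 36071 = n59495 := ndS (p := 18299) (l := 3) rfl N18299 D59495
theorem N36072 : nd 36072 = n59496 := ndS (p := 18299) (l := 6) rfl N18299 D59496
theorem N36073 : nd 36073 = n59498 := ndS (p := 18300) (l := 1) rfl N18300 D59498
theorem N36074 : nd 36074 = n59499 := ndS (p := 18300) (l := 7) rfl N18300 D59499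
theorem N36075 : nd 36075 = n59500 := ndS (p := 18301) (l := 0) rfl N18301 D59500
theorem N36076 : nd 36076 = n59501 := ndS (p := 18301) (l := 1) rfl N18301 D59501
theorem N36077 : nd 36077 = n59502 := ndS (p := 18301) (l := 2) rfl N18301 D59502
theorem N36078 : nd 36078 = n59503 := ndS (p := 18301) (l := 5) rfl N18301 D59503
theorem N36079 : nd 36079 = n59504 := ndS (p := 18301) (l := 6) rfl N18301 D59504
theorem N36080 : nd 36080 = n59505 := ndS (p := 18302) (l := 6) rfl N18302 D59505
theorem N36081 : nd 36081 = n59506 := ndS (p := 18303) (l := 0) rfl N18303 D59506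
theorem N36082 : nd 36082 = n59507 := ndS (p := 18303) (l := 1) rfl N18303 D59507
theorem N36083 : nd 36083 = n59508 := ndS (p := 18303) (l := 5) rfl N18303 D59508
theorem N36084 : nd 36084 = n59509 := ndS (p := 18303) (l := 7) rfl N18303 D59509
theorem N36085 : nd 36085 = n59510 := ndS (p := 18304) (l := 4) rfl N18304 D59510
theorem N36086 : nd 36086 = n59511 := ndS (p := 18306) (l := 0) rfl N18306 D59511
theorem N36087 : nd 36087 = n59512 := ndS (p := 18306) (l := 1) rfl N18306 D59512
theorem N36088 : nd 36088 = n59513 := ndS (p := 18306) (l := 5) rfl N18306 D59513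
theorem N36089 : nd 36089 = n59514 := ndS (p := 18306) (l := 7) rfl N18306 D59514
theorem N36090 : nd 36090 = n59515 := ndS (p := 18307) (l := 3) rfl N18307 D59515
theorem N36091 : nd 36091 = n59516 := ndS (p := 18307) (l := 6) rfl N18307 D59516
theorem N36092 : nd 36092 = n59517 := ndS (p := 18308) (l := 0) rfl N18308 D59517
theorem N36093 : nd 36093 = n59518 := ndS (p := 18308) (l := 1) rfl N18308 D59518
theorem N36094 : nd 36094 = n59519 := ndS (p := 18308) (l := 2) rfl N18308 D59519
theorem N36095 : nd 36095 = n59520 := ndS (p := 18308) (l := 5) rfl N18308 D59520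
theorem N36096 : nd 36096 = n59522 := ndS (p := 18309) (l := 0) rfl N18309 D59522
theorem N36097 : nd 36097 = n59523 := ndS (p := 18309) (l := 1) rfl N18309 D59523
theorem N36098 : nd 36098 = n59524 := ndS (p := 18309) (l := 6) rfl N18309 D59524
theorem N36099 : nd 36099 = n59525 := ndS (p := 18310) (l := 0) rfl N18310 D59525
theorem N36100 : nd 36100 = n59526 := ndS (p := 18310) (l := 1) rfl N18310 D59526
theorem N36101 : nd 36101 = n59528 := ndS (p := 18310) (l := 7) rfl N18310 D59528
theorem N36102 : nd 36102 = n59531 := ndS (p := 18311) (l := 4) rfl N18311 D59531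
theorem N36103 : nd 36103 = n59532 := ndS (p := 18311) (l := 5) rfl N18311 D59532
theorem N36104 : nd 36104 = n59535 := ndS (p := 18312) (l := 4) rfl N18312 D59535
theorem N36105 : nd 36105 = n59536 := ndS (p := 18312) (l := 5) rfl N18312 D59536
theorem N36106 : nd 36106 = n59537 := ndS (p := 18312) (l := 6) rfl N18312 D59537
theorem N36107 : nd 36107 = n59538 := ndS (p := 18313) (l := 4) rfl N18313 D59538
theorem N36108 : nd 36108 = n59540 := ndS (p := 18315) (l := 3) rfl N18315 D59540
theorem N36109 : nd 36109 = n59541 := ndS (p := 18315) (l := 5) rfl N18315 D59541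
theorem N36110 : nd 36110 = n59542 := ndS (p := 18315) (l := 6) rfl N18315 D59542
theorem N36111 : nd 36111 = n59543 := ndS (p := 18316) (l := 0) rfl N18316 D59543
theorem N36112 : nd 36112 = n59544 := ndS (p := 18316) (l := 1) rfl N18316 D59544
theorem N36113 : nd 36113 = n59545 := ndS (p := 18316) (l := 7) rfl N18316 D59545
theorem N36114 : nd 36114 = n59546 := ndS (p := 18317) (l := 0) rfl N18317 D59546
theorem N36115 : nd 36115 = n59547 := ndS (p := 18317) (l := 1) rfl N18317 D59547
theorem N36116 : nd 36116 = n59548 := ndS (p := 18317) (l := 2) rfl N18317 D59548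
theorem N36117 : nd 36117 = n59549 := ndS (p := 18317) (l := 5) rfl N18317 D59549
theorem N36118 : nd 36118 = n59550 := ndS (p := 18317) (l := 6) rfl N18317 D59550
theorem N36119 : nd 36119 = n59551 := ndS (p := 18318) (l := 6) rfl N18318 D59551
theorem N36120 : nd 36120 = n59552 := ndS (p := 18319) (l := 0) rfl N18319 D59552
theorem N36121 : nd 36121 = n59553 := ndS (p := 18319) (l := 1) rfl N18319 D59553
theorem N36122 : nd 36122 = n59554 := ndS (p := 18319) (l := 5) rfl N18319 D59554
theorem N36123 : nd 36123 = n59555 := ndS (p := 18319) (l := 7) rfl N18319 D59555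
theorem N36124 : nd 36124 = n59558 := ndS (p := 18320) (l := 4) rfl N18320 D59558
theorem N36125 : nd 36125 = n59560 := ndS (p := 18320) (l := 6) rfl N18320 D59560
theorem N36126 : nd 36126 = n59563 := ndS (p := 18321) (l := 4) rfl N18321 D59563
theorem N36127 : nd 36127 = n59567 := ndS (p := 18322) (l := 1) rfl N18322 D59567
theorem N36128 : nd 36128 = n59568 := ndS (p := 18322) (l := 4) rfl N18322 D59568
theorem N36129 : nd 36129 = n59569 := ndS (p := 18322) (l := 7) rfl N18322 D59569
theorem N36130 : nd 36130 = n59570 := ndS (p := 18324) (l := 0) rfl N18324 D59570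
theorem N36131 : nd 36131 = n59571 := ndS (p := 18324) (l := 1) rfl N18324 D59571
theorem N36132 : nd 36132 = n59572 := ndS (p := 18324) (l := 2) rfl N18324 D59572
theorem N36133 : nd 36133 = n59573 := ndS (p := 18324) (l := 4) rfl N18324 D59573
theorem N36134 : nd 36134 = n59574 := ndS (p := 18324) (l := 5) rfl N18324 D59574
theorem N36135 : nd 36135 = n59575 := ndS (p := 18324) (l := 6) rfl N18324 D59575
theorem N36136 : nd 36136 = n59576 := ndS (p := 18325) (l := 0) rfl N18325 D59576
theorem N36137 : nd 36137 = n59577 := ndS (p := 18325) (l := 6) rfl N18325 D59577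
theorem N36138 : nd 36138 = n59580 := ndS (p := 18326) (l := 5) rfl N18326 D59580
theorem N36139 : nd 36139 = n59581 := ndS (p := 18326) (l := 7) rfl N18326 D59581
theorem N36140 : nd 36140 = n59582 := ndS (p := 18327) (l := 0) rfl N18327 D59582
theorem N36141 : nd 36141 = n59583 := ndS (p := 18327) (l := 1) rfl N18327 D59583
theorem N36142 : nd 36142 = n59584 := ndS (p := 18327) (l := 2) rfl N18327 D59584
theorem N36143 : nd 36143 = n59585 := ndS (p := 18327) (l := 5) rfl N18327 D59585
theorem N36144 : nd 36144 = n59586 := ndS (p := 18327) (l := 6) rfl N18327 D59586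
theorem N36145 : nd 36145 = n59587 := ndS (p := 18328) (l := 6) rfl N18328 D59587
theorem N36146 : nd 36146 = n59590 := ndS (p := 18329) (l := 5) rfl N18329 D59590
theorem N36147 : nd 36147 = n59591 := ndS (p := 18329) (l := 7) rfl N18329 D59591
theorem N36148 : nd 36148 = n59592 := ndS (p := 18330) (l := 0) rfl N18330 D59592
theorem N36149 : nd 36149 = n59594 := ndS (p := 18330) (l := 3) rfl N18330 D59594
theorem N36150 : nd 36150 = n59597 := ndS (p := 18330) (l := 6) rfl N18330 D59597
theorem N36151 : nd 36151 = n59599 := ndS (p := 18331) (l := 3) rfl N18331 D59599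
theorem N36152 : nd 36152 = n59601 := ndS (p := 18331) (l := 6) rfl N18331 D59601
theorem N36153 : nd 36153 = n59603 := ndS (p := 18332) (l := 5) rfl N18332 D59603
theorem N36154 : nd 36154 = n59604 := ndS (p := 18333) (l := 0) rfl N18333 D59604
theorem N36155 : nd 36155 = n59605 := ndS (p := 18333) (l := 1) rfl N18333 D59605
theorem N36156 : nd 36156 = n59608 := ndS (p := 18333) (l := 7) rfl N18333 D59608
theorem N36157 : nd 36157 = n59610 := ndS (p := 18335) (l := 3) rfl N18335 D59610
theorem N36158 : nd 36158 = n59611 := ndS (p := 18335) (l := 6) rfl N18335 D59611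
theorem N36159 : nd 36159 = n59612 := ndS (p := 18336) (l := 3) rfl N18336 D59612
theorem N36160 : nd 36160 = n59613 := ndS (p := 18336) (l := 6) rfl N18336 D59613
theorem N36161 : nd 36161 = n59614 := ndS (p := 18337) (l := 3) rfl N18337 D59614
theorem N36162 : nd 36162 = n59615 := ndS (p := 18337) (l := 6) rfl N18337 D59615
theorem N36163 : nd 36163 = n59617 := ndS (p := 18338) (l := 1) rfl N18338 D59617
theorem N36164 : nd 36164 = n59618 := ndS (p := 18338) (l := 7) rfl N18338 D59618
theorem N36165 : nd 36165 = n59619 := ndS (p := 18339) (l := 6) rfl N18339 D59619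
theorem N36166 : nd 36166 = n59620 := ndS (p := 18340) (l := 0) rfl N18340 D59620
theorem N36167 : nd 36167 = n59621 := ndS (p := 18340) (l := 1) rfl N18340 D59621
theorem N36168 : nd 36168 = n59624 := ndS (p := 18341) (l := 3) rfl N18341 D59624
theorem N36169 : nd 36169 = n59625 := ndS (p := 18341) (l := 4) rfl N18341 D59625
theorem N36170 : nd 36170 = n59626 := ndS (p := 18341) (l := 5) rfl N18341 D59626
theorem N36171 : nd 36171 = n59627 := ndS (p := 18341) (l := 6) rfl N18341 D59627
theorem N36172 : nd 36172 = n59629 := ndS (p := 18342) (l := 3) rfl N18342 D59629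
theorem N36173 : nd 36173 = n59630 := ndS (p := 18342) (l := 4) rfl N18342 D59630
theorem N36174 : nd 36174 = n59631 := ndS (p := 18342) (l := 5) rfl N18342 D59631
theorem N36175 : nd 36175 = n59633 := ndS (p := 18343) (l := 3) rfl N18343 D59633
theorem N36176 : nd 36176 = n59634 := ndS (p := 18343) (l := 4) rfl N18343 D59634
theorem N36177 : nd 36177 = n59635 := ndS (p := 18343) (l := 5) rfl N18343 D59635
theorem N36178 : nd 36178 = n59638 := ndS (p := 18344) (l := 4) rfl N18344 D59638
theorem N36179 : nd 36179 = n59640 := ndS (p := 18344) (l := 6) rfl N18344 D59640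
theorem N36180 : nd 36180 = n59641 := ndS (p := 18345) (l := 4) rfl N18345 D59641
theorem N36181 : nd 36181 = n59645 := ndS (p := 18347) (l := 4) rfl N18347 D59645
theorem N36182 : nd 36182 = n59646 := ndS (p := 18347) (l := 5) rfl N18347 D59646
theorem N36183 : nd 36183 = n59647 := ndS (p := 18348) (l := 4) rfl N18348 D59647
theorem N36184 : nd 36184 = n59654 := ndS (p := 18349) (l := 4) rfl N18349 D59654
theorem N36185 : nd 36185 = n59655 := ndS (p := 18351) (l := 3) rfl N18351 D59655
theorem N36186 : nd 36186 = n59656 := ndS (p := 18351) (l := 5) rfl N18351 D59656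
theorem N36187 : nd 36187 = n59657 := ndS (p := 18352) (l := 5) rfl N18352 D59657
theorem N36188 : nd 36188 = n59658 := ndS (p := 18352) (l := 6) rfl N18352 D59658
theorem N36189 : nd 36189 = n59659 := ndS (p := 18353) (l := 0) rfl N18353 D59659
theorem N36190 : nd 36190 = n59660 := ndS (p := 18353) (l := 1) rfl N18353 D59660
theorem N36191 : nd 36191 = n59661 := ndS (p := 18353) (l := 7) rfl N18353 D59661
theorem N36192 : nd 36192 = n59662 := ndS (p := 18354) (l := 3) rfl N18354 D59662
theorem N36193 : nd 36193 = n59663 := ndS (p := 18354) (l := 6) rfl N18354 D59663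
theorem N36194 : nd 36194 = n59664 := ndS (p := 18355) (l := 6) rfl N18355 D59664
theorem N36195 : nd 36195 = n59665 := ndS (p := 18356) (l := 0) rfl N18356 D59665
theorem N36196 : nd 36196 = n59666 := ndS (p := 18356) (l := 1) rfl N18356 D59666
theorem N36197 : nd 36197 = n59667 := ndS (p := 18356) (l := 5) rfl N18356 D59667
theorem N36198 : nd 36198 = n59668 := ndS (p := 18356) (l := 7) rfl N18356 D59668
theorem N36199 : nd 36199 = n59670 := ndS (p := 18357) (l := 3) rfl N18357 D59670
theorem N36200 : nd 36200 = n59671 := ndS (p := 18357) (l := 4) rfl N18357 D59671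
theorem N36201 : nd 36201 = n59672 := ndS (p := 18357) (l := 6) rfl N18357 D59672
theorem N36202 : nd 36202 = n59674 := ndS (p := 18358) (l := 3) rfl N18358 D59674
theorem N36203 : nd 36203 = n59675 := ndS (p := 18358) (l := 4) rfl N18358 D59675
theorem N36204 : nd 36204 = n59684 := ndS (p := 18361) (l := 4) rfl N18361 D59684
theorem N36205 : nd 36205 = n59685 := ndS (p := 18362) (l := 6) rfl N18362 D59685
theorem N36206 : nd 36206 = n59688 := ndS (p := 18363) (l := 3) rfl N18363 D59688
theorem N36207 : nd 36207 = n59689 := ndS (p := 18363) (l := 4) rfl N18363 D59689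
theorem N36208 : nd 36208 = n59690 := ndS (p := 18363) (l := 5) rfl N18363 D59690
theorem N36209 : nd 36209 = n59691 := ndS (p := 18363) (l := 6) rfl N18363 D59691
theorem N36210 : nd 36210 = n59693 := ndS (p := 18364) (l := 1) rfl N18364 D59693
theorem N36211 : nd 36211 = n59695 := ndS (p := 18364) (l := 5) rfl N18364 D59695
theorem N36212 : nd 36212 = n59696 := ndS (p := 18364) (l := 6) rfl N18364 D59696
theorem N36213 : nd 36213 = n59698 := ndS (p := 18365) (l := 0) rfl N18365 D59698
theorem N36214 : nd 36214 = n59700 := ndS (p := 18365) (l := 3) rfl N18365 D59700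
theorem N36215 : nd 36215 = n59702 := ndS (p := 18365) (l := 6) rfl N18365 D59702
theorem N36216 : nd 36216 = n59704 := ndS (p := 18366) (l := 0) rfl N18366 D59704
theorem N36217 : nd 36217 = n59707 := ndS (p := 18366) (l := 6) rfl N18366 D59707
theorem N36218 : nd 36218 = n59708 := ndS (p := 18366) (l := 7) rfl N18366 D59708
theorem N36219 : nd 36219 = n59711 := ndS (p := 18367) (l := 5) rfl N18367 D59711
theorem N36220 : nd 36220 = n59712 := ndS (p := 18367) (l := 7) rfl N18367 D59712
theorem N36221 : nd 36221 = n59714 := ndS (p := 18369) (l := 0) rfl N18369 D59714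
theorem N36222 : nd 36222 = n59716 := ndS (p := 18369) (l := 2) rfl N18369 D59716
theorem N36223 : nd 36223 = n59717 := ndS (p := 18369) (l := 4) rfl N18369 D59717
theorem N36224 : nd 36224 = n59718 := ndS (p := 18369) (l := 5) rfl N18369 D59718
theorem N36225 : nd 36225 = n59719 := ndS (p := 18369) (l := 6) rfl N18369 D59719
theorem N36226 : nd 36226 = n59720 := ndS (p := 18370) (l := 3) rfl N18370 D59720
theorem N36227 : nd 36227 = n59722 := ndS (p := 18370) (l := 6) rfl N18370 D59722
theorem N36228 : nd 36228 = n59726 := ndS (p := 18372) (l := 1) rfl N18372 D59726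
theorem N36229 : nd 36229 = n59757 := ndS (p := 18375) (l := 0) rfl N18375 D59757
theorem N36230 : nd 36230 = n59758 := ndS (p := 18375) (l := 1) rfl N18375 D59758
theorem N36231 : nd 36231 = n59761 := ndS (p := 18376) (l := 3) rfl N18376 D59761
theorem N36232 : nd 36232 = n59764 := ndS (p := 18376) (l := 6) rfl N18376 D59764
theorem N36233 : nd 36233 = n59766 := ndS (p := 18377) (l := 3) rfl N18377 D59766
theorem N36234 : nd 36234 = n59780 := ndS (p := 18379) (l := 0) rfl N18379 D59780
theorem N36235 : nd 36235 = n59781 := ndS (p := 18379) (l := 1) rfl N18379 D59781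
theorem N36236 : nd 36236 = n59782 := ndS (p := 18379) (l := 4) rfl N18379 D59782
theorem N36237 : nd 36237 = n59787 := ndS (p := 18380) (l := 5) rfl N18380 D59787
theorem N36238 : nd 36238 = n59788 := ndS (p := 18380) (l := 6) rfl N18380 D59788
theorem N36239 : nd 36239 = n59798 := ndS (p := 18383) (l := 4) rfl N18383 D59798
theorem N36240 : nd 36240 = n59799 := ndS (p := 18383) (l := 5) rfl N18383 D59799
theorem N36241 : nd 36241 = n59803 := ndS (p := 18385) (l := 0) rfl N18385 D59803
theorem N36242 : nd 36242 = n59804 := ndS (p := 18385) (l := 1) rfl N18385 D59804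
theorem N36243 : nd 36243 = n59805 := ndS (p := 18387) (l := 6) rfl N18387 D59805
theorem N36244 : nd 36244 = n59806 := ndS (p := 18388) (l := 1) rfl N18388 D59806
theorem N36245 : nd 36245 = n59807 := ndS (p := 18388) (l := 5) rfl N18388 D59807
theorem N36246 : nd 36246 = n59808 := ndS (p := 18389) (l := 4) rfl N18389 D59808
theorem N36247 : nd 36247 = n59809 := ndS (p := 18390) (l := 3) rfl N18390 D59809
theorem N36248 : nd 36248 = n59810 := ndS (p := 18391) (l := 0) rfl N18391 D59810
theorem N36249 : nd 36249 = n59811 := ndS (p := 18391) (l := 1) rfl N18391 D59811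
theorem N36250 : nd 36250 = n59812 := ndS (p := 18391) (l := 5) rfl N18391 D59812
theorem N36251 : nd 36251 = n59813 := ndS (p := 18391) (l := 6) rfl N18391 D59813
theorem N36252 : nd 36252 = n59814 := ndS (p := 18393) (l := 5) rfl N18393 D59814
theorem N36253 : nd 36253 = n59815 := ndS (p := 18394) (l := 5) rfl N18394 D59815
theorem N36254 : nd 36254 = n59816 := ndS (p := 18395) (l := 4) rfl N18395 D59816
theorem N36255 : nd 36255 = n59817 := ndS (p := 18396) (l := 4) rfl N18396 D59817
theorem N36256 : nd 36256 = n59819 := ndS (p := 18397) (l := 3) rfl N18397 D59819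
theorem N36257 : nd 36257 = n59820 := ndS (p := 18398) (l := 0) rfl N18398 D59820
theorem N36258 : nd 36258 = n59821 := ndS (p := 18398) (l := 1) rfl N18398 D59821
theorem N36259 : nd 36259 = n59822 := ndS (p := 18398) (l := 2) rfl N18398 D59822
theorem N36260 : nd 36260 = n59823 := ndS (p := 18398) (l := 5) rfl N18398 D59823
theorem N36261 : nd 36261 = n59824 := ndS (p := 18398) (l := 6) rfl N18398 D59824
theorem N36262 : nd 36262 = n59825 := ndS (p := 18399) (l := 6) rfl N18399 D59825
theorem N36263 : nd 36263 = n59826 := ndS (p := 18400) (l := 0) rfl N18400 D59826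
theorem N36264 : nd 36264 = n59827 := ndS (p := 18400) (l := 5) rfl N18400 D59827
theorem N36265 : nd 36265 = n59828 := ndS (p := 18400) (l := 7) rfl N18400 D59828
theorem N36266 : nd 36266 = n59829 := ndS (p := 18405) (l := 5) rfl N18405 D59829
theorem N36267 : nd 36267 = n59830 := ndS (p := 18406) (l := 4) rfl N18406 D59830
theorem N36268 : nd 36268 = n59831 := ndS (p := 18406) (l := 6) rfl N18406 D59831
theorem N36269 : nd 36269 = n59832 := ndS (p := 18407) (l := 3) rfl N18407 D59832
theorem N36270 : nd 36270 = n59833 := ndS (p := 18407) (l := 6) rfl N18407 D59833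
theorem N36271 : nd 36271 = n59834 := ndS (p := 18408) (l := 0) rfl N18408 D59834
theorem N36272 : nd 36272 = n59835 := ndS (p := 18408) (l := 1) rfl N18408 D59835
theorem N36273 : nd 36273 = n59836 := ndS (p := 18408) (l := 7) rfl N18408 D59836
theorem N36274 : nd 36274 = n59837 := ndS (p := 18410) (l := 5) rfl N18410 D59837
theorem N36275 : nd 36275 = n59838 := ndS (p := 18411) (l := 3) rfl N18411 D59838
theorem N36276 : nd 36276 = n59839 := ndS (p := 18411) (l := 6) rfl N18411 D59839
theorem N36277 : nd 36277 = n59840 := ndS (p := 18412) (l := 0) rfl N18412 D59840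
theorem N36278 : nd 36278 = n59841 := ndS (p := 18412) (l := 1) rfl N18412 D59841
theorem N36279 : nd 36279 = n59842 := ndS (p := 18412) (l := 7) rfl N18412 D59842
theorem N36280 : nd 36280 = n59843 := ndS (p := 18413) (l := 3) rfl N18413 D59843
theorem N36281 : nd 36281 = n59845 := ndS (p := 18415) (l := 6) rfl N18415 D59845
theorem N36282 : nd 36282 = n59846 := ndS (p := 18416) (l := 5) rfl N18416 D59846
theorem N36283 : nd 36283 = n59847 := ndS (p := 18417) (l := 4) rfl N18417 D59847
theorem N36284 : nd 36284 = n59849 := ndS (p := 18418) (l := 5) rfl N18418 D59849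
theorem N36285 : nd 36285 = n59850 := ndS (p := 18419) (l := 1) rfl N18419 D59850
theorem N36286 : nd 36286 = n59851 := ndS (p := 18419) (l := 4) rfl N18419 D59851
theorem N36287 : nd 36287 = n59852 := ndS (p := 18419) (l := 6) rfl N18419 D59852
theorem N36288 : nd 36288 = n59853 := ndS (p := 18420) (l := 5) rfl N18420 D59853
theorem N36289 : nd 36289 = n59854 := ndS (p := 18421) (l := 5) rfl N18421 D59854
theorem N36290 : nd 36290 = n59855 := ndS (p := 18422) (l := 4) rfl N18422 D59855
theorem N36291 : nd 36291 = n59856 := ndS (p := 18422) (l := 6) rfl N18422 D59856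
theorem N36292 : nd 36292 = n59857 := ndS (p := 18424) (l := 4) rfl N18424 D59857
theorem N36293 : nd 36293 = n59858 := ndS (p := 18424) (l := 6) rfl N18424 D59858
theorem N36294 : nd 36294 = n59859 := ndS (p := 18425) (l := 0) rfl N18425 D59859
theorem N36295 : nd 36295 = n59860 := ndS (p := 18425) (l := 1) rfl N18425 D59860
theorem N36296 : nd 36296 = n59861 := ndS (p := 18425) (l := 3) rfl N18425 D59861
theorem N36297 : nd 36297 = n59862 := ndS (p := 18425) (l := 5) rfl N18425 D59862
theorem N36298 : nd 36298 = n59863 := ndS (p := 18425) (l := 6) rfl N18425 D59863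
theorem N36299 : nd 36299 = n59864 := ndS (p := 18425) (l := 7) rfl N18425 D59864
theorem N36300 : nd 36300 = n59868 := ndS (p := 18427) (l := 6) rfl N18427 D59868
theorem N36301 : nd 36301 = n59869 := ndS (p := 18429) (l := 5) rfl N18429 D59869
theorem N36302 : nd 36302 = n59870 := ndS (p := 18430) (l := 5) rfl N18430 D59870
theorem N36303 : nd 36303 = n59871 := ndS (p := 18431) (l := 5) rfl N18431 D59871
theorem N36304 : nd 36304 = n59872 := ndS (p := 18431) (l := 6) rfl N18431 D59872
theorem N36305 : nd 36305 = n59873 := ndS (p := 18432) (l := 0) rfl N18432 D59873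
theorem N36306 : nd 36306 = n59874 := ndS (p := 18432) (l := 4) rfl N18432 D59874
theorem N36307 : nd 36307 = n59875 := ndS (p := 18432) (l := 6) rfl N18432 D59875
theorem N36308 : nd 36308 = n59876 := ndS (p := 18434) (l := 4) rfl N18434 D59876
theorem N36309 : nd 36309 = n59877 := ndS (p := 18434) (l := 6) rfl N18434 D59877
theorem N36310 : nd 36310 = n59878 := ndS (p := 18436) (l := 3) rfl N18436 D59878
theorem N36311 : nd 36311 = n59879 := ndS (p := 18436) (l := 5) rfl N18436 D59879
theorem N36312 : nd 36312 = n59880 := ndS (p := 18436) (l := 6) rfl N18436 D59880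
theorem N36313 : nd 36313 = n59882 := ndS (p := 18437) (l := 1) rfl N18437 D59882
theorem N36314 : nd 36314 = n59883 := ndS (p := 18437) (l := 5) rfl N18437 D59883
theorem N36315 : nd 36315 = n59884 := ndS (p := 18437) (l := 7) rfl N18437 D59884
theorem N36316 : nd 36316 = n59886 := ndS (p := 18440) (l := 6) rfl N18440 D59886
theorem N36317 : nd 36317 = n59891 := ndS (p := 18442) (l := 5) rfl N18442 D59891
theorem N36318 : nd 36318 = n59892 := ndS (p := 18442) (l := 6) rfl N18442 D59892
theorem N36319 : nd 36319 = n59893 := ndS (p := 18443) (l := 0) rfl N18443 D59893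
theorem N36320 : nd 36320 = n59894 := ndS (p := 18443) (l := 1) rfl N18443 D59894
theorem N36321 : nd 36321 = n59895 := ndS (p := 18443) (l := 7) rfl N18443 D59895
theorem N36322 : nd 36322 = n59896 := ndS (p := 18444) (l := 6) rfl N18444 D59896
theorem N36323 : nd 36323 = n59899 := ndS (p := 18445) (l := 3) rfl N18445 D59899
theorem N36324 : nd 36324 = n59900 := ndS (p := 18445) (l := 5) rfl N18445 D59900
theorem N36325 : nd 36325 = n59902 := ndS (p := 18446) (l := 0) rfl N18446 D59902
theorem N36326 : nd 36326 = n59906 := ndS (p := 18447) (l := 4) rfl N18447 D59906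
theorem N36327 : nd 36327 = n59915 := ndS (p := 18448) (l := 3) rfl N18448 D59915
theorem N36328 : nd 36328 = n59916 := ndS (p := 18448) (l := 5) rfl N18448 D59916
theorem N36329 : nd 36329 = n59919 := ndS (p := 18449) (l := 0) rfl N18449 D59919
theorem N36330 : nd 36330 = n59920 := ndS (p := 18449) (l := 1) rfl N18449 D59920
theorem N36331 : nd 36331 = n59921 := ndS (p := 18449) (l := 2) rfl N18449 D59921
theorem N36332 : nd 36332 = n59922 := ndS (p := 18449) (l := 5) rfl N18449 D59922
theorem N36333 : nd 36333 = n59923 := ndS (p := 18449) (l := 6) rfl N18449 D59923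
theorem N36334 : nd 36334 = n59924 := ndS (p := 18450) (l := 0) rfl N18450 D59924
theorem N36335 : nd 36335 = n59925 := ndS (p := 18450) (l := 4) rfl N18450 D59925
theorem N36336 : nd 36336 = n59926 := ndS (p := 18450) (l := 6) rfl N18450 D59926
theorem N36337 : nd 36337 = n59927 := ndS (p := 18450) (l := 7) rfl N18450 D59927
theorem N36338 : nd 36338 = n59929 := ndS (p := 18451) (l := 1) rfl N18451 D59929
theorem N36339 : nd 36339 = n59930 := ndS (p := 18451) (l := 5) rfl N18451 D59930
theorem N36340 : nd 36340 = n59931 := ndS (p := 18451) (l := 7) rfl N18451 D59931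
theorem N36341 : nd 36341 = n59932 := ndS (p := 18452) (l := 6) rfl N18452 D59932
theorem N36342 : nd 36342 = n59934 := ndS (p := 18453) (l := 3) rfl N18453 D59934
theorem N36343 : nd 36343 = n59935 := ndS (p := 18453) (l := 4) rfl N18453 D59935
theorem N36344 : nd 36344 = n59936 := ndS (p := 18453) (l := 5) rfl N18453 D59936
theorem N36345 : nd 36345 = n59939 := ndS (p := 18454) (l := 3) rfl N18454 D59939
theorem N36346 : nd 36346 = n59940 := ndS (p := 18454) (l := 4) rfl N18454 D59940
theorem N36347 : nd 36347 = n59941 := ndS (p := 18454) (l := 5) rfl N18454 D59941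
theorem N36348 : nd 36348 = n59942 := ndS (p := 18454) (l := 6) rfl N18454 D59942
theorem N36349 : nd 36349 = n59943 := ndS (p := 18455) (l := 6) rfl N18455 D59943
theorem N36350 : nd 36350 = n59944 := ndS (p := 18456) (l := 0) rfl N18456 D59944
theorem N36351 : nd 36351 = n59945 := ndS (p := 18456) (l := 1) rfl N18456 D59945
theorem N36352 : nd 36352 = n59946 := ndS (p := 18456) (l := 5) rfl N18456 D59946
theorem N36353 : nd 36353 = n59947 := ndS (p := 18457) (l := 5) rfl N18457 D59947
theorem N36354 : nd 36354 = n59948 := ndS (p := 18458) (l := 5) rfl N18458 D59948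
theorem N36355 : nd 36355 = n59949 := ndS (p := 18459) (l := 0) rfl N18459 D59949
theorem N36356 : nd 36356 = n59950 := ndS (p := 18459) (l := 1) rfl N18459 D59950
theorem N36357 : nd 36357 = n59951 := ndS (p := 18459) (l := 4) rfl N18459 D59951
theorem N36358 : nd 36358 = n59953 := ndS (p := 18460) (l := 3) rfl N18460 D59953
theorem N36359 : nd 36359 = n59954 := ndS (p := 18460) (l := 4) rfl N18460 D59954
theorem N36360 : nd 36360 = n59957 := ndS (p := 18461) (l := 3) rfl N18461 D59957
theorem N36361 : nd 36361 = n59958 := ndS (p := 18461) (l := 4) rfl N18461 D59958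
theorem N36362 : nd 36362 = n59961 := ndS (p := 18462) (l := 6) rfl N18462 D59961
theorem N36363 : nd 36363 = n59962 := ndS (p := 18463) (l := 0) rfl N18463 D59962
theorem N36364 : nd 36364 = n59963 := ndS (p := 18463) (l := 1) rfl N18463 D59963
theorem N36365 : nd 36365 = n59964 := ndS (p := 18463) (l := 5) rfl N18463 D59964
theorem N36366 : nd 36366 = n59965 := ndS (p := 18463) (l := 7) rfl N18463 D59965
theorem N36367 : nd 36367 = n59966 := ndS (p := 18464) (l := 4) rfl N18464 D59966
theorem N36368 : nd 36368 = n59968 := ndS (p := 18466) (l := 0) rfl N18466 D59968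
theorem N36369 : nd 36369 = n59971 := ndS (p := 18466) (l := 4) rfl N18466 D59971
theorem N36370 : nd 36370 = n59972 := ndS (p := 18466) (l := 5) rfl N18466 D59972
theorem N36371 : nd 36371 = n59975 := ndS (p := 18468) (l := 1) rfl N18468 D59975
theorem N36372 : nd 36372 = n59978 := ndS (p := 18469) (l := 1) rfl N18469 D59978
theorem N36373 : nd 36373 = n59979 := ndS (p := 18469) (l := 2) rfl N18469 D59979
theorem N36374 : nd 36374 = n59980 := ndS (p := 18469) (l := 4) rfl N18469 D59980
theorem N36375 : nd 36375 = n59981 := ndS (p := 18469) (l := 6) rfl N18469 D59981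
theorem N36376 : nd 36376 = n59982 := ndS (p := 18470) (l := 0) rfl N18470 D59982
theorem N36377 : nd 36377 = n59986 := ndS (p := 18472) (l := 3) rfl N18472 D59986
theorem N36378 : nd 36378 = n59988 := ndS (p := 18472) (l := 5) rfl N18472 D59988
theorem N36379 : nd 36379 = n59989 := ndS (p := 18472) (l := 6) rfl N18472 D59989
theorem N36380 : nd 36380 = n59991 := ndS (p := 18473) (l := 3) rfl N18473 D59991
theorem N36381 : nd 36381 = n59993 := ndS (p := 18473) (l := 5) rfl N18473 D59993
theorem N36382 : nd 36382 = n59994 := ndS (p := 18473) (l := 6) rfl N18473 D59994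
theorem N36383 : nd 36383 = n59995 := ndS (p := 18474) (l := 0) rfl N18474 D59995
theorem N36384 : nd 36384 = n59996 := ndS (p := 18474) (l := 1) rfl N18474 D59996
theorem N36385 : nd 36385 = n59997 := ndS (p := 18474) (l := 4) rfl N18474 D59997
theorem N36386 : nd 36386 = n59998 := ndS (p := 18475) (l := 3) rfl N18475 D59998
theorem N36387 : nd 36387 = n60000 := ndS (p := 18476) (l := 3) rfl N18476 D60000
theorem N36388 : nd 36388 = n60002 := ndS (p := 18476) (l := 5) rfl N18476 D60002
theorem N36389 : nd 36389 = n60003 := ndS (p := 18476) (l := 6) rfl N18476 D60003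
theorem N36390 : nd 36390 = n60005 := ndS (p := 18477) (l := 3) rfl N18477 D60005
theorem N36391 : nd 36391 = n60007 := ndS (p := 18477) (l := 5) rfl N18477 D60007
theorem N36392 : nd 36392 = n60008 := ndS (p := 18477) (l := 6) rfl N18477 D60008
theorem N36393 : nd 36393 = n60009 := ndS (p := 18478) (l := 0) rfl N18478 D60009
theorem N36394 : nd 36394 = n60010 := ndS (p := 18478) (l := 1) rfl N18478 D60010
theorem N36395 : nd 36395 = n60011 := ndS (p := 18478) (l := 4) rfl N18478 D60011
theorem N36396 : nd 36396 = n60012 := ndS (p := 18478) (l := 7) rfl N18478 D60012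
theorem N36397 : nd 36397 = n60013 := ndS (p := 18480) (l := 0) rfl N18480 D60013
theorem N36398 : nd 36398 = n60014 := ndS (p := 18480) (l := 5) rfl N18480 D60014
theorem N36399 : nd 36399 = n60015 := ndS (p := 18481) (l := 4) rfl N18481 D60015
theorem N36400 : nd 36400 = n60016 := ndS (p := 18481) (l := 6) rfl N18481 D60016
theorem N36401 : nd 36401 = n60017 := ndS (p := 18482) (l := 4) rfl N18482 D60017
theorem N36402 : nd 36402 = n60018 := ndS (p := 18482) (l := 6) rfl N18482 D60018
theorem N36403 : nd 36403 = n60019 := ndS (p := 18483) (l := 3) rfl N18483 D60019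
theorem N36404 : nd 36404 = n60020 := ndS (p := 18483) (l := 6) rfl N18483 D60020
theorem N36405 : nd 36405 = n60021 := ndS (p := 18484) (l := 6) rfl N18484 D60021
theorem N36406 : nd 36406 = n60022 := ndS (p := 18485) (l := 0) rfl N18485 D60022
theorem N36407 : nd 36407 = n60023 := ndS (p := 18485) (l := 1) rfl N18485 D60023
theorem N36408 : nd 36408 = n60024 := ndS (p := 18485) (l := 3) rfl N18485 D60024
theorem N36409 : nd 36409 = n60025 := ndS (p := 18486) (l := 6) rfl N18486 D60025
theorem N36410 : nd 36410 = n60026 := ndS (p := 18487) (l := 4) rfl N18487 D60026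
theorem N36411 : nd 36411 = n60027 := ndS (p := 18487) (l := 6) rfl N18487 D60027
theorem N36412 : nd 36412 = n60028 := ndS (p := 18489) (l := 3) rfl N18489 D60028
theorem N36413 : nd 36413 = n60029 := ndS (p := 18489) (l := 6) rfl N18489 D60029
theorem N36414 : nd 36414 = n60030 := ndS (p := 18490) (l := 5) rfl N18490 D60030
theorem N36415 : nd 36415 = n60031 := ndS (p := 18491) (l := 4) rfl N18491 D60031
theorem N36416 : nd 36416 = n60037 := ndS (p := 18495) (l := 5) rfl N18495 D60037
theorem N36417 : nd 36417 = n60039 := ndS (p := 18496) (l := 4) rfl N18496 D60039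
theorem N36418 : nd 36418 = n60040 := ndS (p := 18497) (l := 6) rfl N18497 D60040
theorem N36419 : nd 36419 = n60041 := ndS (p := 18498) (l := 6) rfl N18498 D60041
theorem N36420 : nd 36420 = n60042 := ndS (p := 18499) (l := 0) rfl N18499 D60042
theorem N36421 : nd 36421 = n60043 := ndS (p := 18499) (l := 1) rfl N18499 D60043
theorem N36422 : nd 36422 = n60044 := ndS (p := 18499) (l := 5) rfl N18499 D60044
theorem N36423 : nd 36423 = n60045 := ndS (p := 18499) (l := 7) rfl N18499 D60045
theorem N36424 : nd 36424 = n60046 := ndS (p := 18500) (l := 5) rfl N18500 D60046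
theorem N36425 : nd 36425 = n60047 := ndS (p := 18501) (l := 3) rfl N18501 D60047
theorem N36426 : nd 36426 = n60048 := ndS (p := 18501) (l := 5) rfl N18501 D60048
theorem N36427 : nd 36427 = n60049 := ndS (p := 18502) (l := 0) rfl N18502 D60049
theorem N36428 : nd 36428 = n60050 := ndS (p := 18502) (l := 1) rfl N18502 D60050
theorem N36429 : nd 36429 = n60051 := ndS (p := 18502) (l := 4) rfl N18502 D60051
theorem N36430 : nd 36430 = n60052 := ndS (p := 18502) (l := 7) rfl N18502 D60052
theorem N36431 : nd 36431 = n60053 := ndS (p := 18504) (l := 6) rfl N18504 D60053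
theorem N36432 : nd 36432 = n60055 := ndS (p := 18506) (l := 7) rfl N18506 D60055
theorem N36433 : nd 36433 = n60056 := ndS (p := 18507) (l := 6) rfl N18507 D60056
theorem N36434 : nd 36434 = n60060 := ndS (p := 18508) (l := 6) rfl N18508 D60060
theorem N36435 : nd 36435 = n60062 := ndS (p := 18511) (l := 3) rfl N18511 D60062
theorem N36436 : nd 36436 = n60063 := ndS (p := 18511) (l := 6) rfl N18511 D60063
theorem N36437 : nd 36437 = n60065 := ndS (p := 18512) (l := 1) rfl N18512 D60065
theorem N36438 : nd 36438 = n60066 := ndS (p := 18512) (l := 7) rfl N18512 D60066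
theorem N36439 : nd 36439 = n60067 := ndS (p := 18513) (l := 3) rfl N18513 D60067
theorem N36440 : nd 36440 = n60068 := ndS (p := 18513) (l := 5) rfl N18513 D60068
theorem N36441 : nd 36441 = n60069 := ndS (p := 18513) (l := 6) rfl N18513 D60069
theorem N36442 : nd 36442 = n60071 := ndS (p := 18514) (l := 5) rfl N18514 D60071
theorem N36443 : nd 36443 = n60072 := ndS (p := 18514) (l := 6) rfl N18514 D60072
theorem N36444 : nd 36444 = n60073 := ndS (p := 18515) (l := 2) rfl N18515 D60073
theorem N36445 : nd 36445 = n60075 := ndS (p := 18515) (l := 7) rfl N18515 D60075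
theorem N36446 : nd 36446 = n60076 := ndS (p := 18516) (l := 0) rfl N18516 D60076
theorem N36447 : nd 36447 = n60077 := ndS (p := 18516) (l := 1) rfl N18516 D60077
theorem N36448 : nd 36448 = n60078 := ndS (p := 18516) (l := 6) rfl N18516 D60078
theorem N36449 : nd 36449 = n60079 := ndS (p := 18517) (l := 0) rfl N18517 D60079
theorem N36450 : nd 36450 = n60082 := ndS (p := 18517) (l := 7) rfl N18517 D60082
theorem N36451 : nd 36451 = n60083 := ndS (p := 18518) (l := 6) rfl N18518 D60083
theorem N36452 : nd 36452 = n60088 := ndS (p := 18519) (l := 6) rfl N18519 D60088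
theorem N36453 : nd 36453 = n60094 := ndS (p := 18520) (l := 0) rfl N18520 D60094
theorem N36454 : nd 36454 = n60096 := ndS (p := 18520) (l := 4) rfl N18520 D60096
theorem N36455 : nd 36455 = n60097 := ndS (p := 18520) (l := 7) rfl N18520 D60097
theorem N36456 : nd 36456 = n60101 := ndS (p := 18522) (l := 5) rfl N18522 D60101
theorem N36457 : nd 36457 = n60102 := ndS (p := 18523) (l := 4) rfl N18523 D60102
theorem N36458 : nd 36458 = n60103 := ndS (p := 18523) (l := 6) rfl N18523 D60103
theorem N36459 : nd 36459 = n60104 := ndS (p := 18524) (l := 4) rfl N18524 D60104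
theorem N36460 : nd 36460 = n60105 := ndS (p := 18524) (l := 6) rfl N18524 D60105
theorem N36461 : nd 36461 = n60107 := ndS (p := 18525) (l := 3) rfl N18525 D60107
theorem N36462 : nd 36462 = n60110 := ndS (p := 18526) (l := 6) rfl N18526 D60110
theorem N36463 : nd 36463 = n60111 := ndS (p := 18527) (l := 4) rfl N18527 D60111
theorem N36464 : nd 36464 = n60113 := ndS (p := 18529) (l := 6) rfl N18529 D60113
theorem N36465 : nd 36465 = n60114 := ndS (p := 18530) (l := 4) rfl N18530 D60114
theorem N36466 : nd 36466 = n60115 := ndS (p := 18530) (l := 6) rfl N18530 D60115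
theorem N36467 : nd 36467 = n60116 := ndS (p := 18531) (l := 5) rfl N18531 D60116
theorem N36468 : nd 36468 = n60117 := ndS (p := 18532) (l := 6) rfl N18532 D60117
theorem N36469 : nd 36469 = n60118 := ndS (p := 18533) (l := 3) rfl N18533 D60118
theorem N36470 : nd 36470 = n60119 := ndS (p := 18533) (l := 6) rfl N18533 D60119
theorem N36471 : nd 36471 = n60120 := ndS (p := 18534) (l := 0) rfl N18534 D60120
theorem N36472 : nd 36472 = n60121 := ndS (p := 18534) (l := 1) rfl N18534 D60121
theorem N36473 : nd 36473 = n60122 := ndS (p := 18534) (l := 5) rfl N18534 D60122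
theorem N36474 : nd 36474 = n60123 := ndS (p := 18534) (l := 7) rfl N18534 D60123
theorem N36475 : nd 36475 = n60124 := ndS (p := 18535) (l := 0) rfl N18535 D60124
theorem N36476 : nd 36476 = n60125 := ndS (p := 18535) (l := 4) rfl N18535 D60125
theorem N36477 : nd 36477 = n60126 := ndS (p := 18536) (l := 0) rfl N18536 D60126
theorem N36478 : nd 36478 = n60127 := ndS (p := 18536) (l := 1) rfl N18536 D60127
theorem N36479 : nd 36479 = n60128 := ndS (p := 18536) (l := 5) rfl N18536 D60128
theorem N36480 : nd 36480 = n60130 := ndS (p := 18537) (l := 1) rfl N18537 D60130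
theorem N36481 : nd 36481 = n60131 := ndS (p := 18537) (l := 4) rfl N18537 D60131
theorem N36482 : nd 36482 = n60132 := ndS (p := 18538) (l := 0) rfl N18538 D60132
theorem N36483 : nd 36483 = n60133 := ndS (p := 18538) (l := 2) rfl N18538 D60133
theorem N36484 : nd 36484 = n60134 := ndS (p := 18538) (l := 5) rfl N18538 D60134
theorem N36485 : nd 36485 = n60135 := ndS (p := 18538) (l := 6) rfl N18538 D60135
theorem N36486 : nd 36486 = n60137 := ndS (p := 18540) (l := 0) rfl N18540 D60137
theorem N36487 : nd 36487 = n60138 := ndS (p := 18540) (l := 1) rfl N18540 D60138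
theorem N36488 : nd 36488 = n60139 := ndS (p := 18540) (l := 5) rfl N18540 D60139
theorem N36489 : nd 36489 = n60140 := ndS (p := 18540) (l := 7) rfl N18540 D60140
theorem N36490 : nd 36490 = n60148 := ndS (p := 18541) (l := 4) rfl N18541 D60148
theorem N36491 : nd 36491 = n60149 := ndS (p := 18541) (l := 5) rfl N18541 D60149
theorem N36492 : nd 36492 = n60150 := ndS (p := 18541) (l := 6) rfl N18541 D60150
theorem N36493 : nd 36493 = n60152 := ndS (p := 18542) (l := 1) rfl N18542 D60152
theorem N36494 : nd 36494 = n60153 := ndS (p := 18542) (l := 4) rfl N18542 D60153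
theorem N36495 : nd 36495 = n60154 := ndS (p := 18542) (l := 7) rfl N18542 D60154
theorem N36496 : nd 36496 = n60155 := ndS (p := 18544) (l := 4) rfl N18544 D60155
theorem N36497 : nd 36497 = n60156 := ndS (p := 18544) (l := 6) rfl N18544 D60156
theorem N36498 : nd 36498 = n60157 := ndS (p := 18545) (l := 4) rfl N18545 D60157
theorem N36499 : nd 36499 = n60159 := ndS (p := 18546) (l := 0) rfl N18546 D60159
theorem N36500 : nd 36500 = n60160 := ndS (p := 18546) (l := 1) rfl N18546 D60160
theorem N36501 : nd 36501 = n60161 := ndS (p := 18546) (l := 3) rfl N18546 D60161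
theorem N36502 : nd 36502 = n60162 := ndS (p := 18546) (l := 5) rfl N18546 D60162
theorem N36503 : nd 36503 = n60163 := ndS (p := 18546) (l := 7) rfl N18546 D60163
theorem N36504 : nd 36504 = n60164 := ndS (p := 18547) (l := 6) rfl N18547 D60164
theorem N36505 : nd 36505 = n60165 := ndS (p := 18548) (l := 6) rfl N18548 D60165
theorem N36506 : nd 36506 = n60166 := ndS (p := 18549) (l := 3) rfl N18549 D60166
theorem N36507 : nd 36507 = n60167 := ndS (p := 18549) (l := 6) rfl N18549 D60167
theorem N36508 : nd 36508 = n60170 := ndS (p := 18550) (l := 5) rfl N18550 D60170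
theorem N36509 : nd 36509 = n60172 := ndS (p := 18551) (l := 6) rfl N18551 D60172
theorem N36510 : nd 36510 = n60176 := ndS (p := 18553) (l := 3) rfl N18553 D60176
theorem N36511 : nd 36511 = n60177 := ndS (p := 18554) (l := 0) rfl N18554 D60177
theorem N36512 : nd 36512 = n60178 := ndS (p := 18554) (l := 1) rfl N18554 D60178
theorem N36513 : nd 36513 = n60179 := ndS (p := 18554) (l := 6) rfl N18554 D60179
theorem N36514 : nd 36514 = n60180 := ndS (p := 18555) (l := 1) rfl N18555 D60180
theorem N36515 : nd 36515 = n60181 := ndS (p := 18555) (l := 5) rfl N18555 D60181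
theorem N36516 : nd 36516 = n60182 := ndS (p := 18555) (l := 7) rfl N18555 D60182
theorem N36517 : nd 36517 = n60184 := ndS (p := 18556) (l := 3) rfl N18556 D60184
theorem N36518 : nd 36518 = n60185 := ndS (p := 18556) (l := 4) rfl N18556 D60185
theorem N36519 : nd 36519 = n60189 := ndS (p := 18557) (l := 4) rfl N18557 D60189
theorem N36520 : nd 36520 = n60190 := ndS (p := 18557) (l := 5) rfl N18557 D60190
theorem N36521 : nd 36521 = n60192 := ndS (p := 18559) (l := 0) rfl N18559 D60192
theorem N36522 : nd 36522 = n60193 := ndS (p := 18559) (l := 1) rfl N18559 D60193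
theorem N36523 : nd 36523 = n60194 := ndS (p := 18559) (l := 5) rfl N18559 D60194
theorem N36524 : nd 36524 = n60195 := ndS (p := 18559) (l := 7) rfl N18559 D60195
theorem N36525 : nd 36525 = n60196 := ndS (p := 18560) (l := 3) rfl N18560 D60196
theorem N36526 : nd 36526 = n60197 := ndS (p := 18560) (l := 6) rfl N18560 D60197
theorem N36527 : nd 36527 = n60198 := ndS (p := 18561) (l := 3) rfl N18561 D60198
theorem N36528 : nd 36528 = n60199 := ndS (p := 18561) (l := 6) rfl N18561 D60199
theorem N36529 : nd 36529 = n60200 := ndS (p := 18562) (l := 2) rfl N18562 D60200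
theorem N36530 : nd 36530 = n60201 := ndS (p := 18562) (l := 6) rfl N18562 D60201
theorem N36531 : nd 36531 = n60202 := ndS (p := 18563) (l := 0) rfl N18563 D60202
theorem N36532 : nd 36532 = n60203 := ndS (p := 18563) (l := 1) rfl N18563 D60203
theorem N36533 : nd 36533 = n60204 := ndS (p := 18563) (l := 6) rfl N18563 D60204
theorem N36534 : nd 36534 = n60205 := ndS (p := 18564) (l := 0) rfl N18564 D60205
theorem N36535 : nd 36535 = n60206 := ndS (p := 18564) (l := 1) rfl N18564 D60206
theorem N36536 : nd 36536 = n60207 := ndS (p := 18564) (l := 5) rfl N18564 D60207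
theorem N36537 : nd 36537 = n60208 := ndS (p := 18564) (l := 7) rfl N18564 D60208
theorem N36538 : nd 36538 = n60211 := ndS (p := 18565) (l := 4) rfl N18565 D60211
theorem N36539 : nd 36539 = n60212 := ndS (p := 18565) (l := 5) rfl N18565 D60212
theorem N36540 : nd 36540 = n60219 := ndS (p := 18566) (l := 0) rfl N18566 D60219
theorem N36541 : nd 36541 = n60221 := ndS (p := 18566) (l := 4) rfl N18566 D60221
theorem N36542 : nd 36542 = n60222 := ndS (p := 18566) (l := 7) rfl N18566 D60222
theorem N36543 : nd 36543 = n60223 := ndS (p := 18569) (l := 3) rfl N18569 D60223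
theorem N36544 : nd 36544 = n60224 := ndS (p := 18569) (l := 6) rfl N18569 D60224
theorem N36545 : nd 36545 = n60225 := ndS (p := 18570) (l := 0) rfl N18570 D60225
theorem N36546 : nd 36546 = n60227 := ndS (p := 18570) (l := 7) rfl N18570 D60227
theorem N36547 : nd 36547 = n60228 := ndS (p := 18571) (l := 0) rfl N18571 D60228
theorem N36548 : nd 36548 = n60229 := ndS (p := 18571) (l := 2) rfl N18571 D60229
theorem N36549 : nd 36549 = n60230 := ndS (p := 18571) (l := 5) rfl N18571 D60230
theorem N36550 : nd 36550 = n60231 := ndS (p := 18571) (l := 6) rfl N18571 D60231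
theorem N36551 : nd 36551 = n60232 := ndS (p := 18572) (l := 6) rfl N18572 D60232
theorem N36552 : nd 36552 = n60233 := ndS (p := 18573) (l := 0) rfl N18573 D60233
theorem N36553 : nd 36553 = n60234 := ndS (p := 18573) (l := 1) rfl N18573 D60234
theorem N36554 : nd 36554 = n60235 := ndS (p := 18573) (l := 5) rfl N18573 D60235
theorem N36555 : nd 36555 = n60236 := ndS (p := 18573) (l := 7) rfl N18573 D60236
theorem N36556 : nd 36556 = n60244 := ndS (p := 18574) (l := 4) rfl N18574 D60244
theorem N36557 : nd 36557 = n60248 := ndS (p := 18575) (l := 1) rfl N18575 D60248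
theorem N36558 : nd 36558 = n60249 := ndS (p := 18575) (l := 7) rfl N18575 D60249
theorem N36559 : nd 36559 = n60250 := ndS (p := 18577) (l := 0) rfl N18577 D60250
theorem N36560 : nd 36560 = n60251 := ndS (p := 18577) (l := 1) rfl N18577 D60251
theorem N36561 : nd 36561 = n60252 := ndS (p := 18577) (l := 2) rfl N18577 D60252
theorem N36562 : nd 36562 = n60253 := ndS (p := 18577) (l := 5) rfl N18577 D60253
theorem N36563 : nd 36563 = n60254 := ndS (p := 18577) (l := 6) rfl N18577 D60254
theorem N36564 : nd 36564 = n60255 := ndS (p := 18578) (l := 6) rfl N18578 D60255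
theorem N36565 : nd 36565 = n60258 := ndS (p := 18579) (l := 5) rfl N18579 D60258
theorem N36566 : nd 36566 = n60259 := ndS (p := 18579) (l := 7) rfl N18579 D60259
theorem N36567 : nd 36567 = n60260 := ndS (p := 18580) (l := 0) rfl N18580 D60260
theorem N36568 : nd 36568 = n60261 := ndS (p := 18580) (l := 1) rfl N18580 D60261
theorem N36569 : nd 36569 = n60262 := ndS (p := 18580) (l := 2) rfl N18580 D60262
theorem N36570 : nd 36570 = n60263 := ndS (p := 18580) (l := 6) rfl N18580 D60263
theorem N36571 : nd 36571 = n60264 := ndS (p := 18581) (l := 6) rfl N18581 D60264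
theorem N36572 : nd 36572 = n60267 := ndS (p := 18582) (l := 5) rfl N18582 D60267
theorem N36573 : nd 36573 = n60268 := ndS (p := 18582) (l := 7) rfl N18582 D60268
theorem N36574 : nd 36574 = n60269 := ndS (p := 18583) (l := 3) rfl N18583 D60269
theorem N36575 : nd 36575 = n60270 := ndS (p := 18583) (l := 6) rfl N18583 D60270
theorem N36576 : nd 36576 = n60271 := ndS (p := 18584) (l := 3) rfl N18584 D60271
theorem N36577 : nd 36577 = n60272 := ndS (p := 18584) (l := 6) rfl N18584 D60272
theorem N36578 : nd 36578 = n60273 := ndS (p := 18585) (l := 0) rfl N18585 D60273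
theorem N36579 : nd 36579 = n60274 := ndS (p := 18585) (l := 1) rfl N18585 D60274
theorem N36580 : nd 36580 = n60275 := ndS (p := 18585) (l := 5) rfl N18585 D60275
theorem N36581 : nd 36581 = n60276 := ndS (p := 18585) (l := 7) rfl N18585 D60276
theorem N36582 : nd 36582 = n60277 := ndS (p := 18586) (l := 6) rfl N18586 D60277
theorem N36583 : nd 36583 = n60279 := ndS (p := 18587) (l := 3) rfl N18587 D60279
theorem N36584 : nd 36584 = n60281 := ndS (p := 18587) (l := 5) rfl N18587 D60281
theorem N36585 : nd 36585 = n60282 := ndS (p := 18587) (l := 6) rfl N18587 D60282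
theorem N36586 : nd 36586 = n60284 := ndS (p := 18588) (l := 3) rfl N18588 D60284
theorem N36587 : nd 36587 = n60285 := ndS (p := 18588) (l := 5) rfl N18588 D60285
theorem N36588 : nd 36588 = n60287 := ndS (p := 18589) (l := 0) rfl N18589 D60287
theorem N36589 : nd 36589 = n60288 := ndS (p := 18589) (l := 1) rfl N18589 D60288
theorem N36590 : nd 36590 = n60289 := ndS (p := 18589) (l := 4) rfl N18589 D60289
theorem N36591 : nd 36591 = n60290 := ndS (p := 18589) (l := 7) rfl N18589 D60290
theorem N36592 : nd 36592 = n60291 := ndS (p := 18591) (l := 0) rfl N18591 D60291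
theorem N36593 : nd 36593 = n60292 := ndS (p := 18591) (l := 1) rfl N18591 D60292
theorem N36594 : nd 36594 = n60293 := ndS (p := 18591) (l := 5) rfl N18591 D60293
theorem N36595 : nd 36595 = n60300 := ndS (p := 18592) (l := 0) rfl N18592 D60300
theorem N36596 : nd 36596 = n60303 := ndS (p := 18592) (l := 5) rfl N18592 D60303
theorem N36597 : nd 36597 = n60304 := ndS (p := 18592) (l := 6) rfl N18592 D60304
theorem N36598 : nd 36598 = n60306 := ndS (p := 18593) (l := 0) rfl N18593 D60306
theorem N36599 : nd 36599 = n60308 := ndS (p := 18593) (l := 3) rfl N18593 D60308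
theorem N36600 : nd 36600 = n60309 := ndS (p := 18593) (l := 5) rfl N18593 D60309
theorem N36601 : nd 36601 = n60310 := ndS (p := 18593) (l := 6) rfl N18593 D60310
theorem N36602 : nd 36602 = n60312 := ndS (p := 18594) (l := 0) rfl N18594 D60312
theorem N36603 : nd 36603 = n60313 := ndS (p := 18594) (l := 1) rfl N18594 D60313
theorem N36604 : nd 36604 = n60318 := ndS (p := 18595) (l := 1) rfl N18595 D60318
theorem N36605 : nd 36605 = n60320 := ndS (p := 18595) (l := 7) rfl N18595 D60320
theorem N36606 : nd 36606 = n60324 := ndS (p := 18596) (l := 2) rfl N18596 D60324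
theorem N36607 : nd 36607 = n60325 := ndS (p := 18596) (l := 4) rfl N18596 D60325
theorem N36608 : nd 36608 = n60326 := ndS (p := 18596) (l := 5) rfl N18596 D60326
theorem N36609 : nd 36609 = n60329 := ndS (p := 18597) (l := 5) rfl N18597 D60329
theorem N36610 : nd 36610 = n60332 := ndS (p := 18598) (l := 6) rfl N18598 D60332
theorem N36611 : nd 36611 = n60335 := ndS (p := 18599) (l := 5) rfl N18599 D60335
theorem N36612 : nd 36612 = n60338 := ndS (p := 18600) (l := 3) rfl N18600 D60338
theorem N36613 : nd 36613 = n60340 := ndS (p := 18600) (l := 5) rfl N18600 D60340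
theorem N36614 : nd 36614 = n60341 := ndS (p := 18600) (l := 6) rfl N18600 D60341
theorem N36615 : nd 36615 = n60343 := ndS (p := 18601) (l := 3) rfl N18601 D60343
theorem N36616 : nd 36616 = n60345 := ndS (p := 18601) (l := 5) rfl N18601 D60345
theorem N36617 : nd 36617 = n60346 := ndS (p := 18601) (l := 6) rfl N18601 D60346
theorem N36618 : nd 36618 = n60347 := ndS (p := 18602) (l := 0) rfl N18602 D60347
theorem N36619 : nd 36619 = n60348 := ndS (p := 18602) (l := 1) rfl N18602 D60348
theorem N36620 : nd 36620 = n60349 := ndS (p := 18602) (l := 4) rfl N18602 D60349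
theorem N36621 : nd 36621 = n60350 := ndS (p := 18603) (l := 5) rfl N18603 D60350
theorem N36622 : nd 36622 = n60351 := ndS (p := 18604) (l := 4) rfl N18604 D60351
theorem N36623 : nd 36623 = n60353 := ndS (p := 18605) (l := 3) rfl N18605 D60353
theorem N36624 : nd 36624 = n60354 := ndS (p := 18605) (l := 4) rfl N18605 D60354
theorem N36625 : nd 36625 = n60355 := ndS (p := 18605) (l := 6) rfl N18605 D60355
theorem N36626 : nd 36626 = n60356 := ndS (p := 18606) (l := 4) rfl N18606 D60356
theorem N36627 : nd 36627 = n60357 := ndS (p := 18606) (l := 6) rfl N18606 D60357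
theorem N36628 : nd 36628 = n60358 := ndS (p := 18607) (l := 0) rfl N18607 D60358
theorem N36629 : nd 36629 = n60359 := ndS (p := 18607) (l := 1) rfl N18607 D60359
theorem N36630 : nd 36630 = n60360 := ndS (p := 18607) (l := 3) rfl N18607 D60360
theorem N36631 : nd 36631 = n60361 := ndS (p := 18607) (l := 5) rfl N18607 D60361
theorem N36632 : nd 36632 = n60373 := ndS (p := 18609) (l := 5) rfl N18609 D60373
theorem N36633 : nd 36633 = n60374 := ndS (p := 18609) (l := 6) rfl N18609 D60374
theorem N36634 : nd 36634 = n60378 := ndS (p := 18610) (l := 6) rfl N18610 D60378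
theorem N36635 : nd 36635 = n60379 := ndS (p := 18611) (l := 0) rfl N18611 D60379
theorem N36636 : nd 36636 = n60380 := ndS (p := 18611) (l := 1) rfl N18611 D60380
theorem N36637 : nd 36637 = n60381 := ndS (p := 18611) (l := 4) rfl N18611 D60381
theorem N36638 : nd 36638 = n60385 := ndS (p := 18612) (l := 7) rfl N18612 D60385
theorem N36639 : nd 36639 = n60386 := ndS (p := 18613) (l := 3) rfl N18613 D60386
theorem N36640 : nd 36640 = n60402 := ndS (p := 18617) (l := 4) rfl N18617 D60402
theorem N36641 : nd 36641 = n60406 := ndS (p := 18618) (l := 5) rfl N18618 D60406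
theorem N36642 : nd 36642 = n60412 := ndS (p := 18619) (l := 0) rfl N18619 D60412
theorem N36643 : nd 36643 = n60413 := ndS (p := 18619) (l := 1) rfl N18619 D60413
theorem N36644 : nd 36644 = n60414 := ndS (p := 18619) (l := 4) rfl N18619 D60414
theorem N36645 : nd 36645 = n60415 := ndS (p := 18619) (l := 6) rfl N18619 D60415
theorem N36646 : nd 36646 = n60420 := ndS (p := 18620) (l := 3) rfl N18620 D60420
theorem N36647 : nd 36647 = n60428 := ndS (p := 18622) (l := 6) rfl N18622 D60428
theorem N36648 : nd 36648 = n60429 := ndS (p := 18623) (l := 3) rfl N18623 D60429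
theorem N36649 : nd 36649 = n60430 := ndS (p := 18623) (l := 5) rfl N18623 D60430
theorem N36650 : nd 36650 = n60431 := ndS (p := 18624) (l := 0) rfl N18624 D60431
theorem N36651 : nd 36651 = n60432 := ndS (p := 18624) (l := 1) rfl N18624 D60432
theorem N36652 : nd 36652 = n60433 := ndS (p := 18624) (l := 7) rfl N18624 D60433
theorem N36653 : nd 36653 = n60434 := ndS (p := 18625) (l := 4) rfl N18625 D60434
theorem N36654 : nd 36654 = n60435 := ndS (p := 18625) (l := 6) rfl N18625 D60435
theorem N36655 : nd 36655 = n60436 := ndS (p := 18626) (l := 0) rfl N18626 D60436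
theorem N36656 : nd 36656 = n60438 := ndS (p := 18626) (l := 7) rfl N18626 D60438
theorem N36657 : nd 36657 = n60439 := ndS (p := 18627) (l := 0) rfl N18627 D60439
theorem N36658 : nd 36658 = n60440 := ndS (p := 18627) (l := 1) rfl N18627 D60440
theorem N36659 : nd 36659 = n60441 := ndS (p := 18627) (l := 2) rfl N18627 D60441
theorem N36660 : nd 36660 = n60442 := ndS (p := 18627) (l := 5) rfl N18627 D60442
theorem N36661 : nd 36661 = n60443 := ndS (p := 18628) (l := 6) rfl N18628 D60443
theorem N36662 : nd 36662 = n60444 := ndS (p := 18630) (l := 3) rfl N18630 D60444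
theorem N36663 : nd 36663 = n60445 := ndS (p := 18631) (l := 0) rfl N18631 D60445
theorem N36664 : nd 36664 = n60446 := ndS (p := 18631) (l := 2) rfl N18631 D60446
theorem N36665 : nd 36665 = n60447 := ndS (p := 18632) (l := 0) rfl N18632 D60447
theorem N36666 : nd 36666 = n60448 := ndS (p := 18632) (l := 4) rfl N18632 D60448
theorem N36667 : nd 36667 = n60449 := ndS (p := 18632) (l := 6) rfl N18632 D60449
theorem N36668 : nd 36668 = n60450 := ndS (p := 18633) (l := 3) rfl N18633 D60450
theorem N36669 : nd 36669 = n60451 := ndS (p := 18635) (l := 6) rfl N18635 D60451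
theorem N36670 : nd 36670 = n60452 := ndS (p := 18636) (l := 6) rfl N18636 D60452
theorem N36671 : nd 36671 = n60453 := ndS (p := 18637) (l := 3) rfl N18637 D60453
theorem N36672 : nd 36672 = n60454 := ndS (p := 18637) (l := 5) rfl N18637 D60454
theorem N36673 : nd 36673 = n60455 := ndS (p := 18637) (l := 6) rfl N18637 D60455
theorem N36674 : nd 36674 = n60456 := ndS (p := 18638) (l := 3) rfl N18638 D60456
theorem N36675 : nd 36675 = n60457 := ndS (p := 18638) (l := 5) rfl N18638 D60457
theorem N36676 : nd 36676 = n60458 := ndS (p := 18638) (l := 6) rfl N18638 D60458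
theorem N36677 : nd 36677 = n60459 := ndS (p := 18639) (l := 0) rfl N18639 D60459
theorem N36678 : nd 36678 = n60460 := ndS (p := 18639) (l := 1) rfl N18639 D60460
theorem N36679 : nd 36679 = n60461 := ndS (p := 18639) (l := 2) rfl N18639 D60461
theorem N36680 : nd 36680 = n60462 := ndS (p := 18639) (l := 5) rfl N18639 D60462
theorem N36681 : nd 36681 = n60463 := ndS (p := 18640) (l := 0) rfl N18640 D60463
theorem N36682 : nd 36682 = n60464 := ndS (p := 18640) (l := 1) rfl N18640 D60464
theorem N36683 : nd 36683 = n60465 := ndS (p := 18640) (l := 6) rfl N18640 D60465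
theorem N36684 : nd 36684 = n60466 := ndS (p := 18641) (l := 3) rfl N18641 D60466
theorem N36685 : nd 36685 = n60467 := ndS (p := 18641) (l := 5) rfl N18641 D60467
theorem N36686 : nd 36686 = n60468 := ndS (p := 18642) (l := 5) rfl N18642 D60468
theorem N36687 : nd 36687 = n60469 := ndS (p := 18642) (l := 6) rfl N18642 D60469
theorem N36688 : nd 36688 = n60470 := ndS (p := 18643) (l := 0) rfl N18643 D60470
theorem N36689 : nd 36689 = n60471 := ndS (p := 18643) (l := 1) rfl N18643 D60471
theorem N36690 : nd 36690 = n60472 := ndS (p := 18643) (l := 2) rfl N18643 D60472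
theorem N36691 : nd 36691 = n60473 := ndS (p := 18643) (l := 5) rfl N18643 D60473
theorem N36692 : nd 36692 = n60474 := ndS (p := 18644) (l := 0) rfl N18644 D60474
theorem N36693 : nd 36693 = n60475 := ndS (p := 18644) (l := 6) rfl N18644 D60475
theorem N36694 : nd 36694 = n60476 := ndS (p := 18645) (l := 4) rfl N18645 D60476
theorem N36695 : nd 36695 = n60477 := ndS (p := 18646) (l := 1) rfl N18646 D60477
theorem N36696 : nd 36696 = n60478 := ndS (p := 18646) (l := 3) rfl N18646 D60478
theorem N36697 : nd 36697 = n60479 := ndS (p := 18646) (l := 5) rfl N18646 D60479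
theorem N36698 : nd 36698 = n60480 := ndS (p := 18647) (l := 3) rfl N18647 D60480
theorem N36699 : nd 36699 = n60481 := ndS (p := 18647) (l := 5) rfl N18647 D60481
theorem N36700 : nd 36700 = n60482 := ndS (p := 18647) (l := 6) rfl N18647 D60482
theorem N36701 : nd 36701 = n60483 := ndS (p := 18649) (l := 3) rfl N18649 D60483
theorem N36702 : nd 36702 = n60484 := ndS (p := 18649) (l := 5) rfl N18649 D60484
theorem N36703 : nd 36703 = n60485 := ndS (p := 18649) (l := 6) rfl N18649 D60485
theorem N36704 : nd 36704 = n60487 := ndS (p := 18650) (l := 1) rfl N18650 D60487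
theorem N36705 : nd 36705 = n60488 := ndS (p := 18650) (l := 7) rfl N18650 D60488
theorem N36706 : nd 36706 = n60489 := ndS (p := 18651) (l := 3) rfl N18651 D60489
theorem N36707 : nd 36707 = n60490 := ndS (p := 18651) (l := 5) rfl N18651 D60490
theorem N36708 : nd 36708 = n60491 := ndS (p := 18651) (l := 6) rfl N18651 D60491
theorem N36709 : nd 36709 = n60492 := ndS (p := 18652) (l := 3) rfl N18652 D60492
theorem N36710 : nd 36710 = n60493 := ndS (p := 18652) (l := 5) rfl N18652 D60493
theorem N36711 : nd 36711 = n60494 := ndS (p := 18652) (l := 6) rfl N18652 D60494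
theorem N36712 : nd 36712 = n60495 := ndS (p := 18653) (l := 0) rfl N18653 D60495
theorem N36713 : nd 36713 = n60496 := ndS (p := 18653) (l := 1) rfl N18653 D60496
theorem N36714 : nd 36714 = n60497 := ndS (p := 18653) (l := 2) rfl N18653 D60497
theorem N36715 : nd 36715 = n60498 := ndS (p := 18653) (l := 5) rfl N18653 D60498
theorem N36716 : nd 36716 = n60499 := ndS (p := 18653) (l := 7) rfl N18653 D60499
theorem N36717 : nd 36717 = n60500 := ndS (p := 18654) (l := 0) rfl N18654 D60500
theorem N36718 : nd 36718 = n60501 := ndS (p := 18654) (l := 1) rfl N18654 D60501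
theorem N36719 : nd 36719 = n60502 := ndS (p := 18654) (l := 6) rfl N18654 D60502
theorem N36720 : nd 36720 = n60503 := ndS (p := 18655) (l := 6) rfl N18655 D60503
theorem N36721 : nd 36721 = n60504 := ndS (p := 18657) (l := 4) rfl N18657 D60504
theorem N36722 : nd 36722 = n60505 := ndS (p := 18658) (l := 6) rfl N18658 D60505
theorem N36723 : nd 36723 = n60506 := ndS (p := 18659) (l := 6) rfl N18659 D60506
theorem N36724 : nd 36724 = n60507 := ndS (p := 18660) (l := 1) rfl N18660 D60507
theorem N36725 : nd 36725 = n60508 := ndS (p := 18660) (l := 3) rfl N18660 D60508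
theorem N36726 : nd 36726 = n60509 := ndS (p := 18660) (l := 5) rfl N18660 D60509
theorem N36727 : nd 36727 = n60510 := ndS (p := 18660) (l := 6) rfl N18660 D60510
theorem N36728 : nd 36728 = n60511 := ndS (p := 18661) (l := 0) rfl N18661 D60511
theorem N36729 : nd 36729 = n60512 := ndS (p := 18661) (l := 1) rfl N18661 D60512
theorem N36730 : nd 36730 = n60513 := ndS (p := 18661) (l := 7) rfl N18661 D60513
theorem N36731 : nd 36731 = n60514 := ndS (p := 18663) (l := 3) rfl N18663 D60514
theorem N36732 : nd 36732 = n60515 := ndS (p := 18663) (l := 6) rfl N18663 D60515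
theorem N36733 : nd 36733 = n60516 := ndS (p := 18664) (l := 7) rfl N18664 D60516
theorem N36734 : nd 36734 = n60517 := ndS (p := 18665) (l := 3) rfl N18665 D60517
theorem N36735 : nd 36735 = n60518 := ndS (p := 18665) (l := 5) rfl N18665 D60518
theorem N36736 : nd 36736 = n60519 := ndS (p := 18665) (l := 6) rfl N18665 D60519
theorem N36737 : nd 36737 = n60520 := ndS (p := 18666) (l := 0) rfl N18666 D60520
theorem N36738 : nd 36738 = n60521 := ndS (p := 18666) (l := 1) rfl N18666 D60521
theorem N36739 : nd 36739 = n60522 := ndS (p := 18666) (l := 7) rfl N18666 D60522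
theorem N36740 : nd 36740 = n60523 := ndS (p := 18667) (l := 3) rfl N18667 D60523
theorem N36741 : nd 36741 = n60524 := ndS (p := 18667) (l := 5) rfl N18667 D60524
theorem N36742 : nd 36742 = n60525 := ndS (p := 18667) (l := 6) rfl N18667 D60525
theorem N36743 : nd 36743 = n60526 := ndS (p := 18669) (l := 3) rfl N18669 D60526
theorem N36744 : nd 36744 = n60527 := ndS (p := 18669) (l := 5) rfl N18669 D60527
theorem N36745 : nd 36745 = n60528 := ndS (p := 18669) (l := 6) rfl N18669 D60528
theorem N36746 : nd 36746 = n60529 := ndS (p := 18670) (l := 3) rfl N18670 D60529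
theorem N36747 : nd 36747 = n60530 := ndS (p := 18670) (l := 5) rfl N18670 D60530
theorem N36748 : nd 36748 = n60531 := ndS (p := 18670) (l := 6) rfl N18670 D60531
theorem N36749 : nd 36749 = n60532 := ndS (p := 18671) (l := 0) rfl N18671 D60532
theorem N36750 : nd 36750 = n60533 := ndS (p := 18671) (l := 1) rfl N18671 D60533
theorem N36751 : nd 36751 = n60534 := ndS (p := 18671) (l := 2) rfl N18671 D60534
theorem N36752 : nd 36752 = n60535 := ndS (p := 18671) (l := 5) rfl N18671 D60535
theorem N36753 : nd 36753 = n60536 := ndS (p := 18671) (l := 6) rfl N18671 D60536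
theorem N36754 : nd 36754 = n60537 := ndS (p := 18672) (l := 0) rfl N18672 D60537
theorem N36755 : nd 36755 = n60538 := ndS (p := 18672) (l := 6) rfl N18672 D60538
theorem N36756 : nd 36756 = n60540 := ndS (p := 18673) (l := 1) rfl N18673 D60540
theorem N36757 : nd 36757 = n60541 := ndS (p := 18673) (l := 5) rfl N18673 D60541
theorem N36758 : nd 36758 = n60542 := ndS (p := 18673) (l := 7) rfl N18673 D60542
theorem N36759 : nd 36759 = n60548 := ndS (p := 18675) (l := 4) rfl N18675 D60548
theorem N36760 : nd 36760 = n60549 := ndS (p := 18675) (l := 6) rfl N18675 D60549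
theorem N36761 : nd 36761 = n60550 := ndS (p := 18677) (l := 6) rfl N18677 D60550
theorem N36762 : nd 36762 = n60551 := ndS (p := 18678) (l := 6) rfl N18678 D60551
theorem N36763 : nd 36763 = n60554 := ndS (p := 18680) (l := 0) rfl N18680 D60554
theorem N36764 : nd 36764 = n60555 := ndS (p := 18680) (l := 1) rfl N18680 D60555
theorem N36765 : nd 36765 = n60556 := ndS (p := 18680) (l := 5) rfl N18680 D60556
theorem N36766 : nd 36766 = n60557 := ndS (p := 18680) (l := 7) rfl N18680 D60557
theorem N36767 : nd 36767 = n60558 := ndS (p := 18683) (l := 3) rfl N18683 D60558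
theorem N36768 : nd 36768 = n60559 := ndS (p := 18683) (l := 6) rfl N18683 D60559
theorem N36769 : nd 36769 = n60561 := ndS (p := 18684) (l := 5) rfl N18684 D60561
theorem N36770 : nd 36770 = n60562 := ndS (p := 18686) (l := 0) rfl N18686 D60562
theorem N36771 : nd 36771 = n60563 := ndS (p := 18686) (l := 1) rfl N18686 D60563
theorem N36772 : nd 36772 = n60564 := ndS (p := 18686) (l := 2) rfl N18686 D60564
theorem N36773 : nd 36773 = n60565 := ndS (p := 18686) (l := 5) rfl N18686 D60565
theorem N36774 : nd 36774 = n60567 := ndS (p := 18687) (l := 6) rfl N18687 D60567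
theorem N36775 : nd 36775 = n60568 := ndS (p := 18688) (l := 0) rfl N18688 D60568
theorem N36776 : nd 36776 = n60571 := ndS (p := 18688) (l := 7) rfl N18688 D60571
theorem N36777 : nd 36777 = n60572 := ndS (p := 18689) (l := 4) rfl N18689 D60572
theorem N36778 : nd 36778 = n60573 := ndS (p := 18689) (l := 6) rfl N18689 D60573
theorem N36779 : nd 36779 = n60574 := ndS (p := 18690) (l := 0) rfl N18690 D60574
theorem N36780 : nd 36780 = n60575 := ndS (p := 18690) (l := 1) rfl N18690 D60575
theorem N36781 : nd 36781 = n60576 := ndS (p := 18690) (l := 4) rfl N18690 D60576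
theorem N36782 : nd 36782 = n60577 := ndS (p := 18692) (l := 3) rfl N18692 D60577
theorem N36783 : nd 36783 = n60578 := ndS (p := 18692) (l := 5) rfl N18692 D60578
theorem N36784 : nd 36784 = n60579 := ndS (p := 18693) (l := 3) rfl N18693 D60579
theorem N36785 : nd 36785 = n60580 := ndS (p := 18693) (l := 5) rfl N18693 D60580
theorem N36786 : nd 36786 = n60582 := ndS (p := 18694) (l := 0) rfl N18694 D60582
theorem N36787 : nd 36787 = n60583 := ndS (p := 18694) (l := 1) rfl N18694 D60583
theorem N36788 : nd 36788 = n60584 := ndS (p := 18694) (l := 7) rfl N18694 D60584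
theorem N36789 : nd 36789 = n60585 := ndS (p := 18695) (l := 3) rfl N18695 D60585
theorem N36790 : nd 36790 = n60586 := ndS (p := 18695) (l := 6) rfl N18695 D60586
theorem N36791 : nd 36791 = n60587 := ndS (p := 18696) (l := 0) rfl N18696 D60587
theorem N36792 : nd 36792 = n60588 := ndS (p := 18696) (l := 1) rfl N18696 D60588
theorem N36793 : nd 36793 = n60589 := ndS (p := 18696) (l := 2) rfl N18696 D60589
theorem N36794 : nd 36794 = n60590 := ndS (p := 18696) (l := 5) rfl N18696 D60590
theorem N36795 : nd 36795 = n60591 := ndS (p := 18696) (l := 6) rfl N18696 D60591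
theorem N36796 : nd 36796 = n60592 := ndS (p := 18697) (l := 0) rfl N18697 D60592
theorem N36797 : nd 36797 = n60593 := ndS (p := 18697) (l := 1) rfl N18697 D60593
theorem N36798 : nd 36798 = n60594 := ndS (p := 18697) (l := 6) rfl N18697 D60594
theorem N36799 : nd 36799 = n60595 := ndS (p := 18698) (l := 0) rfl N18698 D60595
theorem N36800 : nd 36800 = n60596 := ndS (p := 18698) (l := 1) rfl N18698 D60596
theorem N36801 : nd 36801 = n60597 := ndS (p := 18698) (l := 5) rfl N18698 D60597
theorem N36802 : nd 36802 = n60598 := ndS (p := 18698) (l := 7) rfl N18698 D60598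
theorem N36803 : nd 36803 = n60601 := ndS (p := 18699) (l := 4) rfl N18699 D60601
theorem N36804 : nd 36804 = n60602 := ndS (p := 18699) (l := 5) rfl N18699 D60602
theorem N36805 : nd 36805 = n60605 := ndS (p := 18700) (l := 4) rfl N18700 D60605
theorem N36806 : nd 36806 = n60606 := ndS (p := 18700) (l := 5) rfl N18700 D60606
theorem N36807 : nd 36807 = n60607 := ndS (p := 18700) (l := 6) rfl N18700 D60607
theorem N36808 : nd 36808 = n60608 := ndS (p := 18702) (l := 0) rfl N18702 D60608
theorem N36809 : nd 36809 = n60609 := ndS (p := 18702) (l := 1) rfl N18702 D60609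
theorem N36810 : nd 36810 = n60610 := ndS (p := 18702) (l := 7) rfl N18702 D60610
theorem N36811 : nd 36811 = n60611 := ndS (p := 18703) (l := 0) rfl N18703 D60611
theorem N36812 : nd 36812 = n60612 := ndS (p := 18703) (l := 1) rfl N18703 D60612
theorem N36813 : nd 36813 = n60613 := ndS (p := 18703) (l := 2) rfl N18703 D60613
theorem N36814 : nd 36814 = n60614 := ndS (p := 18703) (l := 5) rfl N18703 D60614
theorem N36815 : nd 36815 = n60615 := ndS (p := 18703) (l := 6) rfl N18703 D60615
theorem N36816 : nd 36816 = n60616 := ndS (p := 18704) (l := 6) rfl N18704 D60616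
theorem N36817 : nd 36817 = n60617 := ndS (p := 18705) (l := 0) rfl N18705 D60617
theorem N36818 : nd 36818 = n60618 := ndS (p := 18705) (l := 1) rfl N18705 D60618
theorem N36819 : nd 36819 = n60619 := ndS (p := 18705) (l := 5) rfl N18705 D60619
theorem N36820 : nd 36820 = n60620 := ndS (p := 18705) (l := 7) rfl N18705 D60620
theorem N36821 : nd 36821 = n60623 := ndS (p := 18706) (l := 4) rfl N18706 D60623
theorem N36822 : nd 36822 = n60624 := ndS (p := 18706) (l := 6) rfl N18706 D60624
theorem N36823 : nd 36823 = n60627 := ndS (p := 18707) (l := 4) rfl N18707 D60627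
theorem N36824 : nd 36824 = n60628 := ndS (p := 18709) (l := 0) rfl N18709 D60628
theorem N36825 : nd 36825 = n60629 := ndS (p := 18709) (l := 1) rfl N18709 D60629
theorem N36826 : nd 36826 = n60630 := ndS (p := 18709) (l := 2) rfl N18709 D60630
theorem N36827 : nd 36827 = n60631 := ndS (p := 18709) (l := 4) rfl N18709 D60631
theorem N36828 : nd 36828 = n60632 := ndS (p := 18709) (l := 5) rfl N18709 D60632
theorem N36829 : nd 36829 = n60633 := ndS (p := 18709) (l := 6) rfl N18709 D60633
theorem N36830 : nd 36830 = n60634 := ndS (p := 18710) (l := 0) rfl N18710 D60634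
theorem N36831 : nd 36831 = n60635 := ndS (p := 18710) (l := 1) rfl N18710 D60635
theorem N36832 : nd 36832 = n60636 := ndS (p := 18710) (l := 6) rfl N18710 D60636
theorem N36833 : nd 36833 = n60639 := ndS (p := 18711) (l := 5) rfl N18711 D60639
theorem N36834 : nd 36834 = n60640 := ndS (p := 18711) (l := 7) rfl N18711 D60640
theorem N36835 : nd 36835 = n60641 := ndS (p := 18712) (l := 0) rfl N18712 D60641
theorem N36836 : nd 36836 = n60642 := ndS (p := 18712) (l := 1) rfl N18712 D60642
theorem N36837 : nd 36837 = n60643 := ndS (p := 18712) (l := 2) rfl N18712 D60643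
theorem N36838 : nd 36838 = n60644 := ndS (p := 18712) (l := 5) rfl N18712 D60644
theorem N36839 : nd 36839 = n60645 := ndS (p := 18712) (l := 6) rfl N18712 D60645
theorem N36840 : nd 36840 = n60646 := ndS (p := 18713) (l := 6) rfl N18713 D60646
theorem N36841 : nd 36841 = n60649 := ndS (p := 18714) (l := 5) rfl N18714 D60649
theorem N36842 : nd 36842 = n60650 := ndS (p := 18714) (l := 7) rfl N18714 D60650
theorem N36843 : nd 36843 = n60651 := ndS (p := 18715) (l := 0) rfl N18715 D60651
theorem N36844 : nd 36844 = n60652 := ndS (p := 18715) (l := 2) rfl N18715 D60652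
theorem N36845 : nd 36845 = n60653 := ndS (p := 18715) (l := 3) rfl N18715 D60653
theorem N36846 : nd 36846 = n60654 := ndS (p := 18715) (l := 4) rfl N18715 D60654
theorem N36847 : nd 36847 = n60655 := ndS (p := 18715) (l := 5) rfl N18715 D60655
theorem N36848 : nd 36848 = n60656 := ndS (p := 18715) (l := 6) rfl N18715 D60656
theorem N36849 : nd 36849 = n60657 := ndS (p := 18715) (l := 7) rfl N18715 D60657
theorem N36850 : nd 36850 = n60658 := ndS (p := 18716) (l := 3) rfl N18716 D60658
theorem N36851 : nd 36851 = n60659 := ndS (p := 18716) (l := 4) rfl N18716 D60659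
theorem N36852 : nd 36852 = n60660 := ndS (p := 18716) (l := 5) rfl N18716 D60660
theorem N36853 : nd 36853 = n60661 := ndS (p := 18716) (l := 6) rfl N18716 D60661
theorem N36854 : nd 36854 = n60664 := ndS (p := 18717) (l := 5) rfl N18717 D60664
theorem N36855 : nd 36855 = n60665 := ndS (p := 18718) (l := 0) rfl N18718 D60665
theorem N36856 : nd 36856 = n60666 := ndS (p := 18718) (l := 1) rfl N18718 D60666
theorem N36857 : nd 36857 = n60667 := ndS (p := 18718) (l := 4) rfl N18718 D60667
theorem N36858 : nd 36858 = n60668 := ndS (p := 18718) (l := 6) rfl N18718 D60668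
theorem N36859 : nd 36859 = n60669 := ndS (p := 18718) (l := 7) rfl N18718 D60669
theorem N36860 : nd 36860 = n60670 := ndS (p := 18719) (l := 6) rfl N18719 D60670
theorem N36861 : nd 36861 = n60671 := ndS (p := 18720) (l := 3) rfl N18720 D60671
theorem N36862 : nd 36862 = n60672 := ndS (p := 18720) (l := 6) rfl N18720 D60672
theorem N36863 : nd 36863 = n60673 := ndS (p := 18721) (l := 3) rfl N18721 D60673
theorem N36864 : nd 36864 = n60674 := ndS (p := 18721) (l := 6) rfl N18721 D60674
theorem N36865 : nd 36865 = n60675 := ndS (p := 18722) (l := 3) rfl N18722 D60675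
theorem N36866 : nd 36866 = n60676 := ndS (p := 18722) (l := 6) rfl N18722 D60676
theorem N36867 : nd 36867 = n60677 := ndS (p := 18723) (l := 0) rfl N18723 D60677
theorem N36868 : nd 36868 = n60678 := ndS (p := 18723) (l := 1) rfl N18723 D60678
theorem N36869 : nd 36869 = n60679 := ndS (p := 18723) (l := 7) rfl N18723 D60679
theorem N36870 : nd 36870 = n60680 := ndS (p := 18724) (l := 6) rfl N18724 D60680
theorem N36871 : nd 36871 = n60681 := ndS (p := 18725) (l := 0) rfl N18725 D60681
theorem N36872 : nd 36872 = n60682 := ndS (p := 18725) (l := 1) rfl N18725 D60682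
theorem N36873 : nd 36873 = n60683 := ndS (p := 18725) (l := 5) rfl N18725 D60683
theorem N36874 : nd 36874 = n60685 := ndS (p := 18726) (l := 3) rfl N18726 D60685
theorem N36875 : nd 36875 = n60686 := ndS (p := 18726) (l := 4) rfl N18726 D60686
theorem N36876 : nd 36876 = n60687 := ndS (p := 18726) (l := 5) rfl N18726 D60687
theorem N36877 : nd 36877 = n60688 := ndS (p := 18726) (l := 6) rfl N18726 D60688
theorem N36878 : nd 36878 = n60692 := ndS (p := 18727) (l := 5) rfl N18727 D60692
theorem N36879 : nd 36879 = n60693 := ndS (p := 18728) (l := 3) rfl N18728 D60693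
theorem N36880 : nd 36880 = n60694 := ndS (p := 18728) (l := 5) rfl N18728 D60694
theorem N36881 : nd 36881 = n60695 := ndS (p := 18728) (l := 6) rfl N18728 D60695
theorem N36882 : nd 36882 = n60696 := ndS (p := 18729) (l := 0) rfl N18729 D60696
theorem N36883 : nd 36883 = n60697 := ndS (p := 18729) (l := 1) rfl N18729 D60697
theorem N36884 : nd 36884 = n60698 := ndS (p := 18729) (l := 7) rfl N18729 D60698
theorem N36885 : nd 36885 = n60699 := ndS (p := 18730) (l := 4) rfl N18730 D60699
theorem N36886 : nd 36886 = n60700 := ndS (p := 18731) (l := 3) rfl N18731 D60700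
theorem N36887 : nd 36887 = n60701 := ndS (p := 18731) (l := 5) rfl N18731 D60701
theorem N36888 : nd 36888 = n60702 := ndS (p := 18731) (l := 6) rfl N18731 D60702
theorem N36889 : nd 36889 = n60703 := ndS (p := 18732) (l := 1) rfl N18732 D60703
theorem N36890 : nd 36890 = n60704 := ndS (p := 18732) (l := 7) rfl N18732 D60704
theorem N36891 : nd 36891 = n60705 := ndS (p := 18733) (l := 3) rfl N18733 D60705
theorem N36892 : nd 36892 = n60706 := ndS (p := 18733) (l := 5) rfl N18733 D60706
theorem N36893 : nd 36893 = n60707 := ndS (p := 18733) (l := 6) rfl N18733 D60707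
theorem N36894 : nd 36894 = n60708 := ndS (p := 18734) (l := 3) rfl N18734 D60708
theorem N36895 : nd 36895 = n60709 := ndS (p := 18734) (l := 5) rfl N18734 D60709
theorem N36896 : nd 36896 = n60710 := ndS (p := 18734) (l := 6) rfl N18734 D60710
theorem N36897 : nd 36897 = n60711 := ndS (p := 18735) (l := 0) rfl N18735 D60711
theorem N36898 : nd 36898 = n60712 := ndS (p := 18735) (l := 1) rfl N18735 D60712
theorem N36899 : nd 36899 = n60713 := ndS (p := 18735) (l := 2) rfl N18735 D60713
theorem N36900 : nd 36900 = n60714 := ndS (p := 18735) (l := 5) rfl N18735 D60714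
theorem N36901 : nd 36901 = n60715 := ndS (p := 18735) (l := 6) rfl N18735 D60715
theorem N36902 : nd 36902 = n60716 := ndS (p := 18736) (l := 6) rfl N18736 D60716
theorem N36903 : nd 36903 = n60717 := ndS (p := 18737) (l := 0) rfl N18737 D60717
theorem N36904 : nd 36904 = n60718 := ndS (p := 18737) (l := 1) rfl N18737 D60718
theorem N36905 : nd 36905 = n60719 := ndS (p := 18737) (l := 5) rfl N18737 D60719
theorem N36906 : nd 36906 = n60720 := ndS (p := 18737) (l := 7) rfl N18737 D60720
theorem N36907 : nd 36907 = n60722 := ndS (p := 18738) (l := 3) rfl N18738 D60722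
theorem N36908 : nd 36908 = n60723 := ndS (p := 18738) (l := 4) rfl N18738 D60723
theorem N36909 : nd 36909 = n60725 := ndS (p := 18739) (l := 3) rfl N18739 D60725
theorem N36910 : nd 36910 = n60726 := ndS (p := 18739) (l := 4) rfl N18739 D60726
theorem N36911 : nd 36911 = n60727 := ndS (p := 18739) (l := 6) rfl N18739 D60727
theorem N36912 : nd 36912 = n60728 := ndS (p := 18741) (l := 3) rfl N18741 D60728
theorem N36913 : nd 36913 = n60729 := ndS (p := 18741) (l := 5) rfl N18741 D60729
theorem N36914 : nd 36914 = n60730 := ndS (p := 18741) (l := 6) rfl N18741 D60730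
theorem N36915 : nd 36915 = n60731 := ndS (p := 18742) (l := 0) rfl N18742 D60731
theorem N36916 : nd 36916 = n60732 := ndS (p := 18742) (l := 1) rfl N18742 D60732
theorem N36917 : nd 36917 = n60733 := ndS (p := 18743) (l := 0) rfl N18743 D60733
theorem N36918 : nd 36918 = n60734 := ndS (p := 18743) (l := 1) rfl N18743 D60734
theorem N36919 : nd 36919 = n60735 := ndS (p := 18743) (l := 2) rfl N18743 D60735
theorem N36920 : nd 36920 = n60736 := ndS (p := 18743) (l := 5) rfl N18743 D60736
theorem N36921 : nd 36921 = n60737 := ndS (p := 18743) (l := 6) rfl N18743 D60737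
theorem N36922 : nd 36922 = n60738 := ndS (p := 18744) (l := 6) rfl N18744 D60738
theorem N36923 : nd 36923 = n60739 := ndS (p := 18745) (l := 0) rfl N18745 D60739
theorem N36924 : nd 36924 = n60740 := ndS (p := 18745) (l := 1) rfl N18745 D60740
theorem N36925 : nd 36925 = n60741 := ndS (p := 18745) (l := 5) rfl N18745 D60741
theorem N36926 : nd 36926 = n60742 := ndS (p := 18745) (l := 7) rfl N18745 D60742
theorem N36927 : nd 36927 = n60743 := ndS (p := 18746) (l := 3) rfl N18746 D60743
theorem N36928 : nd 36928 = n60744 := ndS (p := 18746) (l := 4) rfl N18746 D60744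
theorem N36929 : nd 36929 = n60746 := ndS (p := 18747) (l := 4) rfl N18747 D60746
theorem N36930 : nd 36930 = n60747 := ndS (p := 18749) (l := 0) rfl N18749 D60747
theorem N36931 : nd 36931 = n60748 := ndS (p := 18749) (l := 1) rfl N18749 D60748
theorem N36932 : nd 36932 = n60749 := ndS (p := 18749) (l := 2) rfl N18749 D60749
theorem N36933 : nd 36933 = n60750 := ndS (p := 18749) (l := 5) rfl N18749 D60750
theorem N36934 : nd 36934 = n60751 := ndS (p := 18749) (l := 6) rfl N18749 D60751
theorem N36935 : nd 36935 = n60753 := ndS (p := 18751) (l := 5) rfl N18751 D60753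
theorem N36936 : nd 36936 = n60754 := ndS (p := 18752) (l := 0) rfl N18752 D60754
theorem N36937 : nd 36937 = n60755 := ndS (p := 18752) (l := 1) rfl N18752 D60755
theorem N36938 : nd 36938 = n60756 := ndS (p := 18752) (l := 2) rfl N18752 D60756
theorem N36939 : nd 36939 = n60757 := ndS (p := 18752) (l := 4) rfl N18752 D60757
theorem N36940 : nd 36940 = n60758 := ndS (p := 18752) (l := 5) rfl N18752 D60758
theorem N36941 : nd 36941 = n60759 := ndS (p := 18752) (l := 6) rfl N18752 D60759
theorem N36942 : nd 36942 = n60760 := ndS (p := 18753) (l := 6) rfl N18753 D60760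
theorem N36943 : nd 36943 = n60762 := ndS (p := 18754) (l := 5) rfl N18754 D60762
theorem N36944 : nd 36944 = n60763 := ndS (p := 18754) (l := 7) rfl N18754 D60763
theorem N36945 : nd 36945 = n60764 := ndS (p := 18755) (l := 0) rfl N18755 D60764
theorem N36946 : nd 36946 = n60765 := ndS (p := 18755) (l := 1) rfl N18755 D60765
theorem N36947 : nd 36947 = n60766 := ndS (p := 18755) (l := 2) rfl N18755 D60766
theorem N36948 : nd 36948 = n60767 := ndS (p := 18755) (l := 4) rfl N18755 D60767
theorem N36949 : nd 36949 = n60768 := ndS (p := 18755) (l := 5) rfl N18755 D60768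
theorem N36950 : nd 36950 = n60769 := ndS (p := 18756) (l := 6) rfl N18756 D60769
theorem N36951 : nd 36951 = n60771 := ndS (p := 18757) (l := 3) rfl N18757 D60771
theorem N36952 : nd 36952 = n60772 := ndS (p := 18757) (l := 4) rfl N18757 D60772
theorem N36953 : nd 36953 = n60773 := ndS (p := 18757) (l := 5) rfl N18757 D60773
theorem N36954 : nd 36954 = n60774 := ndS (p := 18757) (l := 6) rfl N18757 D60774
theorem N36955 : nd 36955 = n60776 := ndS (p := 18758) (l := 3) rfl N18758 D60776
theorem N36956 : nd 36956 = n60777 := ndS (p := 18758) (l := 4) rfl N18758 D60777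
theorem N36957 : nd 36957 = n60778 := ndS (p := 18758) (l := 5) rfl N18758 D60778
theorem N36958 : nd 36958 = n60779 := ndS (p := 18758) (l := 6) rfl N18758 D60779
theorem N36959 : nd 36959 = n60781 := ndS (p := 18759) (l := 6) rfl N18759 D60781
theorem N36960 : nd 36960 = n60782 := ndS (p := 18760) (l := 0) rfl N18760 D60782
theorem N36961 : nd 36961 = n60783 := ndS (p := 18760) (l := 1) rfl N18760 D60783
theorem N36962 : nd 36962 = n60785 := ndS (p := 18760) (l := 6) rfl N18760 D60785
theorem N36963 : nd 36963 = n60786 := ndS (p := 18761) (l := 0) rfl N18761 D60786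
theorem N36964 : nd 36964 = n60787 := ndS (p := 18761) (l := 1) rfl N18761 D60787
theorem N36965 : nd 36965 = n60790 := ndS (p := 18762) (l := 0) rfl N18762 D60790
theorem N36966 : nd 36966 = n60791 := ndS (p := 18762) (l := 1) rfl N18762 D60791
theorem N36967 : nd 36967 = n60793 := ndS (p := 18762) (l := 7) rfl N18762 D60793
theorem N36968 : nd 36968 = n60794 := ndS (p := 18763) (l := 3) rfl N18763 D60794
theorem N36969 : nd 36969 = n60796 := ndS (p := 18764) (l := 3) rfl N18764 D60796
theorem N36970 : nd 36970 = n60798 := ndS (p := 18764) (l := 6) rfl N18764 D60798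
theorem N36971 : nd 36971 = n60806 := ndS (p := 18766) (l := 4) rfl N18766 D60806
theorem N36972 : nd 36972 = n60807 := ndS (p := 18767) (l := 3) rfl N18767 D60807
theorem N36973 : nd 36973 = n60814 := ndS (p := 18768) (l := 3) rfl N18768 D60814
theorem N36974 : nd 36974 = n60816 := ndS (p := 18768) (l := 6) rfl N18768 D60816
theorem N36975 : nd 36975 = n60817 := ndS (p := 18770) (l := 3) rfl N18770 D60817
theorem N36976 : nd 36976 = n60818 := ndS (p := 18770) (l := 5) rfl N18770 D60818
theorem N36977 : nd 36977 = n60819 := ndS (p := 18770) (l := 6) rfl N18770 D60819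
theorem N36978 : nd 36978 = n60820 := ndS (p := 18772) (l := 3) rfl N18772 D60820
theorem N36979 : nd 36979 = n60821 := ndS (p := 18772) (l := 5) rfl N18772 D60821
theorem N36980 : nd 36980 = n60822 := ndS (p := 18772) (l := 6) rfl N18772 D60822
theorem N36981 : nd 36981 = n60823 := ndS (p := 18775) (l := 3) rfl N18775 D60823
theorem N36982 : nd 36982 = n60824 := ndS (p := 18775) (l := 5) rfl N18775 D60824
theorem N36983 : nd 36983 = n60825 := ndS (p := 18775) (l := 6) rfl N18775 D60825
theorem N36984 : nd 36984 = n60826 := ndS (p := 18777) (l := 3) rfl N18777 D60826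
theorem N36985 : nd 36985 = n60827 := ndS (p := 18777) (l := 5) rfl N18777 D60827
theorem N36986 : nd 36986 = n60828 := ndS (p := 18777) (l := 6) rfl N18777 D60828
theorem N36987 : nd 36987 = n60830 := ndS (p := 18778) (l := 1) rfl N18778 D60830
theorem N36988 : nd 36988 = n60831 := ndS (p := 18778) (l := 7) rfl N18778 D60831
theorem N36989 : nd 36989 = n60832 := ndS (p := 18779) (l := 3) rfl N18779 D60832
theorem N36990 : nd 36990 = n60833 := ndS (p := 18779) (l := 5) rfl N18779 D60833
theorem N36991 : nd 36991 = n60834 := ndS (p := 18779) (l := 6) rfl N18779 D60834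
theorem N36992 : nd 36992 = n60835 := ndS (p := 18780) (l := 3) rfl N18780 D60835
theorem N36993 : nd 36993 = n60836 := ndS (p := 18780) (l := 5) rfl N18780 D60836
theorem N36994 : nd 36994 = n60837 := ndS (p := 18780) (l := 6) rfl N18780 D60837
theorem N36995 : nd 36995 = n60838 := ndS (p := 18781) (l := 0) rfl N18781 D60838
theorem N36996 : nd 36996 = n60839 := ndS (p := 18781) (l := 1) rfl N18781 D60839
theorem N36997 : nd 36997 = n60840 := ndS (p := 18781) (l := 2) rfl N18781 D60840
theorem N36998 : nd 36998 = n60841 := ndS (p := 18781) (l := 5) rfl N18781 D60841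
theorem N36999 : nd 36999 = n60842 := ndS (p := 18781) (l := 6) rfl N18781 D60842
theorem N37000 : nd 37000 = n60843 := ndS (p := 18782) (l := 6) rfl N18782 D60843
theorem N37001 : nd 37001 = n60844 := ndS (p := 18783) (l := 0) rfl N18783 D60844
theorem N37002 : nd 37002 = n60845 := ndS (p := 18783) (l := 5) rfl N18783 D60845
theorem N37003 : nd 37003 = n60846 := ndS (p := 18783) (l := 7) rfl N18783 D60846
theorem N37004 : nd 37004 = n60847 := ndS (p := 18784) (l := 3) rfl N18784 D60847
theorem N37005 : nd 37005 = n60848 := ndS (p := 18784) (l := 4) rfl N18784 D60848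
theorem N37006 : nd 37006 = n60849 := ndS (p := 18785) (l := 0) rfl N18785 D60849
theorem N37007 : nd 37007 = n60850 := ndS (p := 18785) (l := 1) rfl N18785 D60850
theorem N37008 : nd 37008 = n60851 := ndS (p := 18785) (l := 4) rfl N18785 D60851
theorem N37009 : nd 37009 = n60853 := ndS (p := 18789) (l := 5) rfl N18789 D60853
theorem N37010 : nd 37010 = n60855 := ndS (p := 18790) (l := 3) rfl N18790 D60855
theorem N37011 : nd 37011 = n60856 := ndS (p := 18790) (l := 4) rfl N18790 D60856
theorem N37012 : nd 37012 = n60857 := ndS (p := 18790) (l := 5) rfl N18790 D60857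
theorem N37013 : nd 37013 = n60858 := ndS (p := 18790) (l := 6) rfl N18790 D60858
theorem N37014 : nd 37014 = n60860 := ndS (p := 18791) (l := 3) rfl N18791 D60860
theorem N37015 : nd 37015 = n60861 := ndS (p := 18791) (l := 4) rfl N18791 D60861
theorem N37016 : nd 37016 = n60862 := ndS (p := 18791) (l := 5) rfl N18791 D60862
theorem N37017 : nd 37017 = n60863 := ndS (p := 18791) (l := 6) rfl N18791 D60863
theorem N37018 : nd 37018 = n60864 := ndS (p := 18792) (l := 5) rfl N18792 D60864
theorem N37019 : nd 37019 = n60865 := ndS (p := 18792) (l := 6) rfl N18792 D60865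
theorem N37020 : nd 37020 = n60866 := ndS (p := 18793) (l := 0) rfl N18793 D60866
theorem N37021 : nd 37021 = n60867 := ndS (p := 18793) (l := 1) rfl N18793 D60867
theorem N37022 : nd 37022 = n60868 := ndS (p := 18793) (l := 4) rfl N18793 D60868
theorem N37023 : nd 37023 = n60869 := ndS (p := 18793) (l := 6) rfl N18793 D60869
theorem N37024 : nd 37024 = n60870 := ndS (p := 18794) (l := 0) rfl N18794 D60870
theorem N37025 : nd 37025 = n60872 := ndS (p := 18794) (l := 5) rfl N18794 D60872
theorem N37026 : nd 37026 = n60873 := ndS (p := 18794) (l := 7) rfl N18794 D60873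
theorem N37027 : nd 37027 = n60874 := ndS (p := 18795) (l := 0) rfl N18795 D60874
theorem N37028 : nd 37028 = n60875 := ndS (p := 18795) (l := 1) rfl N18795 D60875
theorem N37029 : nd 37029 = n60876 := ndS (p := 18795) (l := 5) rfl N18795 D60876
theorem N37030 : nd 37030 = n60877 := ndS (p := 18795) (l := 7) rfl N18795 D60877
theorem N37031 : nd 37031 = n60878 := ndS (p := 18796) (l := 3) rfl N18796 D60878
theorem N37032 : nd 37032 = n60879 := ndS (p := 18796) (l := 5) rfl N18796 D60879
theorem N37033 : nd 37033 = n60884 := ndS (p := 18799) (l := 3) rfl N18799 D60884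
theorem N37034 : nd 37034 = n60885 := ndS (p := 18799) (l := 5) rfl N18799 D60885
theorem N37035 : nd 37035 = n60888 := ndS (p := 18801) (l := 3) rfl N18801 D60888
theorem N37036 : nd 37036 = n60898 := ndS (p := 18803) (l := 3) rfl N18803 D60898
theorem N37037 : nd 37037 = n60899 := ndS (p := 18803) (l := 6) rfl N18803 D60899
theorem N37038 : nd 37038 = n60900 := ndS (p := 18804) (l := 0) rfl N18804 D60900
theorem N37039 : nd 37039 = n60901 := ndS (p := 18804) (l := 1) rfl N18804 D60901
theorem N37040 : nd 37040 = n60902 := ndS (p := 18804) (l := 2) rfl N18804 D60902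
theorem N37041 : nd 37041 = n60903 := ndS (p := 18804) (l := 5) rfl N18804 D60903
theorem N37042 : nd 37042 = n60904 := ndS (p := 18804) (l := 6) rfl N18804 D60904
theorem N37043 : nd 37043 = n60905 := ndS (p := 18805) (l := 0) rfl N18805 D60905
theorem N37044 : nd 37044 = n60906 := ndS (p := 18805) (l := 6) rfl N18805 D60906
theorem N37045 : nd 37045 = n60907 := ndS (p := 18806) (l := 0) rfl N18806 D60907
theorem N37046 : nd 37046 = n60908 := ndS (p := 18806) (l := 1) rfl N18806 D60908
theorem N37047 : nd 37047 = n60909 := ndS (p := 18806) (l := 5) rfl N18806 D60909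
theorem N37048 : nd 37048 = n60910 := ndS (p := 18806) (l := 7) rfl N18806 D60910
theorem N37049 : nd 37049 = n60912 := ndS (p := 18807) (l := 3) rfl N18807 D60912
theorem N37050 : nd 37050 = n60913 := ndS (p := 18807) (l := 4) rfl N18807 D60913
theorem N37051 : nd 37051 = n60914 := ndS (p := 18807) (l := 5) rfl N18807 D60914
theorem N37052 : nd 37052 = n60915 := ndS (p := 18807) (l := 6) rfl N18807 D60915
theorem N37053 : nd 37053 = n60917 := ndS (p := 18808) (l := 3) rfl N18808 D60917
theorem N37054 : nd 37054 = n60918 := ndS (p := 18808) (l := 4) rfl N18808 D60918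
theorem N37055 : nd 37055 = n60919 := ndS (p := 18808) (l := 5) rfl N18808 D60919
theorem N37056 : nd 37056 = n60920 := ndS (p := 18808) (l := 6) rfl N18808 D60920
theorem N37057 : nd 37057 = n60922 := ndS (p := 18810) (l := 3) rfl N18810 D60922
theorem N37058 : nd 37058 = n60923 := ndS (p := 18810) (l := 4) rfl N18810 D60923
theorem N37059 : nd 37059 = n60924 := ndS (p := 18810) (l := 6) rfl N18810 D60924
theorem N37060 : nd 37060 = n60925 := ndS (p := 18811) (l := 3) rfl N18811 D60925
theorem N37061 : nd 37061 = n60926 := ndS (p := 18811) (l := 4) rfl N18811 D60926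
theorem N37062 : nd 37062 = n60929 := ndS (p := 18812) (l := 5) rfl N18812 D60929
theorem N37063 : nd 37063 = n60930 := ndS (p := 18812) (l := 6) rfl N18812 D60930
theorem N37064 : nd 37064 = n60931 := ndS (p := 18813) (l := 0) rfl N18813 D60931
theorem N37065 : nd 37065 = n60932 := ndS (p := 18813) (l := 1) rfl N18813 D60932
theorem N37066 : nd 37066 = n60935 := ndS (p := 18814) (l := 0) rfl N18814 D60935
theorem N37067 : nd 37067 = n60936 := ndS (p := 18814) (l := 1) rfl N18814 D60936
theorem N37068 : nd 37068 = n60937 := ndS (p := 18814) (l := 5) rfl N18814 D60937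
theorem N37069 : nd 37069 = n60938 := ndS (p := 18814) (l := 7) rfl N18814 D60938
theorem N37070 : nd 37070 = n60939 := ndS (p := 18815) (l := 3) rfl N18815 D60939
theorem N37071 : nd 37071 = n60940 := ndS (p := 18815) (l := 6) rfl N18815 D60940
theorem N37072 : nd 37072 = n60941 := ndS (p := 18816) (l := 3) rfl N18816 D60941
theorem N37073 : nd 37073 = n60942 := ndS (p := 18816) (l := 6) rfl N18816 D60942
theorem N37074 : nd 37074 = n60945 := ndS (p := 18817) (l := 5) rfl N18817 D60945
theorem N37075 : nd 37075 = n60947 := ndS (p := 18818) (l := 3) rfl N18818 D60947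
theorem N37076 : nd 37076 = n60948 := ndS (p := 18818) (l := 5) rfl N18818 D60948
theorem N37077 : nd 37077 = n60950 := ndS (p := 18819) (l := 5) rfl N18819 D60950
theorem N37078 : nd 37078 = n60953 := ndS (p := 18820) (l := 1) rfl N18820 D60953
theorem N37079 : nd 37079 = n60954 := ndS (p := 18820) (l := 4) rfl N18820 D60954
theorem N37080 : nd 37080 = n60955 := ndS (p := 18820) (l := 7) rfl N18820 D60955
theorem N37081 : nd 37081 = n60959 := ndS (p := 18822) (l := 4) rfl N18822 D60959
theorem N37082 : nd 37082 = n60960 := ndS (p := 18822) (l := 5) rfl N18822 D60960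
theorem N37083 : nd 37083 = n60961 := ndS (p := 18823) (l := 3) rfl N18823 D60961
theorem N37084 : nd 37084 = n60962 := ndS (p := 18823) (l := 5) rfl N18823 D60962
theorem N37085 : nd 37085 = n60963 := ndS (p := 18824) (l := 4) rfl N18824 D60963
theorem N37086 : nd 37086 = n60970 := ndS (p := 18825) (l := 3) rfl N18825 D60970
theorem N37087 : nd 37087 = n60971 := ndS (p := 18825) (l := 5) rfl N18825 D60971
theorem N37088 : nd 37088 = n60972 := ndS (p := 18825) (l := 6) rfl N18825 D60972
theorem N37089 : nd 37089 = n60974 := ndS (p := 18828) (l := 3) rfl N18828 D60974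
theorem N37090 : nd 37090 = n60975 := ndS (p := 18828) (l := 5) rfl N18828 D60975
theorem N37091 : nd 37091 = n60976 := ndS (p := 18828) (l := 6) rfl N18828 D60976
theorem N37092 : nd 37092 = n60977 := ndS (p := 18829) (l := 0) rfl N18829 D60977
theorem N37093 : nd 37093 = n60978 := ndS (p := 18829) (l := 7) rfl N18829 D60978
theorem N37094 : nd 37094 = n60979 := ndS (p := 18830) (l := 3) rfl N18830 D60979
theorem N37095 : nd 37095 = n60980 := ndS (p := 18830) (l := 6) rfl N18830 D60980
theorem N37096 : nd 37096 = n60981 := ndS (p := 18831) (l := 0) rfl N18831 D60981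
theorem N37097 : nd 37097 = n60982 := ndS (p := 18831) (l := 1) rfl N18831 D60982
theorem N37098 : nd 37098 = n60983 := ndS (p := 18831) (l := 2) rfl N18831 D60983
theorem N37099 : nd 37099 = n60984 := ndS (p := 18831) (l := 5) rfl N18831 D60984
theorem N37100 : nd 37100 = n60985 := ndS (p := 18831) (l := 6) rfl N18831 D60985
theorem N37101 : nd 37101 = n60986 := ndS (p := 18832) (l := 0) rfl N18832 D60986
theorem N37102 : nd 37102 = n60987 := ndS (p := 18832) (l := 1) rfl N18832 D60987
theorem N37103 : nd 37103 = n60988 := ndS (p := 18832) (l := 6) rfl N18832 D60988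
theorem N37104 : nd 37104 = n60989 := ndS (p := 18833) (l := 0) rfl N18833 D60989
theorem N37105 : nd 37105 = n60990 := ndS (p := 18833) (l := 1) rfl N18833 D60990
theorem N37106 : nd 37106 = n60991 := ndS (p := 18833) (l := 5) rfl N18833 D60991
theorem N37107 : nd 37107 = n60992 := ndS (p := 18833) (l := 7) rfl N18833 D60992
theorem N37108 : nd 37108 = n60994 := ndS (p := 18834) (l := 3) rfl N18834 D60994
theorem N37109 : nd 37109 = n60995 := ndS (p := 18834) (l := 4) rfl N18834 D60995
theorem N37110 : nd 37110 = n60996 := ndS (p := 18834) (l := 6) rfl N18834 D60996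
theorem N37111 : nd 37111 = n60998 := ndS (p := 18835) (l := 3) rfl N18835 D60998
theorem N37112 : nd 37112 = n60999 := ndS (p := 18835) (l := 4) rfl N18835 D60999
theorem N37113 : nd 37113 = n61001 := ndS (p := 18837) (l := 3) rfl N18837 D61001
theorem N37114 : nd 37114 = n61002 := ndS (p := 18837) (l := 4) rfl N18837 D61002
theorem N37115 : nd 37115 = n61006 := ndS (p := 18838) (l := 3) rfl N18838 D61006
theorem N37116 : nd 37116 = n61007 := ndS (p := 18838) (l := 4) rfl N18838 D61007
theorem N37117 : nd 37117 = n61009 := ndS (p := 18838) (l := 6) rfl N18838 D61009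
theorem N37118 : nd 37118 = n61010 := ndS (p := 18839) (l := 5) rfl N18839 D61010
theorem N37119 : nd 37119 = n61011 := ndS (p := 18839) (l := 6) rfl N18839 D61011
theorem N37120 : nd 37120 = n61012 := ndS (p := 18840) (l := 0) rfl N18840 D61012
theorem N37121 : nd 37121 = n61013 := ndS (p := 18840) (l := 1) rfl N18840 D61013
theorem N37122 : nd 37122 = n61014 := ndS (p := 18840) (l := 4) rfl N18840 D61014
theorem N37123 : nd 37123 = n61015 := ndS (p := 18840) (l := 6) rfl N18840 D61015
theorem N37124 : nd 37124 = n61016 := ndS (p := 18841) (l := 0) rfl N18841 D61016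
theorem N37125 : nd 37125 = n61017 := ndS (p := 18841) (l := 1) rfl N18841 D61017
theorem N37126 : nd 37126 = n61024 := ndS (p := 18843) (l := 3) rfl N18843 D61024
theorem N37127 : nd 37127 = n61025 := ndS (p := 18843) (l := 6) rfl N18843 D61025
theorem N37128 : nd 37128 = n61026 := ndS (p := 18844) (l := 3) rfl N18844 D61026
theorem N37129 : nd 37129 = n61036 := ndS (p := 18846) (l := 3) rfl N18846 D61036
theorem N37130 : nd 37130 = n61038 := ndS (p := 18846) (l := 6) rfl N18846 D61038
theorem N37131 : nd 37131 = n61042 := ndS (p := 18848) (l := 4) rfl N18848 D61042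
theorem N37132 : nd 37132 = n61043 := ndS (p := 18849) (l := 3) rfl N18849 D61043
theorem N37133 : nd 37133 = n61051 := ndS (p := 18850) (l := 3) rfl N18850 D61051
theorem N37134 : nd 37134 = n61055 := ndS (p := 18851) (l := 4) rfl N18851 D61055
theorem N37135 : nd 37135 = n61057 := ndS (p := 18851) (l := 6) rfl N18851 D61057
theorem N37136 : nd 37136 = n61058 := ndS (p := 18852) (l := 0) rfl N18852 D61058
theorem N37137 : nd 37137 = n61059 := ndS (p := 18852) (l := 1) rfl N18852 D61059
theorem N37138 : nd 37138 = n61066 := ndS (p := 18854) (l := 0) rfl N18854 D61066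
theorem N37139 : nd 37139 = n61067 := ndS (p := 18854) (l := 1) rfl N18854 D61067
theorem N37140 : nd 37140 = n61068 := ndS (p := 18854) (l := 5) rfl N18854 D61068
theorem N37141 : nd 37141 = n61069 := ndS (p := 18854) (l := 7) rfl N18854 D61069
theorem N37142 : nd 37142 = n61070 := ndS (p := 18855) (l := 3) rfl N18855 D61070
theorem N37143 : nd 37143 = n61071 := ndS (p := 18855) (l := 6) rfl N18855 D61071
theorem N37144 : nd 37144 = n61072 := ndS (p := 18856) (l := 3) rfl N18856 D61072
theorem N37145 : nd 37145 = n61073 := ndS (p := 18856) (l := 6) rfl N18856 D61073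
theorem N37146 : nd 37146 = n61074 := ndS (p := 18857) (l := 0) rfl N18857 D61074
theorem N37147 : nd 37147 = n61075 := ndS (p := 18857) (l := 1) rfl N18857 D61075
theorem N37148 : nd 37148 = n61076 := ndS (p := 18857) (l := 5) rfl N18857 D61076
theorem N37149 : nd 37149 = n61078 := ndS (p := 18858) (l := 0) rfl N18858 D61078
theorem N37150 : nd 37150 = n61079 := ndS (p := 18858) (l := 1) rfl N18858 D61079
theorem N37151 : nd 37151 = n61080 := ndS (p := 18858) (l := 4) rfl N18858 D61080
theorem N37152 : nd 37152 = n61081 := ndS (p := 18858) (l := 7) rfl N18858 D61081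
theorem N37153 : nd 37153 = n61083 := ndS (p := 18860) (l := 3) rfl N18860 D61083
theorem N37154 : nd 37154 = n61084 := ndS (p := 18860) (l := 4) rfl N18860 D61084
theorem N37155 : nd 37155 = n61085 := ndS (p := 18860) (l := 5) rfl N18860 D61085
theorem N37156 : nd 37156 = n61088 := ndS (p := 18861) (l := 3) rfl N18861 D61088
theorem N37157 : nd 37157 = n61089 := ndS (p := 18861) (l := 4) rfl N18861 D61089
theorem N37158 : nd 37158 = n61091 := ndS (p := 18861) (l := 6) rfl N18861 D61091
theorem N37159 : nd 37159 = n61092 := ndS (p := 18862) (l := 4) rfl N18862 D61092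
theorem N37160 : nd 37160 = n61094 := ndS (p := 18862) (l := 6) rfl N18862 D61094
theorem N37161 : nd 37161 = n61095 := ndS (p := 18863) (l := 0) rfl N18863 D61095
theorem N37162 : nd 37162 = n61096 := ndS (p := 18863) (l := 1) rfl N18863 D61096
theorem N37163 : nd 37163 = n61097 := ndS (p := 18863) (l := 5) rfl N18863 D61097
theorem N37164 : nd 37164 = n61098 := ndS (p := 18863) (l := 6) rfl N18863 D61098
theorem N37165 : nd 37165 = n61099 := ndS (p := 18864) (l := 0) rfl N18864 D61099
theorem N37166 : nd 37166 = n61100 := ndS (p := 18864) (l := 1) rfl N18864 D61100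
theorem N37167 : nd 37167 = n61102 := ndS (p := 18864) (l := 6) rfl N18864 D61102
theorem N37168 : nd 37168 = n61103 := ndS (p := 18865) (l := 0) rfl N18865 D61103
theorem N37169 : nd 37169 = n61104 := ndS (p := 18865) (l := 1) rfl N18865 D61104
theorem N37170 : nd 37170 = n61105 := ndS (p := 18865) (l := 5) rfl N18865 D61105
theorem N37171 : nd 37171 = n61106 := ndS (p := 18865) (l := 7) rfl N18865 D61106
theorem N37172 : nd 37172 = n61115 := ndS (p := 18869) (l := 6) rfl N18869 D61115
theorem N37173 : nd 37173 = n61118 := ndS (p := 18870) (l := 3) rfl N18870 D61118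
theorem N37174 : nd 37174 = n61119 := ndS (p := 18870) (l := 4) rfl N18870 D61119
theorem N37175 : nd 37175 = n61120 := ndS (p := 18870) (l := 5) rfl N18870 D61120
theorem N37176 : nd 37176 = n61121 := ndS (p := 18870) (l := 6) rfl N18870 D61121
theorem N37177 : nd 37177 = n61123 := ndS (p := 18871) (l := 1) rfl N18871 D61123
theorem N37178 : nd 37178 = n61124 := ndS (p := 18871) (l := 2) rfl N18871 D61124
theorem N37179 : nd 37179 = n61125 := ndS (p := 18871) (l := 4) rfl N18871 D61125
theorem N37180 : nd 37180 = n61126 := ndS (p := 18871) (l := 5) rfl N18871 D61126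
theorem N37181 : nd 37181 = n61127 := ndS (p := 18871) (l := 6) rfl N18871 D61127
theorem N37182 : nd 37182 = n61128 := ndS (p := 18871) (l := 7) rfl N18871 D61128
theorem N37183 : nd 37183 = n61129 := ndS (p := 18872) (l := 0) rfl N18872 D61129
theorem N37184 : nd 37184 = n61130 := ndS (p := 18872) (l := 1) rfl N18872 D61130
theorem N37185 : nd 37185 = n61131 := ndS (p := 18872) (l := 3) rfl N18872 D61131
theorem N37186 : nd 37186 = n61132 := ndS (p := 18872) (l := 5) rfl N18872 D61132
theorem N37187 : nd 37187 = n61133 := ndS (p := 18872) (l := 6) rfl N18872 D61133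
theorem N37188 : nd 37188 = n61134 := ndS (p := 18872) (l := 7) rfl N18872 D61134
theorem N37189 : nd 37189 = n61135 := ndS (p := 18873) (l := 0) rfl N18873 D61135
theorem N37190 : nd 37190 = n61138 := ndS (p := 18873) (l := 6) rfl N18873 D61138
theorem N37191 : nd 37191 = n61139 := ndS (p := 18873) (l := 7) rfl N18873 D61139
theorem N37192 : nd 37192 = n61140 := ndS (p := 18874) (l := 0) rfl N18874 D61140
theorem N37193 : nd 37193 = n61142 := ndS (p := 18874) (l := 5) rfl N18874 D61142
theorem N37194 : nd 37194 = n61143 := ndS (p := 18874) (l := 7) rfl N18874 D61143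
theorem N37195 : nd 37195 = n61144 := ndS (p := 18875) (l := 6) rfl N18875 D61144
theorem N37196 : nd 37196 = n61145 := ndS (p := 18876) (l := 0) rfl N18876 D61145
theorem N37197 : nd 37197 = n61147 := ndS (p := 18876) (l := 2) rfl N18876 D61147
theorem N37198 : nd 37198 = n61148 := ndS (p := 18876) (l := 4) rfl N18876 D61148
theorem N37199 : nd 37199 = n61149 := ndS (p := 18876) (l := 5) rfl N18876 D61149
theorem N37200 : nd 37200 = n61150 := ndS (p := 18876) (l := 6) rfl N18876 D61150
theorem N37201 : nd 37201 = n61151 := ndS (p := 18877) (l := 3) rfl N18877 D61151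
theorem N37202 : nd 37202 = n61152 := ndS (p := 18877) (l := 5) rfl N18877 D61152
theorem N37203 : nd 37203 = n61153 := ndS (p := 18877) (l := 6) rfl N18877 D61153
theorem N37204 : nd 37204 = n61155 := ndS (p := 18878) (l := 6) rfl N18878 D61155
theorem N37205 : nd 37205 = n61157 := ndS (p := 18879) (l := 1) rfl N18879 D61157
theorem N37206 : nd 37206 = n61158 := ndS (p := 18879) (l := 5) rfl N18879 D61158
theorem N37207 : nd 37207 = n61159 := ndS (p := 18879) (l := 7) rfl N18879 D61159
theorem N37208 : nd 37208 = n61170 := ndS (p := 18880) (l := 4) rfl N18880 D61170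
theorem N37209 : nd 37209 = n61171 := ndS (p := 18880) (l := 6) rfl N18880 D61171
theorem N37210 : nd 37210 = n61173 := ndS (p := 18881) (l := 3) rfl N18881 D61173
theorem N37211 : nd 37211 = n61174 := ndS (p := 18881) (l := 4) rfl N18881 D61174
theorem N37212 : nd 37212 = n61176 := ndS (p := 18881) (l := 6) rfl N18881 D61176
theorem N37213 : nd 37213 = n61179 := ndS (p := 18882) (l := 4) rfl N18882 D61179
theorem N37214 : nd 37214 = n61181 := ndS (p := 18882) (l := 6) rfl N18882 D61181
theorem N37215 : nd 37215 = n61182 := ndS (p := 18883) (l := 0) rfl N18883 D61182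
theorem N37216 : nd 37216 = n61183 := ndS (p := 18883) (l := 1) rfl N18883 D61183
theorem N37217 : nd 37217 = n61185 := ndS (p := 18884) (l := 0) rfl N18884 D61185
theorem N37218 : nd 37218 = n61186 := ndS (p := 18884) (l := 1) rfl N18884 D61186
theorem N37219 : nd 37219 = n61187 := ndS (p := 18884) (l := 7) rfl N18884 D61187
theorem N37220 : nd 37220 = n61188 := ndS (p := 18885) (l := 0) rfl N18885 D61188
theorem N37221 : nd 37221 = n61189 := ndS (p := 18885) (l := 1) rfl N18885 D61189
theorem N37222 : nd 37222 = n61190 := ndS (p := 18885) (l := 5) rfl N18885 D61190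
theorem N37223 : nd 37223 = n61196 := ndS (p := 18886) (l := 0) rfl N18886 D61196
theorem N37224 : nd 37224 = n61197 := ndS (p := 18886) (l := 1) rfl N18886 D61197
theorem N37225 : nd 37225 = n61199 := ndS (p := 18886) (l := 7) rfl N18886 D61199
theorem N37226 : nd 37226 = n61203 := ndS (p := 18887) (l := 4) rfl N18887 D61203
theorem N37227 : nd 37227 = n61204 := ndS (p := 18887) (l := 6) rfl N18887 D61204
theorem N37228 : nd 37228 = n61205 := ndS (p := 18888) (l := 0) rfl N18888 D61205
theorem N37229 : nd 37229 = n61206 := ndS (p := 18888) (l := 1) rfl N18888 D61206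
theorem N37230 : nd 37230 = n61208 := ndS (p := 18888) (l := 7) rfl N18888 D61208
theorem N37231 : nd 37231 = n61212 := ndS (p := 18889) (l := 5) rfl N18889 D61212
theorem N37232 : nd 37232 = n61213 := ndS (p := 18889) (l := 6) rfl N18889 D61213
theorem N37233 : nd 37233 = n61215 := ndS (p := 18890) (l := 3) rfl N18890 D61215
theorem N37234 : nd 37234 = n61217 := ndS (p := 18890) (l := 5) rfl N18890 D61217
theorem N37235 : nd 37235 = n61218 := ndS (p := 18890) (l := 6) rfl N18890 D61218
theorem N37236 : nd 37236 = n61220 := ndS (p := 18892) (l := 3) rfl N18892 D61220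
theorem N37237 : nd 37237 = n61229 := ndS (p := 18894) (l := 4) rfl N18894 D61229
theorem N37238 : nd 37238 = n61230 := ndS (p := 18894) (l := 5) rfl N18894 D61230
theorem N37239 : nd 37239 = n61232 := ndS (p := 18895) (l := 3) rfl N18895 D61232
theorem N37240 : nd 37240 = n61234 := ndS (p := 18896) (l := 4) rfl N18896 D61234
theorem N37241 : nd 37241 = n61235 := ndS (p := 18897) (l := 4) rfl N18897 D61235
theorem N37242 : nd 37242 = n61236 := ndS (p := 18897) (l := 6) rfl N18897 D61236
theorem N37243 : nd 37243 = n61237 := ndS (p := 18898) (l := 4) rfl N18898 D61237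
theorem N37244 : nd 37244 = n61238 := ndS (p := 18899) (l := 3) rfl N18899 D61238
theorem N37245 : nd 37245 = n61239 := ndS (p := 18899) (l := 6) rfl N18899 D61239
theorem N37246 : nd 37246 = n61240 := ndS (p := 18900) (l := 0) rfl N18900 D61240
theorem N37247 : nd 37247 = n61241 := ndS (p := 18900) (l := 1) rfl N18900 D61241
theorem N37248 : nd 37248 = n61242 := ndS (p := 18900) (l := 7) rfl N18900 D61242
theorem N37249 : nd 37249 = n61243 := ndS (p := 18901) (l := 3) rfl N18901 D61243
theorem N37250 : nd 37250 = n61244 := ndS (p := 18901) (l := 5) rfl N18901 D61244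
theorem N37251 : nd 37251 = n61245 := ndS (p := 18901) (l := 6) rfl N18901 D61245
theorem N37252 : nd 37252 = n61246 := ndS (p := 18902) (l := 0) rfl N18902 D61246
theorem N37253 : nd 37253 = n61247 := ndS (p := 18902) (l := 1) rfl N18902 D61247
theorem N37254 : nd 37254 = n61248 := ndS (p := 18902) (l := 7) rfl N18902 D61248
theorem N37255 : nd 37255 = n61249 := ndS (p := 18903) (l := 6) rfl N18903 D61249
theorem N37256 : nd 37256 = n61250 := ndS (p := 18904) (l := 3) rfl N18904 D61250
theorem N37257 : nd 37257 = n61251 := ndS (p := 18904) (l := 5) rfl N18904 D61251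
theorem N37258 : nd 37258 = n61252 := ndS (p := 18904) (l := 6) rfl N18904 D61252
theorem N37259 : nd 37259 = n61253 := ndS (p := 18906) (l := 3) rfl N18906 D61253
theorem N37260 : nd 37260 = n61254 := ndS (p := 18906) (l := 5) rfl N18906 D61254
theorem N37261 : nd 37261 = n61255 := ndS (p := 18906) (l := 6) rfl N18906 D61255
theorem N37262 : nd 37262 = n61256 := ndS (p := 18907) (l := 3) rfl N18907 D61256
theorem N37263 : nd 37263 = n61257 := ndS (p := 18907) (l := 5) rfl N18907 D61257
theorem N37264 : nd 37264 = n61258 := ndS (p := 18908) (l := 0) rfl N18908 D61258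
theorem N37265 : nd 37265 = n61259 := ndS (p := 18908) (l := 1) rfl N18908 D61259
theorem N37266 : nd 37266 = n61260 := ndS (p := 18908) (l := 2) rfl N18908 D61260
theorem N37267 : nd 37267 = n61261 := ndS (p := 18908) (l := 5) rfl N18908 D61261
theorem N37268 : nd 37268 = n61262 := ndS (p := 18908) (l := 6) rfl N18908 D61262
theorem N37269 : nd 37269 = n61263 := ndS (p := 18909) (l := 6) rfl N18909 D61263
theorem N37270 : nd 37270 = n61264 := ndS (p := 18910) (l := 0) rfl N18910 D61264
theorem N37271 : nd 37271 = n61265 := ndS (p := 18910) (l := 1) rfl N18910 D61265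
theorem N37272 : nd 37272 = n61266 := ndS (p := 18910) (l := 5) rfl N18910 D61266
theorem N37273 : nd 37273 = n61267 := ndS (p := 18910) (l := 7) rfl N18910 D61267
theorem N37274 : nd 37274 = n61270 := ndS (p := 18911) (l := 4) rfl N18911 D61270
theorem N37275 : nd 37275 = n61272 := ndS (p := 18912) (l := 3) rfl N18912 D61272
theorem N37276 : nd 37276 = n61273 := ndS (p := 18912) (l := 4) rfl N18912 D61273
theorem N37277 : nd 37277 = n61274 := ndS (p := 18912) (l := 6) rfl N18912 D61274
theorem N37278 : nd 37278 = n61275 := ndS (p := 18914) (l := 6) rfl N18914 D61275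
theorem N37279 : nd 37279 = n61276 := ndS (p := 18915) (l := 0) rfl N18915 D61276
theorem N37280 : nd 37280 = n61277 := ndS (p := 18915) (l := 5) rfl N18915 D61277
theorem N37281 : nd 37281 = n61278 := ndS (p := 18916) (l := 6) rfl N18916 D61278
theorem N37282 : nd 37282 = n61279 := ndS (p := 18917) (l := 5) rfl N18917 D61279
theorem N37283 : nd 37283 = n61280 := ndS (p := 18918) (l := 6) rfl N18918 D61280
theorem N37284 : nd 37284 = n61281 := ndS (p := 18919) (l := 0) rfl N18919 D61281
theorem N37285 : nd 37285 = n61282 := ndS (p := 18919) (l := 1) rfl N18919 D61282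
theorem N37286 : nd 37286 = n61283 := ndS (p := 18919) (l := 2) rfl N18919 D61283
theorem N37287 : nd 37287 = n61284 := ndS (p := 18919) (l := 5) rfl N18919 D61284
theorem N37288 : nd 37288 = n61285 := ndS (p := 18920) (l := 6) rfl N18920 D61285
theorem N37289 : nd 37289 = n61286 := ndS (p := 18921) (l := 3) rfl N18921 D61286
theorem N37290 : nd 37290 = n61287 := ndS (p := 18921) (l := 5) rfl N18921 D61287
theorem N37291 : nd 37291 = n61288 := ndS (p := 18921) (l := 6) rfl N18921 D61288
theorem N37292 : nd 37292 = n61289 := ndS (p := 18922) (l := 5) rfl N18922 D61289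
theorem N37293 : nd 37293 = n61290 := ndS (p := 18924) (l := 4) rfl N18924 D61290
theorem N37294 : nd 37294 = n61291 := ndS (p := 18924) (l := 6) rfl N18924 D61291
theorem N37295 : nd 37295 = n61292 := ndS (p := 18925) (l := 3) rfl N18925 D61292
theorem N37296 : nd 37296 = n61293 := ndS (p := 18925) (l := 6) rfl N18925 D61293
theorem N37297 : nd 37297 = n61294 := ndS (p := 18926) (l := 0) rfl N18926 D61294
theorem N37298 : nd 37298 = n61295 := ndS (p := 18926) (l := 1) rfl N18926 D61295
theorem N37299 : nd 37299 = n61296 := ndS (p := 18926) (l := 7) rfl N18926 D61296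
theorem N37300 : nd 37300 = n61297 := ndS (p := 18927) (l := 6) rfl N18927 D61297
theorem N37301 : nd 37301 = n61298 := ndS (p := 18928) (l := 3) rfl N18928 D61298
theorem N37302 : nd 37302 = n61299 := ndS (p := 18928) (l := 5) rfl N18928 D61299
theorem N37303 : nd 37303 = n61300 := ndS (p := 18928) (l := 6) rfl N18928 D61300
theorem N37304 : nd 37304 = n61301 := ndS (p := 18929) (l := 0) rfl N18929 D61301
theorem N37305 : nd 37305 = n61302 := ndS (p := 18929) (l := 1) rfl N18929 D61302
theorem N37306 : nd 37306 = n61303 := ndS (p := 18929) (l := 7) rfl N18929 D61303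
theorem N37307 : nd 37307 = n61304 := ndS (p := 18930) (l := 3) rfl N18930 D61304
theorem N37308 : nd 37308 = n61305 := ndS (p := 18930) (l := 5) rfl N18930 D61305
theorem N37309 : nd 37309 = n61306 := ndS (p := 18930) (l := 6) rfl N18930 D61306
theorem N37310 : nd 37310 = n61307 := ndS (p := 18932) (l := 3) rfl N18932 D61307
theorem N37311 : nd 37311 = n61308 := ndS (p := 18932) (l := 5) rfl N18932 D61308
theorem N37312 : nd 37312 = n61309 := ndS (p := 18932) (l := 6) rfl N18932 D61309
theorem N37313 : nd 37313 = n61310 := ndS (p := 18933) (l := 3) rfl N18933 D61310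
theorem N37314 : nd 37314 = n61311 := ndS (p := 18933) (l := 5) rfl N18933 D61311
theorem N37315 : nd 37315 = n61312 := ndS (p := 18933) (l := 6) rfl N18933 D61312
theorem N37316 : nd 37316 = n61313 := ndS (p := 18934) (l := 0) rfl N18934 D61313
theorem N37317 : nd 37317 = n61314 := ndS (p := 18934) (l := 1) rfl N18934 D61314
theorem N37318 : nd 37318 = n61315 := ndS (p := 18934) (l := 2) rfl N18934 D61315
theorem N37319 : nd 37319 = n61317 := ndS (p := 18934) (l := 6) rfl N18934 D61317
theorem N37320 : nd 37320 = n61318 := ndS (p := 18935) (l := 0) rfl N18935 D61318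
theorem N37321 : nd 37321 = n61319 := ndS (p := 18935) (l := 6) rfl N18935 D61319
theorem N37322 : nd 37322 = n61320 := ndS (p := 18936) (l := 0) rfl N18936 D61320
theorem N37323 : nd 37323 = n61321 := ndS (p := 18936) (l := 1) rfl N18936 D61321
theorem N37324 : nd 37324 = n61322 := ndS (p := 18936) (l := 5) rfl N18936 D61322
theorem N37325 : nd 37325 = n61323 := ndS (p := 18936) (l := 7) rfl N18936 D61323
theorem N37326 : nd 37326 = n61325 := ndS (p := 18937) (l := 3) rfl N18937 D61325
theorem N37327 : nd 37327 = n61326 := ndS (p := 18937) (l := 4) rfl N18937 D61326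
theorem N37328 : nd 37328 = n61329 := ndS (p := 18938) (l := 4) rfl N18938 D61329
theorem N37329 : nd 37329 = n61330 := ndS (p := 18938) (l := 6) rfl N18938 D61330
theorem N37330 : nd 37330 = n61331 := ndS (p := 18940) (l := 3) rfl N18940 D61331
theorem N37331 : nd 37331 = n61332 := ndS (p := 18940) (l := 5) rfl N18940 D61332
theorem N37332 : nd 37332 = n61333 := ndS (p := 18940) (l := 6) rfl N18940 D61333
theorem N37333 : nd 37333 = n61334 := ndS (p := 18941) (l := 0) rfl N18941 D61334
theorem N37334 : nd 37334 = n61335 := ndS (p := 18941) (l := 1) rfl N18941 D61335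
theorem N37335 : nd 37335 = n61336 := ndS (p := 18941) (l := 7) rfl N18941 D61336
theorem N37336 : nd 37336 = n61337 := ndS (p := 18942) (l := 0) rfl N18942 D61337
theorem N37337 : nd 37337 = n61338 := ndS (p := 18942) (l := 1) rfl N18942 D61338
theorem N37338 : nd 37338 = n61339 := ndS (p := 18942) (l := 2) rfl N18942 D61339
theorem N37339 : nd 37339 = n61340 := ndS (p := 18942) (l := 6) rfl N18942 D61340
theorem N37340 : nd 37340 = n61341 := ndS (p := 18943) (l := 0) rfl N18943 D61341
theorem N37341 : nd 37341 = n61342 := ndS (p := 18943) (l := 1) rfl N18943 D61342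
theorem N37342 : nd 37342 = n61343 := ndS (p := 18943) (l := 7) rfl N18943 D61343
theorem N37343 : nd 37343 = n61344 := ndS (p := 18944) (l := 3) rfl N18944 D61344
theorem N37344 : nd 37344 = n61347 := ndS (p := 18947) (l := 4) rfl N18947 D61347
theorem N37345 : nd 37345 = n61348 := ndS (p := 18948) (l := 3) rfl N18948 D61348
theorem N37346 : nd 37346 = n61350 := ndS (p := 18949) (l := 0) rfl N18949 D61350
theorem N37347 : nd 37347 = n61352 := ndS (p := 18949) (l := 2) rfl N18949 D61352
theorem N37348 : nd 37348 = n61354 := ndS (p := 18950) (l := 3) rfl N18950 D61354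
theorem N37349 : nd 37349 = n61355 := ndS (p := 18950) (l := 4) rfl N18950 D61355
theorem N37350 : nd 37350 = n61357 := ndS (p := 18950) (l := 6) rfl N18950 D61357
theorem N37351 : nd 37351 = n61359 := ndS (p := 18951) (l := 3) rfl N18951 D61359
theorem N37352 : nd 37352 = n61360 := ndS (p := 18951) (l := 4) rfl N18951 D61360
theorem N37353 : nd 37353 = n61362 := ndS (p := 18951) (l := 6) rfl N18951 D61362
theorem N37354 : nd 37354 = n61363 := ndS (p := 18952) (l := 6) rfl N18952 D61363
theorem N37355 : nd 37355 = n61364 := ndS (p := 18953) (l := 0) rfl N18953 D61364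
theorem N37356 : nd 37356 = n61365 := ndS (p := 18953) (l := 1) rfl N18953 D61365
theorem N37357 : nd 37357 = n61366 := ndS (p := 18953) (l := 5) rfl N18953 D61366
theorem N37358 : nd 37358 = n61367 := ndS (p := 18953) (l := 7) rfl N18953 D61367
theorem N37359 : nd 37359 = n61373 := ndS (p := 18956) (l := 4) rfl N18956 D61373
theorem N37360 : nd 37360 = n61374 := ndS (p := 18957) (l := 3) rfl N18957 D61374
theorem N37361 : nd 37361 = n61378 := ndS (p := 18958) (l := 4) rfl N18958 D61378
theorem N37362 : nd 37362 = n61379 := ndS (p := 18958) (l := 6) rfl N18958 D61379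
theorem N37363 : nd 37363 = n61380 := ndS (p := 18959) (l := 3) rfl N18959 D61380
theorem N37364 : nd 37364 = n61381 := ndS (p := 18959) (l := 6) rfl N18959 D61381
theorem N37365 : nd 37365 = n61382 := ndS (p := 18961) (l := 1) rfl N18961 D61382
theorem N37366 : nd 37366 = n61383 := ndS (p := 18961) (l := 7) rfl N18961 D61383
theorem N37367 : nd 37367 = n61386 := ndS (p := 18963) (l := 0) rfl N18963 D61386
theorem N37368 : nd 37368 = n61387 := ndS (p := 18963) (l := 1) rfl N18963 D61387
theorem N37369 : nd 37369 = n61388 := ndS (p := 18963) (l := 7) rfl N18963 D61388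
theorem N37370 : nd 37370 = n61389 := ndS (p := 18964) (l := 1) rfl N18964 D61389
theorem N37371 : nd 37371 = n61390 := ndS (p := 18964) (l := 7) rfl N18964 D61390
theorem N37372 : nd 37372 = n61391 := ndS (p := 18965) (l := 4) rfl N18965 D61391
theorem N37373 : nd 37373 = n61393 := ndS (p := 18966) (l := 0) rfl N18966 D61393
theorem N37374 : nd 37374 = n61395 := ndS (p := 18966) (l := 7) rfl N18966 D61395
theorem N37375 : nd 37375 = n61396 := ndS (p := 18967) (l := 5) rfl N18967 D61396
theorem N37376 : nd 37376 = n61397 := ndS (p := 18967) (l := 6) rfl N18967 D61397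
theorem N37377 : nd 37377 = n61398 := ndS (p := 18968) (l := 4) rfl N18968 D61398
theorem N37378 : nd 37378 = n61399 := ndS (p := 18968) (l := 6) rfl N18968 D61399
theorem N37379 : nd 37379 = n61400 := ndS (p := 18970) (l := 0) rfl N18970 D61400
theorem N37380 : nd 37380 = n61401 := ndS (p := 18970) (l := 5) rfl N18970 D61401
theorem N37381 : nd 37381 = n61402 := ndS (p := 18970) (l := 6) rfl N18970 D61402
theorem N37382 : nd 37382 = n61403 := ndS (p := 18971) (l := 0) rfl N18971 D61403
theorem N37383 : nd 37383 = n61404 := ndS (p := 18971) (l := 1) rfl N18971 D61404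
theorem N37384 : nd 37384 = n61405 := ndS (p := 18971) (l := 7) rfl N18971 D61405
theorem N37385 : nd 37385 = n61407 := ndS (p := 18972) (l := 3) rfl N18972 D61407
theorem N37386 : nd 37386 = n61408 := ndS (p := 18972) (l := 4) rfl N18972 D61408
theorem N37387 : nd 37387 = n61409 := ndS (p := 18972) (l := 5) rfl N18972 D61409
theorem N37388 : nd 37388 = n61410 := ndS (p := 18972) (l := 6) rfl N18972 D61410
theorem N37389 : nd 37389 = n61412 := ndS (p := 18973) (l := 3) rfl N18973 D61412
theorem N37390 : nd 37390 = n61413 := ndS (p := 18973) (l := 4) rfl N18973 D61413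
theorem N37391 : nd 37391 = n61414 := ndS (p := 18973) (l := 6) rfl N18973 D61414
theorem N37392 : nd 37392 = n61415 := ndS (p := 18976) (l := 3) rfl N18976 D61415
theorem N37393 : nd 37393 = n61416 := ndS (p := 18977) (l := 6) rfl N18977 D61416
theorem N37394 : nd 37394 = n61417 := ndS (p := 18978) (l := 3) rfl N18978 D61417
theorem N37395 : nd 37395 = n61418 := ndS (p := 18978) (l := 5) rfl N18978 D61418
theorem N37396 : nd 37396 = n61419 := ndS (p := 18978) (l := 6) rfl N18978 D61419
theorem N37397 : nd 37397 = n61421 := ndS (p := 18979) (l := 1) rfl N18979 D61421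
theorem N37398 : nd 37398 = n61422 := ndS (p := 18979) (l := 7) rfl N18979 D61422
theorem N37399 : nd 37399 = n61423 := ndS (p := 18980) (l := 3) rfl N18980 D61423
theorem N37400 : nd 37400 = n61424 := ndS (p := 18980) (l := 5) rfl N18980 D61424
theorem N37401 : nd 37401 = n61426 := ndS (p := 18981) (l := 3) rfl N18981 D61426
theorem N37402 : nd 37402 = n61427 := ndS (p := 18981) (l := 5) rfl N18981 D61427
theorem N37403 : nd 37403 = n61428 := ndS (p := 18981) (l := 6) rfl N18981 D61428
theorem N37404 : nd 37404 = n61429 := ndS (p := 18982) (l := 0) rfl N18982 D61429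
theorem N37405 : nd 37405 = n61430 := ndS (p := 18982) (l := 1) rfl N18982 D61430
theorem N37406 : nd 37406 = n61431 := ndS (p := 18982) (l := 2) rfl N18982 D61431
theorem N37407 : nd 37407 = n61432 := ndS (p := 18982) (l := 5) rfl N18982 D61432
theorem N37408 : nd 37408 = n61433 := ndS (p := 18982) (l := 6) rfl N18982 D61433
theorem N37409 : nd 37409 = n61434 := ndS (p := 18983) (l := 6) rfl N18983 D61434
theorem N37410 : nd 37410 = n61435 := ndS (p := 18984) (l := 0) rfl N18984 D61435
theorem N37411 : nd 37411 = n61436 := ndS (p := 18984) (l := 5) rfl N18984 D61436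
theorem N37412 : nd 37412 = n61437 := ndS (p := 18984) (l := 7) rfl N18984 D61437
theorem N37413 : nd 37413 = n61438 := ndS (p := 18985) (l := 3) rfl N18985 D61438
theorem N37414 : nd 37414 = n61439 := ndS (p := 18985) (l := 4) rfl N18985 D61439
theorem N37415 : nd 37415 = n61440 := ndS (p := 18986) (l := 0) rfl N18986 D61440
theorem N37416 : nd 37416 = n61441 := ndS (p := 18986) (l := 1) rfl N18986 D61441
theorem N37417 : nd 37417 = n61442 := ndS (p := 18986) (l := 4) rfl N18986 D61442
theorem N37418 : nd 37418 = n61443 := ndS (p := 18988) (l := 0) rfl N18988 D61443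
theorem N37419 : nd 37419 = n61444 := ndS (p := 18988) (l := 3) rfl N18988 D61444
theorem N37420 : nd 37420 = n61445 := ndS (p := 18988) (l := 5) rfl N18988 D61445
theorem N37421 : nd 37421 = n61447 := ndS (p := 18989) (l := 3) rfl N18989 D61447
theorem N37422 : nd 37422 = n61448 := ndS (p := 18989) (l := 4) rfl N18989 D61448
theorem N37423 : nd 37423 = n61449 := ndS (p := 18989) (l := 5) rfl N18989 D61449
theorem N37424 : nd 37424 = n61450 := ndS (p := 18989) (l := 6) rfl N18989 D61450
theorem N37425 : nd 37425 = n61452 := ndS (p := 18990) (l := 3) rfl N18990 D61452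
theorem N37426 : nd 37426 = n61453 := ndS (p := 18990) (l := 4) rfl N18990 D61453
theorem N37427 : nd 37427 = n61454 := ndS (p := 18990) (l := 5) rfl N18990 D61454
theorem N37428 : nd 37428 = n61455 := ndS (p := 18990) (l := 6) rfl N18990 D61455
theorem N37429 : nd 37429 = n61456 := ndS (p := 18991) (l := 6) rfl N18991 D61456
theorem N37430 : nd 37430 = n61457 := ndS (p := 18992) (l := 0) rfl N18992 D61457
theorem N37431 : nd 37431 = n61460 := ndS (p := 18992) (l := 7) rfl N18992 D61460
theorem N37432 : nd 37432 = n61465 := ndS (p := 18994) (l := 0) rfl N18994 D61465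
theorem N37433 : nd 37433 = n61466 := ndS (p := 18994) (l := 2) rfl N18994 D61466
theorem N37434 : nd 37434 = n61467 := ndS (p := 18994) (l := 4) rfl N18994 D61467
theorem N37435 : nd 37435 = n61470 := ndS (p := 18996) (l := 3) rfl N18996 D61470
theorem N37436 : nd 37436 = n61472 := ndS (p := 18997) (l := 3) rfl N18997 D61472
theorem N37437 : nd 37437 = n61474 := ndS (p := 18998) (l := 3) rfl N18998 D61474
theorem N37438 : nd 37438 = n61476 := ndS (p := 18999) (l := 1) rfl N18999 D61476
theorem N37439 : nd 37439 = n61479 := ndS (p := 19000) (l := 6) rfl N19000 D61479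
theorem N37440 : nd 37440 = n61483 := ndS (p := 19002) (l := 6) rfl N19002 D61483
theorem N37441 : nd 37441 = n61488 := ndS (p := 19005) (l := 3) rfl N19005 D61488
theorem N37442 : nd 37442 = n61490 := ndS (p := 19005) (l := 6) rfl N19005 D61490
theorem N37443 : nd 37443 = n61497 := ndS (p := 19008) (l := 3) rfl N19008 D61497
theorem N37444 : nd 37444 = n61498 := ndS (p := 19008) (l := 4) rfl N19008 D61498
theorem N37445 : nd 37445 = n61499 := ndS (p := 19008) (l := 5) rfl N19008 D61499
theorem N37446 : nd 37446 = n61500 := ndS (p := 19008) (l := 6) rfl N19008 D61500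
theorem N37447 : nd 37447 = n61503 := ndS (p := 19009) (l := 4) rfl N19009 D61503
theorem N37448 : nd 37448 = n61504 := ndS (p := 19009) (l := 5) rfl N19009 D61504
theorem N37449 : nd 37449 = n61505 := ndS (p := 19009) (l := 6) rfl N19009 D61505
theorem N37450 : nd 37450 = n61507 := ndS (p := 19011) (l := 6) rfl N19011 D61507
theorem N37451 : nd 37451 = n61508 := ndS (p := 19012) (l := 3) rfl N19012 D61508
theorem N37452 : nd 37452 = n61509 := ndS (p := 19012) (l := 6) rfl N19012 D61509
theorem N37453 : nd 37453 = n61510 := ndS (p := 19013) (l := 1) rfl N19013 D61510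
theorem N37454 : nd 37454 = n61511 := ndS (p := 19013) (l := 7) rfl N19013 D61511
theorem N37455 : nd 37455 = n61512 := ndS (p := 19014) (l := 0) rfl N19014 D61512
theorem N37456 : nd 37456 = n61513 := ndS (p := 19014) (l := 1) rfl N19014 D61513
theorem N37457 : nd 37457 = n61514 := ndS (p := 19014) (l := 4) rfl N19014 D61514
theorem N37458 : nd 37458 = n61515 := ndS (p := 19014) (l := 6) rfl N19014 D61515
theorem N37459 : nd 37459 = n61516 := ndS (p := 19016) (l := 4) rfl N19016 D61516
theorem N37460 : nd 37460 = n61517 := ndS (p := 19016) (l := 6) rfl N19016 D61517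
theorem N37461 : nd 37461 = n61518 := ndS (p := 19017) (l := 4) rfl N19017 D61518
theorem N37462 : nd 37462 = n61519 := ndS (p := 19017) (l := 6) rfl N19017 D61519
theorem N37463 : nd 37463 = n61520 := ndS (p := 19018) (l := 0) rfl N19018 D61520
theorem N37464 : nd 37464 = n61521 := ndS (p := 19018) (l := 1) rfl N19018 D61521
theorem N37465 : nd 37465 = n61522 := ndS (p := 19018) (l := 3) rfl N19018 D61522
theorem N37466 : nd 37466 = n61523 := ndS (p := 19018) (l := 6) rfl N19018 D61523
theorem N37467 : nd 37467 = n61524 := ndS (p := 19019) (l := 0) rfl N19019 D61524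
theorem N37468 : nd 37468 = n61526 := ndS (p := 19019) (l := 7) rfl N19019 D61526
theorem N37469 : nd 37469 = n61527 := ndS (p := 19020) (l := 4) rfl N19020 D61527
theorem N37470 : nd 37470 = n61531 := ndS (p := 19021) (l := 5) rfl N19021 D61531
theorem N37471 : nd 37471 = n61532 := ndS (p := 19021) (l := 6) rfl N19021 D61532
theorem N37472 : nd 37472 = n61533 := ndS (p := 19022) (l := 0) rfl N19022 D61533
theorem N37473 : nd 37473 = n61534 := ndS (p := 19022) (l := 1) rfl N19022 D61534
theorem N37474 : nd 37474 = n61535 := ndS (p := 19022) (l := 7) rfl N19022 D61535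
theorem N37475 : nd 37475 = n61536 := ndS (p := 19023) (l := 4) rfl N19023 D61536
theorem N37476 : nd 37476 = n61538 := ndS (p := 19024) (l := 1) rfl N19024 D61538
theorem N37477 : nd 37477 = n61539 := ndS (p := 19024) (l := 7) rfl N19024 D61539
theorem N37478 : nd 37478 = n61540 := ndS (p := 19025) (l := 2) rfl N19025 D61540
theorem N37479 : nd 37479 = n61541 := ndS (p := 19025) (l := 4) rfl N19025 D61541
theorem N37480 : nd 37480 = n61542 := ndS (p := 19025) (l := 6) rfl N19025 D61542
theorem N37481 : nd 37481 = n61543 := ndS (p := 19026) (l := 1) rfl N19026 D61543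
theorem N37482 : nd 37482 = n61544 := ndS (p := 19026) (l := 7) rfl N19026 D61544
theorem N37483 : nd 37483 = n61546 := ndS (p := 19027) (l := 3) rfl N19027 D61546
theorem N37484 : nd 37484 = n61549 := ndS (p := 19027) (l := 6) rfl N19027 D61549
theorem N37485 : nd 37485 = n61571 := ndS (p := 19032) (l := 3) rfl N19032 D61571
theorem N37486 : nd 37486 = n61572 := ndS (p := 19032) (l := 4) rfl N19032 D61572
theorem N37487 : nd 37487 = n61575 := ndS (p := 19033) (l := 3) rfl N19033 D61575
theorem N37488 : nd 37488 = n61577 := ndS (p := 19034) (l := 0) rfl N19034 D61577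
theorem N37489 : nd 37489 = n61578 := ndS (p := 19034) (l := 1) rfl N19034 D61578
theorem N37490 : nd 37490 = n61579 := ndS (p := 19034) (l := 4) rfl N19034 D61579
theorem N37491 : nd 37491 = n61580 := ndS (p := 19034) (l := 7) rfl N19034 D61580
theorem N37492 : nd 37492 = n61582 := ndS (p := 19037) (l := 3) rfl N19037 D61582
theorem N37493 : nd 37493 = n61583 := ndS (p := 19037) (l := 4) rfl N19037 D61583
theorem N37494 : nd 37494 = n61584 := ndS (p := 19037) (l := 6) rfl N19037 D61584
theorem N37495 : nd 37495 = n61586 := ndS (p := 19038) (l := 6) rfl N19038 D61586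
theorem N37496 : nd 37496 = n61587 := ndS (p := 19039) (l := 0) rfl N19039 D61587
theorem N37497 : nd 37497 = n61590 := ndS (p := 19039) (l := 6) rfl N19039 D61590
theorem N37498 : nd 37498 = n61591 := ndS (p := 19040) (l := 0) rfl N19040 D61591
theorem N37499 : nd 37499 = n61592 := ndS (p := 19040) (l := 1) rfl N19040 D61592
theorem N37500 : nd 37500 = n61593 := ndS (p := 19040) (l := 7) rfl N19040 D61593
theorem N37501 : nd 37501 = n61594 := ndS (p := 19041) (l := 0) rfl N19041 D61594
theorem N37502 : nd 37502 = n61595 := ndS (p := 19041) (l := 1) rfl N19041 D61595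
theorem N37503 : nd 37503 = n61597 := ndS (p := 19042) (l := 4) rfl N19042 D61597
theorem N37504 : nd 37504 = n61598 := ndS (p := 19042) (l := 6) rfl N19042 D61598
theorem N37505 : nd 37505 = n61599 := ndS (p := 19043) (l := 1) rfl N19043 D61599
theorem N37506 : nd 37506 = n61600 := ndS (p := 19043) (l := 7) rfl N19043 D61600
theorem N37507 : nd 37507 = n61602 := ndS (p := 19044) (l := 3) rfl N19044 D61602
theorem N37508 : nd 37508 = n61605 := ndS (p := 19044) (l := 6) rfl N19044 D61605
theorem N37509 : nd 37509 = n61611 := ndS (p := 19046) (l := 5) rfl N19046 D61611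
theorem N37510 : nd 37510 = n61612 := ndS (p := 19047) (l := 5) rfl N19047 D61612
theorem N37511 : nd 37511 = n61613 := ndS (p := 19048) (l := 4) rfl N19048 D61613
theorem N37512 : nd 37512 = n61614 := ndS (p := 19048) (l := 6) rfl N19048 D61614
theorem N37513 : nd 37513 = n61615 := ndS (p := 19049) (l := 5) rfl N19049 D61615
theorem N37514 : nd 37514 = n61616 := ndS (p := 19050) (l := 4) rfl N19050 D61616
theorem N37515 : nd 37515 = n61618 := ndS (p := 19052) (l := 5) rfl N19052 D61618
theorem N37516 : nd 37516 = n61619 := ndS (p := 19053) (l := 1) rfl N19053 D61619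
theorem N37517 : nd 37517 = n61620 := ndS (p := 19053) (l := 4) rfl N19053 D61620
theorem N37518 : nd 37518 = n61621 := ndS (p := 19053) (l := 6) rfl N19053 D61621
theorem N37519 : nd 37519 = n61624 := ndS (p := 19055) (l := 3) rfl N19055 D61624
theorem N37520 : nd 37520 = n61625 := ndS (p := 19055) (l := 4) rfl N19055 D61625
theorem N37521 : nd 37521 = n61627 := ndS (p := 19056) (l := 1) rfl N19056 D61627
theorem N37522 : nd 37522 = n61628 := ndS (p := 19056) (l := 5) rfl N19056 D61628
theorem N37523 : nd 37523 = n61632 := ndS (p := 19057) (l := 5) rfl N19057 D61632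
theorem N37524 : nd 37524 = n61634 := ndS (p := 19058) (l := 4) rfl N19058 D61634
theorem N37525 : nd 37525 = n61635 := ndS (p := 19059) (l := 4) rfl N19059 D61635
theorem N37526 : nd 37526 = n61636 := ndS (p := 19060) (l := 3) rfl N19060 D61636
theorem N37527 : nd 37527 = n61639 := ndS (p := 19060) (l := 6) rfl N19060 D61639
theorem N37528 : nd 37528 = n61640 := ndS (p := 19061) (l := 3) rfl N19061 D61640
theorem N37529 : nd 37529 = n61642 := ndS (p := 19062) (l := 0) rfl N19062 D61642
theorem N37530 : nd 37530 = n61645 := ndS (p := 19062) (l := 7) rfl N19062 D61645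
theorem N37531 : nd 37531 = n61647 := ndS (p := 19064) (l := 4) rfl N19064 D61647
theorem N37532 : nd 37532 = n61648 := ndS (p := 19064) (l := 6) rfl N19064 D61648
theorem N37533 : nd 37533 = n61649 := ndS (p := 19065) (l := 5) rfl N19065 D61649
theorem N37534 : nd 37534 = n61650 := ndS (p := 19065) (l := 6) rfl N19065 D61650
theorem N37535 : nd 37535 = n61651 := ndS (p := 19066) (l := 5) rfl N19066 D61651
theorem N37536 : nd 37536 = n61653 := ndS (p := 19067) (l := 4) rfl N19067 D61653
theorem N37537 : nd 37537 = n61654 := ndS (p := 19067) (l := 6) rfl N19067 D61654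
theorem N37538 : nd 37538 = n61655 := ndS (p := 19067) (l := 7) rfl N19067 D61655
theorem N37539 : nd 37539 = n61656 := ndS (p := 19068) (l := 5) rfl N19068 D61656
theorem N37540 : nd 37540 = n61657 := ndS (p := 19071) (l := 0) rfl N19071 D61657
theorem N37541 : nd 37541 = n61658 := ndS (p := 19071) (l := 4) rfl N19071 D61658
theorem N37542 : nd 37542 = n61659 := ndS (p := 19071) (l := 6) rfl N19071 D61659
theorem N37543 : nd 37543 = n61660 := ndS (p := 19071) (l := 7) rfl N19071 D61660
theorem N37544 : nd 37544 = n61662 := ndS (p := 19074) (l := 1) rfl N19074 D61662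
theorem N37545 : nd 37545 = n61663 := ndS (p := 19074) (l := 3) rfl N19074 D61663
theorem N37546 : nd 37546 = n61664 := ndS (p := 19074) (l := 5) rfl N19074 D61664
theorem N37547 : nd 37547 = n61665 := ndS (p := 19074) (l := 6) rfl N19074 D61665
theorem N37548 : nd 37548 = n61666 := ndS (p := 19074) (l := 7) rfl N19074 D61666
theorem N37549 : nd 37549 = n61667 := ndS (p := 19075) (l := 0) rfl N19075 D61667
theorem N37550 : nd 37550 = n61669 := ndS (p := 19075) (l := 5) rfl N19075 D61669
theorem N37551 : nd 37551 = n61670 := ndS (p := 19075) (l := 7) rfl N19075 D61670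
theorem N37552 : nd 37552 = n61671 := ndS (p := 19076) (l := 6) rfl N19076 D61671
theorem N37553 : nd 37553 = n61672 := ndS (p := 19077) (l := 4) rfl N19077 D61672
theorem N37554 : nd 37554 = n61673 := ndS (p := 19078) (l := 5) rfl N19078 D61673
theorem N37555 : nd 37555 = n61674 := ndS (p := 19079) (l := 4) rfl N19079 D61674
theorem N37556 : nd 37556 = n61675 := ndS (p := 19079) (l := 6) rfl N19079 D61675
theorem N37557 : nd 37557 = n61676 := ndS (p := 19080) (l := 4) rfl N19080 D61676
theorem N37558 : nd 37558 = n61677 := ndS (p := 19080) (l := 6) rfl N19080 D61677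
theorem N37559 : nd 37559 = n61678 := ndS (p := 19081) (l := 3) rfl N19081 D61678
theorem N37560 : nd 37560 = n61680 := ndS (p := 19081) (l := 6) rfl N19081 D61680
theorem N37561 : nd 37561 = n61682 := ndS (p := 19082) (l := 1) rfl N19082 D61682
theorem N37562 : nd 37562 = n61683 := ndS (p := 19082) (l := 7) rfl N19082 D61683
theorem N37563 : nd 37563 = n61684 := ndS (p := 19083) (l := 4) rfl N19083 D61684
theorem N37564 : nd 37564 = n61685 := ndS (p := 19083) (l := 6) rfl N19083 D61685
theorem N37565 : nd 37565 = n61686 := ndS (p := 19084) (l := 0) rfl N19084 D61686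
theorem N37566 : nd 37566 = n61687 := ndS (p := 19084) (l := 1) rfl N19084 D61687
theorem N37567 : nd 37567 = n61688 := ndS (p := 19084) (l := 3) rfl N19084 D61688
theorem N37568 : nd 37568 = n61689 := ndS (p := 19084) (l := 5) rfl N19084 D61689
theorem N37569 : nd 37569 = n61690 := ndS (p := 19084) (l := 6) rfl N19084 D61690
theorem N37570 : nd 37570 = n61691 := ndS (p := 19085) (l := 0) rfl N19085 D61691
theorem N37571 : nd 37571 = n61692 := ndS (p := 19085) (l := 1) rfl N19085 D61692
theorem N37572 : nd 37572 = n61693 := ndS (p := 19085) (l := 7) rfl N19085 D61693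
theorem N37573 : nd 37573 = n61696 := ndS (p := 19086) (l := 2) rfl N19086 D61696
theorem N37574 : nd 37574 = n61697 := ndS (p := 19086) (l := 4) rfl N19086 D61697
theorem N37575 : nd 37575 = n61698 := ndS (p := 19086) (l := 6) rfl N19086 D61698
theorem N37576 : nd 37576 = n61699 := ndS (p := 19087) (l := 0) rfl N19087 D61699
theorem N37577 : nd 37577 = n61700 := ndS (p := 19087) (l := 1) rfl N19087 D61700
theorem N37578 : nd 37578 = n61701 := ndS (p := 19087) (l := 3) rfl N19087 D61701
theorem N37579 : nd 37579 = n61702 := ndS (p := 19087) (l := 5) rfl N19087 D61702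
theorem N37580 : nd 37580 = n61703 := ndS (p := 19087) (l := 6) rfl N19087 D61703
theorem N37581 : nd 37581 = n61704 := ndS (p := 19088) (l := 0) rfl N19088 D61704
theorem N37582 : nd 37582 = n61705 := ndS (p := 19088) (l := 1) rfl N19088 D61705
theorem N37583 : nd 37583 = n61706 := ndS (p := 19088) (l := 7) rfl N19088 D61706
theorem N37584 : nd 37584 = n61707 := ndS (p := 19089) (l := 4) rfl N19089 D61707
theorem N37585 : nd 37585 = n61708 := ndS (p := 19089) (l := 6) rfl N19089 D61708
theorem N37586 : nd 37586 = n61710 := ndS (p := 19090) (l := 5) rfl N19090 D61710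
theorem N37587 : nd 37587 = n61711 := ndS (p := 19090) (l := 6) rfl N19090 D61711
theorem N37588 : nd 37588 = n61712 := ndS (p := 19091) (l := 0) rfl N19091 D61712
theorem N37589 : nd 37589 = n61714 := ndS (p := 19091) (l := 7) rfl N19091 D61714
theorem N37590 : nd 37590 = n61715 := ndS (p := 19092) (l := 3) rfl N19092 D61715
theorem N37591 : nd 37591 = n61716 := ndS (p := 19092) (l := 4) rfl N19092 D61716
theorem N37592 : nd 37592 = n61717 := ndS (p := 19092) (l := 5) rfl N19092 D61717
theorem N37593 : nd 37593 = n61718 := ndS (p := 19092) (l := 6) rfl N19092 D61718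
theorem N37594 : nd 37594 = n61719 := ndS (p := 19093) (l := 3) rfl N19093 D61719
theorem N37595 : nd 37595 = n61720 := ndS (p := 19093) (l := 5) rfl N19093 D61720
theorem N37596 : nd 37596 = n61721 := ndS (p := 19093) (l := 6) rfl N19093 D61721
theorem N37597 : nd 37597 = n61722 := ndS (p := 19094) (l := 0) rfl N19094 D61722
theorem N37598 : nd 37598 = n61723 := ndS (p := 19094) (l := 1) rfl N19094 D61723
theorem N37599 : nd 37599 = n61724 := ndS (p := 19094) (l := 2) rfl N19094 D61724
theorem N37600 : nd 37600 = n61725 := ndS (p := 19094) (l := 5) rfl N19094 D61725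
theorem N37601 : nd 37601 = n61727 := ndS (p := 19095) (l := 0) rfl N19095 D61727
theorem N37602 : nd 37602 = n61728 := ndS (p := 19095) (l := 1) rfl N19095 D61728
theorem N37603 : nd 37603 = n61729 := ndS (p := 19095) (l := 4) rfl N19095 D61729
theorem N37604 : nd 37604 = n61730 := ndS (p := 19095) (l := 6) rfl N19095 D61730
theorem N37605 : nd 37605 = n61731 := ndS (p := 19095) (l := 7) rfl N19095 D61731
theorem N37606 : nd 37606 = n61732 := ndS (p := 19096) (l := 0) rfl N19096 D61732
theorem N37607 : nd 37607 = n61733 := ndS (p := 19096) (l := 1) rfl N19096 D61733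
theorem N37608 : nd 37608 = n61734 := ndS (p := 19096) (l := 5) rfl N19096 D61734
theorem N37609 : nd 37609 = n61735 := ndS (p := 19096) (l := 7) rfl N19096 D61735
theorem N37610 : nd 37610 = n61736 := ndS (p := 19097) (l := 6) rfl N19097 D61736
theorem N37611 : nd 37611 = n61738 := ndS (p := 19098) (l := 3) rfl N19098 D61738
theorem N37612 : nd 37612 = n61741 := ndS (p := 19098) (l := 6) rfl N19098 D61741
theorem N37613 : nd 37613 = n61746 := ndS (p := 19099) (l := 6) rfl N19099 D61746
theorem N37614 : nd 37614 = n61747 := ndS (p := 19100) (l := 6) rfl N19100 D61747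
theorem N37615 : nd 37615 = n61748 := ndS (p := 19101) (l := 0) rfl N19101 D61748
theorem N37616 : nd 37616 = n61749 := ndS (p := 19101) (l := 1) rfl N19101 D61749
theorem N37617 : nd 37617 = n61751 := ndS (p := 19102) (l := 6) rfl N19102 D61751
theorem N37618 : nd 37618 = n61752 := ndS (p := 19103) (l := 0) rfl N19103 D61752
theorem N37619 : nd 37619 = n61753 := ndS (p := 19103) (l := 1) rfl N19103 D61753
theorem N37620 : nd 37620 = n61754 := ndS (p := 19103) (l := 7) rfl N19103 D61754
theorem N37621 : nd 37621 = n61758 := ndS (p := 19104) (l := 5) rfl N19104 D61758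
theorem N37622 : nd 37622 = n61759 := ndS (p := 19104) (l := 6) rfl N19104 D61759
theorem N37623 : nd 37623 = n61763 := ndS (p := 19105) (l := 5) rfl N19105 D61763
theorem N37624 : nd 37624 = n61764 := ndS (p := 19105) (l := 6) rfl N19105 D61764
theorem N37625 : nd 37625 = n61765 := ndS (p := 19107) (l := 4) rfl N19107 D61765
theorem N37626 : nd 37626 = n61766 := ndS (p := 19107) (l := 6) rfl N19107 D61766
theorem N37627 : nd 37627 = n61767 := ndS (p := 19108) (l := 1) rfl N19108 D61767
theorem N37628 : nd 37628 = n61768 := ndS (p := 19108) (l := 5) rfl N19108 D61768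
theorem N37629 : nd 37629 = n61769 := ndS (p := 19108) (l := 6) rfl N19108 D61769
theorem N37630 : nd 37630 = n61770 := ndS (p := 19109) (l := 0) rfl N19109 D61770
theorem N37631 : nd 37631 = n61771 := ndS (p := 19109) (l := 1) rfl N19109 D61771
theorem N37632 : nd 37632 = n61772 := ndS (p := 19109) (l := 7) rfl N19109 D61772
theorem N37633 : nd 37633 = n61776 := ndS (p := 19110) (l := 5) rfl N19110 D61776
theorem N37634 : nd 37634 = n61777 := ndS (p := 19110) (l := 6) rfl N19110 D61777
theorem N37635 : nd 37635 = n61784 := ndS (p := 19113) (l := 3) rfl N19113 D61784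
theorem N37636 : nd 37636 = n61785 := ndS (p := 19113) (l := 4) rfl N19113 D61785
theorem N37637 : nd 37637 = n61787 := ndS (p := 19113) (l := 6) rfl N19113 D61787
theorem N37638 : nd 37638 = n61789 := ndS (p := 19114) (l := 3) rfl N19114 D61789
theorem N37639 : nd 37639 = n61790 := ndS (p := 19114) (l := 4) rfl N19114 D61790
theorem N37640 : nd 37640 = n61792 := ndS (p := 19114) (l := 6) rfl N19114 D61792
theorem N37641 : nd 37641 = n61793 := ndS (p := 19115) (l := 6) rfl N19115 D61793
theorem N37642 : nd 37642 = n61794 := ndS (p := 19116) (l := 0) rfl N19116 D61794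
theorem N37643 : nd 37643 = n61795 := ndS (p := 19116) (l := 1) rfl N19116 D61795
theorem N37644 : nd 37644 = n61810 := ndS (p := 19117) (l := 6) rfl N19117 D61810
theorem N37645 : nd 37645 = n61814 := ndS (p := 19118) (l := 1) rfl N19118 D61814
theorem N37646 : nd 37646 = n61815 := ndS (p := 19118) (l := 7) rfl N19118 D61815
theorem N37647 : nd 37647 = n61820 := ndS (p := 19119) (l := 6) rfl N19119 D61820
theorem N37648 : nd 37648 = n61824 := ndS (p := 19120) (l := 0) rfl N19120 D61824
theorem N37649 : nd 37649 = n61828 := ndS (p := 19122) (l := 3) rfl N19122 D61828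
theorem N37650 : nd 37650 = n61831 := ndS (p := 19122) (l := 6) rfl N19122 D61831
theorem N37651 : nd 37651 = n61833 := ndS (p := 19123) (l := 3) rfl N19123 D61833
theorem N37652 : nd 37652 = n61836 := ndS (p := 19123) (l := 6) rfl N19123 D61836
theorem N37653 : nd 37653 = n61837 := ndS (p := 19124) (l := 6) rfl N19124 D61837
theorem N37654 : nd 37654 = n61838 := ndS (p := 19125) (l := 6) rfl N19125 D61838
theorem N37655 : nd 37655 = n61839 := ndS (p := 19126) (l := 3) rfl N19126 D61839
theorem N37656 : nd 37656 = n61840 := ndS (p := 19126) (l := 5) rfl N19126 D61840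
theorem N37657 : nd 37657 = n61841 := ndS (p := 19126) (l := 6) rfl N19126 D61841
theorem N37658 : nd 37658 = n61842 := ndS (p := 19127) (l := 0) rfl N19127 D61842
theorem N37659 : nd 37659 = n61843 := ndS (p := 19127) (l := 1) rfl N19127 D61843
theorem N37660 : nd 37660 = n61844 := ndS (p := 19127) (l := 7) rfl N19127 D61844
theorem N37661 : nd 37661 = n61845 := ndS (p := 19128) (l := 3) rfl N19128 D61845
theorem N37662 : nd 37662 = n61846 := ndS (p := 19128) (l := 5) rfl N19128 D61846
theorem N37663 : nd 37663 = n61847 := ndS (p := 19128) (l := 6) rfl N19128 D61847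
theorem N37664 : nd 37664 = n61848 := ndS (p := 19129) (l := 0) rfl N19129 D61848
theorem N37665 : nd 37665 = n61849 := ndS (p := 19129) (l := 1) rfl N19129 D61849
theorem N37666 : nd 37666 = n61850 := ndS (p := 19129) (l := 7) rfl N19129 D61850
theorem N37667 : nd 37667 = n61851 := ndS (p := 19130) (l := 3) rfl N19130 D61851
theorem N37668 : nd 37668 = n61852 := ndS (p := 19130) (l := 5) rfl N19130 D61852
theorem N37669 : nd 37669 = n61853 := ndS (p := 19131) (l := 3) rfl N19131 D61853
theorem N37670 : nd 37670 = n61854 := ndS (p := 19131) (l := 5) rfl N19131 D61854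
theorem N37671 : nd 37671 = n61855 := ndS (p := 19131) (l := 6) rfl N19131 D61855
theorem N37672 : nd 37672 = n61856 := ndS (p := 19132) (l := 3) rfl N19132 D61856
theorem N37673 : nd 37673 = n61857 := ndS (p := 19132) (l := 5) rfl N19132 D61857
theorem N37674 : nd 37674 = n61858 := ndS (p := 19132) (l := 6) rfl N19132 D61858
theorem N37675 : nd 37675 = n61859 := ndS (p := 19133) (l := 0) rfl N19133 D61859
theorem N37676 : nd 37676 = n61860 := ndS (p := 19133) (l := 1) rfl N19133 D61860
theorem N37677 : nd 37677 = n61861 := ndS (p := 19133) (l := 2) rfl N19133 D61861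
theorem N37678 : nd 37678 = n61862 := ndS (p := 19133) (l := 5) rfl N19133 D61862
theorem N37679 : nd 37679 = n61863 := ndS (p := 19133) (l := 6) rfl N19133 D61863
theorem N37680 : nd 37680 = n61864 := ndS (p := 19134) (l := 6) rfl N19134 D61864
theorem N37681 : nd 37681 = n61865 := ndS (p := 19135) (l := 0) rfl N19135 D61865
theorem N37682 : nd 37682 = n61866 := ndS (p := 19135) (l := 1) rfl N19135 D61866
theorem N37683 : nd 37683 = n61867 := ndS (p := 19135) (l := 5) rfl N19135 D61867
theorem N37684 : nd 37684 = n61868 := ndS (p := 19135) (l := 7) rfl N19135 D61868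
theorem N37685 : nd 37685 = n61871 := ndS (p := 19136) (l := 4) rfl N19136 D61871
theorem N37686 : nd 37686 = n61874 := ndS (p := 19137) (l := 4) rfl N19137 D61874
theorem N37687 : nd 37687 = n61875 := ndS (p := 19137) (l := 6) rfl N19137 D61875
theorem N37688 : nd 37688 = n61877 := ndS (p := 19140) (l := 6) rfl N19140 D61877
theorem N37689 : nd 37689 = n61879 := ndS (p := 19141) (l := 6) rfl N19141 D61879
theorem N37690 : nd 37690 = n61880 := ndS (p := 19142) (l := 0) rfl N19142 D61880
theorem N37691 : nd 37691 = n61881 := ndS (p := 19142) (l := 5) rfl N19142 D61881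
theorem N37692 : nd 37692 = n61882 := ndS (p := 19142) (l := 7) rfl N19142 D61882
theorem N37693 : nd 37693 = n61884 := ndS (p := 19144) (l := 1) rfl N19144 D61884
theorem N37694 : nd 37694 = n61885 := ndS (p := 19144) (l := 2) rfl N19144 D61885
theorem N37695 : nd 37695 = n61886 := ndS (p := 19144) (l := 5) rfl N19144 D61886
theorem N37696 : nd 37696 = n61887 := ndS (p := 19144) (l := 6) rfl N19144 D61887
theorem N37697 : nd 37697 = n61888 := ndS (p := 19145) (l := 6) rfl N19145 D61888
theorem N37698 : nd 37698 = n61889 := ndS (p := 19146) (l := 0) rfl N19146 D61889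
theorem N37699 : nd 37699 = n61890 := ndS (p := 19146) (l := 1) rfl N19146 D61890
theorem N37700 : nd 37700 = n61891 := ndS (p := 19146) (l := 5) rfl N19146 D61891
theorem N37701 : nd 37701 = n61892 := ndS (p := 19146) (l := 7) rfl N19146 D61892
theorem N37702 : nd 37702 = n61893 := ndS (p := 19147) (l := 4) rfl N19147 D61893
theorem N37703 : nd 37703 = n61894 := ndS (p := 19147) (l := 6) rfl N19147 D61894
theorem N37704 : nd 37704 = n61895 := ndS (p := 19148) (l := 4) rfl N19148 D61895
theorem N37705 : nd 37705 = n61896 := ndS (p := 19149) (l := 0) rfl N19149 D61896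
theorem N37706 : nd 37706 = n61897 := ndS (p := 19149) (l := 1) rfl N19149 D61897
theorem N37707 : nd 37707 = n61898 := ndS (p := 19149) (l := 4) rfl N19149 D61898
theorem N37708 : nd 37708 = n61899 := ndS (p := 19149) (l := 7) rfl N19149 D61899
theorem N37709 : nd 37709 = n61900 := ndS (p := 19151) (l := 3) rfl N19151 D61900
theorem N37710 : nd 37710 = n61901 := ndS (p := 19152) (l := 3) rfl N19152 D61901
theorem N37711 : nd 37711 = n61902 := ndS (p := 19152) (l := 5) rfl N19152 D61902
theorem N37712 : nd 37712 = n61903 := ndS (p := 19152) (l := 6) rfl N19152 D61903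
theorem N37713 : nd 37713 = n61904 := ndS (p := 19153) (l := 0) rfl N19153 D61904
theorem N37714 : nd 37714 = n61905 := ndS (p := 19153) (l := 1) rfl N19153 D61905
theorem N37715 : nd 37715 = n61906 := ndS (p := 19153) (l := 7) rfl N19153 D61906
theorem N37716 : nd 37716 = n61907 := ndS (p := 19154) (l := 0) rfl N19154 D61907
theorem N37717 : nd 37717 = n61908 := ndS (p := 19154) (l := 1) rfl N19154 D61908
theorem N37718 : nd 37718 = n61909 := ndS (p := 19154) (l := 2) rfl N19154 D61909
theorem N37719 : nd 37719 = n61910 := ndS (p := 19154) (l := 5) rfl N19154 D61910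
theorem N37720 : nd 37720 = n61911 := ndS (p := 19154) (l := 6) rfl N19154 D61911
theorem N37721 : nd 37721 = n61912 := ndS (p := 19155) (l := 0) rfl N19155 D61912
theorem N37722 : nd 37722 = n61913 := ndS (p := 19155) (l := 1) rfl N19155 D61913
theorem N37723 : nd 37723 = n61914 := ndS (p := 19155) (l := 6) rfl N19155 D61914
theorem N37724 : nd 37724 = n61915 := ndS (p := 19156) (l := 0) rfl N19156 D61915
theorem N37725 : nd 37725 = n61916 := ndS (p := 19156) (l := 1) rfl N19156 D61916
theorem N37726 : nd 37726 = n61917 := ndS (p := 19156) (l := 5) rfl N19156 D61917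
theorem N37727 : nd 37727 = n61918 := ndS (p := 19156) (l := 7) rfl N19156 D61918
theorem N37728 : nd 37728 = n61921 := ndS (p := 19157) (l := 4) rfl N19157 D61921
theorem N37729 : nd 37729 = n61922 := ndS (p := 19157) (l := 5) rfl N19157 D61922
theorem N37730 : nd 37730 = n61925 := ndS (p := 19158) (l := 4) rfl N19158 D61925
theorem N37731 : nd 37731 = n61927 := ndS (p := 19158) (l := 6) rfl N19158 D61927
theorem N37732 : nd 37732 = n61928 := ndS (p := 19160) (l := 0) rfl N19160 D61928
theorem N37733 : nd 37733 = n61929 := ndS (p := 19160) (l := 1) rfl N19160 D61929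
theorem N37734 : nd 37734 = n61930 := ndS (p := 19160) (l := 7) rfl N19160 D61930
theorem N37735 : nd 37735 = n61931 := ndS (p := 19161) (l := 0) rfl N19161 D61931
theorem N37736 : nd 37736 = n61932 := ndS (p := 19161) (l := 1) rfl N19161 D61932
theorem N37737 : nd 37737 = n61933 := ndS (p := 19161) (l := 2) rfl N19161 D61933
theorem N37738 : nd 37738 = n61934 := ndS (p := 19161) (l := 5) rfl N19161 D61934
theorem N37739 : nd 37739 = n61935 := ndS (p := 19161) (l := 6) rfl N19161 D61935
theorem N37740 : nd 37740 = n61936 := ndS (p := 19162) (l := 6) rfl N19162 D61936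
theorem N37741 : nd 37741 = n61938 := ndS (p := 19163) (l := 1) rfl N19163 D61938
theorem N37742 : nd 37742 = n61940 := ndS (p := 19163) (l := 7) rfl N19163 D61940
theorem N37743 : nd 37743 = n61943 := ndS (p := 19164) (l := 4) rfl N19164 D61943
theorem N37744 : nd 37744 = n61944 := ndS (p := 19164) (l := 6) rfl N19164 D61944
theorem N37745 : nd 37745 = n61947 := ndS (p := 19165) (l := 4) rfl N19165 D61947
theorem N37746 : nd 37746 = n61948 := ndS (p := 19167) (l := 0) rfl N19167 D61948
theorem N37747 : nd 37747 = n61949 := ndS (p := 19167) (l := 1) rfl N19167 D61949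
theorem N37748 : nd 37748 = n61950 := ndS (p := 19167) (l := 2) rfl N19167 D61950
theorem N37749 : nd 37749 = n61952 := ndS (p := 19167) (l := 6) rfl N19167 D61952
theorem N37750 : nd 37750 = n61953 := ndS (p := 19168) (l := 0) rfl N19168 D61953
theorem N37751 : nd 37751 = n61957 := ndS (p := 19169) (l := 5) rfl N19169 D61957
theorem N37752 : nd 37752 = n61958 := ndS (p := 19169) (l := 7) rfl N19169 D61958
theorem N37753 : nd 37753 = n61959 := ndS (p := 19170) (l := 0) rfl N19170 D61959
theorem N37754 : nd 37754 = n61960 := ndS (p := 19170) (l := 1) rfl N19170 D61960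
theorem N37755 : nd 37755 = n61961 := ndS (p := 19170) (l := 2) rfl N19170 D61961
theorem N37756 : nd 37756 = n61962 := ndS (p := 19170) (l := 5) rfl N19170 D61962
theorem N37757 : nd 37757 = n61963 := ndS (p := 19170) (l := 6) rfl N19170 D61963
theorem N37758 : nd 37758 = n61964 := ndS (p := 19171) (l := 6) rfl N19171 D61964
theorem N37759 : nd 37759 = n61968 := ndS (p := 19172) (l := 7) rfl N19172 D61968
theorem N37760 : nd 37760 = n61969 := ndS (p := 19173) (l := 0) rfl N19173 D61969
theorem N37761 : nd 37761 = n61970 := ndS (p := 19173) (l := 2) rfl N19173 D61970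
theorem N37762 : nd 37762 = n61971 := ndS (p := 19173) (l := 3) rfl N19173 D61971
theorem N37763 : nd 37763 = n61972 := ndS (p := 19173) (l := 4) rfl N19173 D61972
theorem N37764 : nd 37764 = n61973 := ndS (p := 19173) (l := 5) rfl N19173 D61973
theorem N37765 : nd 37765 = n61974 := ndS (p := 19173) (l := 6) rfl N19173 D61974
theorem N37766 : nd 37766 = n61975 := ndS (p := 19173) (l := 7) rfl N19173 D61975
theorem N37767 : nd 37767 = n61976 := ndS (p := 19174) (l := 3) rfl N19174 D61976
theorem N37768 : nd 37768 = n61977 := ndS (p := 19174) (l := 4) rfl N19174 D61977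
theorem N37769 : nd 37769 = n61978 := ndS (p := 19174) (l := 5) rfl N19174 D61978
theorem N37770 : nd 37770 = n61979 := ndS (p := 19174) (l := 6) rfl N19174 D61979
theorem N37771 : nd 37771 = n61982 := ndS (p := 19175) (l := 5) rfl N19175 D61982
theorem N37772 : nd 37772 = n61983 := ndS (p := 19176) (l := 0) rfl N19176 D61983
theorem N37773 : nd 37773 = n61984 := ndS (p := 19176) (l := 1) rfl N19176 D61984
theorem N37774 : nd 37774 = n61985 := ndS (p := 19176) (l := 4) rfl N19176 D61985
theorem N37775 : nd 37775 = n61986 := ndS (p := 19176) (l := 6) rfl N19176 D61986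
theorem N37776 : nd 37776 = n61987 := ndS (p := 19177) (l := 6) rfl N19177 D61987
theorem N37777 : nd 37777 = n61988 := ndS (p := 19178) (l := 3) rfl N19178 D61988
theorem N37778 : nd 37778 = n61989 := ndS (p := 19178) (l := 6) rfl N19178 D61989
theorem N37779 : nd 37779 = n61990 := ndS (p := 19179) (l := 3) rfl N19179 D61990
theorem N37780 : nd 37780 = n61991 := ndS (p := 19179) (l := 6) rfl N19179 D61991
theorem N37781 : nd 37781 = n61992 := ndS (p := 19180) (l := 0) rfl N19180 D61992
theorem N37782 : nd 37782 = n61993 := ndS (p := 19180) (l := 1) rfl N19180 D61993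
theorem N37783 : nd 37783 = n61994 := ndS (p := 19180) (l := 7) rfl N19180 D61994
theorem N37784 : nd 37784 = n61995 := ndS (p := 19181) (l := 0) rfl N19181 D61995
theorem N37785 : nd 37785 = n61996 := ndS (p := 19181) (l := 1) rfl N19181 D61996
theorem N37786 : nd 37786 = n61997 := ndS (p := 19181) (l := 5) rfl N19181 D61997
theorem N37787 : nd 37787 = n61999 := ndS (p := 19182) (l := 3) rfl N19182 D61999
theorem N37788 : nd 37788 = n62000 := ndS (p := 19182) (l := 4) rfl N19182 D62000
theorem N37789 : nd 37789 = n62001 := ndS (p := 19182) (l := 5) rfl N19182 D62001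
theorem N37790 : nd 37790 = n62003 := ndS (p := 19183) (l := 3) rfl N19183 D62003
theorem N37791 : nd 37791 = n62004 := ndS (p := 19183) (l := 4) rfl N19183 D62004
theorem N37792 : nd 37792 = n62005 := ndS (p := 19183) (l := 5) rfl N19183 D62005
theorem N37793 : nd 37793 = n62006 := ndS (p := 19183) (l := 6) rfl N19183 D62006
theorem N37794 : nd 37794 = n62007 := ndS (p := 19184) (l := 6) rfl N19184 D62007
theorem N37795 : nd 37795 = n62008 := ndS (p := 19185) (l := 3) rfl N19185 D62008
theorem N37796 : nd 37796 = n62009 := ndS (p := 19185) (l := 5) rfl N19185 D62009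
theorem N37797 : nd 37797 = n62010 := ndS (p := 19185) (l := 6) rfl N19185 D62010
theorem N37798 : nd 37798 = n62011 := ndS (p := 19187) (l := 3) rfl N19187 D62011
theorem N37799 : nd 37799 = n62012 := ndS (p := 19187) (l := 5) rfl N19187 D62012
theorem N37800 : nd 37800 = n62013 := ndS (p := 19187) (l := 6) rfl N19187 D62013
theorem N37801 : nd 37801 = n62014 := ndS (p := 19188) (l := 7) rfl N19188 D62014
theorem N37802 : nd 37802 = n62015 := ndS (p := 19189) (l := 4) rfl N19189 D62015
theorem N37803 : nd 37803 = n62016 := ndS (p := 19190) (l := 0) rfl N19190 D62016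
theorem N37804 : nd 37804 = n62017 := ndS (p := 19190) (l := 1) rfl N19190 D62017
theorem N37805 : nd 37805 = n62019 := ndS (p := 19190) (l := 5) rfl N19190 D62019
theorem N37806 : nd 37806 = n62020 := ndS (p := 19191) (l := 3) rfl N19191 D62020
theorem N37807 : nd 37807 = n62021 := ndS (p := 19191) (l := 5) rfl N19191 D62021
theorem N37808 : nd 37808 = n62022 := ndS (p := 19191) (l := 6) rfl N19191 D62022
theorem N37809 : nd 37809 = n62023 := ndS (p := 19192) (l := 0) rfl N19192 D62023
theorem N37810 : nd 37810 = n62024 := ndS (p := 19192) (l := 1) rfl N19192 D62024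
theorem N37811 : nd 37811 = n62025 := ndS (p := 19192) (l := 7) rfl N19192 D62025
theorem N37812 : nd 37812 = n62026 := ndS (p := 19193) (l := 4) rfl N19193 D62026
theorem N37813 : nd 37813 = n62027 := ndS (p := 19193) (l := 6) rfl N19193 D62027
theorem N37814 : nd 37814 = n62028 := ndS (p := 19194) (l := 3) rfl N19194 D62028
theorem N37815 : nd 37815 = n62029 := ndS (p := 19194) (l := 5) rfl N19194 D62029
theorem N37816 : nd 37816 = n62030 := ndS (p := 19194) (l := 6) rfl N19194 D62030
theorem N37817 : nd 37817 = n62031 := ndS (p := 19196) (l := 3) rfl N19196 D62031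
theorem N37818 : nd 37818 = n62032 := ndS (p := 19196) (l := 6) rfl N19196 D62032
theorem N37819 : nd 37819 = n62033 := ndS (p := 19197) (l := 3) rfl N19197 D62033
theorem N37820 : nd 37820 = n62034 := ndS (p := 19197) (l := 6) rfl N19197 D62034
theorem N37821 : nd 37821 = n62035 := ndS (p := 19198) (l := 0) rfl N19198 D62035
theorem N37822 : nd 37822 = n62036 := ndS (p := 19198) (l := 1) rfl N19198 D62036
theorem N37823 : nd 37823 = n62037 := ndS (p := 19198) (l := 2) rfl N19198 D62037
theorem N37824 : nd 37824 = n62038 := ndS (p := 19198) (l := 5) rfl N19198 D62038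
theorem N37825 : nd 37825 = n62039 := ndS (p := 19198) (l := 6) rfl N19198 D62039
theorem N37826 : nd 37826 = n62040 := ndS (p := 19199) (l := 0) rfl N19199 D62040
theorem N37827 : nd 37827 = n62041 := ndS (p := 19199) (l := 4) rfl N19199 D62041
theorem N37828 : nd 37828 = n62042 := ndS (p := 19199) (l := 6) rfl N19199 D62042
theorem N37829 : nd 37829 = n62043 := ndS (p := 19200) (l := 0) rfl N19200 D62043
theorem N37830 : nd 37830 = n62044 := ndS (p := 19200) (l := 1) rfl N19200 D62044
theorem N37831 : nd 37831 = n62045 := ndS (p := 19200) (l := 5) rfl N19200 D62045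
theorem N37832 : nd 37832 = n62046 := ndS (p := 19200) (l := 7) rfl N19200 D62046
theorem N37833 : nd 37833 = n62048 := ndS (p := 19201) (l := 3) rfl N19201 D62048
theorem N37834 : nd 37834 = n62049 := ndS (p := 19201) (l := 4) rfl N19201 D62049
theorem N37835 : nd 37835 = n62051 := ndS (p := 19202) (l := 3) rfl N19202 D62051
theorem N37836 : nd 37836 = n62052 := ndS (p := 19202) (l := 4) rfl N19202 D62052
theorem N37837 : nd 37837 = n62053 := ndS (p := 19202) (l := 6) rfl N19202 D62053
theorem N37838 : nd 37838 = n62054 := ndS (p := 19204) (l := 3) rfl N19204 D62054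
theorem N37839 : nd 37839 = n62055 := ndS (p := 19204) (l := 6) rfl N19204 D62055
theorem N37840 : nd 37840 = n62056 := ndS (p := 19205) (l := 0) rfl N19205 D62056
theorem N37841 : nd 37841 = n62057 := ndS (p := 19205) (l := 1) rfl N19205 D62057
theorem N37842 : nd 37842 = n62058 := ndS (p := 19206) (l := 0) rfl N19206 D62058
theorem N37843 : nd 37843 = n62059 := ndS (p := 19206) (l := 1) rfl N19206 D62059
theorem N37844 : nd 37844 = n62060 := ndS (p := 19206) (l := 2) rfl N19206 D62060
theorem N37845 : nd 37845 = n62061 := ndS (p := 19206) (l := 6) rfl N19206 D62061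
theorem N37846 : nd 37846 = n62062 := ndS (p := 19207) (l := 0) rfl N19207 D62062
theorem N37847 : nd 37847 = n62063 := ndS (p := 19207) (l := 1) rfl N19207 D62063
theorem N37848 : nd 37848 = n62064 := ndS (p := 19207) (l := 7) rfl N19207 D62064
theorem N37849 : nd 37849 = n62065 := ndS (p := 19208) (l := 3) rfl N19208 D62065
theorem N37850 : nd 37850 = n62067 := ndS (p := 19211) (l := 0) rfl N19211 D62067
theorem N37851 : nd 37851 = n62068 := ndS (p := 19211) (l := 1) rfl N19211 D62068
theorem N37852 : nd 37852 = n62069 := ndS (p := 19211) (l := 2) rfl N19211 D62069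
theorem N37853 : nd 37853 = n62071 := ndS (p := 19212) (l := 3) rfl N19212 D62071
theorem N37854 : nd 37854 = n62072 := ndS (p := 19212) (l := 4) rfl N19212 D62072
theorem N37855 : nd 37855 = n62074 := ndS (p := 19212) (l := 6) rfl N19212 D62074
theorem N37856 : nd 37856 = n62076 := ndS (p := 19213) (l := 3) rfl N19213 D62076
theorem N37857 : nd 37857 = n62077 := ndS (p := 19213) (l := 4) rfl N19213 D62077
theorem N37858 : nd 37858 = n62079 := ndS (p := 19213) (l := 6) rfl N19213 D62079
theorem N37859 : nd 37859 = n62080 := ndS (p := 19214) (l := 5) rfl N19214 D62080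
theorem N37860 : nd 37860 = n62081 := ndS (p := 19214) (l := 6) rfl N19214 D62081
theorem N37861 : nd 37861 = n62083 := ndS (p := 19215) (l := 1) rfl N19215 D62083
theorem N37862 : nd 37862 = n62084 := ndS (p := 19215) (l := 4) rfl N19215 D62084
theorem N37863 : nd 37863 = n62085 := ndS (p := 19215) (l := 6) rfl N19215 D62085
theorem N37864 : nd 37864 = n62086 := ndS (p := 19216) (l := 0) rfl N19216 D62086
theorem N37865 : nd 37865 = n62087 := ndS (p := 19216) (l := 1) rfl N19216 D62087
theorem N37866 : nd 37866 = n62089 := ndS (p := 19216) (l := 7) rfl N19216 D62089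
theorem N37867 : nd 37867 = n62093 := ndS (p := 19217) (l := 7) rfl N19217 D62093
theorem N37868 : nd 37868 = n62101 := ndS (p := 19219) (l := 4) rfl N19219 D62101
theorem N37869 : nd 37869 = n62102 := ndS (p := 19220) (l := 3) rfl N19220 D62102
theorem N37870 : nd 37870 = n62108 := ndS (p := 19221) (l := 3) rfl N19221 D62108
theorem N37871 : nd 37871 = n62109 := ndS (p := 19221) (l := 6) rfl N19221 D62109
theorem N37872 : nd 37872 = n62110 := ndS (p := 19224) (l := 3) rfl N19224 D62110
theorem N37873 : nd 37873 = n62111 := ndS (p := 19224) (l := 5) rfl N19224 D62111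
theorem N37874 : nd 37874 = n62112 := ndS (p := 19225) (l := 3) rfl N19225 D62112
theorem N37875 : nd 37875 = n62113 := ndS (p := 19225) (l := 5) rfl N19225 D62113
theorem N37876 : nd 37876 = n62114 := ndS (p := 19225) (l := 6) rfl N19225 D62114
theorem N37877 : nd 37877 = n62116 := ndS (p := 19226) (l := 1) rfl N19226 D62116
theorem N37878 : nd 37878 = n62117 := ndS (p := 19226) (l := 7) rfl N19226 D62117
theorem N37879 : nd 37879 = n62118 := ndS (p := 19227) (l := 3) rfl N19227 D62118
theorem N37880 : nd 37880 = n62119 := ndS (p := 19227) (l := 6) rfl N19227 D62119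
theorem N37881 : nd 37881 = n62120 := ndS (p := 19228) (l := 6) rfl N19228 D62120
theorem N37882 : nd 37882 = n62121 := ndS (p := 19229) (l := 0) rfl N19229 D62121
theorem N37883 : nd 37883 = n62122 := ndS (p := 19229) (l := 1) rfl N19229 D62122
theorem N37884 : nd 37884 = n62123 := ndS (p := 19229) (l := 2) rfl N19229 D62123
theorem N37885 : nd 37885 = n62124 := ndS (p := 19229) (l := 5) rfl N19229 D62124
theorem N37886 : nd 37886 = n62125 := ndS (p := 19229) (l := 6) rfl N19229 D62125
theorem N37887 : nd 37887 = n62126 := ndS (p := 19230) (l := 6) rfl N19230 D62126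
theorem N37888 : nd 37888 = n62127 := ndS (p := 19231) (l := 0) rfl N19231 D62127
theorem N37889 : nd 37889 = n62128 := ndS (p := 19231) (l := 5) rfl N19231 D62128
theorem N37890 : nd 37890 = n62129 := ndS (p := 19231) (l := 7) rfl N19231 D62129
theorem N37891 : nd 37891 = n62131 := ndS (p := 19232) (l := 4) rfl N19232 D62131
theorem N37892 : nd 37892 = n62132 := ndS (p := 19233) (l := 0) rfl N19233 D62132
theorem N37893 : nd 37893 = n62133 := ndS (p := 19233) (l := 1) rfl N19233 D62133
theorem N37894 : nd 37894 = n62134 := ndS (p := 19233) (l := 4) rfl N19233 D62134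
theorem N37895 : nd 37895 = n62135 := ndS (p := 19235) (l := 3) rfl N19235 D62135
theorem N37896 : nd 37896 = n62136 := ndS (p := 19235) (l := 5) rfl N19235 D62136
theorem N37897 : nd 37897 = n62138 := ndS (p := 19236) (l := 3) rfl N19236 D62138
theorem N37898 : nd 37898 = n62139 := ndS (p := 19236) (l := 4) rfl N19236 D62139
theorem N37899 : nd 37899 = n62141 := ndS (p := 19236) (l := 6) rfl N19236 D62141
theorem N37900 : nd 37900 = n62143 := ndS (p := 19237) (l := 3) rfl N19237 D62143
theorem N37901 : nd 37901 = n62144 := ndS (p := 19237) (l := 4) rfl N19237 D62144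
theorem N37902 : nd 37902 = n62146 := ndS (p := 19237) (l := 6) rfl N19237 D62146
theorem N37903 : nd 37903 = n62147 := ndS (p := 19238) (l := 5) rfl N19238 D62147
theorem N37904 : nd 37904 = n62148 := ndS (p := 19238) (l := 6) rfl N19238 D62148
theorem N37905 : nd 37905 = n62149 := ndS (p := 19239) (l := 0) rfl N19239 D62149
theorem N37906 : nd 37906 = n62152 := ndS (p := 19239) (l := 6) rfl N19239 D62152
theorem N37907 : nd 37907 = n62153 := ndS (p := 19240) (l := 0) rfl N19240 D62153
theorem N37908 : nd 37908 = n62156 := ndS (p := 19240) (l := 7) rfl N19240 D62156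
theorem N37909 : nd 37909 = n62160 := ndS (p := 19241) (l := 7) rfl N19241 D62160
theorem N37910 : nd 37910 = n62165 := ndS (p := 19243) (l := 3) rfl N19243 D62165
theorem N37911 : nd 37911 = n62166 := ndS (p := 19243) (l := 5) rfl N19243 D62166
theorem N37912 : nd 37912 = n62169 := ndS (p := 19245) (l := 3) rfl N19245 D62169
theorem N37913 : nd 37913 = n62171 := ndS (p := 19246) (l := 3) rfl N19246 D62171
theorem N37914 : nd 37914 = n62175 := ndS (p := 19248) (l := 3) rfl N19248 D62175
theorem N37915 : nd 37915 = n62176 := ndS (p := 19248) (l := 5) rfl N19248 D62176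
theorem N37916 : nd 37916 = n62177 := ndS (p := 19248) (l := 6) rfl N19248 D62177
theorem N37917 : nd 37917 = n62178 := ndS (p := 19249) (l := 0) rfl N19249 D62178
theorem N37918 : nd 37918 = n62179 := ndS (p := 19249) (l := 1) rfl N19249 D62179
theorem N37919 : nd 37919 = n62180 := ndS (p := 19249) (l := 7) rfl N19249 D62180
theorem N37920 : nd 37920 = n62181 := ndS (p := 19250) (l := 3) rfl N19250 D62181
theorem N37921 : nd 37921 = n62182 := ndS (p := 19250) (l := 6) rfl N19250 D62182
theorem N37922 : nd 37922 = n62183 := ndS (p := 19251) (l := 0) rfl N19251 D62183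
theorem N37923 : nd 37923 = n62184 := ndS (p := 19251) (l := 1) rfl N19251 D62184
theorem N37924 : nd 37924 = n62185 := ndS (p := 19251) (l := 2) rfl N19251 D62185
theorem N37925 : nd 37925 = n62186 := ndS (p := 19251) (l := 5) rfl N19251 D62186
theorem N37926 : nd 37926 = n62187 := ndS (p := 19251) (l := 6) rfl N19251 D62187
theorem N37927 : nd 37927 = n62188 := ndS (p := 19252) (l := 6) rfl N19252 D62188
theorem N37928 : nd 37928 = n62189 := ndS (p := 19253) (l := 0) rfl N19253 D62189
theorem N37929 : nd 37929 = n62190 := ndS (p := 19253) (l := 1) rfl N19253 D62190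
theorem N37930 : nd 37930 = n62191 := ndS (p := 19253) (l := 5) rfl N19253 D62191
theorem N37931 : nd 37931 = n62192 := ndS (p := 19253) (l := 7) rfl N19253 D62192
theorem N37932 : nd 37932 = n62194 := ndS (p := 19254) (l := 3) rfl N19254 D62194
theorem N37933 : nd 37933 = n62195 := ndS (p := 19254) (l := 4) rfl N19254 D62195
theorem N37934 : nd 37934 = n62196 := ndS (p := 19254) (l := 5) rfl N19254 D62196
theorem N37935 : nd 37935 = n62198 := ndS (p := 19255) (l := 3) rfl N19255 D62198
theorem N37936 : nd 37936 = n62199 := ndS (p := 19255) (l := 4) rfl N19255 D62199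
theorem N37937 : nd 37937 = n62200 := ndS (p := 19255) (l := 5) rfl N19255 D62200
theorem N37938 : nd 37938 = n62201 := ndS (p := 19255) (l := 6) rfl N19255 D62201
theorem N37939 : nd 37939 = n62204 := ndS (p := 19257) (l := 4) rfl N19257 D62204
theorem N37940 : nd 37940 = n62206 := ndS (p := 19257) (l := 6) rfl N19257 D62206
theorem N37941 : nd 37941 = n62208 := ndS (p := 19258) (l := 3) rfl N19258 D62208
theorem N37942 : nd 37942 = n62209 := ndS (p := 19258) (l := 4) rfl N19258 D62209
theorem N37943 : nd 37943 = n62212 := ndS (p := 19259) (l := 5) rfl N19259 D62212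
theorem N37944 : nd 37944 = n62213 := ndS (p := 19259) (l := 6) rfl N19259 D62213
theorem N37945 : nd 37945 = n62218 := ndS (p := 19261) (l := 0) rfl N19261 D62218
theorem N37946 : nd 37946 = n62219 := ndS (p := 19261) (l := 1) rfl N19261 D62219
theorem N37947 : nd 37947 = n62220 := ndS (p := 19261) (l := 5) rfl N19261 D62220
theorem N37948 : nd 37948 = n62221 := ndS (p := 19261) (l := 7) rfl N19261 D62221
theorem N37949 : nd 37949 = n62224 := ndS (p := 19262) (l := 5) rfl N19262 D62224
theorem N37950 : nd 37950 = n62225 := ndS (p := 19262) (l := 7) rfl N19262 D62225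
theorem N37951 : nd 37951 = n62227 := ndS (p := 19263) (l := 5) rfl N19263 D62227
theorem N37952 : nd 37952 = n62228 := ndS (p := 19264) (l := 3) rfl N19264 D62228
theorem N37953 : nd 37953 = n62231 := ndS (p := 19265) (l := 1) rfl N19265 D62231
theorem N37954 : nd 37954 = n62232 := ndS (p := 19265) (l := 4) rfl N19265 D62232
theorem N37955 : nd 37955 = n62233 := ndS (p := 19265) (l := 7) rfl N19265 D62233
theorem N37956 : nd 37956 = n62237 := ndS (p := 19267) (l := 4) rfl N19267 D62237
theorem N37957 : nd 37957 = n62238 := ndS (p := 19267) (l := 5) rfl N19267 D62238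
theorem N37958 : nd 37958 = n62239 := ndS (p := 19268) (l := 3) rfl N19268 D62239
theorem N37959 : nd 37959 = n62240 := ndS (p := 19268) (l := 5) rfl N19268 D62240
theorem N37960 : nd 37960 = n62241 := ndS (p := 19269) (l := 4) rfl N19269 D62241
theorem N37961 : nd 37961 = n62247 := ndS (p := 19270) (l := 3) rfl N19270 D62247
theorem N37962 : nd 37962 = n62248 := ndS (p := 19270) (l := 5) rfl N19270 D62248
theorem N37963 : nd 37963 = n62249 := ndS (p := 19270) (l := 6) rfl N19270 D62249
theorem N37964 : nd 37964 = n62250 := ndS (p := 19272) (l := 6) rfl N19272 D62250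
theorem N37965 : nd 37965 = n62251 := ndS (p := 19273) (l := 0) rfl N19273 D62251
theorem N37966 : nd 37966 = n62252 := ndS (p := 19273) (l := 1) rfl N19273 D62252
theorem N37967 : nd 37967 = n62253 := ndS (p := 19273) (l := 2) rfl N19273 D62253
theorem N37968 : nd 37968 = n62254 := ndS (p := 19273) (l := 5) rfl N19273 D62254
theorem N37969 : nd 37969 = n62255 := ndS (p := 19273) (l := 6) rfl N19273 D62255
theorem N37970 : nd 37970 = n62256 := ndS (p := 19274) (l := 6) rfl N19274 D62256
theorem N37971 : nd 37971 = n62257 := ndS (p := 19275) (l := 0) rfl N19275 D62257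
theorem N37972 : nd 37972 = n62258 := ndS (p := 19275) (l := 1) rfl N19275 D62258
theorem N37973 : nd 37973 = n62259 := ndS (p := 19275) (l := 5) rfl N19275 D62259
theorem N37974 : nd 37974 = n62260 := ndS (p := 19275) (l := 7) rfl N19275 D62260
theorem N37975 : nd 37975 = n62262 := ndS (p := 19276) (l := 3) rfl N19276 D62262
theorem N37976 : nd 37976 = n62263 := ndS (p := 19276) (l := 4) rfl N19276 D62263
theorem N37977 : nd 37977 = n62264 := ndS (p := 19276) (l := 6) rfl N19276 D62264
theorem N37978 : nd 37978 = n62266 := ndS (p := 19277) (l := 3) rfl N19277 D62266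
theorem N37979 : nd 37979 = n62267 := ndS (p := 19277) (l := 4) rfl N19277 D62267
theorem N37980 : nd 37980 = n62268 := ndS (p := 19279) (l := 3) rfl N19279 D62268
theorem N37981 : nd 37981 = n62270 := ndS (p := 19280) (l := 3) rfl N19280 D62270
theorem N37982 : nd 37982 = n62271 := ndS (p := 19280) (l := 4) rfl N19280 D62271
theorem N37983 : nd 37983 = n62272 := ndS (p := 19280) (l := 6) rfl N19280 D62272
theorem N37984 : nd 37984 = n62273 := ndS (p := 19281) (l := 5) rfl N19281 D62273
theorem N37985 : nd 37985 = n62274 := ndS (p := 19281) (l := 6) rfl N19281 D62274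
theorem N37986 : nd 37986 = n62277 := ndS (p := 19282) (l := 6) rfl N19282 D62277
theorem N37987 : nd 37987 = n62278 := ndS (p := 19283) (l := 0) rfl N19283 D62278
theorem N37988 : nd 37988 = n62279 := ndS (p := 19283) (l := 1) rfl N19283 D62279
theorem N37989 : nd 37989 = n62281 := ndS (p := 19283) (l := 7) rfl N19283 D62281
theorem N37990 : nd 37990 = n62288 := ndS (p := 19286) (l := 3) rfl N19286 D62288
theorem N37991 : nd 37991 = n62296 := ndS (p := 19288) (l := 3) rfl N19288 D62296
theorem N37992 : nd 37992 = n62298 := ndS (p := 19288) (l := 6) rfl N19288 D62298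
theorem N37993 : nd 37993 = n62302 := ndS (p := 19290) (l := 4) rfl N19290 D62302
theorem N37994 : nd 37994 = n62303 := ndS (p := 19291) (l := 3) rfl N19291 D62303
theorem N37995 : nd 37995 = n62306 := ndS (p := 19292) (l := 3) rfl N19292 D62306
theorem N37996 : nd 37996 = n62307 := ndS (p := 19292) (l := 4) rfl N19292 D62307
theorem N37997 : nd 37997 = n62308 := ndS (p := 19292) (l := 5) rfl N19292 D62308
theorem N37998 : nd 37998 = n62309 := ndS (p := 19292) (l := 6) rfl N19292 D62309
theorem N37999 : nd 37999 = n62311 := ndS (p := 19293) (l := 3) rfl N19293 D62311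
theorem N38000 : nd 38000 = n62312 := ndS (p := 19293) (l := 4) rfl N19293 D62312
theorem N38001 : nd 38001 = n62313 := ndS (p := 19293) (l := 5) rfl N19293 D62313
theorem N38002 : nd 38002 = n62315 := ndS (p := 19294) (l := 4) rfl N19294 D62315
theorem N38003 : nd 38003 = n62317 := ndS (p := 19294) (l := 6) rfl N19294 D62317
theorem N38004 : nd 38004 = n62318 := ndS (p := 19295) (l := 0) rfl N19295 D62318
theorem N38005 : nd 38005 = n62319 := ndS (p := 19295) (l := 1) rfl N19295 D62319
theorem N38006 : nd 38006 = n62320 := ndS (p := 19295) (l := 5) rfl N19295 D62320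
theorem N38007 : nd 38007 = n62321 := ndS (p := 19295) (l := 6) rfl N19295 D62321
theorem N38008 : nd 38008 = n62324 := ndS (p := 19296) (l := 4) rfl N19296 D62324
theorem N38009 : nd 38009 = n62326 := ndS (p := 19297) (l := 0) rfl N19297 D62326
theorem N38010 : nd 38010 = n62327 := ndS (p := 19297) (l := 1) rfl N19297 D62327
theorem N38011 : nd 38011 = n62328 := ndS (p := 19297) (l := 5) rfl N19297 D62328
theorem N38012 : nd 38012 = n62329 := ndS (p := 19297) (l := 7) rfl N19297 D62329
theorem N38013 : nd 38013 = n62332 := ndS (p := 19298) (l := 5) rfl N19298 D62332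
theorem N38014 : nd 38014 = n62334 := ndS (p := 19299) (l := 1) rfl N19299 D62334
theorem N38015 : nd 38015 = n62336 := ndS (p := 19299) (l := 7) rfl N19299 D62336
theorem N38016 : nd 38016 = n62338 := ndS (p := 19301) (l := 3) rfl N19301 D62338
theorem N38017 : nd 38017 = n62339 := ndS (p := 19301) (l := 4) rfl N19301 D62339
theorem N38018 : nd 38018 = n62343 := ndS (p := 19302) (l := 3) rfl N19302 D62343
theorem N38019 : nd 38019 = n62344 := ndS (p := 19302) (l := 4) rfl N19302 D62344
theorem N38020 : nd 38020 = n62346 := ndS (p := 19302) (l := 6) rfl N19302 D62346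
theorem N38021 : nd 38021 = n62347 := ndS (p := 19303) (l := 4) rfl N19303 D62347
theorem N38022 : nd 38022 = n62349 := ndS (p := 19303) (l := 6) rfl N19303 D62349
theorem N38023 : nd 38023 = n62350 := ndS (p := 19304) (l := 0) rfl N19304 D62350
theorem N38024 : nd 38024 = n62351 := ndS (p := 19304) (l := 1) rfl N19304 D62351
theorem N38025 : nd 38025 = n62352 := ndS (p := 19304) (l := 5) rfl N19304 D62352
theorem N38026 : nd 38026 = n62353 := ndS (p := 19304) (l := 6) rfl N19304 D62353
theorem N38027 : nd 38027 = n62358 := ndS (p := 19306) (l := 0) rfl N19306 D62358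
theorem N38028 : nd 38028 = n62359 := ndS (p := 19306) (l := 1) rfl N19306 D62359
theorem N38029 : nd 38029 = n62360 := ndS (p := 19306) (l := 5) rfl N19306 D62360
theorem N38030 : nd 38030 = n62361 := ndS (p := 19306) (l := 7) rfl N19306 D62361
theorem N38031 : nd 38031 = n62363 := ndS (p := 19307) (l := 1) rfl N19307 D62363
theorem N38032 : nd 38032 = n62368 := ndS (p := 19310) (l := 6) rfl N19310 D62368
theorem N38033 : nd 38033 = n62371 := ndS (p := 19311) (l := 3) rfl N19311 D62371
theorem N38034 : nd 38034 = n62372 := ndS (p := 19311) (l := 4) rfl N19311 D62372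
theorem N38035 : nd 38035 = n62373 := ndS (p := 19311) (l := 5) rfl N19311 D62373
theorem N38036 : nd 38036 = n62374 := ndS (p := 19311) (l := 6) rfl N19311 D62374
theorem N38037 : nd 38037 = n62376 := ndS (p := 19312) (l := 1) rfl N19312 D62376
theorem N38038 : nd 38038 = n62377 := ndS (p := 19312) (l := 2) rfl N19312 D62377
theorem N38039 : nd 38039 = n62378 := ndS (p := 19312) (l := 4) rfl N19312 D62378
theorem N38040 : nd 38040 = n62379 := ndS (p := 19312) (l := 5) rfl N19312 D62379
theorem N38041 : nd 38041 = n62380 := ndS (p := 19312) (l := 6) rfl N19312 D62380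
theorem N38042 : nd 38042 = n62381 := ndS (p := 19312) (l := 7) rfl N19312 D62381
theorem N38043 : nd 38043 = n62382 := ndS (p := 19313) (l := 0) rfl N19313 D62382
theorem N38044 : nd 38044 = n62383 := ndS (p := 19313) (l := 1) rfl N19313 D62383
theorem N38045 : nd 38045 = n62384 := ndS (p := 19313) (l := 3) rfl N19313 D62384
theorem N38046 : nd 38046 = n62385 := ndS (p := 19313) (l := 5) rfl N19313 D62385
theorem N38047 : nd 38047 = n62386 := ndS (p := 19313) (l := 6) rfl N19313 D62386
theorem N38048 : nd 38048 = n62387 := ndS (p := 19313) (l := 7) rfl N19313 D62387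
theorem N38049 : nd 38049 = n62388 := ndS (p := 19314) (l := 0) rfl N19314 D62388
theorem N38050 : nd 38050 = n62390 := ndS (p := 19314) (l := 4) rfl N19314 D62390
theorem N38051 : nd 38051 = n62391 := ndS (p := 19314) (l := 6) rfl N19314 D62391
theorem N38052 : nd 38052 = n62392 := ndS (p := 19314) (l := 7) rfl N19314 D62392
theorem N38053 : nd 38053 = n62393 := ndS (p := 19315) (l := 0) rfl N19315 D62393
theorem N38054 : nd 38054 = n62395 := ndS (p := 19315) (l := 5) rfl N19315 D62395
theorem N38055 : nd 38055 = n62396 := ndS (p := 19315) (l := 7) rfl N19315 D62396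
theorem N38056 : nd 38056 = n62397 := ndS (p := 19316) (l := 6) rfl N19316 D62397
theorem N38057 : nd 38057 = n62398 := ndS (p := 19317) (l := 0) rfl N19317 D62398
theorem N38058 : nd 38058 = n62400 := ndS (p := 19317) (l := 2) rfl N19317 D62400
theorem N38059 : nd 38059 = n62401 := ndS (p := 19317) (l := 4) rfl N19317 D62401
theorem N38060 : nd 38060 = n62402 := ndS (p := 19317) (l := 5) rfl N19317 D62402
theorem N38061 : nd 38061 = n62403 := ndS (p := 19317) (l := 6) rfl N19317 D62403
theorem N38062 : nd 38062 = n62404 := ndS (p := 19318) (l := 3) rfl N19318 D62404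
theorem N38063 : nd 38063 = n62405 := ndS (p := 19318) (l := 5) rfl N19318 D62405
theorem N38064 : nd 38064 = n62406 := ndS (p := 19318) (l := 6) rfl N19318 D62406
theorem N38065 : nd 38065 = n62407 := ndS (p := 19319) (l := 4) rfl N19319 D62407
theorem N38066 : nd 38066 = n62408 := ndS (p := 19319) (l := 6) rfl N19319 D62408
theorem N38067 : nd 38067 = n62410 := ndS (p := 19320) (l := 1) rfl N19320 D62410
theorem N38068 : nd 38068 = n62411 := ndS (p := 19320) (l := 5) rfl N19320 D62411
theorem N38069 : nd 38069 = n62412 := ndS (p := 19320) (l := 7) rfl N19320 D62412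
theorem N38070 : nd 38070 = n62423 := ndS (p := 19321) (l := 4) rfl N19321 D62423
theorem N38071 : nd 38071 = n62424 := ndS (p := 19321) (l := 6) rfl N19321 D62424
theorem N38072 : nd 38072 = n62426 := ndS (p := 19322) (l := 3) rfl N19322 D62426
theorem N38073 : nd 38073 = n62427 := ndS (p := 19322) (l := 4) rfl N19322 D62427
theorem N38074 : nd 38074 = n62429 := ndS (p := 19322) (l := 6) rfl N19322 D62429
theorem N38075 : nd 38075 = n62431 := ndS (p := 19323) (l := 3) rfl N19323 D62431
theorem N38076 : nd 38076 = n62432 := ndS (p := 19323) (l := 4) rfl N19323 D62432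
theorem N38077 : nd 38077 = n62434 := ndS (p := 19323) (l := 6) rfl N19323 D62434
theorem N38078 : nd 38078 = n62435 := ndS (p := 19324) (l := 0) rfl N19324 D62435
theorem N38079 : nd 38079 = n62436 := ndS (p := 19324) (l := 1) rfl N19324 D62436
theorem N38080 : nd 38080 = n62437 := ndS (p := 19324) (l := 5) rfl N19324 D62437
theorem N38081 : nd 38081 = n62438 := ndS (p := 19324) (l := 6) rfl N19324 D62438
theorem N38082 : nd 38082 = n62439 := ndS (p := 19325) (l := 0) rfl N19325 D62439
theorem N38083 : nd 38083 = n62441 := ndS (p := 19325) (l := 7) rfl N19325 D62441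
theorem N38084 : nd 38084 = n62442 := ndS (p := 19326) (l := 0) rfl N19326 D62442
theorem N38085 : nd 38085 = n62443 := ndS (p := 19326) (l := 1) rfl N19326 D62443
theorem N38086 : nd 38086 = n62444 := ndS (p := 19326) (l := 5) rfl N19326 D62444
theorem N38087 : nd 38087 = n62447 := ndS (p := 19327) (l := 2) rfl N19327 D62447
theorem N38088 : nd 38088 = n62448 := ndS (p := 19327) (l := 4) rfl N19327 D62448
theorem N38089 : nd 38089 = n62449 := ndS (p := 19327) (l := 6) rfl N19327 D62449
theorem N38090 : nd 38090 = n62450 := ndS (p := 19328) (l := 0) rfl N19328 D62450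
theorem N38091 : nd 38091 = n62451 := ndS (p := 19328) (l := 1) rfl N19328 D62451
theorem N38092 : nd 38092 = n62453 := ndS (p := 19328) (l := 7) rfl N19328 D62453
theorem N38093 : nd 38093 = n62458 := ndS (p := 19329) (l := 6) rfl N19329 D62458
theorem N38094 : nd 38094 = n62459 := ndS (p := 19330) (l := 0) rfl N19330 D62459
theorem N38095 : nd 38095 = n62460 := ndS (p := 19330) (l := 1) rfl N19330 D62460
theorem N38096 : nd 38096 = n62461 := ndS (p := 19330) (l := 5) rfl N19330 D62461
theorem N38097 : nd 38097 = n62462 := ndS (p := 19330) (l := 7) rfl N19330 D62462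
theorem N38098 : nd 38098 = n62464 := ndS (p := 19331) (l := 3) rfl N19331 D62464
theorem N38099 : nd 38099 = n62466 := ndS (p := 19331) (l := 5) rfl N19331 D62466
theorem N38100 : nd 38100 = n62467 := ndS (p := 19331) (l := 6) rfl N19331 D62467
theorem N38101 : nd 38101 = n62469 := ndS (p := 19332) (l := 3) rfl N19332 D62469
theorem N38102 : nd 38102 = n62471 := ndS (p := 19332) (l := 5) rfl N19332 D62471
theorem N38103 : nd 38103 = n62472 := ndS (p := 19332) (l := 6) rfl N19332 D62472
theorem N38104 : nd 38104 = n62474 := ndS (p := 19334) (l := 3) rfl N19334 D62474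
theorem N38105 : nd 38105 = n62483 := ndS (p := 19336) (l := 4) rfl N19336 D62483
theorem N38106 : nd 38106 = n62484 := ndS (p := 19336) (l := 5) rfl N19336 D62484
theorem N38107 : nd 38107 = n62485 := ndS (p := 19336) (l := 6) rfl N19336 D62485
theorem N38108 : nd 38108 = n62487 := ndS (p := 19337) (l := 3) rfl N19337 D62487
theorem N38109 : nd 38109 = n62488 := ndS (p := 19337) (l := 5) rfl N19337 D62488
theorem N38110 : nd 38110 = n62491 := ndS (p := 19340) (l := 6) rfl N19340 D62491
theorem N38111 : nd 38111 = n62492 := ndS (p := 19341) (l := 3) rfl N19341 D62492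
theorem N38112 : nd 38112 = n62493 := ndS (p := 19341) (l := 6) rfl N19341 D62493
theorem N38113 : nd 38113 = n62494 := ndS (p := 19342) (l := 0) rfl N19342 D62494
theorem N38114 : nd 38114 = n62495 := ndS (p := 19342) (l := 1) rfl N19342 D62495
theorem N38115 : nd 38115 = n62496 := ndS (p := 19342) (l := 7) rfl N19342 D62496
theorem N38116 : nd 38116 = n62497 := ndS (p := 19343) (l := 3) rfl N19343 D62497
theorem N38117 : nd 38117 = n62498 := ndS (p := 19343) (l := 5) rfl N19343 D62498
theorem N38118 : nd 38118 = n62500 := ndS (p := 19345) (l := 3) rfl N19345 D62500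
theorem N38119 : nd 38119 = n62501 := ndS (p := 19345) (l := 5) rfl N19345 D62501
theorem N38120 : nd 38120 = n62502 := ndS (p := 19345) (l := 6) rfl N19345 D62502
theorem N38121 : nd 38121 = n62506 := ndS (p := 19347) (l := 0) rfl N19347 D62506
theorem N38122 : nd 38122 = n62507 := ndS (p := 19347) (l := 1) rfl N19347 D62507
theorem N38123 : nd 38123 = n62508 := ndS (p := 19347) (l := 2) rfl N19347 D62508
theorem N38124 : nd 38124 = n62509 := ndS (p := 19347) (l := 5) rfl N19347 D62509
theorem N38125 : nd 38125 = n62510 := ndS (p := 19347) (l := 6) rfl N19347 D62510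
theorem N38126 : nd 38126 = n62511 := ndS (p := 19348) (l := 6) rfl N19348 D62511
theorem N38127 : nd 38127 = n62512 := ndS (p := 19349) (l := 0) rfl N19349 D62512
theorem N38128 : nd 38128 = n62513 := ndS (p := 19349) (l := 1) rfl N19349 D62513
theorem N38129 : nd 38129 = n62514 := ndS (p := 19349) (l := 5) rfl N19349 D62514
theorem N38130 : nd 38130 = n62515 := ndS (p := 19349) (l := 7) rfl N19349 D62515
theorem N38131 : nd 38131 = n62517 := ndS (p := 19350) (l := 3) rfl N19350 D62517
theorem N38132 : nd 38132 = n62518 := ndS (p := 19350) (l := 4) rfl N19350 D62518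
theorem N38133 : nd 38133 = n62521 := ndS (p := 19351) (l := 4) rfl N19351 D62521
theorem N38134 : nd 38134 = n62522 := ndS (p := 19351) (l := 6) rfl N19351 D62522
theorem N38135 : nd 38135 = n62525 := ndS (p := 19354) (l := 0) rfl N19354 D62525
theorem N38136 : nd 38136 = n62526 := ndS (p := 19354) (l := 1) rfl N19354 D62526
theorem N38137 : nd 38137 = n62527 := ndS (p := 19354) (l := 7) rfl N19354 D62527
theorem N38138 : nd 38138 = n62528 := ndS (p := 19355) (l := 3) rfl N19355 D62528
theorem N38139 : nd 38139 = n62530 := ndS (p := 19359) (l := 5) rfl N19359 D62530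
theorem N38140 : nd 38140 = n62532 := ndS (p := 19360) (l := 3) rfl N19360 D62532
theorem N38141 : nd 38141 = n62533 := ndS (p := 19360) (l := 4) rfl N19360 D62533
theorem N38142 : nd 38142 = n62535 := ndS (p := 19360) (l := 6) rfl N19360 D62535
theorem N38143 : nd 38143 = n62537 := ndS (p := 19361) (l := 3) rfl N19361 D62537
theorem N38144 : nd 38144 = n62538 := ndS (p := 19361) (l := 4) rfl N19361 D62538
theorem N38145 : nd 38145 = n62539 := ndS (p := 19361) (l := 6) rfl N19361 D62539
theorem N38146 : nd 38146 = n62540 := ndS (p := 19362) (l := 6) rfl N19362 D62540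
theorem N38147 : nd 38147 = n62541 := ndS (p := 19363) (l := 0) rfl N19363 D62541
theorem N38148 : nd 38148 = n62542 := ndS (p := 19363) (l := 1) rfl N19363 D62542
theorem N38149 : nd 38149 = n62543 := ndS (p := 19363) (l := 5) rfl N19363 D62543
theorem N38150 : nd 38150 = n62544 := ndS (p := 19363) (l := 7) rfl N19363 D62544
theorem N38151 : nd 38151 = n62554 := ndS (p := 19367) (l := 4) rfl N19367 D62554
theorem N38152 : nd 38152 = n62555 := ndS (p := 19367) (l := 6) rfl N19367 D62555
theorem N38153 : nd 38153 = n62556 := ndS (p := 19371) (l := 5) rfl N19371 D62556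
theorem N38154 : nd 38154 = n62557 := ndS (p := 19372) (l := 0) rfl N19372 D62557
theorem N38155 : nd 38155 = n62562 := ndS (p := 19374) (l := 0) rfl N19374 D62562
theorem N38156 : nd 38156 = n62563 := ndS (p := 19374) (l := 1) rfl N19374 D62563
theorem N38157 : nd 38157 = n62564 := ndS (p := 19374) (l := 7) rfl N19374 D62564
theorem N38158 : nd 38158 = n62566 := ndS (p := 19375) (l := 3) rfl N19375 D62566
theorem N38159 : nd 38159 = n62568 := ndS (p := 19375) (l := 5) rfl N19375 D62568
theorem N38160 : nd 38160 = n62569 := ndS (p := 19375) (l := 6) rfl N19375 D62569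
theorem N38161 : nd 38161 = n62571 := ndS (p := 19376) (l := 3) rfl N19376 D62571
theorem N38162 : nd 38162 = n62573 := ndS (p := 19376) (l := 6) rfl N19376 D62573
theorem N38163 : nd 38163 = n62574 := ndS (p := 19379) (l := 6) rfl N19379 D62574
theorem N38164 : nd 38164 = n62575 := ndS (p := 19380) (l := 0) rfl N19380 D62575
theorem N38165 : nd 38165 = n62576 := ndS (p := 19380) (l := 3) rfl N19380 D62576
theorem N38166 : nd 38166 = n62577 := ndS (p := 19380) (l := 5) rfl N19380 D62577
theorem N38167 : nd 38167 = n62578 := ndS (p := 19380) (l := 6) rfl N19380 D62578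
theorem N38168 : nd 38168 = n62579 := ndS (p := 19381) (l := 0) rfl N19381 D62579
theorem N38169 : nd 38169 = n62580 := ndS (p := 19381) (l := 5) rfl N19381 D62580
theorem N38170 : nd 38170 = n62581 := ndS (p := 19381) (l := 7) rfl N19381 D62581
theorem N38171 : nd 38171 = n62582 := ndS (p := 19383) (l := 3) rfl N19383 D62582
theorem N38172 : nd 38172 = n62583 := ndS (p := 19384) (l := 4) rfl N19384 D62583
theorem N38173 : nd 38173 = n62584 := ndS (p := 19384) (l := 6) rfl N19384 D62584
theorem N38174 : nd 38174 = n62585 := ndS (p := 19385) (l := 3) rfl N19385 D62585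
theorem N38175 : nd 38175 = n62586 := ndS (p := 19385) (l := 6) rfl N19385 D62586
theorem N38176 : nd 38176 = n62587 := ndS (p := 19386) (l := 0) rfl N19386 D62587
theorem N38177 : nd 38177 = n62588 := ndS (p := 19386) (l := 1) rfl N19386 D62588
theorem N38178 : nd 38178 = n62589 := ndS (p := 19386) (l := 7) rfl N19386 D62589
theorem N38179 : nd 38179 = n62590 := ndS (p := 19387) (l := 3) rfl N19387 D62590
theorem N38180 : nd 38180 = n62591 := ndS (p := 19388) (l := 0) rfl N19388 D62591
theorem N38181 : nd 38181 = n62592 := ndS (p := 19388) (l := 1) rfl N19388 D62592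
theorem N38182 : nd 38182 = n62593 := ndS (p := 19388) (l := 2) rfl N19388 D62593
theorem N38183 : nd 38183 = n62594 := ndS (p := 19388) (l := 5) rfl N19388 D62594
theorem N38184 : nd 38184 = n62595 := ndS (p := 19388) (l := 6) rfl N19388 D62595
theorem N38185 : nd 38185 = n62596 := ndS (p := 19389) (l := 6) rfl N19389 D62596
theorem N38186 : nd 38186 = n62597 := ndS (p := 19390) (l := 0) rfl N19390 D62597
theorem N38187 : nd 38187 = n62598 := ndS (p := 19390) (l := 5) rfl N19390 D62598
theorem N38188 : nd 38188 = n62599 := ndS (p := 19390) (l := 7) rfl N19390 D62599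
theorem N38189 : nd 38189 = n62600 := ndS (p := 19391) (l := 4) rfl N19391 D62600
theorem N38190 : nd 38190 = n62601 := ndS (p := 19391) (l := 5) rfl N19391 D62601
theorem N38191 : nd 38191 = n62602 := ndS (p := 19391) (l := 6) rfl N19391 D62602
theorem N38192 : nd 38192 = n62603 := ndS (p := 19393) (l := 0) rfl N19393 D62603
theorem N38193 : nd 38193 = n62604 := ndS (p := 19393) (l := 1) rfl N19393 D62604
theorem N38194 : nd 38194 = n62605 := ndS (p := 19393) (l := 4) rfl N19393 D62605
theorem N38195 : nd 38195 = n62606 := ndS (p := 19393) (l := 7) rfl N19393 D62606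
theorem N38196 : nd 38196 = n62607 := ndS (p := 19395) (l := 3) rfl N19395 D62607
theorem N38197 : nd 38197 = n62608 := ndS (p := 19396) (l := 6) rfl N19396 D62608
theorem N38198 : nd 38198 = n62609 := ndS (p := 19397) (l := 2) rfl N19397 D62609
theorem N38199 : nd 38199 = n62610 := ndS (p := 19397) (l := 5) rfl N19397 D62610
theorem N38200 : nd 38200 = n62611 := ndS (p := 19397) (l := 6) rfl N19397 D62611
theorem N38201 : nd 38201 = n62612 := ndS (p := 19398) (l := 6) rfl N19398 D62612
theorem N38202 : nd 38202 = n62613 := ndS (p := 19400) (l := 0) rfl N19400 D62613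
theorem N38203 : nd 38203 = n62614 := ndS (p := 19400) (l := 1) rfl N19400 D62614
theorem N38204 : nd 38204 = n62615 := ndS (p := 19402) (l := 6) rfl N19402 D62615
theorem N38205 : nd 38205 = n62616 := ndS (p := 19403) (l := 6) rfl N19403 D62616
theorem N38206 : nd 38206 = n62617 := ndS (p := 19404) (l := 1) rfl N19404 D62617
theorem N38207 : nd 38207 = n62618 := ndS (p := 19404) (l := 4) rfl N19404 D62618
theorem N38208 : nd 38208 = n62619 := ndS (p := 19404) (l := 6) rfl N19404 D62619
theorem N38209 : nd 38209 = n62620 := ndS (p := 19405) (l := 3) rfl N19405 D62620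
theorem N38210 : nd 38210 = n62621 := ndS (p := 19405) (l := 6) rfl N19405 D62621
theorem N38211 : nd 38211 = n62622 := ndS (p := 19406) (l := 3) rfl N19406 D62622
theorem N38212 : nd 38212 = n62623 := ndS (p := 19406) (l := 6) rfl N19406 D62623
theorem N38213 : nd 38213 = n62624 := ndS (p := 19407) (l := 0) rfl N19407 D62624
theorem N38214 : nd 38214 = n62625 := ndS (p := 19407) (l := 1) rfl N19407 D62625
theorem N38215 : nd 38215 = n62626 := ndS (p := 19407) (l := 7) rfl N19407 D62626
theorem N38216 : nd 38216 = n62627 := ndS (p := 19408) (l := 6) rfl N19408 D62627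
theorem N38217 : nd 38217 = n62628 := ndS (p := 19410) (l := 3) rfl N19410 D62628
theorem N38218 : nd 38218 = n62629 := ndS (p := 19410) (l := 5) rfl N19410 D62629
theorem N38219 : nd 38219 = n62630 := ndS (p := 19411) (l := 3) rfl N19411 D62630
theorem N38220 : nd 38220 = n62631 := ndS (p := 19411) (l := 5) rfl N19411 D62631
theorem N38221 : nd 38221 = n62632 := ndS (p := 19411) (l := 6) rfl N19411 D62632
theorem N38222 : nd 38222 = n62634 := ndS (p := 19412) (l := 1) rfl N19412 D62634
theorem N38223 : nd 38223 = n62635 := ndS (p := 19412) (l := 7) rfl N19412 D62635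
theorem N38224 : nd 38224 = n62636 := ndS (p := 19413) (l := 3) rfl N19413 D62636
theorem N38225 : nd 38225 = n62637 := ndS (p := 19413) (l := 5) rfl N19413 D62637
theorem N38226 : nd 38226 = n62638 := ndS (p := 19413) (l := 6) rfl N19413 D62638
theorem N38227 : nd 38227 = n62639 := ndS (p := 19414) (l := 3) rfl N19414 D62639
theorem N38228 : nd 38228 = n62640 := ndS (p := 19414) (l := 5) rfl N19414 D62640
theorem N38229 : nd 38229 = n62641 := ndS (p := 19414) (l := 6) rfl N19414 D62641
theorem N38230 : nd 38230 = n62642 := ndS (p := 19415) (l := 0) rfl N19415 D62642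
theorem N38231 : nd 38231 = n62643 := ndS (p := 19415) (l := 1) rfl N19415 D62643
theorem N38232 : nd 38232 = n62644 := ndS (p := 19415) (l := 2) rfl N19415 D62644
theorem N38233 : nd 38233 = n62645 := ndS (p := 19415) (l := 5) rfl N19415 D62645
theorem N38234 : nd 38234 = n62647 := ndS (p := 19416) (l := 0) rfl N19416 D62647
theorem N38235 : nd 38235 = n62648 := ndS (p := 19416) (l := 1) rfl N19416 D62648
theorem N38236 : nd 38236 = n62649 := ndS (p := 19416) (l := 4) rfl N19416 D62649
theorem N38237 : nd 38237 = n62654 := ndS (p := 19418) (l := 3) rfl N19418 D62654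
theorem N38238 : nd 38238 = n62656 := ndS (p := 19419) (l := 0) rfl N19419 D62656
theorem N38239 : nd 38239 = n62657 := ndS (p := 19419) (l := 1) rfl N19419 D62657
theorem N38240 : nd 38240 = n62658 := ndS (p := 19419) (l := 4) rfl N19419 D62658
theorem N38241 : nd 38241 = n62659 := ndS (p := 19421) (l := 0) rfl N19421 D62659
theorem N38242 : nd 38242 = n62660 := ndS (p := 19421) (l := 3) rfl N19421 D62660
theorem N38243 : nd 38243 = n62661 := ndS (p := 19421) (l := 5) rfl N19421 D62661
theorem N38244 : nd 38244 = n62663 := ndS (p := 19422) (l := 3) rfl N19422 D62663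
theorem N38245 : nd 38245 = n62664 := ndS (p := 19422) (l := 4) rfl N19422 D62664
theorem N38246 : nd 38246 = n62666 := ndS (p := 19422) (l := 6) rfl N19422 D62666
theorem N38247 : nd 38247 = n62668 := ndS (p := 19423) (l := 3) rfl N19423 D62668
theorem N38248 : nd 38248 = n62669 := ndS (p := 19423) (l := 4) rfl N19423 D62669
theorem N38249 : nd 38249 = n62671 := ndS (p := 19423) (l := 6) rfl N19423 D62671
theorem N38250 : nd 38250 = n62672 := ndS (p := 19424) (l := 6) rfl N19424 D62672
theorem N38251 : nd 38251 = n62673 := ndS (p := 19425) (l := 0) rfl N19425 D62673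
theorem N38252 : nd 38252 = n62675 := ndS (p := 19425) (l := 5) rfl N19425 D62675
theorem N38253 : nd 38253 = n62676 := ndS (p := 19425) (l := 7) rfl N19425 D62676
theorem N38254 : nd 38254 = n62678 := ndS (p := 19426) (l := 1) rfl N19426 D62678
theorem N38255 : nd 38255 = n62681 := ndS (p := 19428) (l := 0) rfl N19428 D62681
theorem N38256 : nd 38256 = n62682 := ndS (p := 19428) (l := 2) rfl N19428 D62682
theorem N38257 : nd 38257 = n62683 := ndS (p := 19428) (l := 4) rfl N19428 D62683
theorem N38258 : nd 38258 = n62684 := ndS (p := 19429) (l := 3) rfl N19429 D62684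
theorem N38259 : nd 38259 = n62685 := ndS (p := 19430) (l := 3) rfl N19430 D62685
theorem N38260 : nd 38260 = n62686 := ndS (p := 19431) (l := 3) rfl N19431 D62686
theorem N38261 : nd 38261 = n62687 := ndS (p := 19432) (l := 0) rfl N19432 D62687
theorem N38262 : nd 38262 = n62688 := ndS (p := 19432) (l := 1) rfl N19432 D62688
theorem N38263 : nd 38263 = n62690 := ndS (p := 19433) (l := 5) rfl N19433 D62690
theorem N38264 : nd 38264 = n62691 := ndS (p := 19434) (l := 0) rfl N19434 D62691
theorem N38265 : nd 38265 = n62692 := ndS (p := 19434) (l := 1) rfl N19434 D62692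
theorem N38266 : nd 38266 = n62693 := ndS (p := 19434) (l := 5) rfl N19434 D62693
theorem N38267 : nd 38267 = n62694 := ndS (p := 19434) (l := 6) rfl N19434 D62694
theorem N38268 : nd 38268 = n62695 := ndS (p := 19435) (l := 0) rfl N19435 D62695
theorem N38269 : nd 38269 = n62697 := ndS (p := 19435) (l := 7) rfl N19435 D62697
theorem N38270 : nd 38270 = n62699 := ndS (p := 19436) (l := 3) rfl N19436 D62699
theorem N38271 : nd 38271 = n62701 := ndS (p := 19436) (l := 5) rfl N19436 D62701
theorem N38272 : nd 38272 = n62702 := ndS (p := 19436) (l := 6) rfl N19436 D62702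
theorem N38273 : nd 38273 = n62704 := ndS (p := 19437) (l := 3) rfl N19437 D62704
theorem N38274 : nd 38274 = n62706 := ndS (p := 19437) (l := 5) rfl N19437 D62706
theorem N38275 : nd 38275 = n62707 := ndS (p := 19437) (l := 6) rfl N19437 D62707
theorem N38276 : nd 38276 = n62710 := ndS (p := 19439) (l := 1) rfl N19439 D62710
theorem N38277 : nd 38277 = n62711 := ndS (p := 19439) (l := 7) rfl N19439 D62711
theorem N38278 : nd 38278 = n62714 := ndS (p := 19440) (l := 0) rfl N19440 D62714
theorem N38279 : nd 38279 = n62716 := ndS (p := 19440) (l := 7) rfl N19440 D62716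
theorem N38280 : nd 38280 = n62718 := ndS (p := 19441) (l := 3) rfl N19441 D62718
theorem N38281 : nd 38281 = n62721 := ndS (p := 19441) (l := 6) rfl N19441 D62721
theorem N38282 : nd 38282 = n62727 := ndS (p := 19444) (l := 3) rfl N19444 D62727
theorem N38283 : nd 38283 = n62728 := ndS (p := 19445) (l := 5) rfl N19445 D62728
theorem N38284 : nd 38284 = n62729 := ndS (p := 19446) (l := 4) rfl N19446 D62729
theorem N38285 : nd 38285 = n62730 := ndS (p := 19446) (l := 6) rfl N19446 D62730
theorem N38286 : nd 38286 = n62731 := ndS (p := 19447) (l := 5) rfl N19447 D62731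
theorem N38287 : nd 38287 = n62732 := ndS (p := 19448) (l := 3) rfl N19448 D62732
theorem N38288 : nd 38288 = n62733 := ndS (p := 19448) (l := 6) rfl N19448 D62733
theorem N38289 : nd 38289 = n62734 := ndS (p := 19449) (l := 0) rfl N19449 D62734
theorem N38290 : nd 38290 = n62735 := ndS (p := 19449) (l := 1) rfl N19449 D62735
theorem N38291 : nd 38291 = n62736 := ndS (p := 19449) (l := 5) rfl N19449 D62736
theorem N38292 : nd 38292 = n62737 := ndS (p := 19449) (l := 7) rfl N19449 D62737
theorem N38293 : nd 38293 = n62739 := ndS (p := 19451) (l := 6) rfl N19451 D62739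
theorem N38294 : nd 38294 = n62740 := ndS (p := 19452) (l := 0) rfl N19452 D62740
theorem N38295 : nd 38295 = n62741 := ndS (p := 19452) (l := 1) rfl N19452 D62741
theorem N38296 : nd 38296 = n62742 := ndS (p := 19452) (l := 5) rfl N19452 D62742
theorem N38297 : nd 38297 = n62743 := ndS (p := 19452) (l := 6) rfl N19452 D62743
theorem N38298 : nd 38298 = n62744 := ndS (p := 19453) (l := 0) rfl N19453 D62744
theorem N38299 : nd 38299 = n62745 := ndS (p := 19453) (l := 1) rfl N19453 D62745
theorem N38300 : nd 38300 = n62746 := ndS (p := 19453) (l := 5) rfl N19453 D62746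
theorem N38301 : nd 38301 = n62747 := ndS (p := 19453) (l := 7) rfl N19453 D62747
theorem N38302 : nd 38302 = n62748 := ndS (p := 19454) (l := 4) rfl N19454 D62748
theorem N38303 : nd 38303 = n62749 := ndS (p := 19455) (l := 3) rfl N19455 D62749
theorem N38304 : nd 38304 = n62752 := ndS (p := 19455) (l := 6) rfl N19455 D62752
theorem N38305 : nd 38305 = n62755 := ndS (p := 19456) (l := 0) rfl N19456 D62755
theorem N38306 : nd 38306 = n62756 := ndS (p := 19456) (l := 1) rfl N19456 D62756
theorem N38307 : nd 38307 = n62757 := ndS (p := 19456) (l := 7) rfl N19456 D62757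
theorem N38308 : nd 38308 = n62758 := ndS (p := 19459) (l := 5) rfl N19459 D62758
theorem N38309 : nd 38309 = n62760 := ndS (p := 19460) (l := 6) rfl N19460 D62760
theorem N38310 : nd 38310 = n62761 := ndS (p := 19461) (l := 5) rfl N19461 D62761
theorem N38311 : nd 38311 = n62762 := ndS (p := 19462) (l := 5) rfl N19462 D62762
theorem N38312 : nd 38312 = n62765 := ndS (p := 19464) (l := 5) rfl N19464 D62765
theorem N38313 : nd 38313 = n62766 := ndS (p := 19465) (l := 4) rfl N19465 D62766
theorem N38314 : nd 38314 = n62767 := ndS (p := 19465) (l := 6) rfl N19465 D62767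
theorem N38315 : nd 38315 = n62768 := ndS (p := 19467) (l := 1) rfl N19467 D62768
theorem N38316 : nd 38316 = n62769 := ndS (p := 19467) (l := 4) rfl N19467 D62769
theorem N38317 : nd 38317 = n62770 := ndS (p := 19467) (l := 6) rfl N19467 D62770
theorem N38318 : nd 38318 = n62773 := ndS (p := 19470) (l := 3) rfl N19470 D62773
theorem N38319 : nd 38319 = n62774 := ndS (p := 19470) (l := 4) rfl N19470 D62774
theorem N38320 : nd 38320 = n62775 := ndS (p := 19470) (l := 6) rfl N19470 D62775
theorem N38321 : nd 38321 = n62776 := ndS (p := 19471) (l := 1) rfl N19471 D62776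
theorem N38322 : nd 38322 = n62777 := ndS (p := 19471) (l := 5) rfl N19471 D62777
theorem N38323 : nd 38323 = n62778 := ndS (p := 19471) (l := 6) rfl N19471 D62778
theorem N38324 : nd 38324 = n62779 := ndS (p := 19472) (l := 0) rfl N19472 D62779
theorem N38325 : nd 38325 = n62780 := ndS (p := 19472) (l := 1) rfl N19472 D62780
theorem N38326 : nd 38326 = n62781 := ndS (p := 19472) (l := 7) rfl N19472 D62781
theorem N38327 : nd 38327 = n62782 := ndS (p := 19474) (l := 3) rfl N19474 D62782
theorem N38328 : nd 38328 = n62784 := ndS (p := 19475) (l := 3) rfl N19475 D62784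
theorem N38329 : nd 38329 = n62787 := ndS (p := 19475) (l := 6) rfl N19475 D62787
theorem N38330 : nd 38330 = n62789 := ndS (p := 19476) (l := 3) rfl N19476 D62789
theorem N38331 : nd 38331 = n62793 := ndS (p := 19479) (l := 6) rfl N19479 D62793
theorem N38332 : nd 38332 = n62796 := ndS (p := 19482) (l := 3) rfl N19482 D62796
theorem N38333 : nd 38333 = n62798 := ndS (p := 19482) (l := 6) rfl N19482 D62798
theorem N38334 : nd 38334 = n62799 := ndS (p := 19483) (l := 4) rfl N19483 D62799
theorem N38335 : nd 38335 = n62800 := ndS (p := 19483) (l := 6) rfl N19483 D62800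
theorem N38336 : nd 38336 = n62808 := ndS (p := 19486) (l := 3) rfl N19486 D62808
theorem N38337 : nd 38337 = n62811 := ndS (p := 19486) (l := 6) rfl N19486 D62811
theorem N38338 : nd 38338 = n62812 := ndS (p := 19487) (l := 3) rfl N19487 D62812
theorem N38339 : nd 38339 = n62815 := ndS (p := 19488) (l := 1) rfl N19488 D62815
theorem N38340 : nd 38340 = n62818 := ndS (p := 19492) (l := 5) rfl N19492 D62818
theorem N38341 : nd 38341 = n62819 := ndS (p := 19493) (l := 4) rfl N19493 D62819
theorem N38342 : nd 38342 = n62820 := ndS (p := 19493) (l := 6) rfl N19493 D62820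
theorem N38343 : nd 38343 = n62823 := ndS (p := 19494) (l := 0) rfl N19494 D62823
theorem N38344 : nd 38344 = n62825 := ndS (p := 19494) (l := 7) rfl N19494 D62825
theorem N38345 : nd 38345 = n62826 := ndS (p := 19495) (l := 0) rfl N19495 D62826
theorem N38346 : nd 38346 = n62827 := ndS (p := 19495) (l := 1) rfl N19495 D62827
theorem N38347 : nd 38347 = n62828 := ndS (p := 19495) (l := 2) rfl N19495 D62828
theorem N38348 : nd 38348 = n62831 := ndS (p := 19496) (l := 1) rfl N19496 D62831
theorem N38349 : nd 38349 = n62832 := ndS (p := 19496) (l := 5) rfl N19496 D62832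
theorem N38350 : nd 38350 = n62843 := ndS (p := 19499) (l := 4) rfl N19499 D62843
theorem N38351 : nd 38351 = n62844 := ndS (p := 19499) (l := 6) rfl N19499 D62844
theorem N38352 : nd 38352 = n62845 := ndS (p := 19500) (l := 5) rfl N19500 D62845
theorem N38353 : nd 38353 = n62846 := ndS (p := 19500) (l := 6) rfl N19500 D62846
theorem N38354 : nd 38354 = n62847 := ndS (p := 19501) (l := 0) rfl N19501 D62847
theorem N38355 : nd 38355 = n62848 := ndS (p := 19501) (l := 1) rfl N19501 D62848
theorem N38356 : nd 38356 = n62849 := ndS (p := 19501) (l := 7) rfl N19501 D62849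
theorem N38357 : nd 38357 = n62851 := ndS (p := 19502) (l := 3) rfl N19502 D62851
theorem N38358 : nd 38358 = n62853 := ndS (p := 19502) (l := 5) rfl N19502 D62853
theorem N38359 : nd 38359 = n62854 := ndS (p := 19502) (l := 6) rfl N19502 D62854
theorem N38360 : nd 38360 = n62858 := ndS (p := 19503) (l := 6) rfl N19503 D62858
theorem N38361 : nd 38361 = n62859 := ndS (p := 19505) (l := 4) rfl N19505 D62859
theorem N38362 : nd 38362 = n62860 := ndS (p := 19505) (l := 6) rfl N19505 D62860
theorem N38363 : nd 38363 = n62861 := ndS (p := 19506) (l := 1) rfl N19506 D62861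
theorem N38364 : nd 38364 = n62863 := ndS (p := 19506) (l := 6) rfl N19506 D62863
theorem N38365 : nd 38365 = n62865 := ndS (p := 19507) (l := 1) rfl N19507 D62865
theorem N38366 : nd 38366 = n62866 := ndS (p := 19507) (l := 7) rfl N19507 D62866
theorem N38367 : nd 38367 = n62871 := ndS (p := 19508) (l := 6) rfl N19508 D62871
theorem N38368 : nd 38368 = n62873 := ndS (p := 19509) (l := 3) rfl N19509 D62873
theorem N38369 : nd 38369 = n62876 := ndS (p := 19509) (l := 6) rfl N19509 D62876
theorem N38370 : nd 38370 = n62878 := ndS (p := 19511) (l := 3) rfl N19511 D62878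
theorem N38371 : nd 38371 = n62879 := ndS (p := 19511) (l := 4) rfl N19511 D62879
theorem N38372 : nd 38372 = n62881 := ndS (p := 19511) (l := 6) rfl N19511 D62881
theorem N38373 : nd 38373 = n62883 := ndS (p := 19512) (l := 3) rfl N19512 D62883
theorem N38374 : nd 38374 = n62884 := ndS (p := 19512) (l := 4) rfl N19512 D62884
theorem N38375 : nd 38375 = n62886 := ndS (p := 19512) (l := 6) rfl N19512 D62886
theorem N38376 : nd 38376 = n62887 := ndS (p := 19513) (l := 6) rfl N19513 D62887
theorem N38377 : nd 38377 = n62891 := ndS (p := 19514) (l := 7) rfl N19514 D62891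
theorem N38378 : nd 38378 = n62911 := ndS (p := 19516) (l := 5) rfl N19516 D62911
theorem N38379 : nd 38379 = n62912 := ndS (p := 19516) (l := 7) rfl N19516 D62912
theorem N38380 : nd 38380 = n62914 := ndS (p := 19517) (l := 1) rfl N19517 D62914
theorem N38381 : nd 38381 = n62915 := ndS (p := 19517) (l := 2) rfl N19517 D62915
theorem N38382 : nd 38382 = n62917 := ndS (p := 19517) (l := 6) rfl N19517 D62917
theorem N38383 : nd 38383 = n62921 := ndS (p := 19518) (l := 0) rfl N19518 D62921
theorem N38384 : nd 38384 = n62925 := ndS (p := 19520) (l := 3) rfl N19520 D62925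
theorem N38385 : nd 38385 = n62928 := ndS (p := 19520) (l := 6) rfl N19520 D62928
theorem N38386 : nd 38386 = n62930 := ndS (p := 19521) (l := 3) rfl N19521 D62930
theorem N38387 : nd 38387 = n62933 := ndS (p := 19521) (l := 6) rfl N19521 D62933
theorem N38388 : nd 38388 = n62934 := ndS (p := 19522) (l := 3) rfl N19522 D62934
theorem N38389 : nd 38389 = n62935 := ndS (p := 19522) (l := 5) rfl N19522 D62935
theorem N38390 : nd 38390 = n62936 := ndS (p := 19523) (l := 0) rfl N19523 D62936
theorem N38391 : nd 38391 = n62937 := ndS (p := 19523) (l := 1) rfl N19523 D62937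
theorem N38392 : nd 38392 = n62938 := ndS (p := 19523) (l := 2) rfl N19523 D62938
theorem N38393 : nd 38393 = n62939 := ndS (p := 19523) (l := 5) rfl N19523 D62939
theorem N38394 : nd 38394 = n62940 := ndS (p := 19524) (l := 4) rfl N19524 D62940
theorem N38395 : nd 38395 = n62942 := ndS (p := 19525) (l := 3) rfl N19525 D62942
theorem N38396 : nd 38396 = n62943 := ndS (p := 19525) (l := 5) rfl N19525 D62943
theorem N38397 : nd 38397 = n62944 := ndS (p := 19526) (l := 6) rfl N19526 D62944
theorem N38398 : nd 38398 = n62945 := ndS (p := 19527) (l := 5) rfl N19527 D62945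
theorem N38399 : nd 38399 = n62946 := ndS (p := 19527) (l := 6) rfl N19527 D62946
theorem N38400 : nd 38400 = n62947 := ndS (p := 19528) (l := 0) rfl N19528 D62947
theorem N38401 : nd 38401 = n62948 := ndS (p := 19528) (l := 1) rfl N19528 D62948
theorem N38402 : nd 38402 = n62949 := ndS (p := 19528) (l := 2) rfl N19528 D62949
theorem N38403 : nd 38403 = n62950 := ndS (p := 19528) (l := 5) rfl N19528 D62950
theorem N38404 : nd 38404 = n62951 := ndS (p := 19529) (l := 0) rfl N19529 D62951
theorem N38405 : nd 38405 = n62952 := ndS (p := 19529) (l := 6) rfl N19529 D62952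
theorem N38406 : nd 38406 = n62953 := ndS (p := 19530) (l := 4) rfl N19530 D62953
theorem N38407 : nd 38407 = n62954 := ndS (p := 19530) (l := 6) rfl N19530 D62954
theorem N38408 : nd 38408 = n62956 := ndS (p := 19531) (l := 3) rfl N19531 D62956
theorem N38409 : nd 38409 = n62957 := ndS (p := 19531) (l := 5) rfl N19531 D62957
theorem N38410 : nd 38410 = n62958 := ndS (p := 19532) (l := 3) rfl N19532 D62958
theorem N38411 : nd 38411 = n62959 := ndS (p := 19532) (l := 5) rfl N19532 D62959
theorem N38412 : nd 38412 = n62960 := ndS (p := 19532) (l := 6) rfl N19532 D62960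
theorem N38413 : nd 38413 = n62961 := ndS (p := 19534) (l := 3) rfl N19534 D62961
theorem N38414 : nd 38414 = n62962 := ndS (p := 19534) (l := 5) rfl N19534 D62962
theorem N38415 : nd 38415 = n62963 := ndS (p := 19534) (l := 6) rfl N19534 D62963
theorem N38416 : nd 38416 = n62965 := ndS (p := 19535) (l := 1) rfl N19535 D62965
theorem N38417 : nd 38417 = n62966 := ndS (p := 19535) (l := 7) rfl N19535 D62966
theorem N38418 : nd 38418 = n62967 := ndS (p := 19536) (l := 3) rfl N19536 D62967
theorem N38419 : nd 38419 = n62968 := ndS (p := 19536) (l := 5) rfl N19536 D62968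
theorem N38420 : nd 38420 = n62969 := ndS (p := 19536) (l := 6) rfl N19536 D62969
theorem N38421 : nd 38421 = n62970 := ndS (p := 19537) (l := 0) rfl N19537 D62970
theorem N38422 : nd 38422 = n62971 := ndS (p := 19537) (l := 1) rfl N19537 D62971
theorem N38423 : nd 38423 = n62972 := ndS (p := 19537) (l := 2) rfl N19537 D62972
theorem N38424 : nd 38424 = n62973 := ndS (p := 19537) (l := 5) rfl N19537 D62973
theorem N38425 : nd 38425 = n62974 := ndS (p := 19537) (l := 7) rfl N19537 D62974
theorem N38426 : nd 38426 = n62975 := ndS (p := 19538) (l := 1) rfl N19538 D62975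
theorem N38427 : nd 38427 = n62976 := ndS (p := 19538) (l := 6) rfl N19538 D62976
theorem N38428 : nd 38428 = n62977 := ndS (p := 19539) (l := 6) rfl N19539 D62977
theorem N38429 : nd 38429 = n62978 := ndS (p := 19542) (l := 3) rfl N19542 D62978
theorem N38430 : nd 38430 = n62979 := ndS (p := 19542) (l := 6) rfl N19542 D62979
theorem N38431 : nd 38431 = n62980 := ndS (p := 19543) (l := 0) rfl N19543 D62980
theorem N38432 : nd 38432 = n62981 := ndS (p := 19543) (l := 1) rfl N19543 D62981
theorem N38433 : nd 38433 = n62982 := ndS (p := 19543) (l := 7) rfl N19543 D62982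
theorem N38434 : nd 38434 = n62983 := ndS (p := 19545) (l := 6) rfl N19545 D62983
theorem N38435 : nd 38435 = n62984 := ndS (p := 19546) (l := 6) rfl N19546 D62984
theorem N38436 : nd 38436 = n62985 := ndS (p := 19548) (l := 3) rfl N19548 D62985
theorem N38437 : nd 38437 = n62986 := ndS (p := 19548) (l := 6) rfl N19548 D62986
theorem N38438 : nd 38438 = n62987 := ndS (p := 19549) (l := 0) rfl N19549 D62987
theorem N38439 : nd 38439 = n62988 := ndS (p := 19549) (l := 1) rfl N19549 D62988
theorem N38440 : nd 38440 = n62989 := ndS (p := 19549) (l := 7) rfl N19549 D62989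
theorem N38441 : nd 38441 = n62990 := ndS (p := 19551) (l := 3) rfl N19551 D62990
theorem N38442 : nd 38442 = n62993 := ndS (p := 19552) (l := 0) rfl N19552 D62993
theorem N38443 : nd 38443 = n62994 := ndS (p := 19552) (l := 1) rfl N19552 D62994
theorem N38444 : nd 38444 = n62995 := ndS (p := 19552) (l := 7) rfl N19552 D62995
theorem N38445 : nd 38445 = n62996 := ndS (p := 19553) (l := 3) rfl N19553 D62996
theorem N38446 : nd 38446 = n62999 := ndS (p := 19554) (l := 3) rfl N19554 D62999
theorem N38447 : nd 38447 = n63001 := ndS (p := 19554) (l := 6) rfl N19554 D63001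
theorem N38448 : nd 38448 = n63002 := ndS (p := 19555) (l := 0) rfl N19555 D63002
theorem N38449 : nd 38449 = n63003 := ndS (p := 19555) (l := 1) rfl N19555 D63003
theorem N38450 : nd 38450 = n63004 := ndS (p := 19555) (l := 2) rfl N19555 D63004
theorem N38451 : nd 38451 = n63005 := ndS (p := 19555) (l := 5) rfl N19555 D63005
theorem N38452 : nd 38452 = n63007 := ndS (p := 19556) (l := 0) rfl N19556 D63007
theorem N38453 : nd 38453 = n63009 := ndS (p := 19557) (l := 0) rfl N19557 D63009
theorem N38454 : nd 38454 = n63010 := ndS (p := 19557) (l := 1) rfl N19557 D63010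
theorem N38455 : nd 38455 = n63012 := ndS (p := 19557) (l := 7) rfl N19557 D63012
theorem N38456 : nd 38456 = n63015 := ndS (p := 19558) (l := 4) rfl N19558 D63015
theorem N38457 : nd 38457 = n63020 := ndS (p := 19560) (l := 6) rfl N19560 D63020
theorem N38458 : nd 38458 = n63021 := ndS (p := 19561) (l := 3) rfl N19561 D63021
theorem N38459 : nd 38459 = n63022 := ndS (p := 19561) (l := 5) rfl N19561 D63022
theorem N38460 : nd 38460 = n63023 := ndS (p := 19561) (l := 6) rfl N19561 D63023
theorem N38461 : nd 38461 = n63024 := ndS (p := 19562) (l := 0) rfl N19562 D63024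
theorem N38462 : nd 38462 = n63025 := ndS (p := 19562) (l := 7) rfl N19562 D63025
theorem N38463 : nd 38463 = n63026 := ndS (p := 19563) (l := 6) rfl N19563 D63026
theorem N38464 : nd 38464 = n63027 := ndS (p := 19564) (l := 3) rfl N19564 D63027
theorem N38465 : nd 38465 = n63028 := ndS (p := 19564) (l := 6) rfl N19564 D63028
theorem N38466 : nd 38466 = n63029 := ndS (p := 19565) (l := 0) rfl N19565 D63029
theorem N38467 : nd 38467 = n63030 := ndS (p := 19565) (l := 5) rfl N19565 D63030
theorem N38468 : nd 38468 = n63031 := ndS (p := 19565) (l := 7) rfl N19565 D63031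
theorem N38469 : nd 38469 = n63032 := ndS (p := 19566) (l := 4) rfl N19566 D63032
theorem N38470 : nd 38470 = n63033 := ndS (p := 19567) (l := 0) rfl N19567 D63033
theorem N38471 : nd 38471 = n63034 := ndS (p := 19567) (l := 1) rfl N19567 D63034
theorem N38472 : nd 38472 = n63035 := ndS (p := 19567) (l := 2) rfl N19567 D63035
theorem N38473 : nd 38473 = n63036 := ndS (p := 19567) (l := 5) rfl N19567 D63036
theorem N38474 : nd 38474 = n63037 := ndS (p := 19567) (l := 6) rfl N19567 D63037
theorem N38475 : nd 38475 = n63038 := ndS (p := 19568) (l := 6) rfl N19568 D63038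
theorem N38476 : nd 38476 = n63039 := ndS (p := 19569) (l := 0) rfl N19569 D63039
theorem N38477 : nd 38477 = n63040 := ndS (p := 19569) (l := 1) rfl N19569 D63040
theorem N38478 : nd 38478 = n63041 := ndS (p := 19569) (l := 5) rfl N19569 D63041
theorem N38479 : nd 38479 = n63042 := ndS (p := 19569) (l := 7) rfl N19569 D63042
theorem N38480 : nd 38480 = n63043 := ndS (p := 19570) (l := 4) rfl N19570 D63043
theorem N38481 : nd 38481 = n63045 := ndS (p := 19571) (l := 1) rfl N19571 D63045
theorem N38482 : nd 38482 = n63046 := ndS (p := 19571) (l := 4) rfl N19571 D63046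
theorem N38483 : nd 38483 = n63047 := ndS (p := 19571) (l := 7) rfl N19571 D63047
theorem N38484 : nd 38484 = n63048 := ndS (p := 19573) (l := 3) rfl N19573 D63048
theorem N38485 : nd 38485 = n63049 := ndS (p := 19573) (l := 5) rfl N19573 D63049
theorem N38486 : nd 38486 = n63050 := ndS (p := 19574) (l := 0) rfl N19574 D63050
theorem N38487 : nd 38487 = n63051 := ndS (p := 19574) (l := 1) rfl N19574 D63051
theorem N38488 : nd 38488 = n63052 := ndS (p := 19575) (l := 3) rfl N19575 D63052
theorem N38489 : nd 38489 = n63053 := ndS (p := 19575) (l := 6) rfl N19575 D63053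
theorem N38490 : nd 38490 = n63054 := ndS (p := 19576) (l := 0) rfl N19576 D63054
theorem N38491 : nd 38491 = n63055 := ndS (p := 19576) (l := 1) rfl N19576 D63055
theorem N38492 : nd 38492 = n63056 := ndS (p := 19576) (l := 2) rfl N19576 D63056
theorem N38493 : nd 38493 = n63057 := ndS (p := 19576) (l := 5) rfl N19576 D63057
theorem N38494 : nd 38494 = n63058 := ndS (p := 19576) (l := 6) rfl N19576 D63058
theorem N38495 : nd 38495 = n63059 := ndS (p := 19577) (l := 0) rfl N19577 D63059
theorem N38496 : nd 38496 = n63061 := ndS (p := 19577) (l := 6) rfl N19577 D63061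
theorem N38497 : nd 38497 = n63062 := ndS (p := 19578) (l := 0) rfl N19578 D63062
theorem N38498 : nd 38498 = n63063 := ndS (p := 19578) (l := 1) rfl N19578 D63063
theorem N38499 : nd 38499 = n63064 := ndS (p := 19578) (l := 5) rfl N19578 D63064
theorem N38500 : nd 38500 = n63065 := ndS (p := 19578) (l := 7) rfl N19578 D63065
theorem N38501 : nd 38501 = n63068 := ndS (p := 19579) (l := 4) rfl N19579 D63068
theorem N38502 : nd 38502 = n63069 := ndS (p := 19579) (l := 5) rfl N19579 D63069
theorem N38503 : nd 38503 = n63072 := ndS (p := 19580) (l := 4) rfl N19580 D63072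
theorem N38504 : nd 38504 = n63074 := ndS (p := 19580) (l := 6) rfl N19580 D63074
theorem N38505 : nd 38505 = n63075 := ndS (p := 19582) (l := 3) rfl N19582 D63075
theorem N38506 : nd 38506 = n63076 := ndS (p := 19582) (l := 5) rfl N19582 D63076
theorem N38507 : nd 38507 = n63077 := ndS (p := 19582) (l := 6) rfl N19582 D63077
theorem N38508 : nd 38508 = n63078 := ndS (p := 19583) (l := 0) rfl N19583 D63078
theorem N38509 : nd 38509 = n63079 := ndS (p := 19583) (l := 1) rfl N19583 D63079
theorem N38510 : nd 38510 = n63080 := ndS (p := 19583) (l := 7) rfl N19583 D63080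
theorem N38511 : nd 38511 = n63081 := ndS (p := 19584) (l := 0) rfl N19584 D63081
theorem N38512 : nd 38512 = n63082 := ndS (p := 19584) (l := 1) rfl N19584 D63082
theorem N38513 : nd 38513 = n63083 := ndS (p := 19584) (l := 2) rfl N19584 D63083
theorem N38514 : nd 38514 = n63084 := ndS (p := 19584) (l := 5) rfl N19584 D63084
theorem N38515 : nd 38515 = n63085 := ndS (p := 19584) (l := 6) rfl N19584 D63085
theorem N38516 : nd 38516 = n63086 := ndS (p := 19585) (l := 6) rfl N19585 D63086
theorem N38517 : nd 38517 = n63087 := ndS (p := 19586) (l := 0) rfl N19586 D63087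
theorem N38518 : nd 38518 = n63088 := ndS (p := 19586) (l := 1) rfl N19586 D63088
theorem N38519 : nd 38519 = n63089 := ndS (p := 19586) (l := 5) rfl N19586 D63089
theorem N38520 : nd 38520 = n63090 := ndS (p := 19586) (l := 7) rfl N19586 D63090
theorem N38521 : nd 38521 = n63093 := ndS (p := 19587) (l := 4) rfl N19587 D63093
theorem N38522 : nd 38522 = n63094 := ndS (p := 19587) (l := 6) rfl N19587 D63094
theorem N38523 : nd 38523 = n63097 := ndS (p := 19588) (l := 4) rfl N19588 D63097
theorem N38524 : nd 38524 = n63098 := ndS (p := 19590) (l := 0) rfl N19590 D63098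
theorem N38525 : nd 38525 = n63099 := ndS (p := 19590) (l := 1) rfl N19590 D63099
theorem N38526 : nd 38526 = n63100 := ndS (p := 19590) (l := 2) rfl N19590 D63100
theorem N38527 : nd 38527 = n63101 := ndS (p := 19590) (l := 5) rfl N19590 D63101
theorem N38528 : nd 38528 = n63102 := ndS (p := 19590) (l := 6) rfl N19590 D63102
theorem N38529 : nd 38529 = n63103 := ndS (p := 19591) (l := 0) rfl N19591 D63103
theorem N38530 : nd 38530 = n63104 := ndS (p := 19591) (l := 6) rfl N19591 D63104
theorem N38531 : nd 38531 = n63107 := ndS (p := 19592) (l := 5) rfl N19592 D63107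
theorem N38532 : nd 38532 = n63108 := ndS (p := 19592) (l := 7) rfl N19592 D63108
theorem N38533 : nd 38533 = n63109 := ndS (p := 19593) (l := 0) rfl N19593 D63109
theorem N38534 : nd 38534 = n63110 := ndS (p := 19593) (l := 1) rfl N19593 D63110
theorem N38535 : nd 38535 = n63111 := ndS (p := 19593) (l := 2) rfl N19593 D63111
theorem N38536 : nd 38536 = n63112 := ndS (p := 19593) (l := 5) rfl N19593 D63112
theorem N38537 : nd 38537 = n63113 := ndS (p := 19593) (l := 6) rfl N19593 D63113
theorem N38538 : nd 38538 = n63114 := ndS (p := 19594) (l := 6) rfl N19594 D63114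
theorem N38539 : nd 38539 = n63117 := ndS (p := 19595) (l := 5) rfl N19595 D63117
theorem N38540 : nd 38540 = n63118 := ndS (p := 19595) (l := 7) rfl N19595 D63118
theorem N38541 : nd 38541 = n63119 := ndS (p := 19596) (l := 0) rfl N19596 D63119
theorem N38542 : nd 38542 = n63121 := ndS (p := 19596) (l := 3) rfl N19596 D63121
theorem N38543 : nd 38543 = n63123 := ndS (p := 19596) (l := 5) rfl N19596 D63123
theorem N38544 : nd 38544 = n63124 := ndS (p := 19596) (l := 6) rfl N19596 D63124
theorem N38545 : nd 38545 = n63125 := ndS (p := 19596) (l := 7) rfl N19596 D63125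
theorem N38546 : nd 38546 = n63126 := ndS (p := 19597) (l := 3) rfl N19597 D63126
theorem N38547 : nd 38547 = n63127 := ndS (p := 19597) (l := 5) rfl N19597 D63127
theorem N38548 : nd 38548 = n63128 := ndS (p := 19597) (l := 6) rfl N19597 D63128
theorem N38549 : nd 38549 = n63130 := ndS (p := 19598) (l := 5) rfl N19598 D63130
theorem N38550 : nd 38550 = n63131 := ndS (p := 19599) (l := 0) rfl N19599 D63131
theorem N38551 : nd 38551 = n63133 := ndS (p := 19599) (l := 4) rfl N19599 D63133
theorem N38552 : nd 38552 = n63134 := ndS (p := 19599) (l := 6) rfl N19599 D63134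
theorem N38553 : nd 38553 = n63135 := ndS (p := 19599) (l := 7) rfl N19599 D63135
theorem N38554 : nd 38554 = n63136 := ndS (p := 19600) (l := 6) rfl N19600 D63136
theorem N38555 : nd 38555 = n63137 := ndS (p := 19601) (l := 3) rfl N19601 D63137
theorem N38556 : nd 38556 = n63139 := ndS (p := 19602) (l := 3) rfl N19602 D63139
theorem N38557 : nd 38557 = n63140 := ndS (p := 19602) (l := 6) rfl N19602 D63140
theorem N38558 : nd 38558 = n63141 := ndS (p := 19603) (l := 3) rfl N19603 D63141
theorem N38559 : nd 38559 = n63142 := ndS (p := 19603) (l := 6) rfl N19603 D63142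
theorem N38560 : nd 38560 = n63143 := ndS (p := 19604) (l := 0) rfl N19604 D63143
theorem N38561 : nd 38561 = n63144 := ndS (p := 19604) (l := 1) rfl N19604 D63144
theorem N38562 : nd 38562 = n63145 := ndS (p := 19604) (l := 7) rfl N19604 D63145
theorem N38563 : nd 38563 = n63146 := ndS (p := 19605) (l := 6) rfl N19605 D63146
theorem N38564 : nd 38564 = n63147 := ndS (p := 19606) (l := 0) rfl N19606 D63147
theorem N38565 : nd 38565 = n63148 := ndS (p := 19606) (l := 1) rfl N19606 D63148
theorem N38566 : nd 38566 = n63149 := ndS (p := 19606) (l := 5) rfl N19606 D63149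
theorem N38567 : nd 38567 = n63152 := ndS (p := 19607) (l := 4) rfl N19607 D63152
theorem N38568 : nd 38568 = n63153 := ndS (p := 19607) (l := 5) rfl N19607 D63153
theorem N38569 : nd 38569 = n63154 := ndS (p := 19607) (l := 6) rfl N19607 D63154
theorem N38570 : nd 38570 = n63156 := ndS (p := 19608) (l := 3) rfl N19608 D63156
theorem N38571 : nd 38571 = n63157 := ndS (p := 19608) (l := 4) rfl N19608 D63157
theorem N38572 : nd 38572 = n63158 := ndS (p := 19608) (l := 5) rfl N19608 D63158
theorem N38573 : nd 38573 = n63159 := ndS (p := 19609) (l := 3) rfl N19609 D63159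
theorem N38574 : nd 38574 = n63160 := ndS (p := 19609) (l := 6) rfl N19609 D63160
theorem N38575 : nd 38575 = n63161 := ndS (p := 19610) (l := 6) rfl N19610 D63161
theorem N38576 : nd 38576 = n63162 := ndS (p := 19611) (l := 0) rfl N19611 D63162
theorem N38577 : nd 38577 = n63163 := ndS (p := 19611) (l := 1) rfl N19611 D63163
theorem N38578 : nd 38578 = n63165 := ndS (p := 19611) (l := 7) rfl N19611 D63165
theorem N38579 : nd 38579 = n63167 := ndS (p := 19612) (l := 3) rfl N19612 D63167
theorem N38580 : nd 38580 = n63168 := ndS (p := 19612) (l := 4) rfl N19612 D63168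
theorem N38581 : nd 38581 = n63169 := ndS (p := 19612) (l := 5) rfl N19612 D63169
theorem N38582 : nd 38582 = n63172 := ndS (p := 19613) (l := 4) rfl N19613 D63172
theorem N38583 : nd 38583 = n63173 := ndS (p := 19613) (l := 5) rfl N19613 D63173
theorem N38584 : nd 38584 = n63174 := ndS (p := 19613) (l := 6) rfl N19613 D63174
theorem N38585 : nd 38585 = n63178 := ndS (p := 19615) (l := 4) rfl N19615 D63178
theorem N38586 : nd 38586 = n63179 := ndS (p := 19615) (l := 5) rfl N19615 D63179
theorem N38587 : nd 38587 = n63180 := ndS (p := 19616) (l := 4) rfl N19616 D63180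
theorem N38588 : nd 38588 = n63186 := ndS (p := 19618) (l := 3) rfl N19618 D63186
theorem N38589 : nd 38589 = n63187 := ndS (p := 19618) (l := 6) rfl N19618 D63187
theorem N38590 : nd 38590 = n63188 := ndS (p := 19619) (l := 6) rfl N19619 D63188
theorem N38591 : nd 38591 = n63189 := ndS (p := 19620) (l := 0) rfl N19620 D63189
theorem N38592 : nd 38592 = n63190 := ndS (p := 19620) (l := 1) rfl N19620 D63190
theorem N38593 : nd 38593 = n63191 := ndS (p := 19620) (l := 5) rfl N19620 D63191
theorem N38594 : nd 38594 = n63192 := ndS (p := 19620) (l := 7) rfl N19620 D63192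
theorem N38595 : nd 38595 = n63194 := ndS (p := 19621) (l := 3) rfl N19621 D63194
theorem N38596 : nd 38596 = n63195 := ndS (p := 19621) (l := 4) rfl N19621 D63195
theorem N38597 : nd 38597 = n63196 := ndS (p := 19621) (l := 6) rfl N19621 D63196
theorem N38598 : nd 38598 = n63199 := ndS (p := 19622) (l := 4) rfl N19622 D63199
theorem N38599 : nd 38599 = n63209 := ndS (p := 19626) (l := 6) rfl N19626 D63209
theorem N38600 : nd 38600 = n63213 := ndS (p := 19627) (l := 4) rfl N19627 D63213
theorem N38601 : nd 38601 = n63215 := ndS (p := 19627) (l := 6) rfl N19627 D63215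
theorem N38602 : nd 38602 = n63217 := ndS (p := 19628) (l := 1) rfl N19628 D63217
theorem N38603 : nd 38603 = n63219 := ndS (p := 19628) (l := 5) rfl N19628 D63219
theorem N38604 : nd 38604 = n63220 := ndS (p := 19628) (l := 6) rfl N19628 D63220
theorem N38605 : nd 38605 = n63222 := ndS (p := 19629) (l := 0) rfl N19629 D63222
theorem N38606 : nd 38606 = n63223 := ndS (p := 19629) (l := 1) rfl N19629 D63223
theorem N38607 : nd 38607 = n63224 := ndS (p := 19629) (l := 3) rfl N19629 D63224
theorem N38608 : nd 38608 = n63225 := ndS (p := 19629) (l := 5) rfl N19629 D63225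
theorem N38609 : nd 38609 = n63226 := ndS (p := 19629) (l := 6) rfl N19629 D63226
theorem N38610 : nd 38610 = n63227 := ndS (p := 19629) (l := 7) rfl N19629 D63227
theorem N38611 : nd 38611 = n63228 := ndS (p := 19630) (l := 0) rfl N19630 D63228
theorem N38612 : nd 38612 = n63232 := ndS (p := 19630) (l := 7) rfl N19630 D63232
theorem N38613 : nd 38613 = n63233 := ndS (p := 19631) (l := 0) rfl N19631 D63233
theorem N38614 : nd 38614 = n63235 := ndS (p := 19631) (l := 5) rfl N19631 D63235
theorem N38615 : nd 38615 = n63236 := ndS (p := 19631) (l := 7) rfl N19631 D63236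
theorem N38616 : nd 38616 = n63237 := ndS (p := 19632) (l := 6) rfl N19632 D63237
theorem N38617 : nd 38617 = n63238 := ndS (p := 19633) (l := 0) rfl N19633 D63238
theorem N38618 : nd 38618 = n63240 := ndS (p := 19633) (l := 2) rfl N19633 D63240
theorem N38619 : nd 38619 = n63241 := ndS (p := 19633) (l := 4) rfl N19633 D63241
theorem N38620 : nd 38620 = n63243 := ndS (p := 19633) (l := 6) rfl N19633 D63243
theorem N38621 : nd 38621 = n63244 := ndS (p := 19634) (l := 3) rfl N19634 D63244
theorem N38622 : nd 38622 = n63245 := ndS (p := 19634) (l := 5) rfl N19634 D63245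
theorem N38623 : nd 38623 = n63246 := ndS (p := 19634) (l := 6) rfl N19634 D63246
theorem N38624 : nd 38624 = n63248 := ndS (p := 19635) (l := 6) rfl N19635 D63248
theorem N38625 : nd 38625 = n63250 := ndS (p := 19636) (l := 1) rfl N19636 D63250
theorem N38626 : nd 38626 = n63251 := ndS (p := 19636) (l := 5) rfl N19636 D63251
theorem N38627 : nd 38627 = n63252 := ndS (p := 19636) (l := 7) rfl N19636 D63252
theorem N38628 : nd 38628 = n63262 := ndS (p := 19637) (l := 4) rfl N19637 D63262
theorem N38629 : nd 38629 = n63263 := ndS (p := 19637) (l := 6) rfl N19637 D63263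
theorem N38630 : nd 38630 = n63265 := ndS (p := 19638) (l := 3) rfl N19638 D63265
theorem N38631 : nd 38631 = n63266 := ndS (p := 19638) (l := 4) rfl N19638 D63266
theorem N38632 : nd 38632 = n63268 := ndS (p := 19638) (l := 6) rfl N19638 D63268
theorem N38633 : nd 38633 = n63271 := ndS (p := 19639) (l := 4) rfl N19639 D63271
theorem N38634 : nd 38634 = n63274 := ndS (p := 19640) (l := 0) rfl N19640 D63274
theorem N38635 : nd 38635 = n63275 := ndS (p := 19640) (l := 1) rfl N19640 D63275
theorem N38636 : nd 38636 = n63276 := ndS (p := 19640) (l := 5) rfl N19640 D63276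
theorem N38637 : nd 38637 = n63277 := ndS (p := 19640) (l := 6) rfl N19640 D63277
theorem N38638 : nd 38638 = n63278 := ndS (p := 19641) (l := 0) rfl N19641 D63278
theorem N38639 : nd 38639 = n63279 := ndS (p := 19641) (l := 1) rfl N19641 D63279
theorem N38640 : nd 38640 = n63281 := ndS (p := 19642) (l := 0) rfl N19642 D63281
theorem N38641 : nd 38641 = n63285 := ndS (p := 19643) (l := 3) rfl N19643 D63285
theorem N38642 : nd 38642 = n63287 := ndS (p := 19643) (l := 5) rfl N19643 D63287
theorem N38643 : nd 38643 = n63288 := ndS (p := 19643) (l := 6) rfl N19643 D63288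
theorem N38644 : nd 38644 = n63292 := ndS (p := 19644) (l := 5) rfl N19644 D63292
theorem N38645 : nd 38645 = n63293 := ndS (p := 19644) (l := 6) rfl N19644 D63293
theorem N38646 : nd 38646 = n63304 := ndS (p := 19645) (l := 4) rfl N19645 D63304
theorem N38647 : nd 38647 = n63305 := ndS (p := 19645) (l := 5) rfl N19645 D63305
theorem N38648 : nd 38648 = n63310 := ndS (p := 19647) (l := 3) rfl N19647 D63310
theorem N38649 : nd 38649 = n63311 := ndS (p := 19647) (l := 5) rfl N19647 D63311
theorem N38650 : nd 38650 = n63312 := ndS (p := 19648) (l := 5) rfl N19648 D63312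
theorem N38651 : nd 38651 = n63313 := ndS (p := 19648) (l := 6) rfl N19648 D63313
theorem N38652 : nd 38652 = n63314 := ndS (p := 19649) (l := 3) rfl N19649 D63314
theorem N38653 : nd 38653 = n63315 := ndS (p := 19649) (l := 5) rfl N19649 D63315
theorem N38654 : nd 38654 = n63316 := ndS (p := 19649) (l := 6) rfl N19649 D63316
theorem N38655 : nd 38655 = n63317 := ndS (p := 19650) (l := 0) rfl N19650 D63317
theorem N38656 : nd 38656 = n63318 := ndS (p := 19650) (l := 1) rfl N19650 D63318
theorem N38657 : nd 38657 = n63319 := ndS (p := 19650) (l := 2) rfl N19650 D63319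
theorem N38658 : nd 38658 = n63320 := ndS (p := 19650) (l := 5) rfl N19650 D63320
theorem N38659 : nd 38659 = n63321 := ndS (p := 19651) (l := 0) rfl N19651 D63321
theorem N38660 : nd 38660 = n63322 := ndS (p := 19651) (l := 1) rfl N19651 D63322
theorem N38661 : nd 38661 = n63323 := ndS (p := 19651) (l := 6) rfl N19651 D63323
theorem N38662 : nd 38662 = n63324 := ndS (p := 19652) (l := 6) rfl N19652 D63324
theorem N38663 : nd 38663 = n63325 := ndS (p := 19653) (l := 3) rfl N19653 D63325
theorem N38664 : nd 38664 = n63326 := ndS (p := 19653) (l := 5) rfl N19653 D63326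
theorem N38665 : nd 38665 = n63327 := ndS (p := 19654) (l := 6) rfl N19654 D63327
theorem N38666 : nd 38666 = n63328 := ndS (p := 19655) (l := 3) rfl N19655 D63328
theorem N38667 : nd 38667 = n63329 := ndS (p := 19655) (l := 5) rfl N19655 D63329
theorem N38668 : nd 38668 = n63330 := ndS (p := 19656) (l := 3) rfl N19656 D63330
theorem N38669 : nd 38669 = n63331 := ndS (p := 19656) (l := 5) rfl N19656 D63331
theorem N38670 : nd 38670 = n63332 := ndS (p := 19656) (l := 6) rfl N19656 D63332
theorem N38671 : nd 38671 = n63333 := ndS (p := 19658) (l := 3) rfl N19658 D63333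
theorem N38672 : nd 38672 = n63334 := ndS (p := 19658) (l := 5) rfl N19658 D63334
theorem N38673 : nd 38673 = n63337 := ndS (p := 19659) (l := 1) rfl N19659 D63337
theorem N38674 : nd 38674 = n63338 := ndS (p := 19659) (l := 7) rfl N19659 D63338
theorem N38675 : nd 38675 = n63339 := ndS (p := 19660) (l := 3) rfl N19660 D63339
theorem N38676 : nd 38676 = n63340 := ndS (p := 19660) (l := 5) rfl N19660 D63340
theorem N38677 : nd 38677 = n63341 := ndS (p := 19660) (l := 6) rfl N19660 D63341
theorem N38678 : nd 38678 = n63342 := ndS (p := 19661) (l := 0) rfl N19661 D63342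
theorem N38679 : nd 38679 = n63343 := ndS (p := 19661) (l := 1) rfl N19661 D63343
theorem N38680 : nd 38680 = n63344 := ndS (p := 19661) (l := 2) rfl N19661 D63344
theorem N38681 : nd 38681 = n63345 := ndS (p := 19661) (l := 5) rfl N19661 D63345
theorem N38682 : nd 38682 = n63346 := ndS (p := 19661) (l := 7) rfl N19661 D63346
theorem N38683 : nd 38683 = n63347 := ndS (p := 19662) (l := 1) rfl N19662 D63347
theorem N38684 : nd 38684 = n63348 := ndS (p := 19662) (l := 4) rfl N19662 D63348
theorem N38685 : nd 38685 = n63349 := ndS (p := 19662) (l := 6) rfl N19662 D63349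
theorem N38686 : nd 38686 = n63350 := ndS (p := 19662) (l := 7) rfl N19662 D63350
theorem N38687 : nd 38687 = n63351 := ndS (p := 19663) (l := 6) rfl N19663 D63351
theorem N38688 : nd 38688 = n63352 := ndS (p := 19665) (l := 3) rfl N19665 D63352
theorem N38689 : nd 38689 = n63353 := ndS (p := 19665) (l := 5) rfl N19665 D63353
theorem N38690 : nd 38690 = n63354 := ndS (p := 19666) (l := 6) rfl N19666 D63354
theorem N38691 : nd 38691 = n63355 := ndS (p := 19667) (l := 6) rfl N19667 D63355
theorem N38692 : nd 38692 = n63356 := ndS (p := 19669) (l := 3) rfl N19669 D63356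
theorem N38693 : nd 38693 = n63357 := ndS (p := 19669) (l := 6) rfl N19669 D63357
theorem N38694 : nd 38694 = n63358 := ndS (p := 19670) (l := 0) rfl N19670 D63358
theorem N38695 : nd 38695 = n63359 := ndS (p := 19670) (l := 1) rfl N19670 D63359
theorem N38696 : nd 38696 = n63360 := ndS (p := 19670) (l := 7) rfl N19670 D63360
theorem N38697 : nd 38697 = n63361 := ndS (p := 19671) (l := 6) rfl N19671 D63361
theorem N38698 : nd 38698 = n63362 := ndS (p := 19673) (l := 3) rfl N19673 D63362
theorem N38699 : nd 38699 = n63363 := ndS (p := 19673) (l := 6) rfl N19673 D63363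
theorem N38700 : nd 38700 = n63364 := ndS (p := 19674) (l := 0) rfl N19674 D63364
theorem N38701 : nd 38701 = n63365 := ndS (p := 19674) (l := 1) rfl N19674 D63365
theorem N38702 : nd 38702 = n63367 := ndS (p := 19674) (l := 7) rfl N19674 D63367
theorem N38703 : nd 38703 = n63368 := ndS (p := 19676) (l := 0) rfl N19676 D63368
theorem N38704 : nd 38704 = n63369 := ndS (p := 19676) (l := 1) rfl N19676 D63369
theorem N38705 : nd 38705 = n63370 := ndS (p := 19676) (l := 7) rfl N19676 D63370
theorem N38706 : nd 38706 = n63371 := ndS (p := 19677) (l := 6) rfl N19677 D63371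
theorem N38707 : nd 38707 = n63372 := ndS (p := 19678) (l := 0) rfl N19678 D63372
theorem N38708 : nd 38708 = n63373 := ndS (p := 19678) (l := 1) rfl N19678 D63373
theorem N38709 : nd 38709 = n63374 := ndS (p := 19678) (l := 7) rfl N19678 D63374
theorem N38710 : nd 38710 = n63375 := ndS (p := 19679) (l := 0) rfl N19679 D63375
theorem N38711 : nd 38711 = n63376 := ndS (p := 19679) (l := 1) rfl N19679 D63376
theorem N38712 : nd 38712 = n63377 := ndS (p := 19679) (l := 2) rfl N19679 D63377
theorem N38713 : nd 38713 = n63378 := ndS (p := 19679) (l := 5) rfl N19679 D63378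
theorem N38714 : nd 38714 = n63379 := ndS (p := 19679) (l := 7) rfl N19679 D63379
theorem N38715 : nd 38715 = n63380 := ndS (p := 19680) (l := 6) rfl N19680 D63380
theorem N38716 : nd 38716 = n63381 := ndS (p := 19681) (l := 6) rfl N19681 D63381
theorem N38717 : nd 38717 = n63382 := ndS (p := 19682) (l := 0) rfl N19682 D63382
theorem N38718 : nd 38718 = n63383 := ndS (p := 19682) (l := 1) rfl N19682 D63383
theorem N38719 : nd 38719 = n63384 := ndS (p := 19683) (l := 3) rfl N19683 D63384
theorem N38720 : nd 38720 = n63385 := ndS (p := 19683) (l := 5) rfl N19683 D63385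
theorem N38721 : nd 38721 = n63386 := ndS (p := 19683) (l := 6) rfl N19683 D63386
theorem N38722 : nd 38722 = n63387 := ndS (p := 19684) (l := 0) rfl N19684 D63387
theorem N38723 : nd 38723 = n63388 := ndS (p := 19684) (l := 1) rfl N19684 D63388
theorem N38724 : nd 38724 = n63389 := ndS (p := 19684) (l := 7) rfl N19684 D63389
theorem N38725 : nd 38725 = n63390 := ndS (p := 19685) (l := 3) rfl N19685 D63390
theorem N38726 : nd 38726 = n63391 := ndS (p := 19685) (l := 5) rfl N19685 D63391
theorem N38727 : nd 38727 = n63392 := ndS (p := 19685) (l := 6) rfl N19685 D63392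
theorem N38728 : nd 38728 = n63393 := ndS (p := 19686) (l := 3) rfl N19686 D63393
theorem N38729 : nd 38729 = n63394 := ndS (p := 19686) (l := 5) rfl N19686 D63394
theorem N38730 : nd 38730 = n63395 := ndS (p := 19686) (l := 6) rfl N19686 D63395
theorem N38731 : nd 38731 = n63396 := ndS (p := 19687) (l := 0) rfl N19687 D63396
theorem N38732 : nd 38732 = n63397 := ndS (p := 19687) (l := 1) rfl N19687 D63397
theorem N38733 : nd 38733 = n63398 := ndS (p := 19687) (l := 2) rfl N19687 D63398
theorem N38734 : nd 38734 = n63399 := ndS (p := 19687) (l := 5) rfl N19687 D63399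
theorem N38735 : nd 38735 = n63400 := ndS (p := 19687) (l := 6) rfl N19687 D63400
theorem N38736 : nd 38736 = n63401 := ndS (p := 19688) (l := 6) rfl N19688 D63401
theorem N38737 : nd 38737 = n63402 := ndS (p := 19689) (l := 0) rfl N19689 D63402
theorem N38738 : nd 38738 = n63403 := ndS (p := 19689) (l := 1) rfl N19689 D63403
theorem N38739 : nd 38739 = n63404 := ndS (p := 19689) (l := 5) rfl N19689 D63404
theorem N38740 : nd 38740 = n63405 := ndS (p := 19689) (l := 7) rfl N19689 D63405
theorem N38741 : nd 38741 = n63408 := ndS (p := 19690) (l := 4) rfl N19690 D63408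
theorem N38742 : nd 38742 = n63413 := ndS (p := 19692) (l := 6) rfl N19692 D63413
theorem N38743 : nd 38743 = n63414 := ndS (p := 19693) (l := 3) rfl N19693 D63414
theorem N38744 : nd 38744 = n63415 := ndS (p := 19693) (l := 6) rfl N19693 D63415
theorem N38745 : nd 38745 = n63416 := ndS (p := 19694) (l := 0) rfl N19694 D63416
theorem N38746 : nd 38746 = n63417 := ndS (p := 19694) (l := 5) rfl N19694 D63417
theorem N38747 : nd 38747 = n63418 := ndS (p := 19694) (l := 7) rfl N19694 D63418
theorem N38748 : nd 38748 = n63419 := ndS (p := 19696) (l := 0) rfl N19696 D63419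
theorem N38749 : nd 38749 = n63420 := ndS (p := 19696) (l := 1) rfl N19696 D63420
theorem N38750 : nd 38750 = n63421 := ndS (p := 19696) (l := 2) rfl N19696 D63421
theorem N38751 : nd 38751 = n63422 := ndS (p := 19696) (l := 5) rfl N19696 D63422
theorem N38752 : nd 38752 = n63423 := ndS (p := 19696) (l := 6) rfl N19696 D63423
theorem N38753 : nd 38753 = n63424 := ndS (p := 19697) (l := 6) rfl N19697 D63424
theorem N38754 : nd 38754 = n63425 := ndS (p := 19698) (l := 0) rfl N19698 D63425
theorem N38755 : nd 38755 = n63426 := ndS (p := 19698) (l := 1) rfl N19698 D63426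
theorem N38756 : nd 38756 = n63427 := ndS (p := 19698) (l := 5) rfl N19698 D63427
theorem N38757 : nd 38757 = n63428 := ndS (p := 19698) (l := 7) rfl N19698 D63428
theorem N38758 : nd 38758 = n63429 := ndS (p := 19699) (l := 4) rfl N19699 D63429
theorem N38759 : nd 38759 = n63431 := ndS (p := 19700) (l := 1) rfl N19700 D63431
theorem N38760 : nd 38760 = n63432 := ndS (p := 19700) (l := 4) rfl N19700 D63432
theorem N38761 : nd 38761 = n63433 := ndS (p := 19700) (l := 7) rfl N19700 D63433
theorem N38762 : nd 38762 = n63434 := ndS (p := 19702) (l := 3) rfl N19702 D63434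
theorem N38763 : nd 38763 = n63436 := ndS (p := 19703) (l := 3) rfl N19703 D63436
theorem N38764 : nd 38764 = n63437 := ndS (p := 19703) (l := 6) rfl N19703 D63437
theorem N38765 : nd 38765 = n63438 := ndS (p := 19704) (l := 0) rfl N19704 D63438
theorem N38766 : nd 38766 = n63439 := ndS (p := 19704) (l := 1) rfl N19704 D63439
theorem N38767 : nd 38767 = n63440 := ndS (p := 19704) (l := 2) rfl N19704 D63440
theorem N38768 : nd 38768 = n63441 := ndS (p := 19704) (l := 5) rfl N19704 D63441
theorem N38769 : nd 38769 = n63442 := ndS (p := 19704) (l := 6) rfl N19704 D63442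
theorem N38770 : nd 38770 = n63443 := ndS (p := 19705) (l := 0) rfl N19705 D63443
theorem N38771 : nd 38771 = n63444 := ndS (p := 19705) (l := 1) rfl N19705 D63444
theorem N38772 : nd 38772 = n63446 := ndS (p := 19706) (l := 0) rfl N19706 D63446
theorem N38773 : nd 38773 = n63447 := ndS (p := 19706) (l := 1) rfl N19706 D63447
theorem N38774 : nd 38774 = n63452 := ndS (p := 19707) (l := 4) rfl N19707 D63452
theorem N38775 : nd 38775 = n63453 := ndS (p := 19707) (l := 5) rfl N19707 D63453
theorem N38776 : nd 38776 = n63456 := ndS (p := 19708) (l := 4) rfl N19708 D63456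
theorem N38777 : nd 38777 = n63458 := ndS (p := 19708) (l := 6) rfl N19708 D63458
theorem N38778 : nd 38778 = n63459 := ndS (p := 19710) (l := 0) rfl N19710 D63459
theorem N38779 : nd 38779 = n63460 := ndS (p := 19710) (l := 1) rfl N19710 D63460
theorem N38780 : nd 38780 = n63461 := ndS (p := 19710) (l := 7) rfl N19710 D63461
theorem N38781 : nd 38781 = n63462 := ndS (p := 19711) (l := 0) rfl N19711 D63462
theorem N38782 : nd 38782 = n63463 := ndS (p := 19711) (l := 1) rfl N19711 D63463
theorem N38783 : nd 38783 = n63464 := ndS (p := 19711) (l := 2) rfl N19711 D63464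
theorem N38784 : nd 38784 = n63465 := ndS (p := 19711) (l := 5) rfl N19711 D63465
theorem N38785 : nd 38785 = n63466 := ndS (p := 19711) (l := 6) rfl N19711 D63466
theorem N38786 : nd 38786 = n63467 := ndS (p := 19712) (l := 6) rfl N19712 D63467
theorem N38787 : nd 38787 = n63468 := ndS (p := 19713) (l := 0) rfl N19713 D63468
theorem N38788 : nd 38788 = n63469 := ndS (p := 19713) (l := 1) rfl N19713 D63469
theorem N38789 : nd 38789 = n63470 := ndS (p := 19713) (l := 5) rfl N19713 D63470
theorem N38790 : nd 38790 = n63471 := ndS (p := 19713) (l := 7) rfl N19713 D63471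
theorem N38791 : nd 38791 = n63474 := ndS (p := 19714) (l := 4) rfl N19714 D63474
theorem N38792 : nd 38792 = n63475 := ndS (p := 19714) (l := 6) rfl N19714 D63475
theorem N38793 : nd 38793 = n63478 := ndS (p := 19715) (l := 4) rfl N19715 D63478
theorem N38794 : nd 38794 = n63479 := ndS (p := 19717) (l := 0) rfl N19717 D63479
theorem N38795 : nd 38795 = n63480 := ndS (p := 19717) (l := 1) rfl N19717 D63480
theorem N38796 : nd 38796 = n63481 := ndS (p := 19717) (l := 2) rfl N19717 D63481
theorem N38797 : nd 38797 = n63482 := ndS (p := 19717) (l := 5) rfl N19717 D63482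
theorem N38798 : nd 38798 = n63483 := ndS (p := 19717) (l := 6) rfl N19717 D63483
theorem N38799 : nd 38799 = n63484 := ndS (p := 19718) (l := 0) rfl N19718 D63484
theorem N38800 : nd 38800 = n63490 := ndS (p := 19720) (l := 0) rfl N19720 D63490
theorem N38801 : nd 38801 = n63491 := ndS (p := 19720) (l := 1) rfl N19720 D63491
theorem N38802 : nd 38802 = n63492 := ndS (p := 19720) (l := 2) rfl N19720 D63492
theorem N38803 : nd 38803 = n63500 := ndS (p := 19723) (l := 0) rfl N19723 D63500
theorem N38804 : nd 38804 = n63502 := ndS (p := 19723) (l := 3) rfl N19723 D63502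
theorem N38805 : nd 38805 = n63504 := ndS (p := 19723) (l := 5) rfl N19723 D63504
theorem N38806 : nd 38806 = n63505 := ndS (p := 19723) (l := 6) rfl N19723 D63505
theorem N38807 : nd 38807 = n63506 := ndS (p := 19723) (l := 7) rfl N19723 D63506
theorem N38808 : nd 38808 = n63507 := ndS (p := 19724) (l := 3) rfl N19724 D63507
theorem N38809 : nd 38809 = n63508 := ndS (p := 19724) (l := 5) rfl N19724 D63508
theorem N38810 : nd 38810 = n63509 := ndS (p := 19724) (l := 6) rfl N19724 D63509
theorem N38811 : nd 38811 = n63511 := ndS (p := 19725) (l := 5) rfl N19725 D63511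
theorem N38812 : nd 38812 = n63512 := ndS (p := 19726) (l := 0) rfl N19726 D63512
theorem N38813 : nd 38813 = n63513 := ndS (p := 19726) (l := 1) rfl N19726 D63513
theorem N38814 : nd 38814 = n63514 := ndS (p := 19726) (l := 4) rfl N19726 D63514
theorem N38815 : nd 38815 = n63515 := ndS (p := 19726) (l := 6) rfl N19726 D63515
theorem N38816 : nd 38816 = n63516 := ndS (p := 19726) (l := 7) rfl N19726 D63516
theorem N38817 : nd 38817 = n63517 := ndS (p := 19727) (l := 6) rfl N19727 D63517
theorem N38818 : nd 38818 = n63518 := ndS (p := 19728) (l := 3) rfl N19728 D63518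
theorem N38819 : nd 38819 = n63519 := ndS (p := 19728) (l := 6) rfl N19728 D63519
theorem N38820 : nd 38820 = n63520 := ndS (p := 19729) (l := 3) rfl N19729 D63520
theorem N38821 : nd 38821 = n63521 := ndS (p := 19729) (l := 6) rfl N19729 D63521
theorem N38822 : nd 38822 = n63522 := ndS (p := 19730) (l := 3) rfl N19730 D63522
theorem N38823 : nd 38823 = n63523 := ndS (p := 19730) (l := 6) rfl N19730 D63523
theorem N38824 : nd 38824 = n63524 := ndS (p := 19731) (l := 0) rfl N19731 D63524
theorem N38825 : nd 38825 = n63525 := ndS (p := 19731) (l := 1) rfl N19731 D63525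
theorem N38826 : nd 38826 = n63526 := ndS (p := 19731) (l := 7) rfl N19731 D63526
theorem N38827 : nd 38827 = n63527 := ndS (p := 19732) (l := 6) rfl N19732 D63527
theorem N38828 : nd 38828 = n63528 := ndS (p := 19733) (l := 0) rfl N19733 D63528
theorem N38829 : nd 38829 = n63529 := ndS (p := 19733) (l := 1) rfl N19733 D63529
theorem N38830 : nd 38830 = n63530 := ndS (p := 19733) (l := 5) rfl N19733 D63530
theorem N38831 : nd 38831 = n63533 := ndS (p := 19734) (l := 4) rfl N19734 D63533
theorem N38832 : nd 38832 = n63534 := ndS (p := 19734) (l := 5) rfl N19734 D63534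
theorem N38833 : nd 38833 = n63535 := ndS (p := 19734) (l := 6) rfl N19734 D63535
theorem N38834 : nd 38834 = n63537 := ndS (p := 19735) (l := 3) rfl N19735 D63537
theorem N38835 : nd 38835 = n63538 := ndS (p := 19735) (l := 4) rfl N19735 D63538
theorem N38836 : nd 38836 = n63539 := ndS (p := 19735) (l := 5) rfl N19735 D63539
theorem N38837 : nd 38837 = n63540 := ndS (p := 19736) (l := 3) rfl N19736 D63540
theorem N38838 : nd 38838 = n63541 := ndS (p := 19736) (l := 6) rfl N19736 D63541
theorem N38839 : nd 38839 = n63542 := ndS (p := 19737) (l := 6) rfl N19737 D63542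
theorem N38840 : nd 38840 = n63543 := ndS (p := 19738) (l := 0) rfl N19738 D63543
theorem N38841 : nd 38841 = n63544 := ndS (p := 19738) (l := 1) rfl N19738 D63544
theorem N38842 : nd 38842 = n63545 := ndS (p := 19738) (l := 5) rfl N19738 D63545
theorem N38843 : nd 38843 = n63546 := ndS (p := 19738) (l := 7) rfl N19738 D63546
theorem N38844 : nd 38844 = n63548 := ndS (p := 19739) (l := 3) rfl N19739 D63548
theorem N38845 : nd 38845 = n63549 := ndS (p := 19739) (l := 4) rfl N19739 D63549
theorem N38846 : nd 38846 = n63550 := ndS (p := 19739) (l := 5) rfl N19739 D63550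
theorem N38847 : nd 38847 = n63552 := ndS (p := 19740) (l := 3) rfl N19740 D63552
theorem N38848 : nd 38848 = n63554 := ndS (p := 19740) (l := 5) rfl N19740 D63554
theorem N38849 : nd 38849 = n63559 := ndS (p := 19742) (l := 4) rfl N19742 D63559
theorem N38850 : nd 38850 = n63560 := ndS (p := 19742) (l := 5) rfl N19742 D63560
theorem N38851 : nd 38851 = n63561 := ndS (p := 19743) (l := 4) rfl N19743 D63561
theorem N38852 : nd 38852 = n63567 := ndS (p := 19745) (l := 3) rfl N19745 D63567
theorem N38853 : nd 38853 = n63568 := ndS (p := 19746) (l := 3) rfl N19746 D63568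
theorem N38854 : nd 38854 = n63569 := ndS (p := 19746) (l := 6) rfl N19746 D63569
theorem N38855 : nd 38855 = n63570 := ndS (p := 19747) (l := 4) rfl N19747 D63570
theorem N38856 : nd 38856 = n63571 := ndS (p := 19747) (l := 6) rfl N19747 D63571
theorem N38857 : nd 38857 = n63572 := ndS (p := 19748) (l := 0) rfl N19748 D63572
theorem N38858 : nd 38858 = n63573 := ndS (p := 19748) (l := 1) rfl N19748 D63573
theorem N38859 : nd 38859 = n63574 := ndS (p := 19748) (l := 5) rfl N19748 D63574
theorem N38860 : nd 38860 = n63575 := ndS (p := 19748) (l := 7) rfl N19748 D63575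
theorem N38861 : nd 38861 = n63577 := ndS (p := 19749) (l := 3) rfl N19749 D63577
theorem N38862 : nd 38862 = n63582 := ndS (p := 19750) (l := 4) rfl N19750 D63582
theorem N38863 : nd 38863 = n63591 := ndS (p := 19753) (l := 4) rfl N19753 D63591
theorem N38864 : nd 38864 = n63592 := ndS (p := 19754) (l := 6) rfl N19754 D63592
theorem N38865 : nd 38865 = n63595 := ndS (p := 19755) (l := 3) rfl N19755 D63595
theorem N38866 : nd 38866 = n63596 := ndS (p := 19755) (l := 4) rfl N19755 D63596
theorem N38867 : nd 38867 = n63597 := ndS (p := 19755) (l := 5) rfl N19755 D63597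
theorem N38868 : nd 38868 = n63598 := ndS (p := 19755) (l := 6) rfl N19755 D63598
theorem N38869 : nd 38869 = n63600 := ndS (p := 19756) (l := 1) rfl N19756 D63600
theorem N38870 : nd 38870 = n63603 := ndS (p := 19756) (l := 6) rfl N19756 D63603
theorem N38871 : nd 38871 = n63605 := ndS (p := 19757) (l := 0) rfl N19757 D63605
theorem N38872 : nd 38872 = n63606 := ndS (p := 19757) (l := 1) rfl N19757 D63606
theorem N38873 : nd 38873 = n63607 := ndS (p := 19757) (l := 3) rfl N19757 D63607
theorem N38874 : nd 38874 = n63608 := ndS (p := 19757) (l := 5) rfl N19757 D63608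
theorem N38875 : nd 38875 = n63609 := ndS (p := 19757) (l := 6) rfl N19757 D63609
theorem N38876 : nd 38876 = n63610 := ndS (p := 19757) (l := 7) rfl N19757 D63610
theorem N38877 : nd 38877 = n63611 := ndS (p := 19758) (l := 0) rfl N19758 D63611
theorem N38878 : nd 38878 = n63613 := ndS (p := 19758) (l := 4) rfl N19758 D63613
theorem N38879 : nd 38879 = n63614 := ndS (p := 19758) (l := 6) rfl N19758 D63614
theorem N38880 : nd 38880 = n63615 := ndS (p := 19758) (l := 7) rfl N19758 D63615
theorem N38881 : nd 38881 = n63616 := ndS (p := 19759) (l := 0) rfl N19759 D63616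
theorem N38882 : nd 38882 = n63618 := ndS (p := 19759) (l := 5) rfl N19759 D63618
theorem N38883 : nd 38883 = n63619 := ndS (p := 19759) (l := 7) rfl N19759 D63619
theorem N38884 : nd 38884 = n63620 := ndS (p := 19760) (l := 6) rfl N19760 D63620
theorem N38885 : nd 38885 = n63621 := ndS (p := 19761) (l := 0) rfl N19761 D63621
theorem N38886 : nd 38886 = n63622 := ndS (p := 19761) (l := 2) rfl N19761 D63622
theorem N38887 : nd 38887 = n63623 := ndS (p := 19761) (l := 4) rfl N19761 D63623
theorem N38888 : nd 38888 = n63624 := ndS (p := 19761) (l := 5) rfl N19761 D63624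
theorem N38889 : nd 38889 = n63625 := ndS (p := 19761) (l := 6) rfl N19761 D63625
theorem N38890 : nd 38890 = n63626 := ndS (p := 19762) (l := 3) rfl N19762 D63626
theorem N38891 : nd 38891 = n63627 := ndS (p := 19762) (l := 5) rfl N19762 D63627
theorem N38892 : nd 38892 = n63628 := ndS (p := 19762) (l := 6) rfl N19762 D63628
theorem N38893 : nd 38893 = n63629 := ndS (p := 19763) (l := 4) rfl N19763 D63629
theorem N38894 : nd 38894 = n63630 := ndS (p := 19763) (l := 6) rfl N19763 D63630
theorem N38895 : nd 38895 = n63632 := ndS (p := 19764) (l := 1) rfl N19764 D63632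
theorem N38896 : nd 38896 = n63633 := ndS (p := 19764) (l := 5) rfl N19764 D63633
theorem N38897 : nd 38897 = n63634 := ndS (p := 19764) (l := 7) rfl N19764 D63634
theorem N38898 : nd 38898 = n63644 := ndS (p := 19765) (l := 4) rfl N19765 D63644
theorem N38899 : nd 38899 = n63645 := ndS (p := 19765) (l := 6) rfl N19765 D63645
theorem N38900 : nd 38900 = n63647 := ndS (p := 19766) (l := 3) rfl N19766 D63647
theorem N38901 : nd 38901 = n63648 := ndS (p := 19766) (l := 4) rfl N19766 D63648
theorem N38902 : nd 38902 = n63650 := ndS (p := 19766) (l := 6) rfl N19766 D63650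
theorem N38903 : nd 38903 = n63652 := ndS (p := 19767) (l := 3) rfl N19767 D63652
theorem N38904 : nd 38904 = n63653 := ndS (p := 19767) (l := 4) rfl N19767 D63653
theorem N38905 : nd 38905 = n63655 := ndS (p := 19767) (l := 6) rfl N19767 D63655
theorem N38906 : nd 38906 = n63656 := ndS (p := 19768) (l := 0) rfl N19768 D63656
theorem N38907 : nd 38907 = n63657 := ndS (p := 19768) (l := 1) rfl N19768 D63657
theorem N38908 : nd 38908 = n63658 := ndS (p := 19768) (l := 5) rfl N19768 D63658
theorem N38909 : nd 38909 = n63659 := ndS (p := 19768) (l := 6) rfl N19768 D63659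
theorem N38910 : nd 38910 = n63660 := ndS (p := 19769) (l := 0) rfl N19769 D63660
theorem N38911 : nd 38911 = n63661 := ndS (p := 19769) (l := 1) rfl N19769 D63661
theorem N38912 : nd 38912 = n63662 := ndS (p := 19769) (l := 7) rfl N19769 D63662
theorem N38913 : nd 38913 = n63663 := ndS (p := 19770) (l := 0) rfl N19770 D63663
theorem N38914 : nd 38914 = n63664 := ndS (p := 19770) (l := 1) rfl N19770 D63664
theorem N38915 : nd 38915 = n63667 := ndS (p := 19771) (l := 3) rfl N19771 D63667
theorem N38916 : nd 38916 = n63669 := ndS (p := 19771) (l := 5) rfl N19771 D63669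
theorem N38917 : nd 38917 = n63670 := ndS (p := 19771) (l := 6) rfl N19771 D63670
theorem N38918 : nd 38918 = n63672 := ndS (p := 19772) (l := 3) rfl N19772 D63672
theorem N38919 : nd 38919 = n63674 := ndS (p := 19772) (l := 5) rfl N19772 D63674
theorem N38920 : nd 38920 = n63675 := ndS (p := 19772) (l := 6) rfl N19772 D63675
theorem N38921 : nd 38921 = n63681 := ndS (p := 19774) (l := 4) rfl N19774 D63681
theorem N38922 : nd 38922 = n63682 := ndS (p := 19774) (l := 5) rfl N19774 D63682
theorem N38923 : nd 38923 = n63683 := ndS (p := 19775) (l := 4) rfl N19775 D63683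
theorem N38924 : nd 38924 = n63684 := ndS (p := 19776) (l := 6) rfl N19776 D63684
theorem N38925 : nd 38925 = n63685 := ndS (p := 19777) (l := 3) rfl N19777 D63685
theorem N38926 : nd 38926 = n63686 := ndS (p := 19777) (l := 6) rfl N19777 D63686
theorem N38927 : nd 38927 = n63687 := ndS (p := 19778) (l := 0) rfl N19778 D63687
theorem N38928 : nd 38928 = n63688 := ndS (p := 19778) (l := 1) rfl N19778 D63688
theorem N38929 : nd 38929 = n63689 := ndS (p := 19778) (l := 7) rfl N19778 D63689
theorem N38930 : nd 38930 = n63690 := ndS (p := 19779) (l := 3) rfl N19779 D63690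
theorem N38931 : nd 38931 = n63691 := ndS (p := 19779) (l := 6) rfl N19779 D63691
theorem N38932 : nd 38932 = n63692 := ndS (p := 19780) (l := 7) rfl N19780 D63692
theorem N38933 : nd 38933 = n63693 := ndS (p := 19782) (l := 0) rfl N19782 D63693
theorem N38934 : nd 38934 = n63694 := ndS (p := 19782) (l := 1) rfl N19782 D63694
theorem N38935 : nd 38935 = n63695 := ndS (p := 19782) (l := 7) rfl N19782 D63695
theorem N38936 : nd 38936 = n63697 := ndS (p := 19783) (l := 1) rfl N19783 D63697
theorem N38937 : nd 38937 = n63698 := ndS (p := 19783) (l := 7) rfl N19783 D63698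
theorem N38938 : nd 38938 = n63700 := ndS (p := 19785) (l := 1) rfl N19785 D63700
theorem N38939 : nd 38939 = n63701 := ndS (p := 19786) (l := 3) rfl N19786 D63701
theorem N38940 : nd 38940 = n63702 := ndS (p := 19786) (l := 6) rfl N19786 D63702
theorem N38941 : nd 38941 = n63704 := ndS (p := 19787) (l := 1) rfl N19787 D63704
theorem N38942 : nd 38942 = n63705 := ndS (p := 19787) (l := 7) rfl N19787 D63705
theorem N38943 : nd 38943 = n63707 := ndS (p := 19789) (l := 1) rfl N19789 D63707
theorem N38944 : nd 38944 = n63708 := ndS (p := 19789) (l := 7) rfl N19789 D63708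
theorem N38945 : nd 38945 = n63709 := ndS (p := 19790) (l := 0) rfl N19790 D63709
theorem N38946 : nd 38946 = n63710 := ndS (p := 19790) (l := 1) rfl N19790 D63710
theorem N38947 : nd 38947 = n63711 := ndS (p := 19790) (l := 2) rfl N19790 D63711
theorem N38948 : nd 38948 = n63712 := ndS (p := 19791) (l := 6) rfl N19791 D63712
theorem N38949 : nd 38949 = n63713 := ndS (p := 19792) (l := 0) rfl N19792 D63713
theorem N38950 : nd 38950 = n63715 := ndS (p := 19793) (l := 0) rfl N19793 D63715
theorem N38951 : nd 38951 = n63716 := ndS (p := 19793) (l := 1) rfl N19793 D63716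
theorem N38952 : nd 38952 = n63717 := ndS (p := 19793) (l := 2) rfl N19793 D63717
theorem N38953 : nd 38953 = n63718 := ndS (p := 19793) (l := 5) rfl N19793 D63718
theorem N38954 : nd 38954 = n63719 := ndS (p := 19793) (l := 6) rfl N19793 D63719
theorem N38955 : nd 38955 = n63720 := ndS (p := 19794) (l := 6) rfl N19794 D63720
theorem N38956 : nd 38956 = n63721 := ndS (p := 19795) (l := 0) rfl N19795 D63721
theorem N38957 : nd 38957 = n63722 := ndS (p := 19795) (l := 1) rfl N19795 D63722
theorem N38958 : nd 38958 = n63723 := ndS (p := 19795) (l := 5) rfl N19795 D63723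
theorem N38959 : nd 38959 = n63724 := ndS (p := 19795) (l := 7) rfl N19795 D63724
theorem N38960 : nd 38960 = n63727 := ndS (p := 19796) (l := 4) rfl N19796 D63727
theorem N38961 : nd 38961 = n63730 := ndS (p := 19797) (l := 4) rfl N19797 D63730
theorem N38962 : nd 38962 = n63731 := ndS (p := 19797) (l := 6) rfl N19797 D63731
theorem N38963 : nd 38963 = n63732 := ndS (p := 19799) (l := 0) rfl N19799 D63732
theorem N38964 : nd 38964 = n63733 := ndS (p := 19799) (l := 1) rfl N19799 D63733
theorem N38965 : nd 38965 = n63734 := ndS (p := 19799) (l := 2) rfl N19799 D63734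
theorem N38966 : nd 38966 = n63735 := ndS (p := 19799) (l := 5) rfl N19799 D63735
theorem N38967 : nd 38967 = n63736 := ndS (p := 19799) (l := 6) rfl N19799 D63736
theorem N38968 : nd 38968 = n63737 := ndS (p := 19800) (l := 6) rfl N19800 D63737
theorem N38969 : nd 38969 = n63738 := ndS (p := 19801) (l := 0) rfl N19801 D63738
theorem N38970 : nd 38970 = n63739 := ndS (p := 19801) (l := 1) rfl N19801 D63739
theorem N38971 : nd 38971 = n63740 := ndS (p := 19801) (l := 5) rfl N19801 D63740
theorem N38972 : nd 38972 = n63741 := ndS (p := 19801) (l := 7) rfl N19801 D63741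
theorem N38973 : nd 38973 = n63744 := ndS (p := 19802) (l := 4) rfl N19802 D63744
theorem N38974 : nd 38974 = n63745 := ndS (p := 19802) (l := 5) rfl N19802 D63745
theorem N38975 : nd 38975 = n63748 := ndS (p := 19803) (l := 4) rfl N19803 D63748
theorem N38976 : nd 38976 = n63749 := ndS (p := 19803) (l := 6) rfl N19803 D63749
theorem N38977 : nd 38977 = n63750 := ndS (p := 19804) (l := 1) rfl N19804 D63750
theorem N38978 : nd 38978 = n63751 := ndS (p := 19804) (l := 4) rfl N19804 D63751
theorem N38979 : nd 38979 = n63752 := ndS (p := 19804) (l := 7) rfl N19804 D63752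
theorem N38980 : nd 38980 = n63753 := ndS (p := 19806) (l := 0) rfl N19806 D63753
theorem N38981 : nd 38981 = n63754 := ndS (p := 19806) (l := 1) rfl N19806 D63754
theorem N38982 : nd 38982 = n63755 := ndS (p := 19806) (l := 2) rfl N19806 D63755
theorem N38983 : nd 38983 = n63756 := ndS (p := 19806) (l := 5) rfl N19806 D63756
theorem N38984 : nd 38984 = n63757 := ndS (p := 19806) (l := 6) rfl N19806 D63757
theorem N38985 : nd 38985 = n63758 := ndS (p := 19807) (l := 6) rfl N19807 D63758
theorem N38986 : nd 38986 = n63761 := ndS (p := 19808) (l := 5) rfl N19808 D63761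
theorem N38987 : nd 38987 = n63762 := ndS (p := 19808) (l := 7) rfl N19808 D63762
theorem N38988 : nd 38988 = n63763 := ndS (p := 19809) (l := 0) rfl N19809 D63763
theorem N38989 : nd 38989 = n63764 := ndS (p := 19809) (l := 1) rfl N19809 D63764
theorem N38990 : nd 38990 = n63765 := ndS (p := 19809) (l := 2) rfl N19809 D63765
theorem N38991 : nd 38991 = n63766 := ndS (p := 19809) (l := 5) rfl N19809 D63766
theorem N38992 : nd 38992 = n63767 := ndS (p := 19809) (l := 6) rfl N19809 D63767
theorem N38993 : nd 38993 = n63768 := ndS (p := 19810) (l := 6) rfl N19810 D63768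
theorem N38994 : nd 38994 = n63771 := ndS (p := 19811) (l := 5) rfl N19811 D63771
theorem N38995 : nd 38995 = n63772 := ndS (p := 19811) (l := 7) rfl N19811 D63772
theorem N38996 : nd 38996 = n63773 := ndS (p := 19812) (l := 3) rfl N19812 D63773
theorem N38997 : nd 38997 = n63774 := ndS (p := 19812) (l := 6) rfl N19812 D63774
theorem N38998 : nd 38998 = n63775 := ndS (p := 19813) (l := 3) rfl N19813 D63775
theorem N38999 : nd 38999 = n63776 := ndS (p := 19813) (l := 6) rfl N19813 D63776
theorem N39000 : nd 39000 = n63777 := ndS (p := 19815) (l := 3) rfl N19815 D63777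
theorem N39001 : nd 39001 = n63778 := ndS (p := 19815) (l := 6) rfl N19815 D63778
theorem N39002 : nd 39002 = n63779 := ndS (p := 19816) (l := 3) rfl N19816 D63779
theorem N39003 : nd 39003 = n63780 := ndS (p := 19816) (l := 6) rfl N19816 D63780
theorem N39004 : nd 39004 = n63781 := ndS (p := 19817) (l := 6) rfl N19817 D63781
theorem N39005 : nd 39005 = n63782 := ndS (p := 19818) (l := 0) rfl N19818 D63782
theorem N39006 : nd 39006 = n63783 := ndS (p := 19818) (l := 1) rfl N19818 D63783
theorem N39007 : nd 39007 = n63784 := ndS (p := 19818) (l := 7) rfl N19818 D63784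
theorem N39008 : nd 39008 = n63786 := ndS (p := 19819) (l := 1) rfl N19819 D63786
theorem N39009 : nd 39009 = n63787 := ndS (p := 19819) (l := 5) rfl N19819 D63787
theorem N39010 : nd 39010 = n63790 := ndS (p := 19820) (l := 4) rfl N19820 D63790
theorem N39011 : nd 39011 = n63791 := ndS (p := 19820) (l := 5) rfl N19820 D63791
theorem N39012 : nd 39012 = n63792 := ndS (p := 19820) (l := 6) rfl N19820 D63792
theorem N39013 : nd 39013 = n63797 := ndS (p := 19821) (l := 0) rfl N19821 D63797
theorem N39014 : nd 39014 = n63799 := ndS (p := 19821) (l := 7) rfl N19821 D63799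
theorem N39015 : nd 39015 = n63800 := ndS (p := 19822) (l := 0) rfl N19822 D63800
theorem N39016 : nd 39016 = n63801 := ndS (p := 19822) (l := 1) rfl N19822 D63801
theorem N39017 : nd 39017 = n63802 := ndS (p := 19822) (l := 7) rfl N19822 D63802
theorem N39018 : nd 39018 = n63803 := ndS (p := 19823) (l := 0) rfl N19823 D63803
theorem N39019 : nd 39019 = n63804 := ndS (p := 19823) (l := 1) rfl N19823 D63804
theorem N39020 : nd 39020 = n63805 := ndS (p := 19823) (l := 2) rfl N19823 D63805
theorem N39021 : nd 39021 = n63806 := ndS (p := 19823) (l := 5) rfl N19823 D63806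
theorem N39022 : nd 39022 = n63807 := ndS (p := 19824) (l := 6) rfl N19824 D63807
theorem N39023 : nd 39023 = n63808 := ndS (p := 19826) (l := 0) rfl N19826 D63808
theorem N39024 : nd 39024 = n63809 := ndS (p := 19826) (l := 1) rfl N19826 D63809
theorem N39025 : nd 39025 = n63810 := ndS (p := 19826) (l := 2) rfl N19826 D63810
theorem N39026 : nd 39026 = n63811 := ndS (p := 19826) (l := 5) rfl N19826 D63811
theorem N39027 : nd 39027 = n63812 := ndS (p := 19826) (l := 6) rfl N19826 D63812
theorem N39028 : nd 39028 = n63813 := ndS (p := 19827) (l := 6) rfl N19827 D63813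
theorem N39029 : nd 39029 = n63814 := ndS (p := 19828) (l := 0) rfl N19828 D63814
theorem N39030 : nd 39030 = n63815 := ndS (p := 19828) (l := 5) rfl N19828 D63815
theorem N39031 : nd 39031 = n63816 := ndS (p := 19828) (l := 7) rfl N19828 D63816
theorem N39032 : nd 39032 = n63817 := ndS (p := 19829) (l := 4) rfl N19829 D63817
theorem N39033 : nd 39033 = n63818 := ndS (p := 19830) (l := 0) rfl N19830 D63818
theorem N39034 : nd 39034 = n63819 := ndS (p := 19830) (l := 1) rfl N19830 D63819
theorem N39035 : nd 39035 = n63820 := ndS (p := 19830) (l := 4) rfl N19830 D63820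
theorem N39036 : nd 39036 = n63821 := ndS (p := 19830) (l := 7) rfl N19830 D63821
theorem N39037 : nd 39037 = n63822 := ndS (p := 19832) (l := 3) rfl N19832 D63822
theorem N39038 : nd 39038 = n63823 := ndS (p := 19832) (l := 5) rfl N19832 D63823
theorem N39039 : nd 39039 = n63824 := ndS (p := 19832) (l := 7) rfl N19832 D63824
theorem N39040 : nd 39040 = n63825 := ndS (p := 19834) (l := 0) rfl N19834 D63825
theorem N39041 : nd 39041 = n63826 := ndS (p := 19834) (l := 1) rfl N19834 D63826
theorem N39042 : nd 39042 = n63827 := ndS (p := 19834) (l := 2) rfl N19834 D63827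
theorem N39043 : nd 39043 = n63828 := ndS (p := 19834) (l := 5) rfl N19834 D63828
theorem N39044 : nd 39044 = n63829 := ndS (p := 19834) (l := 6) rfl N19834 D63829
theorem N39045 : nd 39045 = n63830 := ndS (p := 19835) (l := 6) rfl N19835 D63830
theorem N39046 : nd 39046 = n63831 := ndS (p := 19836) (l := 0) rfl N19836 D63831
theorem N39047 : nd 39047 = n63832 := ndS (p := 19836) (l := 1) rfl N19836 D63832
theorem N39048 : nd 39048 = n63833 := ndS (p := 19836) (l := 5) rfl N19836 D63833
theorem N39049 : nd 39049 = n63834 := ndS (p := 19836) (l := 7) rfl N19836 D63834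
theorem N39050 : nd 39050 = n63837 := ndS (p := 19837) (l := 4) rfl N19837 D63837
theorem N39051 : nd 39051 = n63838 := ndS (p := 19837) (l := 6) rfl N19837 D63838
theorem N39052 : nd 39052 = n63841 := ndS (p := 19838) (l := 4) rfl N19838 D63841
theorem N39053 : nd 39053 = n63842 := ndS (p := 19840) (l := 0) rfl N19840 D63842
theorem N39054 : nd 39054 = n63843 := ndS (p := 19840) (l := 1) rfl N19840 D63843
theorem N39055 : nd 39055 = n63844 := ndS (p := 19840) (l := 2) rfl N19840 D63844
theorem N39056 : nd 39056 = n63845 := ndS (p := 19840) (l := 5) rfl N19840 D63845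
theorem N39057 : nd 39057 = n63846 := ndS (p := 19840) (l := 6) rfl N19840 D63846
theorem N39058 : nd 39058 = n63847 := ndS (p := 19841) (l := 6) rfl N19841 D63847
theorem N39059 : nd 39059 = n63850 := ndS (p := 19842) (l := 5) rfl N19842 D63850
theorem N39060 : nd 39060 = n63851 := ndS (p := 19842) (l := 7) rfl N19842 D63851
theorem N39061 : nd 39061 = n63852 := ndS (p := 19843) (l := 0) rfl N19843 D63852
theorem N39062 : nd 39062 = n63854 := ndS (p := 19843) (l := 2) rfl N19843 D63854
theorem N39063 : nd 39063 = n63855 := ndS (p := 19843) (l := 5) rfl N19843 D63855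
theorem N39064 : nd 39064 = n63856 := ndS (p := 19843) (l := 6) rfl N19843 D63856
theorem N39065 : nd 39065 = n63857 := ndS (p := 19844) (l := 6) rfl N19844 D63857
theorem N39066 : nd 39066 = n63860 := ndS (p := 19845) (l := 5) rfl N19845 D63860
theorem N39067 : nd 39067 = n63861 := ndS (p := 19845) (l := 7) rfl N19845 D63861
theorem N39068 : nd 39068 = n63862 := ndS (p := 19846) (l := 2) rfl N19846 D63862
theorem N39069 : nd 39069 = n63863 := ndS (p := 19846) (l := 3) rfl N19846 D63863
theorem N39070 : nd 39070 = n63864 := ndS (p := 19846) (l := 4) rfl N19846 D63864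
theorem N39071 : nd 39071 = n63865 := ndS (p := 19846) (l := 5) rfl N19846 D63865
theorem N39072 : nd 39072 = n63866 := ndS (p := 19846) (l := 6) rfl N19846 D63866
theorem N39073 : nd 39073 = n63867 := ndS (p := 19846) (l := 7) rfl N19846 D63867
theorem N39074 : nd 39074 = n63868 := ndS (p := 19847) (l := 3) rfl N19847 D63868
theorem N39075 : nd 39075 = n63869 := ndS (p := 19847) (l := 4) rfl N19847 D63869
theorem N39076 : nd 39076 = n63870 := ndS (p := 19847) (l := 5) rfl N19847 D63870
theorem N39077 : nd 39077 = n63871 := ndS (p := 19847) (l := 6) rfl N19847 D63871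
theorem N39078 : nd 39078 = n63874 := ndS (p := 19849) (l := 4) rfl N19849 D63874
theorem N39079 : nd 39079 = n63875 := ndS (p := 19849) (l := 6) rfl N19849 D63875
theorem N39080 : nd 39080 = n63876 := ndS (p := 19850) (l := 6) rfl N19850 D63876
theorem N39081 : nd 39081 = n63877 := ndS (p := 19851) (l := 3) rfl N19851 D63877
theorem N39082 : nd 39082 = n63878 := ndS (p := 19851) (l := 6) rfl N19851 D63878
theorem N39083 : nd 39083 = n63879 := ndS (p := 19852) (l := 0) rfl N19852 D63879
theorem N39084 : nd 39084 = n63880 := ndS (p := 19852) (l := 1) rfl N19852 D63880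
theorem N39085 : nd 39085 = n63881 := ndS (p := 19852) (l := 7) rfl N19852 D63881
theorem N39086 : nd 39086 = n63884 := ndS (p := 19853) (l := 5) rfl N19853 D63884
theorem N39087 : nd 39087 = n63891 := ndS (p := 19854) (l := 4) rfl N19854 D63891
theorem N39088 : nd 39088 = n63892 := ndS (p := 19854) (l := 5) rfl N19854 D63892
theorem N39089 : nd 39089 = n63893 := ndS (p := 19854) (l := 6) rfl N19854 D63893
theorem N39090 : nd 39090 = n63894 := ndS (p := 19855) (l := 3) rfl N19855 D63894
theorem N39091 : nd 39091 = n63895 := ndS (p := 19855) (l := 6) rfl N19855 D63895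
theorem N39092 : nd 39092 = n63896 := ndS (p := 19857) (l := 3) rfl N19857 D63896
theorem N39093 : nd 39093 = n63897 := ndS (p := 19857) (l := 5) rfl N19857 D63897
theorem N39094 : nd 39094 = n63898 := ndS (p := 19857) (l := 6) rfl N19857 D63898
theorem N39095 : nd 39095 = n63900 := ndS (p := 19858) (l := 1) rfl N19858 D63900
theorem N39096 : nd 39096 = n63901 := ndS (p := 19858) (l := 7) rfl N19858 D63901
theorem N39097 : nd 39097 = n63902 := ndS (p := 19859) (l := 3) rfl N19859 D63902
theorem N39098 : nd 39098 = n63903 := ndS (p := 19859) (l := 5) rfl N19859 D63903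
theorem N39099 : nd 39099 = n63904 := ndS (p := 19859) (l := 6) rfl N19859 D63904
theorem N39100 : nd 39100 = n63905 := ndS (p := 19860) (l := 3) rfl N19860 D63905
theorem N39101 : nd 39101 = n63906 := ndS (p := 19860) (l := 5) rfl N19860 D63906
theorem N39102 : nd 39102 = n63907 := ndS (p := 19860) (l := 6) rfl N19860 D63907
theorem N39103 : nd 39103 = n63908 := ndS (p := 19861) (l := 0) rfl N19861 D63908
theorem N39104 : nd 39104 = n63909 := ndS (p := 19861) (l := 1) rfl N19861 D63909
theorem N39105 : nd 39105 = n63910 := ndS (p := 19861) (l := 2) rfl N19861 D63910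
theorem N39106 : nd 39106 = n63911 := ndS (p := 19861) (l := 5) rfl N19861 D63911
theorem N39107 : nd 39107 = n63912 := ndS (p := 19861) (l := 7) rfl N19861 D63912
theorem N39108 : nd 39108 = n63913 := ndS (p := 19862) (l := 0) rfl N19862 D63913
theorem N39109 : nd 39109 = n63914 := ndS (p := 19862) (l := 1) rfl N19862 D63914
theorem N39110 : nd 39110 = n63915 := ndS (p := 19862) (l := 6) rfl N19862 D63915
theorem N39111 : nd 39111 = n63916 := ndS (p := 19862) (l := 7) rfl N19862 D63916
theorem N39112 : nd 39112 = n63917 := ndS (p := 19863) (l := 6) rfl N19863 D63917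
theorem N39113 : nd 39113 = n63918 := ndS (p := 19865) (l := 3) rfl N19865 D63918
theorem N39114 : nd 39114 = n63919 := ndS (p := 19865) (l := 6) rfl N19865 D63919
theorem N39115 : nd 39115 = n63920 := ndS (p := 19866) (l := 7) rfl N19866 D63920
theorem N39116 : nd 39116 = n63921 := ndS (p := 19867) (l := 3) rfl N19867 D63921
theorem N39117 : nd 39117 = n63922 := ndS (p := 19868) (l := 3) rfl N19868 D63922
theorem N39118 : nd 39118 = n63923 := ndS (p := 19868) (l := 6) rfl N19868 D63923
theorem N39119 : nd 39119 = n63924 := ndS (p := 19869) (l := 3) rfl N19869 D63924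
theorem N39120 : nd 39120 = n63925 := ndS (p := 19869) (l := 6) rfl N19869 D63925
theorem N39121 : nd 39121 = n63926 := ndS (p := 19870) (l := 0) rfl N19870 D63926
theorem N39122 : nd 39122 = n63927 := ndS (p := 19870) (l := 1) rfl N19870 D63927
theorem N39123 : nd 39123 = n63928 := ndS (p := 19870) (l := 2) rfl N19870 D63928
theorem N39124 : nd 39124 = n63929 := ndS (p := 19870) (l := 5) rfl N19870 D63929
theorem N39125 : nd 39125 = n63931 := ndS (p := 19871) (l := 0) rfl N19871 D63931
theorem N39126 : nd 39126 = n63932 := ndS (p := 19871) (l := 6) rfl N19871 D63932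
theorem N39127 : nd 39127 = n63933 := ndS (p := 19872) (l := 0) rfl N19872 D63933
theorem N39128 : nd 39128 = n63934 := ndS (p := 19872) (l := 1) rfl N19872 D63934
theorem N39129 : nd 39129 = n63935 := ndS (p := 19872) (l := 5) rfl N19872 D63935
theorem N39130 : nd 39130 = n63936 := ndS (p := 19872) (l := 7) rfl N19872 D63936
theorem N39131 : nd 39131 = n63942 := ndS (p := 19873) (l := 4) rfl N19873 D63942
theorem N39132 : nd 39132 = n63943 := ndS (p := 19873) (l := 6) rfl N19873 D63943
theorem N39133 : nd 39133 = n63944 := ndS (p := 19875) (l := 3) rfl N19875 D63944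
theorem N39134 : nd 39134 = n63945 := ndS (p := 19875) (l := 6) rfl N19875 D63945
theorem N39135 : nd 39135 = n63946 := ndS (p := 19876) (l := 7) rfl N19876 D63946
theorem N39136 : nd 39136 = n63947 := ndS (p := 19877) (l := 0) rfl N19877 D63947
theorem N39137 : nd 39137 = n63948 := ndS (p := 19877) (l := 1) rfl N19877 D63948
theorem N39138 : nd 39138 = n63949 := ndS (p := 19877) (l := 2) rfl N19877 D63949
theorem N39139 : nd 39139 = n63950 := ndS (p := 19877) (l := 5) rfl N19877 D63950
theorem N39140 : nd 39140 = n63951 := ndS (p := 19877) (l := 6) rfl N19877 D63951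
theorem N39141 : nd 39141 = n63952 := ndS (p := 19878) (l := 6) rfl N19878 D63952
theorem N39142 : nd 39142 = n63953 := ndS (p := 19879) (l := 0) rfl N19879 D63953
theorem N39143 : nd 39143 = n63954 := ndS (p := 19879) (l := 1) rfl N19879 D63954
theorem N39144 : nd 39144 = n63955 := ndS (p := 19879) (l := 5) rfl N19879 D63955
theorem N39145 : nd 39145 = n63956 := ndS (p := 19879) (l := 7) rfl N19879 D63956
theorem N39146 : nd 39146 = n63957 := ndS (p := 19880) (l := 4) rfl N19880 D63957
theorem N39147 : nd 39147 = n63958 := ndS (p := 19880) (l := 6) rfl N19880 D63958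
theorem N39148 : nd 39148 = n63959 := ndS (p := 19882) (l := 0) rfl N19882 D63959
theorem N39149 : nd 39149 = n63960 := ndS (p := 19882) (l := 1) rfl N19882 D63960
theorem N39150 : nd 39150 = n63961 := ndS (p := 19882) (l := 7) rfl N19882 D63961
theorem N39151 : nd 39151 = n63962 := ndS (p := 19883) (l := 3) rfl N19883 D63962
theorem N39152 : nd 39152 = n63963 := ndS (p := 19883) (l := 6) rfl N19883 D63963
theorem N39153 : nd 39153 = n63964 := ndS (p := 19884) (l := 0) rfl N19884 D63964
theorem N39154 : nd 39154 = n63965 := ndS (p := 19884) (l := 1) rfl N19884 D63965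
theorem N39155 : nd 39155 = n63966 := ndS (p := 19884) (l := 2) rfl N19884 D63966
theorem N39156 : nd 39156 = n63967 := ndS (p := 19884) (l := 5) rfl N19884 D63967
theorem N39157 : nd 39157 = n63968 := ndS (p := 19884) (l := 6) rfl N19884 D63968
theorem N39158 : nd 39158 = n63969 := ndS (p := 19885) (l := 6) rfl N19885 D63969
theorem N39159 : nd 39159 = n63971 := ndS (p := 19886) (l := 1) rfl N19886 D63971
theorem N39160 : nd 39160 = n63972 := ndS (p := 19886) (l := 5) rfl N19886 D63972
theorem N39161 : nd 39161 = n63973 := ndS (p := 19886) (l := 7) rfl N19886 D63973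
theorem N39162 : nd 39162 = n63980 := ndS (p := 19887) (l := 4) rfl N19887 D63980
theorem N39163 : nd 39163 = n63981 := ndS (p := 19887) (l := 6) rfl N19887 D63981
theorem N39164 : nd 39164 = n63982 := ndS (p := 19889) (l := 0) rfl N19889 D63982
theorem N39165 : nd 39165 = n63984 := ndS (p := 19889) (l := 7) rfl N19889 D63984
theorem N39166 : nd 39166 = n63985 := ndS (p := 19890) (l := 0) rfl N19890 D63985
theorem N39167 : nd 39167 = n63986 := ndS (p := 19890) (l := 1) rfl N19890 D63986
theorem N39168 : nd 39168 = n63987 := ndS (p := 19890) (l := 2) rfl N19890 D63987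
theorem N39169 : nd 39169 = n63988 := ndS (p := 19890) (l := 5) rfl N19890 D63988
theorem N39170 : nd 39170 = n63989 := ndS (p := 19890) (l := 6) rfl N19890 D63989
theorem N39171 : nd 39171 = n63990 := ndS (p := 19891) (l := 6) rfl N19891 D63990
theorem N39172 : nd 39172 = n63991 := ndS (p := 19892) (l := 0) rfl N19892 D63991
theorem N39173 : nd 39173 = n63992 := ndS (p := 19892) (l := 1) rfl N19892 D63992
theorem N39174 : nd 39174 = n63994 := ndS (p := 19892) (l := 7) rfl N19892 D63994
theorem N39175 : nd 39175 = n63997 := ndS (p := 19893) (l := 4) rfl N19893 D63997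
theorem N39176 : nd 39176 = n63998 := ndS (p := 19893) (l := 6) rfl N19893 D63998
theorem N39177 : nd 39177 = n64002 := ndS (p := 19895) (l := 0) rfl N19895 D64002
theorem N39178 : nd 39178 = n64003 := ndS (p := 19895) (l := 1) rfl N19895 D64003
theorem N39179 : nd 39179 = n64004 := ndS (p := 19895) (l := 2) rfl N19895 D64004
theorem N39180 : nd 39180 = n64005 := ndS (p := 19895) (l := 5) rfl N19895 D64005
theorem N39181 : nd 39181 = n64006 := ndS (p := 19895) (l := 6) rfl N19895 D64006
theorem N39182 : nd 39182 = n64007 := ndS (p := 19896) (l := 6) rfl N19896 D64007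
theorem N39183 : nd 39183 = n64012 := ndS (p := 19898) (l := 0) rfl N19898 D64012
theorem N39184 : nd 39184 = n64013 := ndS (p := 19898) (l := 1) rfl N19898 D64013
theorem N39185 : nd 39185 = n64015 := ndS (p := 19898) (l := 5) rfl N19898 D64015
theorem N39186 : nd 39186 = n64017 := ndS (p := 19899) (l := 6) rfl N19899 D64017
theorem N39187 : nd 39187 = n64018 := ndS (p := 19900) (l := 6) rfl N19900 D64018
theorem N39188 : nd 39188 = n64023 := ndS (p := 19902) (l := 0) rfl N19902 D64023
theorem N39189 : nd 39189 = n64024 := ndS (p := 19902) (l := 2) rfl N19902 D64024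
theorem N39190 : nd 39190 = n64025 := ndS (p := 19902) (l := 3) rfl N19902 D64025
theorem N39191 : nd 39191 = n64026 := ndS (p := 19902) (l := 4) rfl N19902 D64026
theorem N39192 : nd 39192 = n64027 := ndS (p := 19902) (l := 5) rfl N19902 D64027
theorem N39193 : nd 39193 = n64028 := ndS (p := 19902) (l := 6) rfl N19902 D64028
theorem N39194 : nd 39194 = n64029 := ndS (p := 19902) (l := 7) rfl N19902 D64029
theorem N39195 : nd 39195 = n64031 := ndS (p := 19903) (l := 4) rfl N19903 D64031
theorem N39196 : nd 39196 = n64032 := ndS (p := 19903) (l := 5) rfl N19903 D64032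
theorem N39197 : nd 39197 = n64036 := ndS (p := 19904) (l := 5) rfl N19904 D64036
theorem N39198 : nd 39198 = n64037 := ndS (p := 19905) (l := 0) rfl N19905 D64037
theorem N39199 : nd 39199 = n64038 := ndS (p := 19905) (l := 1) rfl N19905 D64038
theorem N39200 : nd 39200 = n64041 := ndS (p := 19906) (l := 6) rfl N19906 D64041
theorem N39201 : nd 39201 = n64042 := ndS (p := 19907) (l := 3) rfl N19907 D64042
theorem N39202 : nd 39202 = n64043 := ndS (p := 19907) (l := 6) rfl N19907 D64043
theorem N39203 : nd 39203 = n64044 := ndS (p := 19908) (l := 3) rfl N19908 D64044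
theorem N39204 : nd 39204 = n64045 := ndS (p := 19908) (l := 6) rfl N19908 D64045
theorem N39205 : nd 39205 = n64046 := ndS (p := 19909) (l := 0) rfl N19909 D64046
theorem N39206 : nd 39206 = n64048 := ndS (p := 19909) (l := 7) rfl N19909 D64048
theorem N39207 : nd 39207 = n64049 := ndS (p := 19910) (l := 0) rfl N19910 D64049
theorem N39208 : nd 39208 = n64050 := ndS (p := 19910) (l := 1) rfl N19910 D64050
theorem N39209 : nd 39209 = n64051 := ndS (p := 19910) (l := 5) rfl N19910 D64051
theorem N39210 : nd 39210 = n64054 := ndS (p := 19911) (l := 4) rfl N19911 D64054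
theorem N39211 : nd 39211 = n64055 := ndS (p := 19911) (l := 5) rfl N19911 D64055
theorem N39212 : nd 39212 = n64057 := ndS (p := 19912) (l := 3) rfl N19912 D64057
theorem N39213 : nd 39213 = n64058 := ndS (p := 19912) (l := 4) rfl N19912 D64058
theorem N39214 : nd 39214 = n64059 := ndS (p := 19912) (l := 5) rfl N19912 D64059
theorem N39215 : nd 39215 = n64060 := ndS (p := 19912) (l := 6) rfl N19912 D64060
theorem N39216 : nd 39216 = n64061 := ndS (p := 19913) (l := 3) rfl N19913 D64061
theorem N39217 : nd 39217 = n64062 := ndS (p := 19913) (l := 5) rfl N19913 D64062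
theorem N39218 : nd 39218 = n64063 := ndS (p := 19913) (l := 6) rfl N19913 D64063
theorem N39219 : nd 39219 = n64064 := ndS (p := 19914) (l := 3) rfl N19914 D64064
theorem N39220 : nd 39220 = n64065 := ndS (p := 19914) (l := 5) rfl N19914 D64065
theorem N39221 : nd 39221 = n64066 := ndS (p := 19914) (l := 6) rfl N19914 D64066
theorem N39222 : nd 39222 = n64067 := ndS (p := 19915) (l := 0) rfl N19915 D64067
theorem N39223 : nd 39223 = n64068 := ndS (p := 19915) (l := 1) rfl N19915 D64068
theorem N39224 : nd 39224 = n64069 := ndS (p := 19915) (l := 2) rfl N19915 D64069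
theorem N39225 : nd 39225 = n64070 := ndS (p := 19915) (l := 5) rfl N19915 D64070
theorem N39226 : nd 39226 = n64071 := ndS (p := 19916) (l := 0) rfl N19916 D64071
theorem N39227 : nd 39227 = n64072 := ndS (p := 19916) (l := 1) rfl N19916 D64072
theorem N39228 : nd 39228 = n64073 := ndS (p := 19916) (l := 6) rfl N19916 D64073
theorem N39229 : nd 39229 = n64074 := ndS (p := 19917) (l := 5) rfl N19917 D64074
theorem N39230 : nd 39230 = n64075 := ndS (p := 19917) (l := 6) rfl N19917 D64075
theorem N39231 : nd 39231 = n64076 := ndS (p := 19918) (l := 0) rfl N19918 D64076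
theorem N39232 : nd 39232 = n64077 := ndS (p := 19918) (l := 1) rfl N19918 D64077
theorem N39233 : nd 39233 = n64078 := ndS (p := 19918) (l := 2) rfl N19918 D64078
theorem N39234 : nd 39234 = n64079 := ndS (p := 19918) (l := 5) rfl N19918 D64079
theorem N39235 : nd 39235 = n64080 := ndS (p := 19919) (l := 0) rfl N19919 D64080
theorem N39236 : nd 39236 = n64081 := ndS (p := 19919) (l := 4) rfl N19919 D64081
theorem N39237 : nd 39237 = n64082 := ndS (p := 19919) (l := 6) rfl N19919 D64082
theorem N39238 : nd 39238 = n64083 := ndS (p := 19920) (l := 3) rfl N19920 D64083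
theorem N39239 : nd 39239 = n64084 := ndS (p := 19920) (l := 5) rfl N19920 D64084
theorem N39240 : nd 39240 = n64085 := ndS (p := 19921) (l := 3) rfl N19921 D64085
theorem N39241 : nd 39241 = n64086 := ndS (p := 19921) (l := 5) rfl N19921 D64086
theorem N39242 : nd 39242 = n64087 := ndS (p := 19921) (l := 6) rfl N19921 D64087
theorem N39243 : nd 39243 = n64089 := ndS (p := 19922) (l := 1) rfl N19922 D64089
theorem N39244 : nd 39244 = n64090 := ndS (p := 19922) (l := 7) rfl N19922 D64090
theorem N39245 : nd 39245 = n64091 := ndS (p := 19923) (l := 5) rfl N19923 D64091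
theorem N39246 : nd 39246 = n64092 := ndS (p := 19923) (l := 6) rfl N19923 D64092
theorem N39247 : nd 39247 = n64094 := ndS (p := 19924) (l := 1) rfl N19924 D64094
theorem N39248 : nd 39248 = n64095 := ndS (p := 19924) (l := 7) rfl N19924 D64095
theorem N39249 : nd 39249 = n64096 := ndS (p := 19925) (l := 0) rfl N19925 D64096
theorem N39250 : nd 39250 = n64097 := ndS (p := 19925) (l := 1) rfl N19925 D64097
theorem N39251 : nd 39251 = n64098 := ndS (p := 19925) (l := 2) rfl N19925 D64098
theorem N39252 : nd 39252 = n64099 := ndS (p := 19925) (l := 5) rfl N19925 D64099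
theorem N39253 : nd 39253 = n64100 := ndS (p := 19926) (l := 6) rfl N19926 D64100
theorem N39254 : nd 39254 = n64101 := ndS (p := 19928) (l := 3) rfl N19928 D64101
theorem N39255 : nd 39255 = n64102 := ndS (p := 19928) (l := 6) rfl N19928 D64102
theorem N39256 : nd 39256 = n64103 := ndS (p := 19929) (l := 0) rfl N19929 D64103
theorem N39257 : nd 39257 = n64104 := ndS (p := 19929) (l := 1) rfl N19929 D64104
theorem N39258 : nd 39258 = n64105 := ndS (p := 19929) (l := 7) rfl N19929 D64105
theorem N39259 : nd 39259 = n64106 := ndS (p := 19930) (l := 3) rfl N19930 D64106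
theorem N39260 : nd 39260 = n64107 := ndS (p := 19930) (l := 5) rfl N19930 D64107
theorem N39261 : nd 39261 = n64108 := ndS (p := 19930) (l := 6) rfl N19930 D64108
theorem N39262 : nd 39262 = n64109 := ndS (p := 19931) (l := 0) rfl N19931 D64109
theorem N39263 : nd 39263 = n64110 := ndS (p := 19931) (l := 1) rfl N19931 D64110
theorem N39264 : nd 39264 = n64111 := ndS (p := 19932) (l := 3) rfl N19932 D64111
theorem N39265 : nd 39265 = n64112 := ndS (p := 19932) (l := 5) rfl N19932 D64112
theorem N39266 : nd 39266 = n64113 := ndS (p := 19933) (l := 3) rfl N19933 D64113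
theorem N39267 : nd 39267 = n64114 := ndS (p := 19933) (l := 5) rfl N19933 D64114
theorem N39268 : nd 39268 = n64115 := ndS (p := 19933) (l := 6) rfl N19933 D64115
theorem N39269 : nd 39269 = n64116 := ndS (p := 19934) (l := 3) rfl N19934 D64116
theorem N39270 : nd 39270 = n64117 := ndS (p := 19934) (l := 5) rfl N19934 D64117
theorem N39271 : nd 39271 = n64118 := ndS (p := 19935) (l := 0) rfl N19935 D64118
theorem N39272 : nd 39272 = n64119 := ndS (p := 19935) (l := 1) rfl N19935 D64119
theorem N39273 : nd 39273 = n64121 := ndS (p := 19935) (l := 5) rfl N19935 D64121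
theorem N39274 : nd 39274 = n64123 := ndS (p := 19936) (l := 0) rfl N19936 D64123
theorem N39275 : nd 39275 = n64124 := ndS (p := 19936) (l := 1) rfl N19936 D64124
theorem N39276 : nd 39276 = n64125 := ndS (p := 19936) (l := 6) rfl N19936 D64125
theorem N39277 : nd 39277 = n64128 := ndS (p := 19937) (l := 5) rfl N19937 D64128
theorem N39278 : nd 39278 = n64132 := ndS (p := 19938) (l := 4) rfl N19938 D64132
theorem N39279 : nd 39279 = n64135 := ndS (p := 19939) (l := 4) rfl N19939 D64135
theorem N39280 : nd 39280 = n64136 := ndS (p := 19939) (l := 6) rfl N19939 D64136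
theorem N39281 : nd 39281 = n64140 := ndS (p := 19941) (l := 5) rfl N19941 D64140
theorem N39282 : nd 39282 = n64142 := ndS (p := 19942) (l := 6) rfl N19942 D64142
theorem N39283 : nd 39283 = n64143 := ndS (p := 19943) (l := 0) rfl N19943 D64143
theorem N39284 : nd 39284 = n64144 := ndS (p := 19943) (l := 5) rfl N19943 D64144
theorem N39285 : nd 39285 = n64146 := ndS (p := 19944) (l := 4) rfl N19944 D64146
theorem N39286 : nd 39286 = n64147 := ndS (p := 19946) (l := 3) rfl N19946 D64147
theorem N39287 : nd 39287 = n64148 := ndS (p := 19946) (l := 6) rfl N19946 D64148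
theorem N39288 : nd 39288 = n64149 := ndS (p := 19947) (l := 0) rfl N19947 D64149
theorem N39289 : nd 39289 = n64150 := ndS (p := 19947) (l := 1) rfl N19947 D64150
theorem N39290 : nd 39290 = n64151 := ndS (p := 19947) (l := 7) rfl N19947 D64151
theorem N39291 : nd 39291 = n64152 := ndS (p := 19948) (l := 3) rfl N19948 D64152
theorem N39292 : nd 39292 = n64153 := ndS (p := 19948) (l := 6) rfl N19948 D64153
theorem N39293 : nd 39293 = n64154 := ndS (p := 19949) (l := 3) rfl N19949 D64154
theorem N39294 : nd 39294 = n64155 := ndS (p := 19950) (l := 0) rfl N19950 D64155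
theorem N39295 : nd 39295 = n64156 := ndS (p := 19950) (l := 1) rfl N19950 D64156
theorem N39296 : nd 39296 = n64157 := ndS (p := 19950) (l := 2) rfl N19950 D64157
theorem N39297 : nd 39297 = n64158 := ndS (p := 19950) (l := 5) rfl N19950 D64158
theorem N39298 : nd 39298 = n64159 := ndS (p := 19950) (l := 6) rfl N19950 D64159
theorem N39299 : nd 39299 = n64160 := ndS (p := 19951) (l := 0) rfl N19951 D64160
theorem N39300 : nd 39300 = n64161 := ndS (p := 19951) (l := 1) rfl N19951 D64161
theorem N39301 : nd 39301 = n64162 := ndS (p := 19951) (l := 6) rfl N19951 D64162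
theorem N39302 : nd 39302 = n64163 := ndS (p := 19952) (l := 0) rfl N19952 D64163
theorem N39303 : nd 39303 = n64164 := ndS (p := 19952) (l := 1) rfl N19952 D64164
theorem N39304 : nd 39304 = n64165 := ndS (p := 19952) (l := 5) rfl N19952 D64165
theorem N39305 : nd 39305 = n64166 := ndS (p := 19952) (l := 7) rfl N19952 D64166
theorem N39306 : nd 39306 = n64169 := ndS (p := 19953) (l := 4) rfl N19953 D64169
theorem N39307 : nd 39307 = n64170 := ndS (p := 19953) (l := 5) rfl N19953 D64170
theorem N39308 : nd 39308 = n64173 := ndS (p := 19954) (l := 4) rfl N19954 D64173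
theorem N39309 : nd 39309 = n64175 := ndS (p := 19954) (l := 6) rfl N19954 D64175
theorem N39310 : nd 39310 = n64176 := ndS (p := 19956) (l := 0) rfl N19956 D64176
theorem N39311 : nd 39311 = n64177 := ndS (p := 19956) (l := 1) rfl N19956 D64177
theorem N39312 : nd 39312 = n64178 := ndS (p := 19956) (l := 2) rfl N19956 D64178
theorem N39313 : nd 39313 = n64179 := ndS (p := 19956) (l := 5) rfl N19956 D64179
theorem N39314 : nd 39314 = n64180 := ndS (p := 19956) (l := 6) rfl N19956 D64180
theorem N39315 : nd 39315 = n64181 := ndS (p := 19957) (l := 6) rfl N19957 D64181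
theorem N39316 : nd 39316 = n64182 := ndS (p := 19958) (l := 0) rfl N19958 D64182
theorem N39317 : nd 39317 = n64183 := ndS (p := 19958) (l := 1) rfl N19958 D64183
theorem N39318 : nd 39318 = n64184 := ndS (p := 19958) (l := 5) rfl N19958 D64184
theorem N39319 : nd 39319 = n64185 := ndS (p := 19958) (l := 7) rfl N19958 D64185
theorem N39320 : nd 39320 = n64188 := ndS (p := 19959) (l := 4) rfl N19959 D64188
theorem N39321 : nd 39321 = n64189 := ndS (p := 19959) (l := 6) rfl N19959 D64189
theorem N39322 : nd 39322 = n64192 := ndS (p := 19960) (l := 4) rfl N19960 D64192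
theorem N39323 : nd 39323 = n64193 := ndS (p := 19962) (l := 0) rfl N19962 D64193
theorem N39324 : nd 39324 = n64194 := ndS (p := 19962) (l := 1) rfl N19962 D64194
theorem N39325 : nd 39325 = n64195 := ndS (p := 19962) (l := 2) rfl N19962 D64195
theorem N39326 : nd 39326 = n64196 := ndS (p := 19962) (l := 5) rfl N19962 D64196
theorem N39327 : nd 39327 = n64197 := ndS (p := 19962) (l := 6) rfl N19962 D64197
theorem N39328 : nd 39328 = n64198 := ndS (p := 19963) (l := 0) rfl N19963 D64198
theorem N39329 : nd 39329 = n64199 := ndS (p := 19963) (l := 6) rfl N19963 D64199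
theorem N39330 : nd 39330 = n64201 := ndS (p := 19964) (l := 5) rfl N19964 D64201
theorem N39331 : nd 39331 = n64202 := ndS (p := 19964) (l := 7) rfl N19964 D64202
theorem N39332 : nd 39332 = n64203 := ndS (p := 19965) (l := 0) rfl N19965 D64203
theorem N39333 : nd 39333 = n64204 := ndS (p := 19965) (l := 1) rfl N19965 D64204
theorem N39334 : nd 39334 = n64205 := ndS (p := 19965) (l := 2) rfl N19965 D64205
theorem N39335 : nd 39335 = n64206 := ndS (p := 19965) (l := 5) rfl N19965 D64206
theorem N39336 : nd 39336 = n64207 := ndS (p := 19965) (l := 6) rfl N19965 D64207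
theorem N39337 : nd 39337 = n64208 := ndS (p := 19966) (l := 6) rfl N19966 D64208
theorem N39338 : nd 39338 = n64211 := ndS (p := 19967) (l := 5) rfl N19967 D64211
theorem N39339 : nd 39339 = n64212 := ndS (p := 19967) (l := 7) rfl N19967 D64212
theorem N39340 : nd 39340 = n64213 := ndS (p := 19968) (l := 0) rfl N19968 D64213
theorem N39341 : nd 39341 = n64214 := ndS (p := 19968) (l := 2) rfl N19968 D64214
theorem N39342 : nd 39342 = n64215 := ndS (p := 19968) (l := 3) rfl N19968 D64215
theorem N39343 : nd 39343 = n64216 := ndS (p := 19968) (l := 4) rfl N19968 D64216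
theorem N39344 : nd 39344 = n64217 := ndS (p := 19968) (l := 5) rfl N19968 D64217
theorem N39345 : nd 39345 = n64218 := ndS (p := 19968) (l := 6) rfl N19968 D64218
theorem N39346 : nd 39346 = n64219 := ndS (p := 19968) (l := 7) rfl N19968 D64219
theorem N39347 : nd 39347 = n64220 := ndS (p := 19969) (l := 3) rfl N19969 D64220
theorem N39348 : nd 39348 = n64222 := ndS (p := 19969) (l := 5) rfl N19969 D64222
theorem N39349 : nd 39349 = n64226 := ndS (p := 19970) (l := 5) rfl N19970 D64226
theorem N39350 : nd 39350 = n64227 := ndS (p := 19971) (l := 0) rfl N19971 D64227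
theorem N39351 : nd 39351 = n64228 := ndS (p := 19971) (l := 1) rfl N19971 D64228
theorem N39352 : nd 39352 = n64229 := ndS (p := 19971) (l := 4) rfl N19971 D64229
theorem N39353 : nd 39353 = n64230 := ndS (p := 19971) (l := 6) rfl N19971 D64230
theorem N39354 : nd 39354 = n64231 := ndS (p := 19971) (l := 7) rfl N19971 D64231
theorem N39355 : nd 39355 = n64232 := ndS (p := 19972) (l := 6) rfl N19972 D64232
theorem N39356 : nd 39356 = n64233 := ndS (p := 19973) (l := 3) rfl N19973 D64233
theorem N39357 : nd 39357 = n64234 := ndS (p := 19973) (l := 6) rfl N19973 D64234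
theorem N39358 : nd 39358 = n64235 := ndS (p := 19974) (l := 3) rfl N19974 D64235
theorem N39359 : nd 39359 = n64236 := ndS (p := 19974) (l := 6) rfl N19974 D64236
theorem N39360 : nd 39360 = n64237 := ndS (p := 19975) (l := 3) rfl N19975 D64237
theorem N39361 : nd 39361 = n64238 := ndS (p := 19975) (l := 6) rfl N19975 D64238
theorem N39362 : nd 39362 = n64239 := ndS (p := 19976) (l := 0) rfl N19976 D64239
theorem N39363 : nd 39363 = n64240 := ndS (p := 19976) (l := 1) rfl N19976 D64240
theorem N39364 : nd 39364 = n64241 := ndS (p := 19976) (l := 7) rfl N19976 D64241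
theorem N39365 : nd 39365 = n64242 := ndS (p := 19977) (l := 6) rfl N19977 D64242
theorem N39366 : nd 39366 = n64243 := ndS (p := 19978) (l := 5) rfl N19978 D64243
theorem N39367 : nd 39367 = n64244 := ndS (p := 19979) (l := 0) rfl N19979 D64244
theorem N39368 : nd 39368 = n64246 := ndS (p := 19980) (l := 0) rfl N19980 D64246
theorem N39369 : nd 39369 = n64247 := ndS (p := 19980) (l := 1) rfl N19980 D64247
theorem N39370 : nd 39370 = n64248 := ndS (p := 19980) (l := 7) rfl N19980 D64248
theorem N39371 : nd 39371 = n64250 := ndS (p := 19982) (l := 3) rfl N19982 D64250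
theorem N39372 : nd 39372 = n64251 := ndS (p := 19982) (l := 6) rfl N19982 D64251
theorem N39373 : nd 39373 = n64252 := ndS (p := 19983) (l := 0) rfl N19983 D64252
theorem N39374 : nd 39374 = n64253 := ndS (p := 19983) (l := 1) rfl N19983 D64253
theorem N39375 : nd 39375 = n64254 := ndS (p := 19983) (l := 2) rfl N19983 D64254
theorem N39376 : nd 39376 = n64255 := ndS (p := 19983) (l := 5) rfl N19983 D64255
theorem N39377 : nd 39377 = n64256 := ndS (p := 19983) (l := 6) rfl N19983 D64256
theorem N39378 : nd 39378 = n64257 := ndS (p := 19984) (l := 6) rfl N19984 D64257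
theorem N39379 : nd 39379 = n64259 := ndS (p := 19985) (l := 1) rfl N19985 D64259
theorem N39380 : nd 39380 = n64260 := ndS (p := 19985) (l := 5) rfl N19985 D64260
theorem N39381 : nd 39381 = n64261 := ndS (p := 19985) (l := 7) rfl N19985 D64261
theorem N39382 : nd 39382 = n64268 := ndS (p := 19987) (l := 6) rfl N19987 D64268
theorem N39383 : nd 39383 = n64269 := ndS (p := 19988) (l := 0) rfl N19988 D64269
theorem N39384 : nd 39384 = n64270 := ndS (p := 19988) (l := 1) rfl N19988 D64270
theorem N39385 : nd 39385 = n64271 := ndS (p := 19988) (l := 7) rfl N19988 D64271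
theorem N39386 : nd 39386 = n64272 := ndS (p := 19990) (l := 5) rfl N19990 D64272
theorem N39387 : nd 39387 = n64273 := ndS (p := 19990) (l := 6) rfl N19990 D64273
theorem N39388 : nd 39388 = n64275 := ndS (p := 19991) (l := 1) rfl N19991 D64275
theorem N39389 : nd 39389 = n64276 := ndS (p := 19992) (l := 3) rfl N19992 D64276
theorem N39390 : nd 39390 = n64277 := ndS (p := 19992) (l := 6) rfl N19992 D64277
theorem N39391 : nd 39391 = n64278 := ndS (p := 19993) (l := 7) rfl N19993 D64278
theorem N39392 : nd 39392 = n64279 := ndS (p := 19996) (l := 3) rfl N19996 D64279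
theorem N39393 : nd 39393 = n64280 := ndS (p := 19996) (l := 6) rfl N19996 D64280
theorem N39394 : nd 39394 = n64281 := ndS (p := 19997) (l := 0) rfl N19997 D64281
theorem N39395 : nd 39395 = n64282 := ndS (p := 19997) (l := 1) rfl N19997 D64282
theorem N39396 : nd 39396 = n64283 := ndS (p := 19997) (l := 7) rfl N19997 D64283
theorem N39397 : nd 39397 = n64284 := ndS (p := 19998) (l := 3) rfl N19998 D64284
theorem N39398 : nd 39398 = n64285 := ndS (p := 19998) (l := 6) rfl N19998 D64285
theorem N39399 : nd 39399 = n64286 := ndS (p := 19999) (l := 1) rfl N19999 D64286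
theorem N39400 : nd 39400 = n64287 := ndS (p := 19999) (l := 7) rfl N19999 D64287
theorem N39401 : nd 39401 = n64288 := ndS (p := 20000) (l := 0) rfl N20000 D64288
theorem N39402 : nd 39402 = n64289 := ndS (p := 20000) (l := 1) rfl N20000 D64289
theorem N39403 : nd 39403 = n64290 := ndS (p := 20000) (l := 2) rfl N20000 D64290
theorem N39404 : nd 39404 = n64291 := ndS (p := 20000) (l := 6) rfl N20000 D64291
theorem N39405 : nd 39405 = n64294 := ndS (p := 20001) (l := 5) rfl N20001 D64294
theorem N39406 : nd 39406 = n64295 := ndS (p := 20001) (l := 7) rfl N20001 D64295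
theorem N39407 : nd 39407 = n64298 := ndS (p := 20002) (l := 4) rfl N20002 D64298
theorem N39408 : nd 39408 = n64301 := ndS (p := 20003) (l := 4) rfl N20003 D64301
theorem N39409 : nd 39409 = n64302 := ndS (p := 20003) (l := 6) rfl N20003 D64302
theorem N39410 : nd 39410 = n64303 := ndS (p := 20004) (l := 0) rfl N20004 D64303
theorem N39411 : nd 39411 = n64304 := ndS (p := 20004) (l := 1) rfl N20004 D64304
theorem N39412 : nd 39412 = n64305 := ndS (p := 20004) (l := 4) rfl N20004 D64305
theorem N39413 : nd 39413 = n64306 := ndS (p := 20004) (l := 7) rfl N20004 D64306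
theorem N39414 : nd 39414 = n64307 := ndS (p := 20007) (l := 4) rfl N20007 D64307
theorem N39415 : nd 39415 = n64308 := ndS (p := 20008) (l := 3) rfl N20008 D64308
theorem N39416 : nd 39416 = n64309 := ndS (p := 20008) (l := 5) rfl N20008 D64309
theorem N39417 : nd 39417 = n64310 := ndS (p := 20009) (l := 0) rfl N20009 D64310
theorem N39418 : nd 39418 = n64311 := ndS (p := 20009) (l := 1) rfl N20009 D64311
theorem N39419 : nd 39419 = n64312 := ndS (p := 20009) (l := 2) rfl N20009 D64312
theorem N39420 : nd 39420 = n64314 := ndS (p := 20009) (l := 6) rfl N20009 D64314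
theorem N39421 : nd 39421 = n64316 := ndS (p := 20011) (l := 0) rfl N20011 D64316
theorem N39422 : nd 39422 = n64317 := ndS (p := 20011) (l := 1) rfl N20011 D64317
theorem N39423 : nd 39423 = n64318 := ndS (p := 20011) (l := 5) rfl N20011 D64318
theorem N39424 : nd 39424 = n64319 := ndS (p := 20011) (l := 7) rfl N20011 D64319
theorem N39425 : nd 39425 = n64320 := ndS (p := 20012) (l := 3) rfl N20012 D64320
theorem N39426 : nd 39426 = n64321 := ndS (p := 20012) (l := 4) rfl N20012 D64321
theorem N39427 : nd 39427 = n64323 := ndS (p := 20013) (l := 4) rfl N20013 D64323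
theorem N39428 : nd 39428 = n64324 := ndS (p := 20015) (l := 0) rfl N20015 D64324
theorem N39429 : nd 39429 = n64325 := ndS (p := 20015) (l := 1) rfl N20015 D64325
theorem N39430 : nd 39430 = n64326 := ndS (p := 20015) (l := 2) rfl N20015 D64326
theorem N39431 : nd 39431 = n64327 := ndS (p := 20015) (l := 5) rfl N20015 D64327
theorem N39432 : nd 39432 = n64328 := ndS (p := 20015) (l := 6) rfl N20015 D64328
theorem N39433 : nd 39433 = n64329 := ndS (p := 20016) (l := 6) rfl N20016 D64329
theorem N39434 : nd 39434 = n64330 := ndS (p := 20017) (l := 0) rfl N20017 D64330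
theorem N39435 : nd 39435 = n64331 := ndS (p := 20017) (l := 1) rfl N20017 D64331
theorem N39436 : nd 39436 = n64332 := ndS (p := 20017) (l := 5) rfl N20017 D64332
theorem N39437 : nd 39437 = n64333 := ndS (p := 20018) (l := 0) rfl N20018 D64333
theorem N39438 : nd 39438 = n64334 := ndS (p := 20018) (l := 1) rfl N20018 D64334
theorem N39439 : nd 39439 = n64335 := ndS (p := 20018) (l := 2) rfl N20018 D64335
theorem N39440 : nd 39440 = n64336 := ndS (p := 20018) (l := 5) rfl N20018 D64336
theorem N39441 : nd 39441 = n64337 := ndS (p := 20018) (l := 6) rfl N20018 D64337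
theorem N39442 : nd 39442 = n64338 := ndS (p := 20019) (l := 6) rfl N20019 D64338
theorem N39443 : nd 39443 = n64340 := ndS (p := 20020) (l := 5) rfl N20020 D64340
theorem N39444 : nd 39444 = n64341 := ndS (p := 20020) (l := 7) rfl N20020 D64341
theorem N39445 : nd 39445 = n64342 := ndS (p := 20021) (l := 0) rfl N20021 D64342
theorem N39446 : nd 39446 = n64343 := ndS (p := 20021) (l := 1) rfl N20021 D64343
theorem N39447 : nd 39447 = n64344 := ndS (p := 20021) (l := 2) rfl N20021 D64344
theorem N39448 : nd 39448 = n64345 := ndS (p := 20021) (l := 5) rfl N20021 D64345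
theorem N39449 : nd 39449 = n64346 := ndS (p := 20021) (l := 6) rfl N20021 D64346
theorem N39450 : nd 39450 = n64347 := ndS (p := 20022) (l := 6) rfl N20022 D64347
theorem N39451 : nd 39451 = n64348 := ndS (p := 20023) (l := 6) rfl N20023 D64348
theorem N39452 : nd 39452 = n64349 := ndS (p := 20024) (l := 5) rfl N20024 D64349
theorem N39453 : nd 39453 = n64352 := ndS (p := 20025) (l := 3) rfl N20025 D64352
theorem N39454 : nd 39454 = n64353 := ndS (p := 20025) (l := 4) rfl N20025 D64353
theorem N39455 : nd 39455 = n64354 := ndS (p := 20025) (l := 5) rfl N20025 D64354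
theorem N39456 : nd 39456 = n64355 := ndS (p := 20025) (l := 6) rfl N20025 D64355
theorem N39457 : nd 39457 = n64357 := ndS (p := 20026) (l := 3) rfl N20026 D64357
theorem N39458 : nd 39458 = n64358 := ndS (p := 20026) (l := 4) rfl N20026 D64358
theorem N39459 : nd 39459 = n64359 := ndS (p := 20026) (l := 5) rfl N20026 D64359
theorem N39460 : nd 39460 = n64360 := ndS (p := 20026) (l := 6) rfl N20026 D64360
theorem N39461 : nd 39461 = n64361 := ndS (p := 20027) (l := 5) rfl N20027 D64361
theorem N39462 : nd 39462 = n64362 := ndS (p := 20027) (l := 6) rfl N20027 D64362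
theorem N39463 : nd 39463 = n64363 := ndS (p := 20028) (l := 0) rfl N20028 D64363
theorem N39464 : nd 39464 = n64364 := ndS (p := 20028) (l := 1) rfl N20028 D64364
theorem N39465 : nd 39465 = n64365 := ndS (p := 20028) (l := 6) rfl N20028 D64365
theorem N39466 : nd 39466 = n64366 := ndS (p := 20029) (l := 0) rfl N20029 D64366
theorem N39467 : nd 39467 = n64367 := ndS (p := 20029) (l := 1) rfl N20029 D64367
theorem N39468 : nd 39468 = n64368 := ndS (p := 20029) (l := 5) rfl N20029 D64368
theorem N39469 : nd 39469 = n64369 := ndS (p := 20029) (l := 7) rfl N20029 D64369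
theorem N39470 : nd 39470 = n64370 := ndS (p := 20030) (l := 3) rfl N20030 D64370
theorem N39471 : nd 39471 = n64371 := ndS (p := 20030) (l := 6) rfl N20030 D64371
theorem N39472 : nd 39472 = n64372 := ndS (p := 20031) (l := 3) rfl N20031 D64372
theorem N39473 : nd 39473 = n64373 := ndS (p := 20031) (l := 6) rfl N20031 D64373
theorem N39474 : nd 39474 = n64374 := ndS (p := 20032) (l := 0) rfl N20032 D64374
theorem N39475 : nd 39475 = n64375 := ndS (p := 20032) (l := 1) rfl N20032 D64375
theorem N39476 : nd 39476 = n64376 := ndS (p := 20032) (l := 5) rfl N20032 D64376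
theorem N39477 : nd 39477 = n64377 := ndS (p := 20032) (l := 7) rfl N20032 D64377
theorem N39478 : nd 39478 = n64379 := ndS (p := 20033) (l := 3) rfl N20033 D64379
theorem N39479 : nd 39479 = n64381 := ndS (p := 20033) (l := 5) rfl N20033 D64381
theorem N39480 : nd 39480 = n64383 := ndS (p := 20034) (l := 3) rfl N20034 D64383
theorem N39481 : nd 39481 = n64384 := ndS (p := 20034) (l := 4) rfl N20034 D64384
theorem N39482 : nd 39482 = n64385 := ndS (p := 20034) (l := 5) rfl N20034 D64385
theorem N39483 : nd 39483 = n64386 := ndS (p := 20034) (l := 6) rfl N20034 D64386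
theorem N39484 : nd 39484 = n64387 := ndS (p := 20035) (l := 0) rfl N20035 D64387
theorem N39485 : nd 39485 = n64388 := ndS (p := 20035) (l := 1) rfl N20035 D64388
theorem N39486 : nd 39486 = n64389 := ndS (p := 20035) (l := 4) rfl N20035 D64389
theorem N39487 : nd 39487 = n64390 := ndS (p := 20035) (l := 7) rfl N20035 D64390
theorem N39488 : nd 39488 = n64396 := ndS (p := 20037) (l := 0) rfl N20037 D64396
theorem N39489 : nd 39489 = n64398 := ndS (p := 20037) (l := 3) rfl N20037 D64398
theorem N39490 : nd 39490 = n64399 := ndS (p := 20037) (l := 5) rfl N20037 D64399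
theorem N39491 : nd 39491 = n64400 := ndS (p := 20038) (l := 4) rfl N20038 D64400
theorem N39492 : nd 39492 = n64401 := ndS (p := 20038) (l := 6) rfl N20038 D64401
theorem N39493 : nd 39493 = n64409 := ndS (p := 20039) (l := 5) rfl N20039 D64409
theorem N39494 : nd 39494 = n64410 := ndS (p := 20039) (l := 6) rfl N20039 D64410
theorem N39495 : nd 39495 = n64413 := ndS (p := 20041) (l := 4) rfl N20041 D64413
theorem N39496 : nd 39496 = n64414 := ndS (p := 20041) (l := 6) rfl N20041 D64414
theorem N39497 : nd 39497 = n64416 := ndS (p := 20042) (l := 4) rfl N20042 D64416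
theorem N39498 : nd 39498 = n64417 := ndS (p := 20043) (l := 0) rfl N20043 D64417
theorem N39499 : nd 39499 = n64418 := ndS (p := 20043) (l := 1) rfl N20043 D64418
theorem N39500 : nd 39500 = n64419 := ndS (p := 20043) (l := 3) rfl N20043 D64419
theorem N39501 : nd 39501 = n64420 := ndS (p := 20043) (l := 5) rfl N20043 D64420
theorem N39502 : nd 39502 = n64421 := ndS (p := 20043) (l := 7) rfl N20043 D64421
theorem N39503 : nd 39503 = n64423 := ndS (p := 20045) (l := 5) rfl N20045 D64423
theorem N39504 : nd 39504 = n64424 := ndS (p := 20046) (l := 3) rfl N20046 D64424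
theorem N39505 : nd 39505 = n64425 := ndS (p := 20046) (l := 5) rfl N20046 D64425
theorem N39506 : nd 39506 = n64426 := ndS (p := 20046) (l := 6) rfl N20046 D64426
theorem N39507 : nd 39507 = n64427 := ndS (p := 20047) (l := 0) rfl N20047 D64427
theorem N39508 : nd 39508 = n64428 := ndS (p := 20047) (l := 1) rfl N20047 D64428
theorem N39509 : nd 39509 = n64429 := ndS (p := 20047) (l := 2) rfl N20047 D64429
theorem N39510 : nd 39510 = n64430 := ndS (p := 20048) (l := 0) rfl N20048 D64430
theorem N39511 : nd 39511 = n64431 := ndS (p := 20048) (l := 1) rfl N20048 D64431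
theorem N39512 : nd 39512 = n64432 := ndS (p := 20048) (l := 4) rfl N20048 D64432
theorem N39513 : nd 39513 = n64433 := ndS (p := 20048) (l := 6) rfl N20048 D64433
theorem N39514 : nd 39514 = n64434 := ndS (p := 20050) (l := 3) rfl N20050 D64434
theorem N39515 : nd 39515 = n64435 := ndS (p := 20050) (l := 6) rfl N20050 D64435
theorem N39516 : nd 39516 = n64437 := ndS (p := 20052) (l := 1) rfl N20052 D64437
theorem N39517 : nd 39517 = n64438 := ndS (p := 20053) (l := 0) rfl N20053 D64438
theorem N39518 : nd 39518 = n64439 := ndS (p := 20053) (l := 1) rfl N20053 D64439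
theorem N39519 : nd 39519 = n64440 := ndS (p := 20053) (l := 2) rfl N20053 D64440
theorem N39520 : nd 39520 = n64441 := ndS (p := 20053) (l := 5) rfl N20053 D64441
theorem N39521 : nd 39521 = n64442 := ndS (p := 20053) (l := 6) rfl N20053 D64442
theorem N39522 : nd 39522 = n64443 := ndS (p := 20054) (l := 6) rfl N20054 D64443
theorem N39523 : nd 39523 = n64444 := ndS (p := 20055) (l := 0) rfl N20055 D64444
theorem N39524 : nd 39524 = n64445 := ndS (p := 20055) (l := 5) rfl N20055 D64445
theorem N39525 : nd 39525 = n64446 := ndS (p := 20055) (l := 7) rfl N20055 D64446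
theorem N39526 : nd 39526 = n64449 := ndS (p := 20057) (l := 0) rfl N20057 D64449
theorem N39527 : nd 39527 = n64450 := ndS (p := 20057) (l := 1) rfl N20057 D64450
theorem N39528 : nd 39528 = n64451 := ndS (p := 20057) (l := 7) rfl N20057 D64451
theorem N39529 : nd 39529 = n64452 := ndS (p := 20059) (l := 0) rfl N20059 D64452
theorem N39530 : nd 39530 = n64453 := ndS (p := 20059) (l := 1) rfl N20059 D64453
theorem N39531 : nd 39531 = n64454 := ndS (p := 20059) (l := 2) rfl N20059 D64454
theorem N39532 : nd 39532 = n64455 := ndS (p := 20059) (l := 6) rfl N20059 D64455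
theorem N39533 : nd 39533 = n64457 := ndS (p := 20060) (l := 5) rfl N20060 D64457
theorem N39534 : nd 39534 = n64458 := ndS (p := 20060) (l := 7) rfl N20060 D64458
theorem N39535 : nd 39535 = n64459 := ndS (p := 20061) (l := 4) rfl N20061 D64459
theorem N39536 : nd 39536 = n64460 := ndS (p := 20061) (l := 5) rfl N20061 D64460
theorem N39537 : nd 39537 = n64461 := ndS (p := 20061) (l := 6) rfl N20061 D64461
theorem N39538 : nd 39538 = n64462 := ndS (p := 20062) (l := 4) rfl N20062 D64462
theorem N39539 : nd 39539 = n64463 := ndS (p := 20063) (l := 0) rfl N20063 D64463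
theorem N39540 : nd 39540 = n64464 := ndS (p := 20063) (l := 1) rfl N20063 D64464
theorem N39541 : nd 39541 = n64465 := ndS (p := 20063) (l := 7) rfl N20063 D64465
theorem N39542 : nd 39542 = n64467 := ndS (p := 20066) (l := 3) rfl N20066 D64467
theorem N39543 : nd 39543 = n64468 := ndS (p := 20066) (l := 4) rfl N20066 D64468
theorem N39544 : nd 39544 = n64469 := ndS (p := 20066) (l := 5) rfl N20066 D64469
theorem N39545 : nd 39545 = n64472 := ndS (p := 20067) (l := 3) rfl N20067 D64472
theorem N39546 : nd 39546 = n64473 := ndS (p := 20067) (l := 4) rfl N20067 D64473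
theorem N39547 : nd 39547 = n64474 := ndS (p := 20067) (l := 5) rfl N20067 D64474
theorem N39548 : nd 39548 = n64475 := ndS (p := 20067) (l := 6) rfl N20067 D64475
theorem N39549 : nd 39549 = n64476 := ndS (p := 20068) (l := 5) rfl N20068 D64476
theorem N39550 : nd 39550 = n64477 := ndS (p := 20068) (l := 6) rfl N20068 D64477
theorem N39551 : nd 39551 = n64478 := ndS (p := 20069) (l := 0) rfl N20069 D64478
theorem N39552 : nd 39552 = n64479 := ndS (p := 20069) (l := 1) rfl N20069 D64479
theorem N39553 : nd 39553 = n64480 := ndS (p := 20069) (l := 4) rfl N20069 D64480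
theorem N39554 : nd 39554 = n64481 := ndS (p := 20069) (l := 6) rfl N20069 D64481
theorem N39555 : nd 39555 = n64482 := ndS (p := 20070) (l := 0) rfl N20070 D64482
theorem N39556 : nd 39556 = n64483 := ndS (p := 20070) (l := 1) rfl N20070 D64483
theorem N39557 : nd 39557 = n64484 := ndS (p := 20070) (l := 5) rfl N20070 D64484
theorem N39558 : nd 39558 = n64485 := ndS (p := 20070) (l := 7) rfl N20070 D64485
theorem N39559 : nd 39559 = n64486 := ndS (p := 20071) (l := 0) rfl N20071 D64486
theorem N39560 : nd 39560 = n64487 := ndS (p := 20071) (l := 1) rfl N20071 D64487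
theorem N39561 : nd 39561 = n64488 := ndS (p := 20071) (l := 5) rfl N20071 D64488
theorem N39562 : nd 39562 = n64489 := ndS (p := 20071) (l := 7) rfl N20071 D64489
theorem N39563 : nd 39563 = n64490 := ndS (p := 20072) (l := 3) rfl N20072 D64490
theorem N39564 : nd 39564 = n64491 := ndS (p := 20072) (l := 4) rfl N20072 D64491
theorem N39565 : nd 39565 = n64492 := ndS (p := 20072) (l := 5) rfl N20072 D64492
theorem N39566 : nd 39566 = n64493 := ndS (p := 20072) (l := 6) rfl N20072 D64493
theorem N39567 : nd 39567 = n64494 := ndS (p := 20073) (l := 3) rfl N20073 D64494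
theorem N39568 : nd 39568 = n64495 := ndS (p := 20073) (l := 5) rfl N20073 D64495
theorem N39569 : nd 39569 = n64496 := ndS (p := 20074) (l := 0) rfl N20074 D64496
theorem N39570 : nd 39570 = n64497 := ndS (p := 20074) (l := 1) rfl N20074 D64497
theorem N39571 : nd 39571 = n64498 := ndS (p := 20074) (l := 4) rfl N20074 D64498
theorem N39572 : nd 39572 = n64499 := ndS (p := 20074) (l := 7) rfl N20074 D64499
theorem N39573 : nd 39573 = n64500 := ndS (p := 20076) (l := 0) rfl N20076 D64500
theorem N39574 : nd 39574 = n64501 := ndS (p := 20076) (l := 3) rfl N20076 D64501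
theorem N39575 : nd 39575 = n64502 := ndS (p := 20076) (l := 5) rfl N20076 D64502
theorem N39576 : nd 39576 = n64503 := ndS (p := 20076) (l := 6) rfl N20076 D64503
theorem N39577 : nd 39577 = n64504 := ndS (p := 20078) (l := 3) rfl N20078 D64504
theorem N39578 : nd 39578 = n64505 := ndS (p := 20078) (l := 5) rfl N20078 D64505
theorem N39579 : nd 39579 = n64507 := ndS (p := 20079) (l := 4) rfl N20079 D64507
theorem N39580 : nd 39580 = n64510 := ndS (p := 20080) (l := 4) rfl N20080 D64510
theorem N39581 : nd 39581 = n64511 := ndS (p := 20081) (l := 0) rfl N20081 D64511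
theorem N39582 : nd 39582 = n64512 := ndS (p := 20081) (l := 1) rfl N20081 D64512
theorem N39583 : nd 39583 = n64513 := ndS (p := 20081) (l := 3) rfl N20081 D64513
theorem N39584 : nd 39584 = n64514 := ndS (p := 20081) (l := 5) rfl N20081 D64514
theorem N39585 : nd 39585 = n64515 := ndS (p := 20081) (l := 7) rfl N20081 D64515
theorem N39586 : nd 39586 = n64516 := ndS (p := 20083) (l := 3) rfl N20083 D64516
theorem N39587 : nd 39587 = n64517 := ndS (p := 20083) (l := 5) rfl N20083 D64517
theorem N39588 : nd 39588 = n64518 := ndS (p := 20083) (l := 6) rfl N20083 D64518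
theorem N39589 : nd 39589 = n64519 := ndS (p := 20084) (l := 3) rfl N20084 D64519
theorem N39590 : nd 39590 = n64520 := ndS (p := 20084) (l := 5) rfl N20084 D64520
theorem N39591 : nd 39591 = n64521 := ndS (p := 20084) (l := 6) rfl N20084 D64521
theorem N39592 : nd 39592 = n64522 := ndS (p := 20085) (l := 0) rfl N20085 D64522
theorem N39593 : nd 39593 = n64523 := ndS (p := 20085) (l := 1) rfl N20085 D64523
theorem N39594 : nd 39594 = n64524 := ndS (p := 20085) (l := 2) rfl N20085 D64524
theorem N39595 : nd 39595 = n64525 := ndS (p := 20085) (l := 5) rfl N20085 D64525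
theorem N39596 : nd 39596 = n64526 := ndS (p := 20086) (l := 0) rfl N20086 D64526
theorem N39597 : nd 39597 = n64527 := ndS (p := 20086) (l := 6) rfl N20086 D64527
theorem N39598 : nd 39598 = n64530 := ndS (p := 20087) (l := 7) rfl N20087 D64530
theorem N39599 : nd 39599 = n64531 := ndS (p := 20088) (l := 0) rfl N20088 D64531
theorem N39600 : nd 39600 = n64532 := ndS (p := 20088) (l := 1) rfl N20088 D64532
theorem N39601 : nd 39601 = n64533 := ndS (p := 20088) (l := 2) rfl N20088 D64533
theorem N39602 : nd 39602 = n64534 := ndS (p := 20088) (l := 5) rfl N20088 D64534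
theorem N39603 : nd 39603 = n64535 := ndS (p := 20088) (l := 6) rfl N20088 D64535
theorem N39604 : nd 39604 = n64536 := ndS (p := 20089) (l := 6) rfl N20089 D64536
theorem N39605 : nd 39605 = n64537 := ndS (p := 20090) (l := 0) rfl N20090 D64537
theorem N39606 : nd 39606 = n64538 := ndS (p := 20090) (l := 1) rfl N20090 D64538
theorem N39607 : nd 39607 = n64539 := ndS (p := 20090) (l := 5) rfl N20090 D64539
theorem N39608 : nd 39608 = n64540 := ndS (p := 20090) (l := 7) rfl N20090 D64540
theorem N39609 : nd 39609 = n64544 := ndS (p := 20091) (l := 5) rfl N20091 D64544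
theorem N39610 : nd 39610 = n64545 := ndS (p := 20091) (l := 6) rfl N20091 D64545
theorem N39611 : nd 39611 = n64549 := ndS (p := 20092) (l := 5) rfl N20092 D64549
theorem N39612 : nd 39612 = n64550 := ndS (p := 20092) (l := 6) rfl N20092 D64550
theorem N39613 : nd 39613 = n64551 := ndS (p := 20093) (l := 1) rfl N20093 D64551
theorem N39614 : nd 39614 = n64552 := ndS (p := 20095) (l := 0) rfl N20095 D64552
theorem N39615 : nd 39615 = n64553 := ndS (p := 20095) (l := 1) rfl N20095 D64553
theorem N39616 : nd 39616 = n64554 := ndS (p := 20095) (l := 2) rfl N20095 D64554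
theorem N39617 : nd 39617 = n64555 := ndS (p := 20095) (l := 6) rfl N20095 D64555
theorem N39618 : nd 39618 = n64556 := ndS (p := 20096) (l := 5) rfl N20096 D64556
theorem N39619 : nd 39619 = n64557 := ndS (p := 20097) (l := 0) rfl N20097 D64557
theorem N39620 : nd 39620 = n64558 := ndS (p := 20097) (l := 1) rfl N20097 D64558
theorem N39621 : nd 39621 = n64559 := ndS (p := 20097) (l := 2) rfl N20097 D64559
theorem N39622 : nd 39622 = n64561 := ndS (p := 20098) (l := 3) rfl N20098 D64561
theorem N39623 : nd 39623 = n64562 := ndS (p := 20098) (l := 4) rfl N20098 D64562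
theorem N39624 : nd 39624 = n64564 := ndS (p := 20098) (l := 6) rfl N20098 D64564
theorem N39625 : nd 39625 = n64566 := ndS (p := 20099) (l := 3) rfl N20099 D64566
theorem N39626 : nd 39626 = n64567 := ndS (p := 20099) (l := 4) rfl N20099 D64567
theorem N39627 : nd 39627 = n64570 := ndS (p := 20100) (l := 5) rfl N20100 D64570
theorem N39628 : nd 39628 = n64571 := ndS (p := 20100) (l := 6) rfl N20100 D64571
theorem N39629 : nd 39629 = n64572 := ndS (p := 20101) (l := 0) rfl N20101 D64572
theorem N39630 : nd 39630 = n64573 := ndS (p := 20101) (l := 1) rfl N20101 D64573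
theorem N39631 : nd 39631 = n64574 := ndS (p := 20101) (l := 4) rfl N20101 D64574
theorem N39632 : nd 39632 = n64575 := ndS (p := 20101) (l := 6) rfl N20101 D64575
theorem N39633 : nd 39633 = n64576 := ndS (p := 20102) (l := 0) rfl N20102 D64576
theorem N39634 : nd 39634 = n64577 := ndS (p := 20102) (l := 1) rfl N20102 D64577
theorem N39635 : nd 39635 = n64578 := ndS (p := 20102) (l := 5) rfl N20102 D64578
theorem N39636 : nd 39636 = n64579 := ndS (p := 20102) (l := 7) rfl N20102 D64579
theorem N39637 : nd 39637 = n64580 := ndS (p := 20103) (l := 3) rfl N20103 D64580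
theorem N39638 : nd 39638 = n64581 := ndS (p := 20103) (l := 6) rfl N20103 D64581
theorem N39639 : nd 39639 = n64582 := ndS (p := 20104) (l := 3) rfl N20104 D64582
theorem N39640 : nd 39640 = n64583 := ndS (p := 20104) (l := 6) rfl N20104 D64583
theorem N39641 : nd 39641 = n64584 := ndS (p := 20105) (l := 0) rfl N20105 D64584
theorem N39642 : nd 39642 = n64585 := ndS (p := 20105) (l := 1) rfl N20105 D64585
theorem N39643 : nd 39643 = n64586 := ndS (p := 20105) (l := 5) rfl N20105 D64586
theorem N39644 : nd 39644 = n64587 := ndS (p := 20105) (l := 7) rfl N20105 D64587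
theorem N39645 : nd 39645 = n64589 := ndS (p := 20106) (l := 3) rfl N20106 D64589
theorem N39646 : nd 39646 = n64595 := ndS (p := 20107) (l := 4) rfl N20107 D64595
theorem N39647 : nd 39647 = n64597 := ndS (p := 20107) (l := 6) rfl N20107 D64597
theorem N39648 : nd 39648 = n64598 := ndS (p := 20108) (l := 0) rfl N20108 D64598
theorem N39649 : nd 39649 = n64600 := ndS (p := 20108) (l := 4) rfl N20108 D64600
theorem N39650 : nd 39650 = n64601 := ndS (p := 20108) (l := 7) rfl N20108 D64601
theorem N39651 : nd 39651 = n64607 := ndS (p := 20111) (l := 3) rfl N20111 D64607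
theorem N39652 : nd 39652 = n64609 := ndS (p := 20112) (l := 0) rfl N20112 D64609
theorem N39653 : nd 39653 = n64617 := ndS (p := 20113) (l := 3) rfl N20113 D64617
theorem N39654 : nd 39654 = n64619 := ndS (p := 20113) (l := 6) rfl N20113 D64619
theorem N39655 : nd 39655 = n64621 := ndS (p := 20116) (l := 1) rfl N20116 D64621
theorem N39656 : nd 39656 = n64622 := ndS (p := 20116) (l := 3) rfl N20116 D64622
theorem N39657 : nd 39657 = n64624 := ndS (p := 20117) (l := 7) rfl N20117 D64624
theorem N39658 : nd 39658 = n64625 := ndS (p := 20118) (l := 0) rfl N20118 D64625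
theorem N39659 : nd 39659 = n64626 := ndS (p := 20118) (l := 1) rfl N20118 D64626
theorem N39660 : nd 39660 = n64627 := ndS (p := 20118) (l := 2) rfl N20118 D64627
theorem N39661 : nd 39661 = n64628 := ndS (p := 20118) (l := 5) rfl N20118 D64628
theorem N39662 : nd 39662 = n64630 := ndS (p := 20119) (l := 6) rfl N20119 D64630
theorem N39663 : nd 39663 = n64631 := ndS (p := 20120) (l := 0) rfl N20120 D64631
theorem N39664 : nd 39664 = n64632 := ndS (p := 20120) (l := 1) rfl N20120 D64632
theorem N39665 : nd 39665 = n64633 := ndS (p := 20120) (l := 5) rfl N20120 D64633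
theorem N39666 : nd 39666 = n64634 := ndS (p := 20120) (l := 7) rfl N20120 D64634
theorem N39667 : nd 39667 = n64638 := ndS (p := 20121) (l := 6) rfl N20121 D64638
theorem N39668 : nd 39668 = n64645 := ndS (p := 20124) (l := 3) rfl N20124 D64645
theorem N39669 : nd 39669 = n64646 := ndS (p := 20124) (l := 4) rfl N20124 D64646
theorem N39670 : nd 39670 = n64650 := ndS (p := 20125) (l := 3) rfl N20125 D64650
theorem N39671 : nd 39671 = n64651 := ndS (p := 20125) (l := 4) rfl N20125 D64651
theorem N39672 : nd 39672 = n64653 := ndS (p := 20125) (l := 6) rfl N20125 D64653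
theorem N39673 : nd 39673 = n64654 := ndS (p := 20126) (l := 5) rfl N20126 D64654
theorem N39674 : nd 39674 = n64656 := ndS (p := 20127) (l := 0) rfl N20127 D64656
theorem N39675 : nd 39675 = n64657 := ndS (p := 20127) (l := 1) rfl N20127 D64657
theorem N39676 : nd 39676 = n64658 := ndS (p := 20127) (l := 4) rfl N20127 D64658
theorem N39677 : nd 39677 = n64664 := ndS (p := 20128) (l := 0) rfl N20128 D64664
theorem N39678 : nd 39678 = n64665 := ndS (p := 20128) (l := 1) rfl N20128 D64665
theorem N39679 : nd 39679 = n64667 := ndS (p := 20128) (l := 7) rfl N20128 D64667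
theorem N39680 : nd 39680 = n64669 := ndS (p := 20129) (l := 3) rfl N20129 D64669
theorem N39681 : nd 39681 = n64670 := ndS (p := 20129) (l := 4) rfl N20129 D64670
theorem N39682 : nd 39682 = n64671 := ndS (p := 20129) (l := 5) rfl N20129 D64671
theorem N39683 : nd 39683 = n64672 := ndS (p := 20129) (l := 6) rfl N20129 D64672
theorem N39684 : nd 39684 = n64674 := ndS (p := 20130) (l := 3) rfl N20130 D64674
theorem N39685 : nd 39685 = n64676 := ndS (p := 20130) (l := 5) rfl N20130 D64676
theorem N39686 : nd 39686 = n64689 := ndS (p := 20132) (l := 3) rfl N20132 D64689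
theorem N39687 : nd 39687 = n64690 := ndS (p := 20132) (l := 5) rfl N20132 D64690
theorem N39688 : nd 39688 = n64691 := ndS (p := 20132) (l := 6) rfl N20132 D64691
theorem N39689 : nd 39689 = n64692 := ndS (p := 20133) (l := 1) rfl N20133 D64692
theorem N39690 : nd 39690 = n64698 := ndS (p := 20134) (l := 5) rfl N20134 D64698
theorem N39691 : nd 39691 = n64700 := ndS (p := 20135) (l := 4) rfl N20135 D64700
theorem N39692 : nd 39692 = n64702 := ndS (p := 20136) (l := 4) rfl N20136 D64702
theorem N39693 : nd 39693 = n64703 := ndS (p := 20136) (l := 6) rfl N20136 D64703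
theorem N39694 : nd 39694 = n64704 := ndS (p := 20137) (l := 0) rfl N20137 D64704
theorem N39695 : nd 39695 = n64705 := ndS (p := 20137) (l := 1) rfl N20137 D64705
theorem N39696 : nd 39696 = n64706 := ndS (p := 20137) (l := 3) rfl N20137 D64706
theorem N39697 : nd 39697 = n64707 := ndS (p := 20137) (l := 5) rfl N20137 D64707
theorem N39698 : nd 39698 = n64708 := ndS (p := 20137) (l := 7) rfl N20137 D64708
theorem N39699 : nd 39699 = n64710 := ndS (p := 20139) (l := 3) rfl N20139 D64710
theorem N39700 : nd 39700 = n64711 := ndS (p := 20139) (l := 4) rfl N20139 D64711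
theorem N39701 : nd 39701 = n64712 := ndS (p := 20139) (l := 5) rfl N20139 D64712
theorem N39702 : nd 39702 = n64713 := ndS (p := 20139) (l := 6) rfl N20139 D64713
theorem N39703 : nd 39703 = n64715 := ndS (p := 20140) (l := 3) rfl N20140 D64715
theorem N39704 : nd 39704 = n64716 := ndS (p := 20140) (l := 4) rfl N20140 D64716
theorem N39705 : nd 39705 = n64717 := ndS (p := 20140) (l := 5) rfl N20140 D64717
theorem N39706 : nd 39706 = n64719 := ndS (p := 20141) (l := 4) rfl N20141 D64719
theorem N39707 : nd 39707 = n64720 := ndS (p := 20141) (l := 5) rfl N20141 D64720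
theorem N39708 : nd 39708 = n64721 := ndS (p := 20141) (l := 6) rfl N20141 D64721
theorem N39709 : nd 39709 = n64722 := ndS (p := 20142) (l := 0) rfl N20142 D64722
theorem N39710 : nd 39710 = n64723 := ndS (p := 20142) (l := 1) rfl N20142 D64723
theorem N39711 : nd 39711 = n64724 := ndS (p := 20142) (l := 5) rfl N20142 D64724
theorem N39712 : nd 39712 = n64725 := ndS (p := 20142) (l := 6) rfl N20142 D64725
theorem N39713 : nd 39713 = n64726 := ndS (p := 20143) (l := 0) rfl N20143 D64726
theorem N39714 : nd 39714 = n64727 := ndS (p := 20143) (l := 1) rfl N20143 D64727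
theorem N39715 : nd 39715 = n64728 := ndS (p := 20143) (l := 4) rfl N20143 D64728
theorem N39716 : nd 39716 = n64729 := ndS (p := 20143) (l := 6) rfl N20143 D64729
theorem N39717 : nd 39717 = n64730 := ndS (p := 20144) (l := 0) rfl N20144 D64730
theorem N39718 : nd 39718 = n64731 := ndS (p := 20144) (l := 1) rfl N20144 D64731
theorem N39719 : nd 39719 = n64734 := ndS (p := 20145) (l := 6) rfl N20145 D64734
theorem N39720 : nd 39720 = n64737 := ndS (p := 20146) (l := 7) rfl N20146 D64737
theorem N39721 : nd 39721 = n64739 := ndS (p := 20147) (l := 6) rfl N20147 D64739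
theorem N39722 : nd 39722 = n64740 := ndS (p := 20148) (l := 3) rfl N20148 D64740
theorem N39723 : nd 39723 = n64741 := ndS (p := 20148) (l := 6) rfl N20148 D64741
theorem N39724 : nd 39724 = n64743 := ndS (p := 20149) (l := 1) rfl N20149 D64743
theorem N39725 : nd 39725 = n64745 := ndS (p := 20149) (l := 7) rfl N20149 D64745
theorem N39726 : nd 39726 = n64752 := ndS (p := 20151) (l := 4) rfl N20151 D64752
theorem N39727 : nd 39727 = n64753 := ndS (p := 20151) (l := 5) rfl N20151 D64753
theorem N39728 : nd 39728 = n64756 := ndS (p := 20152) (l := 3) rfl N20152 D64756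
theorem N39729 : nd 39729 = n64757 := ndS (p := 20152) (l := 4) rfl N20152 D64757
theorem N39730 : nd 39730 = n64758 := ndS (p := 20152) (l := 5) rfl N20152 D64758
theorem N39731 : nd 39731 = n64759 := ndS (p := 20152) (l := 6) rfl N20152 D64759
theorem N39732 : nd 39732 = n64760 := ndS (p := 20153) (l := 4) rfl N20153 D64760
theorem N39733 : nd 39733 = n64761 := ndS (p := 20153) (l := 5) rfl N20153 D64761
theorem N39734 : nd 39734 = n64763 := ndS (p := 20154) (l := 0) rfl N20154 D64763
theorem N39735 : nd 39735 = n64764 := ndS (p := 20154) (l := 1) rfl N20154 D64764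
theorem N39736 : nd 39736 = n64765 := ndS (p := 20154) (l := 5) rfl N20154 D64765
theorem N39737 : nd 39737 = n64766 := ndS (p := 20154) (l := 6) rfl N20154 D64766
theorem N39738 : nd 39738 = n64767 := ndS (p := 20155) (l := 0) rfl N20155 D64767
theorem N39739 : nd 39739 = n64768 := ndS (p := 20155) (l := 1) rfl N20155 D64768
theorem N39740 : nd 39740 = n64769 := ndS (p := 20155) (l := 4) rfl N20155 D64769
theorem N39741 : nd 39741 = n64770 := ndS (p := 20155) (l := 6) rfl N20155 D64770
theorem N39742 : nd 39742 = n64772 := ndS (p := 20156) (l := 1) rfl N20156 D64772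
theorem N39743 : nd 39743 = n64774 := ndS (p := 20156) (l := 7) rfl N20156 D64774
theorem N39744 : nd 39744 = n64775 := ndS (p := 20157) (l := 0) rfl N20157 D64775
theorem N39745 : nd 39745 = n64776 := ndS (p := 20157) (l := 1) rfl N20157 D64776
theorem N39746 : nd 39746 = n64777 := ndS (p := 20157) (l := 7) rfl N20157 D64777
theorem N39747 : nd 39747 = n64778 := ndS (p := 20158) (l := 0) rfl N20158 D64778
theorem N39748 : nd 39748 = n64779 := ndS (p := 20158) (l := 1) rfl N20158 D64779
theorem N39749 : nd 39749 = n64780 := ndS (p := 20158) (l := 5) rfl N20158 D64780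
theorem N39750 : nd 39750 = n64781 := ndS (p := 20158) (l := 7) rfl N20158 D64781
theorem N39751 : nd 39751 = n64796 := ndS (p := 20161) (l := 5) rfl N20161 D64796
theorem N39752 : nd 39752 = n64797 := ndS (p := 20161) (l := 6) rfl N20161 D64797
theorem N39753 : nd 39753 = n64800 := ndS (p := 20162) (l := 3) rfl N20162 D64800
theorem N39754 : nd 39754 = n64802 := ndS (p := 20162) (l := 5) rfl N20162 D64802
theorem N39755 : nd 39755 = n64803 := ndS (p := 20162) (l := 6) rfl N20162 D64803
theorem N39756 : nd 39756 = n64805 := ndS (p := 20163) (l := 1) rfl N20163 D64805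
theorem N39757 : nd 39757 = n64806 := ndS (p := 20163) (l := 2) rfl N20163 D64806
theorem N39758 : nd 39758 = n64807 := ndS (p := 20163) (l := 5) rfl N20163 D64807
theorem N39759 : nd 39759 = n64808 := ndS (p := 20163) (l := 6) rfl N20163 D64808
theorem N39760 : nd 39760 = n64809 := ndS (p := 20163) (l := 7) rfl N20163 D64809
theorem N39761 : nd 39761 = n64810 := ndS (p := 20164) (l := 0) rfl N20164 D64810
theorem N39762 : nd 39762 = n64812 := ndS (p := 20164) (l := 3) rfl N20164 D64812
theorem N39763 : nd 39763 = n64813 := ndS (p := 20164) (l := 5) rfl N20164 D64813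
theorem N39764 : nd 39764 = n64814 := ndS (p := 20164) (l := 6) rfl N20164 D64814
theorem N39765 : nd 39765 = n64815 := ndS (p := 20164) (l := 7) rfl N20164 D64815
theorem N39766 : nd 39766 = n64816 := ndS (p := 20165) (l := 0) rfl N20165 D64816
theorem N39767 : nd 39767 = n64818 := ndS (p := 20165) (l := 4) rfl N20165 D64818
theorem N39768 : nd 39768 = n64819 := ndS (p := 20165) (l := 6) rfl N20165 D64819
theorem N39769 : nd 39769 = n64820 := ndS (p := 20165) (l := 7) rfl N20165 D64820
theorem N39770 : nd 39770 = n64821 := ndS (p := 20166) (l := 0) rfl N20166 D64821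
theorem N39771 : nd 39771 = n64823 := ndS (p := 20166) (l := 5) rfl N20166 D64823
theorem N39772 : nd 39772 = n64824 := ndS (p := 20166) (l := 7) rfl N20166 D64824
theorem N39773 : nd 39773 = n64825 := ndS (p := 20167) (l := 6) rfl N20167 D64825
theorem N39774 : nd 39774 = n64826 := ndS (p := 20168) (l := 0) rfl N20168 D64826
theorem N39775 : nd 39775 = n64828 := ndS (p := 20168) (l := 2) rfl N20168 D64828
theorem N39776 : nd 39776 = n64830 := ndS (p := 20168) (l := 5) rfl N20168 D64830
theorem N39777 : nd 39777 = n64831 := ndS (p := 20168) (l := 6) rfl N20168 D64831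
theorem N39778 : nd 39778 = n64832 := ndS (p := 20169) (l := 5) rfl N20169 D64832
theorem N39779 : nd 39779 = n64833 := ndS (p := 20169) (l := 6) rfl N20169 D64833
theorem N39780 : nd 39780 = n64834 := ndS (p := 20170) (l := 4) rfl N20170 D64834
theorem N39781 : nd 39781 = n64835 := ndS (p := 20170) (l := 6) rfl N20170 D64835
theorem N39782 : nd 39782 = n64837 := ndS (p := 20171) (l := 1) rfl N20171 D64837
theorem N39783 : nd 39783 = n64838 := ndS (p := 20171) (l := 5) rfl N20171 D64838
theorem N39784 : nd 39784 = n64839 := ndS (p := 20171) (l := 7) rfl N20171 D64839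
theorem N39785 : nd 39785 = n64849 := ndS (p := 20172) (l := 0) rfl N20172 D64849
theorem N39786 : nd 39786 = n64850 := ndS (p := 20172) (l := 1) rfl N20172 D64850
theorem N39787 : nd 39787 = n64851 := ndS (p := 20172) (l := 4) rfl N20172 D64851
theorem N39788 : nd 39788 = n64852 := ndS (p := 20172) (l := 6) rfl N20172 D64852
theorem N39789 : nd 39789 = n64854 := ndS (p := 20173) (l := 3) rfl N20173 D64854
theorem N39790 : nd 39790 = n64855 := ndS (p := 20173) (l := 4) rfl N20173 D64855
theorem N39791 : nd 39791 = n64857 := ndS (p := 20173) (l := 6) rfl N20173 D64857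
theorem N39792 : nd 39792 = n64859 := ndS (p := 20174) (l := 3) rfl N20174 D64859
theorem N39793 : nd 39793 = n64860 := ndS (p := 20174) (l := 4) rfl N20174 D64860
theorem N39794 : nd 39794 = n64862 := ndS (p := 20174) (l := 6) rfl N20174 D64862
theorem N39795 : nd 39795 = n64863 := ndS (p := 20175) (l := 0) rfl N20175 D64863
theorem N39796 : nd 39796 = n64865 := ndS (p := 20175) (l := 3) rfl N20175 D64865
theorem N39797 : nd 39797 = n64866 := ndS (p := 20175) (l := 5) rfl N20175 D64866
theorem N39798 : nd 39798 = n64867 := ndS (p := 20175) (l := 6) rfl N20175 D64867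
theorem N39799 : nd 39799 = n64868 := ndS (p := 20175) (l := 7) rfl N20175 D64868
theorem N39800 : nd 39800 = n64869 := ndS (p := 20176) (l := 0) rfl N20176 D64869
theorem N39801 : nd 39801 = n64870 := ndS (p := 20176) (l := 1) rfl N20176 D64870
theorem N39802 : nd 39802 = n64871 := ndS (p := 20176) (l := 7) rfl N20176 D64871
theorem N39803 : nd 39803 = n64872 := ndS (p := 20177) (l := 6) rfl N20177 D64872
theorem N39804 : nd 39804 = n64873 := ndS (p := 20178) (l := 0) rfl N20178 D64873
theorem N39805 : nd 39805 = n64874 := ndS (p := 20178) (l := 1) rfl N20178 D64874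
theorem N39806 : nd 39806 = n64875 := ndS (p := 20178) (l := 5) rfl N20178 D64875
theorem N39807 : nd 39807 = n64878 := ndS (p := 20179) (l := 2) rfl N20179 D64878
theorem N39808 : nd 39808 = n64879 := ndS (p := 20179) (l := 4) rfl N20179 D64879
theorem N39809 : nd 39809 = n64880 := ndS (p := 20179) (l := 6) rfl N20179 D64880
theorem N39810 : nd 39810 = n64882 := ndS (p := 20180) (l := 1) rfl N20180 D64882
theorem N39811 : nd 39811 = n64883 := ndS (p := 20180) (l := 5) rfl N20180 D64883
theorem N39812 : nd 39812 = n64884 := ndS (p := 20180) (l := 7) rfl N20180 D64884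
theorem N39813 : nd 39813 = n64887 := ndS (p := 20181) (l := 2) rfl N20181 D64887
theorem N39814 : nd 39814 = n64888 := ndS (p := 20181) (l := 4) rfl N20181 D64888
theorem N39815 : nd 39815 = n64889 := ndS (p := 20181) (l := 6) rfl N20181 D64889
theorem N39816 : nd 39816 = n64891 := ndS (p := 20182) (l := 1) rfl N20182 D64891
theorem N39817 : nd 39817 = n64892 := ndS (p := 20182) (l := 5) rfl N20182 D64892
theorem N39818 : nd 39818 = n64893 := ndS (p := 20182) (l := 7) rfl N20182 D64893
theorem N39819 : nd 39819 = n64894 := ndS (p := 20183) (l := 0) rfl N20183 D64894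
theorem N39820 : nd 39820 = n64896 := ndS (p := 20183) (l := 2) rfl N20183 D64896
theorem N39821 : nd 39821 = n64897 := ndS (p := 20183) (l := 6) rfl N20183 D64897
theorem N39822 : nd 39822 = n64900 := ndS (p := 20184) (l := 5) rfl N20184 D64900
theorem N39823 : nd 39823 = n64903 := ndS (p := 20185) (l := 3) rfl N20185 D64903
theorem N39824 : nd 39824 = n64904 := ndS (p := 20185) (l := 4) rfl N20185 D64904
theorem N39825 : nd 39825 = n64905 := ndS (p := 20185) (l := 5) rfl N20185 D64905
theorem N39826 : nd 39826 = n64906 := ndS (p := 20185) (l := 6) rfl N20185 D64906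
theorem N39827 : nd 39827 = n64908 := ndS (p := 20186) (l := 3) rfl N20186 D64908
theorem N39828 : nd 39828 = n64909 := ndS (p := 20186) (l := 4) rfl N20186 D64909
theorem N39829 : nd 39829 = n64910 := ndS (p := 20186) (l := 5) rfl N20186 D64910
theorem N39830 : nd 39830 = n64912 := ndS (p := 20187) (l := 6) rfl N20187 D64912
theorem N39831 : nd 39831 = n64913 := ndS (p := 20188) (l := 0) rfl N20188 D64913
theorem N39832 : nd 39832 = n64914 := ndS (p := 20188) (l := 1) rfl N20188 D64914
theorem N39833 : nd 39833 = n64915 := ndS (p := 20188) (l := 5) rfl N20188 D64915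
theorem N39834 : nd 39834 = n64917 := ndS (p := 20189) (l := 3) rfl N20189 D64917
theorem N39835 : nd 39835 = n64918 := ndS (p := 20189) (l := 4) rfl N20189 D64918
theorem N39836 : nd 39836 = n64919 := ndS (p := 20189) (l := 5) rfl N20189 D64919
theorem N39837 : nd 39837 = n64920 := ndS (p := 20189) (l := 6) rfl N20189 D64920
theorem N39838 : nd 39838 = n64922 := ndS (p := 20190) (l := 3) rfl N20190 D64922
theorem N39839 : nd 39839 = n64923 := ndS (p := 20190) (l := 4) rfl N20190 D64923
theorem N39840 : nd 39840 = n64924 := ndS (p := 20190) (l := 5) rfl N20190 D64924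
theorem N39841 : nd 39841 = n64925 := ndS (p := 20190) (l := 6) rfl N20190 D64925
theorem N39842 : nd 39842 = n64926 := ndS (p := 20191) (l := 0) rfl N20191 D64926
theorem N39843 : nd 39843 = n64927 := ndS (p := 20191) (l := 1) rfl N20191 D64927
theorem N39844 : nd 39844 = n64928 := ndS (p := 20191) (l := 4) rfl N20191 D64928
theorem N39845 : nd 39845 = n64932 := ndS (p := 20192) (l := 4) rfl N20192 D64932
theorem N39846 : nd 39846 = n64933 := ndS (p := 20192) (l := 5) rfl N20192 D64933
theorem N39847 : nd 39847 = n64934 := ndS (p := 20192) (l := 6) rfl N20192 D64934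
theorem N39848 : nd 39848 = n64937 := ndS (p := 20193) (l := 3) rfl N20193 D64937
theorem N39849 : nd 39849 = n64938 := ndS (p := 20193) (l := 5) rfl N20193 D64938
theorem N39850 : nd 39850 = n64939 := ndS (p := 20193) (l := 6) rfl N20193 D64939
theorem N39851 : nd 39851 = n64940 := ndS (p := 20194) (l := 0) rfl N20194 D64940
theorem N39852 : nd 39852 = n64941 := ndS (p := 20194) (l := 4) rfl N20194 D64941
theorem N39853 : nd 39853 = n64945 := ndS (p := 20196) (l := 4) rfl N20196 D64945
theorem N39854 : nd 39854 = n64946 := ndS (p := 20196) (l := 5) rfl N20196 D64946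
theorem N39855 : nd 39855 = n64947 := ndS (p := 20196) (l := 6) rfl N20196 D64947
theorem N39856 : nd 39856 = n64950 := ndS (p := 20197) (l := 6) rfl N20197 D64950
theorem N39857 : nd 39857 = n64951 := ndS (p := 20198) (l := 4) rfl N20198 D64951
theorem N39858 : nd 39858 = n64952 := ndS (p := 20200) (l := 3) rfl N20200 D64952
theorem N39859 : nd 39859 = n64953 := ndS (p := 20200) (l := 5) rfl N20200 D64953
theorem N39860 : nd 39860 = n64954 := ndS (p := 20200) (l := 6) rfl N20200 D64954
theorem N39861 : nd 39861 = n64955 := ndS (p := 20201) (l := 0) rfl N20201 D64955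
theorem N39862 : nd 39862 = n64957 := ndS (p := 20202) (l := 3) rfl N20202 D64957
theorem N39863 : nd 39863 = n64959 := ndS (p := 20203) (l := 3) rfl N20203 D64959
theorem N39864 : nd 39864 = n64961 := ndS (p := 20203) (l := 6) rfl N20203 D64961
theorem N39865 : nd 39865 = n64962 := ndS (p := 20204) (l := 3) rfl N20204 D64962
theorem N39866 : nd 39866 = n64965 := ndS (p := 20205) (l := 1) rfl N20205 D64965
theorem N39867 : nd 39867 = n64966 := ndS (p := 20205) (l := 2) rfl N20205 D64966
theorem N39868 : nd 39868 = n64967 := ndS (p := 20205) (l := 5) rfl N20205 D64967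
theorem N39869 : nd 39869 = n64968 := ndS (p := 20205) (l := 6) rfl N20205 D64968
theorem N39870 : nd 39870 = n64969 := ndS (p := 20206) (l := 0) rfl N20206 D64969
theorem N39871 : nd 39871 = n64971 := ndS (p := 20207) (l := 0) rfl N20207 D64971
theorem N39872 : nd 39872 = n64972 := ndS (p := 20207) (l := 1) rfl N20207 D64972
theorem N39873 : nd 39873 = n64973 := ndS (p := 20207) (l := 5) rfl N20207 D64973
theorem N39874 : nd 39874 = n64974 := ndS (p := 20207) (l := 7) rfl N20207 D64974
theorem N39875 : nd 39875 = n64977 := ndS (p := 20208) (l := 4) rfl N20208 D64977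
theorem N39876 : nd 39876 = n64979 := ndS (p := 20209) (l := 3) rfl N20209 D64979
theorem N39877 : nd 39877 = n64980 := ndS (p := 20209) (l := 4) rfl N20209 D64980
theorem N39878 : nd 39878 = n64981 := ndS (p := 20209) (l := 6) rfl N20209 D64981
theorem N39879 : nd 39879 = n64982 := ndS (p := 20211) (l := 0) rfl N20211 D64982
theorem N39880 : nd 39880 = n64983 := ndS (p := 20211) (l := 1) rfl N20211 D64983
theorem N39881 : nd 39881 = n64984 := ndS (p := 20211) (l := 2) rfl N20211 D64984
theorem N39882 : nd 39882 = n64992 := ndS (p := 20212) (l := 3) rfl N20212 D64992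
theorem N39883 : nd 39883 = n64993 := ndS (p := 20212) (l := 4) rfl N20212 D64993
theorem N39884 : nd 39884 = n64994 := ndS (p := 20212) (l := 5) rfl N20212 D64994
theorem N39885 : nd 39885 = n64995 := ndS (p := 20212) (l := 6) rfl N20212 D64995
theorem N39886 : nd 39886 = n64997 := ndS (p := 20213) (l := 3) rfl N20213 D64997
theorem N39887 : nd 39887 = n64998 := ndS (p := 20213) (l := 4) rfl N20213 D64998
theorem N39888 : nd 39888 = n64999 := ndS (p := 20213) (l := 5) rfl N20213 D64999
theorem N39889 : nd 39889 = n65001 := ndS (p := 20214) (l := 5) rfl N20214 D65001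
theorem N39890 : nd 39890 = n65002 := ndS (p := 20214) (l := 6) rfl N20214 D65002
theorem N39891 : nd 39891 = n65003 := ndS (p := 20215) (l := 0) rfl N20215 D65003
theorem N39892 : nd 39892 = n65004 := ndS (p := 20215) (l := 1) rfl N20215 D65004
theorem N39893 : nd 39893 = n65007 := ndS (p := 20216) (l := 0) rfl N20216 D65007
theorem N39894 : nd 39894 = n65008 := ndS (p := 20216) (l := 1) rfl N20216 D65008
theorem N39895 : nd 39895 = n65032 := ndS (p := 20218) (l := 3) rfl N20218 D65032
theorem N39896 : nd 39896 = n65033 := ndS (p := 20218) (l := 5) rfl N20218 D65033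
theorem N39897 : nd 39897 = n65034 := ndS (p := 20219) (l := 3) rfl N20219 D65034
theorem N39898 : nd 39898 = n65035 := ndS (p := 20219) (l := 5) rfl N20219 D65035
theorem N39899 : nd 39899 = n65036 := ndS (p := 20219) (l := 6) rfl N20219 D65036
theorem N39900 : nd 39900 = n65037 := ndS (p := 20220) (l := 3) rfl N20220 D65037
theorem N39901 : nd 39901 = n65038 := ndS (p := 20220) (l := 5) rfl N20220 D65038
theorem N39902 : nd 39902 = n65039 := ndS (p := 20220) (l := 6) rfl N20220 D65039
theorem N39903 : nd 39903 = n65042 := ndS (p := 20221) (l := 2) rfl N20221 D65042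
theorem N39904 : nd 39904 = n65043 := ndS (p := 20221) (l := 5) rfl N20221 D65043
theorem N39905 : nd 39905 = n65044 := ndS (p := 20221) (l := 6) rfl N20221 D65044
theorem N39906 : nd 39906 = n65046 := ndS (p := 20223) (l := 0) rfl N20223 D65046
theorem N39907 : nd 39907 = n65047 := ndS (p := 20223) (l := 5) rfl N20223 D65047
theorem N39908 : nd 39908 = n65048 := ndS (p := 20223) (l := 7) rfl N20223 D65048
theorem N39909 : nd 39909 = n65049 := ndS (p := 20224) (l := 4) rfl N20224 D65049
theorem N39910 : nd 39910 = n65051 := ndS (p := 20226) (l := 3) rfl N20226 D65051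
theorem N39911 : nd 39911 = n65052 := ndS (p := 20226) (l := 4) rfl N20226 D65052
theorem N39912 : nd 39912 = n65053 := ndS (p := 20226) (l := 5) rfl N20226 D65053
theorem N39913 : nd 39913 = n65054 := ndS (p := 20226) (l := 6) rfl N20226 D65054
theorem N39914 : nd 39914 = n65057 := ndS (p := 20227) (l := 4) rfl N20227 D65057
theorem N39915 : nd 39915 = n65059 := ndS (p := 20227) (l := 6) rfl N20227 D65059
theorem N39916 : nd 39916 = n65062 := ndS (p := 20229) (l := 0) rfl N20229 D65062
theorem N39917 : nd 39917 = n65063 := ndS (p := 20229) (l := 1) rfl N20229 D65063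
theorem N39918 : nd 39918 = n65066 := ndS (p := 20230) (l := 0) rfl N20230 D65066
theorem N39919 : nd 39919 = n65074 := ndS (p := 20231) (l := 3) rfl N20231 D65074
theorem N39920 : nd 39920 = n65075 := ndS (p := 20231) (l := 5) rfl N20231 D65075
theorem N39921 : nd 39921 = n65080 := ndS (p := 20234) (l := 3) rfl N20234 D65080
theorem N39922 : nd 39922 = n65081 := ndS (p := 20234) (l := 5) rfl N20234 D65081
theorem N39923 : nd 39923 = n65082 := ndS (p := 20235) (l := 3) rfl N20235 D65082
theorem N39924 : nd 39924 = n65083 := ndS (p := 20235) (l := 6) rfl N20235 D65083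
theorem N39925 : nd 39925 = n65085 := ndS (p := 20236) (l := 1) rfl N20236 D65085
theorem N39926 : nd 39926 = n65086 := ndS (p := 20236) (l := 2) rfl N20236 D65086
theorem N39927 : nd 39927 = n65087 := ndS (p := 20236) (l := 5) rfl N20236 D65087
theorem N39928 : nd 39928 = n65088 := ndS (p := 20236) (l := 6) rfl N20236 D65088
theorem N39929 : nd 39929 = n65090 := ndS (p := 20237) (l := 1) rfl N20237 D65090
theorem N39930 : nd 39930 = n65091 := ndS (p := 20237) (l := 6) rfl N20237 D65091
theorem N39931 : nd 39931 = n65092 := ndS (p := 20238) (l := 0) rfl N20238 D65092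
theorem N39932 : nd 39932 = n65093 := ndS (p := 20238) (l := 1) rfl N20238 D65093
theorem N39933 : nd 39933 = n65094 := ndS (p := 20238) (l := 5) rfl N20238 D65094
theorem N39934 : nd 39934 = n65095 := ndS (p := 20238) (l := 7) rfl N20238 D65095
theorem N39935 : nd 39935 = n65098 := ndS (p := 20239) (l := 4) rfl N20239 D65098
theorem N39936 : nd 39936 = n65099 := ndS (p := 20239) (l := 5) rfl N20239 D65099
theorem N39937 : nd 39937 = n65101 := ndS (p := 20240) (l := 3) rfl N20240 D65101
theorem N39938 : nd 39938 = n65102 := ndS (p := 20240) (l := 4) rfl N20240 D65102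
theorem N39939 : nd 39939 = n65103 := ndS (p := 20240) (l := 6) rfl N20240 D65103
theorem N39940 : nd 39940 = n65106 := ndS (p := 20242) (l := 4) rfl N20242 D65106
theorem N39941 : nd 39941 = n65108 := ndS (p := 20242) (l := 6) rfl N20242 D65108
theorem N39942 : nd 39942 = n65110 := ndS (p := 20243) (l := 3) rfl N20243 D65110
theorem N39943 : nd 39943 = n65111 := ndS (p := 20243) (l := 4) rfl N20243 D65111
theorem N39944 : nd 39944 = n65114 := ndS (p := 20244) (l := 5) rfl N20244 D65114
theorem N39945 : nd 39945 = n65115 := ndS (p := 20244) (l := 6) rfl N20244 D65115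
theorem N39946 : nd 39946 = n65117 := ndS (p := 20245) (l := 1) rfl N20245 D65117
theorem N39947 : nd 39947 = n65120 := ndS (p := 20246) (l := 0) rfl N20246 D65120
theorem N39948 : nd 39948 = n65121 := ndS (p := 20246) (l := 1) rfl N20246 D65121
theorem N39949 : nd 39949 = n65122 := ndS (p := 20246) (l := 5) rfl N20246 D65122
theorem N39950 : nd 39950 = n65128 := ndS (p := 20247) (l := 3) rfl N20247 D65128
theorem N39951 : nd 39951 = n65131 := ndS (p := 20248) (l := 5) rfl N20248 D65131
theorem N39952 : nd 39952 = n65132 := ndS (p := 20248) (l := 6) rfl N20248 D65132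
theorem N39953 : nd 39953 = n65134 := ndS (p := 20249) (l := 4) rfl N20249 D65134
theorem N39954 : nd 39954 = n65139 := ndS (p := 20250) (l := 4) rfl N20250 D65139
theorem N39955 : nd 39955 = n65140 := ndS (p := 20250) (l := 5) rfl N20250 D65140
theorem N39956 : nd 39956 = n65141 := ndS (p := 20251) (l := 3) rfl N20251 D65141
theorem N39957 : nd 39957 = n65149 := ndS (p := 20253) (l := 3) rfl N20253 D65149
theorem N39958 : nd 39958 = n65150 := ndS (p := 20253) (l := 5) rfl N20253 D65150
theorem N39959 : nd 39959 = n65151 := ndS (p := 20253) (l := 6) rfl N20253 D65151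
theorem N39960 : nd 39960 = n65152 := ndS (p := 20255) (l := 0) rfl N20255 D65152
theorem N39961 : nd 39961 = n65153 := ndS (p := 20255) (l := 1) rfl N20255 D65153
theorem N39962 : nd 39962 = n65154 := ndS (p := 20255) (l := 2) rfl N20255 D65154
theorem N39963 : nd 39963 = n65155 := ndS (p := 20255) (l := 5) rfl N20255 D65155
theorem N39964 : nd 39964 = n65157 := ndS (p := 20256) (l := 0) rfl N20256 D65157
theorem N39965 : nd 39965 = n65158 := ndS (p := 20256) (l := 1) rfl N20256 D65158
theorem N39966 : nd 39966 = n65159 := ndS (p := 20256) (l := 6) rfl N20256 D65159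
theorem N39967 : nd 39967 = n65160 := ndS (p := 20257) (l := 0) rfl N20257 D65160
theorem N39968 : nd 39968 = n65161 := ndS (p := 20257) (l := 1) rfl N20257 D65161
theorem N39969 : nd 39969 = n65162 := ndS (p := 20257) (l := 5) rfl N20257 D65162
theorem N39970 : nd 39970 = n65163 := ndS (p := 20257) (l := 7) rfl N20257 D65163
theorem N39971 : nd 39971 = n65166 := ndS (p := 20258) (l := 4) rfl N20258 D65166
theorem N39972 : nd 39972 = n65167 := ndS (p := 20258) (l := 6) rfl N20258 D65167
theorem N39973 : nd 39973 = n65170 := ndS (p := 20259) (l := 4) rfl N20259 D65170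
theorem N39974 : nd 39974 = n65172 := ndS (p := 20261) (l := 3) rfl N20261 D65172
theorem N39975 : nd 39975 = n65177 := ndS (p := 20262) (l := 3) rfl N20262 D65177
theorem N39976 : nd 39976 = n65180 := ndS (p := 20262) (l := 6) rfl N20262 D65180
theorem N39977 : nd 39977 = n65214 := ndS (p := 20266) (l := 4) rfl N20266 D65214
theorem N39978 : nd 39978 = n65215 := ndS (p := 20266) (l := 5) rfl N20266 D65215
theorem N39979 : nd 39979 = n65216 := ndS (p := 20266) (l := 6) rfl N20266 D65216
theorem N39980 : nd 39980 = n65222 := ndS (p := 20267) (l := 4) rfl N20267 D65222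
theorem N39981 : nd 39981 = n65224 := ndS (p := 20267) (l := 6) rfl N20267 D65224
theorem N39982 : nd 39982 = n65225 := ndS (p := 20268) (l := 0) rfl N20268 D65225
theorem N39983 : nd 39983 = n65226 := ndS (p := 20268) (l := 1) rfl N20268 D65226
theorem N39984 : nd 39984 = n65227 := ndS (p := 20268) (l := 5) rfl N20268 D65227
theorem N39985 : nd 39985 = n65228 := ndS (p := 20268) (l := 6) rfl N20268 D65228
theorem N39986 : nd 39986 = n65233 := ndS (p := 20269) (l := 0) rfl N20269 D65233
theorem N39987 : nd 39987 = n65234 := ndS (p := 20269) (l := 1) rfl N20269 D65234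
theorem N39988 : nd 39988 = n65235 := ndS (p := 20269) (l := 5) rfl N20269 D65235
theorem N39989 : nd 39989 = n65239 := ndS (p := 20270) (l := 5) rfl N20270 D65239
theorem N39990 : nd 39990 = n65241 := ndS (p := 20271) (l := 1) rfl N20271 D65241
theorem N39991 : nd 39991 = n65246 := ndS (p := 20272) (l := 4) rfl N20272 D65246
theorem N39992 : nd 39992 = n65250 := ndS (p := 20273) (l := 3) rfl N20273 D65250
theorem N39993 : nd 39993 = n65251 := ndS (p := 20273) (l := 4) rfl N20273 D65251
theorem N39994 : nd 39994 = n65253 := ndS (p := 20273) (l := 6) rfl N20273 D65253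
theorem N39995 : nd 39995 = n65254 := ndS (p := 20274) (l := 4) rfl N20274 D65254
theorem N39996 : nd 39996 = n65257 := ndS (p := 20275) (l := 0) rfl N20275 D65257
theorem N39997 : nd 39997 = n65258 := ndS (p := 20275) (l := 1) rfl N20275 D65258
theorem N39998 : nd 39998 = n65259 := ndS (p := 20275) (l := 5) rfl N20275 D65259
theorem N39999 : nd 39999 = n65262 := ndS (p := 20276) (l := 1) rfl N20276 D65262
theorem N40000 : nd 40000 = n65274 := ndS (p := 20277) (l := 6) rfl N20277 D65274

end Cfsg.Agent.Helper17.ONTC
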