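import Cfsg.Agent.Helper17.ONTC.Fin4

set_option autoImplicit false
set_option linter.all false
set_option maxRecDepth 100000

noncomputable section

namespace Cfsg.Agent.Helper17.ONTC

theorem N40001 : nd 40001 = n65278 := ndS (p := 20278) (l := 4) rfl N20278 D65278
theorem N40002 : nd 40002 = n65280 := ndS (p := 20278) (l := 6) rfl N20278 D65280
theorem N40003 : nd 40003 = n65282 := ndS (p := 20279) (l := 1) rfl N20279 D65282
theorem N40004 : nd 40004 = n65283 := ndS (p := 20279) (l := 2) rfl N20279 D65283
theorem N40005 : nd 40005 = n65284 := ndS (p := 20279) (l := 4) rfl N20279 D65284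
theorem N40006 : nd 40006 = n65285 := ndS (p := 20279) (l := 5) rfl N20279 D65285
theorem N40007 : nd 40007 = n65286 := ndS (p := 20279) (l := 6) rfl N20279 D65286
theorem N40008 : nd 40008 = n65287 := ndS (p := 20279) (l := 7) rfl N20279 D65287
theorem N40009 : nd 40009 = n65288 := ndS (p := 20280) (l := 0) rfl N20280 D65288
theorem N40010 : nd 40010 = n65289 := ndS (p := 20280) (l := 1) rfl N20280 D65289
theorem N40011 : nd 40011 = n65290 := ndS (p := 20280) (l := 3) rfl N20280 D65290
theorem N40012 : nd 40012 = n65291 := ndS (p := 20280) (l := 5) rfl N20280 D65291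
theorem N40013 : nd 40013 = n65292 := ndS (p := 20280) (l := 6) rfl N20280 D65292
theorem N40014 : nd 40014 = n65293 := ndS (p := 20280) (l := 7) rfl N20280 D65293
theorem N40015 : nd 40015 = n65296 := ndS (p := 20281) (l := 4) rfl N20281 D65296
theorem N40016 : nd 40016 = n65297 := ndS (p := 20281) (l := 6) rfl N20281 D65297
theorem N40017 : nd 40017 = n65299 := ndS (p := 20282) (l := 0) rfl N20282 D65299
theorem N40018 : nd 40018 = n65301 := ndS (p := 20282) (l := 5) rfl N20282 D65301
theorem N40019 : nd 40019 = n65302 := ndS (p := 20282) (l := 7) rfl N20282 D65302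
theorem N40020 : nd 40020 = n65307 := ndS (p := 20284) (l := 4) rfl N20284 D65307
theorem N40021 : nd 40021 = n65310 := ndS (p := 20285) (l := 3) rfl N20285 D65310
theorem N40022 : nd 40022 = n65311 := ndS (p := 20285) (l := 5) rfl N20285 D65311
theorem N40023 : nd 40023 = n65312 := ndS (p := 20285) (l := 6) rfl N20285 D65312
theorem N40024 : nd 40024 = n65313 := ndS (p := 20286) (l := 4) rfl N20286 D65313
theorem N40025 : nd 40025 = n65329 := ndS (p := 20288) (l := 4) rfl N20288 D65329
theorem N40026 : nd 40026 = n65330 := ndS (p := 20288) (l := 6) rfl N20288 D65330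
theorem N40027 : nd 40027 = n65332 := ndS (p := 20289) (l := 3) rfl N20289 D65332
theorem N40028 : nd 40028 = n65333 := ndS (p := 20289) (l := 4) rfl N20289 D65333
theorem N40029 : nd 40029 = n65338 := ndS (p := 20290) (l := 4) rfl N20290 D65338
theorem N40030 : nd 40030 = n65341 := ndS (p := 20291) (l := 0) rfl N20291 D65341
theorem N40031 : nd 40031 = n65343 := ndS (p := 20291) (l := 5) rfl N20291 D65343
theorem N40032 : nd 40032 = n65344 := ndS (p := 20291) (l := 6) rfl N20291 D65344
theorem N40033 : nd 40033 = n65345 := ndS (p := 20292) (l := 0) rfl N20292 D65345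
theorem N40034 : nd 40034 = n65346 := ndS (p := 20292) (l := 1) rfl N20292 D65346
theorem N40035 : nd 40035 = n65347 := ndS (p := 20292) (l := 7) rfl N20292 D65347
theorem N40036 : nd 40036 = n65348 := ndS (p := 20293) (l := 0) rfl N20293 D65348
theorem N40037 : nd 40037 = n65349 := ndS (p := 20293) (l := 1) rfl N20293 D65349
theorem N40038 : nd 40038 = n65350 := ndS (p := 20293) (l := 5) rfl N20293 D65350
theorem N40039 : nd 40039 = n65353 := ndS (p := 20294) (l := 2) rfl N20294 D65353
theorem N40040 : nd 40040 = n65354 := ndS (p := 20294) (l := 4) rfl N20294 D65354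
theorem N40041 : nd 40041 = n65366 := ndS (p := 20296) (l := 3) rfl N20296 D65366
theorem N40042 : nd 40042 = n65369 := ndS (p := 20296) (l := 6) rfl N20296 D65369
theorem N40043 : nd 40043 = n65370 := ndS (p := 20298) (l := 4) rfl N20298 D65370
theorem N40044 : nd 40044 = n65371 := ndS (p := 20299) (l := 0) rfl N20299 D65371
theorem N40045 : nd 40045 = n65373 := ndS (p := 20300) (l := 0) rfl N20300 D65373
theorem N40046 : nd 40046 = n65374 := ndS (p := 20300) (l := 1) rfl N20300 D65374
theorem N40047 : nd 40047 = n65375 := ndS (p := 20300) (l := 2) rfl N20300 D65375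
theorem N40048 : nd 40048 = n65376 := ndS (p := 20300) (l := 5) rfl N20300 D65376
theorem N40049 : nd 40049 = n65377 := ndS (p := 20300) (l := 6) rfl N20300 D65377
theorem N40050 : nd 40050 = n65378 := ndS (p := 20301) (l := 6) rfl N20301 D65378
theorem N40051 : nd 40051 = n65379 := ndS (p := 20302) (l := 0) rfl N20302 D65379
theorem N40052 : nd 40052 = n65380 := ndS (p := 20302) (l := 1) rfl N20302 D65380
theorem N40053 : nd 40053 = n65381 := ndS (p := 20302) (l := 5) rfl N20302 D65381
theorem N40054 : nd 40054 = n65384 := ndS (p := 20303) (l := 4) rfl N20303 D65384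
theorem N40055 : nd 40055 = n65385 := ndS (p := 20303) (l := 5) rfl N20303 D65385
theorem N40056 : nd 40056 = n65386 := ndS (p := 20303) (l := 6) rfl N20303 D65386
theorem N40057 : nd 40057 = n65391 := ndS (p := 20304) (l := 0) rfl N20304 D65391
theorem N40058 : nd 40058 = n65392 := ndS (p := 20304) (l := 1) rfl N20304 D65392
theorem N40059 : nd 40059 = n65393 := ndS (p := 20304) (l := 2) rfl N20304 D65393
theorem N40060 : nd 40060 = n65394 := ndS (p := 20304) (l := 5) rfl N20304 D65394
theorem N40061 : nd 40061 = n65396 := ndS (p := 20305) (l := 6) rfl N20305 D65396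
theorem N40062 : nd 40062 = n65397 := ndS (p := 20306) (l := 0) rfl N20306 D65397
theorem N40063 : nd 40063 = n65398 := ndS (p := 20306) (l := 1) rfl N20306 D65398
theorem N40064 : nd 40064 = n65403 := ndS (p := 20307) (l := 4) rfl N20307 D65403
theorem N40065 : nd 40065 = n65406 := ndS (p := 20308) (l := 4) rfl N20308 D65406
theorem N40066 : nd 40066 = n65407 := ndS (p := 20308) (l := 6) rfl N20308 D65407
theorem N40067 : nd 40067 = n65408 := ndS (p := 20310) (l := 3) rfl N20310 D65408
theorem N40068 : nd 40068 = n65409 := ndS (p := 20310) (l := 6) rfl N20310 D65409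
theorem N40069 : nd 40069 = n65410 := ndS (p := 20311) (l := 0) rfl N20311 D65410
theorem N40070 : nd 40070 = n65411 := ndS (p := 20311) (l := 1) rfl N20311 D65411
theorem N40071 : nd 40071 = n65412 := ndS (p := 20311) (l := 2) rfl N20311 D65412
theorem N40072 : nd 40072 = n65413 := ndS (p := 20311) (l := 5) rfl N20311 D65413
theorem N40073 : nd 40073 = n65414 := ndS (p := 20311) (l := 6) rfl N20311 D65414
theorem N40074 : nd 40074 = n65415 := ndS (p := 20312) (l := 6) rfl N20312 D65415
theorem N40075 : nd 40075 = n65416 := ndS (p := 20313) (l := 0) rfl N20313 D65416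
theorem N40076 : nd 40076 = n65417 := ndS (p := 20313) (l := 1) rfl N20313 D65417
theorem N40077 : nd 40077 = n65418 := ndS (p := 20313) (l := 5) rfl N20313 D65418
theorem N40078 : nd 40078 = n65419 := ndS (p := 20313) (l := 7) rfl N20313 D65419
theorem N40079 : nd 40079 = n65421 := ndS (p := 20314) (l := 4) rfl N20314 D65421
theorem N40080 : nd 40080 = n65422 := ndS (p := 20314) (l := 5) rfl N20314 D65422
theorem N40081 : nd 40081 = n65423 := ndS (p := 20314) (l := 6) rfl N20314 D65423
theorem N40082 : nd 40082 = n65425 := ndS (p := 20315) (l := 4) rfl N20315 D65425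
theorem N40083 : nd 40083 = n65426 := ndS (p := 20317) (l := 3) rfl N20317 D65426
theorem N40084 : nd 40084 = n65427 := ndS (p := 20317) (l := 5) rfl N20317 D65427
theorem N40085 : nd 40085 = n65428 := ndS (p := 20317) (l := 6) rfl N20317 D65428
theorem N40086 : nd 40086 = n65429 := ndS (p := 20318) (l := 1) rfl N20318 D65429
theorem N40087 : nd 40087 = n65430 := ndS (p := 20318) (l := 7) rfl N20318 D65430
theorem N40088 : nd 40088 = n65431 := ndS (p := 20319) (l := 0) rfl N20319 D65431
theorem N40089 : nd 40089 = n65432 := ndS (p := 20319) (l := 1) rfl N20319 D65432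
theorem N40090 : nd 40090 = n65433 := ndS (p := 20319) (l := 2) rfl N20319 D65433
theorem N40091 : nd 40091 = n65434 := ndS (p := 20319) (l := 5) rfl N20319 D65434
theorem N40092 : nd 40092 = n65435 := ndS (p := 20319) (l := 6) rfl N20319 D65435
theorem N40093 : nd 40093 = n65436 := ndS (p := 20320) (l := 6) rfl N20320 D65436
theorem N40094 : nd 40094 = n65437 := ndS (p := 20321) (l := 1) rfl N20321 D65437
theorem N40095 : nd 40095 = n65438 := ndS (p := 20321) (l := 5) rfl N20321 D65438
theorem N40096 : nd 40096 = n65439 := ndS (p := 20321) (l := 7) rfl N20321 D65439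
theorem N40097 : nd 40097 = n65440 := ndS (p := 20322) (l := 4) rfl N20322 D65440
theorem N40098 : nd 40098 = n65441 := ndS (p := 20324) (l := 0) rfl N20324 D65441
theorem N40099 : nd 40099 = n65442 := ndS (p := 20324) (l := 1) rfl N20324 D65442
theorem N40100 : nd 40100 = n65443 := ndS (p := 20324) (l := 2) rfl N20324 D65443
theorem N40101 : nd 40101 = n65444 := ndS (p := 20324) (l := 5) rfl N20324 D65444
theorem N40102 : nd 40102 = n65445 := ndS (p := 20324) (l := 6) rfl N20324 D65445
theorem N40103 : nd 40103 = n65446 := ndS (p := 20325) (l := 6) rfl N20325 D65446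
theorem N40104 : nd 40104 = n65449 := ndS (p := 20326) (l := 5) rfl N20326 D65449
theorem N40105 : nd 40105 = n65450 := ndS (p := 20326) (l := 7) rfl N20326 D65450
theorem N40106 : nd 40106 = n65451 := ndS (p := 20327) (l := 0) rfl N20327 D65451
theorem N40107 : nd 40107 = n65452 := ndS (p := 20327) (l := 1) rfl N20327 D65452
theorem N40108 : nd 40108 = n65453 := ndS (p := 20327) (l := 2) rfl N20327 D65453
theorem N40109 : nd 40109 = n65454 := ndS (p := 20327) (l := 5) rfl N20327 D65454
theorem N40110 : nd 40110 = n65455 := ndS (p := 20327) (l := 6) rfl N20327 D65455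
theorem N40111 : nd 40111 = n65456 := ndS (p := 20328) (l := 6) rfl N20328 D65456
theorem N40112 : nd 40112 = n65457 := ndS (p := 20329) (l := 5) rfl N20329 D65457
theorem N40113 : nd 40113 = n65458 := ndS (p := 20329) (l := 7) rfl N20329 D65458
theorem N40114 : nd 40114 = n65460 := ndS (p := 20330) (l := 3) rfl N20330 D65460
theorem N40115 : nd 40115 = n65461 := ndS (p := 20330) (l := 4) rfl N20330 D65461
theorem N40116 : nd 40116 = n65462 := ndS (p := 20330) (l := 5) rfl N20330 D65462
theorem N40117 : nd 40117 = n65463 := ndS (p := 20330) (l := 6) rfl N20330 D65463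
theorem N40118 : nd 40118 = n65465 := ndS (p := 20331) (l := 3) rfl N20331 D65465
theorem N40119 : nd 40119 = n65466 := ndS (p := 20331) (l := 5) rfl N20331 D65466
theorem N40120 : nd 40120 = n65467 := ndS (p := 20331) (l := 6) rfl N20331 D65467
theorem N40121 : nd 40121 = n65468 := ndS (p := 20332) (l := 5) rfl N20332 D65468
theorem N40122 : nd 40122 = n65469 := ndS (p := 20332) (l := 6) rfl N20332 D65469
theorem N40123 : nd 40123 = n65470 := ndS (p := 20333) (l := 0) rfl N20333 D65470
theorem N40124 : nd 40124 = n65471 := ndS (p := 20333) (l := 1) rfl N20333 D65471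
theorem N40125 : nd 40125 = n65472 := ndS (p := 20333) (l := 4) rfl N20333 D65472
theorem N40126 : nd 40126 = n65473 := ndS (p := 20333) (l := 6) rfl N20333 D65473
theorem N40127 : nd 40127 = n65475 := ndS (p := 20334) (l := 1) rfl N20334 D65475
theorem N40128 : nd 40128 = n65476 := ndS (p := 20334) (l := 5) rfl N20334 D65476
theorem N40129 : nd 40129 = n65478 := ndS (p := 20335) (l := 0) rfl N20335 D65478
theorem N40130 : nd 40130 = n65479 := ndS (p := 20335) (l := 1) rfl N20335 D65479
theorem N40131 : nd 40131 = n65480 := ndS (p := 20335) (l := 5) rfl N20335 D65480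
theorem N40132 : nd 40132 = n65481 := ndS (p := 20335) (l := 7) rfl N20335 D65481
theorem N40133 : nd 40133 = n65483 := ndS (p := 20336) (l := 3) rfl N20336 D65483
theorem N40134 : nd 40134 = n65485 := ndS (p := 20336) (l := 5) rfl N20336 D65485
theorem N40135 : nd 40135 = n65488 := ndS (p := 20337) (l := 3) rfl N20337 D65488
theorem N40136 : nd 40136 = n65489 := ndS (p := 20337) (l := 5) rfl N20337 D65489
theorem N40137 : nd 40137 = n65490 := ndS (p := 20337) (l := 6) rfl N20337 D65490
theorem N40138 : nd 40138 = n65493 := ndS (p := 20338) (l := 4) rfl N20338 D65493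
theorem N40139 : nd 40139 = n65503 := ndS (p := 20340) (l := 4) rfl N20340 D65503
theorem N40140 : nd 40140 = n65508 := ndS (p := 20341) (l := 3) rfl N20341 D65508
theorem N40141 : nd 40141 = n65509 := ndS (p := 20341) (l := 5) rfl N20341 D65509
theorem N40142 : nd 40142 = n65511 := ndS (p := 20342) (l := 4) rfl N20342 D65511
theorem N40143 : nd 40143 = n65512 := ndS (p := 20342) (l := 6) rfl N20342 D65512
theorem N40144 : nd 40144 = n65518 := ndS (p := 20343) (l := 4) rfl N20343 D65518
theorem N40145 : nd 40145 = n65520 := ndS (p := 20343) (l := 6) rfl N20343 D65520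
theorem N40146 : nd 40146 = n65521 := ndS (p := 20344) (l := 3) rfl N20344 D65521
theorem N40147 : nd 40147 = n65522 := ndS (p := 20344) (l := 5) rfl N20344 D65522
theorem N40148 : nd 40148 = n65523 := ndS (p := 20344) (l := 6) rfl N20344 D65523
theorem N40149 : nd 40149 = n65524 := ndS (p := 20345) (l := 4) rfl N20345 D65524
theorem N40150 : nd 40150 = n65526 := ndS (p := 20348) (l := 3) rfl N20348 D65526
theorem N40151 : nd 40151 = n65527 := ndS (p := 20348) (l := 5) rfl N20348 D65527
theorem N40152 : nd 40152 = n65528 := ndS (p := 20348) (l := 6) rfl N20348 D65528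
theorem N40153 : nd 40153 = n65529 := ndS (p := 20349) (l := 0) rfl N20349 D65529
theorem N40154 : nd 40154 = n65531 := ndS (p := 20354) (l := 3) rfl N20354 D65531
theorem N40155 : nd 40155 = n65532 := ndS (p := 20354) (l := 5) rfl N20354 D65532
theorem N40156 : nd 40156 = n65533 := ndS (p := 20355) (l := 3) rfl N20355 D65533
theorem N40157 : nd 40157 = n65534 := ndS (p := 20355) (l := 6) rfl N20355 D65534
theorem N40158 : nd 40158 = n65535 := ndS (p := 20356) (l := 0) rfl N20356 D65535
theorem N40159 : nd 40159 = n65536 := ndS (p := 20356) (l := 1) rfl N20356 D65536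
theorem N40160 : nd 40160 = n65537 := ndS (p := 20356) (l := 2) rfl N20356 D65537
theorem N40161 : nd 40161 = n65538 := ndS (p := 20356) (l := 5) rfl N20356 D65538
theorem N40162 : nd 40162 = n65539 := ndS (p := 20356) (l := 6) rfl N20356 D65539
theorem N40163 : nd 40163 = n65540 := ndS (p := 20357) (l := 6) rfl N20357 D65540
theorem N40164 : nd 40164 = n65541 := ndS (p := 20358) (l := 0) rfl N20358 D65541
theorem N40165 : nd 40165 = n65542 := ndS (p := 20358) (l := 1) rfl N20358 D65542
theorem N40166 : nd 40166 = n65543 := ndS (p := 20358) (l := 5) rfl N20358 D65543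
theorem N40167 : nd 40167 = n65544 := ndS (p := 20358) (l := 7) rfl N20358 D65544
theorem N40168 : nd 40168 = n65545 := ndS (p := 20359) (l := 3) rfl N20359 D65545
theorem N40169 : nd 40169 = n65546 := ndS (p := 20359) (l := 4) rfl N20359 D65546
theorem N40170 : nd 40170 = n65547 := ndS (p := 20359) (l := 5) rfl N20359 D65547
theorem N40171 : nd 40171 = n65548 := ndS (p := 20359) (l := 6) rfl N20359 D65548
theorem N40172 : nd 40172 = n65550 := ndS (p := 20360) (l := 4) rfl N20360 D65550
theorem N40173 : nd 40173 = n65551 := ndS (p := 20360) (l := 5) rfl N20360 D65551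
theorem N40174 : nd 40174 = n65554 := ndS (p := 20362) (l := 4) rfl N20362 D65554
theorem N40175 : nd 40175 = n65558 := ndS (p := 20363) (l := 3) rfl N20363 D65558
theorem N40176 : nd 40176 = n65559 := ndS (p := 20363) (l := 4) rfl N20363 D65559
theorem N40177 : nd 40177 = n65562 := ndS (p := 20364) (l := 5) rfl N20364 D65562
theorem N40178 : nd 40178 = n65563 := ndS (p := 20364) (l := 6) rfl N20364 D65563
theorem N40179 : nd 40179 = n65566 := ndS (p := 20365) (l := 4) rfl N20365 D65566
theorem N40180 : nd 40180 = n65567 := ndS (p := 20365) (l := 6) rfl N20365 D65567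
theorem N40181 : nd 40181 = n65568 := ndS (p := 20366) (l := 0) rfl N20366 D65568
theorem N40182 : nd 40182 = n65569 := ndS (p := 20366) (l := 1) rfl N20366 D65569
theorem N40183 : nd 40183 = n65571 := ndS (p := 20366) (l := 7) rfl N20366 D65571
theorem N40184 : nd 40184 = n65572 := ndS (p := 20367) (l := 0) rfl N20367 D65572
theorem N40185 : nd 40185 = n65573 := ndS (p := 20367) (l := 1) rfl N20367 D65573
theorem N40186 : nd 40186 = n65574 := ndS (p := 20367) (l := 5) rfl N20367 D65574
theorem N40187 : nd 40187 = n65575 := ndS (p := 20367) (l := 7) rfl N20367 D65575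
theorem N40188 : nd 40188 = n65576 := ndS (p := 20368) (l := 3) rfl N20368 D65576
theorem N40189 : nd 40189 = n65577 := ndS (p := 20368) (l := 5) rfl N20368 D65577
theorem N40190 : nd 40190 = n65579 := ndS (p := 20369) (l := 3) rfl N20369 D65579
theorem N40191 : nd 40191 = n65580 := ndS (p := 20369) (l := 5) rfl N20369 D65580
theorem N40192 : nd 40192 = n65583 := ndS (p := 20370) (l := 7) rfl N20370 D65583
theorem N40193 : nd 40193 = n65587 := ndS (p := 20372) (l := 4) rfl N20372 D65587
theorem N40194 : nd 40194 = n65588 := ndS (p := 20373) (l := 3) rfl N20373 D65588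
theorem N40195 : nd 40195 = n65589 := ndS (p := 20373) (l := 5) rfl N20373 D65589
theorem N40196 : nd 40196 = n65594 := ndS (p := 20374) (l := 3) rfl N20374 D65594
theorem N40197 : nd 40197 = n65595 := ndS (p := 20374) (l := 5) rfl N20374 D65595
theorem N40198 : nd 40198 = n65597 := ndS (p := 20375) (l := 3) rfl N20375 D65597
theorem N40199 : nd 40199 = n65598 := ndS (p := 20375) (l := 4) rfl N20375 D65598
theorem N40200 : nd 40200 = n65602 := ndS (p := 20376) (l := 3) rfl N20376 D65602
theorem N40201 : nd 40201 = n65603 := ndS (p := 20376) (l := 4) rfl N20376 D65603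
theorem N40202 : nd 40202 = n65605 := ndS (p := 20376) (l := 6) rfl N20376 D65605
theorem N40203 : nd 40203 = n65607 := ndS (p := 20377) (l := 6) rfl N20377 D65607
theorem N40204 : nd 40204 = n65610 := ndS (p := 20378) (l := 4) rfl N20378 D65610
theorem N40205 : nd 40205 = n65611 := ndS (p := 20378) (l := 6) rfl N20378 D65611
theorem N40206 : nd 40206 = n65612 := ndS (p := 20379) (l := 0) rfl N20379 D65612
theorem N40207 : nd 40207 = n65613 := ndS (p := 20379) (l := 1) rfl N20379 D65613
theorem N40208 : nd 40208 = n65614 := ndS (p := 20379) (l := 5) rfl N20379 D65614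
theorem N40209 : nd 40209 = n65617 := ndS (p := 20380) (l := 5) rfl N20380 D65617
theorem N40210 : nd 40210 = n65619 := ndS (p := 20381) (l := 3) rfl N20381 D65619
theorem N40211 : nd 40211 = n65621 := ndS (p := 20382) (l := 0) rfl N20382 D65621
theorem N40212 : nd 40212 = n65622 := ndS (p := 20382) (l := 1) rfl N20382 D65622
theorem N40213 : nd 40213 = n65623 := ndS (p := 20382) (l := 4) rfl N20382 D65623
theorem N40214 : nd 40214 = n65625 := ndS (p := 20383) (l := 3) rfl N20383 D65625
theorem N40215 : nd 40215 = n65626 := ndS (p := 20383) (l := 4) rfl N20383 D65626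
theorem N40216 : nd 40216 = n65627 := ndS (p := 20383) (l := 6) rfl N20383 D65627
theorem N40217 : nd 40217 = n65629 := ndS (p := 20384) (l := 3) rfl N20384 D65629
theorem N40218 : nd 40218 = n65630 := ndS (p := 20384) (l := 4) rfl N20384 D65630
theorem N40219 : nd 40219 = n65632 := ndS (p := 20385) (l := 4) rfl N20385 D65632
theorem N40220 : nd 40220 = n65633 := ndS (p := 20385) (l := 5) rfl N20385 D65633
theorem N40221 : nd 40221 = n65634 := ndS (p := 20385) (l := 6) rfl N20385 D65634
theorem N40222 : nd 40222 = n65635 := ndS (p := 20386) (l := 0) rfl N20386 D65635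
theorem N40223 : nd 40223 = n65636 := ndS (p := 20386) (l := 1) rfl N20386 D65636
theorem N40224 : nd 40224 = n65637 := ndS (p := 20386) (l := 5) rfl N20386 D65637
theorem N40225 : nd 40225 = n65638 := ndS (p := 20386) (l := 6) rfl N20386 D65638
theorem N40226 : nd 40226 = n65641 := ndS (p := 20387) (l := 4) rfl N20387 D65641
theorem N40227 : nd 40227 = n65642 := ndS (p := 20387) (l := 6) rfl N20387 D65642
theorem N40228 : nd 40228 = n65643 := ndS (p := 20388) (l := 0) rfl N20388 D65643
theorem N40229 : nd 40229 = n65644 := ndS (p := 20388) (l := 1) rfl N20388 D65644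
theorem N40230 : nd 40230 = n65645 := ndS (p := 20388) (l := 5) rfl N20388 D65645
theorem N40231 : nd 40231 = n65646 := ndS (p := 20388) (l := 7) rfl N20388 D65646
theorem N40232 : nd 40232 = n65647 := ndS (p := 20389) (l := 0) rfl N20389 D65647
theorem N40233 : nd 40233 = n65649 := ndS (p := 20389) (l := 5) rfl N20389 D65649
theorem N40234 : nd 40234 = n65650 := ndS (p := 20389) (l := 7) rfl N20389 D65650
theorem N40235 : nd 40235 = n65653 := ndS (p := 20390) (l := 7) rfl N20390 D65653
theorem N40236 : nd 40236 = n65655 := ndS (p := 20392) (l := 3) rfl N20392 D65655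
theorem N40237 : nd 40237 = n65656 := ndS (p := 20392) (l := 4) rfl N20392 D65656
theorem N40238 : nd 40238 = n65660 := ndS (p := 20393) (l := 3) rfl N20393 D65660
theorem N40239 : nd 40239 = n65661 := ndS (p := 20393) (l := 4) rfl N20393 D65661
theorem N40240 : nd 40240 = n65666 := ndS (p := 20394) (l := 6) rfl N20394 D65666
theorem N40241 : nd 40241 = n65667 := ndS (p := 20395) (l := 0) rfl N20395 D65667
theorem N40242 : nd 40242 = n65668 := ndS (p := 20395) (l := 1) rfl N20395 D65668
theorem N40243 : nd 40243 = n65670 := ndS (p := 20395) (l := 6) rfl N20395 D65670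
theorem N40244 : nd 40244 = n65676 := ndS (p := 20397) (l := 1) rfl N20397 D65676
theorem N40245 : nd 40245 = n65677 := ndS (p := 20397) (l := 5) rfl N20397 D65677
theorem N40246 : nd 40246 = n65679 := ndS (p := 20398) (l := 5) rfl N20398 D65679
theorem N40247 : nd 40247 = n65681 := ndS (p := 20399) (l := 0) rfl N20399 D65681
theorem N40248 : nd 40248 = n65682 := ndS (p := 20399) (l := 1) rfl N20399 D65682
theorem N40249 : nd 40249 = n65683 := ndS (p := 20399) (l := 4) rfl N20399 D65683
theorem N40250 : nd 40250 = n65691 := ndS (p := 20400) (l := 1) rfl N20400 D65691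
theorem N40251 : nd 40251 = n65692 := ndS (p := 20400) (l := 2) rfl N20400 D65692
theorem N40252 : nd 40252 = n65693 := ndS (p := 20400) (l := 5) rfl N20400 D65693
theorem N40253 : nd 40253 = n65694 := ndS (p := 20400) (l := 6) rfl N20400 D65694
theorem N40254 : nd 40254 = n65696 := ndS (p := 20401) (l := 0) rfl N20401 D65696
theorem N40255 : nd 40255 = n65697 := ndS (p := 20401) (l := 1) rfl N20401 D65697
theorem N40256 : nd 40256 = n65698 := ndS (p := 20401) (l := 3) rfl N20401 D65698
theorem N40257 : nd 40257 = n65699 := ndS (p := 20401) (l := 5) rfl N20401 D65699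
theorem N40258 : nd 40258 = n65700 := ndS (p := 20401) (l := 6) rfl N20401 D65700
theorem N40259 : nd 40259 = n65704 := ndS (p := 20402) (l := 4) rfl N20402 D65704
theorem N40260 : nd 40260 = n65705 := ndS (p := 20402) (l := 6) rfl N20402 D65705
theorem N40261 : nd 40261 = n65707 := ndS (p := 20403) (l := 0) rfl N20403 D65707
theorem N40262 : nd 40262 = n65709 := ndS (p := 20403) (l := 5) rfl N20403 D65709
theorem N40263 : nd 40263 = n65710 := ndS (p := 20403) (l := 7) rfl N20403 D65710
theorem N40264 : nd 40264 = n65712 := ndS (p := 20404) (l := 0) rfl N20404 D65712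
theorem N40265 : nd 40265 = n65714 := ndS (p := 20404) (l := 2) rfl N20404 D65714
theorem N40266 : nd 40266 = n65715 := ndS (p := 20404) (l := 4) rfl N20404 D65715
theorem N40267 : nd 40267 = n65716 := ndS (p := 20404) (l := 5) rfl N20404 D65716
theorem N40268 : nd 40268 = n65717 := ndS (p := 20404) (l := 6) rfl N20404 D65717
theorem N40269 : nd 40269 = n65718 := ndS (p := 20405) (l := 3) rfl N20405 D65718
theorem N40270 : nd 40270 = n65719 := ndS (p := 20405) (l := 5) rfl N20405 D65719
theorem N40271 : nd 40271 = n65720 := ndS (p := 20405) (l := 6) rfl N20405 D65720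
theorem N40272 : nd 40272 = n65721 := ndS (p := 20406) (l := 4) rfl N20406 D65721
theorem N40273 : nd 40273 = n65722 := ndS (p := 20406) (l := 6) rfl N20406 D65722
theorem N40274 : nd 40274 = n65724 := ndS (p := 20407) (l := 1) rfl N20407 D65724
theorem N40275 : nd 40275 = n65725 := ndS (p := 20407) (l := 5) rfl N20407 D65725
theorem N40276 : nd 40276 = n65726 := ndS (p := 20407) (l := 7) rfl N20407 D65726
theorem N40277 : nd 40277 = n65727 := ndS (p := 20408) (l := 4) rfl N20408 D65727
theorem N40278 : nd 40278 = n65734 := ndS (p := 20410) (l := 3) rfl N20410 D65734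
theorem N40279 : nd 40279 = n65735 := ndS (p := 20410) (l := 4) rfl N20410 D65735
theorem N40280 : nd 40280 = n65737 := ndS (p := 20410) (l := 6) rfl N20410 D65737
theorem N40281 : nd 40281 = n65739 := ndS (p := 20411) (l := 3) rfl N20411 D65739
theorem N40282 : nd 40282 = n65740 := ndS (p := 20411) (l := 4) rfl N20411 D65740
theorem N40283 : nd 40283 = n65742 := ndS (p := 20411) (l := 6) rfl N20411 D65742
theorem N40284 : nd 40284 = n65743 := ndS (p := 20412) (l := 0) rfl N20412 D65743
theorem N40285 : nd 40285 = n65744 := ndS (p := 20412) (l := 1) rfl N20412 D65744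
theorem N40286 : nd 40286 = n65745 := ndS (p := 20412) (l := 5) rfl N20412 D65745
theorem N40287 : nd 40287 = n65753 := ndS (p := 20413) (l := 4) rfl N20413 D65753
theorem N40288 : nd 40288 = n65757 := ndS (p := 20414) (l := 3) rfl N20414 D65757
theorem N40289 : nd 40289 = n65758 := ndS (p := 20414) (l := 4) rfl N20414 D65758
theorem N40290 : nd 40290 = n65760 := ndS (p := 20414) (l := 6) rfl N20414 D65760
theorem N40291 : nd 40291 = n65819 := ndS (p := 20415) (l := 0) rfl N20415 D65819
theorem N40292 : nd 40292 = n65822 := ndS (p := 20415) (l := 5) rfl N20415 D65822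
theorem N40293 : nd 40293 = n65861 := ndS (p := 20416) (l := 0) rfl N20416 D65861
theorem N40294 : nd 40294 = n65862 := ndS (p := 20416) (l := 1) rfl N20416 D65862
theorem N40295 : nd 40295 = n65863 := ndS (p := 20416) (l := 2) rfl N20416 D65863
theorem N40296 : nd 40296 = n65864 := ndS (p := 20416) (l := 6) rfl N20416 D65864
theorem N40297 : nd 40297 = n65865 := ndS (p := 20417) (l := 0) rfl N20417 D65865
theorem N40298 : nd 40298 = n65866 := ndS (p := 20417) (l := 1) rfl N20417 D65866
theorem N40299 : nd 40299 = n65867 := ndS (p := 20417) (l := 5) rfl N20417 D65867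
theorem N40300 : nd 40300 = n65874 := ndS (p := 20418) (l := 4) rfl N20418 D65874
theorem N40301 : nd 40301 = n65875 := ndS (p := 20418) (l := 5) rfl N20418 D65875
theorem N40302 : nd 40302 = n65876 := ndS (p := 20418) (l := 6) rfl N20418 D65876
theorem N40303 : nd 40303 = n65877 := ndS (p := 20419) (l := 3) rfl N20419 D65877
theorem N40304 : nd 40304 = n65878 := ndS (p := 20419) (l := 6) rfl N20419 D65878
theorem N40305 : nd 40305 = n65879 := ndS (p := 20420) (l := 0) rfl N20420 D65879
theorem N40306 : nd 40306 = n65880 := ndS (p := 20420) (l := 7) rfl N20420 D65880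
theorem N40307 : nd 40307 = n65881 := ndS (p := 20423) (l := 0) rfl N20423 D65881
theorem N40308 : nd 40308 = n65882 := ndS (p := 20423) (l := 1) rfl N20423 D65882
theorem N40309 : nd 40309 = n65883 := ndS (p := 20423) (l := 2) rfl N20423 D65883
theorem N40310 : nd 40310 = n65884 := ndS (p := 20423) (l := 5) rfl N20423 D65884
theorem N40311 : nd 40311 = n65885 := ndS (p := 20423) (l := 6) rfl N20423 D65885
theorem N40312 : nd 40312 = n65886 := ndS (p := 20424) (l := 6) rfl N20424 D65886
theorem N40313 : nd 40313 = n65887 := ndS (p := 20425) (l := 0) rfl N20425 D65887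
theorem N40314 : nd 40314 = n65888 := ndS (p := 20425) (l := 5) rfl N20425 D65888
theorem N40315 : nd 40315 = n65889 := ndS (p := 20425) (l := 7) rfl N20425 D65889
theorem N40316 : nd 40316 = n65890 := ndS (p := 20426) (l := 4) rfl N20426 D65890
theorem N40317 : nd 40317 = n65891 := ndS (p := 20428) (l := 6) rfl N20428 D65891
theorem N40318 : nd 40318 = n65892 := ndS (p := 20429) (l := 3) rfl N20429 D65892
theorem N40319 : nd 40319 = n65893 := ndS (p := 20429) (l := 5) rfl N20429 D65893
theorem N40320 : nd 40320 = n65894 := ndS (p := 20429) (l := 6) rfl N20429 D65894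
theorem N40321 : nd 40321 = n65895 := ndS (p := 20431) (l := 3) rfl N20431 D65895
theorem N40322 : nd 40322 = n65896 := ndS (p := 20432) (l := 1) rfl N20432 D65896
theorem N40323 : nd 40323 = n65897 := ndS (p := 20432) (l := 7) rfl N20432 D65897
theorem N40324 : nd 40324 = n65898 := ndS (p := 20433) (l := 6) rfl N20433 D65898
theorem N40325 : nd 40325 = n65899 := ndS (p := 20434) (l := 3) rfl N20434 D65899
theorem N40326 : nd 40326 = n65900 := ndS (p := 20434) (l := 6) rfl N20434 D65900
theorem N40327 : nd 40327 = n65901 := ndS (p := 20435) (l := 0) rfl N20435 D65901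
theorem N40328 : nd 40328 = n65902 := ndS (p := 20435) (l := 1) rfl N20435 D65902
theorem N40329 : nd 40329 = n65903 := ndS (p := 20435) (l := 7) rfl N20435 D65903
theorem N40330 : nd 40330 = n65904 := ndS (p := 20436) (l := 0) rfl N20436 D65904
theorem N40331 : nd 40331 = n65905 := ndS (p := 20436) (l := 1) rfl N20436 D65905
theorem N40332 : nd 40332 = n65906 := ndS (p := 20436) (l := 2) rfl N20436 D65906
theorem N40333 : nd 40333 = n65907 := ndS (p := 20436) (l := 6) rfl N20436 D65907
theorem N40334 : nd 40334 = n65908 := ndS (p := 20437) (l := 5) rfl N20437 D65908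
theorem N40335 : nd 40335 = n65909 := ndS (p := 20437) (l := 7) rfl N20437 D65909
theorem N40336 : nd 40336 = n65910 := ndS (p := 20438) (l := 4) rfl N20438 D65910
theorem N40337 : nd 40337 = n65911 := ndS (p := 20438) (l := 5) rfl N20438 D65911
theorem N40338 : nd 40338 = n65912 := ndS (p := 20438) (l := 6) rfl N20438 D65912
theorem N40339 : nd 40339 = n65913 := ndS (p := 20439) (l := 5) rfl N20439 D65913
theorem N40340 : nd 40340 = n65914 := ndS (p := 20440) (l := 0) rfl N20440 D65914
theorem N40341 : nd 40341 = n65915 := ndS (p := 20440) (l := 1) rfl N20440 D65915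
theorem N40342 : nd 40342 = n65916 := ndS (p := 20440) (l := 7) rfl N20440 D65916
theorem N40343 : nd 40343 = n65917 := ndS (p := 20443) (l := 0) rfl N20443 D65917
theorem N40344 : nd 40344 = n65918 := ndS (p := 20443) (l := 1) rfl N20443 D65918
theorem N40345 : nd 40345 = n65919 := ndS (p := 20443) (l := 2) rfl N20443 D65919
theorem N40346 : nd 40346 = n65920 := ndS (p := 20443) (l := 5) rfl N20443 D65920
theorem N40347 : nd 40347 = n65921 := ndS (p := 20443) (l := 6) rfl N20443 D65921
theorem N40348 : nd 40348 = n65923 := ndS (p := 20445) (l := 0) rfl N20445 D65923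
theorem N40349 : nd 40349 = n65924 := ndS (p := 20445) (l := 1) rfl N20445 D65924
theorem N40350 : nd 40350 = n65926 := ndS (p := 20446) (l := 0) rfl N20446 D65926
theorem N40351 : nd 40351 = n65927 := ndS (p := 20446) (l := 1) rfl N20446 D65927
theorem N40352 : nd 40352 = n65928 := ndS (p := 20446) (l := 2) rfl N20446 D65928
theorem N40353 : nd 40353 = n65929 := ndS (p := 20446) (l := 5) rfl N20446 D65929
theorem N40354 : nd 40354 = n65930 := ndS (p := 20446) (l := 6) rfl N20446 D65930
theorem N40355 : nd 40355 = n65932 := ndS (p := 20448) (l := 0) rfl N20448 D65932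
theorem N40356 : nd 40356 = n65933 := ndS (p := 20448) (l := 1) rfl N20448 D65933
theorem N40357 : nd 40357 = n65935 := ndS (p := 20448) (l := 7) rfl N20448 D65935
theorem N40358 : nd 40358 = n65940 := ndS (p := 20449) (l := 4) rfl N20449 D65940
theorem N40359 : nd 40359 = n65941 := ndS (p := 20449) (l := 5) rfl N20449 D65941
theorem N40360 : nd 40360 = n65942 := ndS (p := 20451) (l := 0) rfl N20451 D65942
theorem N40361 : nd 40361 = n65943 := ndS (p := 20451) (l := 1) rfl N20451 D65943
theorem N40362 : nd 40362 = n65944 := ndS (p := 20451) (l := 2) rfl N20451 D65944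
theorem N40363 : nd 40363 = n65945 := ndS (p := 20451) (l := 5) rfl N20451 D65945
theorem N40364 : nd 40364 = n65946 := ndS (p := 20451) (l := 6) rfl N20451 D65946
theorem N40365 : nd 40365 = n65947 := ndS (p := 20453) (l := 6) rfl N20453 D65947
theorem N40366 : nd 40366 = n65948 := ndS (p := 20454) (l := 5) rfl N20454 D65948
theorem N40367 : nd 40367 = n65950 := ndS (p := 20455) (l := 0) rfl N20455 D65950
theorem N40368 : nd 40368 = n65951 := ndS (p := 20455) (l := 1) rfl N20455 D65951
theorem N40369 : nd 40369 = n65952 := ndS (p := 20455) (l := 2) rfl N20455 D65952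
theorem N40370 : nd 40370 = n65953 := ndS (p := 20455) (l := 5) rfl N20455 D65953
theorem N40371 : nd 40371 = n65954 := ndS (p := 20455) (l := 6) rfl N20455 D65954
theorem N40372 : nd 40372 = n65959 := ndS (p := 20457) (l := 7) rfl N20457 D65959
theorem N40373 : nd 40373 = n65961 := ndS (p := 20458) (l := 3) rfl N20458 D65961
theorem N40374 : nd 40374 = n65962 := ndS (p := 20458) (l := 4) rfl N20458 D65962
theorem N40375 : nd 40375 = n65963 := ndS (p := 20458) (l := 5) rfl N20458 D65963
theorem N40376 : nd 40376 = n65964 := ndS (p := 20458) (l := 6) rfl N20458 D65964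
theorem N40377 : nd 40377 = n65966 := ndS (p := 20459) (l := 3) rfl N20459 D65966
theorem N40378 : nd 40378 = n65967 := ndS (p := 20459) (l := 5) rfl N20459 D65967
theorem N40379 : nd 40379 = n65968 := ndS (p := 20459) (l := 6) rfl N20459 D65968
theorem N40380 : nd 40380 = n65969 := ndS (p := 20460) (l := 5) rfl N20460 D65969
theorem N40381 : nd 40381 = n65970 := ndS (p := 20460) (l := 6) rfl N20460 D65970
theorem N40382 : nd 40382 = n65971 := ndS (p := 20461) (l := 0) rfl N20461 D65971
theorem N40383 : nd 40383 = n65972 := ndS (p := 20461) (l := 1) rfl N20461 D65972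
theorem N40384 : nd 40384 = n65973 := ndS (p := 20461) (l := 4) rfl N20461 D65973
theorem N40385 : nd 40385 = n65974 := ndS (p := 20461) (l := 6) rfl N20461 D65974
theorem N40386 : nd 40386 = n65975 := ndS (p := 20462) (l := 0) rfl N20462 D65975
theorem N40387 : nd 40387 = n65976 := ndS (p := 20462) (l := 1) rfl N20462 D65976
theorem N40388 : nd 40388 = n65977 := ndS (p := 20462) (l := 5) rfl N20462 D65977
theorem N40389 : nd 40389 = n65978 := ndS (p := 20462) (l := 7) rfl N20462 D65978
theorem N40390 : nd 40390 = n65979 := ndS (p := 20463) (l := 3) rfl N20463 D65979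
theorem N40391 : nd 40391 = n65980 := ndS (p := 20463) (l := 6) rfl N20463 D65980
theorem N40392 : nd 40392 = n65981 := ndS (p := 20464) (l := 3) rfl N20464 D65981
theorem N40393 : nd 40393 = n65982 := ndS (p := 20464) (l := 6) rfl N20464 D65982
theorem N40394 : nd 40394 = n65983 := ndS (p := 20465) (l := 0) rfl N20465 D65983
theorem N40395 : nd 40395 = n65984 := ndS (p := 20465) (l := 1) rfl N20465 D65984
theorem N40396 : nd 40396 = n65985 := ndS (p := 20465) (l := 5) rfl N20465 D65985
theorem N40397 : nd 40397 = n65986 := ndS (p := 20465) (l := 7) rfl N20465 D65986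
theorem N40398 : nd 40398 = n65987 := ndS (p := 20466) (l := 3) rfl N20466 D65987
theorem N40399 : nd 40399 = n65988 := ndS (p := 20466) (l := 4) rfl N20466 D65988
theorem N40400 : nd 40400 = n65989 := ndS (p := 20466) (l := 5) rfl N20466 D65989
theorem N40401 : nd 40401 = n65990 := ndS (p := 20466) (l := 6) rfl N20466 D65990
theorem N40402 : nd 40402 = n65991 := ndS (p := 20467) (l := 3) rfl N20467 D65991
theorem N40403 : nd 40403 = n65992 := ndS (p := 20467) (l := 5) rfl N20467 D65992
theorem N40404 : nd 40404 = n65993 := ndS (p := 20468) (l := 0) rfl N20468 D65993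
theorem N40405 : nd 40405 = n65994 := ndS (p := 20468) (l := 1) rfl N20468 D65994
theorem N40406 : nd 40406 = n65995 := ndS (p := 20468) (l := 4) rfl N20468 D65995
theorem N40407 : nd 40407 = n65996 := ndS (p := 20468) (l := 7) rfl N20468 D65996
theorem N40408 : nd 40408 = n65997 := ndS (p := 20470) (l := 0) rfl N20470 D65997
theorem N40409 : nd 40409 = n65998 := ndS (p := 20470) (l := 3) rfl N20470 D65998
theorem N40410 : nd 40410 = n65999 := ndS (p := 20470) (l := 5) rfl N20470 D65999
theorem N40411 : nd 40411 = n66000 := ndS (p := 20470) (l := 6) rfl N20470 D66000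
theorem N40412 : nd 40412 = n66001 := ndS (p := 20473) (l := 3) rfl N20473 D66001
theorem N40413 : nd 40413 = n66002 := ndS (p := 20473) (l := 5) rfl N20473 D66002
theorem N40414 : nd 40414 = n66005 := ndS (p := 20474) (l := 4) rfl N20474 D66005
theorem N40415 : nd 40415 = n66006 := ndS (p := 20474) (l := 5) rfl N20474 D66006
theorem N40416 : nd 40416 = n66008 := ndS (p := 20475) (l := 3) rfl N20475 D66008
theorem N40417 : nd 40417 = n66009 := ndS (p := 20475) (l := 4) rfl N20475 D66009
theorem N40418 : nd 40418 = n66010 := ndS (p := 20475) (l := 5) rfl N20475 D66010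
theorem N40419 : nd 40419 = n66011 := ndS (p := 20476) (l := 0) rfl N20476 D66011
theorem N40420 : nd 40420 = n66012 := ndS (p := 20476) (l := 1) rfl N20476 D66012
theorem N40421 : nd 40421 = n66013 := ndS (p := 20476) (l := 3) rfl N20476 D66013
theorem N40422 : nd 40422 = n66014 := ndS (p := 20476) (l := 5) rfl N20476 D66014
theorem N40423 : nd 40423 = n66015 := ndS (p := 20476) (l := 7) rfl N20476 D66015
theorem N40424 : nd 40424 = n66016 := ndS (p := 20478) (l := 3) rfl N20478 D66016
theorem N40425 : nd 40425 = n66017 := ndS (p := 20478) (l := 6) rfl N20478 D66017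
theorem N40426 : nd 40426 = n66018 := ndS (p := 20479) (l := 0) rfl N20479 D66018
theorem N40427 : nd 40427 = n66019 := ndS (p := 20479) (l := 1) rfl N20479 D66019
theorem N40428 : nd 40428 = n66020 := ndS (p := 20479) (l := 2) rfl N20479 D66020
theorem N40429 : nd 40429 = n66021 := ndS (p := 20479) (l := 5) rfl N20479 D66021
theorem N40430 : nd 40430 = n66022 := ndS (p := 20480) (l := 6) rfl N20480 D66022
theorem N40431 : nd 40431 = n66030 := ndS (p := 20481) (l := 1) rfl N20481 D66030
theorem N40432 : nd 40432 = n66031 := ndS (p := 20481) (l := 2) rfl N20481 D66031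
theorem N40433 : nd 40433 = n66032 := ndS (p := 20481) (l := 5) rfl N20481 D66032
theorem N40434 : nd 40434 = n66033 := ndS (p := 20481) (l := 6) rfl N20481 D66033
theorem N40435 : nd 40435 = n66035 := ndS (p := 20482) (l := 0) rfl N20482 D66035
theorem N40436 : nd 40436 = n66036 := ndS (p := 20482) (l := 1) rfl N20482 D66036
theorem N40437 : nd 40437 = n66037 := ndS (p := 20482) (l := 3) rfl N20482 D66037
theorem N40438 : nd 40438 = n66038 := ndS (p := 20482) (l := 5) rfl N20482 D66038
theorem N40439 : nd 40439 = n66039 := ndS (p := 20482) (l := 6) rfl N20482 D66039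
theorem N40440 : nd 40440 = n66043 := ndS (p := 20483) (l := 4) rfl N20483 D66043
theorem N40441 : nd 40441 = n66044 := ndS (p := 20483) (l := 6) rfl N20483 D66044
theorem N40442 : nd 40442 = n66048 := ndS (p := 20484) (l := 5) rfl N20484 D66048
theorem N40443 : nd 40443 = n66051 := ndS (p := 20485) (l := 0) rfl N20485 D66051
theorem N40444 : nd 40444 = n66053 := ndS (p := 20485) (l := 2) rfl N20485 D66053
theorem N40445 : nd 40445 = n66054 := ndS (p := 20485) (l := 4) rfl N20485 D66054
theorem N40446 : nd 40446 = n66055 := ndS (p := 20485) (l := 5) rfl N20485 D66055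
theorem N40447 : nd 40447 = n66056 := ndS (p := 20485) (l := 6) rfl N20485 D66056
theorem N40448 : nd 40448 = n66057 := ndS (p := 20486) (l := 3) rfl N20486 D66057
theorem N40449 : nd 40449 = n66058 := ndS (p := 20486) (l := 5) rfl N20486 D66058
theorem N40450 : nd 40450 = n66059 := ndS (p := 20486) (l := 6) rfl N20486 D66059
theorem N40451 : nd 40451 = n66060 := ndS (p := 20487) (l := 4) rfl N20487 D66060
theorem N40452 : nd 40452 = n66061 := ndS (p := 20487) (l := 6) rfl N20487 D66061
theorem N40453 : nd 40453 = n66063 := ndS (p := 20488) (l := 1) rfl N20488 D66063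
theorem N40454 : nd 40454 = n66064 := ndS (p := 20488) (l := 5) rfl N20488 D66064
theorem N40455 : nd 40455 = n66065 := ndS (p := 20488) (l := 7) rfl N20488 D66065
theorem N40456 : nd 40456 = n66066 := ndS (p := 20489) (l := 4) rfl N20489 D66066
theorem N40457 : nd 40457 = n66067 := ndS (p := 20489) (l := 6) rfl N20489 D66067
theorem N40458 : nd 40458 = n66068 := ndS (p := 20490) (l := 0) rfl N20490 D66068
theorem N40459 : nd 40459 = n66070 := ndS (p := 20490) (l := 5) rfl N20490 D66070
theorem N40460 : nd 40460 = n66071 := ndS (p := 20490) (l := 7) rfl N20490 D66071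
theorem N40461 : nd 40461 = n66073 := ndS (p := 20491) (l := 3) rfl N20491 D66073
theorem N40462 : nd 40462 = n66074 := ndS (p := 20491) (l := 4) rfl N20491 D66074
theorem N40463 : nd 40463 = n66076 := ndS (p := 20491) (l := 6) rfl N20491 D66076
theorem N40464 : nd 40464 = n66078 := ndS (p := 20492) (l := 3) rfl N20492 D66078
theorem N40465 : nd 40465 = n66079 := ndS (p := 20492) (l := 4) rfl N20492 D66079
theorem N40466 : nd 40466 = n66081 := ndS (p := 20492) (l := 6) rfl N20492 D66081
theorem N40467 : nd 40467 = n66082 := ndS (p := 20493) (l := 0) rfl N20493 D66082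
theorem N40468 : nd 40468 = n66084 := ndS (p := 20493) (l := 5) rfl N20493 D66084
theorem N40469 : nd 40469 = n66085 := ndS (p := 20493) (l := 6) rfl N20493 D66085
theorem N40470 : nd 40470 = n66086 := ndS (p := 20494) (l := 0) rfl N20494 D66086
theorem N40471 : nd 40471 = n66091 := ndS (p := 20495) (l := 3) rfl N20495 D66091
theorem N40472 : nd 40472 = n66092 := ndS (p := 20495) (l := 4) rfl N20495 D66092
theorem N40473 : nd 40473 = n66093 := ndS (p := 20495) (l := 5) rfl N20495 D66093
theorem N40474 : nd 40474 = n66094 := ndS (p := 20495) (l := 6) rfl N20495 D66094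
theorem N40475 : nd 40475 = n66096 := ndS (p := 20496) (l := 3) rfl N20496 D66096
theorem N40476 : nd 40476 = n66097 := ndS (p := 20496) (l := 4) rfl N20496 D66097
theorem N40477 : nd 40477 = n66098 := ndS (p := 20496) (l := 5) rfl N20496 D66098
theorem N40478 : nd 40478 = n66100 := ndS (p := 20497) (l := 0) rfl N20497 D66100
theorem N40479 : nd 40479 = n66101 := ndS (p := 20497) (l := 1) rfl N20497 D66101
theorem N40480 : nd 40480 = n66102 := ndS (p := 20497) (l := 4) rfl N20497 D66102
theorem N40481 : nd 40481 = n66103 := ndS (p := 20497) (l := 7) rfl N20497 D66103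
theorem N40482 : nd 40482 = n66113 := ndS (p := 20499) (l := 6) rfl N20499 D66113
theorem N40483 : nd 40483 = n66121 := ndS (p := 20500) (l := 4) rfl N20500 D66121
theorem N40484 : nd 40484 = n66124 := ndS (p := 20501) (l := 0) rfl N20501 D66124
theorem N40485 : nd 40485 = n66125 := ndS (p := 20501) (l := 1) rfl N20501 D66125
theorem N40486 : nd 40486 = n66129 := ndS (p := 20503) (l := 1) rfl N20503 D66129
theorem N40487 : nd 40487 = n66131 := ndS (p := 20503) (l := 4) rfl N20503 D66131
theorem N40488 : nd 40488 = n66132 := ndS (p := 20503) (l := 5) rfl N20503 D66132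
theorem N40489 : nd 40489 = n66134 := ndS (p := 20504) (l := 6) rfl N20504 D66134
theorem N40490 : nd 40490 = n66141 := ndS (p := 20505) (l := 0) rfl N20505 D66141
theorem N40491 : nd 40491 = n66143 := ndS (p := 20505) (l := 3) rfl N20505 D66143
theorem N40492 : nd 40492 = n66149 := ndS (p := 20507) (l := 2) rfl N20507 D66149
theorem N40493 : nd 40493 = n66150 := ndS (p := 20507) (l := 5) rfl N20507 D66150
theorem N40494 : nd 40494 = n66151 := ndS (p := 20507) (l := 6) rfl N20507 D66151
theorem N40495 : nd 40495 = n66152 := ndS (p := 20508) (l := 0) rfl N20508 D66152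
theorem N40496 : nd 40496 = n66153 := ndS (p := 20508) (l := 1) rfl N20508 D66153
theorem N40497 : nd 40497 = n66154 := ndS (p := 20508) (l := 4) rfl N20508 D66154
theorem N40498 : nd 40498 = n66156 := ndS (p := 20510) (l := 1) rfl N20510 D66156
theorem N40499 : nd 40499 = n66157 := ndS (p := 20510) (l := 3) rfl N20510 D66157
theorem N40500 : nd 40500 = n66158 := ndS (p := 20510) (l := 5) rfl N20510 D66158
theorem N40501 : nd 40501 = n66160 := ndS (p := 20511) (l := 1) rfl N20511 D66160
theorem N40502 : nd 40502 = n66161 := ndS (p := 20511) (l := 2) rfl N20511 D66161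
theorem N40503 : nd 40503 = n66162 := ndS (p := 20511) (l := 5) rfl N20511 D66162
theorem N40504 : nd 40504 = n66163 := ndS (p := 20512) (l := 4) rfl N20512 D66163
theorem N40505 : nd 40505 = n66164 := ndS (p := 20512) (l := 6) rfl N20512 D66164
theorem N40506 : nd 40506 = n66174 := ndS (p := 20514) (l := 4) rfl N20514 D66174
theorem N40507 : nd 40507 = n66175 := ndS (p := 20515) (l := 3) rfl N20515 D66175
theorem N40508 : nd 40508 = n66181 := ndS (p := 20518) (l := 0) rfl N20518 D66181
theorem N40509 : nd 40509 = n66182 := ndS (p := 20518) (l := 1) rfl N20518 D66182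
theorem N40510 : nd 40510 = n66183 := ndS (p := 20518) (l := 2) rfl N20518 D66183
theorem N40511 : nd 40511 = n66197 := ndS (p := 20520) (l := 0) rfl N20520 D66197
theorem N40512 : nd 40512 = n66198 := ndS (p := 20520) (l := 1) rfl N20520 D66198
theorem N40513 : nd 40513 = n66199 := ndS (p := 20520) (l := 2) rfl N20520 D66199
theorem N40514 : nd 40514 = n66200 := ndS (p := 20520) (l := 5) rfl N20520 D66200
theorem N40515 : nd 40515 = n66201 := ndS (p := 20520) (l := 6) rfl N20520 D66201
theorem N40516 : nd 40516 = n66202 := ndS (p := 20521) (l := 6) rfl N20521 D66202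
theorem N40517 : nd 40517 = n66203 := ndS (p := 20522) (l := 0) rfl N20522 D66203
theorem N40518 : nd 40518 = n66204 := ndS (p := 20522) (l := 1) rfl N20522 D66204
theorem N40519 : nd 40519 = n66205 := ndS (p := 20522) (l := 5) rfl N20522 D66205
theorem N40520 : nd 40520 = n66206 := ndS (p := 20522) (l := 7) rfl N20522 D66206
theorem N40521 : nd 40521 = n66209 := ndS (p := 20523) (l := 4) rfl N20523 D66209
theorem N40522 : nd 40522 = n66210 := ndS (p := 20523) (l := 5) rfl N20523 D66210
theorem N40523 : nd 40523 = n66213 := ndS (p := 20524) (l := 4) rfl N20524 D66213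
theorem N40524 : nd 40524 = n66214 := ndS (p := 20524) (l := 6) rfl N20524 D66214
theorem N40525 : nd 40525 = n66215 := ndS (p := 20526) (l := 0) rfl N20526 D66215
theorem N40526 : nd 40526 = n66216 := ndS (p := 20526) (l := 1) rfl N20526 D66216
theorem N40527 : nd 40527 = n66217 := ndS (p := 20526) (l := 2) rfl N20526 D66217
theorem N40528 : nd 40528 = n66218 := ndS (p := 20526) (l := 6) rfl N20526 D66218
theorem N40529 : nd 40529 = n66221 := ndS (p := 20527) (l := 5) rfl N20527 D66221
theorem N40530 : nd 40530 = n66223 := ndS (p := 20528) (l := 3) rfl N20528 D66223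
theorem N40531 : nd 40531 = n66224 := ndS (p := 20528) (l := 4) rfl N20528 D66224
theorem N40532 : nd 40532 = n66226 := ndS (p := 20528) (l := 6) rfl N20528 D66226
theorem N40533 : nd 40533 = n66228 := ndS (p := 20529) (l := 3) rfl N20529 D66228
theorem N40534 : nd 40534 = n66231 := ndS (p := 20530) (l := 5) rfl N20530 D66231
theorem N40535 : nd 40535 = n66232 := ndS (p := 20530) (l := 6) rfl N20530 D66232
theorem N40536 : nd 40536 = n66233 := ndS (p := 20531) (l := 0) rfl N20531 D66233
theorem N40537 : nd 40537 = n66234 := ndS (p := 20531) (l := 1) rfl N20531 D66234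
theorem N40538 : nd 40538 = n66235 := ndS (p := 20531) (l := 4) rfl N20531 D66235
theorem N40539 : nd 40539 = n66236 := ndS (p := 20531) (l := 6) rfl N20531 D66236
theorem N40540 : nd 40540 = n66237 := ndS (p := 20532) (l := 0) rfl N20532 D66237
theorem N40541 : nd 40541 = n66238 := ndS (p := 20532) (l := 1) rfl N20532 D66238
theorem N40542 : nd 40542 = n66239 := ndS (p := 20532) (l := 5) rfl N20532 D66239
theorem N40543 : nd 40543 = n66240 := ndS (p := 20532) (l := 7) rfl N20532 D66240
theorem N40544 : nd 40544 = n66241 := ndS (p := 20533) (l := 3) rfl N20533 D66241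
theorem N40545 : nd 40545 = n66242 := ndS (p := 20533) (l := 6) rfl N20533 D66242
theorem N40546 : nd 40546 = n66243 := ndS (p := 20534) (l := 3) rfl N20534 D66243
theorem N40547 : nd 40547 = n66244 := ndS (p := 20534) (l := 6) rfl N20534 D66244
theorem N40548 : nd 40548 = n66245 := ndS (p := 20535) (l := 0) rfl N20535 D66245
theorem N40549 : nd 40549 = n66246 := ndS (p := 20535) (l := 1) rfl N20535 D66246
theorem N40550 : nd 40550 = n66247 := ndS (p := 20535) (l := 5) rfl N20535 D66247
theorem N40551 : nd 40551 = n66248 := ndS (p := 20535) (l := 7) rfl N20535 D66248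
theorem N40552 : nd 40552 = n66250 := ndS (p := 20536) (l := 3) rfl N20536 D66250
theorem N40553 : nd 40553 = n66252 := ndS (p := 20536) (l := 5) rfl N20536 D66252
theorem N40554 : nd 40554 = n66253 := ndS (p := 20536) (l := 6) rfl N20536 D66253
theorem N40555 : nd 40555 = n66255 := ndS (p := 20537) (l := 3) rfl N20537 D66255
theorem N40556 : nd 40556 = n66256 := ndS (p := 20537) (l := 5) rfl N20537 D66256
theorem N40557 : nd 40557 = n66257 := ndS (p := 20537) (l := 6) rfl N20537 D66257
theorem N40558 : nd 40558 = n66260 := ndS (p := 20538) (l := 4) rfl N20538 D66260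
theorem N40559 : nd 40559 = n66261 := ndS (p := 20538) (l := 7) rfl N20538 D66261
theorem N40560 : nd 40560 = n66271 := ndS (p := 20540) (l := 4) rfl N20540 D66271
theorem N40561 : nd 40561 = n66272 := ndS (p := 20540) (l := 5) rfl N20540 D66272
theorem N40562 : nd 40562 = n66275 := ndS (p := 20541) (l := 0) rfl N20541 D66275
theorem N40563 : nd 40563 = n66276 := ndS (p := 20541) (l := 3) rfl N20541 D66276
theorem N40564 : nd 40564 = n66277 := ndS (p := 20541) (l := 5) rfl N20541 D66277
theorem N40565 : nd 40565 = n66278 := ndS (p := 20541) (l := 6) rfl N20541 D66278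
theorem N40566 : nd 40566 = n66280 := ndS (p := 20542) (l := 0) rfl N20542 D66280
theorem N40567 : nd 40567 = n66281 := ndS (p := 20542) (l := 4) rfl N20542 D66281
theorem N40568 : nd 40568 = n66286 := ndS (p := 20544) (l := 4) rfl N20544 D66286
theorem N40569 : nd 40569 = n66287 := ndS (p := 20544) (l := 5) rfl N20544 D66287
theorem N40570 : nd 40570 = n66288 := ndS (p := 20544) (l := 6) rfl N20544 D66288
theorem N40571 : nd 40571 = n66289 := ndS (p := 20545) (l := 3) rfl N20545 D66289
theorem N40572 : nd 40572 = n66290 := ndS (p := 20545) (l := 5) rfl N20545 D66290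
theorem N40573 : nd 40573 = n66291 := ndS (p := 20545) (l := 6) rfl N20545 D66291
theorem N40574 : nd 40574 = n66292 := ndS (p := 20546) (l := 4) rfl N20546 D66292
theorem N40575 : nd 40575 = n66294 := ndS (p := 20547) (l := 7) rfl N20547 D66294
theorem N40576 : nd 40576 = n66297 := ndS (p := 20548) (l := 3) rfl N20548 D66297
theorem N40577 : nd 40577 = n66298 := ndS (p := 20548) (l := 5) rfl N20548 D66298
theorem N40578 : nd 40578 = n66300 := ndS (p := 20549) (l := 4) rfl N20549 D66300
theorem N40579 : nd 40579 = n66301 := ndS (p := 20549) (l := 5) rfl N20549 D66301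
theorem N40580 : nd 40580 = n66304 := ndS (p := 20550) (l := 3) rfl N20550 D66304
theorem N40581 : nd 40581 = n66305 := ndS (p := 20550) (l := 4) rfl N20550 D66305
theorem N40582 : nd 40582 = n66306 := ndS (p := 20550) (l := 5) rfl N20550 D66306
theorem N40583 : nd 40583 = n66307 := ndS (p := 20550) (l := 6) rfl N20550 D66307
theorem N40584 : nd 40584 = n66308 := ndS (p := 20551) (l := 4) rfl N20551 D66308
theorem N40585 : nd 40585 = n66309 := ndS (p := 20551) (l := 6) rfl N20551 D66309
theorem N40586 : nd 40586 = n66310 := ndS (p := 20552) (l := 0) rfl N20552 D66310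
theorem N40587 : nd 40587 = n66311 := ndS (p := 20552) (l := 5) rfl N20552 D66311
theorem N40588 : nd 40588 = n66312 := ndS (p := 20552) (l := 6) rfl N20552 D66312
theorem N40589 : nd 40589 = n66313 := ndS (p := 20553) (l := 0) rfl N20553 D66313
theorem N40590 : nd 40590 = n66314 := ndS (p := 20553) (l := 1) rfl N20553 D66314
theorem N40591 : nd 40591 = n66315 := ndS (p := 20553) (l := 5) rfl N20553 D66315
theorem N40592 : nd 40592 = n66316 := ndS (p := 20554) (l := 0) rfl N20554 D66316
theorem N40593 : nd 40593 = n66317 := ndS (p := 20554) (l := 1) rfl N20554 D66317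
theorem N40594 : nd 40594 = n66318 := ndS (p := 20554) (l := 4) rfl N20554 D66318
theorem N40595 : nd 40595 = n66326 := ndS (p := 20555) (l := 2) rfl N20555 D66326
theorem N40596 : nd 40596 = n66328 := ndS (p := 20555) (l := 6) rfl N20555 D66328
theorem N40597 : nd 40597 = n66330 := ndS (p := 20556) (l := 1) rfl N20556 D66330
theorem N40598 : nd 40598 = n66331 := ndS (p := 20556) (l := 3) rfl N20556 D66331
theorem N40599 : nd 40599 = n66332 := ndS (p := 20556) (l := 5) rfl N20556 D66332
theorem N40600 : nd 40600 = n66333 := ndS (p := 20556) (l := 6) rfl N20556 D66333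
theorem N40601 : nd 40601 = n66340 := ndS (p := 20557) (l := 0) rfl N20557 D66340
theorem N40602 : nd 40602 = n66342 := ndS (p := 20557) (l := 5) rfl N20557 D66342
theorem N40603 : nd 40603 = n66346 := ndS (p := 20558) (l := 2) rfl N20558 D66346
theorem N40604 : nd 40604 = n66347 := ndS (p := 20558) (l := 4) rfl N20558 D66347
theorem N40605 : nd 40605 = n66350 := ndS (p := 20559) (l := 3) rfl N20559 D66350
theorem N40606 : nd 40606 = n66351 := ndS (p := 20559) (l := 5) rfl N20559 D66351
theorem N40607 : nd 40607 = n66359 := ndS (p := 20560) (l := 4) rfl N20560 D66359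
theorem N40608 : nd 40608 = n66360 := ndS (p := 20560) (l := 6) rfl N20560 D66360
theorem N40609 : nd 40609 = n66361 := ndS (p := 20561) (l := 0) rfl N20561 D66361
theorem N40610 : nd 40610 = n66362 := ndS (p := 20561) (l := 1) rfl N20561 D66362
theorem N40611 : nd 40611 = n66363 := ndS (p := 20561) (l := 5) rfl N20561 D66363
theorem N40612 : nd 40612 = n66364 := ndS (p := 20561) (l := 7) rfl N20561 D66364
theorem N40613 : nd 40613 = n66366 := ndS (p := 20562) (l := 3) rfl N20562 D66366
theorem N40614 : nd 40614 = n66367 := ndS (p := 20562) (l := 4) rfl N20562 D66367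
theorem N40615 : nd 40615 = n66369 := ndS (p := 20562) (l := 6) rfl N20562 D66369
theorem N40616 : nd 40616 = n66371 := ndS (p := 20563) (l := 3) rfl N20563 D66371
theorem N40617 : nd 40617 = n66372 := ndS (p := 20563) (l := 4) rfl N20563 D66372
theorem N40618 : nd 40618 = n66374 := ndS (p := 20563) (l := 6) rfl N20563 D66374
theorem N40619 : nd 40619 = n66375 := ndS (p := 20564) (l := 0) rfl N20564 D66375
theorem N40620 : nd 40620 = n66376 := ndS (p := 20564) (l := 1) rfl N20564 D66376
theorem N40621 : nd 40621 = n66377 := ndS (p := 20564) (l := 5) rfl N20564 D66377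
theorem N40622 : nd 40622 = n66378 := ndS (p := 20564) (l := 6) rfl N20564 D66378
theorem N40623 : nd 40623 = n66379 := ndS (p := 20565) (l := 0) rfl N20565 D66379
theorem N40624 : nd 40624 = n66380 := ndS (p := 20565) (l := 1) rfl N20565 D66380
theorem N40625 : nd 40625 = n66382 := ndS (p := 20565) (l := 7) rfl N20565 D66382
theorem N40626 : nd 40626 = n66385 := ndS (p := 20566) (l := 4) rfl N20566 D66385
theorem N40627 : nd 40627 = n66389 := ndS (p := 20567) (l := 3) rfl N20567 D66389
theorem N40628 : nd 40628 = n66390 := ndS (p := 20567) (l := 4) rfl N20567 D66390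
theorem N40629 : nd 40629 = n66392 := ndS (p := 20567) (l := 6) rfl N20567 D66392
theorem N40630 : nd 40630 = n66393 := ndS (p := 20568) (l := 0) rfl N20568 D66393
theorem N40631 : nd 40631 = n66399 := ndS (p := 20570) (l := 2) rfl N20570 D66399
theorem N40632 : nd 40632 = n66400 := ndS (p := 20570) (l := 4) rfl N20570 D66400
theorem N40633 : nd 40633 = n66401 := ndS (p := 20570) (l := 6) rfl N20570 D66401
theorem N40634 : nd 40634 = n66410 := ndS (p := 20573) (l := 0) rfl N20573 D66410
theorem N40635 : nd 40635 = n66411 := ndS (p := 20573) (l := 1) rfl N20573 D66411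
theorem N40636 : nd 40636 = n66412 := ndS (p := 20573) (l := 5) rfl N20573 D66412
theorem N40637 : nd 40637 = n66413 := ndS (p := 20573) (l := 7) rfl N20573 D66413
theorem N40638 : nd 40638 = n66415 := ndS (p := 20574) (l := 3) rfl N20574 D66415
theorem N40639 : nd 40639 = n66422 := ndS (p := 20575) (l := 5) rfl N20575 D66422
theorem N40640 : nd 40640 = n66428 := ndS (p := 20577) (l := 0) rfl N20577 D66428
theorem N40641 : nd 40641 = n66431 := ndS (p := 20577) (l := 4) rfl N20577 D66431
theorem N40642 : nd 40642 = n66440 := ndS (p := 20578) (l := 4) rfl N20578 D66440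
theorem N40643 : nd 40643 = n66445 := ndS (p := 20580) (l := 3) rfl N20580 D66445
theorem N40644 : nd 40644 = n66446 := ndS (p := 20580) (l := 4) rfl N20580 D66446
theorem N40645 : nd 40645 = n66448 := ndS (p := 20581) (l := 3) rfl N20581 D66448
theorem N40646 : nd 40646 = n66449 := ndS (p := 20581) (l := 4) rfl N20581 D66449
theorem N40647 : nd 40647 = n66450 := ndS (p := 20581) (l := 6) rfl N20581 D66450
theorem N40648 : nd 40648 = n66458 := ndS (p := 20583) (l := 3) rfl N20583 D66458
theorem N40649 : nd 40649 = n66459 := ndS (p := 20583) (l := 5) rfl N20583 D66459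
theorem N40650 : nd 40650 = n66460 := ndS (p := 20584) (l := 4) rfl N20584 D66460
theorem N40651 : nd 40651 = n66469 := ndS (p := 20586) (l := 3) rfl N20586 D66469
theorem N40652 : nd 40652 = n66470 := ndS (p := 20586) (l := 5) rfl N20586 D66470
theorem N40653 : nd 40653 = n66472 := ndS (p := 20587) (l := 1) rfl N20587 D66472
theorem N40654 : nd 40654 = n66473 := ndS (p := 20587) (l := 2) rfl N20587 D66473
theorem N40655 : nd 40655 = n66475 := ndS (p := 20587) (l := 6) rfl N20587 D66475
theorem N40656 : nd 40656 = n66479 := ndS (p := 20589) (l := 3) rfl N20589 D66479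
theorem N40657 : nd 40657 = n66480 := ndS (p := 20589) (l := 5) rfl N20589 D66480
theorem N40658 : nd 40658 = n66481 := ndS (p := 20590) (l := 0) rfl N20590 D66481
theorem N40659 : nd 40659 = n66482 := ndS (p := 20590) (l := 1) rfl N20590 D66482
theorem N40660 : nd 40660 = n66483 := ndS (p := 20590) (l := 2) rfl N20590 D66483
theorem N40661 : nd 40661 = n66484 := ndS (p := 20590) (l := 5) rfl N20590 D66484
theorem N40662 : nd 40662 = n66485 := ndS (p := 20591) (l := 0) rfl N20591 D66485
theorem N40663 : nd 40663 = n66486 := ndS (p := 20591) (l := 1) rfl N20591 D66486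
theorem N40664 : nd 40664 = n66488 := ndS (p := 20591) (l := 6) rfl N20591 D66488
theorem N40665 : nd 40665 = n66489 := ndS (p := 20592) (l := 0) rfl N20592 D66489
theorem N40666 : nd 40666 = n66490 := ndS (p := 20592) (l := 1) rfl N20592 D66490
theorem N40667 : nd 40667 = n66491 := ndS (p := 20592) (l := 2) rfl N20592 D66491
theorem N40668 : nd 40668 = n66492 := ndS (p := 20592) (l := 5) rfl N20592 D66492
theorem N40669 : nd 40669 = n66493 := ndS (p := 20592) (l := 6) rfl N20592 D66493
theorem N40670 : nd 40670 = n66494 := ndS (p := 20593) (l := 6) rfl N20593 D66494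
theorem N40671 : nd 40671 = n66495 := ndS (p := 20594) (l := 0) rfl N20594 D66495
theorem N40672 : nd 40672 = n66496 := ndS (p := 20594) (l := 1) rfl N20594 D66496
theorem N40673 : nd 40673 = n66497 := ndS (p := 20594) (l := 5) rfl N20594 D66497
theorem N40674 : nd 40674 = n66498 := ndS (p := 20594) (l := 7) rfl N20594 D66498
theorem N40675 : nd 40675 = n66501 := ndS (p := 20595) (l := 4) rfl N20595 D66501
theorem N40676 : nd 40676 = n66504 := ndS (p := 20596) (l := 4) rfl N20596 D66504
theorem N40677 : nd 40677 = n66505 := ndS (p := 20598) (l := 0) rfl N20598 D66505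
theorem N40678 : nd 40678 = n66506 := ndS (p := 20598) (l := 1) rfl N20598 D66506
theorem N40679 : nd 40679 = n66507 := ndS (p := 20598) (l := 2) rfl N20598 D66507
theorem N40680 : nd 40680 = n66508 := ndS (p := 20599) (l := 0) rfl N20599 D66508
theorem N40681 : nd 40681 = n66509 := ndS (p := 20599) (l := 1) rfl N20599 D66509
theorem N40682 : nd 40682 = n66510 := ndS (p := 20599) (l := 2) rfl N20599 D66510
theorem N40683 : nd 40683 = n66511 := ndS (p := 20599) (l := 6) rfl N20599 D66511
theorem N40684 : nd 40684 = n66514 := ndS (p := 20600) (l := 5) rfl N20600 D66514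
theorem N40685 : nd 40685 = n66516 := ndS (p := 20601) (l := 3) rfl N20601 D66516
theorem N40686 : nd 40686 = n66520 := ndS (p := 20602) (l := 3) rfl N20602 D66520
theorem N40687 : nd 40687 = n66522 := ndS (p := 20602) (l := 6) rfl N20602 D66522
theorem N40688 : nd 40688 = n66523 := ndS (p := 20603) (l := 5) rfl N20603 D66523
theorem N40689 : nd 40689 = n66524 := ndS (p := 20603) (l := 6) rfl N20603 D66524
theorem N40690 : nd 40690 = n66525 := ndS (p := 20604) (l := 0) rfl N20604 D66525
theorem N40691 : nd 40691 = n66526 := ndS (p := 20604) (l := 1) rfl N20604 D66526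
theorem N40692 : nd 40692 = n66527 := ndS (p := 20604) (l := 4) rfl N20604 D66527
theorem N40693 : nd 40693 = n66528 := ndS (p := 20604) (l := 6) rfl N20604 D66528
theorem N40694 : nd 40694 = n66529 := ndS (p := 20605) (l := 0) rfl N20605 D66529
theorem N40695 : nd 40695 = n66530 := ndS (p := 20605) (l := 1) rfl N20605 D66530
theorem N40696 : nd 40696 = n66531 := ndS (p := 20605) (l := 5) rfl N20605 D66531
theorem N40697 : nd 40697 = n66532 := ndS (p := 20605) (l := 7) rfl N20605 D66532
theorem N40698 : nd 40698 = n66533 := ndS (p := 20606) (l := 3) rfl N20606 D66533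
theorem N40699 : nd 40699 = n66535 := ndS (p := 20607) (l := 3) rfl N20607 D66535
theorem N40700 : nd 40700 = n66536 := ndS (p := 20607) (l := 6) rfl N20607 D66536
theorem N40701 : nd 40701 = n66537 := ndS (p := 20608) (l := 0) rfl N20608 D66537
theorem N40702 : nd 40702 = n66538 := ndS (p := 20608) (l := 1) rfl N20608 D66538
theorem N40703 : nd 40703 = n66539 := ndS (p := 20608) (l := 5) rfl N20608 D66539
theorem N40704 : nd 40704 = n66540 := ndS (p := 20608) (l := 7) rfl N20608 D66540
theorem N40705 : nd 40705 = n66542 := ndS (p := 20609) (l := 3) rfl N20609 D66542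
theorem N40706 : nd 40706 = n66543 := ndS (p := 20609) (l := 4) rfl N20609 D66543
theorem N40707 : nd 40707 = n66544 := ndS (p := 20609) (l := 5) rfl N20609 D66544
theorem N40708 : nd 40708 = n66545 := ndS (p := 20609) (l := 6) rfl N20609 D66545
theorem N40709 : nd 40709 = n66547 := ndS (p := 20610) (l := 3) rfl N20610 D66547
theorem N40710 : nd 40710 = n66548 := ndS (p := 20610) (l := 4) rfl N20610 D66548
theorem N40711 : nd 40711 = n66549 := ndS (p := 20610) (l := 5) rfl N20610 D66549
theorem N40712 : nd 40712 = n66550 := ndS (p := 20610) (l := 6) rfl N20610 D66550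
theorem N40713 : nd 40713 = n66551 := ndS (p := 20611) (l := 0) rfl N20611 D66551
theorem N40714 : nd 40714 = n66552 := ndS (p := 20611) (l := 1) rfl N20611 D66552
theorem N40715 : nd 40715 = n66553 := ndS (p := 20611) (l := 4) rfl N20611 D66553
theorem N40716 : nd 40716 = n66554 := ndS (p := 20611) (l := 7) rfl N20611 D66554
theorem N40717 : nd 40717 = n66565 := ndS (p := 20613) (l := 0) rfl N20613 D66565
theorem N40718 : nd 40718 = n66567 := ndS (p := 20613) (l := 3) rfl N20613 D66567
theorem N40719 : nd 40719 = n66568 := ndS (p := 20613) (l := 5) rfl N20613 D66568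
theorem N40720 : nd 40720 = n66569 := ndS (p := 20613) (l := 6) rfl N20613 D66569
theorem N40721 : nd 40721 = n66579 := ndS (p := 20616) (l := 3) rfl N20616 D66579
theorem N40722 : nd 40722 = n66580 := ndS (p := 20616) (l := 5) rfl N20616 D66580
theorem N40723 : nd 40723 = n66581 := ndS (p := 20616) (l := 6) rfl N20616 D66581
theorem N40724 : nd 40724 = n66582 := ndS (p := 20617) (l := 5) rfl N20617 D66582
theorem N40725 : nd 40725 = n66590 := ndS (p := 20618) (l := 1) rfl N20618 D66590
theorem N40726 : nd 40726 = n66591 := ndS (p := 20618) (l := 2) rfl N20618 D66591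
theorem N40727 : nd 40727 = n66595 := ndS (p := 20619) (l := 0) rfl N20619 D66595
theorem N40728 : nd 40728 = n66596 := ndS (p := 20619) (l := 1) rfl N20619 D66596
theorem N40729 : nd 40729 = n66597 := ndS (p := 20619) (l := 3) rfl N20619 D66597
theorem N40730 : nd 40730 = n66598 := ndS (p := 20619) (l := 5) rfl N20619 D66598
theorem N40731 : nd 40731 = n66610 := ndS (p := 20620) (l := 6) rfl N20620 D66610
theorem N40732 : nd 40732 = n66611 := ndS (p := 20621) (l := 5) rfl N20621 D66611
theorem N40733 : nd 40733 = n66612 := ndS (p := 20621) (l := 6) rfl N20621 D66612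
theorem N40734 : nd 40734 = n66616 := ndS (p := 20622) (l := 1) rfl N20622 D66616
theorem N40735 : nd 40735 = n66617 := ndS (p := 20622) (l := 5) rfl N20622 D66617
theorem N40736 : nd 40736 = n66619 := ndS (p := 20623) (l := 4) rfl N20623 D66619
theorem N40737 : nd 40737 = n66620 := ndS (p := 20623) (l := 6) rfl N20623 D66620
theorem N40738 : nd 40738 = n66621 := ndS (p := 20624) (l := 0) rfl N20624 D66621
theorem N40739 : nd 40739 = n66622 := ndS (p := 20624) (l := 1) rfl N20624 D66622
theorem N40740 : nd 40740 = n66626 := ndS (p := 20625) (l := 3) rfl N20625 D66626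
theorem N40741 : nd 40741 = n66627 := ndS (p := 20625) (l := 4) rfl N20625 D66627
theorem N40742 : nd 40742 = n66629 := ndS (p := 20625) (l := 6) rfl N20625 D66629
theorem N40743 : nd 40743 = n66631 := ndS (p := 20626) (l := 3) rfl N20626 D66631
theorem N40744 : nd 40744 = n66632 := ndS (p := 20626) (l := 4) rfl N20626 D66632
theorem N40745 : nd 40745 = n66635 := ndS (p := 20627) (l := 0) rfl N20627 D66635
theorem N40746 : nd 40746 = n66636 := ndS (p := 20627) (l := 1) rfl N20627 D66636
theorem N40747 : nd 40747 = n66637 := ndS (p := 20627) (l := 5) rfl N20627 D66637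
theorem N40748 : nd 40748 = n66638 := ndS (p := 20627) (l := 6) rfl N20627 D66638
theorem N40749 : nd 40749 = n66640 := ndS (p := 20628) (l := 1) rfl N20628 D66640
theorem N40750 : nd 40750 = n66644 := ndS (p := 20629) (l := 3) rfl N20629 D66644
theorem N40751 : nd 40751 = n66645 := ndS (p := 20629) (l := 4) rfl N20629 D66645
theorem N40752 : nd 40752 = n66646 := ndS (p := 20629) (l := 5) rfl N20629 D66646
theorem N40753 : nd 40753 = n66647 := ndS (p := 20629) (l := 6) rfl N20629 D66647
theorem N40754 : nd 40754 = n66649 := ndS (p := 20630) (l := 3) rfl N20630 D66649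
theorem N40755 : nd 40755 = n66650 := ndS (p := 20630) (l := 4) rfl N20630 D66650
theorem N40756 : nd 40756 = n66651 := ndS (p := 20630) (l := 5) rfl N20630 D66651
theorem N40757 : nd 40757 = n66652 := ndS (p := 20630) (l := 6) rfl N20630 D66652
theorem N40758 : nd 40758 = n66671 := ndS (p := 20632) (l := 0) rfl N20632 D66671
theorem N40759 : nd 40759 = n66681 := ndS (p := 20634) (l := 2) rfl N20634 D66681
theorem N40760 : nd 40760 = n66682 := ndS (p := 20634) (l := 4) rfl N20634 D66682
theorem N40761 : nd 40761 = n66717 := ndS (p := 20635) (l := 0) rfl N20635 D66717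
theorem N40762 : nd 40762 = n66719 := ndS (p := 20635) (l := 2) rfl N20635 D66719
theorem N40763 : nd 40763 = n66721 := ndS (p := 20635) (l := 6) rfl N20635 D66721
theorem N40764 : nd 40764 = n66738 := ndS (p := 20637) (l := 3) rfl N20637 D66738
theorem N40765 : nd 40765 = n66739 := ndS (p := 20637) (l := 5) rfl N20637 D66739
theorem N40766 : nd 40766 = n66753 := ndS (p := 20639) (l := 1) rfl N20639 D66753
theorem N40767 : nd 40767 = n66755 := ndS (p := 20639) (l := 5) rfl N20639 D66755
theorem N40768 : nd 40768 = n66756 := ndS (p := 20639) (l := 6) rfl N20639 D66756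
theorem N40769 : nd 40769 = n66758 := ndS (p := 20640) (l := 0) rfl N20640 D66758
theorem N40770 : nd 40770 = n66759 := ndS (p := 20640) (l := 1) rfl N20640 D66759
theorem N40771 : nd 40771 = n66760 := ndS (p := 20640) (l := 3) rfl N20640 D66760
theorem N40772 : nd 40772 = n66761 := ndS (p := 20640) (l := 5) rfl N20640 D66761
theorem N40773 : nd 40773 = n66762 := ndS (p := 20640) (l := 6) rfl N20640 D66762
theorem N40774 : nd 40774 = n66766 := ndS (p := 20641) (l := 4) rfl N20641 D66766
theorem N40775 : nd 40775 = n66767 := ndS (p := 20641) (l := 6) rfl N20641 D66767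
theorem N40776 : nd 40776 = n66769 := ndS (p := 20642) (l := 0) rfl N20642 D66769
theorem N40777 : nd 40777 = n66771 := ndS (p := 20642) (l := 5) rfl N20642 D66771
theorem N40778 : nd 40778 = n66779 := ndS (p := 20643) (l := 3) rfl N20643 D66779
theorem N40779 : nd 40779 = n66780 := ndS (p := 20643) (l := 5) rfl N20643 D66780
theorem N40780 : nd 40780 = n66782 := ndS (p := 20644) (l := 4) rfl N20644 D66782
theorem N40781 : nd 40781 = n66783 := ndS (p := 20644) (l := 6) rfl N20644 D66783
theorem N40782 : nd 40782 = n66788 := ndS (p := 20645) (l := 3) rfl N20645 D66788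
theorem N40783 : nd 40783 = n66789 := ndS (p := 20645) (l := 5) rfl N20645 D66789
theorem N40784 : nd 40784 = n66790 := ndS (p := 20645) (l := 6) rfl N20645 D66790
theorem N40785 : nd 40785 = n66791 := ndS (p := 20646) (l := 4) rfl N20646 D66791
theorem N40786 : nd 40786 = n66792 := ndS (p := 20646) (l := 6) rfl N20646 D66792
theorem N40787 : nd 40787 = n66794 := ndS (p := 20647) (l := 1) rfl N20647 D66794
theorem N40788 : nd 40788 = n66795 := ndS (p := 20647) (l := 5) rfl N20647 D66795
theorem N40789 : nd 40789 = n66796 := ndS (p := 20647) (l := 7) rfl N20647 D66796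
theorem N40790 : nd 40790 = n66797 := ndS (p := 20648) (l := 4) rfl N20648 D66797
theorem N40791 : nd 40791 = n66798 := ndS (p := 20648) (l := 5) rfl N20648 D66798
theorem N40792 : nd 40792 = n66799 := ndS (p := 20648) (l := 6) rfl N20648 D66799
theorem N40793 : nd 40793 = n66800 := ndS (p := 20649) (l := 3) rfl N20649 D66800
theorem N40794 : nd 40794 = n66801 := ndS (p := 20649) (l := 5) rfl N20649 D66801
theorem N40795 : nd 40795 = n66803 := ndS (p := 20650) (l := 0) rfl N20650 D66803
theorem N40796 : nd 40796 = n66804 := ndS (p := 20650) (l := 1) rfl N20650 D66804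
theorem N40797 : nd 40797 = n66805 := ndS (p := 20650) (l := 4) rfl N20650 D66805
theorem N40798 : nd 40798 = n66806 := ndS (p := 20650) (l := 6) rfl N20650 D66806
theorem N40799 : nd 40799 = n66807 := ndS (p := 20651) (l := 0) rfl N20651 D66807
theorem N40800 : nd 40800 = n66808 := ndS (p := 20651) (l := 1) rfl N20651 D66808
theorem N40801 : nd 40801 = n66809 := ndS (p := 20651) (l := 5) rfl N20651 D66809
theorem N40802 : nd 40802 = n66810 := ndS (p := 20651) (l := 7) rfl N20651 D66810
theorem N40803 : nd 40803 = n66812 := ndS (p := 20652) (l := 3) rfl N20652 D66812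
theorem N40804 : nd 40804 = n66813 := ndS (p := 20652) (l := 4) rfl N20652 D66813
theorem N40805 : nd 40805 = n66815 := ndS (p := 20652) (l := 6) rfl N20652 D66815
theorem N40806 : nd 40806 = n66818 := ndS (p := 20653) (l := 4) rfl N20653 D66818
theorem N40807 : nd 40807 = n66820 := ndS (p := 20653) (l := 6) rfl N20653 D66820
theorem N40808 : nd 40808 = n66821 := ndS (p := 20654) (l := 0) rfl N20654 D66821
theorem N40809 : nd 40809 = n66822 := ndS (p := 20654) (l := 1) rfl N20654 D66822
theorem N40810 : nd 40810 = n66823 := ndS (p := 20654) (l := 5) rfl N20654 D66823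
theorem N40811 : nd 40811 = n66824 := ndS (p := 20654) (l := 6) rfl N20654 D66824
theorem N40812 : nd 40812 = n66825 := ndS (p := 20655) (l := 0) rfl N20655 D66825
theorem N40813 : nd 40813 = n66826 := ndS (p := 20655) (l := 1) rfl N20655 D66826
theorem N40814 : nd 40814 = n66828 := ndS (p := 20655) (l := 7) rfl N20655 D66828
theorem N40815 : nd 40815 = n66830 := ndS (p := 20656) (l := 3) rfl N20656 D66830
theorem N40816 : nd 40816 = n66831 := ndS (p := 20656) (l := 4) rfl N20656 D66831
theorem N40817 : nd 40817 = n66836 := ndS (p := 20657) (l := 4) rfl N20657 D66836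
theorem N40818 : nd 40818 = n66837 := ndS (p := 20657) (l := 5) rfl N20657 D66837
theorem N40819 : nd 40819 = n66838 := ndS (p := 20657) (l := 6) rfl N20657 D66838
theorem N40820 : nd 40820 = n66839 := ndS (p := 20658) (l := 0) rfl N20658 D66839
theorem N40821 : nd 40821 = n66840 := ndS (p := 20658) (l := 1) rfl N20658 D66840
theorem N40822 : nd 40822 = n66841 := ndS (p := 20658) (l := 4) rfl N20658 D66841
theorem N40823 : nd 40823 = n66842 := ndS (p := 20658) (l := 7) rfl N20658 D66842
theorem N40824 : nd 40824 = n66846 := ndS (p := 20660) (l := 4) rfl N20660 D66846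
theorem N40825 : nd 40825 = n66847 := ndS (p := 20660) (l := 6) rfl N20660 D66847
theorem N40826 : nd 40826 = n66853 := ndS (p := 20662) (l := 2) rfl N20662 D66853
theorem N40827 : nd 40827 = n66854 := ndS (p := 20662) (l := 4) rfl N20662 D66854
theorem N40828 : nd 40828 = n66855 := ndS (p := 20662) (l := 6) rfl N20662 D66855
theorem N40829 : nd 40829 = n66856 := ndS (p := 20663) (l := 0) rfl N20663 D66856
theorem N40830 : nd 40830 = n66857 := ndS (p := 20663) (l := 1) rfl N20663 D66857
theorem N40831 : nd 40831 = n66858 := ndS (p := 20663) (l := 5) rfl N20663 D66858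
theorem N40832 : nd 40832 = n66859 := ndS (p := 20663) (l := 7) rfl N20663 D66859
theorem N40833 : nd 40833 = n66866 := ndS (p := 20665) (l := 3) rfl N20665 D66866
theorem N40834 : nd 40834 = n66868 := ndS (p := 20665) (l := 5) rfl N20665 D66868
theorem N40835 : nd 40835 = n66874 := ndS (p := 20667) (l := 3) rfl N20667 D66874
theorem N40836 : nd 40836 = n66876 := ndS (p := 20668) (l := 3) rfl N20668 D66876
theorem N40837 : nd 40837 = n66877 := ndS (p := 20668) (l := 6) rfl N20668 D66877
theorem N40838 : nd 40838 = n66879 := ndS (p := 20669) (l := 1) rfl N20669 D66879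
theorem N40839 : nd 40839 = n66880 := ndS (p := 20669) (l := 3) rfl N20669 D66880
theorem N40840 : nd 40840 = n66881 := ndS (p := 20669) (l := 5) rfl N20669 D66881
theorem N40841 : nd 40841 = n66882 := ndS (p := 20669) (l := 7) rfl N20669 D66882
theorem N40842 : nd 40842 = n66893 := ndS (p := 20671) (l := 5) rfl N20671 D66893
theorem N40843 : nd 40843 = n66896 := ndS (p := 20672) (l := 0) rfl N20672 D66896
theorem N40844 : nd 40844 = n66897 := ndS (p := 20672) (l := 1) rfl N20672 D66897
theorem N40845 : nd 40845 = n66898 := ndS (p := 20672) (l := 3) rfl N20672 D66898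
theorem N40846 : nd 40846 = n66899 := ndS (p := 20672) (l := 5) rfl N20672 D66899
theorem N40847 : nd 40847 = n66904 := ndS (p := 20673) (l := 4) rfl N20673 D66904
theorem N40848 : nd 40848 = n66905 := ndS (p := 20673) (l := 6) rfl N20673 D66905
theorem N40849 : nd 40849 = n66912 := ndS (p := 20674) (l := 0) rfl N20674 D66912
theorem N40850 : nd 40850 = n66913 := ndS (p := 20674) (l := 2) rfl N20674 D66913
theorem N40851 : nd 40851 = n66914 := ndS (p := 20674) (l := 4) rfl N20674 D66914
theorem N40852 : nd 40852 = n66915 := ndS (p := 20674) (l := 5) rfl N20674 D66915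
theorem N40853 : nd 40853 = n66916 := ndS (p := 20674) (l := 6) rfl N20674 D66916
theorem N40854 : nd 40854 = n66917 := ndS (p := 20675) (l := 3) rfl N20675 D66917
theorem N40855 : nd 40855 = n66918 := ndS (p := 20675) (l := 5) rfl N20675 D66918
theorem N40856 : nd 40856 = n66919 := ndS (p := 20675) (l := 6) rfl N20675 D66919
theorem N40857 : nd 40857 = n66920 := ndS (p := 20676) (l := 4) rfl N20676 D66920
theorem N40858 : nd 40858 = n66921 := ndS (p := 20676) (l := 6) rfl N20676 D66921
theorem N40859 : nd 40859 = n66923 := ndS (p := 20677) (l := 1) rfl N20677 D66923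
theorem N40860 : nd 40860 = n66926 := ndS (p := 20678) (l := 6) rfl N20678 D66926
theorem N40861 : nd 40861 = n66927 := ndS (p := 20679) (l := 4) rfl N20679 D66927
theorem N40862 : nd 40862 = n66930 := ndS (p := 20680) (l := 1) rfl N20680 D66930
theorem N40863 : nd 40863 = n66933 := ndS (p := 20681) (l := 3) rfl N20681 D66933
theorem N40864 : nd 40864 = n66936 := ndS (p := 20682) (l := 3) rfl N20682 D66936
theorem N40865 : nd 40865 = n66938 := ndS (p := 20682) (l := 6) rfl N20682 D66938
theorem N40866 : nd 40866 = n66939 := ndS (p := 20683) (l := 0) rfl N20683 D66939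
theorem N40867 : nd 40867 = n66940 := ndS (p := 20683) (l := 1) rfl N20683 D66940
theorem N40868 : nd 40868 = n66941 := ndS (p := 20683) (l := 5) rfl N20683 D66941
theorem N40869 : nd 40869 = n66942 := ndS (p := 20683) (l := 7) rfl N20683 D66942
theorem N40870 : nd 40870 = n66944 := ndS (p := 20684) (l := 3) rfl N20684 D66944
theorem N40871 : nd 40871 = n66945 := ndS (p := 20684) (l := 4) rfl N20684 D66945
theorem N40872 : nd 40872 = n66947 := ndS (p := 20684) (l := 6) rfl N20684 D66947
theorem N40873 : nd 40873 = n66949 := ndS (p := 20685) (l := 3) rfl N20685 D66949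
theorem N40874 : nd 40874 = n66950 := ndS (p := 20685) (l := 4) rfl N20685 D66950
theorem N40875 : nd 40875 = n66952 := ndS (p := 20685) (l := 6) rfl N20685 D66952
theorem N40876 : nd 40876 = n66953 := ndS (p := 20686) (l := 0) rfl N20686 D66953
theorem N40877 : nd 40877 = n66954 := ndS (p := 20686) (l := 1) rfl N20686 D66954
theorem N40878 : nd 40878 = n66955 := ndS (p := 20686) (l := 5) rfl N20686 D66955
theorem N40879 : nd 40879 = n66956 := ndS (p := 20686) (l := 6) rfl N20686 D66956
theorem N40880 : nd 40880 = n66962 := ndS (p := 20688) (l := 3) rfl N20688 D66962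
theorem N40881 : nd 40881 = n66963 := ndS (p := 20688) (l := 4) rfl N20688 D66963
theorem N40882 : nd 40882 = n66965 := ndS (p := 20688) (l := 6) rfl N20688 D66965
theorem N40883 : nd 40883 = n66967 := ndS (p := 20689) (l := 3) rfl N20689 D66967
theorem N40884 : nd 40884 = n66968 := ndS (p := 20689) (l := 4) rfl N20689 D66968
theorem N40885 : nd 40885 = n66970 := ndS (p := 20689) (l := 6) rfl N20689 D66970
theorem N40886 : nd 40886 = n66999 := ndS (p := 20691) (l := 5) rfl N20691 D66999
theorem N40887 : nd 40887 = n67013 := ndS (p := 20692) (l := 4) rfl N20692 D67013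
theorem N40888 : nd 40888 = n67014 := ndS (p := 20692) (l := 5) rfl N20692 D67014
theorem N40889 : nd 40889 = n67015 := ndS (p := 20692) (l := 6) rfl N20692 D67015
theorem N40890 : nd 40890 = n67017 := ndS (p := 20693) (l := 1) rfl N20693 D67017
theorem N40891 : nd 40891 = n67018 := ndS (p := 20693) (l := 5) rfl N20693 D67018
theorem N40892 : nd 40892 = n67019 := ndS (p := 20693) (l := 6) rfl N20693 D67019
theorem N40893 : nd 40893 = n67022 := ndS (p := 20694) (l := 4) rfl N20694 D67022
theorem N40894 : nd 40894 = n67023 := ndS (p := 20694) (l := 6) rfl N20694 D67023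
theorem N40895 : nd 40895 = n67026 := ndS (p := 20695) (l := 5) rfl N20695 D67026
theorem N40896 : nd 40896 = n67028 := ndS (p := 20696) (l := 4) rfl N20696 D67028
theorem N40897 : nd 40897 = n67029 := ndS (p := 20696) (l := 5) rfl N20696 D67029
theorem N40898 : nd 40898 = n67031 := ndS (p := 20697) (l := 5) rfl N20697 D67031
theorem N40899 : nd 40899 = n67032 := ndS (p := 20697) (l := 6) rfl N20697 D67032
theorem N40900 : nd 40900 = n67033 := ndS (p := 20698) (l := 3) rfl N20698 D67033
theorem N40901 : nd 40901 = n67034 := ndS (p := 20698) (l := 5) rfl N20698 D67034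
theorem N40902 : nd 40902 = n67035 := ndS (p := 20698) (l := 6) rfl N20698 D67035
theorem N40903 : nd 40903 = n67037 := ndS (p := 20699) (l := 1) rfl N20699 D67037
theorem N40904 : nd 40904 = n67038 := ndS (p := 20699) (l := 4) rfl N20699 D67038
theorem N40905 : nd 40905 = n67039 := ndS (p := 20699) (l := 6) rfl N20699 D67039
theorem N40906 : nd 40906 = n67040 := ndS (p := 20699) (l := 7) rfl N20699 D67040
theorem N40907 : nd 40907 = n67041 := ndS (p := 20700) (l := 0) rfl N20700 D67041
theorem N40908 : nd 40908 = n67042 := ndS (p := 20700) (l := 1) rfl N20700 D67042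
theorem N40909 : nd 40909 = n67043 := ndS (p := 20700) (l := 5) rfl N20700 D67043
theorem N40910 : nd 40910 = n67044 := ndS (p := 20700) (l := 7) rfl N20700 D67044
theorem N40911 : nd 40911 = n67045 := ndS (p := 20701) (l := 6) rfl N20701 D67045
theorem N40912 : nd 40912 = n67046 := ndS (p := 20702) (l := 3) rfl N20702 D67046
theorem N40913 : nd 40913 = n67047 := ndS (p := 20702) (l := 5) rfl N20702 D67047
theorem N40914 : nd 40914 = n67048 := ndS (p := 20702) (l := 6) rfl N20702 D67048
theorem N40915 : nd 40915 = n67049 := ndS (p := 20703) (l := 5) rfl N20703 D67049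
theorem N40916 : nd 40916 = n67051 := ndS (p := 20704) (l := 1) rfl N20704 D67051
theorem N40917 : nd 40917 = n67052 := ndS (p := 20704) (l := 2) rfl N20704 D67052
theorem N40918 : nd 40918 = n67053 := ndS (p := 20704) (l := 5) rfl N20704 D67053
theorem N40919 : nd 40919 = n67054 := ndS (p := 20704) (l := 6) rfl N20704 D67054
theorem N40920 : nd 40920 = n67055 := ndS (p := 20704) (l := 7) rfl N20704 D67055
theorem N40921 : nd 40921 = n67056 := ndS (p := 20705) (l := 0) rfl N20705 D67056
theorem N40922 : nd 40922 = n67057 := ndS (p := 20705) (l := 1) rfl N20705 D67057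
theorem N40923 : nd 40923 = n67058 := ndS (p := 20705) (l := 4) rfl N20705 D67058
theorem N40924 : nd 40924 = n67059 := ndS (p := 20705) (l := 6) rfl N20705 D67059
theorem N40925 : nd 40925 = n67060 := ndS (p := 20705) (l := 7) rfl N20705 D67060
theorem N40926 : nd 40926 = n67061 := ndS (p := 20706) (l := 0) rfl N20706 D67061
theorem N40927 : nd 40927 = n67062 := ndS (p := 20706) (l := 1) rfl N20706 D67062
theorem N40928 : nd 40928 = n67063 := ndS (p := 20706) (l := 5) rfl N20706 D67063
theorem N40929 : nd 40929 = n67064 := ndS (p := 20706) (l := 7) rfl N20706 D67064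
theorem N40930 : nd 40930 = n67065 := ndS (p := 20707) (l := 6) rfl N20707 D67065
theorem N40931 : nd 40931 = n67068 := ndS (p := 20708) (l := 4) rfl N20708 D67068
theorem N40932 : nd 40932 = n67070 := ndS (p := 20708) (l := 6) rfl N20708 D67070
theorem N40933 : nd 40933 = n67076 := ndS (p := 20709) (l := 0) rfl N20709 D67076
theorem N40934 : nd 40934 = n67077 := ndS (p := 20709) (l := 1) rfl N20709 D67077
theorem N40935 : nd 40935 = n67078 := ndS (p := 20709) (l := 3) rfl N20709 D67078
theorem N40936 : nd 40936 = n67079 := ndS (p := 20709) (l := 5) rfl N20709 D67079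
theorem N40937 : nd 40937 = n67080 := ndS (p := 20709) (l := 6) rfl N20709 D67080
theorem N40938 : nd 40938 = n67081 := ndS (p := 20709) (l := 7) rfl N20709 D67081
theorem N40939 : nd 40939 = n67082 := ndS (p := 20710) (l := 0) rfl N20710 D67082
theorem N40940 : nd 40940 = n67085 := ndS (p := 20710) (l := 7) rfl N20710 D67085
theorem N40941 : nd 40941 = n67086 := ndS (p := 20711) (l := 6) rfl N20711 D67086
theorem N40942 : nd 40942 = n67097 := ndS (p := 20713) (l := 0) rfl N20713 D67097
theorem N40943 : nd 40943 = n67099 := ndS (p := 20713) (l := 4) rfl N20713 D67099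
theorem N40944 : nd 40944 = n67100 := ndS (p := 20713) (l := 7) rfl N20713 D67100
theorem N40945 : nd 40945 = n67105 := ndS (p := 20716) (l := 5) rfl N20716 D67105
theorem N40946 : nd 40946 = n67107 := ndS (p := 20717) (l := 4) rfl N20717 D67107
theorem N40947 : nd 40947 = n67108 := ndS (p := 20717) (l := 5) rfl N20717 D67108
theorem N40948 : nd 40948 = n67109 := ndS (p := 20717) (l := 6) rfl N20717 D67109
theorem N40949 : nd 40949 = n67110 := ndS (p := 20718) (l := 3) rfl N20718 D67110
theorem N40950 : nd 40950 = n67111 := ndS (p := 20718) (l := 5) rfl N20718 D67111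
theorem N40951 : nd 40951 = n67112 := ndS (p := 20718) (l := 6) rfl N20718 D67112
theorem N40952 : nd 40952 = n67115 := ndS (p := 20719) (l := 4) rfl N20719 D67115
theorem N40953 : nd 40953 = n67116 := ndS (p := 20719) (l := 6) rfl N20719 D67116
theorem N40954 : nd 40954 = n67117 := ndS (p := 20720) (l := 0) rfl N20720 D67117
theorem N40955 : nd 40955 = n67118 := ndS (p := 20720) (l := 1) rfl N20720 D67118
theorem N40956 : nd 40956 = n67119 := ndS (p := 20720) (l := 5) rfl N20720 D67119
theorem N40957 : nd 40957 = n67120 := ndS (p := 20720) (l := 7) rfl N20720 D67120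
theorem N40958 : nd 40958 = n67122 := ndS (p := 20721) (l := 5) rfl N20721 D67122
theorem N40959 : nd 40959 = n67123 := ndS (p := 20721) (l := 6) rfl N20721 D67123
theorem N40960 : nd 40960 = n67124 := ndS (p := 20722) (l := 4) rfl N20722 D67124
theorem N40961 : nd 40961 = n67125 := ndS (p := 20722) (l := 6) rfl N20722 D67125
theorem N40962 : nd 40962 = n67126 := ndS (p := 20723) (l := 0) rfl N20723 D67126
theorem N40963 : nd 40963 = n67127 := ndS (p := 20723) (l := 1) rfl N20723 D67127
theorem N40964 : nd 40964 = n67129 := ndS (p := 20723) (l := 7) rfl N20723 D67129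
theorem N40965 : nd 40965 = n67130 := ndS (p := 20724) (l := 3) rfl N20724 D67130
theorem N40966 : nd 40966 = n67131 := ndS (p := 20724) (l := 5) rfl N20724 D67131
theorem N40967 : nd 40967 = n67132 := ndS (p := 20724) (l := 6) rfl N20724 D67132
theorem N40968 : nd 40968 = n67134 := ndS (p := 20725) (l := 1) rfl N20725 D67134
theorem N40969 : nd 40969 = n67135 := ndS (p := 20725) (l := 5) rfl N20725 D67135
theorem N40970 : nd 40970 = n67136 := ndS (p := 20725) (l := 7) rfl N20725 D67136
theorem N40971 : nd 40971 = n67145 := ndS (p := 20726) (l := 5) rfl N20726 D67145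
theorem N40972 : nd 40972 = n67151 := ndS (p := 20729) (l := 3) rfl N20729 D67151
theorem N40973 : nd 40973 = n67152 := ndS (p := 20729) (l := 5) rfl N20729 D67152
theorem N40974 : nd 40974 = n67153 := ndS (p := 20729) (l := 6) rfl N20729 D67153
theorem N40975 : nd 40975 = n67154 := ndS (p := 20730) (l := 0) rfl N20730 D67154
theorem N40976 : nd 40976 = n67155 := ndS (p := 20730) (l := 1) rfl N20730 D67155
theorem N40977 : nd 40977 = n67156 := ndS (p := 20730) (l := 7) rfl N20730 D67156
theorem N40978 : nd 40978 = n67164 := ndS (p := 20731) (l := 2) rfl N20731 D67164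
theorem N40979 : nd 40979 = n67168 := ndS (p := 20732) (l := 0) rfl N20732 D67168
theorem N40980 : nd 40980 = n67169 := ndS (p := 20732) (l := 1) rfl N20732 D67169
theorem N40981 : nd 40981 = n67170 := ndS (p := 20732) (l := 3) rfl N20732 D67170
theorem N40982 : nd 40982 = n67171 := ndS (p := 20732) (l := 5) rfl N20732 D67171
theorem N40983 : nd 40983 = n67187 := ndS (p := 20733) (l := 4) rfl N20733 D67187
theorem N40984 : nd 40984 = n67189 := ndS (p := 20734) (l := 3) rfl N20734 D67189
theorem N40985 : nd 40985 = n67190 := ndS (p := 20734) (l := 5) rfl N20734 D67190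
theorem N40986 : nd 40986 = n67197 := ndS (p := 20735) (l := 3) rfl N20735 D67197
theorem N40987 : nd 40987 = n67198 := ndS (p := 20735) (l := 4) rfl N20735 D67198
theorem N40988 : nd 40988 = n67199 := ndS (p := 20735) (l := 5) rfl N20735 D67199
theorem N40989 : nd 40989 = n67200 := ndS (p := 20735) (l := 6) rfl N20735 D67200
theorem N40990 : nd 40990 = n67204 := ndS (p := 20736) (l := 5) rfl N20736 D67204
theorem N40991 : nd 40991 = n67206 := ndS (p := 20737) (l := 0) rfl N20737 D67206
theorem N40992 : nd 40992 = n67207 := ndS (p := 20737) (l := 1) rfl N20737 D67207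
theorem N40993 : nd 40993 = n67208 := ndS (p := 20737) (l := 4) rfl N20737 D67208
theorem N40994 : nd 40994 = n67209 := ndS (p := 20737) (l := 6) rfl N20737 D67209
theorem N40995 : nd 40995 = n67210 := ndS (p := 20738) (l := 0) rfl N20738 D67210
theorem N40996 : nd 40996 = n67211 := ndS (p := 20738) (l := 1) rfl N20738 D67211
theorem N40997 : nd 40997 = n67212 := ndS (p := 20738) (l := 5) rfl N20738 D67212
theorem N40998 : nd 40998 = n67213 := ndS (p := 20738) (l := 7) rfl N20738 D67213
theorem N40999 : nd 40999 = n67215 := ndS (p := 20739) (l := 3) rfl N20739 D67215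
theorem N41000 : nd 41000 = n67216 := ndS (p := 20739) (l := 4) rfl N20739 D67216
theorem N41001 : nd 41001 = n67217 := ndS (p := 20739) (l := 5) rfl N20739 D67217
theorem N41002 : nd 41002 = n67218 := ndS (p := 20739) (l := 6) rfl N20739 D67218
theorem N41003 : nd 41003 = n67221 := ndS (p := 20740) (l := 4) rfl N20740 D67221
theorem N41004 : nd 41004 = n67223 := ndS (p := 20740) (l := 6) rfl N20740 D67223
theorem N41005 : nd 41005 = n67225 := ndS (p := 20742) (l := 3) rfl N20742 D67225
theorem N41006 : nd 41006 = n67226 := ndS (p := 20742) (l := 4) rfl N20742 D67226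
theorem N41007 : nd 41007 = n67227 := ndS (p := 20742) (l := 5) rfl N20742 D67227
theorem N41008 : nd 41008 = n67228 := ndS (p := 20742) (l := 6) rfl N20742 D67228
theorem N41009 : nd 41009 = n67230 := ndS (p := 20743) (l := 3) rfl N20743 D67230
theorem N41010 : nd 41010 = n67231 := ndS (p := 20743) (l := 4) rfl N20743 D67231
theorem N41011 : nd 41011 = n67232 := ndS (p := 20743) (l := 5) rfl N20743 D67232
theorem N41012 : nd 41012 = n67233 := ndS (p := 20743) (l := 6) rfl N20743 D67233
theorem N41013 : nd 41013 = n67234 := ndS (p := 20744) (l := 0) rfl N20744 D67234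
theorem N41014 : nd 41014 = n67235 := ndS (p := 20744) (l := 1) rfl N20744 D67235
theorem N41015 : nd 41015 = n67236 := ndS (p := 20744) (l := 4) rfl N20744 D67236
theorem N41016 : nd 41016 = n67247 := ndS (p := 20745) (l := 4) rfl N20745 D67247
theorem N41017 : nd 41017 = n67249 := ndS (p := 20746) (l := 0) rfl N20746 D67249
theorem N41018 : nd 41018 = n67250 := ndS (p := 20746) (l := 1) rfl N20746 D67250
theorem N41019 : nd 41019 = n67251 := ndS (p := 20746) (l := 5) rfl N20746 D67251
theorem N41020 : nd 41020 = n67281 := ndS (p := 20747) (l := 4) rfl N20747 D67281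
theorem N41021 : nd 41021 = n67283 := ndS (p := 20748) (l := 0) rfl N20748 D67283
theorem N41022 : nd 41022 = n67284 := ndS (p := 20748) (l := 1) rfl N20748 D67284
theorem N41023 : nd 41023 = n67285 := ndS (p := 20748) (l := 5) rfl N20748 D67285
theorem N41024 : nd 41024 = n67286 := ndS (p := 20748) (l := 6) rfl N20748 D67286
theorem N41025 : nd 41025 = n67288 := ndS (p := 20749) (l := 1) rfl N20749 D67288
theorem N41026 : nd 41026 = n67289 := ndS (p := 20749) (l := 5) rfl N20749 D67289
theorem N41027 : nd 41027 = n67300 := ndS (p := 20751) (l := 6) rfl N20751 D67300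
theorem N41028 : nd 41028 = n67301 := ndS (p := 20752) (l := 0) rfl N20752 D67301
theorem N41029 : nd 41029 = n67311 := ndS (p := 20753) (l := 0) rfl N20753 D67311
theorem N41030 : nd 41030 = n67313 := ndS (p := 20753) (l := 2) rfl N20753 D67313
theorem N41031 : nd 41031 = n67314 := ndS (p := 20753) (l := 4) rfl N20753 D67314
theorem N41032 : nd 41032 = n67316 := ndS (p := 20753) (l := 6) rfl N20753 D67316
theorem N41033 : nd 41033 = n67326 := ndS (p := 20754) (l := 4) rfl N20754 D67326
theorem N41034 : nd 41034 = n67327 := ndS (p := 20754) (l := 6) rfl N20754 D67327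
theorem N41035 : nd 41035 = n67330 := ndS (p := 20755) (l := 1) rfl N20755 D67330
theorem N41036 : nd 41036 = n67331 := ndS (p := 20755) (l := 5) rfl N20755 D67331
theorem N41037 : nd 41037 = n67332 := ndS (p := 20755) (l := 7) rfl N20755 D67332
theorem N41038 : nd 41038 = n67335 := ndS (p := 20756) (l := 1) rfl N20756 D67335
theorem N41039 : nd 41039 = n67336 := ndS (p := 20756) (l := 2) rfl N20756 D67336
theorem N41040 : nd 41040 = n67337 := ndS (p := 20756) (l := 4) rfl N20756 D67337
theorem N41041 : nd 41041 = n67339 := ndS (p := 20756) (l := 6) rfl N20756 D67339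
theorem N41042 : nd 41042 = n67343 := ndS (p := 20757) (l := 4) rfl N20757 D67343
theorem N41043 : nd 41043 = n67344 := ndS (p := 20757) (l := 6) rfl N20757 D67344
theorem N41044 : nd 41044 = n67347 := ndS (p := 20758) (l := 5) rfl N20758 D67347
theorem N41045 : nd 41045 = n67352 := ndS (p := 20759) (l := 4) rfl N20759 D67352
theorem N41046 : nd 41046 = n67353 := ndS (p := 20759) (l := 5) rfl N20759 D67353
theorem N41047 : nd 41047 = n67354 := ndS (p := 20759) (l := 6) rfl N20759 D67354
theorem N41048 : nd 41048 = n67358 := ndS (p := 20760) (l := 6) rfl N20760 D67358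
theorem N41049 : nd 41049 = n67359 := ndS (p := 20761) (l := 5) rfl N20761 D67359
theorem N41050 : nd 41050 = n67363 := ndS (p := 20762) (l := 4) rfl N20762 D67363
theorem N41051 : nd 41051 = n67364 := ndS (p := 20762) (l := 5) rfl N20762 D67364
theorem N41052 : nd 41052 = n67365 := ndS (p := 20762) (l := 6) rfl N20762 D67365
theorem N41053 : nd 41053 = n67367 := ndS (p := 20763) (l := 6) rfl N20763 D67367
theorem N41054 : nd 41054 = n67368 := ndS (p := 20764) (l := 5) rfl N20764 D67368
theorem N41055 : nd 41055 = n67369 := ndS (p := 20765) (l := 3) rfl N20765 D67369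
theorem N41056 : nd 41056 = n67377 := ndS (p := 20767) (l := 3) rfl N20767 D67377
theorem N41057 : nd 41057 = n67378 := ndS (p := 20767) (l := 5) rfl N20767 D67378
theorem N41058 : nd 41058 = n67393 := ndS (p := 20768) (l := 3) rfl N20768 D67393
theorem N41059 : nd 41059 = n67394 := ndS (p := 20768) (l := 5) rfl N20768 D67394
theorem N41060 : nd 41060 = n67395 := ndS (p := 20768) (l := 6) rfl N20768 D67395
theorem N41061 : nd 41061 = n67396 := ndS (p := 20769) (l := 0) rfl N20769 D67396
theorem N41062 : nd 41062 = n67398 := ndS (p := 20769) (l := 4) rfl N20769 D67398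
theorem N41063 : nd 41063 = n67405 := ndS (p := 20771) (l := 6) rfl N20771 D67405
theorem N41064 : nd 41064 = n67410 := ndS (p := 20772) (l := 5) rfl N20772 D67410
theorem N41065 : nd 41065 = n67411 := ndS (p := 20773) (l := 3) rfl N20773 D67411
theorem N41066 : nd 41066 = n67414 := ndS (p := 20774) (l := 3) rfl N20774 D67414
theorem N41067 : nd 41067 = n67430 := ndS (p := 20775) (l := 3) rfl N20775 D67430
theorem N41068 : nd 41068 = n67431 := ndS (p := 20775) (l := 5) rfl N20775 D67431
theorem N41069 : nd 41069 = n67432 := ndS (p := 20775) (l := 6) rfl N20775 D67432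
theorem N41070 : nd 41070 = n67434 := ndS (p := 20776) (l := 1) rfl N20776 D67434
theorem N41071 : nd 41071 = n67435 := ndS (p := 20776) (l := 4) rfl N20776 D67435
theorem N41072 : nd 41072 = n67442 := ndS (p := 20778) (l := 6) rfl N20778 D67442
theorem N41073 : nd 41073 = n67445 := ndS (p := 20779) (l := 5) rfl N20779 D67445
theorem N41074 : nd 41074 = n67446 := ndS (p := 20780) (l := 3) rfl N20780 D67446
theorem N41075 : nd 41075 = n67447 := ndS (p := 20781) (l := 0) rfl N20781 D67447
theorem N41076 : nd 41076 = n67448 := ndS (p := 20781) (l := 1) rfl N20781 D67448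
theorem N41077 : nd 41077 = n67449 := ndS (p := 20782) (l := 3) rfl N20782 D67449
theorem N41078 : nd 41078 = n67450 := ndS (p := 20782) (l := 6) rfl N20782 D67450
theorem N41079 : nd 41079 = n67451 := ndS (p := 20784) (l := 0) rfl N20784 D67451
theorem N41080 : nd 41080 = n67452 := ndS (p := 20784) (l := 1) rfl N20784 D67452
theorem N41081 : nd 41081 = n67453 := ndS (p := 20784) (l := 2) rfl N20784 D67453
theorem N41082 : nd 41082 = n67455 := ndS (p := 20784) (l := 6) rfl N20784 D67455
theorem N41083 : nd 41083 = n67457 := ndS (p := 20786) (l := 0) rfl N20786 D67457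
theorem N41084 : nd 41084 = n67458 := ndS (p := 20786) (l := 1) rfl N20786 D67458
theorem N41085 : nd 41085 = n67459 := ndS (p := 20786) (l := 5) rfl N20786 D67459
theorem N41086 : nd 41086 = n67462 := ndS (p := 20787) (l := 4) rfl N20787 D67462
theorem N41087 : nd 41087 = n67463 := ndS (p := 20787) (l := 5) rfl N20787 D67463
theorem N41088 : nd 41088 = n67464 := ndS (p := 20787) (l := 6) rfl N20787 D67464
theorem N41089 : nd 41089 = n67469 := ndS (p := 20788) (l := 0) rfl N20788 D67469
theorem N41090 : nd 41090 = n67470 := ndS (p := 20788) (l := 1) rfl N20788 D67470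
theorem N41091 : nd 41091 = n67471 := ndS (p := 20788) (l := 2) rfl N20788 D67471
theorem N41092 : nd 41092 = n67472 := ndS (p := 20788) (l := 5) rfl N20788 D67472
theorem N41093 : nd 41093 = n67474 := ndS (p := 20789) (l := 6) rfl N20789 D67474
theorem N41094 : nd 41094 = n67475 := ndS (p := 20790) (l := 1) rfl N20790 D67475
theorem N41095 : nd 41095 = n67476 := ndS (p := 20790) (l := 5) rfl N20790 D67476
theorem N41096 : nd 41096 = n67477 := ndS (p := 20790) (l := 7) rfl N20790 D67477
theorem N41097 : nd 41097 = n67480 := ndS (p := 20791) (l := 4) rfl N20791 D67480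
theorem N41098 : nd 41098 = n67483 := ndS (p := 20792) (l := 4) rfl N20792 D67483
theorem N41099 : nd 41099 = n67484 := ndS (p := 20792) (l := 6) rfl N20792 D67484
theorem N41100 : nd 41100 = n67485 := ndS (p := 20794) (l := 0) rfl N20794 D67485
theorem N41101 : nd 41101 = n67486 := ndS (p := 20794) (l := 1) rfl N20794 D67486
theorem N41102 : nd 41102 = n67487 := ndS (p := 20794) (l := 7) rfl N20794 D67487
theorem N41103 : nd 41103 = n67488 := ndS (p := 20795) (l := 0) rfl N20795 D67488
theorem N41104 : nd 41104 = n67489 := ndS (p := 20795) (l := 1) rfl N20795 D67489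
theorem N41105 : nd 41105 = n67490 := ndS (p := 20795) (l := 2) rfl N20795 D67490
theorem N41106 : nd 41106 = n67491 := ndS (p := 20795) (l := 5) rfl N20795 D67491
theorem N41107 : nd 41107 = n67492 := ndS (p := 20795) (l := 6) rfl N20795 D67492
theorem N41108 : nd 41108 = n67493 := ndS (p := 20796) (l := 6) rfl N20796 D67493
theorem N41109 : nd 41109 = n67494 := ndS (p := 20797) (l := 0) rfl N20797 D67494
theorem N41110 : nd 41110 = n67495 := ndS (p := 20797) (l := 1) rfl N20797 D67495
theorem N41111 : nd 41111 = n67496 := ndS (p := 20797) (l := 5) rfl N20797 D67496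
theorem N41112 : nd 41112 = n67497 := ndS (p := 20797) (l := 7) rfl N20797 D67497
theorem N41113 : nd 41113 = n67499 := ndS (p := 20798) (l := 4) rfl N20798 D67499
theorem N41114 : nd 41114 = n67500 := ndS (p := 20798) (l := 5) rfl N20798 D67500
theorem N41115 : nd 41115 = n67501 := ndS (p := 20798) (l := 6) rfl N20798 D67501
theorem N41116 : nd 41116 = n67503 := ndS (p := 20799) (l := 4) rfl N20799 D67503
theorem N41117 : nd 41117 = n67505 := ndS (p := 20801) (l := 3) rfl N20801 D67505
theorem N41118 : nd 41118 = n67506 := ndS (p := 20801) (l := 6) rfl N20801 D67506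
theorem N41119 : nd 41119 = n67507 := ndS (p := 20802) (l := 1) rfl N20802 D67507
theorem N41120 : nd 41120 = n67508 := ndS (p := 20802) (l := 7) rfl N20802 D67508
theorem N41121 : nd 41121 = n67509 := ndS (p := 20803) (l := 0) rfl N20803 D67509
theorem N41122 : nd 41122 = n67510 := ndS (p := 20803) (l := 1) rfl N20803 D67510
theorem N41123 : nd 41123 = n67511 := ndS (p := 20803) (l := 2) rfl N20803 D67511
theorem N41124 : nd 41124 = n67512 := ndS (p := 20803) (l := 5) rfl N20803 D67512
theorem N41125 : nd 41125 = n67513 := ndS (p := 20803) (l := 6) rfl N20803 D67513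
theorem N41126 : nd 41126 = n67514 := ndS (p := 20804) (l := 6) rfl N20804 D67514
theorem N41127 : nd 41127 = n67515 := ndS (p := 20805) (l := 1) rfl N20805 D67515
theorem N41128 : nd 41128 = n67516 := ndS (p := 20805) (l := 5) rfl N20805 D67516
theorem N41129 : nd 41129 = n67517 := ndS (p := 20805) (l := 7) rfl N20805 D67517
theorem N41130 : nd 41130 = n67518 := ndS (p := 20806) (l := 4) rfl N20806 D67518
theorem N41131 : nd 41131 = n67519 := ndS (p := 20808) (l := 0) rfl N20808 D67519
theorem N41132 : nd 41132 = n67520 := ndS (p := 20808) (l := 1) rfl N20808 D67520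
theorem N41133 : nd 41133 = n67521 := ndS (p := 20808) (l := 2) rfl N20808 D67521
theorem N41134 : nd 41134 = n67522 := ndS (p := 20808) (l := 4) rfl N20808 D67522
theorem N41135 : nd 41135 = n67523 := ndS (p := 20808) (l := 5) rfl N20808 D67523
theorem N41136 : nd 41136 = n67524 := ndS (p := 20808) (l := 6) rfl N20808 D67524
theorem N41137 : nd 41137 = n67525 := ndS (p := 20809) (l := 6) rfl N20809 D67525
theorem N41138 : nd 41138 = n67527 := ndS (p := 20810) (l := 5) rfl N20810 D67527
theorem N41139 : nd 41139 = n67528 := ndS (p := 20810) (l := 7) rfl N20810 D67528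
theorem N41140 : nd 41140 = n67529 := ndS (p := 20811) (l := 0) rfl N20811 D67529
theorem N41141 : nd 41141 = n67530 := ndS (p := 20811) (l := 1) rfl N20811 D67530
theorem N41142 : nd 41142 = n67531 := ndS (p := 20811) (l := 2) rfl N20811 D67531
theorem N41143 : nd 41143 = n67532 := ndS (p := 20811) (l := 5) rfl N20811 D67532
theorem N41144 : nd 41144 = n67533 := ndS (p := 20811) (l := 6) rfl N20811 D67533
theorem N41145 : nd 41145 = n67534 := ndS (p := 20812) (l := 6) rfl N20812 D67534
theorem N41146 : nd 41146 = n67535 := ndS (p := 20813) (l := 5) rfl N20813 D67535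
theorem N41147 : nd 41147 = n67537 := ndS (p := 20814) (l := 4) rfl N20814 D67537
theorem N41148 : nd 41148 = n67538 := ndS (p := 20814) (l := 5) rfl N20814 D67538
theorem N41149 : nd 41149 = n67539 := ndS (p := 20814) (l := 6) rfl N20814 D67539
theorem N41150 : nd 41150 = n67541 := ndS (p := 20815) (l := 3) rfl N20815 D67541
theorem N41151 : nd 41151 = n67542 := ndS (p := 20815) (l := 5) rfl N20815 D67542
theorem N41152 : nd 41152 = n67543 := ndS (p := 20815) (l := 6) rfl N20815 D67543
theorem N41153 : nd 41153 = n67544 := ndS (p := 20816) (l := 5) rfl N20816 D67544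
theorem N41154 : nd 41154 = n67548 := ndS (p := 20817) (l := 4) rfl N20817 D67548
theorem N41155 : nd 41155 = n67549 := ndS (p := 20817) (l := 6) rfl N20817 D67549
theorem N41156 : nd 41156 = n67550 := ndS (p := 20818) (l := 0) rfl N20818 D67550
theorem N41157 : nd 41157 = n67551 := ndS (p := 20818) (l := 1) rfl N20818 D67551
theorem N41158 : nd 41158 = n67552 := ndS (p := 20818) (l := 5) rfl N20818 D67552
theorem N41159 : nd 41159 = n67554 := ndS (p := 20819) (l := 3) rfl N20819 D67554
theorem N41160 : nd 41160 = n67555 := ndS (p := 20819) (l := 6) rfl N20819 D67555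
theorem N41161 : nd 41161 = n67556 := ndS (p := 20820) (l := 3) rfl N20820 D67556
theorem N41162 : nd 41162 = n67557 := ndS (p := 20820) (l := 6) rfl N20820 D67557
theorem N41163 : nd 41163 = n67558 := ndS (p := 20821) (l := 3) rfl N20821 D67558
theorem N41164 : nd 41164 = n67559 := ndS (p := 20821) (l := 6) rfl N20821 D67559
theorem N41165 : nd 41165 = n67560 := ndS (p := 20822) (l := 0) rfl N20822 D67560
theorem N41166 : nd 41166 = n67561 := ndS (p := 20822) (l := 1) rfl N20822 D67561
theorem N41167 : nd 41167 = n67562 := ndS (p := 20822) (l := 5) rfl N20822 D67562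
theorem N41168 : nd 41168 = n67563 := ndS (p := 20822) (l := 7) rfl N20822 D67563
theorem N41169 : nd 41169 = n67564 := ndS (p := 20823) (l := 3) rfl N20823 D67564
theorem N41170 : nd 41170 = n67566 := ndS (p := 20823) (l := 6) rfl N20823 D67566
theorem N41171 : nd 41171 = n67567 := ndS (p := 20824) (l := 3) rfl N20824 D67567
theorem N41172 : nd 41172 = n67568 := ndS (p := 20824) (l := 5) rfl N20824 D67568
theorem N41173 : nd 41173 = n67569 := ndS (p := 20824) (l := 6) rfl N20824 D67569
theorem N41174 : nd 41174 = n67570 := ndS (p := 20825) (l := 0) rfl N20825 D67570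
theorem N41175 : nd 41175 = n67571 := ndS (p := 20825) (l := 1) rfl N20825 D67571
theorem N41176 : nd 41176 = n67572 := ndS (p := 20825) (l := 4) rfl N20825 D67572
theorem N41177 : nd 41177 = n67573 := ndS (p := 20825) (l := 7) rfl N20825 D67573
theorem N41178 : nd 41178 = n67582 := ndS (p := 20827) (l := 4) rfl N20827 D67582
theorem N41179 : nd 41179 = n67583 := ndS (p := 20827) (l := 6) rfl N20827 D67583
theorem N41180 : nd 41180 = n67585 := ndS (p := 20828) (l := 0) rfl N20828 D67585
theorem N41181 : nd 41181 = n67587 := ndS (p := 20828) (l := 3) rfl N20828 D67587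
theorem N41182 : nd 41182 = n67596 := ndS (p := 20830) (l := 4) rfl N20830 D67596
theorem N41183 : nd 41183 = n67597 := ndS (p := 20830) (l := 6) rfl N20830 D67597
theorem N41184 : nd 41184 = n67598 := ndS (p := 20831) (l := 3) rfl N20831 D67598
theorem N41185 : nd 41185 = n67599 := ndS (p := 20831) (l := 5) rfl N20831 D67599
theorem N41186 : nd 41186 = n67600 := ndS (p := 20831) (l := 6) rfl N20831 D67600
theorem N41187 : nd 41187 = n67601 := ndS (p := 20832) (l := 0) rfl N20832 D67601
theorem N41188 : nd 41188 = n67602 := ndS (p := 20832) (l := 5) rfl N20832 D67602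
theorem N41189 : nd 41189 = n67604 := ndS (p := 20833) (l := 3) rfl N20833 D67604
theorem N41190 : nd 41190 = n67605 := ndS (p := 20833) (l := 4) rfl N20833 D67605
theorem N41191 : nd 41191 = n67606 := ndS (p := 20833) (l := 6) rfl N20833 D67606
theorem N41192 : nd 41192 = n67608 := ndS (p := 20834) (l := 3) rfl N20834 D67608
theorem N41193 : nd 41193 = n67609 := ndS (p := 20834) (l := 4) rfl N20834 D67609
theorem N41194 : nd 41194 = n67610 := ndS (p := 20835) (l := 0) rfl N20835 D67610
theorem N41195 : nd 41195 = n67611 := ndS (p := 20835) (l := 1) rfl N20835 D67611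
theorem N41196 : nd 41196 = n67612 := ndS (p := 20835) (l := 5) rfl N20835 D67612
theorem N41197 : nd 41197 = n67613 := ndS (p := 20835) (l := 7) rfl N20835 D67613
theorem N41198 : nd 41198 = n67614 := ndS (p := 20837) (l := 6) rfl N20837 D67614
theorem N41199 : nd 41199 = n67615 := ndS (p := 20838) (l := 3) rfl N20838 D67615
theorem N41200 : nd 41200 = n67616 := ndS (p := 20838) (l := 5) rfl N20838 D67616
theorem N41201 : nd 41201 = n67617 := ndS (p := 20838) (l := 6) rfl N20838 D67617
theorem N41202 : nd 41202 = n67618 := ndS (p := 20839) (l := 0) rfl N20839 D67618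
theorem N41203 : nd 41203 = n67619 := ndS (p := 20842) (l := 3) rfl N20842 D67619
theorem N41204 : nd 41204 = n67620 := ndS (p := 20842) (l := 5) rfl N20842 D67620
theorem N41205 : nd 41205 = n67621 := ndS (p := 20843) (l := 0) rfl N20843 D67621
theorem N41206 : nd 41206 = n67622 := ndS (p := 20843) (l := 1) rfl N20843 D67622
theorem N41207 : nd 41207 = n67623 := ndS (p := 20843) (l := 6) rfl N20843 D67623
theorem N41208 : nd 41208 = n67628 := ndS (p := 20844) (l := 6) rfl N20844 D67628
theorem N41209 : nd 41209 = n67629 := ndS (p := 20845) (l := 6) rfl N20845 D67629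
theorem N41210 : nd 41210 = n67630 := ndS (p := 20846) (l := 0) rfl N20846 D67630
theorem N41211 : nd 41211 = n67631 := ndS (p := 20846) (l := 1) rfl N20846 D67631
theorem N41212 : nd 41212 = n67632 := ndS (p := 20846) (l := 5) rfl N20846 D67632
theorem N41213 : nd 41213 = n67633 := ndS (p := 20846) (l := 7) rfl N20846 D67633
theorem N41214 : nd 41214 = n67635 := ndS (p := 20847) (l := 3) rfl N20847 D67635
theorem N41215 : nd 41215 = n67636 := ndS (p := 20847) (l := 4) rfl N20847 D67636
theorem N41216 : nd 41216 = n67637 := ndS (p := 20847) (l := 5) rfl N20847 D67637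
theorem N41217 : nd 41217 = n67638 := ndS (p := 20847) (l := 6) rfl N20847 D67638
theorem N41218 : nd 41218 = n67640 := ndS (p := 20848) (l := 3) rfl N20848 D67640
theorem N41219 : nd 41219 = n67641 := ndS (p := 20848) (l := 4) rfl N20848 D67641
theorem N41220 : nd 41220 = n67642 := ndS (p := 20848) (l := 5) rfl N20848 D67642
theorem N41221 : nd 41221 = n67645 := ndS (p := 20850) (l := 3) rfl N20850 D67645
theorem N41222 : nd 41222 = n67650 := ndS (p := 20851) (l := 3) rfl N20851 D67650
theorem N41223 : nd 41223 = n67655 := ndS (p := 20853) (l := 0) rfl N20853 D67655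
theorem N41224 : nd 41224 = n67656 := ndS (p := 20853) (l := 1) rfl N20853 D67656
theorem N41225 : nd 41225 = n67659 := ndS (p := 20854) (l := 3) rfl N20854 D67659
theorem N41226 : nd 41226 = n67660 := ndS (p := 20854) (l := 5) rfl N20854 D67660
theorem N41227 : nd 41227 = n67661 := ndS (p := 20855) (l := 3) rfl N20855 D67661
theorem N41228 : nd 41228 = n67662 := ndS (p := 20855) (l := 5) rfl N20855 D67662
theorem N41229 : nd 41229 = n67664 := ndS (p := 20858) (l := 4) rfl N20858 D67664
theorem N41230 : nd 41230 = n67669 := ndS (p := 20860) (l := 3) rfl N20860 D67669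
theorem N41231 : nd 41231 = n67670 := ndS (p := 20860) (l := 5) rfl N20860 D67670
theorem N41232 : nd 41232 = n67671 := ndS (p := 20860) (l := 6) rfl N20860 D67671
theorem N41233 : nd 41233 = n67672 := ndS (p := 20861) (l := 1) rfl N20861 D67672
theorem N41234 : nd 41234 = n67673 := ndS (p := 20861) (l := 7) rfl N20861 D67673
theorem N41235 : nd 41235 = n67674 := ndS (p := 20862) (l := 3) rfl N20862 D67674
theorem N41236 : nd 41236 = n67675 := ndS (p := 20862) (l := 6) rfl N20862 D67675
theorem N41237 : nd 41237 = n67676 := ndS (p := 20863) (l := 0) rfl N20863 D67676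
theorem N41238 : nd 41238 = n67677 := ndS (p := 20863) (l := 1) rfl N20863 D67677
theorem N41239 : nd 41239 = n67678 := ndS (p := 20863) (l := 2) rfl N20863 D67678
theorem N41240 : nd 41240 = n67679 := ndS (p := 20863) (l := 5) rfl N20863 D67679
theorem N41241 : nd 41241 = n67680 := ndS (p := 20863) (l := 6) rfl N20863 D67680
theorem N41242 : nd 41242 = n67681 := ndS (p := 20864) (l := 6) rfl N20864 D67681
theorem N41243 : nd 41243 = n67682 := ndS (p := 20865) (l := 0) rfl N20865 D67682
theorem N41244 : nd 41244 = n67683 := ndS (p := 20865) (l := 1) rfl N20865 D67683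
theorem N41245 : nd 41245 = n67684 := ndS (p := 20865) (l := 5) rfl N20865 D67684
theorem N41246 : nd 41246 = n67685 := ndS (p := 20865) (l := 7) rfl N20865 D67685
theorem N41247 : nd 41247 = n67686 := ndS (p := 20866) (l := 4) rfl N20866 D67686
theorem N41248 : nd 41248 = n67687 := ndS (p := 20867) (l := 3) rfl N20867 D67687
theorem N41249 : nd 41249 = n67688 := ndS (p := 20867) (l := 4) rfl N20867 D67688
theorem N41250 : nd 41250 = n67690 := ndS (p := 20869) (l := 3) rfl N20869 D67690
theorem N41251 : nd 41251 = n67691 := ndS (p := 20869) (l := 4) rfl N20869 D67691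
theorem N41252 : nd 41252 = n67695 := ndS (p := 20870) (l := 3) rfl N20870 D67695
theorem N41253 : nd 41253 = n67696 := ndS (p := 20870) (l := 4) rfl N20870 D67696
theorem N41254 : nd 41254 = n67698 := ndS (p := 20870) (l := 6) rfl N20870 D67698
theorem N41255 : nd 41255 = n67699 := ndS (p := 20871) (l := 6) rfl N20871 D67699
theorem N41256 : nd 41256 = n67700 := ndS (p := 20872) (l := 0) rfl N20872 D67700
theorem N41257 : nd 41257 = n67701 := ndS (p := 20872) (l := 1) rfl N20872 D67701
theorem N41258 : nd 41258 = n67702 := ndS (p := 20872) (l := 5) rfl N20872 D67702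
theorem N41259 : nd 41259 = n67703 := ndS (p := 20872) (l := 7) rfl N20872 D67703
theorem N41260 : nd 41260 = n67704 := ndS (p := 20873) (l := 3) rfl N20873 D67704
theorem N41261 : nd 41261 = n67706 := ndS (p := 20874) (l := 0) rfl N20874 D67706
theorem N41262 : nd 41262 = n67707 := ndS (p := 20874) (l := 4) rfl N20874 D67707
theorem N41263 : nd 41263 = n67708 := ndS (p := 20874) (l := 7) rfl N20874 D67708
theorem N41264 : nd 41264 = n67709 := ndS (p := 20876) (l := 4) rfl N20876 D67709
theorem N41265 : nd 41265 = n67717 := ndS (p := 20877) (l := 1) rfl N20877 D67717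
theorem N41266 : nd 41266 = n67719 := ndS (p := 20877) (l := 5) rfl N20877 D67719
theorem N41267 : nd 41267 = n67720 := ndS (p := 20877) (l := 6) rfl N20877 D67720
theorem N41268 : nd 41268 = n67722 := ndS (p := 20878) (l := 0) rfl N20878 D67722
theorem N41269 : nd 41269 = n67723 := ndS (p := 20878) (l := 1) rfl N20878 D67723
theorem N41270 : nd 41270 = n67724 := ndS (p := 20878) (l := 3) rfl N20878 D67724
theorem N41271 : nd 41271 = n67725 := ndS (p := 20878) (l := 5) rfl N20878 D67725
theorem N41272 : nd 41272 = n67726 := ndS (p := 20878) (l := 6) rfl N20878 D67726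
theorem N41273 : nd 41273 = n67730 := ndS (p := 20879) (l := 4) rfl N20879 D67730
theorem N41274 : nd 41274 = n67731 := ndS (p := 20879) (l := 6) rfl N20879 D67731
theorem N41275 : nd 41275 = n67733 := ndS (p := 20880) (l := 0) rfl N20880 D67733
theorem N41276 : nd 41276 = n67735 := ndS (p := 20880) (l := 5) rfl N20880 D67735
theorem N41277 : nd 41277 = n67736 := ndS (p := 20880) (l := 7) rfl N20880 D67736
theorem N41278 : nd 41278 = n67742 := ndS (p := 20881) (l := 5) rfl N20881 D67742
theorem N41279 : nd 41279 = n67743 := ndS (p := 20881) (l := 6) rfl N20881 D67743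
theorem N41280 : nd 41280 = n67744 := ndS (p := 20882) (l := 3) rfl N20882 D67744
theorem N41281 : nd 41281 = n67745 := ndS (p := 20882) (l := 5) rfl N20882 D67745
theorem N41282 : nd 41282 = n67746 := ndS (p := 20882) (l := 6) rfl N20882 D67746
theorem N41283 : nd 41283 = n67747 := ndS (p := 20883) (l := 4) rfl N20883 D67747
theorem N41284 : nd 41284 = n67748 := ndS (p := 20883) (l := 6) rfl N20883 D67748
theorem N41285 : nd 41285 = n67750 := ndS (p := 20884) (l := 1) rfl N20884 D67750
theorem N41286 : nd 41286 = n67751 := ndS (p := 20884) (l := 5) rfl N20884 D67751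
theorem N41287 : nd 41287 = n67752 := ndS (p := 20884) (l := 7) rfl N20884 D67752
theorem N41288 : nd 41288 = n67795 := ndS (p := 20885) (l := 6) rfl N20885 D67795
theorem N41289 : nd 41289 = n67812 := ndS (p := 20887) (l := 4) rfl N20887 D67812
theorem N41290 : nd 41290 = n67815 := ndS (p := 20888) (l := 4) rfl N20888 D67815
theorem N41291 : nd 41291 = n67816 := ndS (p := 20888) (l := 6) rfl N20888 D67816
theorem N41292 : nd 41292 = n67818 := ndS (p := 20889) (l := 1) rfl N20889 D67818
theorem N41293 : nd 41293 = n67820 := ndS (p := 20889) (l := 5) rfl N20889 D67820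
theorem N41294 : nd 41294 = n67821 := ndS (p := 20889) (l := 6) rfl N20889 D67821
theorem N41295 : nd 41295 = n67822 := ndS (p := 20890) (l := 0) rfl N20890 D67822
theorem N41296 : nd 41296 = n67823 := ndS (p := 20890) (l := 1) rfl N20890 D67823
theorem N41297 : nd 41297 = n67824 := ndS (p := 20890) (l := 5) rfl N20890 D67824
theorem N41298 : nd 41298 = n67834 := ndS (p := 20893) (l := 4) rfl N20893 D67834
theorem N41299 : nd 41299 = n67835 := ndS (p := 20893) (l := 6) rfl N20893 D67835
theorem N41300 : nd 41300 = n67842 := ndS (p := 20898) (l := 5) rfl N20898 D67842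
theorem N41301 : nd 41301 = n67843 := ndS (p := 20899) (l := 3) rfl N20899 D67843
theorem N41302 : nd 41302 = n67844 := ndS (p := 20900) (l := 3) rfl N20900 D67844
theorem N41303 : nd 41303 = n67845 := ndS (p := 20900) (l := 6) rfl N20900 D67845
theorem N41304 : nd 41304 = n67848 := ndS (p := 20902) (l := 6) rfl N20902 D67848
theorem N41305 : nd 41305 = n67850 := ndS (p := 20903) (l := 6) rfl N20903 D67850
theorem N41306 : nd 41306 = n67851 := ndS (p := 20904) (l := 0) rfl N20904 D67851
theorem N41307 : nd 41307 = n67852 := ndS (p := 20904) (l := 1) rfl N20904 D67852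
theorem N41308 : nd 41308 = n67853 := ndS (p := 20904) (l := 7) rfl N20904 D67853
theorem N41309 : nd 41309 = n67854 := ndS (p := 20905) (l := 5) rfl N20905 D67854
theorem N41310 : nd 41310 = n67855 := ndS (p := 20906) (l := 5) rfl N20906 D67855
theorem N41311 : nd 41311 = n67857 := ndS (p := 20907) (l := 6) rfl N20907 D67857
theorem N41312 : nd 41312 = n67860 := ndS (p := 20908) (l := 5) rfl N20908 D67860
theorem N41313 : nd 41313 = n67861 := ndS (p := 20908) (l := 6) rfl N20908 D67861
theorem N41314 : nd 41314 = n67862 := ndS (p := 20909) (l := 0) rfl N20909 D67862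
theorem N41315 : nd 41315 = n67863 := ndS (p := 20909) (l := 1) rfl N20909 D67863
theorem N41316 : nd 41316 = n67864 := ndS (p := 20909) (l := 7) rfl N20909 D67864
theorem N41317 : nd 41317 = n67865 := ndS (p := 20910) (l := 3) rfl N20910 D67865
theorem N41318 : nd 41318 = n67866 := ndS (p := 20915) (l := 0) rfl N20915 D67866
theorem N41319 : nd 41319 = n67867 := ndS (p := 20915) (l := 1) rfl N20915 D67867
theorem N41320 : nd 41320 = n67868 := ndS (p := 20915) (l := 5) rfl N20915 D67868
theorem N41321 : nd 41321 = n67869 := ndS (p := 20915) (l := 6) rfl N20915 D67869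
theorem N41322 : nd 41322 = n67870 := ndS (p := 20916) (l := 0) rfl N20916 D67870
theorem N41323 : nd 41323 = n67871 := ndS (p := 20916) (l := 1) rfl N20916 D67871
theorem N41324 : nd 41324 = n67872 := ndS (p := 20916) (l := 7) rfl N20916 D67872
theorem N41325 : nd 41325 = n67874 := ndS (p := 20917) (l := 3) rfl N20917 D67874
theorem N41326 : nd 41326 = n67876 := ndS (p := 20917) (l := 5) rfl N20917 D67876
theorem N41327 : nd 41327 = n67877 := ndS (p := 20917) (l := 6) rfl N20917 D67877
theorem N41328 : nd 41328 = n67883 := ndS (p := 20921) (l := 5) rfl N20921 D67883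
theorem N41329 : nd 41329 = n67884 := ndS (p := 20924) (l := 4) rfl N20924 D67884
theorem N41330 : nd 41330 = n67885 := ndS (p := 20924) (l := 6) rfl N20924 D67885
theorem N41331 : nd 41331 = n67886 := ndS (p := 20925) (l := 5) rfl N20925 D67886
theorem N41332 : nd 41332 = n67888 := ndS (p := 20926) (l := 0) rfl N20926 D67888
theorem N41333 : nd 41333 = n67890 := ndS (p := 20926) (l := 7) rfl N20926 D67890
theorem N41334 : nd 41334 = n67891 := ndS (p := 20927) (l := 3) rfl N20927 D67891
theorem N41335 : nd 41335 = n67892 := ndS (p := 20927) (l := 5) rfl N20927 D67892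
theorem N41336 : nd 41336 = n67895 := ndS (p := 20930) (l := 5) rfl N20930 D67895
theorem N41337 : nd 41337 = n67896 := ndS (p := 20930) (l := 6) rfl N20930 D67896
theorem N41338 : nd 41338 = n67897 := ndS (p := 20933) (l := 5) rfl N20933 D67897
theorem N41339 : nd 41339 = n67899 := ndS (p := 20934) (l := 6) rfl N20934 D67899
theorem N41340 : nd 41340 = n67900 := ndS (p := 20935) (l := 6) rfl N20935 D67900
theorem N41341 : nd 41341 = n67901 := ndS (p := 20936) (l := 3) rfl N20936 D67901
theorem N41342 : nd 41342 = n67902 := ndS (p := 20937) (l := 0) rfl N20937 D67902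
theorem N41343 : nd 41343 = n67903 := ndS (p := 20937) (l := 4) rfl N20937 D67903
theorem N41344 : nd 41344 = n67904 := ndS (p := 20937) (l := 6) rfl N20937 D67904
theorem N41345 : nd 41345 = n67905 := ndS (p := 20938) (l := 4) rfl N20938 D67905
theorem N41346 : nd 41346 = n67906 := ndS (p := 20938) (l := 6) rfl N20938 D67906
theorem N41347 : nd 41347 = n67907 := ndS (p := 20939) (l := 3) rfl N20939 D67907
theorem N41348 : nd 41348 = n67908 := ndS (p := 20939) (l := 4) rfl N20939 D67908
theorem N41349 : nd 41349 = n67909 := ndS (p := 20939) (l := 6) rfl N20939 D67909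
theorem N41350 : nd 41350 = n67913 := ndS (p := 20940) (l := 0) rfl N20940 D67913
theorem N41351 : nd 41351 = n67914 := ndS (p := 20940) (l := 1) rfl N20940 D67914
theorem N41352 : nd 41352 = n67915 := ndS (p := 20940) (l := 7) rfl N20940 D67915
theorem N41353 : nd 41353 = n67917 := ndS (p := 20941) (l := 3) rfl N20941 D67917
theorem N41354 : nd 41354 = n67920 := ndS (p := 20941) (l := 6) rfl N20941 D67920
theorem N41355 : nd 41355 = n67926 := ndS (p := 20944) (l := 5) rfl N20944 D67926
theorem N41356 : nd 41356 = n67927 := ndS (p := 20944) (l := 6) rfl N20944 D67927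
theorem N41357 : nd 41357 = n67928 := ndS (p := 20945) (l := 5) rfl N20945 D67928
theorem N41358 : nd 41358 = n67929 := ndS (p := 20945) (l := 6) rfl N20945 D67929
theorem N41359 : nd 41359 = n67931 := ndS (p := 20946) (l := 1) rfl N20946 D67931
theorem N41360 : nd 41360 = n67932 := ndS (p := 20946) (l := 6) rfl N20946 D67932
theorem N41361 : nd 41361 = n67933 := ndS (p := 20949) (l := 6) rfl N20949 D67933
theorem N41362 : nd 41362 = n67934 := ndS (p := 20950) (l := 6) rfl N20950 D67934
theorem N41363 : nd 41363 = n67935 := ndS (p := 20952) (l := 0) rfl N20952 D67935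
theorem N41364 : nd 41364 = n67936 := ndS (p := 20952) (l := 1) rfl N20952 D67936
theorem N41365 : nd 41365 = n67937 := ndS (p := 20952) (l := 3) rfl N20952 D67937
theorem N41366 : nd 41366 = n67938 := ndS (p := 20952) (l := 5) rfl N20952 D67938
theorem N41367 : nd 41367 = n67939 := ndS (p := 20952) (l := 6) rfl N20952 D67939
theorem N41368 : nd 41368 = n67940 := ndS (p := 20953) (l := 0) rfl N20953 D67940
theorem N41369 : nd 41369 = n67942 := ndS (p := 20953) (l := 7) rfl N20953 D67942
theorem N41370 : nd 41370 = n67943 := ndS (p := 20954) (l := 6) rfl N20954 D67943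
theorem N41371 : nd 41371 = n67944 := ndS (p := 20955) (l := 5) rfl N20955 D67944
theorem N41372 : nd 41372 = n67946 := ndS (p := 20956) (l := 6) rfl N20956 D67946
theorem N41373 : nd 41373 = n67947 := ndS (p := 20957) (l := 6) rfl N20957 D67947
theorem N41374 : nd 41374 = n67948 := ndS (p := 20958) (l := 3) rfl N20958 D67948
theorem N41375 : nd 41375 = n67949 := ndS (p := 20958) (l := 5) rfl N20958 D67949
theorem N41376 : nd 41376 = n67950 := ndS (p := 20958) (l := 6) rfl N20958 D67950
theorem N41377 : nd 41377 = n67953 := ndS (p := 20959) (l := 7) rfl N20959 D67953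
theorem N41378 : nd 41378 = n67954 := ndS (p := 20960) (l := 3) rfl N20960 D67954
theorem N41379 : nd 41379 = n67955 := ndS (p := 20960) (l := 5) rfl N20960 D67955
theorem N41380 : nd 41380 = n67957 := ndS (p := 20961) (l := 0) rfl N20961 D67957
theorem N41381 : nd 41381 = n67958 := ndS (p := 20961) (l := 1) rfl N20961 D67958
theorem N41382 : nd 41382 = n67960 := ndS (p := 20962) (l := 3) rfl N20962 D67960
theorem N41383 : nd 41383 = n67961 := ndS (p := 20963) (l := 3) rfl N20963 D67961
theorem N41384 : nd 41384 = n67962 := ndS (p := 20963) (l := 4) rfl N20963 D67962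
theorem N41385 : nd 41385 = n67964 := ndS (p := 20964) (l := 2) rfl N20964 D67964
theorem N41386 : nd 41386 = n67965 := ndS (p := 20964) (l := 6) rfl N20964 D67965
theorem N41387 : nd 41387 = n67966 := ndS (p := 20965) (l := 1) rfl N20965 D67966
theorem N41388 : nd 41388 = n67967 := ndS (p := 20965) (l := 3) rfl N20965 D67967
theorem N41389 : nd 41389 = n67968 := ndS (p := 20965) (l := 5) rfl N20965 D67968
theorem N41390 : nd 41390 = n67969 := ndS (p := 20965) (l := 6) rfl N20965 D67969
theorem N41391 : nd 41391 = n67970 := ndS (p := 20966) (l := 0) rfl N20966 D67970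
theorem N41392 : nd 41392 = n67972 := ndS (p := 20966) (l := 7) rfl N20966 D67972
theorem N41393 : nd 41393 = n67973 := ndS (p := 20967) (l := 4) rfl N20967 D67973
theorem N41394 : nd 41394 = n67974 := ndS (p := 20967) (l := 6) rfl N20967 D67974
theorem N41395 : nd 41395 = n67975 := ndS (p := 20968) (l := 3) rfl N20968 D67975
theorem N41396 : nd 41396 = n67976 := ndS (p := 20968) (l := 5) rfl N20968 D67976
theorem N41397 : nd 41397 = n67977 := ndS (p := 20968) (l := 6) rfl N20968 D67977
theorem N41398 : nd 41398 = n67981 := ndS (p := 20970) (l := 3) rfl N20970 D67981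
theorem N41399 : nd 41399 = n67982 := ndS (p := 20970) (l := 5) rfl N20970 D67982
theorem N41400 : nd 41400 = n67983 := ndS (p := 20970) (l := 6) rfl N20970 D67983
theorem N41401 : nd 41401 = n67985 := ndS (p := 20971) (l := 5) rfl N20971 D67985
theorem N41402 : nd 41402 = n67986 := ndS (p := 20971) (l := 6) rfl N20971 D67986
theorem N41403 : nd 41403 = n67987 := ndS (p := 20972) (l := 0) rfl N20972 D67987
theorem N41404 : nd 41404 = n67988 := ndS (p := 20972) (l := 1) rfl N20972 D67988
theorem N41405 : nd 41405 = n67989 := ndS (p := 20972) (l := 4) rfl N20972 D67989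
theorem N41406 : nd 41406 = n67990 := ndS (p := 20972) (l := 6) rfl N20972 D67990
theorem N41407 : nd 41407 = n67993 := ndS (p := 20973) (l := 5) rfl N20973 D67993
theorem N41408 : nd 41408 = n67996 := ndS (p := 20974) (l := 3) rfl N20974 D67996
theorem N41409 : nd 41409 = n67997 := ndS (p := 20974) (l := 4) rfl N20974 D67997
theorem N41410 : nd 41410 = n67998 := ndS (p := 20974) (l := 5) rfl N20974 D67998
theorem N41411 : nd 41411 = n67999 := ndS (p := 20974) (l := 6) rfl N20974 D67999
theorem N41412 : nd 41412 = n68001 := ndS (p := 20975) (l := 3) rfl N20975 D68001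
theorem N41413 : nd 41413 = n68002 := ndS (p := 20975) (l := 4) rfl N20975 D68002
theorem N41414 : nd 41414 = n68003 := ndS (p := 20975) (l := 5) rfl N20975 D68003
theorem N41415 : nd 41415 = n68004 := ndS (p := 20975) (l := 6) rfl N20975 D68004
theorem N41416 : nd 41416 = n68010 := ndS (p := 20977) (l := 2) rfl N20977 D68010
theorem N41417 : nd 41417 = n68011 := ndS (p := 20977) (l := 4) rfl N20977 D68011
theorem N41418 : nd 41418 = n68012 := ndS (p := 20977) (l := 5) rfl N20977 D68012
theorem N41419 : nd 41419 = n68013 := ndS (p := 20978) (l := 5) rfl N20978 D68013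
theorem N41420 : nd 41420 = n68014 := ndS (p := 20979) (l := 4) rfl N20979 D68014
theorem N41421 : nd 41421 = n68017 := ndS (p := 20980) (l := 1) rfl N20980 D68017
theorem N41422 : nd 41422 = n68018 := ndS (p := 20980) (l := 2) rfl N20980 D68018
theorem N41423 : nd 41423 = n68019 := ndS (p := 20980) (l := 4) rfl N20980 D68019
theorem N41424 : nd 41424 = n68020 := ndS (p := 20980) (l := 5) rfl N20980 D68020
theorem N41425 : nd 41425 = n68021 := ndS (p := 20982) (l := 4) rfl N20982 D68021
theorem N41426 : nd 41426 = n68023 := ndS (p := 20983) (l := 0) rfl N20983 D68023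
theorem N41427 : nd 41427 = n68024 := ndS (p := 20983) (l := 1) rfl N20983 D68024
theorem N41428 : nd 41428 = n68025 := ndS (p := 20983) (l := 3) rfl N20983 D68025
theorem N41429 : nd 41429 = n68026 := ndS (p := 20983) (l := 5) rfl N20983 D68026
theorem N41430 : nd 41430 = n68027 := ndS (p := 20983) (l := 7) rfl N20983 D68027
theorem N41431 : nd 41431 = n68028 := ndS (p := 20984) (l := 6) rfl N20984 D68028
theorem N41432 : nd 41432 = n68039 := ndS (p := 20985) (l := 5) rfl N20985 D68039
theorem N41433 : nd 41433 = n68040 := ndS (p := 20985) (l := 6) rfl N20985 D68040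
theorem N41434 : nd 41434 = n68068 := ndS (p := 20989) (l := 5) rfl N20989 D68068
theorem N41435 : nd 41435 = n68069 := ndS (p := 20989) (l := 7) rfl N20989 D68069
theorem N41436 : nd 41436 = n68082 := ndS (p := 20992) (l := 4) rfl N20992 D68082
theorem N41437 : nd 41437 = n68083 := ndS (p := 20992) (l := 6) rfl N20992 D68083
theorem N41438 : nd 41438 = n68084 := ndS (p := 20993) (l := 5) rfl N20993 D68084
theorem N41439 : nd 41439 = n68092 := ndS (p := 20997) (l := 0) rfl N20997 D68092
theorem N41440 : nd 41440 = n68093 := ndS (p := 20997) (l := 5) rfl N20997 D68093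
theorem N41441 : nd 41441 = n68094 := ndS (p := 20998) (l := 6) rfl N20998 D68094
theorem N41442 : nd 41442 = n68095 := ndS (p := 20999) (l := 4) rfl N20999 D68095
theorem N41443 : nd 41443 = n68096 := ndS (p := 21002) (l := 0) rfl N21002 D68096
theorem N41444 : nd 41444 = n68097 := ndS (p := 21002) (l := 1) rfl N21002 D68097
theorem N41445 : nd 41445 = n68098 := ndS (p := 21002) (l := 5) rfl N21002 D68098
theorem N41446 : nd 41446 = n68099 := ndS (p := 21002) (l := 6) rfl N21002 D68099
theorem N41447 : nd 41447 = n68100 := ndS (p := 21003) (l := 0) rfl N21003 D68100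
theorem N41448 : nd 41448 = n68101 := ndS (p := 21003) (l := 1) rfl N21003 D68101
theorem N41449 : nd 41449 = n68102 := ndS (p := 21003) (l := 7) rfl N21003 D68102
theorem N41450 : nd 41450 = n68106 := ndS (p := 21004) (l := 1) rfl N21004 D68106
theorem N41451 : nd 41451 = n68107 := ndS (p := 21004) (l := 7) rfl N21004 D68107
theorem N41452 : nd 41452 = n68111 := ndS (p := 21005) (l := 3) rfl N21005 D68111
theorem N41453 : nd 41453 = n68116 := ndS (p := 21008) (l := 5) rfl N21008 D68116
theorem N41454 : nd 41454 = n68117 := ndS (p := 21008) (l := 6) rfl N21008 D68117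
theorem N41455 : nd 41455 = n68118 := ndS (p := 21010) (l := 0) rfl N21010 D68118
theorem N41456 : nd 41456 = n68119 := ndS (p := 21010) (l := 1) rfl N21010 D68119
theorem N41457 : nd 41457 = n68120 := ndS (p := 21010) (l := 2) rfl N21010 D68120
theorem N41458 : nd 41458 = n68121 := ndS (p := 21010) (l := 6) rfl N21010 D68121
theorem N41459 : nd 41459 = n68122 := ndS (p := 21011) (l := 0) rfl N21011 D68122
theorem N41460 : nd 41460 = n68123 := ndS (p := 21011) (l := 1) rfl N21011 D68123
theorem N41461 : nd 41461 = n68124 := ndS (p := 21011) (l := 5) rfl N21011 D68124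
theorem N41462 : nd 41462 = n68125 := ndS (p := 21011) (l := 7) rfl N21011 D68125
theorem N41463 : nd 41463 = n68126 := ndS (p := 21013) (l := 0) rfl N21013 D68126
theorem N41464 : nd 41464 = n68127 := ndS (p := 21013) (l := 1) rfl N21013 D68127
theorem N41465 : nd 41465 = n68128 := ndS (p := 21013) (l := 7) rfl N21013 D68128
theorem N41466 : nd 41466 = n68131 := ndS (p := 21014) (l := 2) rfl N21014 D68131
theorem N41467 : nd 41467 = n68132 := ndS (p := 21014) (l := 6) rfl N21014 D68132
theorem N41468 : nd 41468 = n68133 := ndS (p := 21015) (l := 0) rfl N21015 D68133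
theorem N41469 : nd 41469 = n68134 := ndS (p := 21015) (l := 1) rfl N21015 D68134
theorem N41470 : nd 41470 = n68135 := ndS (p := 21015) (l := 5) rfl N21015 D68135
theorem N41471 : nd 41471 = n68136 := ndS (p := 21015) (l := 7) rfl N21015 D68136
theorem N41472 : nd 41472 = n68137 := ndS (p := 21016) (l := 4) rfl N21016 D68137
theorem N41473 : nd 41473 = n68138 := ndS (p := 21016) (l := 5) rfl N21016 D68138
theorem N41474 : nd 41474 = n68139 := ndS (p := 21018) (l := 0) rfl N21018 D68139
theorem N41475 : nd 41475 = n68140 := ndS (p := 21018) (l := 1) rfl N21018 D68140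
theorem N41476 : nd 41476 = n68141 := ndS (p := 21018) (l := 2) rfl N21018 D68141
theorem N41477 : nd 41477 = n68142 := ndS (p := 21018) (l := 6) rfl N21018 D68142
theorem N41478 : nd 41478 = n68143 := ndS (p := 21019) (l := 5) rfl N21019 D68143
theorem N41479 : nd 41479 = n68144 := ndS (p := 21019) (l := 7) rfl N21019 D68144
theorem N41480 : nd 41480 = n68145 := ndS (p := 21020) (l := 0) rfl N21020 D68145
theorem N41481 : nd 41481 = n68146 := ndS (p := 21020) (l := 1) rfl N21020 D68146
theorem N41482 : nd 41482 = n68147 := ndS (p := 21020) (l := 2) rfl N21020 D68147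
theorem N41483 : nd 41483 = n68148 := ndS (p := 21020) (l := 6) rfl N21020 D68148
theorem N41484 : nd 41484 = n68150 := ndS (p := 21021) (l := 5) rfl N21021 D68150
theorem N41485 : nd 41485 = n68151 := ndS (p := 21021) (l := 7) rfl N21021 D68151
theorem N41486 : nd 41486 = n68153 := ndS (p := 21022) (l := 3) rfl N21022 D68153
theorem N41487 : nd 41487 = n68154 := ndS (p := 21022) (l := 4) rfl N21022 D68154
theorem N41488 : nd 41488 = n68156 := ndS (p := 21022) (l := 6) rfl N21022 D68156
theorem N41489 : nd 41489 = n68158 := ndS (p := 21023) (l := 3) rfl N21023 D68158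
theorem N41490 : nd 41490 = n68160 := ndS (p := 21023) (l := 6) rfl N21023 D68160
theorem N41491 : nd 41491 = n68161 := ndS (p := 21024) (l := 6) rfl N21024 D68161
theorem N41492 : nd 41492 = n68162 := ndS (p := 21025) (l := 0) rfl N21025 D68162
theorem N41493 : nd 41493 = n68163 := ndS (p := 21025) (l := 1) rfl N21025 D68163
theorem N41494 : nd 41494 = n68165 := ndS (p := 21025) (l := 7) rfl N21025 D68165
theorem N41495 : nd 41495 = n68166 := ndS (p := 21026) (l := 3) rfl N21026 D68166
theorem N41496 : nd 41496 = n68167 := ndS (p := 21026) (l := 5) rfl N21026 D68167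
theorem N41497 : nd 41497 = n68168 := ndS (p := 21026) (l := 6) rfl N21026 D68168
theorem N41498 : nd 41498 = n68169 := ndS (p := 21027) (l := 3) rfl N21027 D68169
theorem N41499 : nd 41499 = n68170 := ndS (p := 21027) (l := 5) rfl N21027 D68170
theorem N41500 : nd 41500 = n68171 := ndS (p := 21028) (l := 0) rfl N21028 D68171
theorem N41501 : nd 41501 = n68172 := ndS (p := 21028) (l := 1) rfl N21028 D68172
theorem N41502 : nd 41502 = n68173 := ndS (p := 21028) (l := 4) rfl N21028 D68173
theorem N41503 : nd 41503 = n68174 := ndS (p := 21028) (l := 7) rfl N21028 D68174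
theorem N41504 : nd 41504 = n68175 := ndS (p := 21030) (l := 4) rfl N21030 D68175
theorem N41505 : nd 41505 = n68176 := ndS (p := 21030) (l := 6) rfl N21030 D68176
theorem N41506 : nd 41506 = n68177 := ndS (p := 21031) (l := 3) rfl N21031 D68177
theorem N41507 : nd 41507 = n68178 := ndS (p := 21031) (l := 5) rfl N21031 D68178
theorem N41508 : nd 41508 = n68179 := ndS (p := 21031) (l := 6) rfl N21031 D68179
theorem N41509 : nd 41509 = n68180 := ndS (p := 21034) (l := 3) rfl N21034 D68180
theorem N41510 : nd 41510 = n68181 := ndS (p := 21034) (l := 5) rfl N21034 D68181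
theorem N41511 : nd 41511 = n68184 := ndS (p := 21035) (l := 4) rfl N21035 D68184
theorem N41512 : nd 41512 = n68185 := ndS (p := 21035) (l := 5) rfl N21035 D68185
theorem N41513 : nd 41513 = n68187 := ndS (p := 21036) (l := 3) rfl N21036 D68187
theorem N41514 : nd 41514 = n68188 := ndS (p := 21036) (l := 4) rfl N21036 D68188
theorem N41515 : nd 41515 = n68189 := ndS (p := 21036) (l := 5) rfl N21036 D68189
theorem N41516 : nd 41516 = n68190 := ndS (p := 21037) (l := 0) rfl N21037 D68190
theorem N41517 : nd 41517 = n68191 := ndS (p := 21037) (l := 1) rfl N21037 D68191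
theorem N41518 : nd 41518 = n68192 := ndS (p := 21037) (l := 3) rfl N21037 D68192
theorem N41519 : nd 41519 = n68193 := ndS (p := 21037) (l := 5) rfl N21037 D68193
theorem N41520 : nd 41520 = n68194 := ndS (p := 21037) (l := 7) rfl N21037 D68194
theorem N41521 : nd 41521 = n68195 := ndS (p := 21039) (l := 0) rfl N21039 D68195
theorem N41522 : nd 41522 = n68196 := ndS (p := 21039) (l := 1) rfl N21039 D68196
theorem N41523 : nd 41523 = n68197 := ndS (p := 21039) (l := 2) rfl N21039 D68197
theorem N41524 : nd 41524 = n68198 := ndS (p := 21039) (l := 5) rfl N21039 D68198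
theorem N41525 : nd 41525 = n68199 := ndS (p := 21040) (l := 6) rfl N21040 D68199
theorem N41526 : nd 41526 = n68209 := ndS (p := 21041) (l := 5) rfl N21041 D68209
theorem N41527 : nd 41527 = n68210 := ndS (p := 21041) (l := 6) rfl N21041 D68210
theorem N41528 : nd 41528 = n68212 := ndS (p := 21042) (l := 0) rfl N21042 D68212
theorem N41529 : nd 41529 = n68213 := ndS (p := 21042) (l := 1) rfl N21042 D68213
theorem N41530 : nd 41530 = n68214 := ndS (p := 21042) (l := 3) rfl N21042 D68214
theorem N41531 : nd 41531 = n68215 := ndS (p := 21042) (l := 5) rfl N21042 D68215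
theorem N41532 : nd 41532 = n68216 := ndS (p := 21042) (l := 6) rfl N21042 D68216
theorem N41533 : nd 41533 = n68220 := ndS (p := 21043) (l := 4) rfl N21043 D68220
theorem N41534 : nd 41534 = n68221 := ndS (p := 21043) (l := 6) rfl N21043 D68221
theorem N41535 : nd 41535 = n68223 := ndS (p := 21044) (l := 0) rfl N21044 D68223
theorem N41536 : nd 41536 = n68225 := ndS (p := 21044) (l := 5) rfl N21044 D68225
theorem N41537 : nd 41537 = n68226 := ndS (p := 21044) (l := 7) rfl N21044 D68226
theorem N41538 : nd 41538 = n68228 := ndS (p := 21045) (l := 0) rfl N21045 D68228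
theorem N41539 : nd 41539 = n68230 := ndS (p := 21045) (l := 2) rfl N21045 D68230
theorem N41540 : nd 41540 = n68231 := ndS (p := 21045) (l := 4) rfl N21045 D68231
theorem N41541 : nd 41541 = n68232 := ndS (p := 21045) (l := 5) rfl N21045 D68232
theorem N41542 : nd 41542 = n68233 := ndS (p := 21045) (l := 6) rfl N21045 D68233
theorem N41543 : nd 41543 = n68234 := ndS (p := 21046) (l := 5) rfl N21046 D68234
theorem N41544 : nd 41544 = n68235 := ndS (p := 21046) (l := 6) rfl N21046 D68235
theorem N41545 : nd 41545 = n68236 := ndS (p := 21047) (l := 4) rfl N21047 D68236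
theorem N41546 : nd 41546 = n68237 := ndS (p := 21047) (l := 6) rfl N21047 D68237
theorem N41547 : nd 41547 = n68239 := ndS (p := 21048) (l := 1) rfl N21048 D68239
theorem N41548 : nd 41548 = n68240 := ndS (p := 21048) (l := 5) rfl N21048 D68240
theorem N41549 : nd 41549 = n68241 := ndS (p := 21048) (l := 7) rfl N21048 D68241
theorem N41550 : nd 41550 = n68242 := ndS (p := 21049) (l := 0) rfl N21049 D68242
theorem N41551 : nd 41551 = n68243 := ndS (p := 21049) (l := 1) rfl N21049 D68243
theorem N41552 : nd 41552 = n68244 := ndS (p := 21049) (l := 5) rfl N21049 D68244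
theorem N41553 : nd 41553 = n68245 := ndS (p := 21049) (l := 7) rfl N21049 D68245
theorem N41554 : nd 41554 = n68247 := ndS (p := 21050) (l := 3) rfl N21050 D68247
theorem N41555 : nd 41555 = n68248 := ndS (p := 21050) (l := 4) rfl N21050 D68248
theorem N41556 : nd 41556 = n68249 := ndS (p := 21050) (l := 5) rfl N21050 D68249
theorem N41557 : nd 41557 = n68250 := ndS (p := 21050) (l := 6) rfl N21050 D68250
theorem N41558 : nd 41558 = n68252 := ndS (p := 21051) (l := 3) rfl N21051 D68252
theorem N41559 : nd 41559 = n68253 := ndS (p := 21051) (l := 4) rfl N21051 D68253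
theorem N41560 : nd 41560 = n68254 := ndS (p := 21051) (l := 5) rfl N21051 D68254
theorem N41561 : nd 41561 = n68258 := ndS (p := 21052) (l := 4) rfl N21052 D68258
theorem N41562 : nd 41562 = n68259 := ndS (p := 21052) (l := 7) rfl N21052 D68259
theorem N41563 : nd 41563 = n68260 := ndS (p := 21054) (l := 3) rfl N21054 D68260
theorem N41564 : nd 41564 = n68264 := ndS (p := 21055) (l := 0) rfl N21055 D68264
theorem N41565 : nd 41565 = n68266 := ndS (p := 21055) (l := 3) rfl N21055 D68266
theorem N41566 : nd 41566 = n68268 := ndS (p := 21055) (l := 7) rfl N21055 D68268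
theorem N41567 : nd 41567 = n68270 := ndS (p := 21057) (l := 4) rfl N21057 D68270
theorem N41568 : nd 41568 = n68271 := ndS (p := 21058) (l := 4) rfl N21058 D68271
theorem N41569 : nd 41569 = n68272 := ndS (p := 21058) (l := 6) rfl N21058 D68272
theorem N41570 : nd 41570 = n68273 := ndS (p := 21059) (l := 0) rfl N21059 D68273
theorem N41571 : nd 41571 = n68274 := ndS (p := 21059) (l := 3) rfl N21059 D68274
theorem N41572 : nd 41572 = n68275 := ndS (p := 21059) (l := 5) rfl N21059 D68275
theorem N41573 : nd 41573 = n68276 := ndS (p := 21059) (l := 6) rfl N21059 D68276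
theorem N41574 : nd 41574 = n68277 := ndS (p := 21060) (l := 0) rfl N21060 D68277
theorem N41575 : nd 41575 = n68278 := ndS (p := 21060) (l := 1) rfl N21060 D68278
theorem N41576 : nd 41576 = n68281 := ndS (p := 21061) (l := 2) rfl N21061 D68281
theorem N41577 : nd 41577 = n68282 := ndS (p := 21061) (l := 5) rfl N21061 D68282
theorem N41578 : nd 41578 = n68283 := ndS (p := 21061) (l := 6) rfl N21061 D68283
theorem N41579 : nd 41579 = n68284 := ndS (p := 21062) (l := 1) rfl N21062 D68284
theorem N41580 : nd 41580 = n68285 := ndS (p := 21062) (l := 4) rfl N21062 D68285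
theorem N41581 : nd 41581 = n68286 := ndS (p := 21062) (l := 6) rfl N21062 D68286
theorem N41582 : nd 41582 = n68288 := ndS (p := 21064) (l := 5) rfl N21064 D68288
theorem N41583 : nd 41583 = n68298 := ndS (p := 21066) (l := 4) rfl N21066 D68298
theorem N41584 : nd 41584 = n68299 := ndS (p := 21066) (l := 5) rfl N21066 D68299
theorem N41585 : nd 41585 = n68302 := ndS (p := 21068) (l := 4) rfl N21068 D68302
theorem N41586 : nd 41586 = n68306 := ndS (p := 21069) (l := 4) rfl N21069 D68306
theorem N41587 : nd 41587 = n68309 := ndS (p := 21071) (l := 0) rfl N21071 D68309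
theorem N41588 : nd 41588 = n68325 := ndS (p := 21075) (l := 5) rfl N21075 D68325
theorem N41589 : nd 41589 = n68326 := ndS (p := 21076) (l := 4) rfl N21076 D68326
theorem N41590 : nd 41590 = n68327 := ndS (p := 21076) (l := 6) rfl N21076 D68327
theorem N41591 : nd 41591 = n68328 := ndS (p := 21077) (l := 3) rfl N21077 D68328
theorem N41592 : nd 41592 = n68329 := ndS (p := 21077) (l := 6) rfl N21077 D68329
theorem N41593 : nd 41593 = n68331 := ndS (p := 21078) (l := 1) rfl N21078 D68331
theorem N41594 : nd 41594 = n68332 := ndS (p := 21078) (l := 7) rfl N21078 D68332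
theorem N41595 : nd 41595 = n68333 := ndS (p := 21079) (l := 6) rfl N21079 D68333
theorem N41596 : nd 41596 = n68334 := ndS (p := 21080) (l := 0) rfl N21080 D68334
theorem N41597 : nd 41597 = n68336 := ndS (p := 21081) (l := 6) rfl N21081 D68336
theorem N41598 : nd 41598 = n68337 := ndS (p := 21082) (l := 3) rfl N21082 D68337
theorem N41599 : nd 41599 = n68338 := ndS (p := 21082) (l := 6) rfl N21082 D68338
theorem N41600 : nd 41600 = n68341 := ndS (p := 21084) (l := 6) rfl N21084 D68341
theorem N41601 : nd 41601 = n68342 := ndS (p := 21085) (l := 3) rfl N21085 D68342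
theorem N41602 : nd 41602 = n68343 := ndS (p := 21085) (l := 6) rfl N21085 D68343
theorem N41603 : nd 41603 = n68347 := ndS (p := 21087) (l := 3) rfl N21087 D68347
theorem N41604 : nd 41604 = n68348 := ndS (p := 21087) (l := 6) rfl N21087 D68348
theorem N41605 : nd 41605 = n68349 := ndS (p := 21088) (l := 3) rfl N21088 D68349
theorem N41606 : nd 41606 = n68350 := ndS (p := 21088) (l := 6) rfl N21088 D68350
theorem N41607 : nd 41607 = n68351 := ndS (p := 21089) (l := 6) rfl N21089 D68351
theorem N41608 : nd 41608 = n68352 := ndS (p := 21090) (l := 0) rfl N21090 D68352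
theorem N41609 : nd 41609 = n68353 := ndS (p := 21090) (l := 1) rfl N21090 D68353
theorem N41610 : nd 41610 = n68354 := ndS (p := 21090) (l := 5) rfl N21090 D68354
theorem N41611 : nd 41611 = n68355 := ndS (p := 21090) (l := 7) rfl N21090 D68355
theorem N41612 : nd 41612 = n68356 := ndS (p := 21091) (l := 3) rfl N21091 D68356
theorem N41613 : nd 41613 = n68357 := ndS (p := 21091) (l := 4) rfl N21091 D68357
theorem N41614 : nd 41614 = n68358 := ndS (p := 21091) (l := 6) rfl N21091 D68358
theorem N41615 : nd 41615 = n68359 := ndS (p := 21092) (l := 3) rfl N21092 D68359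
theorem N41616 : nd 41616 = n68360 := ndS (p := 21092) (l := 4) rfl N21092 D68360
theorem N41617 : nd 41617 = n68372 := ndS (p := 21094) (l := 6) rfl N21094 D68372
theorem N41618 : nd 41618 = n68386 := ndS (p := 21095) (l := 7) rfl N21095 D68386
theorem N41619 : nd 41619 = n68409 := ndS (p := 21098) (l := 6) rfl N21098 D68409
theorem N41620 : nd 41620 = n68410 := ndS (p := 21099) (l := 5) rfl N21099 D68410
theorem N41621 : nd 41621 = n68411 := ndS (p := 21100) (l := 6) rfl N21100 D68411
theorem N41622 : nd 41622 = n68412 := ndS (p := 21101) (l := 3) rfl N21101 D68412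
theorem N41623 : nd 41623 = n68413 := ndS (p := 21101) (l := 5) rfl N21101 D68413
theorem N41624 : nd 41624 = n68415 := ndS (p := 21102) (l := 0) rfl N21102 D68415
theorem N41625 : nd 41625 = n68416 := ndS (p := 21102) (l := 1) rfl N21102 D68416
theorem N41626 : nd 41626 = n68417 := ndS (p := 21102) (l := 7) rfl N21102 D68417
theorem N41627 : nd 41627 = n68418 := ndS (p := 21103) (l := 2) rfl N21103 D68418
theorem N41628 : nd 41628 = n68419 := ndS (p := 21103) (l := 6) rfl N21103 D68419
theorem N41629 : nd 41629 = n68420 := ndS (p := 21104) (l := 1) rfl N21104 D68420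
theorem N41630 : nd 41630 = n68421 := ndS (p := 21104) (l := 3) rfl N21104 D68421
theorem N41631 : nd 41631 = n68422 := ndS (p := 21104) (l := 5) rfl N21104 D68422
theorem N41632 : nd 41632 = n68423 := ndS (p := 21104) (l := 6) rfl N21104 D68423
theorem N41633 : nd 41633 = n68425 := ndS (p := 21105) (l := 1) rfl N21105 D68425
theorem N41634 : nd 41634 = n68426 := ndS (p := 21105) (l := 7) rfl N21105 D68426
theorem N41635 : nd 41635 = n68427 := ndS (p := 21106) (l := 4) rfl N21106 D68427
theorem N41636 : nd 41636 = n68428 := ndS (p := 21106) (l := 6) rfl N21106 D68428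
theorem N41637 : nd 41637 = n68429 := ndS (p := 21107) (l := 3) rfl N21107 D68429
theorem N41638 : nd 41638 = n68430 := ndS (p := 21107) (l := 5) rfl N21107 D68430
theorem N41639 : nd 41639 = n68431 := ndS (p := 21107) (l := 6) rfl N21107 D68431
theorem N41640 : nd 41640 = n68433 := ndS (p := 21108) (l := 1) rfl N21108 D68433
theorem N41641 : nd 41641 = n68434 := ndS (p := 21108) (l := 7) rfl N21108 D68434
theorem N41642 : nd 41642 = n68435 := ndS (p := 21109) (l := 3) rfl N21109 D68435
theorem N41643 : nd 41643 = n68436 := ndS (p := 21109) (l := 5) rfl N21109 D68436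
theorem N41644 : nd 41644 = n68437 := ndS (p := 21109) (l := 6) rfl N21109 D68437
theorem N41645 : nd 41645 = n68438 := ndS (p := 21110) (l := 3) rfl N21110 D68438
theorem N41646 : nd 41646 = n68439 := ndS (p := 21110) (l := 5) rfl N21110 D68439
theorem N41647 : nd 41647 = n68440 := ndS (p := 21110) (l := 6) rfl N21110 D68440
theorem N41648 : nd 41648 = n68441 := ndS (p := 21111) (l := 4) rfl N21111 D68441
theorem N41649 : nd 41649 = n68442 := ndS (p := 21111) (l := 6) rfl N21111 D68442
theorem N41650 : nd 41650 = n68445 := ndS (p := 21112) (l := 5) rfl N21112 D68445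
theorem N41651 : nd 41651 = n68448 := ndS (p := 21113) (l := 3) rfl N21113 D68448
theorem N41652 : nd 41652 = n68450 := ndS (p := 21113) (l := 5) rfl N21113 D68450
theorem N41653 : nd 41653 = n68453 := ndS (p := 21114) (l := 3) rfl N21114 D68453
theorem N41654 : nd 41654 = n68454 := ndS (p := 21114) (l := 4) rfl N21114 D68454
theorem N41655 : nd 41655 = n68455 := ndS (p := 21114) (l := 6) rfl N21114 D68455
theorem N41656 : nd 41656 = n68456 := ndS (p := 21116) (l := 0) rfl N21116 D68456
theorem N41657 : nd 41657 = n68457 := ndS (p := 21116) (l := 5) rfl N21116 D68457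
theorem N41658 : nd 41658 = n68458 := ndS (p := 21116) (l := 6) rfl N21116 D68458
theorem N41659 : nd 41659 = n68459 := ndS (p := 21117) (l := 0) rfl N21117 D68459
theorem N41660 : nd 41660 = n68460 := ndS (p := 21117) (l := 1) rfl N21117 D68460
theorem N41661 : nd 41661 = n68461 := ndS (p := 21117) (l := 7) rfl N21117 D68461
theorem N41662 : nd 41662 = n68466 := ndS (p := 21118) (l := 6) rfl N21118 D68466
theorem N41663 : nd 41663 = n68472 := ndS (p := 21121) (l := 4) rfl N21121 D68472
theorem N41664 : nd 41664 = n68473 := ndS (p := 21121) (l := 6) rfl N21121 D68473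
theorem N41665 : nd 41665 = n68474 := ndS (p := 21122) (l := 1) rfl N21122 D68474
theorem N41666 : nd 41666 = n68478 := ndS (p := 21123) (l := 1) rfl N21123 D68478
theorem N41667 : nd 41667 = n68479 := ndS (p := 21123) (l := 7) rfl N21123 D68479
theorem N41668 : nd 41668 = n68480 := ndS (p := 21124) (l := 3) rfl N21124 D68480
theorem N41669 : nd 41669 = n68500 := ndS (p := 21126) (l := 1) rfl N21126 D68500
theorem N41670 : nd 41670 = n68507 := ndS (p := 21127) (l := 1) rfl N21127 D68507
theorem N41671 : nd 41671 = n68508 := ndS (p := 21127) (l := 2) rfl N21127 D68508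
theorem N41672 : nd 41672 = n68509 := ndS (p := 21127) (l := 4) rfl N21127 D68509
theorem N41673 : nd 41673 = n68510 := ndS (p := 21127) (l := 5) rfl N21127 D68510
theorem N41674 : nd 41674 = n68516 := ndS (p := 21129) (l := 0) rfl N21129 D68516
theorem N41675 : nd 41675 = n68518 := ndS (p := 21129) (l := 5) rfl N21129 D68518
theorem N41676 : nd 41676 = n68521 := ndS (p := 21130) (l := 3) rfl N21130 D68521
theorem N41677 : nd 41677 = n68522 := ndS (p := 21130) (l := 4) rfl N21130 D68522
theorem N41678 : nd 41678 = n68523 := ndS (p := 21130) (l := 6) rfl N21130 D68523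
theorem N41679 : nd 41679 = n68525 := ndS (p := 21131) (l := 3) rfl N21131 D68525
theorem N41680 : nd 41680 = n68526 := ndS (p := 21131) (l := 4) rfl N21131 D68526
theorem N41681 : nd 41681 = n68528 := ndS (p := 21132) (l := 0) rfl N21132 D68528
theorem N41682 : nd 41682 = n68529 := ndS (p := 21132) (l := 1) rfl N21132 D68529
theorem N41683 : nd 41683 = n68530 := ndS (p := 21132) (l := 3) rfl N21132 D68530
theorem N41684 : nd 41684 = n68533 := ndS (p := 21133) (l := 6) rfl N21133 D68533
theorem N41685 : nd 41685 = n68534 := ndS (p := 21134) (l := 6) rfl N21134 D68534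
theorem N41686 : nd 41686 = n68535 := ndS (p := 21135) (l := 3) rfl N21135 D68535
theorem N41687 : nd 41687 = n68536 := ndS (p := 21135) (l := 6) rfl N21135 D68536
theorem N41688 : nd 41688 = n68537 := ndS (p := 21136) (l := 0) rfl N21136 D68537
theorem N41689 : nd 41689 = n68539 := ndS (p := 21136) (l := 7) rfl N21136 D68539
theorem N41690 : nd 41690 = n68540 := ndS (p := 21137) (l := 3) rfl N21137 D68540
theorem N41691 : nd 41691 = n68541 := ndS (p := 21137) (l := 6) rfl N21137 D68541
theorem N41692 : nd 41692 = n68542 := ndS (p := 21138) (l := 0) rfl N21138 D68542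
theorem N41693 : nd 41693 = n68543 := ndS (p := 21138) (l := 1) rfl N21138 D68543
theorem N41694 : nd 41694 = n68544 := ndS (p := 21138) (l := 2) rfl N21138 D68544
theorem N41695 : nd 41695 = n68545 := ndS (p := 21139) (l := 0) rfl N21139 D68545
theorem N41696 : nd 41696 = n68546 := ndS (p := 21139) (l := 1) rfl N21139 D68546
theorem N41697 : nd 41697 = n68547 := ndS (p := 21140) (l := 4) rfl N21140 D68547
theorem N41698 : nd 41698 = n68548 := ndS (p := 21140) (l := 6) rfl N21140 D68548
theorem N41699 : nd 41699 = n68552 := ndS (p := 21142) (l := 6) rfl N21142 D68552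
theorem N41700 : nd 41700 = n68554 := ndS (p := 21143) (l := 7) rfl N21143 D68554
theorem N41701 : nd 41701 = n68555 := ndS (p := 21144) (l := 0) rfl N21144 D68555
theorem N41702 : nd 41702 = n68557 := ndS (p := 21144) (l := 5) rfl N21144 D68557
theorem N41703 : nd 41703 = n68558 := ndS (p := 21144) (l := 7) rfl N21144 D68558
theorem N41704 : nd 41704 = n68560 := ndS (p := 21145) (l := 3) rfl N21145 D68560
theorem N41705 : nd 41705 = n68565 := ndS (p := 21146) (l := 3) rfl N21146 D68565
theorem N41706 : nd 41706 = n68571 := ndS (p := 21147) (l := 7) rfl N21147 D68571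
theorem N41707 : nd 41707 = n68572 := ndS (p := 21149) (l := 0) rfl N21149 D68572
theorem N41708 : nd 41708 = n68574 := ndS (p := 21149) (l := 2) rfl N21149 D68574
theorem N41709 : nd 41709 = n68581 := ndS (p := 21150) (l := 5) rfl N21150 D68581
theorem N41710 : nd 41710 = n68592 := ndS (p := 21151) (l := 4) rfl N21151 D68592
theorem N41711 : nd 41711 = n68593 := ndS (p := 21151) (l := 5) rfl N21151 D68593
theorem N41712 : nd 41712 = n68594 := ndS (p := 21152) (l := 3) rfl N21152 D68594
theorem N41713 : nd 41713 = n68595 := ndS (p := 21152) (l := 5) rfl N21152 D68595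
theorem N41714 : nd 41714 = n68598 := ndS (p := 21154) (l := 3) rfl N21154 D68598
theorem N41715 : nd 41715 = n68611 := ndS (p := 21160) (l := 1) rfl N21160 D68611
theorem N41716 : nd 41716 = n68612 := ndS (p := 21160) (l := 6) rfl N21160 D68612
theorem N41717 : nd 41717 = n68613 := ndS (p := 21161) (l := 5) rfl N21161 D68613
theorem N41718 : nd 41718 = n68614 := ndS (p := 21162) (l := 5) rfl N21162 D68614
theorem N41719 : nd 41719 = n68615 := ndS (p := 21163) (l := 0) rfl N21163 D68615
theorem N41720 : nd 41720 = n68616 := ndS (p := 21163) (l := 1) rfl N21163 D68616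
theorem N41721 : nd 41721 = n68617 := ndS (p := 21163) (l := 4) rfl N21163 D68617
theorem N41722 : nd 41722 = n68619 := ndS (p := 21164) (l := 5) rfl N21164 D68619
theorem N41723 : nd 41723 = n68620 := ndS (p := 21165) (l := 1) rfl N21165 D68620
theorem N41724 : nd 41724 = n68622 := ndS (p := 21165) (l := 5) rfl N21165 D68622
theorem N41725 : nd 41725 = n68623 := ndS (p := 21165) (l := 6) rfl N21165 D68623
theorem N41726 : nd 41726 = n68624 := ndS (p := 21166) (l := 0) rfl N21166 D68624
theorem N41727 : nd 41727 = n68626 := ndS (p := 21166) (l := 5) rfl N21166 D68626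
theorem N41728 : nd 41728 = n68627 := ndS (p := 21166) (l := 7) rfl N21166 D68627
theorem N41729 : nd 41729 = n68628 := ndS (p := 21167) (l := 4) rfl N21167 D68628
theorem N41730 : nd 41730 = n68629 := ndS (p := 21168) (l := 5) rfl N21168 D68629
theorem N41731 : nd 41731 = n68630 := ndS (p := 21169) (l := 4) rfl N21169 D68630
theorem N41732 : nd 41732 = n68631 := ndS (p := 21169) (l := 6) rfl N21169 D68631
theorem N41733 : nd 41733 = n68632 := ndS (p := 21170) (l := 4) rfl N21170 D68632
theorem N41734 : nd 41734 = n68633 := ndS (p := 21170) (l := 6) rfl N21170 D68633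
theorem N41735 : nd 41735 = n68634 := ndS (p := 21171) (l := 3) rfl N21171 D68634
theorem N41736 : nd 41736 = n68635 := ndS (p := 21171) (l := 5) rfl N21171 D68635
theorem N41737 : nd 41737 = n68636 := ndS (p := 21171) (l := 6) rfl N21171 D68636
theorem N41738 : nd 41738 = n68640 := ndS (p := 21173) (l := 5) rfl N21173 D68640
theorem N41739 : nd 41739 = n68641 := ndS (p := 21174) (l := 4) rfl N21174 D68641
theorem N41740 : nd 41740 = n68642 := ndS (p := 21174) (l := 6) rfl N21174 D68642
theorem N41741 : nd 41741 = n68643 := ndS (p := 21175) (l := 3) rfl N21175 D68643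
theorem N41742 : nd 41742 = n68644 := ndS (p := 21175) (l := 5) rfl N21175 D68644
theorem N41743 : nd 41743 = n68645 := ndS (p := 21175) (l := 6) rfl N21175 D68645
theorem N41744 : nd 41744 = n68646 := ndS (p := 21176) (l := 0) rfl N21176 D68646
theorem N41745 : nd 41745 = n68647 := ndS (p := 21176) (l := 1) rfl N21176 D68647
theorem N41746 : nd 41746 = n68648 := ndS (p := 21176) (l := 7) rfl N21176 D68648
theorem N41747 : nd 41747 = n68649 := ndS (p := 21177) (l := 5) rfl N21177 D68649
theorem N41748 : nd 41748 = n68650 := ndS (p := 21178) (l := 0) rfl N21178 D68650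
theorem N41749 : nd 41749 = n68651 := ndS (p := 21178) (l := 4) rfl N21178 D68651
theorem N41750 : nd 41750 = n68652 := ndS (p := 21178) (l := 6) rfl N21178 D68652
theorem N41751 : nd 41751 = n68653 := ndS (p := 21179) (l := 5) rfl N21179 D68653
theorem N41752 : nd 41752 = n68654 := ndS (p := 21180) (l := 5) rfl N21180 D68654
theorem N41753 : nd 41753 = n68655 := ndS (p := 21181) (l := 4) rfl N21181 D68655
theorem N41754 : nd 41754 = n68656 := ndS (p := 21181) (l := 6) rfl N21181 D68656
theorem N41755 : nd 41755 = n68657 := ndS (p := 21182) (l := 3) rfl N21182 D68657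
theorem N41756 : nd 41756 = n68658 := ndS (p := 21182) (l := 4) rfl N21182 D68658
theorem N41757 : nd 41757 = n68659 := ndS (p := 21182) (l := 6) rfl N21182 D68659
theorem N41758 : nd 41758 = n68660 := ndS (p := 21183) (l := 4) rfl N21183 D68660
theorem N41759 : nd 41759 = n68661 := ndS (p := 21183) (l := 6) rfl N21183 D68661
theorem N41760 : nd 41760 = n68663 := ndS (p := 21184) (l := 1) rfl N21184 D68663
theorem N41761 : nd 41761 = n68664 := ndS (p := 21184) (l := 3) rfl N21184 D68664
theorem N41762 : nd 41762 = n68665 := ndS (p := 21184) (l := 5) rfl N21184 D68665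
theorem N41763 : nd 41763 = n68666 := ndS (p := 21184) (l := 6) rfl N21184 D68666
theorem N41764 : nd 41764 = n68668 := ndS (p := 21185) (l := 1) rfl N21185 D68668
theorem N41765 : nd 41765 = n68669 := ndS (p := 21185) (l := 5) rfl N21185 D68669
theorem N41766 : nd 41766 = n68670 := ndS (p := 21185) (l := 7) rfl N21185 D68670
theorem N41767 : nd 41767 = n68671 := ndS (p := 21186) (l := 5) rfl N21186 D68671
theorem N41768 : nd 41768 = n68672 := ndS (p := 21187) (l := 4) rfl N21187 D68672
theorem N41769 : nd 41769 = n68673 := ndS (p := 21189) (l := 1) rfl N21189 D68673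
theorem N41770 : nd 41770 = n68674 := ndS (p := 21189) (l := 3) rfl N21189 D68674
theorem N41771 : nd 41771 = n68675 := ndS (p := 21189) (l := 5) rfl N21189 D68675
theorem N41772 : nd 41772 = n68676 := ndS (p := 21189) (l := 6) rfl N21189 D68676
theorem N41773 : nd 41773 = n68678 := ndS (p := 21190) (l := 1) rfl N21190 D68678
theorem N41774 : nd 41774 = n68679 := ndS (p := 21190) (l := 7) rfl N21190 D68679
theorem N41775 : nd 41775 = n68680 := ndS (p := 21191) (l := 4) rfl N21191 D68680
theorem N41776 : nd 41776 = n68681 := ndS (p := 21191) (l := 6) rfl N21191 D68681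
theorem N41777 : nd 41777 = n68682 := ndS (p := 21192) (l := 3) rfl N21192 D68682
theorem N41778 : nd 41778 = n68683 := ndS (p := 21192) (l := 5) rfl N21192 D68683
theorem N41779 : nd 41779 = n68684 := ndS (p := 21192) (l := 6) rfl N21192 D68684
theorem N41780 : nd 41780 = n68686 := ndS (p := 21193) (l := 1) rfl N21193 D68686
theorem N41781 : nd 41781 = n68687 := ndS (p := 21193) (l := 5) rfl N21193 D68687
theorem N41782 : nd 41782 = n68688 := ndS (p := 21193) (l := 7) rfl N21193 D68688
theorem N41783 : nd 41783 = n68689 := ndS (p := 21194) (l := 3) rfl N21194 D68689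
theorem N41784 : nd 41784 = n68690 := ndS (p := 21194) (l := 5) rfl N21194 D68690
theorem N41785 : nd 41785 = n68691 := ndS (p := 21194) (l := 6) rfl N21194 D68691
theorem N41786 : nd 41786 = n68692 := ndS (p := 21195) (l := 3) rfl N21195 D68692
theorem N41787 : nd 41787 = n68693 := ndS (p := 21195) (l := 5) rfl N21195 D68693
theorem N41788 : nd 41788 = n68694 := ndS (p := 21195) (l := 6) rfl N21195 D68694
theorem N41789 : nd 41789 = n68695 := ndS (p := 21196) (l := 0) rfl N21196 D68695
theorem N41790 : nd 41790 = n68696 := ndS (p := 21196) (l := 1) rfl N21196 D68696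
theorem N41791 : nd 41791 = n68697 := ndS (p := 21196) (l := 4) rfl N21196 D68697
theorem N41792 : nd 41792 = n68698 := ndS (p := 21196) (l := 6) rfl N21196 D68698
theorem N41793 : nd 41793 = n68699 := ndS (p := 21197) (l := 0) rfl N21197 D68699
theorem N41794 : nd 41794 = n68700 := ndS (p := 21197) (l := 1) rfl N21197 D68700
theorem N41795 : nd 41795 = n68701 := ndS (p := 21197) (l := 5) rfl N21197 D68701
theorem N41796 : nd 41796 = n68702 := ndS (p := 21197) (l := 7) rfl N21197 D68702
theorem N41797 : nd 41797 = n68706 := ndS (p := 21198) (l := 5) rfl N21198 D68706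
theorem N41798 : nd 41798 = n68709 := ndS (p := 21199) (l := 3) rfl N21199 D68709
theorem N41799 : nd 41799 = n68710 := ndS (p := 21199) (l := 4) rfl N21199 D68710
theorem N41800 : nd 41800 = n68711 := ndS (p := 21199) (l := 5) rfl N21199 D68711
theorem N41801 : nd 41801 = n68712 := ndS (p := 21199) (l := 6) rfl N21199 D68712
theorem N41802 : nd 41802 = n68713 := ndS (p := 21200) (l := 0) rfl N21200 D68713
theorem N41803 : nd 41803 = n68715 := ndS (p := 21200) (l := 4) rfl N21200 D68715
theorem N41804 : nd 41804 = n68716 := ndS (p := 21200) (l := 7) rfl N21200 D68716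
theorem N41805 : nd 41805 = n68717 := ndS (p := 21202) (l := 5) rfl N21202 D68717
theorem N41806 : nd 41806 = n68718 := ndS (p := 21203) (l := 4) rfl N21203 D68718
theorem N41807 : nd 41807 = n68719 := ndS (p := 21203) (l := 6) rfl N21203 D68719
theorem N41808 : nd 41808 = n68720 := ndS (p := 21204) (l := 3) rfl N21204 D68720
theorem N41809 : nd 41809 = n68721 := ndS (p := 21204) (l := 5) rfl N21204 D68721
theorem N41810 : nd 41810 = n68722 := ndS (p := 21205) (l := 6) rfl N21205 D68722
theorem N41811 : nd 41811 = n68725 := ndS (p := 21206) (l := 6) rfl N21206 D68725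
theorem N41812 : nd 41812 = n68726 := ndS (p := 21207) (l := 0) rfl N21207 D68726
theorem N41813 : nd 41813 = n68728 := ndS (p := 21207) (l := 7) rfl N21207 D68728
theorem N41814 : nd 41814 = n68730 := ndS (p := 21208) (l := 3) rfl N21208 D68730
theorem N41815 : nd 41815 = n68732 := ndS (p := 21208) (l := 5) rfl N21208 D68732
theorem N41816 : nd 41816 = n68733 := ndS (p := 21208) (l := 6) rfl N21208 D68733
theorem N41817 : nd 41817 = n68739 := ndS (p := 21211) (l := 4) rfl N21211 D68739
theorem N41818 : nd 41818 = n68740 := ndS (p := 21211) (l := 6) rfl N21211 D68740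
theorem N41819 : nd 41819 = n68741 := ndS (p := 21212) (l := 5) rfl N21212 D68741
theorem N41820 : nd 41820 = n68742 := ndS (p := 21212) (l := 6) rfl N21212 D68742
theorem N41821 : nd 41821 = n68743 := ndS (p := 21213) (l := 0) rfl N21213 D68743
theorem N41822 : nd 41822 = n68744 := ndS (p := 21213) (l := 1) rfl N21213 D68744
theorem N41823 : nd 41823 = n68745 := ndS (p := 21213) (l := 7) rfl N21213 D68745
theorem N41824 : nd 41824 = n68746 := ndS (p := 21214) (l := 3) rfl N21214 D68746
theorem N41825 : nd 41825 = n68756 := ndS (p := 21216) (l := 4) rfl N21216 D68756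
theorem N41826 : nd 41826 = n68757 := ndS (p := 21216) (l := 5) rfl N21216 D68757
theorem N41827 : nd 41827 = n68766 := ndS (p := 21217) (l := 1) rfl N21217 D68766
theorem N41828 : nd 41828 = n68768 := ndS (p := 21217) (l := 6) rfl N21217 D68768
theorem N41829 : nd 41829 = n68773 := ndS (p := 21218) (l := 1) rfl N21218 D68773
theorem N41830 : nd 41830 = n68774 := ndS (p := 21218) (l := 2) rfl N21218 D68774
theorem N41831 : nd 41831 = n68775 := ndS (p := 21218) (l := 4) rfl N21218 D68775
theorem N41832 : nd 41832 = n68776 := ndS (p := 21218) (l := 5) rfl N21218 D68776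
theorem N41833 : nd 41833 = n68777 := ndS (p := 21218) (l := 6) rfl N21218 D68777
theorem N41834 : nd 41834 = n68782 := ndS (p := 21219) (l := 6) rfl N21219 D68782
theorem N41835 : nd 41835 = n68785 := ndS (p := 21220) (l := 5) rfl N21220 D68785
theorem N41836 : nd 41836 = n68790 := ndS (p := 21221) (l := 6) rfl N21221 D68790
theorem N41837 : nd 41837 = n68792 := ndS (p := 21222) (l := 3) rfl N21222 D68792
theorem N41838 : nd 41838 = n68793 := ndS (p := 21222) (l := 6) rfl N21222 D68793
theorem N41839 : nd 41839 = n68794 := ndS (p := 21223) (l := 0) rfl N21223 D68794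
theorem N41840 : nd 41840 = n68795 := ndS (p := 21223) (l := 1) rfl N21223 D68795
theorem N41841 : nd 41841 = n68796 := ndS (p := 21223) (l := 3) rfl N21223 D68796
theorem N41842 : nd 41842 = n68799 := ndS (p := 21224) (l := 6) rfl N21224 D68799
theorem N41843 : nd 41843 = n68800 := ndS (p := 21225) (l := 6) rfl N21225 D68800
theorem N41844 : nd 41844 = n68801 := ndS (p := 21226) (l := 0) rfl N21226 D68801
theorem N41845 : nd 41845 = n68802 := ndS (p := 21226) (l := 1) rfl N21226 D68802
theorem N41846 : nd 41846 = n68803 := ndS (p := 21227) (l := 0) rfl N21227 D68803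
theorem N41847 : nd 41847 = n68804 := ndS (p := 21227) (l := 1) rfl N21227 D68804
theorem N41848 : nd 41848 = n68805 := ndS (p := 21227) (l := 2) rfl N21227 D68805
theorem N41849 : nd 41849 = n68806 := ndS (p := 21227) (l := 5) rfl N21227 D68806
theorem N41850 : nd 41850 = n68807 := ndS (p := 21227) (l := 7) rfl N21227 D68807
theorem N41851 : nd 41851 = n68808 := ndS (p := 21228) (l := 6) rfl N21228 D68808
theorem N41852 : nd 41852 = n68809 := ndS (p := 21229) (l := 6) rfl N21229 D68809
theorem N41853 : nd 41853 = n68810 := ndS (p := 21230) (l := 0) rfl N21230 D68810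
theorem N41854 : nd 41854 = n68811 := ndS (p := 21230) (l := 1) rfl N21230 D68811
theorem N41855 : nd 41855 = n68812 := ndS (p := 21231) (l := 0) rfl N21231 D68812
theorem N41856 : nd 41856 = n68813 := ndS (p := 21231) (l := 4) rfl N21231 D68813
theorem N41857 : nd 41857 = n68815 := ndS (p := 21232) (l := 0) rfl N21232 D68815
theorem N41858 : nd 41858 = n68816 := ndS (p := 21232) (l := 1) rfl N21232 D68816
theorem N41859 : nd 41859 = n68817 := ndS (p := 21232) (l := 3) rfl N21232 D68817
theorem N41860 : nd 41860 = n68818 := ndS (p := 21232) (l := 5) rfl N21232 D68818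
theorem N41861 : nd 41861 = n68819 := ndS (p := 21232) (l := 6) rfl N21232 D68819
theorem N41862 : nd 41862 = n68823 := ndS (p := 21234) (l := 6) rfl N21234 D68823
theorem N41863 : nd 41863 = n68824 := ndS (p := 21235) (l := 4) rfl N21235 D68824
theorem N41864 : nd 41864 = n68825 := ndS (p := 21235) (l := 6) rfl N21235 D68825
theorem N41865 : nd 41865 = n68826 := ndS (p := 21236) (l := 3) rfl N21236 D68826
theorem N41866 : nd 41866 = n68827 := ndS (p := 21236) (l := 5) rfl N21236 D68827
theorem N41867 : nd 41867 = n68828 := ndS (p := 21236) (l := 6) rfl N21236 D68828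
theorem N41868 : nd 41868 = n68831 := ndS (p := 21237) (l := 7) rfl N21237 D68831
theorem N41869 : nd 41869 = n68832 := ndS (p := 21238) (l := 4) rfl N21238 D68832
theorem N41870 : nd 41870 = n68833 := ndS (p := 21239) (l := 3) rfl N21239 D68833
theorem N41871 : nd 41871 = n68834 := ndS (p := 21239) (l := 5) rfl N21239 D68834
theorem N41872 : nd 41872 = n68835 := ndS (p := 21239) (l := 6) rfl N21239 D68835
theorem N41873 : nd 41873 = n68836 := ndS (p := 21240) (l := 0) rfl N21240 D68836
theorem N41874 : nd 41874 = n68837 := ndS (p := 21240) (l := 1) rfl N21240 D68837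
theorem N41875 : nd 41875 = n68838 := ndS (p := 21240) (l := 5) rfl N21240 D68838
theorem N41876 : nd 41876 = n68839 := ndS (p := 21240) (l := 7) rfl N21240 D68839
theorem N41877 : nd 41877 = n68840 := ndS (p := 21241) (l := 4) rfl N21241 D68840
theorem N41878 : nd 41878 = n68841 := ndS (p := 21242) (l := 5) rfl N21242 D68841
theorem N41879 : nd 41879 = n68842 := ndS (p := 21243) (l := 5) rfl N21243 D68842
theorem N41880 : nd 41880 = n68843 := ndS (p := 21244) (l := 4) rfl N21244 D68843
theorem N41881 : nd 41881 = n68844 := ndS (p := 21244) (l := 6) rfl N21244 D68844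
theorem N41882 : nd 41882 = n68845 := ndS (p := 21245) (l := 4) rfl N21245 D68845
theorem N41883 : nd 41883 = n68846 := ndS (p := 21245) (l := 6) rfl N21245 D68846
theorem N41884 : nd 41884 = n68847 := ndS (p := 21246) (l := 3) rfl N21246 D68847
theorem N41885 : nd 41885 = n68848 := ndS (p := 21246) (l := 4) rfl N21246 D68848
theorem N41886 : nd 41886 = n68849 := ndS (p := 21246) (l := 6) rfl N21246 D68849
theorem N41887 : nd 41887 = n68850 := ndS (p := 21247) (l := 4) rfl N21247 D68850
theorem N41888 : nd 41888 = n68851 := ndS (p := 21247) (l := 6) rfl N21247 D68851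
theorem N41889 : nd 41889 = n68852 := ndS (p := 21248) (l := 0) rfl N21248 D68852
theorem N41890 : nd 41890 = n68853 := ndS (p := 21248) (l := 1) rfl N21248 D68853
theorem N41891 : nd 41891 = n68854 := ndS (p := 21248) (l := 3) rfl N21248 D68854
theorem N41892 : nd 41892 = n68855 := ndS (p := 21248) (l := 5) rfl N21248 D68855
theorem N41893 : nd 41893 = n68856 := ndS (p := 21248) (l := 6) rfl N21248 D68856
theorem N41894 : nd 41894 = n68857 := ndS (p := 21249) (l := 0) rfl N21249 D68857
theorem N41895 : nd 41895 = n68858 := ndS (p := 21249) (l := 1) rfl N21249 D68858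
theorem N41896 : nd 41896 = n68859 := ndS (p := 21249) (l := 7) rfl N21249 D68859
theorem N41897 : nd 41897 = n68860 := ndS (p := 21250) (l := 4) rfl N21250 D68860
theorem N41898 : nd 41898 = n68861 := ndS (p := 21252) (l := 0) rfl N21252 D68861
theorem N41899 : nd 41899 = n68862 := ndS (p := 21252) (l := 1) rfl N21252 D68862
theorem N41900 : nd 41900 = n68863 := ndS (p := 21252) (l := 3) rfl N21252 D68863
theorem N41901 : nd 41901 = n68864 := ndS (p := 21252) (l := 5) rfl N21252 D68864
theorem N41902 : nd 41902 = n68865 := ndS (p := 21252) (l := 6) rfl N21252 D68865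
theorem N41903 : nd 41903 = n68866 := ndS (p := 21253) (l := 0) rfl N21253 D68866
theorem N41904 : nd 41904 = n68868 := ndS (p := 21253) (l := 7) rfl N21253 D68868
theorem N41905 : nd 41905 = n68869 := ndS (p := 21255) (l := 3) rfl N21255 D68869
theorem N41906 : nd 41906 = n68870 := ndS (p := 21255) (l := 5) rfl N21255 D68870
theorem N41907 : nd 41907 = n68871 := ndS (p := 21255) (l := 6) rfl N21255 D68871
theorem N41908 : nd 41908 = n68873 := ndS (p := 21256) (l := 7) rfl N21256 D68873
theorem N41909 : nd 41909 = n68874 := ndS (p := 21257) (l := 3) rfl N21257 D68874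
theorem N41910 : nd 41910 = n68875 := ndS (p := 21257) (l := 5) rfl N21257 D68875
theorem N41911 : nd 41911 = n68876 := ndS (p := 21257) (l := 6) rfl N21257 D68876
theorem N41912 : nd 41912 = n68877 := ndS (p := 21258) (l := 3) rfl N21258 D68877
theorem N41913 : nd 41913 = n68878 := ndS (p := 21258) (l := 5) rfl N21258 D68878
theorem N41914 : nd 41914 = n68879 := ndS (p := 21258) (l := 6) rfl N21258 D68879
theorem N41915 : nd 41915 = n68880 := ndS (p := 21259) (l := 0) rfl N21259 D68880
theorem N41916 : nd 41916 = n68881 := ndS (p := 21259) (l := 1) rfl N21259 D68881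
theorem N41917 : nd 41917 = n68882 := ndS (p := 21259) (l := 4) rfl N21259 D68882
theorem N41918 : nd 41918 = n68883 := ndS (p := 21259) (l := 6) rfl N21259 D68883
theorem N41919 : nd 41919 = n68885 := ndS (p := 21260) (l := 1) rfl N21260 D68885
theorem N41920 : nd 41920 = n68886 := ndS (p := 21260) (l := 5) rfl N21260 D68886
theorem N41921 : nd 41921 = n68887 := ndS (p := 21260) (l := 7) rfl N21260 D68887
theorem N41922 : nd 41922 = n68890 := ndS (p := 21261) (l := 4) rfl N21261 D68890
theorem N41923 : nd 41923 = n68894 := ndS (p := 21262) (l := 3) rfl N21262 D68894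
theorem N41924 : nd 41924 = n68895 := ndS (p := 21262) (l := 4) rfl N21262 D68895
theorem N41925 : nd 41925 = n68896 := ndS (p := 21262) (l := 5) rfl N21262 D68896
theorem N41926 : nd 41926 = n68898 := ndS (p := 21263) (l := 0) rfl N21263 D68898
theorem N41927 : nd 41927 = n68899 := ndS (p := 21263) (l := 1) rfl N21263 D68899
theorem N41928 : nd 41928 = n68900 := ndS (p := 21263) (l := 4) rfl N21263 D68900
theorem N41929 : nd 41929 = n68901 := ndS (p := 21263) (l := 7) rfl N21263 D68901
theorem N41930 : nd 41930 = n68902 := ndS (p := 21266) (l := 4) rfl N21266 D68902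
theorem N41931 : nd 41931 = n68904 := ndS (p := 21267) (l := 0) rfl N21267 D68904
theorem N41932 : nd 41932 = n68905 := ndS (p := 21267) (l := 1) rfl N21267 D68905
theorem N41933 : nd 41933 = n68906 := ndS (p := 21267) (l := 3) rfl N21267 D68906
theorem N41934 : nd 41934 = n68907 := ndS (p := 21268) (l := 0) rfl N21268 D68907
theorem N41935 : nd 41935 = n68909 := ndS (p := 21268) (l := 2) rfl N21268 D68909
theorem N41936 : nd 41936 = n68910 := ndS (p := 21268) (l := 4) rfl N21268 D68910
theorem N41937 : nd 41937 = n68927 := ndS (p := 21269) (l := 4) rfl N21269 D68927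
theorem N41938 : nd 41938 = n68938 := ndS (p := 21270) (l := 3) rfl N21270 D68938
theorem N41939 : nd 41939 = n68942 := ndS (p := 21271) (l := 1) rfl N21271 D68942
theorem N41940 : nd 41940 = n68943 := ndS (p := 21271) (l := 3) rfl N21271 D68943
theorem N41941 : nd 41941 = n68946 := ndS (p := 21272) (l := 6) rfl N21272 D68946
theorem N41942 : nd 41942 = n68947 := ndS (p := 21273) (l := 2) rfl N21273 D68947
theorem N41943 : nd 41943 = n68949 := ndS (p := 21274) (l := 6) rfl N21274 D68949
theorem N41944 : nd 41944 = n68952 := ndS (p := 21276) (l := 3) rfl N21276 D68952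
theorem N41945 : nd 41945 = n68953 := ndS (p := 21276) (l := 6) rfl N21276 D68953
theorem N41946 : nd 41946 = n68954 := ndS (p := 21277) (l := 0) rfl N21277 D68954
theorem N41947 : nd 41947 = n68955 := ndS (p := 21277) (l := 1) rfl N21277 D68955
theorem N41948 : nd 41948 = n68956 := ndS (p := 21277) (l := 5) rfl N21277 D68956
theorem N41949 : nd 41949 = n68957 := ndS (p := 21277) (l := 7) rfl N21277 D68957
theorem N41950 : nd 41950 = n68958 := ndS (p := 21278) (l := 4) rfl N21278 D68958
theorem N41951 : nd 41951 = n68959 := ndS (p := 21279) (l := 6) rfl N21279 D68959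
theorem N41952 : nd 41952 = n68960 := ndS (p := 21280) (l := 0) rfl N21280 D68960
theorem N41953 : nd 41953 = n68961 := ndS (p := 21280) (l := 3) rfl N21280 D68961
theorem N41954 : nd 41954 = n68962 := ndS (p := 21280) (l := 5) rfl N21280 D68962
theorem N41955 : nd 41955 = n68963 := ndS (p := 21280) (l := 6) rfl N21280 D68963
theorem N41956 : nd 41956 = n68968 := ndS (p := 21283) (l := 0) rfl N21283 D68968
theorem N41957 : nd 41957 = n68972 := ndS (p := 21284) (l := 6) rfl N21284 D68972
theorem N41958 : nd 41958 = n68973 := ndS (p := 21285) (l := 5) rfl N21285 D68973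
theorem N41959 : nd 41959 = n68975 := ndS (p := 21286) (l := 6) rfl N21286 D68975
theorem N41960 : nd 41960 = n68977 := ndS (p := 21288) (l := 4) rfl N21288 D68977
theorem N41961 : nd 41961 = n68978 := ndS (p := 21288) (l := 6) rfl N21288 D68978
theorem N41962 : nd 41962 = n68979 := ndS (p := 21289) (l := 3) rfl N21289 D68979
theorem N41963 : nd 41963 = n68981 := ndS (p := 21290) (l := 0) rfl N21290 D68981
theorem N41964 : nd 41964 = n68982 := ndS (p := 21290) (l := 1) rfl N21290 D68982
theorem N41965 : nd 41965 = n68983 := ndS (p := 21290) (l := 7) rfl N21290 D68983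
theorem N41966 : nd 41966 = n68984 := ndS (p := 21291) (l := 6) rfl N21291 D68984
theorem N41967 : nd 41967 = n68985 := ndS (p := 21292) (l := 3) rfl N21292 D68985
theorem N41968 : nd 41968 = n68986 := ndS (p := 21292) (l := 5) rfl N21292 D68986
theorem N41969 : nd 41969 = n68987 := ndS (p := 21292) (l := 6) rfl N21292 D68987
theorem N41970 : nd 41970 = n68988 := ndS (p := 21293) (l := 0) rfl N21293 D68988
theorem N41971 : nd 41971 = n68989 := ndS (p := 21293) (l := 1) rfl N21293 D68989
theorem N41972 : nd 41972 = n68990 := ndS (p := 21293) (l := 7) rfl N21293 D68990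
theorem N41973 : nd 41973 = n68991 := ndS (p := 21294) (l := 3) rfl N21294 D68991
theorem N41974 : nd 41974 = n68992 := ndS (p := 21294) (l := 5) rfl N21294 D68992
theorem N41975 : nd 41975 = n68993 := ndS (p := 21294) (l := 6) rfl N21294 D68993
theorem N41976 : nd 41976 = n68994 := ndS (p := 21295) (l := 3) rfl N21295 D68994
theorem N41977 : nd 41977 = n68995 := ndS (p := 21295) (l := 5) rfl N21295 D68995
theorem N41978 : nd 41978 = n68996 := ndS (p := 21295) (l := 6) rfl N21295 D68996
theorem N41979 : nd 41979 = n68997 := ndS (p := 21296) (l := 6) rfl N21296 D68997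
theorem N41980 : nd 41980 = n68998 := ndS (p := 21297) (l := 0) rfl N21297 D68998
theorem N41981 : nd 41981 = n68999 := ndS (p := 21297) (l := 1) rfl N21297 D68999
theorem N41982 : nd 41982 = n69000 := ndS (p := 21297) (l := 6) rfl N21297 D69000
theorem N41983 : nd 41983 = n69001 := ndS (p := 21298) (l := 0) rfl N21298 D69001
theorem N41984 : nd 41984 = n69002 := ndS (p := 21298) (l := 1) rfl N21298 D69002
theorem N41985 : nd 41985 = n69003 := ndS (p := 21298) (l := 5) rfl N21298 D69003
theorem N41986 : nd 41986 = n69004 := ndS (p := 21298) (l := 7) rfl N21298 D69004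
theorem N41987 : nd 41987 = n69005 := ndS (p := 21299) (l := 6) rfl N21299 D69005
theorem N41988 : nd 41988 = n69008 := ndS (p := 21300) (l := 4) rfl N21300 D69008
theorem N41989 : nd 41989 = n69009 := ndS (p := 21300) (l := 5) rfl N21300 D69009
theorem N41990 : nd 41990 = n69019 := ndS (p := 21302) (l := 5) rfl N21302 D69019
theorem N41991 : nd 41991 = n69020 := ndS (p := 21304) (l := 6) rfl N21304 D69020
theorem N41992 : nd 41992 = n69021 := ndS (p := 21305) (l := 6) rfl N21305 D69021
theorem N41993 : nd 41993 = n69022 := ndS (p := 21306) (l := 5) rfl N21306 D69022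
theorem N41994 : nd 41994 = n69023 := ndS (p := 21307) (l := 3) rfl N21307 D69023
theorem N41995 : nd 41995 = n69024 := ndS (p := 21307) (l := 5) rfl N21307 D69024
theorem N41996 : nd 41996 = n69025 := ndS (p := 21307) (l := 6) rfl N21307 D69025
theorem N41997 : nd 41997 = n69026 := ndS (p := 21308) (l := 0) rfl N21308 D69026
theorem N41998 : nd 41998 = n69027 := ndS (p := 21308) (l := 1) rfl N21308 D69027
theorem N41999 : nd 41999 = n69028 := ndS (p := 21308) (l := 5) rfl N21308 D69028
theorem N42000 : nd 42000 = n69029 := ndS (p := 21308) (l := 7) rfl N21308 D69029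
theorem N42001 : nd 42001 = n69030 := ndS (p := 21309) (l := 5) rfl N21309 D69030
theorem N42002 : nd 42002 = n69031 := ndS (p := 21310) (l := 4) rfl N21310 D69031
theorem N42003 : nd 42003 = n69032 := ndS (p := 21311) (l := 6) rfl N21311 D69032
theorem N42004 : nd 42004 = n69033 := ndS (p := 21312) (l := 0) rfl N21312 D69033
theorem N42005 : nd 42005 = n69034 := ndS (p := 21312) (l := 1) rfl N21312 D69034
theorem N42006 : nd 42006 = n69035 := ndS (p := 21312) (l := 5) rfl N21312 D69035
theorem N42007 : nd 42007 = n69036 := ndS (p := 21312) (l := 7) rfl N21312 D69036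
theorem N42008 : nd 42008 = n69037 := ndS (p := 21314) (l := 0) rfl N21314 D69037
theorem N42009 : nd 42009 = n69038 := ndS (p := 21314) (l := 1) rfl N21314 D69038
theorem N42010 : nd 42010 = n69039 := ndS (p := 21314) (l := 2) rfl N21314 D69039
theorem N42011 : nd 42011 = n69040 := ndS (p := 21314) (l := 5) rfl N21314 D69040
theorem N42012 : nd 42012 = n69041 := ndS (p := 21314) (l := 6) rfl N21314 D69041
theorem N42013 : nd 42013 = n69042 := ndS (p := 21315) (l := 6) rfl N21315 D69042
theorem N42014 : nd 42014 = n69043 := ndS (p := 21316) (l := 0) rfl N21316 D69043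
theorem N42015 : nd 42015 = n69044 := ndS (p := 21316) (l := 1) rfl N21316 D69044
theorem N42016 : nd 42016 = n69045 := ndS (p := 21316) (l := 5) rfl N21316 D69045
theorem N42017 : nd 42017 = n69046 := ndS (p := 21316) (l := 7) rfl N21316 D69046
theorem N42018 : nd 42018 = n69054 := ndS (p := 21317) (l := 4) rfl N21317 D69054
theorem N42019 : nd 42019 = n69055 := ndS (p := 21317) (l := 5) rfl N21317 D69055
theorem N42020 : nd 42020 = n69056 := ndS (p := 21317) (l := 6) rfl N21317 D69056
theorem N42021 : nd 42021 = n69058 := ndS (p := 21318) (l := 1) rfl N21318 D69058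
theorem N42022 : nd 42022 = n69059 := ndS (p := 21318) (l := 4) rfl N21318 D69059
theorem N42023 : nd 42023 = n69060 := ndS (p := 21318) (l := 7) rfl N21318 D69060
theorem N42024 : nd 42024 = n69061 := ndS (p := 21320) (l := 4) rfl N21320 D69061
theorem N42025 : nd 42025 = n69062 := ndS (p := 21320) (l := 6) rfl N21320 D69062
theorem N42026 : nd 42026 = n69064 := ndS (p := 21323) (l := 6) rfl N21323 D69064
theorem N42027 : nd 42027 = n69066 := ndS (p := 21324) (l := 6) rfl N21324 D69066
theorem N42028 : nd 42028 = n69067 := ndS (p := 21325) (l := 0) rfl N21325 D69067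
theorem N42029 : nd 42029 = n69068 := ndS (p := 21325) (l := 1) rfl N21325 D69068
theorem N42030 : nd 42030 = n69069 := ndS (p := 21325) (l := 3) rfl N21325 D69069
theorem N42031 : nd 42031 = n69070 := ndS (p := 21325) (l := 5) rfl N21325 D69070
theorem N42032 : nd 42032 = n69071 := ndS (p := 21325) (l := 6) rfl N21325 D69071
theorem N42033 : nd 42033 = n69073 := ndS (p := 21326) (l := 1) rfl N21326 D69073
theorem N42034 : nd 42034 = n69074 := ndS (p := 21326) (l := 5) rfl N21326 D69074
theorem N42035 : nd 42035 = n69075 := ndS (p := 21326) (l := 7) rfl N21326 D69075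
theorem N42036 : nd 42036 = n69077 := ndS (p := 21328) (l := 6) rfl N21328 D69077
theorem N42037 : nd 42037 = n69081 := ndS (p := 21330) (l := 3) rfl N21330 D69081
theorem N42038 : nd 42038 = n69082 := ndS (p := 21330) (l := 5) rfl N21330 D69082
theorem N42039 : nd 42039 = n69083 := ndS (p := 21330) (l := 6) rfl N21330 D69083
theorem N42040 : nd 42040 = n69084 := ndS (p := 21331) (l := 3) rfl N21331 D69084
theorem N42041 : nd 42041 = n69085 := ndS (p := 21331) (l := 5) rfl N21331 D69085
theorem N42042 : nd 42042 = n69086 := ndS (p := 21331) (l := 6) rfl N21331 D69086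
theorem N42043 : nd 42043 = n69087 := ndS (p := 21332) (l := 0) rfl N21332 D69087
theorem N42044 : nd 42044 = n69088 := ndS (p := 21332) (l := 1) rfl N21332 D69088
theorem N42045 : nd 42045 = n69089 := ndS (p := 21332) (l := 2) rfl N21332 D69089
theorem N42046 : nd 42046 = n69090 := ndS (p := 21332) (l := 5) rfl N21332 D69090
theorem N42047 : nd 42047 = n69091 := ndS (p := 21332) (l := 6) rfl N21332 D69091
theorem N42048 : nd 42048 = n69092 := ndS (p := 21333) (l := 0) rfl N21333 D69092
theorem N42049 : nd 42049 = n69093 := ndS (p := 21333) (l := 1) rfl N21333 D69093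
theorem N42050 : nd 42050 = n69094 := ndS (p := 21333) (l := 6) rfl N21333 D69094
theorem N42051 : nd 42051 = n69095 := ndS (p := 21334) (l := 0) rfl N21334 D69095
theorem N42052 : nd 42052 = n69096 := ndS (p := 21334) (l := 1) rfl N21334 D69096
theorem N42053 : nd 42053 = n69097 := ndS (p := 21334) (l := 5) rfl N21334 D69097
theorem N42054 : nd 42054 = n69098 := ndS (p := 21334) (l := 7) rfl N21334 D69098
theorem N42055 : nd 42055 = n69100 := ndS (p := 21335) (l := 3) rfl N21335 D69100
theorem N42056 : nd 42056 = n69101 := ndS (p := 21335) (l := 4) rfl N21335 D69101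
theorem N42057 : nd 42057 = n69102 := ndS (p := 21335) (l := 5) rfl N21335 D69102
theorem N42058 : nd 42058 = n69103 := ndS (p := 21335) (l := 6) rfl N21335 D69103
theorem N42059 : nd 42059 = n69105 := ndS (p := 21336) (l := 3) rfl N21336 D69105
theorem N42060 : nd 42060 = n69106 := ndS (p := 21336) (l := 4) rfl N21336 D69106
theorem N42061 : nd 42061 = n69107 := ndS (p := 21336) (l := 6) rfl N21336 D69107
theorem N42062 : nd 42062 = n69108 := ndS (p := 21338) (l := 6) rfl N21338 D69108
theorem N42063 : nd 42063 = n69110 := ndS (p := 21340) (l := 0) rfl N21340 D69110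
theorem N42064 : nd 42064 = n69111 := ndS (p := 21340) (l := 1) rfl N21340 D69111
theorem N42065 : nd 42065 = n69112 := ndS (p := 21340) (l := 5) rfl N21340 D69112
theorem N42066 : nd 42066 = n69114 := ndS (p := 21341) (l := 3) rfl N21341 D69114
theorem N42067 : nd 42067 = n69115 := ndS (p := 21341) (l := 6) rfl N21341 D69115
theorem N42068 : nd 42068 = n69116 := ndS (p := 21342) (l := 3) rfl N21342 D69116
theorem N42069 : nd 42069 = n69117 := ndS (p := 21342) (l := 6) rfl N21342 D69117
theorem N42070 : nd 42070 = n69118 := ndS (p := 21343) (l := 6) rfl N21343 D69118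
theorem N42071 : nd 42071 = n69119 := ndS (p := 21344) (l := 0) rfl N21344 D69119
theorem N42072 : nd 42072 = n69120 := ndS (p := 21344) (l := 1) rfl N21344 D69120
theorem N42073 : nd 42073 = n69122 := ndS (p := 21345) (l := 0) rfl N21345 D69122
theorem N42074 : nd 42074 = n69123 := ndS (p := 21345) (l := 1) rfl N21345 D69123
theorem N42075 : nd 42075 = n69124 := ndS (p := 21345) (l := 5) rfl N21345 D69124
theorem N42076 : nd 42076 = n69125 := ndS (p := 21345) (l := 7) rfl N21345 D69125
theorem N42077 : nd 42077 = n69128 := ndS (p := 21346) (l := 4) rfl N21346 D69128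
theorem N42078 : nd 42078 = n69129 := ndS (p := 21346) (l := 5) rfl N21346 D69129
theorem N42079 : nd 42079 = n69130 := ndS (p := 21346) (l := 6) rfl N21346 D69130
theorem N42080 : nd 42080 = n69133 := ndS (p := 21347) (l := 4) rfl N21347 D69133
theorem N42081 : nd 42081 = n69134 := ndS (p := 21347) (l := 5) rfl N21347 D69134
theorem N42082 : nd 42082 = n69135 := ndS (p := 21347) (l := 6) rfl N21347 D69135
theorem N42083 : nd 42083 = n69136 := ndS (p := 21348) (l := 0) rfl N21348 D69136
theorem N42084 : nd 42084 = n69138 := ndS (p := 21348) (l := 4) rfl N21348 D69138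
theorem N42085 : nd 42085 = n69139 := ndS (p := 21348) (l := 7) rfl N21348 D69139
theorem N42086 : nd 42086 = n69149 := ndS (p := 21351) (l := 0) rfl N21351 D69149
theorem N42087 : nd 42087 = n69150 := ndS (p := 21351) (l := 1) rfl N21351 D69150
theorem N42088 : nd 42088 = n69151 := ndS (p := 21351) (l := 2) rfl N21351 D69151
theorem N42089 : nd 42089 = n69152 := ndS (p := 21351) (l := 5) rfl N21351 D69152
theorem N42090 : nd 42090 = n69154 := ndS (p := 21352) (l := 6) rfl N21352 D69154
theorem N42091 : nd 42091 = n69155 := ndS (p := 21353) (l := 0) rfl N21353 D69155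
theorem N42092 : nd 42092 = n69156 := ndS (p := 21353) (l := 1) rfl N21353 D69156
theorem N42093 : nd 42093 = n69158 := ndS (p := 21353) (l := 7) rfl N21353 D69158
theorem N42094 : nd 42094 = n69166 := ndS (p := 21354) (l := 4) rfl N21354 D69166
theorem N42095 : nd 42095 = n69168 := ndS (p := 21354) (l := 6) rfl N21354 D69168
theorem N42096 : nd 42096 = n69171 := ndS (p := 21355) (l := 4) rfl N21355 D69171
theorem N42097 : nd 42097 = n69173 := ndS (p := 21357) (l := 0) rfl N21357 D69173
theorem N42098 : nd 42098 = n69174 := ndS (p := 21357) (l := 1) rfl N21357 D69174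
theorem N42099 : nd 42099 = n69175 := ndS (p := 21357) (l := 2) rfl N21357 D69175
theorem N42100 : nd 42100 = n69176 := ndS (p := 21357) (l := 4) rfl N21357 D69176
theorem N42101 : nd 42101 = n69177 := ndS (p := 21357) (l := 5) rfl N21357 D69177
theorem N42102 : nd 42102 = n69178 := ndS (p := 21357) (l := 6) rfl N21357 D69178
theorem N42103 : nd 42103 = n69179 := ndS (p := 21358) (l := 6) rfl N21358 D69179
theorem N42104 : nd 42104 = n69180 := ndS (p := 21359) (l := 0) rfl N21359 D69180
theorem N42105 : nd 42105 = n69184 := ndS (p := 21360) (l := 5) rfl N21360 D69184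
theorem N42106 : nd 42106 = n69185 := ndS (p := 21360) (l := 7) rfl N21360 D69185
theorem N42107 : nd 42107 = n69186 := ndS (p := 21361) (l := 0) rfl N21361 D69186
theorem N42108 : nd 42108 = n69188 := ndS (p := 21361) (l := 2) rfl N21361 D69188
theorem N42109 : nd 42109 = n69189 := ndS (p := 21361) (l := 4) rfl N21361 D69189
theorem N42110 : nd 42110 = n69190 := ndS (p := 21361) (l := 6) rfl N21361 D69190
theorem N42111 : nd 42111 = n69191 := ndS (p := 21362) (l := 6) rfl N21362 D69191
theorem N42112 : nd 42112 = n69192 := ndS (p := 21363) (l := 6) rfl N21363 D69192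
theorem N42113 : nd 42113 = n69195 := ndS (p := 21364) (l := 5) rfl N21364 D69195
theorem N42114 : nd 42114 = n69196 := ndS (p := 21364) (l := 7) rfl N21364 D69196
theorem N42115 : nd 42115 = n69197 := ndS (p := 21365) (l := 3) rfl N21365 D69197
theorem N42116 : nd 42116 = n69198 := ndS (p := 21365) (l := 4) rfl N21365 D69198
theorem N42117 : nd 42117 = n69199 := ndS (p := 21365) (l := 5) rfl N21365 D69199
theorem N42118 : nd 42118 = n69200 := ndS (p := 21365) (l := 6) rfl N21365 D69200
theorem N42119 : nd 42119 = n69201 := ndS (p := 21366) (l := 4) rfl N21366 D69201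
theorem N42120 : nd 42120 = n69203 := ndS (p := 21367) (l := 5) rfl N21367 D69203
theorem N42121 : nd 42121 = n69204 := ndS (p := 21367) (l := 6) rfl N21367 D69204
theorem N42122 : nd 42122 = n69205 := ndS (p := 21368) (l := 0) rfl N21368 D69205
theorem N42123 : nd 42123 = n69206 := ndS (p := 21368) (l := 4) rfl N21368 D69206
theorem N42124 : nd 42124 = n69207 := ndS (p := 21368) (l := 6) rfl N21368 D69207
theorem N42125 : nd 42125 = n69208 := ndS (p := 21369) (l := 0) rfl N21369 D69208
theorem N42126 : nd 42126 = n69209 := ndS (p := 21369) (l := 1) rfl N21369 D69209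
theorem N42127 : nd 42127 = n69210 := ndS (p := 21369) (l := 5) rfl N21369 D69210
theorem N42128 : nd 42128 = n69211 := ndS (p := 21369) (l := 7) rfl N21369 D69211
theorem N42129 : nd 42129 = n69212 := ndS (p := 21370) (l := 3) rfl N21370 D69212
theorem N42130 : nd 42130 = n69213 := ndS (p := 21370) (l := 6) rfl N21370 D69213
theorem N42131 : nd 42131 = n69214 := ndS (p := 21371) (l := 6) rfl N21371 D69214
theorem N42132 : nd 42132 = n69215 := ndS (p := 21372) (l := 3) rfl N21372 D69215
theorem N42133 : nd 42133 = n69216 := ndS (p := 21372) (l := 6) rfl N21372 D69216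
theorem N42134 : nd 42134 = n69217 := ndS (p := 21373) (l := 0) rfl N21373 D69217
theorem N42135 : nd 42135 = n69219 := ndS (p := 21373) (l := 5) rfl N21373 D69219
theorem N42136 : nd 42136 = n69220 := ndS (p := 21373) (l := 7) rfl N21373 D69220
theorem N42137 : nd 42137 = n69223 := ndS (p := 21375) (l := 3) rfl N21375 D69223
theorem N42138 : nd 42138 = n69224 := ndS (p := 21375) (l := 4) rfl N21375 D69224
theorem N42139 : nd 42139 = n69225 := ndS (p := 21375) (l := 5) rfl N21375 D69225
theorem N42140 : nd 42140 = n69226 := ndS (p := 21375) (l := 6) rfl N21375 D69226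
theorem N42141 : nd 42141 = n69228 := ndS (p := 21376) (l := 3) rfl N21376 D69228
theorem N42142 : nd 42142 = n69229 := ndS (p := 21376) (l := 4) rfl N21376 D69229
theorem N42143 : nd 42143 = n69230 := ndS (p := 21376) (l := 5) rfl N21376 D69230
theorem N42144 : nd 42144 = n69231 := ndS (p := 21376) (l := 6) rfl N21376 D69231
theorem N42145 : nd 42145 = n69232 := ndS (p := 21377) (l := 0) rfl N21377 D69232
theorem N42146 : nd 42146 = n69233 := ndS (p := 21377) (l := 1) rfl N21377 D69233
theorem N42147 : nd 42147 = n69234 := ndS (p := 21377) (l := 4) rfl N21377 D69234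
theorem N42148 : nd 42148 = n69235 := ndS (p := 21377) (l := 7) rfl N21377 D69235
theorem N42149 : nd 42149 = n69236 := ndS (p := 21378) (l := 6) rfl N21378 D69236
theorem N42150 : nd 42150 = n69237 := ndS (p := 21379) (l := 0) rfl N21379 D69237
theorem N42151 : nd 42151 = n69238 := ndS (p := 21379) (l := 1) rfl N21379 D69238
theorem N42152 : nd 42152 = n69239 := ndS (p := 21379) (l := 5) rfl N21379 D69239
theorem N42153 : nd 42153 = n69246 := ndS (p := 21380) (l := 0) rfl N21380 D69246
theorem N42154 : nd 42154 = n69248 := ndS (p := 21380) (l := 2) rfl N21380 D69248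
theorem N42155 : nd 42155 = n69249 := ndS (p := 21380) (l := 4) rfl N21380 D69249
theorem N42156 : nd 42156 = n69250 := ndS (p := 21380) (l := 5) rfl N21380 D69250
theorem N42157 : nd 42157 = n69251 := ndS (p := 21380) (l := 6) rfl N21380 D69251
theorem N42158 : nd 42158 = n69253 := ndS (p := 21381) (l := 0) rfl N21381 D69253
theorem N42159 : nd 42159 = n69255 := ndS (p := 21381) (l := 3) rfl N21381 D69255
theorem N42160 : nd 42160 = n69256 := ndS (p := 21381) (l := 5) rfl N21381 D69256
theorem N42161 : nd 42161 = n69257 := ndS (p := 21381) (l := 6) rfl N21381 D69257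
theorem N42162 : nd 42162 = n69259 := ndS (p := 21382) (l := 0) rfl N21382 D69259
theorem N42163 : nd 42163 = n69261 := ndS (p := 21382) (l := 4) rfl N21382 D69261
theorem N42164 : nd 42164 = n69262 := ndS (p := 21382) (l := 6) rfl N21382 D69262
theorem N42165 : nd 42165 = n69265 := ndS (p := 21383) (l := 1) rfl N21383 D69265
theorem N42166 : nd 42166 = n69266 := ndS (p := 21383) (l := 5) rfl N21383 D69266
theorem N42167 : nd 42167 = n69267 := ndS (p := 21383) (l := 7) rfl N21383 D69267
theorem N42168 : nd 42168 = n69270 := ndS (p := 21384) (l := 1) rfl N21384 D69270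
theorem N42169 : nd 42169 = n69271 := ndS (p := 21384) (l := 2) rfl N21384 D69271
theorem N42170 : nd 42170 = n69272 := ndS (p := 21384) (l := 4) rfl N21384 D69272
theorem N42171 : nd 42171 = n69273 := ndS (p := 21384) (l := 5) rfl N21384 D69273
theorem N42172 : nd 42172 = n69274 := ndS (p := 21384) (l := 6) rfl N21384 D69274
theorem N42173 : nd 42173 = n69275 := ndS (p := 21385) (l := 3) rfl N21385 D69275
theorem N42174 : nd 42174 = n69276 := ndS (p := 21385) (l := 5) rfl N21385 D69276
theorem N42175 : nd 42175 = n69277 := ndS (p := 21385) (l := 6) rfl N21385 D69277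
theorem N42176 : nd 42176 = n69278 := ndS (p := 21386) (l := 4) rfl N21386 D69278
theorem N42177 : nd 42177 = n69279 := ndS (p := 21387) (l := 0) rfl N21387 D69279
theorem N42178 : nd 42178 = n69281 := ndS (p := 21387) (l := 5) rfl N21387 D69281
theorem N42179 : nd 42179 = n69282 := ndS (p := 21387) (l := 7) rfl N21387 D69282
theorem N42180 : nd 42180 = n69284 := ndS (p := 21389) (l := 3) rfl N21389 D69284
theorem N42181 : nd 42181 = n69285 := ndS (p := 21389) (l := 4) rfl N21389 D69285
theorem N42182 : nd 42182 = n69286 := ndS (p := 21389) (l := 5) rfl N21389 D69286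
theorem N42183 : nd 42183 = n69287 := ndS (p := 21389) (l := 6) rfl N21389 D69287
theorem N42184 : nd 42184 = n69289 := ndS (p := 21390) (l := 3) rfl N21390 D69289
theorem N42185 : nd 42185 = n69290 := ndS (p := 21390) (l := 4) rfl N21390 D69290
theorem N42186 : nd 42186 = n69291 := ndS (p := 21390) (l := 5) rfl N21390 D69291
theorem N42187 : nd 42187 = n69292 := ndS (p := 21390) (l := 6) rfl N21390 D69292
theorem N42188 : nd 42188 = n69293 := ndS (p := 21391) (l := 0) rfl N21391 D69293
theorem N42189 : nd 42189 = n69294 := ndS (p := 21391) (l := 1) rfl N21391 D69294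
theorem N42190 : nd 42190 = n69295 := ndS (p := 21391) (l := 4) rfl N21391 D69295
theorem N42191 : nd 42191 = n69296 := ndS (p := 21392) (l := 5) rfl N21392 D69296
theorem N42192 : nd 42192 = n69297 := ndS (p := 21393) (l := 4) rfl N21393 D69297
theorem N42193 : nd 42193 = n69298 := ndS (p := 21393) (l := 6) rfl N21393 D69298
theorem N42194 : nd 42194 = n69299 := ndS (p := 21394) (l := 4) rfl N21394 D69299
theorem N42195 : nd 42195 = n69300 := ndS (p := 21395) (l := 3) rfl N21395 D69300
theorem N42196 : nd 42196 = n69301 := ndS (p := 21395) (l := 4) rfl N21395 D69301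
theorem N42197 : nd 42197 = n69302 := ndS (p := 21395) (l := 6) rfl N21395 D69302
theorem N42198 : nd 42198 = n69303 := ndS (p := 21396) (l := 0) rfl N21396 D69303
theorem N42199 : nd 42199 = n69304 := ndS (p := 21396) (l := 1) rfl N21396 D69304
theorem N42200 : nd 42200 = n69305 := ndS (p := 21396) (l := 3) rfl N21396 D69305
theorem N42201 : nd 42201 = n69306 := ndS (p := 21396) (l := 5) rfl N21396 D69306
theorem N42202 : nd 42202 = n69307 := ndS (p := 21397) (l := 3) rfl N21397 D69307
theorem N42203 : nd 42203 = n69308 := ndS (p := 21397) (l := 5) rfl N21397 D69308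
theorem N42204 : nd 42204 = n69309 := ndS (p := 21397) (l := 6) rfl N21397 D69309
theorem N42205 : nd 42205 = n69310 := ndS (p := 21398) (l := 0) rfl N21398 D69310
theorem N42206 : nd 42206 = n69311 := ndS (p := 21398) (l := 1) rfl N21398 D69311
theorem N42207 : nd 42207 = n69313 := ndS (p := 21398) (l := 7) rfl N21398 D69313
theorem N42208 : nd 42208 = n69315 := ndS (p := 21399) (l := 6) rfl N21399 D69315
theorem N42209 : nd 42209 = n69316 := ndS (p := 21400) (l := 3) rfl N21400 D69316
theorem N42210 : nd 42210 = n69317 := ndS (p := 21400) (l := 6) rfl N21400 D69317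
theorem N42211 : nd 42211 = n69318 := ndS (p := 21401) (l := 0) rfl N21401 D69318
theorem N42212 : nd 42212 = n69319 := ndS (p := 21401) (l := 1) rfl N21401 D69319
theorem N42213 : nd 42213 = n69320 := ndS (p := 21401) (l := 4) rfl N21401 D69320
theorem N42214 : nd 42214 = n69321 := ndS (p := 21401) (l := 6) rfl N21401 D69321
theorem N42215 : nd 42215 = n69322 := ndS (p := 21402) (l := 0) rfl N21402 D69322
theorem N42216 : nd 42216 = n69323 := ndS (p := 21402) (l := 1) rfl N21402 D69323
theorem N42217 : nd 42217 = n69324 := ndS (p := 21402) (l := 5) rfl N21402 D69324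
theorem N42218 : nd 42218 = n69325 := ndS (p := 21402) (l := 7) rfl N21402 D69325
theorem N42219 : nd 42219 = n69327 := ndS (p := 21403) (l := 3) rfl N21403 D69327
theorem N42220 : nd 42220 = n69328 := ndS (p := 21403) (l := 4) rfl N21403 D69328
theorem N42221 : nd 42221 = n69329 := ndS (p := 21403) (l := 5) rfl N21403 D69329
theorem N42222 : nd 42222 = n69330 := ndS (p := 21403) (l := 6) rfl N21403 D69330
theorem N42223 : nd 42223 = n69332 := ndS (p := 21404) (l := 3) rfl N21404 D69332
theorem N42224 : nd 42224 = n69333 := ndS (p := 21404) (l := 4) rfl N21404 D69333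
theorem N42225 : nd 42225 = n69334 := ndS (p := 21404) (l := 5) rfl N21404 D69334
theorem N42226 : nd 42226 = n69335 := ndS (p := 21404) (l := 6) rfl N21404 D69335
theorem N42227 : nd 42227 = n69338 := ndS (p := 21405) (l := 4) rfl N21405 D69338
theorem N42228 : nd 42228 = n69349 := ndS (p := 21407) (l := 4) rfl N21407 D69349
theorem N42229 : nd 42229 = n69350 := ndS (p := 21407) (l := 5) rfl N21407 D69350
theorem N42230 : nd 42230 = n69351 := ndS (p := 21407) (l := 6) rfl N21407 D69351
theorem N42231 : nd 42231 = n69377 := ndS (p := 21411) (l := 5) rfl N21411 D69377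
theorem N42232 : nd 42232 = n69378 := ndS (p := 21411) (l := 7) rfl N21411 D69378
theorem N42233 : nd 42233 = n69389 := ndS (p := 21412) (l := 3) rfl N21412 D69389
theorem N42234 : nd 42234 = n69390 := ndS (p := 21412) (l := 5) rfl N21412 D69390
theorem N42235 : nd 42235 = n69391 := ndS (p := 21412) (l := 6) rfl N21412 D69391
theorem N42236 : nd 42236 = n69392 := ndS (p := 21413) (l := 0) rfl N21413 D69392
theorem N42237 : nd 42237 = n69393 := ndS (p := 21413) (l := 1) rfl N21413 D69393
theorem N42238 : nd 42238 = n69394 := ndS (p := 21413) (l := 7) rfl N21413 D69394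
theorem N42239 : nd 42239 = n69396 := ndS (p := 21414) (l := 6) rfl N21414 D69396
theorem N42240 : nd 42240 = n69397 := ndS (p := 21415) (l := 3) rfl N21415 D69397
theorem N42241 : nd 42241 = n69398 := ndS (p := 21415) (l := 6) rfl N21415 D69398
theorem N42242 : nd 42242 = n69399 := ndS (p := 21416) (l := 0) rfl N21416 D69399
theorem N42243 : nd 42243 = n69400 := ndS (p := 21416) (l := 1) rfl N21416 D69400
theorem N42244 : nd 42244 = n69401 := ndS (p := 21416) (l := 4) rfl N21416 D69401
theorem N42245 : nd 42245 = n69402 := ndS (p := 21416) (l := 6) rfl N21416 D69402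
theorem N42246 : nd 42246 = n69404 := ndS (p := 21417) (l := 1) rfl N21417 D69404
theorem N42247 : nd 42247 = n69406 := ndS (p := 21417) (l := 7) rfl N21417 D69406
theorem N42248 : nd 42248 = n69408 := ndS (p := 21418) (l := 3) rfl N21418 D69408
theorem N42249 : nd 42249 = n69409 := ndS (p := 21418) (l := 4) rfl N21418 D69409
theorem N42250 : nd 42250 = n69410 := ndS (p := 21418) (l := 5) rfl N21418 D69410
theorem N42251 : nd 42251 = n69411 := ndS (p := 21418) (l := 6) rfl N21418 D69411
theorem N42252 : nd 42252 = n69414 := ndS (p := 21419) (l := 4) rfl N21419 D69414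
theorem N42253 : nd 42253 = n69416 := ndS (p := 21419) (l := 6) rfl N21419 D69416
theorem N42254 : nd 42254 = n69449 := ndS (p := 21422) (l := 4) rfl N21422 D69449
theorem N42255 : nd 42255 = n69450 := ndS (p := 21422) (l := 5) rfl N21422 D69450
theorem N42256 : nd 42256 = n69451 := ndS (p := 21422) (l := 6) rfl N21422 D69451
theorem N42257 : nd 42257 = n69456 := ndS (p := 21424) (l := 5) rfl N21424 D69456
theorem N42258 : nd 42258 = n69477 := ndS (p := 21425) (l := 0) rfl N21425 D69477
theorem N42259 : nd 42259 = n69478 := ndS (p := 21425) (l := 1) rfl N21425 D69478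
theorem N42260 : nd 42260 = n69480 := ndS (p := 21425) (l := 5) rfl N21425 D69480
theorem N42261 : nd 42261 = n69491 := ndS (p := 21426) (l := 4) rfl N21426 D69491
theorem N42262 : nd 42262 = n69493 := ndS (p := 21427) (l := 3) rfl N21427 D69493
theorem N42263 : nd 42263 = n69494 := ndS (p := 21427) (l := 5) rfl N21427 D69494
theorem N42264 : nd 42264 = n69500 := ndS (p := 21428) (l := 0) rfl N21428 D69500
theorem N42265 : nd 42265 = n69502 := ndS (p := 21428) (l := 5) rfl N21428 D69502
theorem N42266 : nd 42266 = n69503 := ndS (p := 21428) (l := 7) rfl N21428 D69503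
theorem N42267 : nd 42267 = n69506 := ndS (p := 21429) (l := 4) rfl N21429 D69506
theorem N42268 : nd 42268 = n69507 := ndS (p := 21429) (l := 5) rfl N21429 D69507
theorem N42269 : nd 42269 = n69510 := ndS (p := 21430) (l := 3) rfl N21430 D69510
theorem N42270 : nd 42270 = n69511 := ndS (p := 21430) (l := 4) rfl N21430 D69511
theorem N42271 : nd 42271 = n69512 := ndS (p := 21430) (l := 5) rfl N21430 D69512
theorem N42272 : nd 42272 = n69515 := ndS (p := 21431) (l := 1) rfl N21431 D69515
theorem N42273 : nd 42273 = n69516 := ndS (p := 21431) (l := 4) rfl N21431 D69516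
theorem N42274 : nd 42274 = n69518 := ndS (p := 21433) (l := 0) rfl N21433 D69518
theorem N42275 : nd 42275 = n69520 := ndS (p := 21433) (l := 2) rfl N21433 D69520
theorem N42276 : nd 42276 = n69521 := ndS (p := 21433) (l := 4) rfl N21433 D69521
theorem N42277 : nd 42277 = n69523 := ndS (p := 21433) (l := 6) rfl N21433 D69523
theorem N42278 : nd 42278 = n69525 := ndS (p := 21434) (l := 1) rfl N21434 D69525
theorem N42279 : nd 42279 = n69529 := ndS (p := 21435) (l := 5) rfl N21435 D69529
theorem N42280 : nd 42280 = n69532 := ndS (p := 21436) (l := 1) rfl N21436 D69532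
theorem N42281 : nd 42281 = n69533 := ndS (p := 21436) (l := 2) rfl N21436 D69533
theorem N42282 : nd 42282 = n69534 := ndS (p := 21436) (l := 4) rfl N21436 D69534
theorem N42283 : nd 42283 = n69535 := ndS (p := 21436) (l := 5) rfl N21436 D69535
theorem N42284 : nd 42284 = n69546 := ndS (p := 21438) (l := 3) rfl N21438 D69546
theorem N42285 : nd 42285 = n69550 := ndS (p := 21439) (l := 4) rfl N21439 D69550
theorem N42286 : nd 42286 = n69558 := ndS (p := 21440) (l := 4) rfl N21440 D69558
theorem N42287 : nd 42287 = n69559 := ndS (p := 21440) (l := 5) rfl N21440 D69559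
theorem N42288 : nd 42288 = n69561 := ndS (p := 21441) (l := 0) rfl N21441 D69561
theorem N42289 : nd 42289 = n69563 := ndS (p := 21441) (l := 3) rfl N21441 D69563
theorem N42290 : nd 42290 = n69564 := ndS (p := 21441) (l := 5) rfl N21441 D69564
theorem N42291 : nd 42291 = n69565 := ndS (p := 21441) (l := 6) rfl N21441 D69565
theorem N42292 : nd 42292 = n69566 := ndS (p := 21442) (l := 0) rfl N21442 D69566
theorem N42293 : nd 42293 = n69570 := ndS (p := 21443) (l := 0) rfl N21443 D69570
theorem N42294 : nd 42294 = n69571 := ndS (p := 21443) (l := 1) rfl N21443 D69571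
theorem N42295 : nd 42295 = n69573 := ndS (p := 21443) (l := 7) rfl N21443 D69573
theorem N42296 : nd 42296 = n69574 := ndS (p := 21444) (l := 3) rfl N21444 D69574
theorem N42297 : nd 42297 = n69576 := ndS (p := 21445) (l := 0) rfl N21445 D69576
theorem N42298 : nd 42298 = n69578 := ndS (p := 21445) (l := 2) rfl N21445 D69578
theorem N42299 : nd 42299 = n69579 := ndS (p := 21445) (l := 5) rfl N21445 D69579
theorem N42300 : nd 42300 = n69580 := ndS (p := 21445) (l := 6) rfl N21445 D69580
theorem N42301 : nd 42301 = n69585 := ndS (p := 21447) (l := 1) rfl N21447 D69585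
theorem N42302 : nd 42302 = n69586 := ndS (p := 21447) (l := 5) rfl N21447 D69586
theorem N42303 : nd 42303 = n69588 := ndS (p := 21448) (l := 3) rfl N21448 D69588
theorem N42304 : nd 42304 = n69591 := ndS (p := 21451) (l := 4) rfl N21451 D69591
theorem N42305 : nd 42305 = n69599 := ndS (p := 21453) (l := 4) rfl N21453 D69599
theorem N42306 : nd 42306 = n69602 := ndS (p := 21454) (l := 4) rfl N21454 D69602
theorem N42307 : nd 42307 = n69603 := ndS (p := 21454) (l := 5) rfl N21454 D69603
theorem N42308 : nd 42308 = n69604 := ndS (p := 21454) (l := 6) rfl N21454 D69604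
theorem N42309 : nd 42309 = n69606 := ndS (p := 21455) (l := 1) rfl N21455 D69606
theorem N42310 : nd 42310 = n69607 := ndS (p := 21455) (l := 3) rfl N21455 D69607
theorem N42311 : nd 42311 = n69608 := ndS (p := 21455) (l := 5) rfl N21455 D69608
theorem N42312 : nd 42312 = n69609 := ndS (p := 21455) (l := 6) rfl N21455 D69609
theorem N42313 : nd 42313 = n69610 := ndS (p := 21456) (l := 0) rfl N21456 D69610
theorem N42314 : nd 42314 = n69611 := ndS (p := 21456) (l := 1) rfl N21456 D69611
theorem N42315 : nd 42315 = n69612 := ndS (p := 21456) (l := 4) rfl N21456 D69612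
theorem N42316 : nd 42316 = n69614 := ndS (p := 21457) (l := 1) rfl N21457 D69614
theorem N42317 : nd 42317 = n69615 := ndS (p := 21457) (l := 5) rfl N21457 D69615
theorem N42318 : nd 42318 = n69616 := ndS (p := 21457) (l := 7) rfl N21457 D69616
theorem N42319 : nd 42319 = n69618 := ndS (p := 21458) (l := 1) rfl N21458 D69618
theorem N42320 : nd 42320 = n69619 := ndS (p := 21458) (l := 2) rfl N21458 D69619
theorem N42321 : nd 42321 = n69630 := ndS (p := 21460) (l := 7) rfl N21460 D69630
theorem N42322 : nd 42322 = n69640 := ndS (p := 21462) (l := 4) rfl N21462 D69640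
theorem N42323 : nd 42323 = n69641 := ndS (p := 21462) (l := 5) rfl N21462 D69641
theorem N42324 : nd 42324 = n69642 := ndS (p := 21462) (l := 6) rfl N21462 D69642
theorem N42325 : nd 42325 = n69645 := ndS (p := 21463) (l := 3) rfl N21463 D69645
theorem N42326 : nd 42326 = n69647 := ndS (p := 21463) (l := 6) rfl N21463 D69647
theorem N42327 : nd 42327 = n69648 := ndS (p := 21464) (l := 0) rfl N21464 D69648
theorem N42328 : nd 42328 = n69649 := ndS (p := 21464) (l := 1) rfl N21464 D69649
theorem N42329 : nd 42329 = n69650 := ndS (p := 21464) (l := 4) rfl N21464 D69650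
theorem N42330 : nd 42330 = n69651 := ndS (p := 21464) (l := 6) rfl N21464 D69651
theorem N42331 : nd 42331 = n69655 := ndS (p := 21466) (l := 4) rfl N21466 D69655
theorem N42332 : nd 42332 = n69657 := ndS (p := 21466) (l := 6) rfl N21466 D69657
theorem N42333 : nd 42333 = n69658 := ndS (p := 21467) (l := 3) rfl N21467 D69658
theorem N42334 : nd 42334 = n69661 := ndS (p := 21468) (l := 4) rfl N21468 D69661
theorem N42335 : nd 42335 = n69665 := ndS (p := 21470) (l := 3) rfl N21470 D69665
theorem N42336 : nd 42336 = n69666 := ndS (p := 21470) (l := 4) rfl N21470 D69666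
theorem N42337 : nd 42337 = n69669 := ndS (p := 21471) (l := 3) rfl N21471 D69669
theorem N42338 : nd 42338 = n69670 := ndS (p := 21471) (l := 4) rfl N21471 D69670
theorem N42339 : nd 42339 = n69671 := ndS (p := 21471) (l := 6) rfl N21471 D69671
theorem N42340 : nd 42340 = n69672 := ndS (p := 21472) (l := 0) rfl N21472 D69672
theorem N42341 : nd 42341 = n69673 := ndS (p := 21472) (l := 1) rfl N21472 D69673
theorem N42342 : nd 42342 = n69674 := ndS (p := 21472) (l := 3) rfl N21472 D69674
theorem N42343 : nd 42343 = n69675 := ndS (p := 21473) (l := 0) rfl N21473 D69675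
theorem N42344 : nd 42344 = n69676 := ndS (p := 21473) (l := 1) rfl N21473 D69676
theorem N42345 : nd 42345 = n69677 := ndS (p := 21473) (l := 2) rfl N21473 D69677
theorem N42346 : nd 42346 = n69678 := ndS (p := 21474) (l := 1) rfl N21474 D69678
theorem N42347 : nd 42347 = n69679 := ndS (p := 21475) (l := 5) rfl N21475 D69679
theorem N42348 : nd 42348 = n69680 := ndS (p := 21476) (l := 4) rfl N21476 D69680
theorem N42349 : nd 42349 = n69681 := ndS (p := 21476) (l := 6) rfl N21476 D69681
theorem N42350 : nd 42350 = n69682 := ndS (p := 21478) (l := 6) rfl N21478 D69682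
theorem N42351 : nd 42351 = n69683 := ndS (p := 21479) (l := 0) rfl N21479 D69683
theorem N42352 : nd 42352 = n69684 := ndS (p := 21479) (l := 1) rfl N21479 D69684
theorem N42353 : nd 42353 = n69685 := ndS (p := 21479) (l := 5) rfl N21479 D69685
theorem N42354 : nd 42354 = n69686 := ndS (p := 21479) (l := 7) rfl N21479 D69686
theorem N42355 : nd 42355 = n69687 := ndS (p := 21480) (l := 3) rfl N21480 D69687
theorem N42356 : nd 42356 = n69688 := ndS (p := 21480) (l := 6) rfl N21480 D69688
theorem N42357 : nd 42357 = n69689 := ndS (p := 21482) (l := 0) rfl N21482 D69689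
theorem N42358 : nd 42358 = n69691 := ndS (p := 21482) (l := 4) rfl N21482 D69691
theorem N42359 : nd 42359 = n69692 := ndS (p := 21482) (l := 7) rfl N21482 D69692
theorem N42360 : nd 42360 = n69694 := ndS (p := 21484) (l := 3) rfl N21484 D69694
theorem N42361 : nd 42361 = n69696 := ndS (p := 21484) (l := 5) rfl N21484 D69696
theorem N42362 : nd 42362 = n69697 := ndS (p := 21484) (l := 6) rfl N21484 D69697
theorem N42363 : nd 42363 = n69699 := ndS (p := 21485) (l := 3) rfl N21485 D69699
theorem N42364 : nd 42364 = n69701 := ndS (p := 21485) (l := 5) rfl N21485 D69701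
theorem N42365 : nd 42365 = n69702 := ndS (p := 21485) (l := 6) rfl N21485 D69702
theorem N42366 : nd 42366 = n69703 := ndS (p := 21486) (l := 0) rfl N21486 D69703
theorem N42367 : nd 42367 = n69704 := ndS (p := 21486) (l := 1) rfl N21486 D69704
theorem N42368 : nd 42368 = n69705 := ndS (p := 21486) (l := 4) rfl N21486 D69705
theorem N42369 : nd 42369 = n69706 := ndS (p := 21486) (l := 7) rfl N21486 D69706
theorem N42370 : nd 42370 = n69707 := ndS (p := 21488) (l := 4) rfl N21488 D69707
theorem N42371 : nd 42371 = n69708 := ndS (p := 21488) (l := 6) rfl N21488 D69708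
theorem N42372 : nd 42372 = n69709 := ndS (p := 21490) (l := 1) rfl N21490 D69709
theorem N42373 : nd 42373 = n69710 := ndS (p := 21490) (l := 5) rfl N21490 D69710
theorem N42374 : nd 42374 = n69711 := ndS (p := 21491) (l := 4) rfl N21491 D69711
theorem N42375 : nd 42375 = n69712 := ndS (p := 21491) (l := 6) rfl N21491 D69712
theorem N42376 : nd 42376 = n69713 := ndS (p := 21492) (l := 4) rfl N21492 D69713
theorem N42377 : nd 42377 = n69714 := ndS (p := 21492) (l := 6) rfl N21492 D69714
theorem N42378 : nd 42378 = n69715 := ndS (p := 21493) (l := 3) rfl N21493 D69715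
theorem N42379 : nd 42379 = n69716 := ndS (p := 21493) (l := 4) rfl N21493 D69716
theorem N42380 : nd 42380 = n69717 := ndS (p := 21493) (l := 6) rfl N21493 D69717
theorem N42381 : nd 42381 = n69718 := ndS (p := 21494) (l := 0) rfl N21494 D69718
theorem N42382 : nd 42382 = n69719 := ndS (p := 21494) (l := 1) rfl N21494 D69719
theorem N42383 : nd 42383 = n69720 := ndS (p := 21494) (l := 3) rfl N21494 D69720
theorem N42384 : nd 42384 = n69721 := ndS (p := 21494) (l := 5) rfl N21494 D69721
theorem N42385 : nd 42385 = n69722 := ndS (p := 21494) (l := 7) rfl N21494 D69722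
theorem N42386 : nd 42386 = n69723 := ndS (p := 21495) (l := 6) rfl N21495 D69723
theorem N42387 : nd 42387 = n69724 := ndS (p := 21496) (l := 4) rfl N21496 D69724
theorem N42388 : nd 42388 = n69725 := ndS (p := 21496) (l := 6) rfl N21496 D69725
theorem N42389 : nd 42389 = n69726 := ndS (p := 21497) (l := 5) rfl N21497 D69726
theorem N42390 : nd 42390 = n69727 := ndS (p := 21498) (l := 4) rfl N21498 D69727
theorem N42391 : nd 42391 = n69728 := ndS (p := 21498) (l := 6) rfl N21498 D69728
theorem N42392 : nd 42392 = n69729 := ndS (p := 21499) (l := 6) rfl N21499 D69729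
theorem N42393 : nd 42393 = n69730 := ndS (p := 21500) (l := 6) rfl N21500 D69730
theorem N42394 : nd 42394 = n69731 := ndS (p := 21502) (l := 0) rfl N21502 D69731
theorem N42395 : nd 42395 = n69732 := ndS (p := 21502) (l := 1) rfl N21502 D69732
theorem N42396 : nd 42396 = n69733 := ndS (p := 21502) (l := 3) rfl N21502 D69733
theorem N42397 : nd 42397 = n69734 := ndS (p := 21502) (l := 5) rfl N21502 D69734
theorem N42398 : nd 42398 = n69735 := ndS (p := 21503) (l := 1) rfl N21503 D69735
theorem N42399 : nd 42399 = n69736 := ndS (p := 21503) (l := 7) rfl N21503 D69736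
theorem N42400 : nd 42400 = n69737 := ndS (p := 21504) (l := 5) rfl N21504 D69737
theorem N42401 : nd 42401 = n69738 := ndS (p := 21505) (l := 4) rfl N21505 D69738
theorem N42402 : nd 42402 = n69739 := ndS (p := 21505) (l := 6) rfl N21505 D69739
theorem N42403 : nd 42403 = n69740 := ndS (p := 21506) (l := 3) rfl N21506 D69740
theorem N42404 : nd 42404 = n69741 := ndS (p := 21506) (l := 6) rfl N21506 D69741
theorem N42405 : nd 42405 = n69743 := ndS (p := 21507) (l := 1) rfl N21507 D69743
theorem N42406 : nd 42406 = n69744 := ndS (p := 21507) (l := 7) rfl N21507 D69744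
theorem N42407 : nd 42407 = n69745 := ndS (p := 21508) (l := 3) rfl N21508 D69745
theorem N42408 : nd 42408 = n69746 := ndS (p := 21508) (l := 6) rfl N21508 D69746
theorem N42409 : nd 42409 = n69747 := ndS (p := 21509) (l := 0) rfl N21509 D69747
theorem N42410 : nd 42410 = n69748 := ndS (p := 21509) (l := 1) rfl N21509 D69748
theorem N42411 : nd 42411 = n69749 := ndS (p := 21509) (l := 7) rfl N21509 D69749
theorem N42412 : nd 42412 = n69750 := ndS (p := 21510) (l := 0) rfl N21510 D69750
theorem N42413 : nd 42413 = n69751 := ndS (p := 21510) (l := 1) rfl N21510 D69751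
theorem N42414 : nd 42414 = n69752 := ndS (p := 21510) (l := 2) rfl N21510 D69752
theorem N42415 : nd 42415 = n69753 := ndS (p := 21510) (l := 7) rfl N21510 D69753
theorem N42416 : nd 42416 = n69754 := ndS (p := 21511) (l := 6) rfl N21511 D69754
theorem N42417 : nd 42417 = n69755 := ndS (p := 21512) (l := 0) rfl N21512 D69755
theorem N42418 : nd 42418 = n69756 := ndS (p := 21512) (l := 1) rfl N21512 D69756
theorem N42419 : nd 42419 = n69757 := ndS (p := 21513) (l := 4) rfl N21513 D69757
theorem N42420 : nd 42420 = n69758 := ndS (p := 21514) (l := 3) rfl N21514 D69758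
theorem N42421 : nd 42421 = n69759 := ndS (p := 21514) (l := 6) rfl N21514 D69759
theorem N42422 : nd 42422 = n69760 := ndS (p := 21515) (l := 0) rfl N21515 D69760
theorem N42423 : nd 42423 = n69761 := ndS (p := 21515) (l := 1) rfl N21515 D69761
theorem N42424 : nd 42424 = n69762 := ndS (p := 21515) (l := 5) rfl N21515 D69762
theorem N42425 : nd 42425 = n69763 := ndS (p := 21515) (l := 7) rfl N21515 D69763
theorem N42426 : nd 42426 = n69764 := ndS (p := 21517) (l := 6) rfl N21517 D69764
theorem N42427 : nd 42427 = n69765 := ndS (p := 21518) (l := 0) rfl N21518 D69765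
theorem N42428 : nd 42428 = n69766 := ndS (p := 21518) (l := 1) rfl N21518 D69766
theorem N42429 : nd 42429 = n69767 := ndS (p := 21518) (l := 5) rfl N21518 D69767
theorem N42430 : nd 42430 = n69768 := ndS (p := 21518) (l := 7) rfl N21518 D69768
theorem N42431 : nd 42431 = n69770 := ndS (p := 21519) (l := 3) rfl N21519 D69770
theorem N42432 : nd 42432 = n69771 := ndS (p := 21519) (l := 4) rfl N21519 D69771
theorem N42433 : nd 42433 = n69772 := ndS (p := 21519) (l := 5) rfl N21519 D69772
theorem N42434 : nd 42434 = n69773 := ndS (p := 21519) (l := 6) rfl N21519 D69773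
theorem N42435 : nd 42435 = n69775 := ndS (p := 21520) (l := 3) rfl N21520 D69775
theorem N42436 : nd 42436 = n69776 := ndS (p := 21520) (l := 4) rfl N21520 D69776
theorem N42437 : nd 42437 = n69777 := ndS (p := 21520) (l := 5) rfl N21520 D69777
theorem N42438 : nd 42438 = n69778 := ndS (p := 21520) (l := 6) rfl N21520 D69778
theorem N42439 : nd 42439 = n69779 := ndS (p := 21521) (l := 0) rfl N21521 D69779
theorem N42440 : nd 42440 = n69780 := ndS (p := 21521) (l := 1) rfl N21521 D69780
theorem N42441 : nd 42441 = n69781 := ndS (p := 21521) (l := 7) rfl N21521 D69781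
theorem N42442 : nd 42442 = n69782 := ndS (p := 21524) (l := 6) rfl N21524 D69782
theorem N42443 : nd 42443 = n69783 := ndS (p := 21525) (l := 6) rfl N21525 D69783
theorem N42444 : nd 42444 = n69784 := ndS (p := 21526) (l := 3) rfl N21526 D69784
theorem N42445 : nd 42445 = n69785 := ndS (p := 21528) (l := 0) rfl N21528 D69785
theorem N42446 : nd 42446 = n69786 := ndS (p := 21528) (l := 1) rfl N21528 D69786
theorem N42447 : nd 42447 = n69787 := ndS (p := 21528) (l := 2) rfl N21528 D69787
theorem N42448 : nd 42448 = n69788 := ndS (p := 21529) (l := 6) rfl N21529 D69788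
theorem N42449 : nd 42449 = n69789 := ndS (p := 21531) (l := 4) rfl N21531 D69789
theorem N42450 : nd 42450 = n69790 := ndS (p := 21532) (l := 6) rfl N21532 D69790
theorem N42451 : nd 42451 = n69792 := ndS (p := 21533) (l := 6) rfl N21533 D69792
theorem N42452 : nd 42452 = n69793 := ndS (p := 21534) (l := 3) rfl N21534 D69793
theorem N42453 : nd 42453 = n69794 := ndS (p := 21534) (l := 6) rfl N21534 D69794
theorem N42454 : nd 42454 = n69795 := ndS (p := 21535) (l := 0) rfl N21535 D69795
theorem N42455 : nd 42455 = n69796 := ndS (p := 21535) (l := 1) rfl N21535 D69796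
theorem N42456 : nd 42456 = n69797 := ndS (p := 21535) (l := 7) rfl N21535 D69797
theorem N42457 : nd 42457 = n69800 := ndS (p := 21538) (l := 5) rfl N21538 D69800
theorem N42458 : nd 42458 = n69802 := ndS (p := 21539) (l := 0) rfl N21539 D69802
theorem N42459 : nd 42459 = n69803 := ndS (p := 21539) (l := 1) rfl N21539 D69803
theorem N42460 : nd 42460 = n69804 := ndS (p := 21539) (l := 7) rfl N21539 D69804
theorem N42461 : nd 42461 = n69805 := ndS (p := 21540) (l := 6) rfl N21540 D69805
theorem N42462 : nd 42462 = n69810 := ndS (p := 21542) (l := 6) rfl N21542 D69810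
theorem N42463 : nd 42463 = n69811 := ndS (p := 21543) (l := 3) rfl N21543 D69811
theorem N42464 : nd 42464 = n69812 := ndS (p := 21543) (l := 5) rfl N21543 D69812
theorem N42465 : nd 42465 = n69818 := ndS (p := 21545) (l := 6) rfl N21545 D69818
theorem N42466 : nd 42466 = n69819 := ndS (p := 21546) (l := 4) rfl N21546 D69819
theorem N42467 : nd 42467 = n69821 := ndS (p := 21547) (l := 0) rfl N21547 D69821
theorem N42468 : nd 42468 = n69823 := ndS (p := 21547) (l := 5) rfl N21547 D69823
theorem N42469 : nd 42469 = n69826 := ndS (p := 21548) (l := 3) rfl N21548 D69826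
theorem N42470 : nd 42470 = n69827 := ndS (p := 21548) (l := 4) rfl N21548 D69827
theorem N42471 : nd 42471 = n69828 := ndS (p := 21548) (l := 5) rfl N21548 D69828
theorem N42472 : nd 42472 = n69829 := ndS (p := 21548) (l := 6) rfl N21548 D69829
theorem N42473 : nd 42473 = n69831 := ndS (p := 21549) (l := 3) rfl N21549 D69831
theorem N42474 : nd 42474 = n69832 := ndS (p := 21549) (l := 4) rfl N21549 D69832
theorem N42475 : nd 42475 = n69833 := ndS (p := 21549) (l := 5) rfl N21549 D69833
theorem N42476 : nd 42476 = n69834 := ndS (p := 21549) (l := 6) rfl N21549 D69834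
theorem N42477 : nd 42477 = n69838 := ndS (p := 21551) (l := 4) rfl N21551 D69838
theorem N42478 : nd 42478 = n69839 := ndS (p := 21551) (l := 5) rfl N21551 D69839
theorem N42479 : nd 42479 = n69848 := ndS (p := 21554) (l := 4) rfl N21554 D69848
theorem N42480 : nd 42480 = n69849 := ndS (p := 21556) (l := 6) rfl N21556 D69849
theorem N42481 : nd 42481 = n69850 := ndS (p := 21557) (l := 1) rfl N21557 D69850
theorem N42482 : nd 42482 = n69851 := ndS (p := 21557) (l := 5) rfl N21557 D69851
theorem N42483 : nd 42483 = n69852 := ndS (p := 21558) (l := 6) rfl N21558 D69852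
theorem N42484 : nd 42484 = n69853 := ndS (p := 21559) (l := 6) rfl N21559 D69853
theorem N42485 : nd 42485 = n69854 := ndS (p := 21560) (l := 0) rfl N21560 D69854
theorem N42486 : nd 42486 = n69855 := ndS (p := 21560) (l := 1) rfl N21560 D69855
theorem N42487 : nd 42487 = n69856 := ndS (p := 21560) (l := 7) rfl N21560 D69856
theorem N42488 : nd 42488 = n69857 := ndS (p := 21561) (l := 5) rfl N21561 D69857
theorem N42489 : nd 42489 = n69858 := ndS (p := 21562) (l := 0) rfl N21562 D69858
theorem N42490 : nd 42490 = n69860 := ndS (p := 21562) (l := 7) rfl N21562 D69860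
theorem N42491 : nd 42491 = n69863 := ndS (p := 21563) (l := 4) rfl N21563 D69863
theorem N42492 : nd 42492 = n69864 := ndS (p := 21563) (l := 5) rfl N21563 D69864
theorem N42493 : nd 42493 = n69865 := ndS (p := 21563) (l := 6) rfl N21563 D69865
theorem N42494 : nd 42494 = n69871 := ndS (p := 21565) (l := 5) rfl N21565 D69871
theorem N42495 : nd 42495 = n69872 := ndS (p := 21566) (l := 6) rfl N21566 D69872
theorem N42496 : nd 42496 = n69873 := ndS (p := 21567) (l := 5) rfl N21567 D69873
theorem N42497 : nd 42497 = n69874 := ndS (p := 21569) (l := 6) rfl N21569 D69874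
theorem N42498 : nd 42498 = n69875 := ndS (p := 21570) (l := 0) rfl N21570 D69875
theorem N42499 : nd 42499 = n69876 := ndS (p := 21570) (l := 1) rfl N21570 D69876
theorem N42500 : nd 42500 = n69877 := ndS (p := 21570) (l := 5) rfl N21570 D69877
theorem N42501 : nd 42501 = n69878 := ndS (p := 21570) (l := 7) rfl N21570 D69878
theorem N42502 : nd 42502 = n69879 := ndS (p := 21573) (l := 1) rfl N21573 D69879
theorem N42503 : nd 42503 = n69880 := ndS (p := 21574) (l := 0) rfl N21574 D69880
theorem N42504 : nd 42504 = n69881 := ndS (p := 21574) (l := 1) rfl N21574 D69881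
theorem N42505 : nd 42505 = n69882 := ndS (p := 21574) (l := 5) rfl N21574 D69882
theorem N42506 : nd 42506 = n69883 := ndS (p := 21574) (l := 7) rfl N21574 D69883
theorem N42507 : nd 42507 = n69884 := ndS (p := 21577) (l := 0) rfl N21577 D69884
theorem N42508 : nd 42508 = n69885 := ndS (p := 21577) (l := 1) rfl N21577 D69885
theorem N42509 : nd 42509 = n69886 := ndS (p := 21577) (l := 5) rfl N21577 D69886
theorem N42510 : nd 42510 = n69887 := ndS (p := 21577) (l := 7) rfl N21577 D69887
theorem N42511 : nd 42511 = n69895 := ndS (p := 21578) (l := 4) rfl N21578 D69895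
theorem N42512 : nd 42512 = n69896 := ndS (p := 21578) (l := 5) rfl N21578 D69896
theorem N42513 : nd 42513 = n69897 := ndS (p := 21578) (l := 6) rfl N21578 D69897
theorem N42514 : nd 42514 = n69900 := ndS (p := 21579) (l := 4) rfl N21579 D69900
theorem N42515 : nd 42515 = n69901 := ndS (p := 21579) (l := 7) rfl N21579 D69901
theorem N42516 : nd 42516 = n69903 := ndS (p := 21581) (l := 1) rfl N21581 D69903
theorem N42517 : nd 42517 = n69904 := ndS (p := 21581) (l := 3) rfl N21581 D69904
theorem N42518 : nd 42518 = n69905 := ndS (p := 21581) (l := 5) rfl N21581 D69905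
theorem N42519 : nd 42519 = n69906 := ndS (p := 21582) (l := 6) rfl N21582 D69906
theorem N42520 : nd 42520 = n69908 := ndS (p := 21583) (l := 1) rfl N21583 D69908
theorem N42521 : nd 42521 = n69909 := ndS (p := 21583) (l := 5) rfl N21583 D69909
theorem N42522 : nd 42522 = n69910 := ndS (p := 21583) (l := 7) rfl N21583 D69910
theorem N42523 : nd 42523 = n69913 := ndS (p := 21584) (l := 4) rfl N21584 D69913
theorem N42524 : nd 42524 = n69914 := ndS (p := 21584) (l := 5) rfl N21584 D69914
theorem N42525 : nd 42525 = n69916 := ndS (p := 21585) (l := 3) rfl N21585 D69916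
theorem N42526 : nd 42526 = n69918 := ndS (p := 21585) (l := 5) rfl N21585 D69918
theorem N42527 : nd 42527 = n69920 := ndS (p := 21586) (l := 0) rfl N21586 D69920
theorem N42528 : nd 42528 = n69921 := ndS (p := 21586) (l := 1) rfl N21586 D69921
theorem N42529 : nd 42529 = n69922 := ndS (p := 21586) (l := 7) rfl N21586 D69922
theorem N42530 : nd 42530 = n69923 := ndS (p := 21588) (l := 5) rfl N21588 D69923
theorem N42531 : nd 42531 = n69924 := ndS (p := 21589) (l := 4) rfl N21589 D69924
theorem N42532 : nd 42532 = n69926 := ndS (p := 21590) (l := 6) rfl N21590 D69926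
theorem N42533 : nd 42533 = n69927 := ndS (p := 21591) (l := 0) rfl N21591 D69927
theorem N42534 : nd 42534 = n69928 := ndS (p := 21591) (l := 1) rfl N21591 D69928
theorem N42535 : nd 42535 = n69948 := ndS (p := 21593) (l := 0) rfl N21593 D69948
theorem N42536 : nd 42536 = n69950 := ndS (p := 21593) (l := 5) rfl N21593 D69950
theorem N42537 : nd 42537 = n69962 := ndS (p := 21594) (l := 4) rfl N21594 D69962
theorem N42538 : nd 42538 = n69963 := ndS (p := 21594) (l := 6) rfl N21594 D69963
theorem N42539 : nd 42539 = n69966 := ndS (p := 21595) (l := 5) rfl N21595 D69966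
theorem N42540 : nd 42540 = n69970 := ndS (p := 21596) (l := 5) rfl N21596 D69970
theorem N42541 : nd 42541 = n69974 := ndS (p := 21597) (l := 5) rfl N21597 D69974
theorem N42542 : nd 42542 = n69977 := ndS (p := 21598) (l := 3) rfl N21598 D69977
theorem N42543 : nd 42543 = n69979 := ndS (p := 21598) (l := 5) rfl N21598 D69979
theorem N42544 : nd 42544 = n69982 := ndS (p := 21599) (l := 3) rfl N21599 D69982
theorem N42545 : nd 42545 = n69984 := ndS (p := 21599) (l := 5) rfl N21599 D69984
theorem N42546 : nd 42546 = n69986 := ndS (p := 21600) (l := 0) rfl N21600 D69986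
theorem N42547 : nd 42547 = n69987 := ndS (p := 21600) (l := 1) rfl N21600 D69987
theorem N42548 : nd 42548 = n69988 := ndS (p := 21600) (l := 4) rfl N21600 D69988
theorem N42549 : nd 42549 = n69989 := ndS (p := 21600) (l := 7) rfl N21600 D69989
theorem N42550 : nd 42550 = n69996 := ndS (p := 21602) (l := 0) rfl N21602 D69996
theorem N42551 : nd 42551 = n69998 := ndS (p := 21602) (l := 2) rfl N21602 D69998
theorem N42552 : nd 42552 = n69999 := ndS (p := 21602) (l := 4) rfl N21602 D69999
theorem N42553 : nd 42553 = n70000 := ndS (p := 21602) (l := 5) rfl N21602 D70000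
theorem N42554 : nd 42554 = n70003 := ndS (p := 21603) (l := 0) rfl N21603 D70003
theorem N42555 : nd 42555 = n70006 := ndS (p := 21603) (l := 5) rfl N21603 D70006
theorem N42556 : nd 42556 = n70007 := ndS (p := 21603) (l := 6) rfl N21603 D70007
theorem N42557 : nd 42557 = n70009 := ndS (p := 21604) (l := 0) rfl N21604 D70009
theorem N42558 : nd 42558 = n70010 := ndS (p := 21604) (l := 1) rfl N21604 D70010
theorem N42559 : nd 42559 = n70011 := ndS (p := 21604) (l := 4) rfl N21604 D70011
theorem N42560 : nd 42560 = n70012 := ndS (p := 21604) (l := 6) rfl N21604 D70012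
theorem N42561 : nd 42561 = n70022 := ndS (p := 21606) (l := 5) rfl N21606 D70022
theorem N42562 : nd 42562 = n70023 := ndS (p := 21606) (l := 6) rfl N21606 D70023
theorem N42563 : nd 42563 = n70024 := ndS (p := 21607) (l := 3) rfl N21607 D70024
theorem N42564 : nd 42564 = n70025 := ndS (p := 21607) (l := 5) rfl N21607 D70025
theorem N42565 : nd 42565 = n70026 := ndS (p := 21607) (l := 6) rfl N21607 D70026
theorem N42566 : nd 42566 = n70027 := ndS (p := 21608) (l := 4) rfl N21608 D70027
theorem N42567 : nd 42567 = n70028 := ndS (p := 21608) (l := 6) rfl N21608 D70028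
theorem N42568 : nd 42568 = n70031 := ndS (p := 21609) (l := 5) rfl N21609 D70031
theorem N42569 : nd 42569 = n70034 := ndS (p := 21610) (l := 3) rfl N21610 D70034
theorem N42570 : nd 42570 = n70035 := ndS (p := 21610) (l := 4) rfl N21610 D70035
theorem N42571 : nd 42571 = n70036 := ndS (p := 21610) (l := 5) rfl N21610 D70036
theorem N42572 : nd 42572 = n70037 := ndS (p := 21610) (l := 6) rfl N21610 D70037
theorem N42573 : nd 42573 = n70039 := ndS (p := 21611) (l := 3) rfl N21611 D70039
theorem N42574 : nd 42574 = n70040 := ndS (p := 21611) (l := 4) rfl N21611 D70040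
theorem N42575 : nd 42575 = n70041 := ndS (p := 21611) (l := 5) rfl N21611 D70041
theorem N42576 : nd 42576 = n70043 := ndS (p := 21612) (l := 0) rfl N21612 D70043
theorem N42577 : nd 42577 = n70044 := ndS (p := 21612) (l := 1) rfl N21612 D70044
theorem N42578 : nd 42578 = n70045 := ndS (p := 21612) (l := 5) rfl N21612 D70045
theorem N42579 : nd 42579 = n70046 := ndS (p := 21612) (l := 7) rfl N21612 D70046
theorem N42580 : nd 42580 = n70047 := ndS (p := 21614) (l := 5) rfl N21614 D70047
theorem N42581 : nd 42581 = n70048 := ndS (p := 21616) (l := 0) rfl N21616 D70048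
theorem N42582 : nd 42582 = n70049 := ndS (p := 21616) (l := 1) rfl N21616 D70049
theorem N42583 : nd 42583 = n70052 := ndS (p := 21618) (l := 6) rfl N21618 D70052
theorem N42584 : nd 42584 = n70053 := ndS (p := 21619) (l := 3) rfl N21619 D70053
theorem N42585 : nd 42585 = n70054 := ndS (p := 21619) (l := 6) rfl N21619 D70054
theorem N42586 : nd 42586 = n70058 := ndS (p := 21621) (l := 2) rfl N21621 D70058
theorem N42587 : nd 42587 = n70059 := ndS (p := 21621) (l := 4) rfl N21621 D70059
theorem N42588 : nd 42588 = n70060 := ndS (p := 21621) (l := 6) rfl N21621 D70060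
theorem N42589 : nd 42589 = n70061 := ndS (p := 21622) (l := 0) rfl N21622 D70061
theorem N42590 : nd 42590 = n70062 := ndS (p := 21622) (l := 3) rfl N21622 D70062
theorem N42591 : nd 42591 = n70063 := ndS (p := 21622) (l := 6) rfl N21622 D70063
theorem N42592 : nd 42592 = n70064 := ndS (p := 21623) (l := 0) rfl N21623 D70064
theorem N42593 : nd 42593 = n70065 := ndS (p := 21623) (l := 1) rfl N21623 D70065
theorem N42594 : nd 42594 = n70066 := ndS (p := 21623) (l := 7) rfl N21623 D70066
theorem N42595 : nd 42595 = n70067 := ndS (p := 21624) (l := 3) rfl N21624 D70067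
theorem N42596 : nd 42596 = n70068 := ndS (p := 21624) (l := 6) rfl N21624 D70068
theorem N42597 : nd 42597 = n70084 := ndS (p := 21625) (l := 5) rfl N21625 D70084
theorem N42598 : nd 42598 = n70086 := ndS (p := 21626) (l := 0) rfl N21626 D70086
theorem N42599 : nd 42599 = n70087 := ndS (p := 21626) (l := 1) rfl N21626 D70087
theorem N42600 : nd 42600 = n70088 := ndS (p := 21626) (l := 4) rfl N21626 D70088
theorem N42601 : nd 42601 = n70093 := ndS (p := 21627) (l := 4) rfl N21627 D70093
theorem N42602 : nd 42602 = n70110 := ndS (p := 21629) (l := 4) rfl N21629 D70110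
theorem N42603 : nd 42603 = n70111 := ndS (p := 21629) (l := 5) rfl N21629 D70111
theorem N42604 : nd 42604 = n70114 := ndS (p := 21630) (l := 5) rfl N21630 D70114
theorem N42605 : nd 42605 = n70117 := ndS (p := 21631) (l := 1) rfl N21631 D70117
theorem N42606 : nd 42606 = n70118 := ndS (p := 21631) (l := 5) rfl N21631 D70118
theorem N42607 : nd 42607 = n70120 := ndS (p := 21632) (l := 0) rfl N21632 D70120
theorem N42608 : nd 42608 = n70121 := ndS (p := 21632) (l := 1) rfl N21632 D70121
theorem N42609 : nd 42609 = n70123 := ndS (p := 21632) (l := 6) rfl N21632 D70123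
theorem N42610 : nd 42610 = n70124 := ndS (p := 21633) (l := 0) rfl N21633 D70124
theorem N42611 : nd 42611 = n70125 := ndS (p := 21633) (l := 1) rfl N21633 D70125
theorem N42612 : nd 42612 = n70126 := ndS (p := 21633) (l := 5) rfl N21633 D70126
theorem N42613 : nd 42613 = n70131 := ndS (p := 21634) (l := 5) rfl N21634 D70131
theorem N42614 : nd 42614 = n70133 := ndS (p := 21635) (l := 4) rfl N21635 D70133
theorem N42615 : nd 42615 = n70137 := ndS (p := 21636) (l := 4) rfl N21636 D70137
theorem N42616 : nd 42616 = n70138 := ndS (p := 21636) (l := 5) rfl N21636 D70138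
theorem N42617 : nd 42617 = n70143 := ndS (p := 21638) (l := 2) rfl N21638 D70143
theorem N42618 : nd 42618 = n70144 := ndS (p := 21638) (l := 4) rfl N21638 D70144
theorem N42619 : nd 42619 = n70159 := ndS (p := 21640) (l := 4) rfl N21640 D70159
theorem N42620 : nd 42620 = n70160 := ndS (p := 21640) (l := 6) rfl N21640 D70160
theorem N42621 : nd 42621 = n70162 := ndS (p := 21642) (l := 4) rfl N21642 D70162
theorem N42622 : nd 42622 = n70163 := ndS (p := 21642) (l := 6) rfl N21642 D70163
theorem N42623 : nd 42623 = n70164 := ndS (p := 21643) (l := 4) rfl N21643 D70164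
theorem N42624 : nd 42624 = n70165 := ndS (p := 21643) (l := 6) rfl N21643 D70165
theorem N42625 : nd 42625 = n70184 := ndS (p := 21647) (l := 4) rfl N21647 D70184
theorem N42626 : nd 42626 = n70185 := ndS (p := 21647) (l := 6) rfl N21647 D70185
theorem N42627 : nd 42627 = n70188 := ndS (p := 21649) (l := 5) rfl N21649 D70188
theorem N42628 : nd 42628 = n70189 := ndS (p := 21651) (l := 4) rfl N21651 D70189
theorem N42629 : nd 42629 = n70190 := ndS (p := 21651) (l := 6) rfl N21651 D70190
theorem N42630 : nd 42630 = n70191 := ndS (p := 21652) (l := 6) rfl N21652 D70191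
theorem N42631 : nd 42631 = n70192 := ndS (p := 21653) (l := 1) rfl N21653 D70192
theorem N42632 : nd 42632 = n70194 := ndS (p := 21653) (l := 5) rfl N21653 D70194
theorem N42633 : nd 42633 = n70197 := ndS (p := 21654) (l := 1) rfl N21654 D70197
theorem N42634 : nd 42634 = n70200 := ndS (p := 21655) (l := 4) rfl N21655 D70200
theorem N42635 : nd 42635 = n70201 := ndS (p := 21656) (l := 4) rfl N21656 D70201
theorem N42636 : nd 42636 = n70202 := ndS (p := 21657) (l := 1) rfl N21657 D70202
theorem N42637 : nd 42637 = n70221 := ndS (p := 21658) (l := 3) rfl N21658 D70221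
theorem N42638 : nd 42638 = n70222 := ndS (p := 21659) (l := 6) rfl N21659 D70222
theorem N42639 : nd 42639 = n70223 := ndS (p := 21660) (l := 6) rfl N21660 D70223
theorem N42640 : nd 42640 = n70226 := ndS (p := 21661) (l := 7) rfl N21661 D70226
theorem N42641 : nd 42641 = n70239 := ndS (p := 21663) (l := 5) rfl N21663 D70239
theorem N42642 : nd 42642 = n70241 := ndS (p := 21665) (l := 6) rfl N21665 D70241
theorem N42643 : nd 42643 = n70242 := ndS (p := 21666) (l := 6) rfl N21666 D70242
theorem N42644 : nd 42644 = n70243 := ndS (p := 21667) (l := 0) rfl N21667 D70243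
theorem N42645 : nd 42645 = n70244 := ndS (p := 21667) (l := 1) rfl N21667 D70244
theorem N42646 : nd 42646 = n70246 := ndS (p := 21668) (l := 0) rfl N21668 D70246
theorem N42647 : nd 42647 = n70247 := ndS (p := 21668) (l := 2) rfl N21668 D70247
theorem N42648 : nd 42648 = n70260 := ndS (p := 21671) (l := 0) rfl N21671 D70260
theorem N42649 : nd 42649 = n70262 := ndS (p := 21671) (l := 2) rfl N21671 D70262
theorem N42650 : nd 42650 = n70263 := ndS (p := 21671) (l := 4) rfl N21671 D70263
theorem N42651 : nd 42651 = n70276 := ndS (p := 21673) (l := 5) rfl N21673 D70276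
theorem N42652 : nd 42652 = n70278 := ndS (p := 21674) (l := 3) rfl N21674 D70278
theorem N42653 : nd 42653 = n70282 := ndS (p := 21675) (l := 3) rfl N21675 D70282
theorem N42654 : nd 42654 = n70283 := ndS (p := 21675) (l := 4) rfl N21675 D70283
theorem N42655 : nd 42655 = n70285 := ndS (p := 21677) (l := 6) rfl N21677 D70285
theorem N42656 : nd 42656 = n70286 := ndS (p := 21678) (l := 0) rfl N21678 D70286
theorem N42657 : nd 42657 = n70288 := ndS (p := 21678) (l := 7) rfl N21678 D70288
theorem N42658 : nd 42658 = n70289 := ndS (p := 21679) (l := 6) rfl N21679 D70289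
theorem N42659 : nd 42659 = n70290 := ndS (p := 21680) (l := 3) rfl N21680 D70290
theorem N42660 : nd 42660 = n70291 := ndS (p := 21680) (l := 4) rfl N21680 D70291
theorem N42661 : nd 42661 = n70292 := ndS (p := 21680) (l := 6) rfl N21680 D70292
theorem N42662 : nd 42662 = n70293 := ndS (p := 21681) (l := 0) rfl N21681 D70293
theorem N42663 : nd 42663 = n70294 := ndS (p := 21681) (l := 1) rfl N21681 D70294
theorem N42664 : nd 42664 = n70296 := ndS (p := 21681) (l := 5) rfl N21681 D70296
theorem N42665 : nd 42665 = n70301 := ndS (p := 21682) (l := 4) rfl N21682 D70301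
theorem N42666 : nd 42666 = n70302 := ndS (p := 21682) (l := 6) rfl N21682 D70302
theorem N42667 : nd 42667 = n70306 := ndS (p := 21683) (l := 7) rfl N21683 D70306
theorem N42668 : nd 42668 = n70324 := ndS (p := 21684) (l := 5) rfl N21684 D70324
theorem N42669 : nd 42669 = n70325 := ndS (p := 21685) (l := 6) rfl N21685 D70325
theorem N42670 : nd 42670 = n70326 := ndS (p := 21686) (l := 4) rfl N21686 D70326
theorem N42671 : nd 42671 = n70328 := ndS (p := 21688) (l := 6) rfl N21688 D70328
theorem N42672 : nd 42672 = n70329 := ndS (p := 21689) (l := 0) rfl N21689 D70329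
theorem N42673 : nd 42673 = n70330 := ndS (p := 21689) (l := 1) rfl N21689 D70330
theorem N42674 : nd 42674 = n70331 := ndS (p := 21689) (l := 5) rfl N21689 D70331
theorem N42675 : nd 42675 = n70333 := ndS (p := 21690) (l := 3) rfl N21690 D70333
theorem N42676 : nd 42676 = n70334 := ndS (p := 21691) (l := 4) rfl N21691 D70334
theorem N42677 : nd 42677 = n70340 := ndS (p := 21693) (l := 3) rfl N21693 D70340
theorem N42678 : nd 42678 = n70342 := ndS (p := 21693) (l := 6) rfl N21693 D70342
theorem N42679 : nd 42679 = n70349 := ndS (p := 21696) (l := 3) rfl N21696 D70349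
theorem N42680 : nd 42680 = n70350 := ndS (p := 21697) (l := 6) rfl N21697 D70350
theorem N42681 : nd 42681 = n70352 := ndS (p := 21699) (l := 0) rfl N21699 D70352
theorem N42682 : nd 42682 = n70353 := ndS (p := 21699) (l := 1) rfl N21699 D70353
theorem N42683 : nd 42683 = n70354 := ndS (p := 21699) (l := 7) rfl N21699 D70354
theorem N42684 : nd 42684 = n70356 := ndS (p := 21701) (l := 0) rfl N21701 D70356
theorem N42685 : nd 42685 = n70358 := ndS (p := 21701) (l := 2) rfl N21701 D70358
theorem N42686 : nd 42686 = n70373 := ndS (p := 21703) (l := 6) rfl N21703 D70373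
theorem N42687 : nd 42687 = n70374 := ndS (p := 21704) (l := 3) rfl N21704 D70374
theorem N42688 : nd 42688 = n70375 := ndS (p := 21704) (l := 6) rfl N21704 D70375
theorem N42689 : nd 42689 = n70376 := ndS (p := 21705) (l := 0) rfl N21705 D70376
theorem N42690 : nd 42690 = n70377 := ndS (p := 21705) (l := 1) rfl N21705 D70377
theorem N42691 : nd 42691 = n70378 := ndS (p := 21705) (l := 7) rfl N21705 D70378
theorem N42692 : nd 42692 = n70379 := ndS (p := 21706) (l := 0) rfl N21706 D70379
theorem N42693 : nd 42693 = n70380 := ndS (p := 21706) (l := 2) rfl N21706 D70380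
theorem N42694 : nd 42694 = n70381 := ndS (p := 21706) (l := 6) rfl N21706 D70381
theorem N42695 : nd 42695 = n70382 := ndS (p := 21707) (l := 0) rfl N21707 D70382
theorem N42696 : nd 42696 = n70383 := ndS (p := 21707) (l := 1) rfl N21707 D70383
theorem N42697 : nd 42697 = n70390 := ndS (p := 21708) (l := 4) rfl N21708 D70390
theorem N42698 : nd 42698 = n70394 := ndS (p := 21711) (l := 2) rfl N21711 D70394
theorem N42699 : nd 42699 = n70395 := ndS (p := 21711) (l := 6) rfl N21711 D70395
theorem N42700 : nd 42700 = n70434 := ndS (p := 21715) (l := 0) rfl N21715 D70434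
theorem N42701 : nd 42701 = n70435 := ndS (p := 21715) (l := 1) rfl N21715 D70435
theorem N42702 : nd 42702 = n70444 := ndS (p := 21717) (l := 3) rfl N21717 D70444
theorem N42703 : nd 42703 = n70453 := ndS (p := 21720) (l := 5) rfl N21720 D70453
theorem N42704 : nd 42704 = n70454 := ndS (p := 21720) (l := 6) rfl N21720 D70454
theorem N42705 : nd 42705 = n70455 := ndS (p := 21721) (l := 3) rfl N21721 D70455
theorem N42706 : nd 42706 = n70466 := ndS (p := 21725) (l := 3) rfl N21725 D70466
theorem N42707 : nd 42707 = n70472 := ndS (p := 21727) (l := 4) rfl N21727 D70472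
theorem N42708 : nd 42708 = n70480 := ndS (p := 21728) (l := 4) rfl N21728 D70480
theorem N42709 : nd 42709 = n70481 := ndS (p := 21728) (l := 5) rfl N21728 D70481
theorem N42710 : nd 42710 = n70482 := ndS (p := 21728) (l := 6) rfl N21728 D70482
theorem N42711 : nd 42711 = n70483 := ndS (p := 21729) (l := 0) rfl N21729 D70483
theorem N42712 : nd 42712 = n70484 := ndS (p := 21729) (l := 5) rfl N21729 D70484
theorem N42713 : nd 42713 = n70486 := ndS (p := 21730) (l := 0) rfl N21730 D70486
theorem N42714 : nd 42714 = n70487 := ndS (p := 21730) (l := 1) rfl N21730 D70487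
theorem N42715 : nd 42715 = n70490 := ndS (p := 21731) (l := 0) rfl N21731 D70490
theorem N42716 : nd 42716 = n70491 := ndS (p := 21731) (l := 1) rfl N21731 D70491
theorem N42717 : nd 42717 = n70494 := ndS (p := 21732) (l := 6) rfl N21732 D70494
theorem N42718 : nd 42718 = n70519 := ndS (p := 21734) (l := 5) rfl N21734 D70519
theorem N42719 : nd 42719 = n70520 := ndS (p := 21734) (l := 6) rfl N21734 D70520
theorem N42720 : nd 42720 = n70521 := ndS (p := 21735) (l := 0) rfl N21735 D70521
theorem N42721 : nd 42721 = n70522 := ndS (p := 21735) (l := 1) rfl N21735 D70522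
theorem N42722 : nd 42722 = n70528 := ndS (p := 21737) (l := 3) rfl N21737 D70528
theorem N42723 : nd 42723 = n70533 := ndS (p := 21740) (l := 3) rfl N21740 D70533
theorem N42724 : nd 42724 = n70534 := ndS (p := 21740) (l := 6) rfl N21740 D70534
theorem N42725 : nd 42725 = n70536 := ndS (p := 21741) (l := 1) rfl N21741 D70536
theorem N42726 : nd 42726 = n70537 := ndS (p := 21741) (l := 7) rfl N21741 D70537
theorem N42727 : nd 42727 = n70538 := ndS (p := 21742) (l := 6) rfl N21742 D70538
theorem N42728 : nd 42728 = n70540 := ndS (p := 21743) (l := 1) rfl N21743 D70540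
theorem N42729 : nd 42729 = n70541 := ndS (p := 21743) (l := 7) rfl N21743 D70541
theorem N42730 : nd 42730 = n70563 := ndS (p := 21749) (l := 6) rfl N21749 D70563
theorem N42731 : nd 42731 = n70564 := ndS (p := 21750) (l := 3) rfl N21750 D70564
theorem N42732 : nd 42732 = n70565 := ndS (p := 21750) (l := 6) rfl N21750 D70565
theorem N42733 : nd 42733 = n70566 := ndS (p := 21751) (l := 6) rfl N21751 D70566
theorem N42734 : nd 42734 = n70567 := ndS (p := 21752) (l := 0) rfl N21752 D70567
theorem N42735 : nd 42735 = n70568 := ndS (p := 21752) (l := 1) rfl N21752 D70568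
theorem N42736 : nd 42736 = n70569 := ndS (p := 21752) (l := 7) rfl N21752 D70569
theorem N42737 : nd 42737 = n70570 := ndS (p := 21753) (l := 0) rfl N21753 D70570
theorem N42738 : nd 42738 = n70571 := ndS (p := 21753) (l := 1) rfl N21753 D70571
theorem N42739 : nd 42739 = n70572 := ndS (p := 21753) (l := 6) rfl N21753 D70572
theorem N42740 : nd 42740 = n70578 := ndS (p := 21755) (l := 4) rfl N21755 D70578
theorem N42741 : nd 42741 = n70579 := ndS (p := 21755) (l := 6) rfl N21755 D70579
theorem N42742 : nd 42742 = n70580 := ndS (p := 21757) (l := 5) rfl N21757 D70580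
theorem N42743 : nd 42743 = n70581 := ndS (p := 21758) (l := 5) rfl N21758 D70581
theorem N42744 : nd 42744 = n70582 := ndS (p := 21759) (l := 0) rfl N21759 D70582
theorem N42745 : nd 42745 = n70583 := ndS (p := 21759) (l := 1) rfl N21759 D70583
theorem N42746 : nd 42746 = n70584 := ndS (p := 21759) (l := 4) rfl N21759 D70584
theorem N42747 : nd 42747 = n70585 := ndS (p := 21760) (l := 0) rfl N21760 D70585
theorem N42748 : nd 42748 = n70589 := ndS (p := 21761) (l := 0) rfl N21761 D70589
theorem N42749 : nd 42749 = n70590 := ndS (p := 21761) (l := 4) rfl N21761 D70590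
theorem N42750 : nd 42750 = n70591 := ndS (p := 21762) (l := 0) rfl N21762 D70591
theorem N42751 : nd 42751 = n70592 := ndS (p := 21762) (l := 1) rfl N21762 D70592
theorem N42752 : nd 42752 = n70593 := ndS (p := 21762) (l := 3) rfl N21762 D70593
theorem N42753 : nd 42753 = n70594 := ndS (p := 21762) (l := 5) rfl N21762 D70594
theorem N42754 : nd 42754 = n70595 := ndS (p := 21763) (l := 6) rfl N21763 D70595
theorem N42755 : nd 42755 = n70606 := ndS (p := 21766) (l := 4) rfl N21766 D70606
theorem N42756 : nd 42756 = n70607 := ndS (p := 21766) (l := 5) rfl N21766 D70607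
theorem N42757 : nd 42757 = n70608 := ndS (p := 21766) (l := 6) rfl N21766 D70608
theorem N42758 : nd 42758 = n70610 := ndS (p := 21767) (l := 3) rfl N21767 D70610
theorem N42759 : nd 42759 = n70612 := ndS (p := 21767) (l := 5) rfl N21767 D70612
theorem N42760 : nd 42760 = n70614 := ndS (p := 21769) (l := 6) rfl N21769 D70614
theorem N42761 : nd 42761 = n70615 := ndS (p := 21770) (l := 0) rfl N21770 D70615
theorem N42762 : nd 42762 = n70616 := ndS (p := 21770) (l := 1) rfl N21770 D70616
theorem N42763 : nd 42763 = n70617 := ndS (p := 21770) (l := 7) rfl N21770 D70617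
theorem N42764 : nd 42764 = n70618 := ndS (p := 21771) (l := 6) rfl N21771 D70618
theorem N42765 : nd 42765 = n70619 := ndS (p := 21772) (l := 0) rfl N21772 D70619
theorem N42766 : nd 42766 = n70620 := ndS (p := 21772) (l := 1) rfl N21772 D70620
theorem N42767 : nd 42767 = n70621 := ndS (p := 21772) (l := 5) rfl N21772 D70621
theorem N42768 : nd 42768 = n70622 := ndS (p := 21772) (l := 7) rfl N21772 D70622
theorem N42769 : nd 42769 = n70625 := ndS (p := 21773) (l := 4) rfl N21773 D70625
theorem N42770 : nd 42770 = n70626 := ndS (p := 21773) (l := 5) rfl N21773 D70626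
theorem N42771 : nd 42771 = n70630 := ndS (p := 21774) (l := 4) rfl N21774 D70630
theorem N42772 : nd 42772 = n70631 := ndS (p := 21774) (l := 5) rfl N21774 D70631
theorem N42773 : nd 42773 = n70632 := ndS (p := 21774) (l := 6) rfl N21774 D70632
theorem N42774 : nd 42774 = n70633 := ndS (p := 21776) (l := 3) rfl N21776 D70633
theorem N42775 : nd 42775 = n70635 := ndS (p := 21777) (l := 0) rfl N21777 D70635
theorem N42776 : nd 42776 = n70636 := ndS (p := 21777) (l := 1) rfl N21777 D70636
theorem N42777 : nd 42777 = n70637 := ndS (p := 21777) (l := 7) rfl N21777 D70637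
theorem N42778 : nd 42778 = n70638 := ndS (p := 21778) (l := 6) rfl N21778 D70638
theorem N42779 : nd 42779 = n70639 := ndS (p := 21779) (l := 0) rfl N21779 D70639
theorem N42780 : nd 42780 = n70640 := ndS (p := 21779) (l := 1) rfl N21779 D70640
theorem N42781 : nd 42781 = n70641 := ndS (p := 21779) (l := 5) rfl N21779 D70641
theorem N42782 : nd 42782 = n70642 := ndS (p := 21779) (l := 7) rfl N21779 D70642
theorem N42783 : nd 42783 = n70650 := ndS (p := 21780) (l := 4) rfl N21780 D70650
theorem N42784 : nd 42784 = n70651 := ndS (p := 21780) (l := 5) rfl N21780 D70651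
theorem N42785 : nd 42785 = n70652 := ndS (p := 21780) (l := 6) rfl N21780 D70652
theorem N42786 : nd 42786 = n70653 := ndS (p := 21782) (l := 6) rfl N21782 D70653
theorem N42787 : nd 42787 = n70656 := ndS (p := 21783) (l := 5) rfl N21783 D70656
theorem N42788 : nd 42788 = n70657 := ndS (p := 21783) (l := 7) rfl N21783 D70657
theorem N42789 : nd 42789 = n70660 := ndS (p := 21784) (l := 5) rfl N21784 D70660
theorem N42790 : nd 42790 = n70661 := ndS (p := 21784) (l := 7) rfl N21784 D70661
theorem N42791 : nd 42791 = n70662 := ndS (p := 21785) (l := 6) rfl N21785 D70662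
theorem N42792 : nd 42792 = n70663 := ndS (p := 21786) (l := 0) rfl N21786 D70663
theorem N42793 : nd 42793 = n70664 := ndS (p := 21786) (l := 1) rfl N21786 D70664
theorem N42794 : nd 42794 = n70666 := ndS (p := 21786) (l := 7) rfl N21786 D70666
theorem N42795 : nd 42795 = n70687 := ndS (p := 21787) (l := 0) rfl N21787 D70687
theorem N42796 : nd 42796 = n70689 := ndS (p := 21787) (l := 2) rfl N21787 D70689
theorem N42797 : nd 42797 = n70692 := ndS (p := 21787) (l := 6) rfl N21787 D70692
theorem N42798 : nd 42798 = n70694 := ndS (p := 21788) (l := 0) rfl N21788 D70694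
theorem N42799 : nd 42799 = n70698 := ndS (p := 21788) (l := 6) rfl N21788 D70698
theorem N42800 : nd 42800 = n70700 := ndS (p := 21789) (l := 0) rfl N21789 D70700
theorem N42801 : nd 42801 = n70701 := ndS (p := 21789) (l := 1) rfl N21789 D70701
theorem N42802 : nd 42802 = n70703 := ndS (p := 21789) (l := 6) rfl N21789 D70703
theorem N42803 : nd 42803 = n70706 := ndS (p := 21790) (l := 1) rfl N21790 D70706
theorem N42804 : nd 42804 = n70707 := ndS (p := 21790) (l := 7) rfl N21790 D70707
theorem N42805 : nd 42805 = n70712 := ndS (p := 21791) (l := 4) rfl N21791 D70712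
theorem N42806 : nd 42806 = n70713 := ndS (p := 21791) (l := 5) rfl N21791 D70713
theorem N42807 : nd 42807 = n70714 := ndS (p := 21791) (l := 6) rfl N21791 D70714
theorem N42808 : nd 42808 = n70716 := ndS (p := 21792) (l := 5) rfl N21792 D70716
theorem N42809 : nd 42809 = n70717 := ndS (p := 21792) (l := 6) rfl N21792 D70717
theorem N42810 : nd 42810 = n70723 := ndS (p := 21795) (l := 3) rfl N21795 D70723
theorem N42811 : nd 42811 = n70724 := ndS (p := 21795) (l := 6) rfl N21795 D70724
theorem N42812 : nd 42812 = n70725 := ndS (p := 21796) (l := 6) rfl N21796 D70725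
theorem N42813 : nd 42813 = n70726 := ndS (p := 21797) (l := 0) rfl N21797 D70726
theorem N42814 : nd 42814 = n70727 := ndS (p := 21797) (l := 1) rfl N21797 D70727
theorem N42815 : nd 42815 = n70728 := ndS (p := 21797) (l := 5) rfl N21797 D70728
theorem N42816 : nd 42816 = n70729 := ndS (p := 21797) (l := 7) rfl N21797 D70729
theorem N42817 : nd 42817 = n70731 := ndS (p := 21798) (l := 3) rfl N21798 D70731
theorem N42818 : nd 42818 = n70737 := ndS (p := 21799) (l := 4) rfl N21799 D70737
theorem N42819 : nd 42819 = n70739 := ndS (p := 21799) (l := 6) rfl N21799 D70739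
theorem N42820 : nd 42820 = n70753 := ndS (p := 21802) (l := 4) rfl N21802 D70753
theorem N42821 : nd 42821 = n70754 := ndS (p := 21804) (l := 3) rfl N21804 D70754
theorem N42822 : nd 42822 = n70756 := ndS (p := 21805) (l := 0) rfl N21805 D70756
theorem N42823 : nd 42823 = n70758 := ndS (p := 21805) (l := 5) rfl N21805 D70758
theorem N42824 : nd 42824 = n70769 := ndS (p := 21807) (l := 3) rfl N21807 D70769
theorem N42825 : nd 42825 = n70771 := ndS (p := 21807) (l := 5) rfl N21807 D70771
theorem N42826 : nd 42826 = n70772 := ndS (p := 21807) (l := 6) rfl N21807 D70772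
theorem N42827 : nd 42827 = n70774 := ndS (p := 21808) (l := 3) rfl N21808 D70774
theorem N42828 : nd 42828 = n70776 := ndS (p := 21808) (l := 5) rfl N21808 D70776
theorem N42829 : nd 42829 = n70777 := ndS (p := 21808) (l := 6) rfl N21808 D70777
theorem N42830 : nd 42830 = n70778 := ndS (p := 21809) (l := 0) rfl N21809 D70778
theorem N42831 : nd 42831 = n70779 := ndS (p := 21809) (l := 1) rfl N21809 D70779
theorem N42832 : nd 42832 = n70780 := ndS (p := 21809) (l := 4) rfl N21809 D70780
theorem N42833 : nd 42833 = n70781 := ndS (p := 21809) (l := 7) rfl N21809 D70781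
theorem N42834 : nd 42834 = n70782 := ndS (p := 21811) (l := 3) rfl N21811 D70782
theorem N42835 : nd 42835 = n70800 := ndS (p := 21813) (l := 0) rfl N21813 D70800
theorem N42836 : nd 42836 = n70801 := ndS (p := 21813) (l := 1) rfl N21813 D70801
theorem N42837 : nd 42837 = n70803 := ndS (p := 21813) (l := 6) rfl N21813 D70803
theorem N42838 : nd 42838 = n70804 := ndS (p := 21814) (l := 0) rfl N21814 D70804
theorem N42839 : nd 42839 = n70805 := ndS (p := 21814) (l := 1) rfl N21814 D70805
theorem N42840 : nd 42840 = n70806 := ndS (p := 21814) (l := 7) rfl N21814 D70806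
theorem N42841 : nd 42841 = n70815 := ndS (p := 21817) (l := 7) rfl N21817 D70815
theorem N42842 : nd 42842 = n70829 := ndS (p := 21821) (l := 6) rfl N21821 D70829
theorem N42843 : nd 42843 = n70838 := ndS (p := 21822) (l := 0) rfl N21822 D70838
theorem N42844 : nd 42844 = n70839 := ndS (p := 21822) (l := 1) rfl N21822 D70839
theorem N42845 : nd 42845 = n70840 := ndS (p := 21822) (l := 7) rfl N21822 D70840
theorem N42846 : nd 42846 = n70844 := ndS (p := 21825) (l := 6) rfl N21825 D70844
theorem N42847 : nd 42847 = n70847 := ndS (p := 21826) (l := 5) rfl N21826 D70847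
theorem N42848 : nd 42848 = n70848 := ndS (p := 21826) (l := 7) rfl N21826 D70848
theorem N42849 : nd 42849 = n70851 := ndS (p := 21827) (l := 4) rfl N21827 D70851
theorem N42850 : nd 42850 = n70859 := ndS (p := 21830) (l := 0) rfl N21830 D70859
theorem N42851 : nd 42851 = n70860 := ndS (p := 21830) (l := 1) rfl N21830 D70860
theorem N42852 : nd 42852 = n70861 := ndS (p := 21830) (l := 7) rfl N21830 D70861
theorem N42853 : nd 42853 = n70862 := ndS (p := 21831) (l := 2) rfl N21831 D70862
theorem N42854 : nd 42854 = n70869 := ndS (p := 21833) (l := 4) rfl N21833 D70869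
theorem N42855 : nd 42855 = n70870 := ndS (p := 21833) (l := 5) rfl N21833 D70870
theorem N42856 : nd 42856 = n70871 := ndS (p := 21833) (l := 6) rfl N21833 D70871
theorem N42857 : nd 42857 = n70874 := ndS (p := 21835) (l := 0) rfl N21835 D70874
theorem N42858 : nd 42858 = n70875 := ndS (p := 21835) (l := 1) rfl N21835 D70875
theorem N42859 : nd 42859 = n70876 := ndS (p := 21835) (l := 7) rfl N21835 D70876
theorem N42860 : nd 42860 = n70878 := ndS (p := 21836) (l := 2) rfl N21836 D70878
theorem N42861 : nd 42861 = n70896 := ndS (p := 21839) (l := 6) rfl N21839 D70896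
theorem N42862 : nd 42862 = n70899 := ndS (p := 21841) (l := 0) rfl N21841 D70899
theorem N42863 : nd 42863 = n70909 := ndS (p := 21842) (l := 7) rfl N21842 D70909
theorem N42864 : nd 42864 = n70916 := ndS (p := 21844) (l := 3) rfl N21844 D70916
theorem N42865 : nd 42865 = n70935 := ndS (p := 21847) (l := 6) rfl N21847 D70935
theorem N42866 : nd 42866 = n70939 := ndS (p := 21848) (l := 3) rfl N21848 D70939
theorem N42867 : nd 42867 = n70956 := ndS (p := 21851) (l := 5) rfl N21851 D70956
theorem N42868 : nd 42868 = n70957 := ndS (p := 21851) (l := 6) rfl N21851 D70957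
theorem N42869 : nd 42869 = n70958 := ndS (p := 21852) (l := 3) rfl N21852 D70958
theorem N42870 : nd 42870 = n70961 := ndS (p := 21853) (l := 4) rfl N21853 D70961
theorem N42871 : nd 42871 = n70964 := ndS (p := 21854) (l := 5) rfl N21854 D70964
theorem N42872 : nd 42872 = n70965 := ndS (p := 21854) (l := 7) rfl N21854 D70965
theorem N42873 : nd 42873 = n70966 := ndS (p := 21855) (l := 3) rfl N21855 D70966
theorem N42874 : nd 42874 = n70967 := ndS (p := 21855) (l := 4) rfl N21855 D70967
theorem N42875 : nd 42875 = n70968 := ndS (p := 21855) (l := 6) rfl N21855 D70968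
theorem N42876 : nd 42876 = n70969 := ndS (p := 21856) (l := 3) rfl N21856 D70969
theorem N42877 : nd 42877 = n70970 := ndS (p := 21856) (l := 4) rfl N21856 D70970
theorem N42878 : nd 42878 = n70971 := ndS (p := 21857) (l := 0) rfl N21857 D70971
theorem N42879 : nd 42879 = n70972 := ndS (p := 21857) (l := 1) rfl N21857 D70972
theorem N42880 : nd 42880 = n70975 := ndS (p := 21857) (l := 7) rfl N21857 D70975
theorem N42881 : nd 42881 = n70976 := ndS (p := 21859) (l := 4) rfl N21859 D70976
theorem N42882 : nd 42882 = n70977 := ndS (p := 21859) (l := 6) rfl N21859 D70977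
theorem N42883 : nd 42883 = n70978 := ndS (p := 21860) (l := 3) rfl N21860 D70978
theorem N42884 : nd 42884 = n70979 := ndS (p := 21860) (l := 6) rfl N21860 D70979
theorem N42885 : nd 42885 = n70981 := ndS (p := 21863) (l := 3) rfl N21863 D70981
theorem N42886 : nd 42886 = n70986 := ndS (p := 21864) (l := 3) rfl N21864 D70986
theorem N42887 : nd 42887 = n70988 := ndS (p := 21865) (l := 3) rfl N21865 D70988
theorem N42888 : nd 42888 = n70995 := ndS (p := 21866) (l := 4) rfl N21866 D70995
theorem N42889 : nd 42889 = n70996 := ndS (p := 21866) (l := 5) rfl N21866 D70996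
theorem N42890 : nd 42890 = n71003 := ndS (p := 21867) (l := 4) rfl N21867 D71003
theorem N42891 : nd 42891 = n71005 := ndS (p := 21867) (l := 6) rfl N21867 D71005
theorem N42892 : nd 42892 = n71006 := ndS (p := 21868) (l := 0) rfl N21868 D71006
theorem N42893 : nd 42893 = n71009 := ndS (p := 21868) (l := 6) rfl N21868 D71009
theorem N42894 : nd 42894 = n71014 := ndS (p := 21869) (l := 0) rfl N21869 D71014
theorem N42895 : nd 42895 = n71015 := ndS (p := 21869) (l := 1) rfl N21869 D71015
theorem N42896 : nd 42896 = n71016 := ndS (p := 21869) (l := 7) rfl N21869 D71016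
theorem N42897 : nd 42897 = n71037 := ndS (p := 21872) (l := 1) rfl N21872 D71037
theorem N42898 : nd 42898 = n71038 := ndS (p := 21872) (l := 5) rfl N21872 D71038
theorem N42899 : nd 42899 = n71039 := ndS (p := 21872) (l := 6) rfl N21872 D71039
theorem N42900 : nd 42900 = n71045 := ndS (p := 21873) (l := 5) rfl N21873 D71045
theorem N42901 : nd 42901 = n71046 := ndS (p := 21873) (l := 7) rfl N21873 D71046
theorem N42902 : nd 42902 = n71050 := ndS (p := 21876) (l := 2) rfl N21876 D71050
theorem N42903 : nd 42903 = n71051 := ndS (p := 21876) (l := 4) rfl N21876 D71051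
theorem N42904 : nd 42904 = n71061 := ndS (p := 21877) (l := 4) rfl N21877 D71061
theorem N42905 : nd 42905 = n71078 := ndS (p := 21879) (l := 5) rfl N21879 D71078
theorem N42906 : nd 42906 = n71079 := ndS (p := 21880) (l := 4) rfl N21880 D71079
theorem N42907 : nd 42907 = n71080 := ndS (p := 21880) (l := 6) rfl N21880 D71080
theorem N42908 : nd 42908 = n71081 := ndS (p := 21881) (l := 4) rfl N21881 D71081
theorem N42909 : nd 42909 = n71083 := ndS (p := 21882) (l := 1) rfl N21882 D71083
theorem N42910 : nd 42910 = n71084 := ndS (p := 21882) (l := 4) rfl N21882 D71084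
theorem N42911 : nd 42911 = n71085 := ndS (p := 21882) (l := 6) rfl N21882 D71085
theorem N42912 : nd 42912 = n71086 := ndS (p := 21883) (l := 4) rfl N21883 D71086
theorem N42913 : nd 42913 = n71087 := ndS (p := 21883) (l := 6) rfl N21883 D71087
theorem N42914 : nd 42914 = n71088 := ndS (p := 21884) (l := 3) rfl N21884 D71088
theorem N42915 : nd 42915 = n71089 := ndS (p := 21884) (l := 4) rfl N21884 D71089
theorem N42916 : nd 42916 = n71091 := ndS (p := 21885) (l := 1) rfl N21885 D71091
theorem N42917 : nd 42917 = n71093 := ndS (p := 21885) (l := 5) rfl N21885 D71093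
theorem N42918 : nd 42918 = n71118 := ndS (p := 21888) (l := 5) rfl N21888 D71118
theorem N42919 : nd 42919 = n71119 := ndS (p := 21888) (l := 6) rfl N21888 D71119
theorem N42920 : nd 42920 = n71120 := ndS (p := 21889) (l := 0) rfl N21889 D71120
theorem N42921 : nd 42921 = n71138 := ndS (p := 21890) (l := 6) rfl N21890 D71138
theorem N42922 : nd 42922 = n71139 := ndS (p := 21891) (l := 1) rfl N21891 D71139
theorem N42923 : nd 42923 = n71142 := ndS (p := 21891) (l := 6) rfl N21891 D71142
theorem N42924 : nd 42924 = n71143 := ndS (p := 21892) (l := 0) rfl N21892 D71143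
theorem N42925 : nd 42925 = n71144 := ndS (p := 21892) (l := 1) rfl N21892 D71144
theorem N42926 : nd 42926 = n71164 := ndS (p := 21893) (l := 5) rfl N21893 D71164
theorem N42927 : nd 42927 = n71236 := ndS (p := 21894) (l := 4) rfl N21894 D71236
theorem N42928 : nd 42928 = n71237 := ndS (p := 21894) (l := 6) rfl N21894 D71237
theorem N42929 : nd 42929 = n71238 := ndS (p := 21895) (l := 4) rfl N21895 D71238
theorem N42930 : nd 42930 = n71240 := ndS (p := 21896) (l := 4) rfl N21896 D71240
theorem N42931 : nd 42931 = n71241 := ndS (p := 21896) (l := 6) rfl N21896 D71241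
theorem N42932 : nd 42932 = n71242 := ndS (p := 21897) (l := 3) rfl N21897 D71242
theorem N42933 : nd 42933 = n71243 := ndS (p := 21897) (l := 4) rfl N21897 D71243
theorem N42934 : nd 42934 = n71245 := ndS (p := 21898) (l := 5) rfl N21898 D71245
theorem N42935 : nd 42935 = n71250 := ndS (p := 21899) (l := 4) rfl N21899 D71250
theorem N42936 : nd 42936 = n71251 := ndS (p := 21899) (l := 6) rfl N21899 D71251
theorem N42937 : nd 42937 = n71274 := ndS (p := 21901) (l := 0) rfl N21901 D71274
theorem N42938 : nd 42938 = n71275 := ndS (p := 21901) (l := 1) rfl N21901 D71275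
theorem N42939 : nd 42939 = n71277 := ndS (p := 21901) (l := 6) rfl N21901 D71277
theorem N42940 : nd 42940 = n71278 := ndS (p := 21902) (l := 3) rfl N21902 D71278
theorem N42941 : nd 42941 = n71279 := ndS (p := 21902) (l := 4) rfl N21902 D71279
theorem N42942 : nd 42942 = n71280 := ndS (p := 21902) (l := 6) rfl N21902 D71280
theorem N42943 : nd 42943 = n71281 := ndS (p := 21903) (l := 1) rfl N21903 D71281
theorem N42944 : nd 42944 = n71283 := ndS (p := 21903) (l := 6) rfl N21903 D71283
theorem N42945 : nd 42945 = n71284 := ndS (p := 21904) (l := 0) rfl N21904 D71284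
theorem N42946 : nd 42946 = n71285 := ndS (p := 21904) (l := 1) rfl N21904 D71285
theorem N42947 : nd 42947 = n71286 := ndS (p := 21904) (l := 7) rfl N21904 D71286
theorem N42948 : nd 42948 = n71287 := ndS (p := 21905) (l := 4) rfl N21905 D71287
theorem N42949 : nd 42949 = n71288 := ndS (p := 21906) (l := 0) rfl N21906 D71288
theorem N42950 : nd 42950 = n71289 := ndS (p := 21906) (l := 1) rfl N21906 D71289
theorem N42951 : nd 42951 = n71290 := ndS (p := 21906) (l := 3) rfl N21906 D71290
theorem N42952 : nd 42952 = n71291 := ndS (p := 21906) (l := 5) rfl N21906 D71291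
theorem N42953 : nd 42953 = n71292 := ndS (p := 21906) (l := 6) rfl N21906 D71292
theorem N42954 : nd 42954 = n71293 := ndS (p := 21907) (l := 0) rfl N21907 D71293
theorem N42955 : nd 42955 = n71304 := ndS (p := 21909) (l := 3) rfl N21909 D71304
theorem N42956 : nd 42956 = n71306 := ndS (p := 21909) (l := 5) rfl N21909 D71306
theorem N42957 : nd 42957 = n71307 := ndS (p := 21909) (l := 6) rfl N21909 D71307
theorem N42958 : nd 42958 = n71308 := ndS (p := 21910) (l := 3) rfl N21910 D71308
theorem N42959 : nd 42959 = n71312 := ndS (p := 21911) (l := 5) rfl N21911 D71312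
theorem N42960 : nd 42960 = n71314 := ndS (p := 21913) (l := 4) rfl N21913 D71314
theorem N42961 : nd 42961 = n71315 := ndS (p := 21913) (l := 6) rfl N21913 D71315
theorem N42962 : nd 42962 = n71316 := ndS (p := 21914) (l := 5) rfl N21914 D71316
theorem N42963 : nd 42963 = n71317 := ndS (p := 21915) (l := 4) rfl N21915 D71317
theorem N42964 : nd 42964 = n71318 := ndS (p := 21915) (l := 6) rfl N21915 D71318
theorem N42965 : nd 42965 = n71319 := ndS (p := 21916) (l := 4) rfl N21916 D71319
theorem N42966 : nd 42966 = n71320 := ndS (p := 21916) (l := 6) rfl N21916 D71320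
theorem N42967 : nd 42967 = n71321 := ndS (p := 21917) (l := 3) rfl N21917 D71321
theorem N42968 : nd 42968 = n71322 := ndS (p := 21917) (l := 6) rfl N21917 D71322
theorem N42969 : nd 42969 = n71323 := ndS (p := 21918) (l := 0) rfl N21918 D71323
theorem N42970 : nd 42970 = n71324 := ndS (p := 21918) (l := 1) rfl N21918 D71324
theorem N42971 : nd 42971 = n71325 := ndS (p := 21918) (l := 5) rfl N21918 D71325
theorem N42972 : nd 42972 = n71326 := ndS (p := 21918) (l := 7) rfl N21918 D71326
theorem N42973 : nd 42973 = n71327 := ndS (p := 21919) (l := 0) rfl N21919 D71327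
theorem N42974 : nd 42974 = n71328 := ndS (p := 21919) (l := 1) rfl N21919 D71328
theorem N42975 : nd 42975 = n71329 := ndS (p := 21919) (l := 4) rfl N21919 D71329
theorem N42976 : nd 42976 = n71331 := ndS (p := 21921) (l := 0) rfl N21921 D71331
theorem N42977 : nd 42977 = n71332 := ndS (p := 21921) (l := 1) rfl N21921 D71332
theorem N42978 : nd 42978 = n71347 := ndS (p := 21922) (l := 4) rfl N21922 D71347
theorem N42979 : nd 42979 = n71349 := ndS (p := 21923) (l := 5) rfl N21923 D71349
theorem N42980 : nd 42980 = n71351 := ndS (p := 21924) (l := 6) rfl N21924 D71351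
theorem N42981 : nd 42981 = n71352 := ndS (p := 21925) (l := 4) rfl N21925 D71352
theorem N42982 : nd 42982 = n71353 := ndS (p := 21925) (l := 6) rfl N21925 D71353
theorem N42983 : nd 42983 = n71354 := ndS (p := 21926) (l := 3) rfl N21926 D71354
theorem N42984 : nd 42984 = n71355 := ndS (p := 21926) (l := 5) rfl N21926 D71355
theorem N42985 : nd 42985 = n71356 := ndS (p := 21927) (l := 4) rfl N21927 D71356
theorem N42986 : nd 42986 = n71357 := ndS (p := 21927) (l := 6) rfl N21927 D71357
theorem N42987 : nd 42987 = n71358 := ndS (p := 21928) (l := 3) rfl N21928 D71358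
theorem N42988 : nd 42988 = n71359 := ndS (p := 21928) (l := 5) rfl N21928 D71359
theorem N42989 : nd 42989 = n71360 := ndS (p := 21928) (l := 6) rfl N21928 D71360
theorem N42990 : nd 42990 = n71364 := ndS (p := 21930) (l := 6) rfl N21930 D71364
theorem N42991 : nd 42991 = n71365 := ndS (p := 21931) (l := 0) rfl N21931 D71365
theorem N42992 : nd 42992 = n71366 := ndS (p := 21931) (l := 1) rfl N21931 D71366
theorem N42993 : nd 42993 = n71367 := ndS (p := 21931) (l := 7) rfl N21931 D71367
theorem N42994 : nd 42994 = n71368 := ndS (p := 21932) (l := 0) rfl N21932 D71368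
theorem N42995 : nd 42995 = n71370 := ndS (p := 21933) (l := 6) rfl N21933 D71370
theorem N42996 : nd 42996 = n71371 := ndS (p := 21934) (l := 0) rfl N21934 D71371
theorem N42997 : nd 42997 = n71385 := ndS (p := 21935) (l := 4) rfl N21935 D71385
theorem N42998 : nd 42998 = n71386 := ndS (p := 21935) (l := 6) rfl N21935 D71386
theorem N42999 : nd 42999 = n71387 := ndS (p := 21936) (l := 5) rfl N21936 D71387
theorem N43000 : nd 43000 = n71388 := ndS (p := 21937) (l := 3) rfl N21937 D71388
theorem N43001 : nd 43001 = n71389 := ndS (p := 21937) (l := 6) rfl N21937 D71389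
theorem N43002 : nd 43002 = n71390 := ndS (p := 21938) (l := 0) rfl N21938 D71390
theorem N43003 : nd 43003 = n71391 := ndS (p := 21938) (l := 1) rfl N21938 D71391
theorem N43004 : nd 43004 = n71392 := ndS (p := 21938) (l := 5) rfl N21938 D71392
theorem N43005 : nd 43005 = n71393 := ndS (p := 21938) (l := 7) rfl N21938 D71393
theorem N43006 : nd 43006 = n71394 := ndS (p := 21939) (l := 5) rfl N21939 D71394
theorem N43007 : nd 43007 = n71395 := ndS (p := 21940) (l := 4) rfl N21940 D71395
theorem N43008 : nd 43008 = n71416 := ndS (p := 21943) (l := 5) rfl N21943 D71416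
theorem N43009 : nd 43009 = n71417 := ndS (p := 21944) (l := 4) rfl N21944 D71417
theorem N43010 : nd 43010 = n71418 := ndS (p := 21944) (l := 6) rfl N21944 D71418
theorem N43011 : nd 43011 = n71419 := ndS (p := 21945) (l := 5) rfl N21945 D71419
theorem N43012 : nd 43012 = n71420 := ndS (p := 21946) (l := 4) rfl N21946 D71420
theorem N43013 : nd 43013 = n71421 := ndS (p := 21946) (l := 6) rfl N21946 D71421
theorem N43014 : nd 43014 = n71422 := ndS (p := 21947) (l := 4) rfl N21947 D71422
theorem N43015 : nd 43015 = n71423 := ndS (p := 21948) (l := 4) rfl N21948 D71423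
theorem N43016 : nd 43016 = n71424 := ndS (p := 21948) (l := 6) rfl N21948 D71424
theorem N43017 : nd 43017 = n71425 := ndS (p := 21949) (l := 3) rfl N21949 D71425
theorem N43018 : nd 43018 = n71426 := ndS (p := 21949) (l := 5) rfl N21949 D71426
theorem N43019 : nd 43019 = n71427 := ndS (p := 21950) (l := 6) rfl N21950 D71427
theorem N43020 : nd 43020 = n71428 := ndS (p := 21951) (l := 6) rfl N21951 D71428
theorem N43021 : nd 43021 = n71429 := ndS (p := 21952) (l := 0) rfl N21952 D71429
theorem N43022 : nd 43022 = n71430 := ndS (p := 21952) (l := 1) rfl N21952 D71430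
theorem N43023 : nd 43023 = n71431 := ndS (p := 21952) (l := 6) rfl N21952 D71431
theorem N43024 : nd 43024 = n71432 := ndS (p := 21953) (l := 0) rfl N21953 D71432
theorem N43025 : nd 43025 = n71434 := ndS (p := 21953) (l := 5) rfl N21953 D71434
theorem N43026 : nd 43026 = n71435 := ndS (p := 21953) (l := 7) rfl N21953 D71435
theorem N43027 : nd 43027 = n71436 := ndS (p := 21954) (l := 0) rfl N21954 D71436
theorem N43028 : nd 43028 = n71437 := ndS (p := 21954) (l := 1) rfl N21954 D71437
theorem N43029 : nd 43029 = n71438 := ndS (p := 21954) (l := 4) rfl N21954 D71438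
theorem N43030 : nd 43030 = n71443 := ndS (p := 21956) (l := 1) rfl N21956 D71443
theorem N43031 : nd 43031 = n71444 := ndS (p := 21956) (l := 7) rfl N21956 D71444
theorem N43032 : nd 43032 = n71445 := ndS (p := 21957) (l := 0) rfl N21957 D71445
theorem N43033 : nd 43033 = n71446 := ndS (p := 21957) (l := 1) rfl N21957 D71446
theorem N43034 : nd 43034 = n71447 := ndS (p := 21957) (l := 6) rfl N21957 D71447
theorem N43035 : nd 43035 = n71448 := ndS (p := 21958) (l := 0) rfl N21958 D71448
theorem N43036 : nd 43036 = n71449 := ndS (p := 21958) (l := 1) rfl N21958 D71449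
theorem N43037 : nd 43037 = n71450 := ndS (p := 21958) (l := 5) rfl N21958 D71450
theorem N43038 : nd 43038 = n71451 := ndS (p := 21958) (l := 7) rfl N21958 D71451
theorem N43039 : nd 43039 = n71452 := ndS (p := 21959) (l := 3) rfl N21959 D71452
theorem N43040 : nd 43040 = n71453 := ndS (p := 21959) (l := 6) rfl N21959 D71453
theorem N43041 : nd 43041 = n71455 := ndS (p := 21960) (l := 1) rfl N21960 D71455
theorem N43042 : nd 43042 = n71456 := ndS (p := 21960) (l := 7) rfl N21960 D71456
theorem N43043 : nd 43043 = n71457 := ndS (p := 21961) (l := 6) rfl N21961 D71457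
theorem N43044 : nd 43044 = n71458 := ndS (p := 21962) (l := 6) rfl N21962 D71458
theorem N43045 : nd 43045 = n71459 := ndS (p := 21963) (l := 0) rfl N21963 D71459
theorem N43046 : nd 43046 = n71460 := ndS (p := 21963) (l := 1) rfl N21963 D71460
theorem N43047 : nd 43047 = n71461 := ndS (p := 21963) (l := 5) rfl N21963 D71461
theorem N43048 : nd 43048 = n71462 := ndS (p := 21963) (l := 7) rfl N21963 D71462
theorem N43049 : nd 43049 = n71464 := ndS (p := 21964) (l := 3) rfl N21964 D71464
theorem N43050 : nd 43050 = n71465 := ndS (p := 21964) (l := 4) rfl N21964 D71465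
theorem N43051 : nd 43051 = n71466 := ndS (p := 21964) (l := 5) rfl N21964 D71466
theorem N43052 : nd 43052 = n71467 := ndS (p := 21964) (l := 6) rfl N21964 D71467
theorem N43053 : nd 43053 = n71469 := ndS (p := 21965) (l := 3) rfl N21965 D71469
theorem N43054 : nd 43054 = n71470 := ndS (p := 21965) (l := 4) rfl N21965 D71470
theorem N43055 : nd 43055 = n71471 := ndS (p := 21965) (l := 5) rfl N21965 D71471
theorem N43056 : nd 43056 = n71472 := ndS (p := 21965) (l := 6) rfl N21965 D71472
theorem N43057 : nd 43057 = n71473 := ndS (p := 21966) (l := 0) rfl N21966 D71473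
theorem N43058 : nd 43058 = n71474 := ndS (p := 21966) (l := 1) rfl N21966 D71474
theorem N43059 : nd 43059 = n71475 := ndS (p := 21966) (l := 4) rfl N21966 D71475
theorem N43060 : nd 43060 = n71476 := ndS (p := 21966) (l := 7) rfl N21966 D71476
theorem N43061 : nd 43061 = n71477 := ndS (p := 21968) (l := 5) rfl N21968 D71477
theorem N43062 : nd 43062 = n71478 := ndS (p := 21969) (l := 0) rfl N21969 D71478
theorem N43063 : nd 43063 = n71479 := ndS (p := 21969) (l := 4) rfl N21969 D71479
theorem N43064 : nd 43064 = n71480 := ndS (p := 21969) (l := 6) rfl N21969 D71480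
theorem N43065 : nd 43065 = n71481 := ndS (p := 21971) (l := 4) rfl N21971 D71481
theorem N43066 : nd 43066 = n71482 := ndS (p := 21971) (l := 6) rfl N21971 D71482
theorem N43067 : nd 43067 = n71483 := ndS (p := 21972) (l := 3) rfl N21972 D71483
theorem N43068 : nd 43068 = n71484 := ndS (p := 21972) (l := 4) rfl N21972 D71484
theorem N43069 : nd 43069 = n71485 := ndS (p := 21972) (l := 6) rfl N21972 D71485
theorem N43070 : nd 43070 = n71486 := ndS (p := 21973) (l := 0) rfl N21973 D71486
theorem N43071 : nd 43071 = n71487 := ndS (p := 21973) (l := 1) rfl N21973 D71487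
theorem N43072 : nd 43072 = n71488 := ndS (p := 21973) (l := 3) rfl N21973 D71488
theorem N43073 : nd 43073 = n71489 := ndS (p := 21973) (l := 5) rfl N21973 D71489
theorem N43074 : nd 43074 = n71490 := ndS (p := 21973) (l := 7) rfl N21973 D71490
theorem N43075 : nd 43075 = n71491 := ndS (p := 21974) (l := 6) rfl N21974 D71491
theorem N43076 : nd 43076 = n71499 := ndS (p := 21977) (l := 4) rfl N21977 D71499
theorem N43077 : nd 43077 = n71500 := ndS (p := 21977) (l := 5) rfl N21977 D71500
theorem N43078 : nd 43078 = n71501 := ndS (p := 21977) (l := 6) rfl N21977 D71501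
theorem N43079 : nd 43079 = n71507 := ndS (p := 21978) (l := 0) rfl N21978 D71507
theorem N43080 : nd 43080 = n71510 := ndS (p := 21978) (l := 7) rfl N21978 D71510
theorem N43081 : nd 43081 = n71518 := ndS (p := 21982) (l := 5) rfl N21982 D71518
theorem N43082 : nd 43082 = n71520 := ndS (p := 21983) (l := 6) rfl N21983 D71520
theorem N43083 : nd 43083 = n71521 := ndS (p := 21984) (l := 0) rfl N21984 D71521
theorem N43084 : nd 43084 = n71522 := ndS (p := 21984) (l := 1) rfl N21984 D71522
theorem N43085 : nd 43085 = n71533 := ndS (p := 21985) (l := 5) rfl N21985 D71533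
theorem N43086 : nd 43086 = n71536 := ndS (p := 21986) (l := 1) rfl N21986 D71536
theorem N43087 : nd 43087 = n71537 := ndS (p := 21986) (l := 4) rfl N21986 D71537
theorem N43088 : nd 43088 = n71538 := ndS (p := 21986) (l := 7) rfl N21986 D71538
theorem N43089 : nd 43089 = n71539 := ndS (p := 21988) (l := 0) rfl N21988 D71539
theorem N43090 : nd 43090 = n71541 := ndS (p := 21988) (l := 5) rfl N21988 D71541
theorem N43091 : nd 43091 = n71542 := ndS (p := 21988) (l := 6) rfl N21988 D71542
theorem N43092 : nd 43092 = n71543 := ndS (p := 21989) (l := 6) rfl N21989 D71543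
theorem N43093 : nd 43093 = n71547 := ndS (p := 21990) (l := 7) rfl N21990 D71547
theorem N43094 : nd 43094 = n71550 := ndS (p := 21992) (l := 6) rfl N21992 D71550
theorem N43095 : nd 43095 = n71554 := ndS (p := 21993) (l := 7) rfl N21993 D71554
theorem N43096 : nd 43096 = n71555 := ndS (p := 21994) (l := 3) rfl N21994 D71555
theorem N43097 : nd 43097 = n71557 := ndS (p := 21995) (l := 6) rfl N21995 D71557
theorem N43098 : nd 43098 = n71558 := ndS (p := 21996) (l := 3) rfl N21996 D71558
theorem N43099 : nd 43099 = n71636 := ndS (p := 21997) (l := 6) rfl N21997 D71636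
theorem N43100 : nd 43100 = n71637 := ndS (p := 21998) (l := 5) rfl N21998 D71637
theorem N43101 : nd 43101 = n71638 := ndS (p := 21999) (l := 4) rfl N21999 D71638
theorem N43102 : nd 43102 = n71639 := ndS (p := 21999) (l := 6) rfl N21999 D71639
theorem N43103 : nd 43103 = n71640 := ndS (p := 22001) (l := 4) rfl N22001 D71640
theorem N43104 : nd 43104 = n71641 := ndS (p := 22001) (l := 6) rfl N22001 D71641
theorem N43105 : nd 43105 = n71643 := ndS (p := 22002) (l := 5) rfl N22002 D71643
theorem N43106 : nd 43106 = n71644 := ndS (p := 22002) (l := 6) rfl N22002 D71644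
theorem N43107 : nd 43107 = n71645 := ndS (p := 22003) (l := 0) rfl N22003 D71645
theorem N43108 : nd 43108 = n71647 := ndS (p := 22003) (l := 5) rfl N22003 D71647
theorem N43109 : nd 43109 = n71648 := ndS (p := 22003) (l := 7) rfl N22003 D71648
theorem N43110 : nd 43110 = n71649 := ndS (p := 22004) (l := 4) rfl N22004 D71649
theorem N43111 : nd 43111 = n71650 := ndS (p := 22005) (l := 5) rfl N22005 D71650
theorem N43112 : nd 43112 = n71653 := ndS (p := 22007) (l := 5) rfl N22007 D71653
theorem N43113 : nd 43113 = n71654 := ndS (p := 22008) (l := 4) rfl N22008 D71654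
theorem N43114 : nd 43114 = n71655 := ndS (p := 22008) (l := 6) rfl N22008 D71655
theorem N43115 : nd 43115 = n71657 := ndS (p := 22009) (l := 5) rfl N22009 D71657
theorem N43116 : nd 43116 = n71658 := ndS (p := 22009) (l := 6) rfl N22009 D71658
theorem N43117 : nd 43117 = n71660 := ndS (p := 22010) (l := 1) rfl N22010 D71660
theorem N43118 : nd 43118 = n71661 := ndS (p := 22010) (l := 7) rfl N22010 D71661
theorem N43119 : nd 43119 = n71662 := ndS (p := 22011) (l := 6) rfl N22011 D71662
theorem N43120 : nd 43120 = n71663 := ndS (p := 22012) (l := 0) rfl N22012 D71663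
theorem N43121 : nd 43121 = n71664 := ndS (p := 22012) (l := 1) rfl N22012 D71664
theorem N43122 : nd 43122 = n71665 := ndS (p := 22012) (l := 3) rfl N22012 D71665
theorem N43123 : nd 43123 = n71666 := ndS (p := 22012) (l := 5) rfl N22012 D71666
theorem N43124 : nd 43124 = n71667 := ndS (p := 22012) (l := 6) rfl N22012 D71667
theorem N43125 : nd 43125 = n71668 := ndS (p := 22013) (l := 0) rfl N22013 D71668
theorem N43126 : nd 43126 = n71670 := ndS (p := 22013) (l := 7) rfl N22013 D71670
theorem N43127 : nd 43127 = n71672 := ndS (p := 22014) (l := 5) rfl N22014 D71672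
theorem N43128 : nd 43128 = n71673 := ndS (p := 22014) (l := 6) rfl N22014 D71673
theorem N43129 : nd 43129 = n71675 := ndS (p := 22015) (l := 1) rfl N22015 D71675
theorem N43130 : nd 43130 = n71676 := ndS (p := 22015) (l := 7) rfl N22015 D71676
theorem N43131 : nd 43131 = n71678 := ndS (p := 22016) (l := 5) rfl N22016 D71678
theorem N43132 : nd 43132 = n71679 := ndS (p := 22016) (l := 6) rfl N22016 D71679
theorem N43133 : nd 43133 = n71680 := ndS (p := 22017) (l := 0) rfl N22017 D71680
theorem N43134 : nd 43134 = n71681 := ndS (p := 22017) (l := 1) rfl N22017 D71681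
theorem N43135 : nd 43135 = n71682 := ndS (p := 22017) (l := 2) rfl N22017 D71682
theorem N43136 : nd 43136 = n71683 := ndS (p := 22017) (l := 5) rfl N22017 D71683
theorem N43137 : nd 43137 = n71684 := ndS (p := 22018) (l := 0) rfl N22018 D71684
theorem N43138 : nd 43138 = n71685 := ndS (p := 22018) (l := 1) rfl N22018 D71685
theorem N43139 : nd 43139 = n71686 := ndS (p := 22018) (l := 4) rfl N22018 D71686
theorem N43140 : nd 43140 = n71687 := ndS (p := 22018) (l := 6) rfl N22018 D71687
theorem N43141 : nd 43141 = n71688 := ndS (p := 22018) (l := 7) rfl N22018 D71688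
theorem N43142 : nd 43142 = n71689 := ndS (p := 22019) (l := 6) rfl N22019 D71689
theorem N43143 : nd 43143 = n71690 := ndS (p := 22020) (l := 0) rfl N22020 D71690
theorem N43144 : nd 43144 = n71691 := ndS (p := 22020) (l := 1) rfl N22020 D71691
theorem N43145 : nd 43145 = n71694 := ndS (p := 22021) (l := 5) rfl N22021 D71694
theorem N43146 : nd 43146 = n71695 := ndS (p := 22021) (l := 6) rfl N22021 D71695
theorem N43147 : nd 43147 = n71699 := ndS (p := 22022) (l := 6) rfl N22022 D71699
theorem N43148 : nd 43148 = n71700 := ndS (p := 22023) (l := 0) rfl N22023 D71700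
theorem N43149 : nd 43149 = n71701 := ndS (p := 22023) (l := 1) rfl N22023 D71701
theorem N43150 : nd 43150 = n71706 := ndS (p := 22024) (l := 7) rfl N22024 D71706
theorem N43151 : nd 43151 = n71730 := ndS (p := 22027) (l := 7) rfl N22027 D71730
theorem N43152 : nd 43152 = n71738 := ndS (p := 22031) (l := 1) rfl N22031 D71738
theorem N43153 : nd 43153 = n71739 := ndS (p := 22031) (l := 5) rfl N22031 D71739
theorem N43154 : nd 43154 = n71740 := ndS (p := 22031) (l := 7) rfl N22031 D71740
theorem N43155 : nd 43155 = n71746 := ndS (p := 22032) (l := 0) rfl N22032 D71746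
theorem N43156 : nd 43156 = n71748 := ndS (p := 22033) (l := 0) rfl N22033 D71748
theorem N43157 : nd 43157 = n71749 := ndS (p := 22033) (l := 1) rfl N22033 D71749
theorem N43158 : nd 43158 = n71750 := ndS (p := 22033) (l := 2) rfl N22033 D71750
theorem N43159 : nd 43159 = n71756 := ndS (p := 22034) (l := 3) rfl N22034 D71756
theorem N43160 : nd 43160 = n71757 := ndS (p := 22034) (l := 4) rfl N22034 D71757
theorem N43161 : nd 43161 = n71759 := ndS (p := 22034) (l := 6) rfl N22034 D71759
theorem N43162 : nd 43162 = n71761 := ndS (p := 22035) (l := 3) rfl N22035 D71761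
theorem N43163 : nd 43163 = n71762 := ndS (p := 22035) (l := 4) rfl N22035 D71762
theorem N43164 : nd 43164 = n71764 := ndS (p := 22035) (l := 6) rfl N22035 D71764
theorem N43165 : nd 43165 = n71766 := ndS (p := 22037) (l := 3) rfl N22037 D71766
theorem N43166 : nd 43166 = n71769 := ndS (p := 22037) (l := 6) rfl N22037 D71769
theorem N43167 : nd 43167 = n71774 := ndS (p := 22038) (l := 6) rfl N22038 D71774
theorem N43168 : nd 43168 = n71775 := ndS (p := 22039) (l := 4) rfl N22039 D71775
theorem N43169 : nd 43169 = n71776 := ndS (p := 22039) (l := 6) rfl N22039 D71776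
theorem N43170 : nd 43170 = n71777 := ndS (p := 22041) (l := 4) rfl N22041 D71777
theorem N43171 : nd 43171 = n71778 := ndS (p := 22041) (l := 6) rfl N22041 D71778
theorem N43172 : nd 43172 = n71779 := ndS (p := 22042) (l := 3) rfl N22042 D71779
theorem N43173 : nd 43173 = n71780 := ndS (p := 22042) (l := 5) rfl N22042 D71780
theorem N43174 : nd 43174 = n71781 := ndS (p := 22042) (l := 6) rfl N22042 D71781
theorem N43175 : nd 43175 = n71782 := ndS (p := 22043) (l := 0) rfl N22043 D71782
theorem N43176 : nd 43176 = n71784 := ndS (p := 22043) (l := 7) rfl N22043 D71784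
theorem N43177 : nd 43177 = n71785 := ndS (p := 22044) (l := 3) rfl N22044 D71785
theorem N43178 : nd 43178 = n71786 := ndS (p := 22044) (l := 6) rfl N22044 D71786
theorem N43179 : nd 43179 = n71787 := ndS (p := 22045) (l := 6) rfl N22045 D71787
theorem N43180 : nd 43180 = n71788 := ndS (p := 22046) (l := 0) rfl N22046 D71788
theorem N43181 : nd 43181 = n71790 := ndS (p := 22047) (l := 0) rfl N22047 D71790
theorem N43182 : nd 43182 = n71792 := ndS (p := 22047) (l := 5) rfl N22047 D71792
theorem N43183 : nd 43183 = n71807 := ndS (p := 22049) (l := 6) rfl N22049 D71807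
theorem N43184 : nd 43184 = n71808 := ndS (p := 22050) (l := 0) rfl N22050 D71808
theorem N43185 : nd 43185 = n71809 := ndS (p := 22050) (l := 1) rfl N22050 D71809
theorem N43186 : nd 43186 = n71810 := ndS (p := 22050) (l := 5) rfl N22050 D71810
theorem N43187 : nd 43187 = n71811 := ndS (p := 22050) (l := 7) rfl N22050 D71811
theorem N43188 : nd 43188 = n71812 := ndS (p := 22051) (l := 4) rfl N22051 D71812
theorem N43189 : nd 43189 = n71813 := ndS (p := 22052) (l := 0) rfl N22052 D71813
theorem N43190 : nd 43190 = n71815 := ndS (p := 22052) (l := 6) rfl N22052 D71815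
theorem N43191 : nd 43191 = n71816 := ndS (p := 22053) (l := 6) rfl N22053 D71816
theorem N43192 : nd 43192 = n71817 := ndS (p := 22054) (l := 0) rfl N22054 D71817
theorem N43193 : nd 43193 = n71818 := ndS (p := 22054) (l := 1) rfl N22054 D71818
theorem N43194 : nd 43194 = n71819 := ndS (p := 22054) (l := 5) rfl N22054 D71819
theorem N43195 : nd 43195 = n71833 := ndS (p := 22055) (l := 4) rfl N22055 D71833
theorem N43196 : nd 43196 = n71837 := ndS (p := 22057) (l := 3) rfl N22057 D71837
theorem N43197 : nd 43197 = n71838 := ndS (p := 22057) (l := 6) rfl N22057 D71838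
theorem N43198 : nd 43198 = n71839 := ndS (p := 22058) (l := 0) rfl N22058 D71839
theorem N43199 : nd 43199 = n71840 := ndS (p := 22058) (l := 1) rfl N22058 D71840
theorem N43200 : nd 43200 = n71841 := ndS (p := 22058) (l := 5) rfl N22058 D71841
theorem N43201 : nd 43201 = n71842 := ndS (p := 22058) (l := 7) rfl N22058 D71842
theorem N43202 : nd 43202 = n71843 := ndS (p := 22059) (l := 4) rfl N22059 D71843
theorem N43203 : nd 43203 = n71844 := ndS (p := 22059) (l := 5) rfl N22059 D71844
theorem N43204 : nd 43204 = n71845 := ndS (p := 22060) (l := 0) rfl N22060 D71845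
theorem N43205 : nd 43205 = n71846 := ndS (p := 22060) (l := 1) rfl N22060 D71846
theorem N43206 : nd 43206 = n71847 := ndS (p := 22060) (l := 4) rfl N22060 D71847
theorem N43207 : nd 43207 = n71849 := ndS (p := 22061) (l := 6) rfl N22061 D71849
theorem N43208 : nd 43208 = n71851 := ndS (p := 22063) (l := 0) rfl N22063 D71851
theorem N43209 : nd 43209 = n71852 := ndS (p := 22063) (l := 1) rfl N22063 D71852
theorem N43210 : nd 43210 = n71857 := ndS (p := 22064) (l := 4) rfl N22064 D71857
theorem N43211 : nd 43211 = n71859 := ndS (p := 22064) (l := 6) rfl N22064 D71859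
theorem N43212 : nd 43212 = n71861 := ndS (p := 22065) (l := 4) rfl N22065 D71861
theorem N43213 : nd 43213 = n71862 := ndS (p := 22065) (l := 5) rfl N22065 D71862
theorem N43214 : nd 43214 = n71864 := ndS (p := 22066) (l := 0) rfl N22066 D71864
theorem N43215 : nd 43215 = n71865 := ndS (p := 22066) (l := 1) rfl N22066 D71865
theorem N43216 : nd 43216 = n71866 := ndS (p := 22066) (l := 4) rfl N22066 D71866
theorem N43217 : nd 43217 = n71867 := ndS (p := 22066) (l := 7) rfl N22066 D71867
theorem N43218 : nd 43218 = n71868 := ndS (p := 22068) (l := 4) rfl N22068 D71868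
theorem N43219 : nd 43219 = n71870 := ndS (p := 22069) (l := 4) rfl N22069 D71870
theorem N43220 : nd 43220 = n71872 := ndS (p := 22070) (l := 0) rfl N22070 D71872
theorem N43221 : nd 43221 = n71873 := ndS (p := 22070) (l := 1) rfl N22070 D71873
theorem N43222 : nd 43222 = n71874 := ndS (p := 22070) (l := 3) rfl N22070 D71874
theorem N43223 : nd 43223 = n71875 := ndS (p := 22070) (l := 5) rfl N22070 D71875
theorem N43224 : nd 43224 = n71876 := ndS (p := 22071) (l := 4) rfl N22071 D71876
theorem N43225 : nd 43225 = n71877 := ndS (p := 22071) (l := 6) rfl N22071 D71877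
theorem N43226 : nd 43226 = n71878 := ndS (p := 22072) (l := 6) rfl N22072 D71878
theorem N43227 : nd 43227 = n71879 := ndS (p := 22073) (l := 0) rfl N22073 D71879
theorem N43228 : nd 43228 = n71880 := ndS (p := 22073) (l := 1) rfl N22073 D71880
theorem N43229 : nd 43229 = n71881 := ndS (p := 22073) (l := 6) rfl N22073 D71881
theorem N43230 : nd 43230 = n71882 := ndS (p := 22074) (l := 0) rfl N22074 D71882
theorem N43231 : nd 43231 = n71884 := ndS (p := 22074) (l := 7) rfl N22074 D71884
theorem N43232 : nd 43232 = n71885 := ndS (p := 22075) (l := 4) rfl N22075 D71885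
theorem N43233 : nd 43233 = n71887 := ndS (p := 22076) (l := 3) rfl N22076 D71887
theorem N43234 : nd 43234 = n71888 := ndS (p := 22076) (l := 5) rfl N22076 D71888
theorem N43235 : nd 43235 = n71889 := ndS (p := 22076) (l := 6) rfl N22076 D71889
theorem N43236 : nd 43236 = n71890 := ndS (p := 22077) (l := 0) rfl N22077 D71890
theorem N43237 : nd 43237 = n71891 := ndS (p := 22077) (l := 1) rfl N22077 D71891
theorem N43238 : nd 43238 = n71892 := ndS (p := 22077) (l := 5) rfl N22077 D71892
theorem N43239 : nd 43239 = n71893 := ndS (p := 22077) (l := 7) rfl N22077 D71893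
theorem N43240 : nd 43240 = n71894 := ndS (p := 22078) (l := 0) rfl N22078 D71894
theorem N43241 : nd 43241 = n71895 := ndS (p := 22078) (l := 1) rfl N22078 D71895
theorem N43242 : nd 43242 = n71896 := ndS (p := 22078) (l := 4) rfl N22078 D71896
theorem N43243 : nd 43243 = n71897 := ndS (p := 22079) (l := 4) rfl N22079 D71897
theorem N43244 : nd 43244 = n71899 := ndS (p := 22080) (l := 0) rfl N22080 D71899
theorem N43245 : nd 43245 = n71900 := ndS (p := 22080) (l := 1) rfl N22080 D71900
theorem N43246 : nd 43246 = n71906 := ndS (p := 22081) (l := 4) rfl N22081 D71906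
theorem N43247 : nd 43247 = n71907 := ndS (p := 22081) (l := 6) rfl N22081 D71907
theorem N43248 : nd 43248 = n71908 := ndS (p := 22082) (l := 3) rfl N22082 D71908
theorem N43249 : nd 43249 = n71909 := ndS (p := 22082) (l := 6) rfl N22082 D71909
theorem N43250 : nd 43250 = n71910 := ndS (p := 22083) (l := 0) rfl N22083 D71910
theorem N43251 : nd 43251 = n71911 := ndS (p := 22083) (l := 1) rfl N22083 D71911
theorem N43252 : nd 43252 = n71912 := ndS (p := 22083) (l := 5) rfl N22083 D71912
theorem N43253 : nd 43253 = n71913 := ndS (p := 22083) (l := 7) rfl N22083 D71913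
theorem N43254 : nd 43254 = n71914 := ndS (p := 22084) (l := 3) rfl N22084 D71914
theorem N43255 : nd 43255 = n71916 := ndS (p := 22085) (l := 6) rfl N22085 D71916
theorem N43256 : nd 43256 = n71917 := ndS (p := 22086) (l := 0) rfl N22086 D71917
theorem N43257 : nd 43257 = n71918 := ndS (p := 22086) (l := 5) rfl N22086 D71918
theorem N43258 : nd 43258 = n71919 := ndS (p := 22086) (l := 6) rfl N22086 D71919
theorem N43259 : nd 43259 = n71920 := ndS (p := 22087) (l := 6) rfl N22087 D71920
theorem N43260 : nd 43260 = n71921 := ndS (p := 22088) (l := 0) rfl N22088 D71921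
theorem N43261 : nd 43261 = n71922 := ndS (p := 22088) (l := 1) rfl N22088 D71922
theorem N43262 : nd 43262 = n71923 := ndS (p := 22088) (l := 5) rfl N22088 D71923
theorem N43263 : nd 43263 = n71924 := ndS (p := 22088) (l := 7) rfl N22088 D71924
theorem N43264 : nd 43264 = n71926 := ndS (p := 22089) (l := 3) rfl N22089 D71926
theorem N43265 : nd 43265 = n71927 := ndS (p := 22089) (l := 4) rfl N22089 D71927
theorem N43266 : nd 43266 = n71928 := ndS (p := 22089) (l := 5) rfl N22089 D71928
theorem N43267 : nd 43267 = n71929 := ndS (p := 22089) (l := 6) rfl N22089 D71929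
theorem N43268 : nd 43268 = n71932 := ndS (p := 22090) (l := 4) rfl N22090 D71932
theorem N43269 : nd 43269 = n71933 := ndS (p := 22090) (l := 5) rfl N22090 D71933
theorem N43270 : nd 43270 = n71934 := ndS (p := 22090) (l := 6) rfl N22090 D71934
theorem N43271 : nd 43271 = n71935 := ndS (p := 22091) (l := 0) rfl N22091 D71935
theorem N43272 : nd 43272 = n71936 := ndS (p := 22091) (l := 1) rfl N22091 D71936
theorem N43273 : nd 43273 = n71937 := ndS (p := 22091) (l := 4) rfl N22091 D71937
theorem N43274 : nd 43274 = n71938 := ndS (p := 22091) (l := 7) rfl N22091 D71938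
theorem N43275 : nd 43275 = n71939 := ndS (p := 22093) (l := 5) rfl N22093 D71939
theorem N43276 : nd 43276 = n71940 := ndS (p := 22094) (l := 0) rfl N22094 D71940
theorem N43277 : nd 43277 = n71941 := ndS (p := 22094) (l := 4) rfl N22094 D71941
theorem N43278 : nd 43278 = n71942 := ndS (p := 22094) (l := 6) rfl N22094 D71942
theorem N43279 : nd 43279 = n71943 := ndS (p := 22095) (l := 5) rfl N22095 D71943
theorem N43280 : nd 43280 = n71944 := ndS (p := 22096) (l := 4) rfl N22096 D71944
theorem N43281 : nd 43281 = n71945 := ndS (p := 22096) (l := 6) rfl N22096 D71945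
theorem N43282 : nd 43282 = n71946 := ndS (p := 22097) (l := 3) rfl N22097 D71946
theorem N43283 : nd 43283 = n71947 := ndS (p := 22097) (l := 4) rfl N22097 D71947
theorem N43284 : nd 43284 = n71948 := ndS (p := 22097) (l := 5) rfl N22097 D71948
theorem N43285 : nd 43285 = n71949 := ndS (p := 22097) (l := 6) rfl N22097 D71949
theorem N43286 : nd 43286 = n71950 := ndS (p := 22098) (l := 3) rfl N22098 D71950
theorem N43287 : nd 43287 = n71951 := ndS (p := 22098) (l := 4) rfl N22098 D71951
theorem N43288 : nd 43288 = n71952 := ndS (p := 22098) (l := 6) rfl N22098 D71952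
theorem N43289 : nd 43289 = n71953 := ndS (p := 22099) (l := 0) rfl N22099 D71953
theorem N43290 : nd 43290 = n71954 := ndS (p := 22099) (l := 1) rfl N22099 D71954
theorem N43291 : nd 43291 = n71955 := ndS (p := 22099) (l := 3) rfl N22099 D71955
theorem N43292 : nd 43292 = n71956 := ndS (p := 22099) (l := 5) rfl N22099 D71956
theorem N43293 : nd 43293 = n71957 := ndS (p := 22099) (l := 7) rfl N22099 D71957
theorem N43294 : nd 43294 = n71958 := ndS (p := 22100) (l := 6) rfl N22100 D71958
theorem N43295 : nd 43295 = n71961 := ndS (p := 22102) (l := 6) rfl N22102 D71961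
theorem N43296 : nd 43296 = n71963 := ndS (p := 22103) (l := 1) rfl N22103 D71963
theorem N43297 : nd 43297 = n71964 := ndS (p := 22103) (l := 5) rfl N22103 D71964
theorem N43298 : nd 43298 = n71965 := ndS (p := 22103) (l := 7) rfl N22103 D71965
theorem N43299 : nd 43299 = n71968 := ndS (p := 22104) (l := 4) rfl N22104 D71968
theorem N43300 : nd 43300 = n71969 := ndS (p := 22104) (l := 5) rfl N22104 D71969
theorem N43301 : nd 43301 = n71976 := ndS (p := 22106) (l := 0) rfl N22106 D71976
theorem N43302 : nd 43302 = n71977 := ndS (p := 22106) (l := 1) rfl N22106 D71977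
theorem N43303 : nd 43303 = n71978 := ndS (p := 22106) (l := 7) rfl N22106 D71978
theorem N43304 : nd 43304 = n71979 := ndS (p := 22107) (l := 0) rfl N22107 D71979
theorem N43305 : nd 43305 = n71980 := ndS (p := 22107) (l := 6) rfl N22107 D71980
theorem N43306 : nd 43306 = n71981 := ndS (p := 22108) (l := 6) rfl N22108 D71981
theorem N43307 : nd 43307 = n71982 := ndS (p := 22109) (l := 0) rfl N22109 D71982
theorem N43308 : nd 43308 = n71983 := ndS (p := 22109) (l := 1) rfl N22109 D71983
theorem N43309 : nd 43309 = n71984 := ndS (p := 22109) (l := 5) rfl N22109 D71984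
theorem N43310 : nd 43310 = n71985 := ndS (p := 22109) (l := 7) rfl N22109 D71985
theorem N43311 : nd 43311 = n71993 := ndS (p := 22110) (l := 4) rfl N22110 D71993
theorem N43312 : nd 43312 = n71994 := ndS (p := 22110) (l := 5) rfl N22110 D71994
theorem N43313 : nd 43313 = n71995 := ndS (p := 22110) (l := 6) rfl N22110 D71995
theorem N43314 : nd 43314 = n71997 := ndS (p := 22111) (l := 1) rfl N22111 D71997
theorem N43315 : nd 43315 = n71998 := ndS (p := 22111) (l := 4) rfl N22111 D71998
theorem N43316 : nd 43316 = n71999 := ndS (p := 22111) (l := 7) rfl N22111 D71999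
theorem N43317 : nd 43317 = n72000 := ndS (p := 22113) (l := 6) rfl N22113 D72000
theorem N43318 : nd 43318 = n72003 := ndS (p := 22114) (l := 5) rfl N22114 D72003
theorem N43319 : nd 43319 = n72004 := ndS (p := 22114) (l := 7) rfl N22114 D72004
theorem N43320 : nd 43320 = n72007 := ndS (p := 22115) (l := 5) rfl N22115 D72007
theorem N43321 : nd 43321 = n72008 := ndS (p := 22115) (l := 7) rfl N22115 D72008
theorem N43322 : nd 43322 = n72017 := ndS (p := 22118) (l := 3) rfl N22118 D72017
theorem N43323 : nd 43323 = n72018 := ndS (p := 22118) (l := 4) rfl N22118 D72018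
theorem N43324 : nd 43324 = n72019 := ndS (p := 22118) (l := 5) rfl N22118 D72019
theorem N43325 : nd 43325 = n72020 := ndS (p := 22118) (l := 6) rfl N22118 D72020
theorem N43326 : nd 43326 = n72022 := ndS (p := 22119) (l := 3) rfl N22119 D72022
theorem N43327 : nd 43327 = n72023 := ndS (p := 22119) (l := 4) rfl N22119 D72023
theorem N43328 : nd 43328 = n72024 := ndS (p := 22119) (l := 5) rfl N22119 D72024
theorem N43329 : nd 43329 = n72025 := ndS (p := 22119) (l := 6) rfl N22119 D72025
theorem N43330 : nd 43330 = n72039 := ndS (p := 22121) (l := 5) rfl N22121 D72039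
theorem N43331 : nd 43331 = n72042 := ndS (p := 22122) (l := 0) rfl N22122 D72042
theorem N43332 : nd 43332 = n72044 := ndS (p := 22122) (l := 3) rfl N22122 D72044
theorem N43333 : nd 43333 = n72045 := ndS (p := 22122) (l := 5) rfl N22122 D72045
theorem N43334 : nd 43334 = n72046 := ndS (p := 22122) (l := 6) rfl N22122 D72046
theorem N43335 : nd 43335 = n72048 := ndS (p := 22123) (l := 0) rfl N22123 D72048
theorem N43336 : nd 43336 = n72050 := ndS (p := 22123) (l := 4) rfl N22123 D72050
theorem N43337 : nd 43337 = n72054 := ndS (p := 22124) (l := 1) rfl N22124 D72054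
theorem N43338 : nd 43338 = n72055 := ndS (p := 22124) (l := 5) rfl N22124 D72055
theorem N43339 : nd 43339 = n72056 := ndS (p := 22124) (l := 7) rfl N22124 D72056
theorem N43340 : nd 43340 = n72062 := ndS (p := 22125) (l := 5) rfl N22125 D72062
theorem N43341 : nd 43341 = n72063 := ndS (p := 22125) (l := 6) rfl N22125 D72063
theorem N43342 : nd 43342 = n72064 := ndS (p := 22126) (l := 3) rfl N22126 D72064
theorem N43343 : nd 43343 = n72065 := ndS (p := 22126) (l := 5) rfl N22126 D72065
theorem N43344 : nd 43344 = n72066 := ndS (p := 22126) (l := 6) rfl N22126 D72066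
theorem N43345 : nd 43345 = n72067 := ndS (p := 22127) (l := 4) rfl N22127 D72067
theorem N43346 : nd 43346 = n72068 := ndS (p := 22127) (l := 6) rfl N22127 D72068
theorem N43347 : nd 43347 = n72075 := ndS (p := 22129) (l := 4) rfl N22129 D72075
theorem N43348 : nd 43348 = n72077 := ndS (p := 22129) (l := 6) rfl N22129 D72077
theorem N43349 : nd 43349 = n72079 := ndS (p := 22130) (l := 3) rfl N22130 D72079
theorem N43350 : nd 43350 = n72080 := ndS (p := 22130) (l := 4) rfl N22130 D72080
theorem N43351 : nd 43351 = n72083 := ndS (p := 22131) (l := 0) rfl N22131 D72083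
theorem N43352 : nd 43352 = n72084 := ndS (p := 22131) (l := 1) rfl N22131 D72084
theorem N43353 : nd 43353 = n72086 := ndS (p := 22131) (l := 5) rfl N22131 D72086
theorem N43354 : nd 43354 = n72087 := ndS (p := 22131) (l := 7) rfl N22131 D72087
theorem N43355 : nd 43355 = n72088 := ndS (p := 22132) (l := 6) rfl N22132 D72088
theorem N43356 : nd 43356 = n72089 := ndS (p := 22133) (l := 5) rfl N22133 D72089
theorem N43357 : nd 43357 = n72090 := ndS (p := 22134) (l := 4) rfl N22134 D72090
theorem N43358 : nd 43358 = n72091 := ndS (p := 22134) (l := 6) rfl N22134 D72091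
theorem N43359 : nd 43359 = n72092 := ndS (p := 22135) (l := 3) rfl N22135 D72092
theorem N43360 : nd 43360 = n72093 := ndS (p := 22135) (l := 5) rfl N22135 D72093
theorem N43361 : nd 43361 = n72094 := ndS (p := 22135) (l := 6) rfl N22135 D72094
theorem N43362 : nd 43362 = n72096 := ndS (p := 22136) (l := 1) rfl N22136 D72096
theorem N43363 : nd 43363 = n72097 := ndS (p := 22136) (l := 7) rfl N22136 D72097
theorem N43364 : nd 43364 = n72098 := ndS (p := 22137) (l := 0) rfl N22137 D72098
theorem N43365 : nd 43365 = n72099 := ndS (p := 22137) (l := 1) rfl N22137 D72099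
theorem N43366 : nd 43366 = n72100 := ndS (p := 22137) (l := 3) rfl N22137 D72100
theorem N43367 : nd 43367 = n72101 := ndS (p := 22137) (l := 5) rfl N22137 D72101
theorem N43368 : nd 43368 = n72102 := ndS (p := 22137) (l := 6) rfl N22137 D72102
theorem N43369 : nd 43369 = n72103 := ndS (p := 22138) (l := 4) rfl N22138 D72103
theorem N43370 : nd 43370 = n72108 := ndS (p := 22141) (l := 3) rfl N22141 D72108
theorem N43371 : nd 43371 = n72109 := ndS (p := 22141) (l := 5) rfl N22141 D72109
theorem N43372 : nd 43372 = n72111 := ndS (p := 22142) (l := 4) rfl N22142 D72111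
theorem N43373 : nd 43373 = n72115 := ndS (p := 22143) (l := 3) rfl N22143 D72115
theorem N43374 : nd 43374 = n72116 := ndS (p := 22143) (l := 4) rfl N22143 D72116
theorem N43375 : nd 43375 = n72117 := ndS (p := 22143) (l := 5) rfl N22143 D72117
theorem N43376 : nd 43376 = n72118 := ndS (p := 22143) (l := 6) rfl N22143 D72118
theorem N43377 : nd 43377 = n72119 := ndS (p := 22144) (l := 3) rfl N22144 D72119
theorem N43378 : nd 43378 = n72120 := ndS (p := 22144) (l := 5) rfl N22144 D72120
theorem N43379 : nd 43379 = n72127 := ndS (p := 22145) (l := 0) rfl N22145 D72127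
theorem N43380 : nd 43380 = n72128 := ndS (p := 22145) (l := 1) rfl N22145 D72128
theorem N43381 : nd 43381 = n72129 := ndS (p := 22145) (l := 4) rfl N22145 D72129
theorem N43382 : nd 43382 = n72130 := ndS (p := 22145) (l := 6) rfl N22145 D72130
theorem N43383 : nd 43383 = n72131 := ndS (p := 22145) (l := 7) rfl N22145 D72131
theorem N43384 : nd 43384 = n72132 := ndS (p := 22146) (l := 6) rfl N22146 D72132
theorem N43385 : nd 43385 = n72133 := ndS (p := 22147) (l := 0) rfl N22147 D72133
theorem N43386 : nd 43386 = n72134 := ndS (p := 22147) (l := 1) rfl N22147 D72134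
theorem N43387 : nd 43387 = n72138 := ndS (p := 22148) (l := 5) rfl N22148 D72138
theorem N43388 : nd 43388 = n72145 := ndS (p := 22149) (l := 4) rfl N22149 D72145
theorem N43389 : nd 43389 = n72147 := ndS (p := 22149) (l := 6) rfl N22149 D72147
theorem N43390 : nd 43390 = n72150 := ndS (p := 22150) (l := 5) rfl N22150 D72150
theorem N43391 : nd 43391 = n72151 := ndS (p := 22150) (l := 6) rfl N22150 D72151
theorem N43392 : nd 43392 = n72156 := ndS (p := 22151) (l := 0) rfl N22151 D72156
theorem N43393 : nd 43393 = n72157 := ndS (p := 22151) (l := 1) rfl N22151 D72157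
theorem N43394 : nd 43394 = n72158 := ndS (p := 22151) (l := 7) rfl N22151 D72158
theorem N43395 : nd 43395 = n72178 := ndS (p := 22154) (l := 1) rfl N22154 D72178
theorem N43396 : nd 43396 = n72179 := ndS (p := 22154) (l := 5) rfl N22154 D72179
theorem N43397 : nd 43397 = n72180 := ndS (p := 22154) (l := 6) rfl N22154 D72180
theorem N43398 : nd 43398 = n72181 := ndS (p := 22155) (l := 0) rfl N22155 D72181
theorem N43399 : nd 43399 = n72183 := ndS (p := 22155) (l := 4) rfl N22155 D72183
theorem N43400 : nd 43400 = n72189 := ndS (p := 22157) (l := 2) rfl N22157 D72189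
theorem N43401 : nd 43401 = n72190 := ndS (p := 22157) (l := 4) rfl N22157 D72190
theorem N43402 : nd 43402 = n72195 := ndS (p := 22158) (l := 4) rfl N22158 D72195
theorem N43403 : nd 43403 = n72211 := ndS (p := 22160) (l := 4) rfl N22160 D72211
theorem N43404 : nd 43404 = n72213 := ndS (p := 22161) (l := 5) rfl N22161 D72213
theorem N43405 : nd 43405 = n72287 := ndS (p := 22162) (l := 3) rfl N22162 D72287
theorem N43406 : nd 43406 = n72291 := ndS (p := 22163) (l := 3) rfl N22163 D72291
theorem N43407 : nd 43407 = n72295 := ndS (p := 22164) (l := 3) rfl N22164 D72295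
theorem N43408 : nd 43408 = n72296 := ndS (p := 22164) (l := 5) rfl N22164 D72296
theorem N43409 : nd 43409 = n72301 := ndS (p := 22167) (l := 6) rfl N22167 D72301
theorem N43410 : nd 43410 = n72326 := ndS (p := 22170) (l := 1) rfl N22170 D72326
theorem N43411 : nd 43411 = n72327 := ndS (p := 22170) (l := 7) rfl N22170 D72327
theorem N43412 : nd 43412 = n72329 := ndS (p := 22171) (l := 1) rfl N22171 D72329
theorem N43413 : nd 43413 = n72330 := ndS (p := 22171) (l := 7) rfl N22171 D72330
theorem N43414 : nd 43414 = n72331 := ndS (p := 22172) (l := 0) rfl N22172 D72331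
theorem N43415 : nd 43415 = n72332 := ndS (p := 22172) (l := 1) rfl N22172 D72332
theorem N43416 : nd 43416 = n72333 := ndS (p := 22172) (l := 2) rfl N22172 D72333
theorem N43417 : nd 43417 = n72334 := ndS (p := 22172) (l := 6) rfl N22172 D72334
theorem N43418 : nd 43418 = n72335 := ndS (p := 22173) (l := 6) rfl N22173 D72335
theorem N43419 : nd 43419 = n72338 := ndS (p := 22174) (l := 5) rfl N22174 D72338
theorem N43420 : nd 43420 = n72343 := ndS (p := 22175) (l := 5) rfl N22175 D72343
theorem N43421 : nd 43421 = n72347 := ndS (p := 22176) (l := 5) rfl N22176 D72347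
theorem N43422 : nd 43422 = n72349 := ndS (p := 22177) (l := 0) rfl N22177 D72349
theorem N43423 : nd 43423 = n72350 := ndS (p := 22177) (l := 1) rfl N22177 D72350
theorem N43424 : nd 43424 = n72354 := ndS (p := 22179) (l := 6) rfl N22179 D72354
theorem N43425 : nd 43425 = n72355 := ndS (p := 22180) (l := 6) rfl N22180 D72355
theorem N43426 : nd 43426 = n72358 := ndS (p := 22182) (l := 6) rfl N22182 D72358
theorem N43427 : nd 43427 = n72360 := ndS (p := 22183) (l := 5) rfl N22183 D72360
theorem N43428 : nd 43428 = n72366 := ndS (p := 22185) (l := 3) rfl N22185 D72366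
theorem N43429 : nd 43429 = n72367 := ndS (p := 22185) (l := 5) rfl N22185 D72367
theorem N43430 : nd 43430 = n72368 := ndS (p := 22185) (l := 6) rfl N22185 D72368
theorem N43431 : nd 43431 = n72373 := ndS (p := 22187) (l := 1) rfl N22187 D72373
theorem N43432 : nd 43432 = n72374 := ndS (p := 22187) (l := 5) rfl N22187 D72374
theorem N43433 : nd 43433 = n72375 := ndS (p := 22187) (l := 7) rfl N22187 D72375
theorem N43434 : nd 43434 = n72376 := ndS (p := 22189) (l := 3) rfl N22189 D72376
theorem N43435 : nd 43435 = n72377 := ndS (p := 22189) (l := 6) rfl N22189 D72377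
theorem N43436 : nd 43436 = n72378 := ndS (p := 22190) (l := 0) rfl N22190 D72378
theorem N43437 : nd 43437 = n72379 := ndS (p := 22190) (l := 7) rfl N22190 D72379
theorem N43438 : nd 43438 = n72380 := ndS (p := 22191) (l := 0) rfl N22191 D72380
theorem N43439 : nd 43439 = n72381 := ndS (p := 22191) (l := 2) rfl N22191 D72381
theorem N43440 : nd 43440 = n72385 := ndS (p := 22192) (l := 5) rfl N22192 D72385
theorem N43441 : nd 43441 = n72390 := ndS (p := 22193) (l := 5) rfl N22193 D72390
theorem N43442 : nd 43442 = n72394 := ndS (p := 22194) (l := 5) rfl N22194 D72394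
theorem N43443 : nd 43443 = n72396 := ndS (p := 22195) (l := 0) rfl N22195 D72396
theorem N43444 : nd 43444 = n72397 := ndS (p := 22195) (l := 1) rfl N22195 D72397
theorem N43445 : nd 43445 = n72399 := ndS (p := 22195) (l := 7) rfl N22195 D72399
theorem N43446 : nd 43446 = n72400 := ndS (p := 22196) (l := 6) rfl N22196 D72400
theorem N43447 : nd 43447 = n72401 := ndS (p := 22197) (l := 0) rfl N22197 D72401
theorem N43448 : nd 43448 = n72405 := ndS (p := 22199) (l := 3) rfl N22199 D72405
theorem N43449 : nd 43449 = n72407 := ndS (p := 22200) (l := 5) rfl N22200 D72407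
theorem N43450 : nd 43450 = n72408 := ndS (p := 22200) (l := 6) rfl N22200 D72408
theorem N43451 : nd 43451 = n72409 := ndS (p := 22201) (l := 6) rfl N22201 D72409
theorem N43452 : nd 43452 = n72410 := ndS (p := 22202) (l := 0) rfl N22202 D72410
theorem N43453 : nd 43453 = n72411 := ndS (p := 22202) (l := 1) rfl N22202 D72411
theorem N43454 : nd 43454 = n72412 := ndS (p := 22202) (l := 5) rfl N22202 D72412
theorem N43455 : nd 43455 = n72413 := ndS (p := 22202) (l := 7) rfl N22202 D72413
theorem N43456 : nd 43456 = n72416 := ndS (p := 22203) (l := 4) rfl N22203 D72416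
theorem N43457 : nd 43457 = n72417 := ndS (p := 22203) (l := 5) rfl N22203 D72417
theorem N43458 : nd 43458 = n72420 := ndS (p := 22204) (l := 4) rfl N22204 D72420
theorem N43459 : nd 43459 = n72421 := ndS (p := 22204) (l := 5) rfl N22204 D72421
theorem N43460 : nd 43460 = n72423 := ndS (p := 22205) (l := 0) rfl N22205 D72423
theorem N43461 : nd 43461 = n72425 := ndS (p := 22205) (l := 7) rfl N22205 D72425
theorem N43462 : nd 43462 = n72426 := ndS (p := 22207) (l := 0) rfl N22207 D72426
theorem N43463 : nd 43463 = n72428 := ndS (p := 22207) (l := 5) rfl N22207 D72428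
theorem N43464 : nd 43464 = n72429 := ndS (p := 22207) (l := 6) rfl N22207 D72429
theorem N43465 : nd 43465 = n72430 := ndS (p := 22208) (l := 6) rfl N22208 D72430
theorem N43466 : nd 43466 = n72433 := ndS (p := 22209) (l := 5) rfl N22209 D72433
theorem N43467 : nd 43467 = n72434 := ndS (p := 22209) (l := 7) rfl N22209 D72434
theorem N43468 : nd 43468 = n72435 := ndS (p := 22210) (l := 6) rfl N22210 D72435
theorem N43469 : nd 43469 = n72438 := ndS (p := 22211) (l := 5) rfl N22211 D72438
theorem N43470 : nd 43470 = n72439 := ndS (p := 22211) (l := 7) rfl N22211 D72439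
theorem N43471 : nd 43471 = n72440 := ndS (p := 22212) (l := 0) rfl N22212 D72440
theorem N43472 : nd 43472 = n72441 := ndS (p := 22212) (l := 2) rfl N22212 D72441
theorem N43473 : nd 43473 = n72442 := ndS (p := 22212) (l := 4) rfl N22212 D72442
theorem N43474 : nd 43474 = n72443 := ndS (p := 22212) (l := 6) rfl N22212 D72443
theorem N43475 : nd 43475 = n72444 := ndS (p := 22213) (l := 3) rfl N22213 D72444
theorem N43476 : nd 43476 = n72445 := ndS (p := 22213) (l := 5) rfl N22213 D72445
theorem N43477 : nd 43477 = n72446 := ndS (p := 22213) (l := 6) rfl N22213 D72446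
theorem N43478 : nd 43478 = n72447 := ndS (p := 22214) (l := 5) rfl N22214 D72447
theorem N43479 : nd 43479 = n72449 := ndS (p := 22215) (l := 1) rfl N22215 D72449
theorem N43480 : nd 43480 = n72450 := ndS (p := 22215) (l := 6) rfl N22215 D72450
theorem N43481 : nd 43481 = n72451 := ndS (p := 22215) (l := 7) rfl N22215 D72451
theorem N43482 : nd 43482 = n72456 := ndS (p := 22217) (l := 6) rfl N22217 D72456
theorem N43483 : nd 43483 = n72457 := ndS (p := 22218) (l := 3) rfl N22218 D72457
theorem N43484 : nd 43484 = n72458 := ndS (p := 22218) (l := 6) rfl N22218 D72458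
theorem N43485 : nd 43485 = n72459 := ndS (p := 22219) (l := 6) rfl N22219 D72459
theorem N43486 : nd 43486 = n72463 := ndS (p := 22220) (l := 7) rfl N22220 D72463
theorem N43487 : nd 43487 = n72464 := ndS (p := 22221) (l := 6) rfl N22221 D72464
theorem N43488 : nd 43488 = n72480 := ndS (p := 22222) (l := 0) rfl N22222 D72480
theorem N43489 : nd 43489 = n72481 := ndS (p := 22222) (l := 1) rfl N22222 D72481
theorem N43490 : nd 43490 = n72482 := ndS (p := 22222) (l := 5) rfl N22222 D72482
theorem N43491 : nd 43491 = n72507 := ndS (p := 22223) (l := 7) rfl N22223 D72507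
theorem N43492 : nd 43492 = n72551 := ndS (p := 22224) (l := 4) rfl N22224 D72551
theorem N43493 : nd 43493 = n72562 := ndS (p := 22227) (l := 1) rfl N22227 D72562
theorem N43494 : nd 43494 = n72563 := ndS (p := 22227) (l := 7) rfl N22227 D72563
theorem N43495 : nd 43495 = n72579 := ndS (p := 22231) (l := 0) rfl N22231 D72579
theorem N43496 : nd 43496 = n72580 := ndS (p := 22231) (l := 1) rfl N22231 D72580
theorem N43497 : nd 43497 = n72581 := ndS (p := 22231) (l := 3) rfl N22231 D72581
theorem N43498 : nd 43498 = n72582 := ndS (p := 22231) (l := 5) rfl N22231 D72582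
theorem N43499 : nd 43499 = n72583 := ndS (p := 22232) (l := 0) rfl N22232 D72583
theorem N43500 : nd 43500 = n72585 := ndS (p := 22232) (l := 7) rfl N22232 D72585
theorem N43501 : nd 43501 = n72587 := ndS (p := 22233) (l := 1) rfl N22233 D72587
theorem N43502 : nd 43502 = n72588 := ndS (p := 22233) (l := 5) rfl N22233 D72588
theorem N43503 : nd 43503 = n72589 := ndS (p := 22233) (l := 7) rfl N22233 D72589
theorem N43504 : nd 43504 = n72590 := ndS (p := 22234) (l := 4) rfl N22234 D72590
theorem N43505 : nd 43505 = n72591 := ndS (p := 22235) (l := 1) rfl N22235 D72591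
theorem N43506 : nd 43506 = n72592 := ndS (p := 22235) (l := 2) rfl N22235 D72592
theorem N43507 : nd 43507 = n72593 := ndS (p := 22235) (l := 5) rfl N22235 D72593
theorem N43508 : nd 43508 = n72594 := ndS (p := 22235) (l := 6) rfl N22235 D72594
theorem N43509 : nd 43509 = n72595 := ndS (p := 22236) (l := 6) rfl N22236 D72595
theorem N43510 : nd 43510 = n72596 := ndS (p := 22237) (l := 0) rfl N22237 D72596
theorem N43511 : nd 43511 = n72597 := ndS (p := 22237) (l := 1) rfl N22237 D72597
theorem N43512 : nd 43512 = n72598 := ndS (p := 22237) (l := 5) rfl N22237 D72598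
theorem N43513 : nd 43513 = n72599 := ndS (p := 22237) (l := 7) rfl N22237 D72599
theorem N43514 : nd 43514 = n72601 := ndS (p := 22238) (l := 3) rfl N22238 D72601
theorem N43515 : nd 43515 = n72603 := ndS (p := 22238) (l := 5) rfl N22238 D72603
theorem N43516 : nd 43516 = n72604 := ndS (p := 22238) (l := 6) rfl N22238 D72604
theorem N43517 : nd 43517 = n72608 := ndS (p := 22239) (l := 5) rfl N22239 D72608
theorem N43518 : nd 43518 = n72609 := ndS (p := 22239) (l := 6) rfl N22239 D72609
theorem N43519 : nd 43519 = n72610 := ndS (p := 22240) (l := 0) rfl N22240 D72610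
theorem N43520 : nd 43520 = n72611 := ndS (p := 22240) (l := 1) rfl N22240 D72611
theorem N43521 : nd 43521 = n72612 := ndS (p := 22240) (l := 4) rfl N22240 D72612
theorem N43522 : nd 43522 = n72613 := ndS (p := 22240) (l := 7) rfl N22240 D72613
theorem N43523 : nd 43523 = n72614 := ndS (p := 22242) (l := 6) rfl N22242 D72614
theorem N43524 : nd 43524 = n72615 := ndS (p := 22243) (l := 6) rfl N22243 D72615
theorem N43525 : nd 43525 = n72617 := ndS (p := 22245) (l := 3) rfl N22245 D72617
theorem N43526 : nd 43526 = n72618 := ndS (p := 22245) (l := 5) rfl N22245 D72618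
theorem N43527 : nd 43527 = n72619 := ndS (p := 22245) (l := 7) rfl N22245 D72619
theorem N43528 : nd 43528 = n72620 := ndS (p := 22246) (l := 6) rfl N22246 D72620
theorem N43529 : nd 43529 = n72621 := ndS (p := 22247) (l := 0) rfl N22247 D72621
theorem N43530 : nd 43530 = n72622 := ndS (p := 22247) (l := 1) rfl N22247 D72622
theorem N43531 : nd 43531 = n72623 := ndS (p := 22247) (l := 2) rfl N22247 D72623
theorem N43532 : nd 43532 = n72624 := ndS (p := 22247) (l := 6) rfl N22247 D72624
theorem N43533 : nd 43533 = n72627 := ndS (p := 22248) (l := 5) rfl N22248 D72627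
theorem N43534 : nd 43534 = n72631 := ndS (p := 22249) (l := 4) rfl N22249 D72631
theorem N43535 : nd 43535 = n72633 := ndS (p := 22249) (l := 6) rfl N22249 D72633
theorem N43536 : nd 43536 = n72636 := ndS (p := 22250) (l := 4) rfl N22250 D72636
theorem N43537 : nd 43537 = n72637 := ndS (p := 22250) (l := 5) rfl N22250 D72637
theorem N43538 : nd 43538 = n72638 := ndS (p := 22250) (l := 6) rfl N22250 D72638
theorem N43539 : nd 43539 = n72639 := ndS (p := 22251) (l := 0) rfl N22251 D72639
theorem N43540 : nd 43540 = n72640 := ndS (p := 22251) (l := 1) rfl N22251 D72640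
theorem N43541 : nd 43541 = n72641 := ndS (p := 22251) (l := 4) rfl N22251 D72641
theorem N43542 : nd 43542 = n72642 := ndS (p := 22251) (l := 7) rfl N22251 D72642
theorem N43543 : nd 43543 = n72643 := ndS (p := 22253) (l := 4) rfl N22253 D72643
theorem N43544 : nd 43544 = n72644 := ndS (p := 22253) (l := 6) rfl N22253 D72644
theorem N43545 : nd 43545 = n72645 := ndS (p := 22254) (l := 3) rfl N22254 D72645
theorem N43546 : nd 43546 = n72646 := ndS (p := 22254) (l := 5) rfl N22254 D72646
theorem N43547 : nd 43547 = n72647 := ndS (p := 22255) (l := 6) rfl N22255 D72647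
theorem N43548 : nd 43548 = n72648 := ndS (p := 22256) (l := 6) rfl N22256 D72648
theorem N43549 : nd 43549 = n72649 := ndS (p := 22257) (l := 0) rfl N22257 D72649
theorem N43550 : nd 43550 = n72651 := ndS (p := 22257) (l := 5) rfl N22257 D72651
theorem N43551 : nd 43551 = n72653 := ndS (p := 22258) (l := 0) rfl N22258 D72653
theorem N43552 : nd 43552 = n72654 := ndS (p := 22258) (l := 1) rfl N22258 D72654
theorem N43553 : nd 43553 = n72655 := ndS (p := 22258) (l := 5) rfl N22258 D72655
theorem N43554 : nd 43554 = n72656 := ndS (p := 22258) (l := 7) rfl N22258 D72656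
theorem N43555 : nd 43555 = n72659 := ndS (p := 22259) (l := 4) rfl N22259 D72659
theorem N43556 : nd 43556 = n72660 := ndS (p := 22259) (l := 5) rfl N22259 D72660
theorem N43557 : nd 43557 = n72661 := ndS (p := 22259) (l := 6) rfl N22259 D72661
theorem N43558 : nd 43558 = n72663 := ndS (p := 22260) (l := 3) rfl N22260 D72663
theorem N43559 : nd 43559 = n72665 := ndS (p := 22260) (l := 5) rfl N22260 D72665
theorem N43560 : nd 43560 = n72666 := ndS (p := 22260) (l := 6) rfl N22260 D72666
theorem N43561 : nd 43561 = n72667 := ndS (p := 22261) (l := 0) rfl N22261 D72667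
theorem N43562 : nd 43562 = n72668 := ndS (p := 22261) (l := 1) rfl N22261 D72668
theorem N43563 : nd 43563 = n72669 := ndS (p := 22261) (l := 4) rfl N22261 D72669
theorem N43564 : nd 43564 = n72670 := ndS (p := 22261) (l := 7) rfl N22261 D72670
theorem N43565 : nd 43565 = n72705 := ndS (p := 22263) (l := 3) rfl N22263 D72705
theorem N43566 : nd 43566 = n72706 := ndS (p := 22263) (l := 5) rfl N22263 D72706
theorem N43567 : nd 43567 = n72707 := ndS (p := 22263) (l := 6) rfl N22263 D72707
theorem N43568 : nd 43568 = n72708 := ndS (p := 22264) (l := 4) rfl N22264 D72708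
theorem N43569 : nd 43569 = n72717 := ndS (p := 22266) (l := 4) rfl N22266 D72717
theorem N43570 : nd 43570 = n72719 := ndS (p := 22267) (l := 0) rfl N22267 D72719
theorem N43571 : nd 43571 = n72720 := ndS (p := 22267) (l := 1) rfl N22267 D72720
theorem N43572 : nd 43572 = n72721 := ndS (p := 22267) (l := 3) rfl N22267 D72721
theorem N43573 : nd 43573 = n72722 := ndS (p := 22267) (l := 5) rfl N22267 D72722
theorem N43574 : nd 43574 = n72723 := ndS (p := 22267) (l := 7) rfl N22267 D72723
theorem N43575 : nd 43575 = n72724 := ndS (p := 22268) (l := 6) rfl N22268 D72724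
theorem N43576 : nd 43576 = n72725 := ndS (p := 22269) (l := 3) rfl N22269 D72725
theorem N43577 : nd 43577 = n72726 := ndS (p := 22269) (l := 5) rfl N22269 D72726
theorem N43578 : nd 43578 = n72727 := ndS (p := 22269) (l := 6) rfl N22269 D72727
theorem N43579 : nd 43579 = n72728 := ndS (p := 22270) (l := 0) rfl N22270 D72728
theorem N43580 : nd 43580 = n72729 := ndS (p := 22270) (l := 1) rfl N22270 D72729
theorem N43581 : nd 43581 = n72730 := ndS (p := 22270) (l := 7) rfl N22270 D72730
theorem N43582 : nd 43582 = n72731 := ndS (p := 22271) (l := 3) rfl N22271 D72731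
theorem N43583 : nd 43583 = n72732 := ndS (p := 22271) (l := 5) rfl N22271 D72732
theorem N43584 : nd 43584 = n72737 := ndS (p := 22273) (l := 3) rfl N22273 D72737
theorem N43585 : nd 43585 = n72738 := ndS (p := 22273) (l := 4) rfl N22273 D72738
theorem N43586 : nd 43586 = n72739 := ndS (p := 22273) (l := 5) rfl N22273 D72739
theorem N43587 : nd 43587 = n72740 := ndS (p := 22273) (l := 6) rfl N22273 D72740
theorem N43588 : nd 43588 = n72741 := ndS (p := 22274) (l := 3) rfl N22274 D72741
theorem N43589 : nd 43589 = n72742 := ndS (p := 22274) (l := 5) rfl N22274 D72742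
theorem N43590 : nd 43590 = n72744 := ndS (p := 22275) (l := 0) rfl N22275 D72744
theorem N43591 : nd 43591 = n72746 := ndS (p := 22275) (l := 2) rfl N22275 D72746
theorem N43592 : nd 43592 = n72747 := ndS (p := 22275) (l := 5) rfl N22275 D72747
theorem N43593 : nd 43593 = n72748 := ndS (p := 22275) (l := 7) rfl N22275 D72748
theorem N43594 : nd 43594 = n72749 := ndS (p := 22276) (l := 0) rfl N22276 D72749
theorem N43595 : nd 43595 = n72750 := ndS (p := 22276) (l := 1) rfl N22276 D72750
theorem N43596 : nd 43596 = n72751 := ndS (p := 22276) (l := 4) rfl N22276 D72751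
theorem N43597 : nd 43597 = n72752 := ndS (p := 22276) (l := 6) rfl N22276 D72752
theorem N43598 : nd 43598 = n72753 := ndS (p := 22276) (l := 7) rfl N22276 D72753
theorem N43599 : nd 43599 = n72754 := ndS (p := 22277) (l := 6) rfl N22277 D72754
theorem N43600 : nd 43600 = n72756 := ndS (p := 22278) (l := 1) rfl N22278 D72756
theorem N43601 : nd 43601 = n72757 := ndS (p := 22279) (l := 4) rfl N22279 D72757
theorem N43602 : nd 43602 = n72758 := ndS (p := 22279) (l := 6) rfl N22279 D72758
theorem N43603 : nd 43603 = n72759 := ndS (p := 22280) (l := 0) rfl N22280 D72759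
theorem N43604 : nd 43604 = n72760 := ndS (p := 22280) (l := 1) rfl N22280 D72760
theorem N43605 : nd 43605 = n72761 := ndS (p := 22280) (l := 5) rfl N22280 D72761
theorem N43606 : nd 43606 = n72762 := ndS (p := 22280) (l := 7) rfl N22280 D72762
theorem N43607 : nd 43607 = n72763 := ndS (p := 22281) (l := 0) rfl N22281 D72763
theorem N43608 : nd 43608 = n72764 := ndS (p := 22281) (l := 1) rfl N22281 D72764
theorem N43609 : nd 43609 = n72765 := ndS (p := 22281) (l := 5) rfl N22281 D72765
theorem N43610 : nd 43610 = n72766 := ndS (p := 22281) (l := 7) rfl N22281 D72766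
theorem N43611 : nd 43611 = n72768 := ndS (p := 22282) (l := 3) rfl N22282 D72768
theorem N43612 : nd 43612 = n72769 := ndS (p := 22282) (l := 5) rfl N22282 D72769
theorem N43613 : nd 43613 = n72776 := ndS (p := 22283) (l := 0) rfl N22283 D72776
theorem N43614 : nd 43614 = n72777 := ndS (p := 22283) (l := 1) rfl N22283 D72777
theorem N43615 : nd 43615 = n72778 := ndS (p := 22283) (l := 4) rfl N22283 D72778
theorem N43616 : nd 43616 = n72779 := ndS (p := 22283) (l := 7) rfl N22283 D72779
theorem N43617 : nd 43617 = n72789 := ndS (p := 22285) (l := 4) rfl N22285 D72789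
theorem N43618 : nd 43618 = n72790 := ndS (p := 22285) (l := 5) rfl N22285 D72790
theorem N43619 : nd 43619 = n72791 := ndS (p := 22285) (l := 6) rfl N22285 D72791
theorem N43620 : nd 43620 = n72795 := ndS (p := 22286) (l := 3) rfl N22286 D72795
theorem N43621 : nd 43621 = n72796 := ndS (p := 22286) (l := 5) rfl N22286 D72796
theorem N43622 : nd 43622 = n72797 := ndS (p := 22286) (l := 6) rfl N22286 D72797
theorem N43623 : nd 43623 = n72801 := ndS (p := 22287) (l := 4) rfl N22287 D72801
theorem N43624 : nd 43624 = n72806 := ndS (p := 22288) (l := 7) rfl N22288 D72806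
theorem N43625 : nd 43625 = n72811 := ndS (p := 22289) (l := 5) rfl N22289 D72811
theorem N43626 : nd 43626 = n72812 := ndS (p := 22289) (l := 6) rfl N22289 D72812
theorem N43627 : nd 43627 = n72813 := ndS (p := 22290) (l := 3) rfl N22290 D72813
theorem N43628 : nd 43628 = n72814 := ndS (p := 22290) (l := 5) rfl N22290 D72814
theorem N43629 : nd 43629 = n72816 := ndS (p := 22291) (l := 4) rfl N22291 D72816
theorem N43630 : nd 43630 = n72820 := ndS (p := 22293) (l := 0) rfl N22293 D72820
theorem N43631 : nd 43631 = n72822 := ndS (p := 22293) (l := 7) rfl N22293 D72822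
theorem N43632 : nd 43632 = n72823 := ndS (p := 22294) (l := 2) rfl N22294 D72823
theorem N43633 : nd 43633 = n72824 := ndS (p := 22294) (l := 5) rfl N22294 D72824
theorem N43634 : nd 43634 = n72825 := ndS (p := 22294) (l := 6) rfl N22294 D72825
theorem N43635 : nd 43635 = n72826 := ndS (p := 22295) (l := 6) rfl N22295 D72826
theorem N43636 : nd 43636 = n72828 := ndS (p := 22296) (l := 1) rfl N22296 D72828
theorem N43637 : nd 43637 = n72829 := ndS (p := 22296) (l := 5) rfl N22296 D72829
theorem N43638 : nd 43638 = n72830 := ndS (p := 22296) (l := 7) rfl N22296 D72830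
theorem N43639 : nd 43639 = n72834 := ndS (p := 22297) (l := 5) rfl N22297 D72834
theorem N43640 : nd 43640 = n72835 := ndS (p := 22297) (l := 6) rfl N22297 D72835
theorem N43641 : nd 43641 = n72840 := ndS (p := 22298) (l := 6) rfl N22298 D72840
theorem N43642 : nd 43642 = n72841 := ndS (p := 22299) (l := 0) rfl N22299 D72841
theorem N43643 : nd 43643 = n72842 := ndS (p := 22299) (l := 1) rfl N22299 D72842
theorem N43644 : nd 43644 = n72843 := ndS (p := 22299) (l := 7) rfl N22299 D72843
theorem N43645 : nd 43645 = n72844 := ndS (p := 22301) (l := 0) rfl N22301 D72844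
theorem N43646 : nd 43646 = n72845 := ndS (p := 22301) (l := 1) rfl N22301 D72845
theorem N43647 : nd 43647 = n72849 := ndS (p := 22302) (l := 5) rfl N22302 D72849
theorem N43648 : nd 43648 = n72853 := ndS (p := 22303) (l := 5) rfl N22303 D72853
theorem N43649 : nd 43649 = n72855 := ndS (p := 22304) (l := 4) rfl N22304 D72855
theorem N43650 : nd 43650 = n72856 := ndS (p := 22304) (l := 6) rfl N22304 D72856
theorem N43651 : nd 43651 = n72857 := ndS (p := 22305) (l := 3) rfl N22305 D72857
theorem N43652 : nd 43652 = n72858 := ndS (p := 22305) (l := 6) rfl N22305 D72858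
theorem N43653 : nd 43653 = n72859 := ndS (p := 22306) (l := 6) rfl N22306 D72859
theorem N43654 : nd 43654 = n72860 := ndS (p := 22307) (l := 6) rfl N22307 D72860
theorem N43655 : nd 43655 = n72861 := ndS (p := 22308) (l := 0) rfl N22308 D72861
theorem N43656 : nd 43656 = n72862 := ndS (p := 22308) (l := 1) rfl N22308 D72862
theorem N43657 : nd 43657 = n72863 := ndS (p := 22308) (l := 5) rfl N22308 D72863
theorem N43658 : nd 43658 = n72864 := ndS (p := 22308) (l := 7) rfl N22308 D72864
theorem N43659 : nd 43659 = n72865 := ndS (p := 22309) (l := 3) rfl N22309 D72865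
theorem N43660 : nd 43660 = n72866 := ndS (p := 22309) (l := 6) rfl N22309 D72866
theorem N43661 : nd 43661 = n72868 := ndS (p := 22311) (l := 0) rfl N22311 D72868
theorem N43662 : nd 43662 = n72869 := ndS (p := 22311) (l := 1) rfl N22311 D72869
theorem N43663 : nd 43663 = n72870 := ndS (p := 22311) (l := 5) rfl N22311 D72870
theorem N43664 : nd 43664 = n72871 := ndS (p := 22311) (l := 7) rfl N22311 D72871
theorem N43665 : nd 43665 = n72879 := ndS (p := 22312) (l := 4) rfl N22312 D72879
theorem N43666 : nd 43666 = n72880 := ndS (p := 22312) (l := 5) rfl N22312 D72880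
theorem N43667 : nd 43667 = n72882 := ndS (p := 22313) (l := 0) rfl N22313 D72882
theorem N43668 : nd 43668 = n72883 := ndS (p := 22313) (l := 1) rfl N22313 D72883
theorem N43669 : nd 43669 = n72884 := ndS (p := 22313) (l := 4) rfl N22313 D72884
theorem N43670 : nd 43670 = n72885 := ndS (p := 22313) (l := 7) rfl N22313 D72885
theorem N43671 : nd 43671 = n72905 := ndS (p := 22315) (l := 0) rfl N22315 D72905
theorem N43672 : nd 43672 = n72906 := ndS (p := 22315) (l := 1) rfl N22315 D72906
theorem N43673 : nd 43673 = n72907 := ndS (p := 22315) (l := 4) rfl N22315 D72907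
theorem N43674 : nd 43674 = n72923 := ndS (p := 22317) (l := 4) rfl N22317 D72923
theorem N43675 : nd 43675 = n72924 := ndS (p := 22317) (l := 6) rfl N22317 D72924
theorem N43676 : nd 43676 = n72927 := ndS (p := 22318) (l := 5) rfl N22318 D72927
theorem N43677 : nd 43677 = n72931 := ndS (p := 22319) (l := 4) rfl N22319 D72931
theorem N43678 : nd 43678 = n72932 := ndS (p := 22319) (l := 5) rfl N22319 D72932
theorem N43679 : nd 43679 = n72936 := ndS (p := 22321) (l := 6) rfl N22321 D72936
theorem N43680 : nd 43680 = n72938 := ndS (p := 22322) (l := 1) rfl N22322 D72938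
theorem N43681 : nd 43681 = n72939 := ndS (p := 22322) (l := 7) rfl N22322 D72939
theorem N43682 : nd 43682 = n72940 := ndS (p := 22323) (l := 0) rfl N22323 D72940
theorem N43683 : nd 43683 = n72941 := ndS (p := 22323) (l := 1) rfl N22323 D72941
theorem N43684 : nd 43684 = n72942 := ndS (p := 22323) (l := 2) rfl N22323 D72942
theorem N43685 : nd 43685 = n72943 := ndS (p := 22323) (l := 6) rfl N22323 D72943
theorem N43686 : nd 43686 = n72946 := ndS (p := 22324) (l := 5) rfl N22324 D72946
theorem N43687 : nd 43687 = n72947 := ndS (p := 22324) (l := 7) rfl N22324 D72947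
theorem N43688 : nd 43688 = n72951 := ndS (p := 22325) (l := 5) rfl N22325 D72951
theorem N43689 : nd 43689 = n72952 := ndS (p := 22325) (l := 6) rfl N22325 D72952
theorem N43690 : nd 43690 = n72956 := ndS (p := 22326) (l := 5) rfl N22326 D72956
theorem N43691 : nd 43691 = n72957 := ndS (p := 22326) (l := 6) rfl N22326 D72957
theorem N43692 : nd 43692 = n72958 := ndS (p := 22328) (l := 6) rfl N22328 D72958
theorem N43693 : nd 43693 = n72959 := ndS (p := 22329) (l := 5) rfl N22329 D72959
theorem N43694 : nd 43694 = n72960 := ndS (p := 22329) (l := 6) rfl N22329 D72960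
theorem N43695 : nd 43695 = n72961 := ndS (p := 22330) (l := 6) rfl N22330 D72961
theorem N43696 : nd 43696 = n72962 := ndS (p := 22331) (l := 0) rfl N22331 D72962
theorem N43697 : nd 43697 = n72964 := ndS (p := 22331) (l := 5) rfl N22331 D72964
theorem N43698 : nd 43698 = n72965 := ndS (p := 22331) (l := 7) rfl N22331 D72965
theorem N43699 : nd 43699 = n72966 := ndS (p := 22332) (l := 0) rfl N22332 D72966
theorem N43700 : nd 43700 = n72967 := ndS (p := 22332) (l := 1) rfl N22332 D72967
theorem N43701 : nd 43701 = n72968 := ndS (p := 22332) (l := 5) rfl N22332 D72968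
theorem N43702 : nd 43702 = n72969 := ndS (p := 22332) (l := 7) rfl N22332 D72969
theorem N43703 : nd 43703 = n72971 := ndS (p := 22333) (l := 3) rfl N22333 D72971
theorem N43704 : nd 43704 = n72972 := ndS (p := 22333) (l := 4) rfl N22333 D72972
theorem N43705 : nd 43705 = n72973 := ndS (p := 22333) (l := 5) rfl N22333 D72973
theorem N43706 : nd 43706 = n72974 := ndS (p := 22333) (l := 6) rfl N22333 D72974
theorem N43707 : nd 43707 = n72976 := ndS (p := 22334) (l := 3) rfl N22334 D72976
theorem N43708 : nd 43708 = n72978 := ndS (p := 22334) (l := 5) rfl N22334 D72978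
theorem N43709 : nd 43709 = n72979 := ndS (p := 22334) (l := 6) rfl N22334 D72979
theorem N43710 : nd 43710 = n72980 := ndS (p := 22335) (l := 0) rfl N22335 D72980
theorem N43711 : nd 43711 = n72982 := ndS (p := 22335) (l := 4) rfl N22335 D72982
theorem N43712 : nd 43712 = n72983 := ndS (p := 22335) (l := 7) rfl N22335 D72983
theorem N43713 : nd 43713 = n73000 := ndS (p := 22337) (l := 5) rfl N22337 D73000
theorem N43714 : nd 43714 = n73001 := ndS (p := 22337) (l := 6) rfl N22337 D73001
theorem N43715 : nd 43715 = n73003 := ndS (p := 22338) (l := 0) rfl N22338 D73003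
theorem N43716 : nd 43716 = n73004 := ndS (p := 22338) (l := 1) rfl N22338 D73004
theorem N43717 : nd 43717 = n73018 := ndS (p := 22340) (l := 3) rfl N22340 D73018
theorem N43718 : nd 43718 = n73019 := ndS (p := 22340) (l := 5) rfl N22340 D73019
theorem N43719 : nd 43719 = n73021 := ndS (p := 22341) (l := 4) rfl N22341 D73021
theorem N43720 : nd 43720 = n73024 := ndS (p := 22342) (l := 5) rfl N22342 D73024
theorem N43721 : nd 43721 = n73029 := ndS (p := 22343) (l := 5) rfl N22343 D73029
theorem N43722 : nd 43722 = n73030 := ndS (p := 22343) (l := 6) rfl N22343 D73030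
theorem N43723 : nd 43723 = n73033 := ndS (p := 22344) (l := 6) rfl N22344 D73033
theorem N43724 : nd 43724 = n73034 := ndS (p := 22345) (l := 0) rfl N22345 D73034
theorem N43725 : nd 43725 = n73036 := ndS (p := 22345) (l := 3) rfl N22345 D73036
theorem N43726 : nd 43726 = n73037 := ndS (p := 22345) (l := 5) rfl N22345 D73037
theorem N43727 : nd 43727 = n73038 := ndS (p := 22345) (l := 7) rfl N22345 D73038
theorem N43728 : nd 43728 = n73039 := ndS (p := 22347) (l := 4) rfl N22347 D73039
theorem N43729 : nd 43729 = n73041 := ndS (p := 22347) (l := 6) rfl N22347 D73041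
theorem N43730 : nd 43730 = n73043 := ndS (p := 22348) (l := 4) rfl N22348 D73043
theorem N43731 : nd 43731 = n73045 := ndS (p := 22349) (l := 5) rfl N22349 D73045
theorem N43732 : nd 43732 = n73048 := ndS (p := 22351) (l := 0) rfl N22351 D73048
theorem N43733 : nd 43733 = n73049 := ndS (p := 22351) (l := 4) rfl N22351 D73049
theorem N43734 : nd 43734 = n73050 := ndS (p := 22351) (l := 6) rfl N22351 D73050
theorem N43735 : nd 43735 = n73057 := ndS (p := 22352) (l := 7) rfl N22352 D73057
theorem N43736 : nd 43736 = n73058 := ndS (p := 22353) (l := 3) rfl N22353 D73058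
theorem N43737 : nd 43737 = n73059 := ndS (p := 22353) (l := 6) rfl N22353 D73059
theorem N43738 : nd 43738 = n73060 := ndS (p := 22354) (l := 0) rfl N22354 D73060
theorem N43739 : nd 43739 = n73061 := ndS (p := 22354) (l := 1) rfl N22354 D73061
theorem N43740 : nd 43740 = n73063 := ndS (p := 22354) (l := 7) rfl N22354 D73063
theorem N43741 : nd 43741 = n73074 := ndS (p := 22355) (l := 0) rfl N22355 D73074
theorem N43742 : nd 43742 = n73075 := ndS (p := 22355) (l := 1) rfl N22355 D73075
theorem N43743 : nd 43743 = n73076 := ndS (p := 22355) (l := 4) rfl N22355 D73076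
theorem N43744 : nd 43744 = n73077 := ndS (p := 22355) (l := 7) rfl N22355 D73077
theorem N43745 : nd 43745 = n73078 := ndS (p := 22357) (l := 3) rfl N22357 D73078
theorem N43746 : nd 43746 = n73079 := ndS (p := 22357) (l := 6) rfl N22357 D73079
theorem N43747 : nd 43747 = n73080 := ndS (p := 22358) (l := 6) rfl N22358 D73080
theorem N43748 : nd 43748 = n73081 := ndS (p := 22359) (l := 6) rfl N22359 D73081
theorem N43749 : nd 43749 = n73082 := ndS (p := 22360) (l := 6) rfl N22360 D73082
theorem N43750 : nd 43750 = n73083 := ndS (p := 22361) (l := 6) rfl N22361 D73083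
theorem N43751 : nd 43751 = n73084 := ndS (p := 22362) (l := 0) rfl N22362 D73084
theorem N43752 : nd 43752 = n73085 := ndS (p := 22362) (l := 1) rfl N22362 D73085
theorem N43753 : nd 43753 = n73086 := ndS (p := 22362) (l := 5) rfl N22362 D73086
theorem N43754 : nd 43754 = n73087 := ndS (p := 22362) (l := 7) rfl N22362 D73087
theorem N43755 : nd 43755 = n73088 := ndS (p := 22363) (l := 0) rfl N22363 D73088
theorem N43756 : nd 43756 = n73089 := ndS (p := 22363) (l := 1) rfl N22363 D73089
theorem N43757 : nd 43757 = n73090 := ndS (p := 22363) (l := 5) rfl N22363 D73090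
theorem N43758 : nd 43758 = n73091 := ndS (p := 22363) (l := 7) rfl N22363 D73091
theorem N43759 : nd 43759 = n73102 := ndS (p := 22364) (l := 0) rfl N22364 D73102
theorem N43760 : nd 43760 = n73104 := ndS (p := 22364) (l := 4) rfl N22364 D73104
theorem N43761 : nd 43761 = n73105 := ndS (p := 22364) (l := 7) rfl N22364 D73105
theorem N43762 : nd 43762 = n73112 := ndS (p := 22366) (l := 0) rfl N22366 D73112
theorem N43763 : nd 43763 = n73113 := ndS (p := 22366) (l := 1) rfl N22366 D73113
theorem N43764 : nd 43764 = n73114 := ndS (p := 22366) (l := 5) rfl N22366 D73114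
theorem N43765 : nd 43765 = n73115 := ndS (p := 22366) (l := 7) rfl N22366 D73115
theorem N43766 : nd 43766 = n73116 := ndS (p := 22367) (l := 0) rfl N22367 D73116
theorem N43767 : nd 43767 = n73117 := ndS (p := 22367) (l := 1) rfl N22367 D73117
theorem N43768 : nd 43768 = n73118 := ndS (p := 22367) (l := 2) rfl N22367 D73118
theorem N43769 : nd 43769 = n73119 := ndS (p := 22367) (l := 6) rfl N22367 D73119
theorem N43770 : nd 43770 = n73120 := ndS (p := 22368) (l := 0) rfl N22368 D73120
theorem N43771 : nd 43771 = n73121 := ndS (p := 22368) (l := 1) rfl N22368 D73121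
theorem N43772 : nd 43772 = n73122 := ndS (p := 22368) (l := 5) rfl N22368 D73122
theorem N43773 : nd 43773 = n73123 := ndS (p := 22368) (l := 7) rfl N22368 D73123
theorem N43774 : nd 43774 = n73125 := ndS (p := 22369) (l := 3) rfl N22369 D73125
theorem N43775 : nd 43775 = n73126 := ndS (p := 22369) (l := 4) rfl N22369 D73126
theorem N43776 : nd 43776 = n73127 := ndS (p := 22369) (l := 5) rfl N22369 D73127
theorem N43777 : nd 43777 = n73128 := ndS (p := 22369) (l := 6) rfl N22369 D73128
theorem N43778 : nd 43778 = n73130 := ndS (p := 22370) (l := 3) rfl N22370 D73130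
theorem N43779 : nd 43779 = n73132 := ndS (p := 22370) (l := 5) rfl N22370 D73132
theorem N43780 : nd 43780 = n73133 := ndS (p := 22370) (l := 6) rfl N22370 D73133
theorem N43781 : nd 43781 = n73134 := ndS (p := 22371) (l := 0) rfl N22371 D73134
theorem N43782 : nd 43782 = n73135 := ndS (p := 22371) (l := 1) rfl N22371 D73135
theorem N43783 : nd 43783 = n73136 := ndS (p := 22371) (l := 4) rfl N22371 D73136
theorem N43784 : nd 43784 = n73137 := ndS (p := 22371) (l := 7) rfl N22371 D73137
theorem N43785 : nd 43785 = n73151 := ndS (p := 22373) (l := 0) rfl N22373 D73151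
theorem N43786 : nd 43786 = n73153 := ndS (p := 22373) (l := 3) rfl N22373 D73153
theorem N43787 : nd 43787 = n73154 := ndS (p := 22373) (l := 5) rfl N22373 D73154
theorem N43788 : nd 43788 = n73157 := ndS (p := 22374) (l := 0) rfl N22374 D73157
theorem N43789 : nd 43789 = n73158 := ndS (p := 22374) (l := 1) rfl N22374 D73158
theorem N43790 : nd 43790 = n73159 := ndS (p := 22374) (l := 4) rfl N22374 D73159
theorem N43791 : nd 43791 = n73160 := ndS (p := 22374) (l := 6) rfl N22374 D73160
theorem N43792 : nd 43792 = n73168 := ndS (p := 22375) (l := 1) rfl N22375 D73168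
theorem N43793 : nd 43793 = n73170 := ndS (p := 22375) (l := 4) rfl N22375 D73170
theorem N43794 : nd 43794 = n73171 := ndS (p := 22375) (l := 5) rfl N22375 D73171
theorem N43795 : nd 43795 = n73173 := ndS (p := 22376) (l := 5) rfl N22376 D73173
theorem N43796 : nd 43796 = n73175 := ndS (p := 22377) (l := 4) rfl N22377 D73175
theorem N43797 : nd 43797 = n73182 := ndS (p := 22378) (l := 3) rfl N22378 D73182
theorem N43798 : nd 43798 = n73183 := ndS (p := 22378) (l := 4) rfl N22378 D73183
theorem N43799 : nd 43799 = n73184 := ndS (p := 22378) (l := 5) rfl N22378 D73184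
theorem N43800 : nd 43800 = n73185 := ndS (p := 22378) (l := 6) rfl N22378 D73185
theorem N43801 : nd 43801 = n73187 := ndS (p := 22379) (l := 3) rfl N22379 D73187
theorem N43802 : nd 43802 = n73188 := ndS (p := 22379) (l := 4) rfl N22379 D73188
theorem N43803 : nd 43803 = n73189 := ndS (p := 22379) (l := 5) rfl N22379 D73189
theorem N43804 : nd 43804 = n73190 := ndS (p := 22379) (l := 6) rfl N22379 D73190
theorem N43805 : nd 43805 = n73191 := ndS (p := 22380) (l := 0) rfl N22380 D73191
theorem N43806 : nd 43806 = n73192 := ndS (p := 22380) (l := 1) rfl N22380 D73192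
theorem N43807 : nd 43807 = n73193 := ndS (p := 22380) (l := 3) rfl N22380 D73193
theorem N43808 : nd 43808 = n73194 := ndS (p := 22380) (l := 5) rfl N22380 D73194
theorem N43809 : nd 43809 = n73195 := ndS (p := 22380) (l := 7) rfl N22380 D73195
theorem N43810 : nd 43810 = n73196 := ndS (p := 22381) (l := 6) rfl N22381 D73196
theorem N43811 : nd 43811 = n73241 := ndS (p := 22384) (l := 3) rfl N22384 D73241
theorem N43812 : nd 43812 = n73242 := ndS (p := 22384) (l := 5) rfl N22384 D73242
theorem N43813 : nd 43813 = n73243 := ndS (p := 22384) (l := 6) rfl N22384 D73243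
theorem N43814 : nd 43814 = n73245 := ndS (p := 22385) (l := 0) rfl N22385 D73245
theorem N43815 : nd 43815 = n73246 := ndS (p := 22385) (l := 1) rfl N22385 D73246
theorem N43816 : nd 43816 = n73251 := ndS (p := 22386) (l := 1) rfl N22386 D73251
theorem N43817 : nd 43817 = n73253 := ndS (p := 22386) (l := 7) rfl N22386 D73253
theorem N43818 : nd 43818 = n73256 := ndS (p := 22387) (l := 3) rfl N22387 D73256
theorem N43819 : nd 43819 = n73258 := ndS (p := 22387) (l := 5) rfl N22387 D73258
theorem N43820 : nd 43820 = n73265 := ndS (p := 22388) (l := 0) rfl N22388 D73265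
theorem N43821 : nd 43821 = n73267 := ndS (p := 22388) (l := 2) rfl N22388 D73267
theorem N43822 : nd 43822 = n73268 := ndS (p := 22388) (l := 5) rfl N22388 D73268
theorem N43823 : nd 43823 = n73269 := ndS (p := 22388) (l := 6) rfl N22388 D73269
theorem N43824 : nd 43824 = n73271 := ndS (p := 22389) (l := 0) rfl N22389 D73271
theorem N43825 : nd 43825 = n73272 := ndS (p := 22389) (l := 1) rfl N22389 D73272
theorem N43826 : nd 43826 = n73273 := ndS (p := 22389) (l := 4) rfl N22389 D73273
theorem N43827 : nd 43827 = n73274 := ndS (p := 22389) (l := 6) rfl N22389 D73274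
theorem N43828 : nd 43828 = n73277 := ndS (p := 22390) (l := 1) rfl N22390 D73277
theorem N43829 : nd 43829 = n73278 := ndS (p := 22390) (l := 5) rfl N22390 D73278
theorem N43830 : nd 43830 = n73282 := ndS (p := 22391) (l := 4) rfl N22391 D73282
theorem N43831 : nd 43831 = n73283 := ndS (p := 22391) (l := 6) rfl N22391 D73283
theorem N43832 : nd 43832 = n73285 := ndS (p := 22392) (l := 4) rfl N22392 D73285
theorem N43833 : nd 43833 = n73286 := ndS (p := 22392) (l := 5) rfl N22392 D73286
theorem N43834 : nd 43834 = n73287 := ndS (p := 22393) (l := 0) rfl N22393 D73287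
theorem N43835 : nd 43835 = n73288 := ndS (p := 22393) (l := 1) rfl N22393 D73288
theorem N43836 : nd 43836 = n73289 := ndS (p := 22393) (l := 3) rfl N22393 D73289
theorem N43837 : nd 43837 = n73290 := ndS (p := 22393) (l := 5) rfl N22393 D73290
theorem N43838 : nd 43838 = n73291 := ndS (p := 22393) (l := 6) rfl N22393 D73291
theorem N43839 : nd 43839 = n73298 := ndS (p := 22395) (l := 5) rfl N22395 D73298
theorem N43840 : nd 43840 = n73299 := ndS (p := 22396) (l := 4) rfl N22396 D73299
theorem N43841 : nd 43841 = n73314 := ndS (p := 22399) (l := 4) rfl N22399 D73314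
theorem N43842 : nd 43842 = n73315 := ndS (p := 22399) (l := 5) rfl N22399 D73315
theorem N43843 : nd 43843 = n73316 := ndS (p := 22399) (l := 6) rfl N22399 D73316
theorem N43844 : nd 43844 = n73318 := ndS (p := 22400) (l := 1) rfl N22400 D73318
theorem N43845 : nd 43845 = n73319 := ndS (p := 22400) (l := 3) rfl N22400 D73319
theorem N43846 : nd 43846 = n73320 := ndS (p := 22400) (l := 5) rfl N22400 D73320
theorem N43847 : nd 43847 = n73321 := ndS (p := 22400) (l := 6) rfl N22400 D73321
theorem N43848 : nd 43848 = n73322 := ndS (p := 22401) (l := 0) rfl N22401 D73322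
theorem N43849 : nd 43849 = n73323 := ndS (p := 22401) (l := 1) rfl N22401 D73323
theorem N43850 : nd 43850 = n73324 := ndS (p := 22401) (l := 4) rfl N22401 D73324
theorem N43851 : nd 43851 = n73325 := ndS (p := 22401) (l := 6) rfl N22401 D73325
theorem N43852 : nd 43852 = n73329 := ndS (p := 22402) (l := 7) rfl N22402 D73329
theorem N43853 : nd 43853 = n73331 := ndS (p := 22403) (l := 1) rfl N22403 D73331
theorem N43854 : nd 43854 = n73332 := ndS (p := 22403) (l := 2) rfl N22403 D73332
theorem N43855 : nd 43855 = n73333 := ndS (p := 22403) (l := 5) rfl N22403 D73333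
theorem N43856 : nd 43856 = n73335 := ndS (p := 22404) (l := 4) rfl N22404 D73335
theorem N43857 : nd 43857 = n73341 := ndS (p := 22405) (l := 3) rfl N22405 D73341
theorem N43858 : nd 43858 = n73342 := ndS (p := 22405) (l := 5) rfl N22405 D73342
theorem N43859 : nd 43859 = n73343 := ndS (p := 22405) (l := 6) rfl N22405 D73343
theorem N43860 : nd 43860 = n73356 := ndS (p := 22409) (l := 1) rfl N22409 D73356
theorem N43861 : nd 43861 = n73357 := ndS (p := 22409) (l := 3) rfl N22409 D73357
theorem N43862 : nd 43862 = n73358 := ndS (p := 22409) (l := 5) rfl N22409 D73358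
theorem N43863 : nd 43863 = n73359 := ndS (p := 22409) (l := 6) rfl N22409 D73359
theorem N43864 : nd 43864 = n73360 := ndS (p := 22410) (l := 0) rfl N22410 D73360
theorem N43865 : nd 43865 = n73361 := ndS (p := 22410) (l := 1) rfl N22410 D73361
theorem N43866 : nd 43866 = n73362 := ndS (p := 22410) (l := 7) rfl N22410 D73362
theorem N43867 : nd 43867 = n73363 := ndS (p := 22411) (l := 3) rfl N22411 D73363
theorem N43868 : nd 43868 = n73364 := ndS (p := 22411) (l := 5) rfl N22411 D73364
theorem N43869 : nd 43869 = n73365 := ndS (p := 22411) (l := 6) rfl N22411 D73365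
theorem N43870 : nd 43870 = n73366 := ndS (p := 22412) (l := 0) rfl N22412 D73366
theorem N43871 : nd 43871 = n73368 := ndS (p := 22412) (l := 7) rfl N22412 D73368
theorem N43872 : nd 43872 = n73369 := ndS (p := 22413) (l := 1) rfl N22413 D73369
theorem N43873 : nd 43873 = n73370 := ndS (p := 22413) (l := 3) rfl N22413 D73370
theorem N43874 : nd 43874 = n73371 := ndS (p := 22413) (l := 5) rfl N22413 D73371
theorem N43875 : nd 43875 = n73372 := ndS (p := 22413) (l := 6) rfl N22413 D73372
theorem N43876 : nd 43876 = n73373 := ndS (p := 22414) (l := 0) rfl N22414 D73373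
theorem N43877 : nd 43877 = n73374 := ndS (p := 22414) (l := 1) rfl N22414 D73374
theorem N43878 : nd 43878 = n73376 := ndS (p := 22415) (l := 4) rfl N22415 D73376
theorem N43879 : nd 43879 = n73377 := ndS (p := 22415) (l := 6) rfl N22415 D73377
theorem N43880 : nd 43880 = n73378 := ndS (p := 22416) (l := 3) rfl N22416 D73378
theorem N43881 : nd 43881 = n73379 := ndS (p := 22416) (l := 5) rfl N22416 D73379
theorem N43882 : nd 43882 = n73380 := ndS (p := 22416) (l := 6) rfl N22416 D73380
theorem N43883 : nd 43883 = n73381 := ndS (p := 22417) (l := 0) rfl N22417 D73381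
theorem N43884 : nd 43884 = n73382 := ndS (p := 22417) (l := 1) rfl N22417 D73382
theorem N43885 : nd 43885 = n73383 := ndS (p := 22417) (l := 7) rfl N22417 D73383
theorem N43886 : nd 43886 = n73384 := ndS (p := 22418) (l := 3) rfl N22418 D73384
theorem N43887 : nd 43887 = n73385 := ndS (p := 22418) (l := 5) rfl N22418 D73385
theorem N43888 : nd 43888 = n73386 := ndS (p := 22418) (l := 6) rfl N22418 D73386
theorem N43889 : nd 43889 = n73387 := ndS (p := 22419) (l := 3) rfl N22419 D73387
theorem N43890 : nd 43890 = n73388 := ndS (p := 22419) (l := 5) rfl N22419 D73388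
theorem N43891 : nd 43891 = n73389 := ndS (p := 22419) (l := 6) rfl N22419 D73389
theorem N43892 : nd 43892 = n73390 := ndS (p := 22420) (l := 0) rfl N22420 D73390
theorem N43893 : nd 43893 = n73391 := ndS (p := 22420) (l := 1) rfl N22420 D73391
theorem N43894 : nd 43894 = n73392 := ndS (p := 22420) (l := 2) rfl N22420 D73392
theorem N43895 : nd 43895 = n73393 := ndS (p := 22420) (l := 5) rfl N22420 D73393
theorem N43896 : nd 43896 = n73394 := ndS (p := 22421) (l := 0) rfl N22421 D73394
theorem N43897 : nd 43897 = n73395 := ndS (p := 22421) (l := 4) rfl N22421 D73395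
theorem N43898 : nd 43898 = n73396 := ndS (p := 22421) (l := 6) rfl N22421 D73396
theorem N43899 : nd 43899 = n73397 := ndS (p := 22422) (l := 5) rfl N22422 D73397
theorem N43900 : nd 43900 = n73399 := ndS (p := 22423) (l := 6) rfl N22423 D73399
theorem N43901 : nd 43901 = n73407 := ndS (p := 22424) (l := 5) rfl N22424 D73407
theorem N43902 : nd 43902 = n73409 := ndS (p := 22425) (l := 4) rfl N22425 D73409
theorem N43903 : nd 43903 = n73410 := ndS (p := 22425) (l := 5) rfl N22425 D73410
theorem N43904 : nd 43904 = n73414 := ndS (p := 22426) (l := 4) rfl N22426 D73414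
theorem N43905 : nd 43905 = n73418 := ndS (p := 22428) (l := 6) rfl N22428 D73418
theorem N43906 : nd 43906 = n73421 := ndS (p := 22429) (l := 5) rfl N22429 D73421
theorem N43907 : nd 43907 = n73423 := ndS (p := 22430) (l := 1) rfl N22430 D73423
theorem N43908 : nd 43908 = n73427 := ndS (p := 22431) (l := 3) rfl N22431 D73427
theorem N43909 : nd 43909 = n73428 := ndS (p := 22431) (l := 6) rfl N22431 D73428
theorem N43910 : nd 43910 = n73429 := ndS (p := 22432) (l := 3) rfl N22432 D73429
theorem N43911 : nd 43911 = n73430 := ndS (p := 22432) (l := 6) rfl N22432 D73430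
theorem N43912 : nd 43912 = n73431 := ndS (p := 22433) (l := 0) rfl N22433 D73431
theorem N43913 : nd 43913 = n73434 := ndS (p := 22433) (l := 7) rfl N22433 D73434
theorem N43914 : nd 43914 = n73458 := ndS (p := 22434) (l := 5) rfl N22434 D73458
theorem N43915 : nd 43915 = n73461 := ndS (p := 22435) (l := 0) rfl N22435 D73461
theorem N43916 : nd 43916 = n73464 := ndS (p := 22435) (l := 5) rfl N22435 D73464
theorem N43917 : nd 43917 = n73467 := ndS (p := 22436) (l := 0) rfl N22436 D73467
theorem N43918 : nd 43918 = n73468 := ndS (p := 22436) (l := 1) rfl N22436 D73468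
theorem N43919 : nd 43919 = n73469 := ndS (p := 22436) (l := 4) rfl N22436 D73469
theorem N43920 : nd 43920 = n73470 := ndS (p := 22436) (l := 6) rfl N22436 D73470
theorem N43921 : nd 43921 = n73483 := ndS (p := 22438) (l := 5) rfl N22438 D73483
theorem N43922 : nd 43922 = n73485 := ndS (p := 22439) (l := 4) rfl N22439 D73485
theorem N43923 : nd 43923 = n73486 := ndS (p := 22439) (l := 6) rfl N22439 D73486
theorem N43924 : nd 43924 = n73489 := ndS (p := 22440) (l := 5) rfl N22440 D73489
theorem N43925 : nd 43925 = n73492 := ndS (p := 22441) (l := 3) rfl N22441 D73492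
theorem N43926 : nd 43926 = n73493 := ndS (p := 22441) (l := 4) rfl N22441 D73493
theorem N43927 : nd 43927 = n73494 := ndS (p := 22441) (l := 5) rfl N22441 D73494
theorem N43928 : nd 43928 = n73501 := ndS (p := 22442) (l := 0) rfl N22442 D73501
theorem N43929 : nd 43929 = n73502 := ndS (p := 22442) (l := 1) rfl N22442 D73502
theorem N43930 : nd 43930 = n73504 := ndS (p := 22442) (l := 5) rfl N22442 D73504
theorem N43931 : nd 43931 = n73505 := ndS (p := 22442) (l := 7) rfl N22442 D73505
theorem N43932 : nd 43932 = n73506 := ndS (p := 22443) (l := 6) rfl N22443 D73506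
theorem N43933 : nd 43933 = n73522 := ndS (p := 22444) (l := 5) rfl N22444 D73522
theorem N43934 : nd 43934 = n73524 := ndS (p := 22445) (l := 0) rfl N22445 D73524
theorem N43935 : nd 43935 = n73526 := ndS (p := 22445) (l := 4) rfl N22445 D73526
theorem N43936 : nd 43936 = n73530 := ndS (p := 22446) (l := 3) rfl N22446 D73530
theorem N43937 : nd 43937 = n73532 := ndS (p := 22446) (l := 6) rfl N22446 D73532
theorem N43938 : nd 43938 = n73535 := ndS (p := 22448) (l := 3) rfl N22448 D73535
theorem N43939 : nd 43939 = n73562 := ndS (p := 22449) (l := 3) rfl N22449 D73562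
theorem N43940 : nd 43940 = n73564 := ndS (p := 22450) (l := 5) rfl N22450 D73564
theorem N43941 : nd 43941 = n73565 := ndS (p := 22451) (l := 4) rfl N22451 D73565
theorem N43942 : nd 43942 = n73569 := ndS (p := 22452) (l := 4) rfl N22452 D73569
theorem N43943 : nd 43943 = n73570 := ndS (p := 22452) (l := 5) rfl N22452 D73570
theorem N43944 : nd 43944 = n73593 := ndS (p := 22455) (l := 5) rfl N22455 D73593
theorem N43945 : nd 43945 = n73594 := ndS (p := 22455) (l := 6) rfl N22455 D73594
theorem N43946 : nd 43946 = n73595 := ndS (p := 22456) (l := 6) rfl N22456 D73595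
theorem N43947 : nd 43947 = n73597 := ndS (p := 22457) (l := 1) rfl N22457 D73597
theorem N43948 : nd 43948 = n73598 := ndS (p := 22457) (l := 5) rfl N22457 D73598
theorem N43949 : nd 43949 = n73599 := ndS (p := 22457) (l := 7) rfl N22457 D73599
theorem N43950 : nd 43950 = n73602 := ndS (p := 22458) (l := 5) rfl N22458 D73602
theorem N43951 : nd 43951 = n73603 := ndS (p := 22459) (l := 4) rfl N22459 D73603
theorem N43952 : nd 43952 = n73605 := ndS (p := 22461) (l := 0) rfl N22461 D73605
theorem N43953 : nd 43953 = n73606 := ndS (p := 22461) (l := 1) rfl N22461 D73606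
theorem N43954 : nd 43954 = n73607 := ndS (p := 22461) (l := 6) rfl N22461 D73607
theorem N43955 : nd 43955 = n73614 := ndS (p := 22463) (l := 5) rfl N22463 D73614
theorem N43956 : nd 43956 = n73616 := ndS (p := 22464) (l := 4) rfl N22464 D73616
theorem N43957 : nd 43957 = n73617 := ndS (p := 22464) (l := 6) rfl N22464 D73617
theorem N43958 : nd 43958 = n73618 := ndS (p := 22465) (l := 1) rfl N22465 D73618
theorem N43959 : nd 43959 = n73619 := ndS (p := 22465) (l := 3) rfl N22465 D73619
theorem N43960 : nd 43960 = n73620 := ndS (p := 22465) (l := 6) rfl N22465 D73620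
theorem N43961 : nd 43961 = n73621 := ndS (p := 22466) (l := 0) rfl N22466 D73621
theorem N43962 : nd 43962 = n73622 := ndS (p := 22466) (l := 1) rfl N22466 D73622
theorem N43963 : nd 43963 = n73624 := ndS (p := 22466) (l := 7) rfl N22466 D73624
theorem N43964 : nd 43964 = n73626 := ndS (p := 22467) (l := 3) rfl N22467 D73626
theorem N43965 : nd 43965 = n73627 := ndS (p := 22467) (l := 4) rfl N22467 D73627
theorem N43966 : nd 43966 = n73629 := ndS (p := 22467) (l := 6) rfl N22467 D73629
theorem N43967 : nd 43967 = n73632 := ndS (p := 22468) (l := 4) rfl N22468 D73632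
theorem N43968 : nd 43968 = n73634 := ndS (p := 22468) (l := 6) rfl N22468 D73634
theorem N43969 : nd 43969 = n73635 := ndS (p := 22469) (l := 0) rfl N22469 D73635
theorem N43970 : nd 43970 = n73636 := ndS (p := 22469) (l := 1) rfl N22469 D73636
theorem N43971 : nd 43971 = n73638 := ndS (p := 22469) (l := 7) rfl N22469 D73638
theorem N43972 : nd 43972 = n73639 := ndS (p := 22471) (l := 0) rfl N22471 D73639
theorem N43973 : nd 43973 = n73641 := ndS (p := 22471) (l := 3) rfl N22471 D73641
theorem N43974 : nd 43974 = n73643 := ndS (p := 22471) (l := 6) rfl N22471 D73643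
theorem N43975 : nd 43975 = n73644 := ndS (p := 22472) (l := 0) rfl N22472 D73644
theorem N43976 : nd 43976 = n73646 := ndS (p := 22472) (l := 4) rfl N22472 D73646
theorem N43977 : nd 43977 = n73655 := ndS (p := 22474) (l := 3) rfl N22474 D73655
theorem N43978 : nd 43978 = n73658 := ndS (p := 22475) (l := 4) rfl N22475 D73658
theorem N43979 : nd 43979 = n73661 := ndS (p := 22476) (l := 5) rfl N22476 D73661
theorem N43980 : nd 43980 = n73685 := ndS (p := 22477) (l := 3) rfl N22477 D73685
theorem N43981 : nd 43981 = n73687 := ndS (p := 22477) (l := 6) rfl N22477 D73687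
theorem N43982 : nd 43982 = n73697 := ndS (p := 22479) (l := 6) rfl N22479 D73697
theorem N43983 : nd 43983 = n73698 := ndS (p := 22480) (l := 0) rfl N22480 D73698
theorem N43984 : nd 43984 = n73699 := ndS (p := 22480) (l := 1) rfl N22480 D73699
theorem N43985 : nd 43985 = n73700 := ndS (p := 22480) (l := 4) rfl N22480 D73700
theorem N43986 : nd 43986 = n73703 := ndS (p := 22481) (l := 5) rfl N22481 D73703
theorem N43987 : nd 43987 = n73704 := ndS (p := 22482) (l := 3) rfl N22482 D73704
theorem N43988 : nd 43988 = n73706 := ndS (p := 22483) (l := 5) rfl N22483 D73706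
theorem N43989 : nd 43989 = n73712 := ndS (p := 22486) (l := 1) rfl N22486 D73712
theorem N43990 : nd 43990 = n73713 := ndS (p := 22486) (l := 7) rfl N22486 D73713
theorem N43991 : nd 43991 = n73715 := ndS (p := 22488) (l := 3) rfl N22488 D73715
theorem N43992 : nd 43992 = n73718 := ndS (p := 22489) (l := 3) rfl N22489 D73718
theorem N43993 : nd 43993 = n73721 := ndS (p := 22490) (l := 0) rfl N22490 D73721
theorem N43994 : nd 43994 = n73722 := ndS (p := 22490) (l := 1) rfl N22490 D73722
theorem N43995 : nd 43995 = n73723 := ndS (p := 22490) (l := 2) rfl N22490 D73723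
theorem N43996 : nd 43996 = n73724 := ndS (p := 22490) (l := 5) rfl N22490 D73724
theorem N43997 : nd 43997 = n73725 := ndS (p := 22490) (l := 7) rfl N22490 D73725
theorem N43998 : nd 43998 = n73728 := ndS (p := 22491) (l := 6) rfl N22491 D73728
theorem N43999 : nd 43999 = n73729 := ndS (p := 22492) (l := 6) rfl N22492 D73729
theorem N44000 : nd 44000 = n73738 := ndS (p := 22494) (l := 5) rfl N22494 D73738
theorem N44001 : nd 44001 = n73772 := ndS (p := 22496) (l := 5) rfl N22496 D73772
theorem N44002 : nd 44002 = n73793 := ndS (p := 22497) (l := 5) rfl N22497 D73793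
theorem N44003 : nd 44003 = n73796 := ndS (p := 22498) (l := 3) rfl N22498 D73796
theorem N44004 : nd 44004 = n73797 := ndS (p := 22498) (l := 4) rfl N22498 D73797
theorem N44005 : nd 44005 = n73798 := ndS (p := 22498) (l := 5) rfl N22498 D73798
theorem N44006 : nd 44006 = n73800 := ndS (p := 22499) (l := 0) rfl N22499 D73800
theorem N44007 : nd 44007 = n73801 := ndS (p := 22499) (l := 1) rfl N22499 D73801
theorem N44008 : nd 44008 = n73803 := ndS (p := 22499) (l := 5) rfl N22499 D73803
theorem N44009 : nd 44009 = n73811 := ndS (p := 22501) (l := 4) rfl N22501 D73811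
theorem N44010 : nd 44010 = n73815 := ndS (p := 22502) (l := 3) rfl N22502 D73815
theorem N44011 : nd 44011 = n73818 := ndS (p := 22502) (l := 6) rfl N22502 D73818
theorem N44012 : nd 44012 = n73820 := ndS (p := 22503) (l := 1) rfl N22503 D73820
theorem N44013 : nd 44013 = n73841 := ndS (p := 22505) (l := 3) rfl N22505 D73841
theorem N44014 : nd 44014 = n73846 := ndS (p := 22506) (l := 4) rfl N22506 D73846
theorem N44015 : nd 44015 = n73848 := ndS (p := 22507) (l := 3) rfl N22507 D73848
theorem N44016 : nd 44016 = n73856 := ndS (p := 22508) (l := 3) rfl N22508 D73856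
theorem N44017 : nd 44017 = n73861 := ndS (p := 22511) (l := 3) rfl N22511 D73861
theorem N44018 : nd 44018 = n73863 := ndS (p := 22512) (l := 0) rfl N22512 D73863
theorem N44019 : nd 44019 = n73864 := ndS (p := 22512) (l := 1) rfl N22512 D73864
theorem N44020 : nd 44020 = n73865 := ndS (p := 22512) (l := 2) rfl N22512 D73865
theorem N44021 : nd 44021 = n73909 := ndS (p := 22514) (l := 3) rfl N22514 D73909
theorem N44022 : nd 44022 = n73910 := ndS (p := 22514) (l := 5) rfl N22514 D73910
theorem N44023 : nd 44023 = n73919 := ndS (p := 22515) (l := 5) rfl N22515 D73919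
theorem N44024 : nd 44024 = n73921 := ndS (p := 22516) (l := 4) rfl N22516 D73921
theorem N44025 : nd 44025 = n73933 := ndS (p := 22517) (l := 3) rfl N22517 D73933
theorem N44026 : nd 44026 = n73934 := ndS (p := 22517) (l := 4) rfl N22517 D73934
theorem N44027 : nd 44027 = n73935 := ndS (p := 22517) (l := 5) rfl N22517 D73935
theorem N44028 : nd 44028 = n73942 := ndS (p := 22518) (l := 0) rfl N22518 D73942
theorem N44029 : nd 44029 = n73943 := ndS (p := 22518) (l := 1) rfl N22518 D73943
theorem N44030 : nd 44030 = n73944 := ndS (p := 22518) (l := 4) rfl N22518 D73944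
theorem N44031 : nd 44031 = n73945 := ndS (p := 22518) (l := 6) rfl N22518 D73945
theorem N44032 : nd 44032 = n73952 := ndS (p := 22519) (l := 4) rfl N22519 D73952
theorem N44033 : nd 44033 = n73953 := ndS (p := 22519) (l := 5) rfl N22519 D73953
theorem N44034 : nd 44034 = n73957 := ndS (p := 22520) (l := 4) rfl N22520 D73957
theorem N44035 : nd 44035 = n73959 := ndS (p := 22520) (l := 6) rfl N22520 D73959
theorem N44036 : nd 44036 = n73960 := ndS (p := 22521) (l := 0) rfl N22521 D73960
theorem N44037 : nd 44037 = n73961 := ndS (p := 22521) (l := 1) rfl N22521 D73961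
theorem N44038 : nd 44038 = n73962 := ndS (p := 22521) (l := 3) rfl N22521 D73962
theorem N44039 : nd 44039 = n73963 := ndS (p := 22521) (l := 5) rfl N22521 D73963
theorem N44040 : nd 44040 = n73964 := ndS (p := 22521) (l := 6) rfl N22521 D73964
theorem N44041 : nd 44041 = n73967 := ndS (p := 22522) (l := 5) rfl N22522 D73967
theorem N44042 : nd 44042 = n73969 := ndS (p := 22523) (l := 3) rfl N22523 D73969
theorem N44043 : nd 44043 = n73972 := ndS (p := 22523) (l := 6) rfl N22523 D73972
theorem N44044 : nd 44044 = n73978 := ndS (p := 22525) (l := 0) rfl N22525 D73978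
theorem N44045 : nd 44045 = n73979 := ndS (p := 22525) (l := 1) rfl N22525 D73979
theorem N44046 : nd 44046 = n74000 := ndS (p := 22527) (l := 0) rfl N22527 D74000
theorem N44047 : nd 44047 = n74001 := ndS (p := 22527) (l := 1) rfl N22527 D74001
theorem N44048 : nd 44048 = n74002 := ndS (p := 22527) (l := 2) rfl N22527 D74002
theorem N44049 : nd 44049 = n74004 := ndS (p := 22527) (l := 6) rfl N22527 D74004
theorem N44050 : nd 44050 = n74007 := ndS (p := 22529) (l := 1) rfl N22529 D74007
theorem N44051 : nd 44051 = n74015 := ndS (p := 22530) (l := 0) rfl N22530 D74015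
theorem N44052 : nd 44052 = n74016 := ndS (p := 22530) (l := 4) rfl N22530 D74016
theorem N44053 : nd 44053 = n74017 := ndS (p := 22530) (l := 6) rfl N22530 D74017
theorem N44054 : nd 44054 = n74018 := ndS (p := 22531) (l := 4) rfl N22531 D74018
theorem N44055 : nd 44055 = n74020 := ndS (p := 22532) (l := 4) rfl N22532 D74020
theorem N44056 : nd 44056 = n74021 := ndS (p := 22532) (l := 6) rfl N22532 D74021
theorem N44057 : nd 44057 = n74024 := ndS (p := 22533) (l := 5) rfl N22533 D74024
theorem N44058 : nd 44058 = n74025 := ndS (p := 22533) (l := 6) rfl N22533 D74025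
theorem N44059 : nd 44059 = n74026 := ndS (p := 22534) (l := 0) rfl N22534 D74026
theorem N44060 : nd 44060 = n74027 := ndS (p := 22534) (l := 1) rfl N22534 D74027
theorem N44061 : nd 44061 = n74028 := ndS (p := 22534) (l := 7) rfl N22534 D74028
theorem N44062 : nd 44062 = n74031 := ndS (p := 22536) (l := 3) rfl N22536 D74031
theorem N44063 : nd 44063 = n74033 := ndS (p := 22537) (l := 0) rfl N22537 D74033
theorem N44064 : nd 44064 = n74035 := ndS (p := 22537) (l := 2) rfl N22537 D74035
theorem N44065 : nd 44065 = n74036 := ndS (p := 22537) (l := 6) rfl N22537 D74036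
theorem N44066 : nd 44066 = n74050 := ndS (p := 22542) (l := 2) rfl N22542 D74050
theorem N44067 : nd 44067 = n74051 := ndS (p := 22542) (l := 6) rfl N22542 D74051
theorem N44068 : nd 44068 = n74052 := ndS (p := 22543) (l := 0) rfl N22543 D74052
theorem N44069 : nd 44069 = n74053 := ndS (p := 22543) (l := 1) rfl N22543 D74053
theorem N44070 : nd 44070 = n74055 := ndS (p := 22543) (l := 7) rfl N22543 D74055
theorem N44071 : nd 44071 = n74058 := ndS (p := 22544) (l := 6) rfl N22544 D74058
theorem N44072 : nd 44072 = n74059 := ndS (p := 22547) (l := 0) rfl N22547 D74059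
theorem N44073 : nd 44073 = n74062 := ndS (p := 22547) (l := 6) rfl N22547 D74062
theorem N44074 : nd 44074 = n74063 := ndS (p := 22548) (l := 0) rfl N22548 D74063
theorem N44075 : nd 44075 = n74064 := ndS (p := 22548) (l := 1) rfl N22548 D74064
theorem N44076 : nd 44076 = n74065 := ndS (p := 22548) (l := 7) rfl N22548 D74065
theorem N44077 : nd 44077 = n74066 := ndS (p := 22549) (l := 0) rfl N22549 D74066
theorem N44078 : nd 44078 = n74067 := ndS (p := 22549) (l := 1) rfl N22549 D74067
theorem N44079 : nd 44079 = n74068 := ndS (p := 22549) (l := 2) rfl N22549 D74068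
theorem N44080 : nd 44080 = n74069 := ndS (p := 22549) (l := 6) rfl N22549 D74069
theorem N44081 : nd 44081 = n74070 := ndS (p := 22550) (l := 0) rfl N22550 D74070
theorem N44082 : nd 44082 = n74072 := ndS (p := 22550) (l := 5) rfl N22550 D74072
theorem N44083 : nd 44083 = n74073 := ndS (p := 22550) (l := 7) rfl N22550 D74073
theorem N44084 : nd 44084 = n74075 := ndS (p := 22551) (l := 3) rfl N22551 D74075
theorem N44085 : nd 44085 = n74076 := ndS (p := 22551) (l := 4) rfl N22551 D74076
theorem N44086 : nd 44086 = n74077 := ndS (p := 22551) (l := 5) rfl N22551 D74077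
theorem N44087 : nd 44087 = n74080 := ndS (p := 22552) (l := 4) rfl N22552 D74080
theorem N44088 : nd 44088 = n74083 := ndS (p := 22554) (l := 0) rfl N22554 D74083
theorem N44089 : nd 44089 = n74084 := ndS (p := 22554) (l := 1) rfl N22554 D74084
theorem N44090 : nd 44090 = n74085 := ndS (p := 22554) (l := 3) rfl N22554 D74085
theorem N44091 : nd 44091 = n74086 := ndS (p := 22554) (l := 5) rfl N22554 D74086
theorem N44092 : nd 44092 = n74087 := ndS (p := 22554) (l := 6) rfl N22554 D74087
theorem N44093 : nd 44093 = n74092 := ndS (p := 22556) (l := 2) rfl N22556 D74092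
theorem N44094 : nd 44094 = n74093 := ndS (p := 22556) (l := 6) rfl N22556 D74093
theorem N44095 : nd 44095 = n74094 := ndS (p := 22557) (l := 0) rfl N22557 D74094
theorem N44096 : nd 44096 = n74097 := ndS (p := 22557) (l := 7) rfl N22557 D74097
theorem N44097 : nd 44097 = n74100 := ndS (p := 22558) (l := 4) rfl N22558 D74100
theorem N44098 : nd 44098 = n74101 := ndS (p := 22558) (l := 5) rfl N22558 D74101
theorem N44099 : nd 44099 = n74102 := ndS (p := 22558) (l := 6) rfl N22558 D74102
theorem N44100 : nd 44100 = n74106 := ndS (p := 22559) (l := 5) rfl N22559 D74106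
theorem N44101 : nd 44101 = n74107 := ndS (p := 22561) (l := 0) rfl N22561 D74107
theorem N44102 : nd 44102 = n74108 := ndS (p := 22561) (l := 1) rfl N22561 D74108
theorem N44103 : nd 44103 = n74109 := ndS (p := 22561) (l := 2) rfl N22561 D74109
theorem N44104 : nd 44104 = n74110 := ndS (p := 22561) (l := 4) rfl N22561 D74110
theorem N44105 : nd 44105 = n74111 := ndS (p := 22561) (l := 6) rfl N22561 D74111
theorem N44106 : nd 44106 = n74114 := ndS (p := 22562) (l := 5) rfl N22562 D74114
theorem N44107 : nd 44107 = n74115 := ndS (p := 22562) (l := 7) rfl N22562 D74115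
theorem N44108 : nd 44108 = n74116 := ndS (p := 22563) (l := 0) rfl N22563 D74116
theorem N44109 : nd 44109 = n74117 := ndS (p := 22563) (l := 1) rfl N22563 D74117
theorem N44110 : nd 44110 = n74118 := ndS (p := 22563) (l := 2) rfl N22563 D74118
theorem N44111 : nd 44111 = n74125 := ndS (p := 22565) (l := 3) rfl N22565 D74125
theorem N44112 : nd 44112 = n74126 := ndS (p := 22565) (l := 4) rfl N22565 D74126
theorem N44113 : nd 44113 = n74127 := ndS (p := 22565) (l := 5) rfl N22565 D74127
theorem N44114 : nd 44114 = n74128 := ndS (p := 22565) (l := 6) rfl N22565 D74128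
theorem N44115 : nd 44115 = n74131 := ndS (p := 22566) (l := 4) rfl N22566 D74131
theorem N44116 : nd 44116 = n74132 := ndS (p := 22566) (l := 5) rfl N22566 D74132
theorem N44117 : nd 44117 = n74133 := ndS (p := 22566) (l := 6) rfl N22566 D74133
theorem N44118 : nd 44118 = n74134 := ndS (p := 22567) (l := 5) rfl N22567 D74134
theorem N44119 : nd 44119 = n74135 := ndS (p := 22568) (l := 0) rfl N22568 D74135
theorem N44120 : nd 44120 = n74136 := ndS (p := 22568) (l := 1) rfl N22568 D74136
theorem N44121 : nd 44121 = n74137 := ndS (p := 22568) (l := 4) rfl N22568 D74137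
theorem N44122 : nd 44122 = n74138 := ndS (p := 22568) (l := 6) rfl N22568 D74138
theorem N44123 : nd 44123 = n74139 := ndS (p := 22569) (l := 0) rfl N22569 D74139
theorem N44124 : nd 44124 = n74140 := ndS (p := 22569) (l := 1) rfl N22569 D74140
theorem N44125 : nd 44125 = n74141 := ndS (p := 22570) (l := 3) rfl N22570 D74141
theorem N44126 : nd 44126 = n74142 := ndS (p := 22570) (l := 5) rfl N22570 D74142
theorem N44127 : nd 44127 = n74143 := ndS (p := 22570) (l := 6) rfl N22570 D74143
theorem N44128 : nd 44128 = n74144 := ndS (p := 22571) (l := 0) rfl N22571 D74144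
theorem N44129 : nd 44129 = n74145 := ndS (p := 22571) (l := 1) rfl N22571 D74145
theorem N44130 : nd 44130 = n74146 := ndS (p := 22571) (l := 7) rfl N22571 D74146
theorem N44131 : nd 44131 = n74148 := ndS (p := 22572) (l := 1) rfl N22572 D74148
theorem N44132 : nd 44132 = n74149 := ndS (p := 22572) (l := 2) rfl N22572 D74149
theorem N44133 : nd 44133 = n74150 := ndS (p := 22572) (l := 6) rfl N22572 D74150
theorem N44134 : nd 44134 = n74160 := ndS (p := 22575) (l := 3) rfl N22575 D74160
theorem N44135 : nd 44135 = n74163 := ndS (p := 22578) (l := 2) rfl N22578 D74163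
theorem N44136 : nd 44136 = n74164 := ndS (p := 22579) (l := 4) rfl N22579 D74164
theorem N44137 : nd 44137 = n74165 := ndS (p := 22579) (l := 6) rfl N22579 D74165
theorem N44138 : nd 44138 = n74166 := ndS (p := 22580) (l := 0) rfl N22580 D74166
theorem N44139 : nd 44139 = n74167 := ndS (p := 22580) (l := 1) rfl N22580 D74167
theorem N44140 : nd 44140 = n74168 := ndS (p := 22580) (l := 7) rfl N22580 D74168
theorem N44141 : nd 44141 = n74172 := ndS (p := 22582) (l := 5) rfl N22582 D74172
theorem N44142 : nd 44142 = n74173 := ndS (p := 22584) (l := 3) rfl N22584 D74173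
theorem N44143 : nd 44143 = n74174 := ndS (p := 22584) (l := 5) rfl N22584 D74174
theorem N44144 : nd 44144 = n74175 := ndS (p := 22584) (l := 6) rfl N22584 D74175
theorem N44145 : nd 44145 = n74176 := ndS (p := 22585) (l := 3) rfl N22585 D74176
theorem N44146 : nd 44146 = n74177 := ndS (p := 22585) (l := 5) rfl N22585 D74177
theorem N44147 : nd 44147 = n74178 := ndS (p := 22585) (l := 6) rfl N22585 D74178
theorem N44148 : nd 44148 = n74179 := ndS (p := 22587) (l := 6) rfl N22587 D74179
theorem N44149 : nd 44149 = n74180 := ndS (p := 22588) (l := 6) rfl N22588 D74180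
theorem N44150 : nd 44150 = n74181 := ndS (p := 22589) (l := 0) rfl N22589 D74181
theorem N44151 : nd 44151 = n74182 := ndS (p := 22589) (l := 1) rfl N22589 D74182
theorem N44152 : nd 44152 = n74183 := ndS (p := 22589) (l := 2) rfl N22589 D74183
theorem N44153 : nd 44153 = n74184 := ndS (p := 22589) (l := 5) rfl N22589 D74184
theorem N44154 : nd 44154 = n74185 := ndS (p := 22590) (l := 0) rfl N22590 D74185
theorem N44155 : nd 44155 = n74186 := ndS (p := 22590) (l := 6) rfl N22590 D74186
theorem N44156 : nd 44156 = n74187 := ndS (p := 22591) (l := 0) rfl N22591 D74187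
theorem N44157 : nd 44157 = n74188 := ndS (p := 22591) (l := 1) rfl N22591 D74188
theorem N44158 : nd 44158 = n74189 := ndS (p := 22591) (l := 3) rfl N22591 D74189
theorem N44159 : nd 44159 = n74190 := ndS (p := 22591) (l := 5) rfl N22591 D74190
theorem N44160 : nd 44160 = n74191 := ndS (p := 22592) (l := 3) rfl N22592 D74191
theorem N44161 : nd 44161 = n74192 := ndS (p := 22592) (l := 6) rfl N22592 D74192
theorem N44162 : nd 44162 = n74193 := ndS (p := 22593) (l := 0) rfl N22593 D74193
theorem N44163 : nd 44163 = n74194 := ndS (p := 22593) (l := 7) rfl N22593 D74194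
theorem N44164 : nd 44164 = n74195 := ndS (p := 22594) (l := 3) rfl N22594 D74195
theorem N44165 : nd 44165 = n74196 := ndS (p := 22594) (l := 6) rfl N22594 D74196
theorem N44166 : nd 44166 = n74198 := ndS (p := 22595) (l := 1) rfl N22595 D74198
theorem N44167 : nd 44167 = n74199 := ndS (p := 22595) (l := 7) rfl N22595 D74199
theorem N44168 : nd 44168 = n74200 := ndS (p := 22596) (l := 3) rfl N22596 D74200
theorem N44169 : nd 44169 = n74201 := ndS (p := 22596) (l := 5) rfl N22596 D74201
theorem N44170 : nd 44170 = n74202 := ndS (p := 22596) (l := 6) rfl N22596 D74202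
theorem N44171 : nd 44171 = n74203 := ndS (p := 22597) (l := 3) rfl N22597 D74203
theorem N44172 : nd 44172 = n74204 := ndS (p := 22597) (l := 5) rfl N22597 D74204
theorem N44173 : nd 44173 = n74205 := ndS (p := 22597) (l := 6) rfl N22597 D74205
theorem N44174 : nd 44174 = n74206 := ndS (p := 22598) (l := 0) rfl N22598 D74206
theorem N44175 : nd 44175 = n74207 := ndS (p := 22598) (l := 1) rfl N22598 D74207
theorem N44176 : nd 44176 = n74208 := ndS (p := 22598) (l := 2) rfl N22598 D74208
theorem N44177 : nd 44177 = n74209 := ndS (p := 22598) (l := 5) rfl N22598 D74209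
theorem N44178 : nd 44178 = n74210 := ndS (p := 22598) (l := 7) rfl N22598 D74210
theorem N44179 : nd 44179 = n74211 := ndS (p := 22599) (l := 0) rfl N22599 D74211
theorem N44180 : nd 44180 = n74212 := ndS (p := 22599) (l := 1) rfl N22599 D74212
theorem N44181 : nd 44181 = n74213 := ndS (p := 22599) (l := 6) rfl N22599 D74213
theorem N44182 : nd 44182 = n74214 := ndS (p := 22600) (l := 6) rfl N22600 D74214
theorem N44183 : nd 44183 = n74215 := ndS (p := 22602) (l := 1) rfl N22602 D74215
theorem N44184 : nd 44184 = n74216 := ndS (p := 22602) (l := 5) rfl N22602 D74216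
theorem N44185 : nd 44185 = n74217 := ndS (p := 22602) (l := 6) rfl N22602 D74217
theorem N44186 : nd 44186 = n74218 := ndS (p := 22603) (l := 0) rfl N22603 D74218
theorem N44187 : nd 44187 = n74220 := ndS (p := 22603) (l := 7) rfl N22603 D74220
theorem N44188 : nd 44188 = n74221 := ndS (p := 22604) (l := 3) rfl N22604 D74221
theorem N44189 : nd 44189 = n74222 := ndS (p := 22604) (l := 6) rfl N22604 D74222
theorem N44190 : nd 44190 = n74223 := ndS (p := 22605) (l := 0) rfl N22605 D74223
theorem N44191 : nd 44191 = n74225 := ndS (p := 22605) (l := 7) rfl N22605 D74225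
theorem N44192 : nd 44192 = n74226 := ndS (p := 22606) (l := 3) rfl N22606 D74226
theorem N44193 : nd 44193 = n74227 := ndS (p := 22606) (l := 6) rfl N22606 D74227
theorem N44194 : nd 44194 = n74228 := ndS (p := 22607) (l := 3) rfl N22607 D74228
theorem N44195 : nd 44195 = n74229 := ndS (p := 22607) (l := 6) rfl N22607 D74229
theorem N44196 : nd 44196 = n74230 := ndS (p := 22608) (l := 0) rfl N22608 D74230
theorem N44197 : nd 44197 = n74231 := ndS (p := 22608) (l := 1) rfl N22608 D74231
theorem N44198 : nd 44198 = n74232 := ndS (p := 22608) (l := 6) rfl N22608 D74232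
theorem N44199 : nd 44199 = n74233 := ndS (p := 22609) (l := 0) rfl N22609 D74233
theorem N44200 : nd 44200 = n74234 := ndS (p := 22609) (l := 1) rfl N22609 D74234
theorem N44201 : nd 44201 = n74235 := ndS (p := 22609) (l := 5) rfl N22609 D74235
theorem N44202 : nd 44202 = n74236 := ndS (p := 22609) (l := 7) rfl N22609 D74236
theorem N44203 : nd 44203 = n74238 := ndS (p := 22610) (l := 4) rfl N22610 D74238
theorem N44204 : nd 44204 = n74240 := ndS (p := 22611) (l := 4) rfl N22611 D74240
theorem N44205 : nd 44205 = n74242 := ndS (p := 22614) (l := 3) rfl N22614 D74242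
theorem N44206 : nd 44206 = n74243 := ndS (p := 22616) (l := 6) rfl N22616 D74243
theorem N44207 : nd 44207 = n74245 := ndS (p := 22618) (l := 0) rfl N22618 D74245
theorem N44208 : nd 44208 = n74246 := ndS (p := 22618) (l := 1) rfl N22618 D74246
theorem N44209 : nd 44209 = n74247 := ndS (p := 22618) (l := 2) rfl N22618 D74247
theorem N44210 : nd 44210 = n74248 := ndS (p := 22618) (l := 6) rfl N22618 D74248
theorem N44211 : nd 44211 = n74249 := ndS (p := 22619) (l := 6) rfl N22619 D74249
theorem N44212 : nd 44212 = n74250 := ndS (p := 22620) (l := 0) rfl N22620 D74250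
theorem N44213 : nd 44213 = n74251 := ndS (p := 22620) (l := 5) rfl N22620 D74251
theorem N44214 : nd 44214 = n74252 := ndS (p := 22620) (l := 7) rfl N22620 D74252
theorem N44215 : nd 44215 = n74253 := ndS (p := 22621) (l := 4) rfl N22621 D74253
theorem N44216 : nd 44216 = n74254 := ndS (p := 22622) (l := 4) rfl N22622 D74254
theorem N44217 : nd 44217 = n74255 := ndS (p := 22624) (l := 6) rfl N22624 D74255
theorem N44218 : nd 44218 = n74256 := ndS (p := 22625) (l := 0) rfl N22625 D74256
theorem N44219 : nd 44219 = n74257 := ndS (p := 22625) (l := 1) rfl N22625 D74257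
theorem N44220 : nd 44220 = n74258 := ndS (p := 22625) (l := 7) rfl N22625 D74258
theorem N44221 : nd 44221 = n74259 := ndS (p := 22626) (l := 3) rfl N22626 D74259
theorem N44222 : nd 44222 = n74260 := ndS (p := 22626) (l := 6) rfl N22626 D74260
theorem N44223 : nd 44223 = n74261 := ndS (p := 22627) (l := 3) rfl N22627 D74261
theorem N44224 : nd 44224 = n74262 := ndS (p := 22628) (l := 0) rfl N22628 D74262
theorem N44225 : nd 44225 = n74263 := ndS (p := 22628) (l := 1) rfl N22628 D74263
theorem N44226 : nd 44226 = n74264 := ndS (p := 22628) (l := 5) rfl N22628 D74264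
theorem N44227 : nd 44227 = n74265 := ndS (p := 22628) (l := 7) rfl N22628 D74265
theorem N44228 : nd 44228 = n74267 := ndS (p := 22629) (l := 4) rfl N22629 D74267
theorem N44229 : nd 44229 = n74268 := ndS (p := 22629) (l := 5) rfl N22629 D74268
theorem N44230 : nd 44230 = n74270 := ndS (p := 22630) (l := 4) rfl N22630 D74270
theorem N44231 : nd 44231 = n74272 := ndS (p := 22630) (l := 6) rfl N22630 D74272
theorem N44232 : nd 44232 = n74273 := ndS (p := 22632) (l := 0) rfl N22632 D74273
theorem N44233 : nd 44233 = n74274 := ndS (p := 22632) (l := 1) rfl N22632 D74274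
theorem N44234 : nd 44234 = n74275 := ndS (p := 22632) (l := 7) rfl N22632 D74275
theorem N44235 : nd 44235 = n74276 := ndS (p := 22633) (l := 0) rfl N22633 D74276
theorem N44236 : nd 44236 = n74277 := ndS (p := 22633) (l := 1) rfl N22633 D74277
theorem N44237 : nd 44237 = n74278 := ndS (p := 22633) (l := 2) rfl N22633 D74278
theorem N44238 : nd 44238 = n74279 := ndS (p := 22633) (l := 5) rfl N22633 D74279
theorem N44239 : nd 44239 = n74280 := ndS (p := 22633) (l := 6) rfl N22633 D74280
theorem N44240 : nd 44240 = n74281 := ndS (p := 22634) (l := 6) rfl N22634 D74281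
theorem N44241 : nd 44241 = n74282 := ndS (p := 22635) (l := 0) rfl N22635 D74282
theorem N44242 : nd 44242 = n74283 := ndS (p := 22635) (l := 1) rfl N22635 D74283
theorem N44243 : nd 44243 = n74284 := ndS (p := 22635) (l := 5) rfl N22635 D74284
theorem N44244 : nd 44244 = n74285 := ndS (p := 22635) (l := 7) rfl N22635 D74285
theorem N44245 : nd 44245 = n74286 := ndS (p := 22636) (l := 4) rfl N22636 D74286
theorem N44246 : nd 44246 = n74287 := ndS (p := 22636) (l := 6) rfl N22636 D74287
theorem N44247 : nd 44247 = n74288 := ndS (p := 22637) (l := 4) rfl N22637 D74288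
theorem N44248 : nd 44248 = n74289 := ndS (p := 22639) (l := 0) rfl N22639 D74289
theorem N44249 : nd 44249 = n74290 := ndS (p := 22639) (l := 1) rfl N22639 D74290
theorem N44250 : nd 44250 = n74291 := ndS (p := 22639) (l := 2) rfl N22639 D74291
theorem N44251 : nd 44251 = n74293 := ndS (p := 22639) (l := 6) rfl N22639 D74293
theorem N44252 : nd 44252 = n74294 := ndS (p := 22640) (l := 0) rfl N22640 D74294
theorem N44253 : nd 44253 = n74295 := ndS (p := 22640) (l := 6) rfl N22640 D74295
theorem N44254 : nd 44254 = n74297 := ndS (p := 22641) (l := 5) rfl N22641 D74297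
theorem N44255 : nd 44255 = n74298 := ndS (p := 22641) (l := 7) rfl N22641 D74298
theorem N44256 : nd 44256 = n74299 := ndS (p := 22642) (l := 0) rfl N22642 D74299
theorem N44257 : nd 44257 = n74300 := ndS (p := 22642) (l := 1) rfl N22642 D74300
theorem N44258 : nd 44258 = n74301 := ndS (p := 22642) (l := 2) rfl N22642 D74301
theorem N44259 : nd 44259 = n74302 := ndS (p := 22642) (l := 4) rfl N22642 D74302
theorem N44260 : nd 44260 = n74303 := ndS (p := 22642) (l := 5) rfl N22642 D74303
theorem N44261 : nd 44261 = n74304 := ndS (p := 22642) (l := 6) rfl N22642 D74304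
theorem N44262 : nd 44262 = n74305 := ndS (p := 22643) (l := 6) rfl N22643 D74305
theorem N44263 : nd 44263 = n74308 := ndS (p := 22644) (l := 5) rfl N22644 D74308
theorem N44264 : nd 44264 = n74309 := ndS (p := 22644) (l := 7) rfl N22644 D74309
theorem N44265 : nd 44265 = n74310 := ndS (p := 22645) (l := 0) rfl N22645 D74310
theorem N44266 : nd 44266 = n74311 := ndS (p := 22645) (l := 2) rfl N22645 D74311
theorem N44267 : nd 44267 = n74312 := ndS (p := 22645) (l := 3) rfl N22645 D74312
theorem N44268 : nd 44268 = n74313 := ndS (p := 22645) (l := 4) rfl N22645 D74313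
theorem N44269 : nd 44269 = n74314 := ndS (p := 22645) (l := 5) rfl N22645 D74314
theorem N44270 : nd 44270 = n74315 := ndS (p := 22645) (l := 6) rfl N22645 D74315
theorem N44271 : nd 44271 = n74316 := ndS (p := 22645) (l := 7) rfl N22645 D74316
theorem N44272 : nd 44272 = n74318 := ndS (p := 22646) (l := 4) rfl N22646 D74318
theorem N44273 : nd 44273 = n74320 := ndS (p := 22646) (l := 6) rfl N22646 D74320
theorem N44274 : nd 44274 = n74323 := ndS (p := 22647) (l := 5) rfl N22647 D74323
theorem N44275 : nd 44275 = n74324 := ndS (p := 22648) (l := 0) rfl N22648 D74324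
theorem N44276 : nd 44276 = n74325 := ndS (p := 22648) (l := 1) rfl N22648 D74325
theorem N44277 : nd 44277 = n74326 := ndS (p := 22648) (l := 4) rfl N22648 D74326
theorem N44278 : nd 44278 = n74327 := ndS (p := 22648) (l := 6) rfl N22648 D74327
theorem N44279 : nd 44279 = n74328 := ndS (p := 22648) (l := 7) rfl N22648 D74328
theorem N44280 : nd 44280 = n74329 := ndS (p := 22649) (l := 6) rfl N22649 D74329
theorem N44281 : nd 44281 = n74330 := ndS (p := 22650) (l := 3) rfl N22650 D74330
theorem N44282 : nd 44282 = n74331 := ndS (p := 22650) (l := 6) rfl N22650 D74331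
theorem N44283 : nd 44283 = n74332 := ndS (p := 22651) (l := 3) rfl N22651 D74332
theorem N44284 : nd 44284 = n74333 := ndS (p := 22651) (l := 6) rfl N22651 D74333
theorem N44285 : nd 44285 = n74334 := ndS (p := 22652) (l := 3) rfl N22652 D74334
theorem N44286 : nd 44286 = n74335 := ndS (p := 22652) (l := 6) rfl N22652 D74335
theorem N44287 : nd 44287 = n74336 := ndS (p := 22653) (l := 0) rfl N22653 D74336
theorem N44288 : nd 44288 = n74337 := ndS (p := 22653) (l := 1) rfl N22653 D74337
theorem N44289 : nd 44289 = n74338 := ndS (p := 22653) (l := 7) rfl N22653 D74338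
theorem N44290 : nd 44290 = n74339 := ndS (p := 22654) (l := 6) rfl N22654 D74339
theorem N44291 : nd 44291 = n74340 := ndS (p := 22655) (l := 0) rfl N22655 D74340
theorem N44292 : nd 44292 = n74341 := ndS (p := 22655) (l := 1) rfl N22655 D74341
theorem N44293 : nd 44293 = n74342 := ndS (p := 22655) (l := 5) rfl N22655 D74342
theorem N44294 : nd 44294 = n74343 := ndS (p := 22656) (l := 3) rfl N22656 D74343
theorem N44295 : nd 44295 = n74344 := ndS (p := 22656) (l := 4) rfl N22656 D74344
theorem N44296 : nd 44296 = n74345 := ndS (p := 22656) (l := 6) rfl N22656 D74345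
theorem N44297 : nd 44297 = n74347 := ndS (p := 22657) (l := 4) rfl N22657 D74347
theorem N44298 : nd 44298 = n74348 := ndS (p := 22657) (l := 5) rfl N22657 D74348
theorem N44299 : nd 44299 = n74349 := ndS (p := 22658) (l := 3) rfl N22658 D74349
theorem N44300 : nd 44300 = n74350 := ndS (p := 22658) (l := 6) rfl N22658 D74350
theorem N44301 : nd 44301 = n74351 := ndS (p := 22659) (l := 3) rfl N22659 D74351
theorem N44302 : nd 44302 = n74352 := ndS (p := 22660) (l := 0) rfl N22660 D74352
theorem N44303 : nd 44303 = n74353 := ndS (p := 22660) (l := 1) rfl N22660 D74353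
theorem N44304 : nd 44304 = n74354 := ndS (p := 22660) (l := 2) rfl N22660 D74354
theorem N44305 : nd 44305 = n74355 := ndS (p := 22660) (l := 5) rfl N22660 D74355
theorem N44306 : nd 44306 = n74357 := ndS (p := 22661) (l := 6) rfl N22661 D74357
theorem N44307 : nd 44307 = n74358 := ndS (p := 22662) (l := 0) rfl N22662 D74358
theorem N44308 : nd 44308 = n74359 := ndS (p := 22662) (l := 1) rfl N22662 D74359
theorem N44309 : nd 44309 = n74360 := ndS (p := 22662) (l := 5) rfl N22662 D74360
theorem N44310 : nd 44310 = n74361 := ndS (p := 22662) (l := 7) rfl N22662 D74361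
theorem N44311 : nd 44311 = n74362 := ndS (p := 22663) (l := 4) rfl N22663 D74362
theorem N44312 : nd 44312 = n74363 := ndS (p := 22664) (l := 4) rfl N22664 D74363
theorem N44313 : nd 44313 = n74368 := ndS (p := 22666) (l := 4) rfl N22666 D74368
theorem N44314 : nd 44314 = n74370 := ndS (p := 22667) (l := 3) rfl N22667 D74370
theorem N44315 : nd 44315 = n74371 := ndS (p := 22667) (l := 4) rfl N22667 D74371
theorem N44316 : nd 44316 = n74373 := ndS (p := 22667) (l := 6) rfl N22667 D74373
theorem N44317 : nd 44317 = n74375 := ndS (p := 22668) (l := 3) rfl N22668 D74375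
theorem N44318 : nd 44318 = n74376 := ndS (p := 22668) (l := 4) rfl N22668 D74376
theorem N44319 : nd 44319 = n74379 := ndS (p := 22669) (l := 5) rfl N22669 D74379
theorem N44320 : nd 44320 = n74381 := ndS (p := 22670) (l := 0) rfl N22670 D74381
theorem N44321 : nd 44321 = n74382 := ndS (p := 22670) (l := 1) rfl N22670 D74382
theorem N44322 : nd 44322 = n74396 := ndS (p := 22671) (l := 4) rfl N22671 D74396
theorem N44323 : nd 44323 = n74399 := ndS (p := 22672) (l := 3) rfl N22672 D74399
theorem N44324 : nd 44324 = n74400 := ndS (p := 22672) (l := 6) rfl N22672 D74400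
theorem N44325 : nd 44325 = n74401 := ndS (p := 22673) (l := 0) rfl N22673 D74401
theorem N44326 : nd 44326 = n74402 := ndS (p := 22673) (l := 5) rfl N22673 D74402
theorem N44327 : nd 44327 = n74403 := ndS (p := 22673) (l := 7) rfl N22673 D74403
theorem N44328 : nd 44328 = n74404 := ndS (p := 22675) (l := 3) rfl N22675 D74404
theorem N44329 : nd 44329 = n74406 := ndS (p := 22676) (l := 3) rfl N22676 D74406
theorem N44330 : nd 44330 = n74408 := ndS (p := 22677) (l := 3) rfl N22677 D74408
theorem N44331 : nd 44331 = n74411 := ndS (p := 22678) (l := 1) rfl N22678 D74411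
theorem N44332 : nd 44332 = n74412 := ndS (p := 22678) (l := 2) rfl N22678 D74412
theorem N44333 : nd 44333 = n74413 := ndS (p := 22678) (l := 5) rfl N22678 D74413
theorem N44334 : nd 44334 = n74414 := ndS (p := 22678) (l := 6) rfl N22678 D74414
theorem N44335 : nd 44335 = n74415 := ndS (p := 22679) (l := 0) rfl N22679 D74415
theorem N44336 : nd 44336 = n74416 := ndS (p := 22679) (l := 1) rfl N22679 D74416
theorem N44337 : nd 44337 = n74417 := ndS (p := 22679) (l := 6) rfl N22679 D74417
theorem N44338 : nd 44338 = n74418 := ndS (p := 22680) (l := 0) rfl N22680 D74418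
theorem N44339 : nd 44339 = n74419 := ndS (p := 22680) (l := 5) rfl N22680 D74419
theorem N44340 : nd 44340 = n74420 := ndS (p := 22680) (l := 7) rfl N22680 D74420
theorem N44341 : nd 44341 = n74421 := ndS (p := 22681) (l := 4) rfl N22681 D74421
theorem N44342 : nd 44342 = n74424 := ndS (p := 22683) (l := 4) rfl N22683 D74424
theorem N44343 : nd 44343 = n74428 := ndS (p := 22684) (l := 3) rfl N22684 D74428
theorem N44344 : nd 44344 = n74429 := ndS (p := 22684) (l := 4) rfl N22684 D74429
theorem N44345 : nd 44345 = n74431 := ndS (p := 22684) (l := 6) rfl N22684 D74431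
theorem N44346 : nd 44346 = n74433 := ndS (p := 22685) (l := 6) rfl N22685 D74433
theorem N44347 : nd 44347 = n74438 := ndS (p := 22686) (l := 0) rfl N22686 D74438
theorem N44348 : nd 44348 = n74447 := ndS (p := 22688) (l := 3) rfl N22688 D74447
theorem N44349 : nd 44349 = n74448 := ndS (p := 22688) (l := 5) rfl N22688 D74448
theorem N44350 : nd 44350 = n74449 := ndS (p := 22689) (l := 3) rfl N22689 D74449
theorem N44351 : nd 44351 = n74450 := ndS (p := 22689) (l := 6) rfl N22689 D74450
theorem N44352 : nd 44352 = n74453 := ndS (p := 22690) (l := 2) rfl N22690 D74453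
theorem N44353 : nd 44353 = n74454 := ndS (p := 22690) (l := 5) rfl N22690 D74454
theorem N44354 : nd 44354 = n74455 := ndS (p := 22690) (l := 6) rfl N22690 D74455
theorem N44355 : nd 44355 = n74456 := ndS (p := 22691) (l := 6) rfl N22691 D74456
theorem N44356 : nd 44356 = n74457 := ndS (p := 22692) (l := 0) rfl N22692 D74457
theorem N44357 : nd 44357 = n74458 := ndS (p := 22692) (l := 1) rfl N22692 D74458
theorem N44358 : nd 44358 = n74459 := ndS (p := 22692) (l := 5) rfl N22692 D74459
theorem N44359 : nd 44359 = n74460 := ndS (p := 22692) (l := 7) rfl N22692 D74460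
theorem N44360 : nd 44360 = n74461 := ndS (p := 22693) (l := 3) rfl N22693 D74461
theorem N44361 : nd 44361 = n74462 := ndS (p := 22693) (l := 4) rfl N22693 D74462
theorem N44362 : nd 44362 = n74463 := ndS (p := 22693) (l := 5) rfl N22693 D74463
theorem N44363 : nd 44363 = n74464 := ndS (p := 22694) (l := 3) rfl N22694 D74464
theorem N44364 : nd 44364 = n74465 := ndS (p := 22694) (l := 4) rfl N22694 D74465
theorem N44365 : nd 44365 = n74466 := ndS (p := 22694) (l := 6) rfl N22694 D74466
theorem N44366 : nd 44366 = n74468 := ndS (p := 22696) (l := 3) rfl N22696 D74468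
theorem N44367 : nd 44367 = n74469 := ndS (p := 22696) (l := 4) rfl N22696 D74469
theorem N44368 : nd 44368 = n74471 := ndS (p := 22696) (l := 6) rfl N22696 D74471
theorem N44369 : nd 44369 = n74474 := ndS (p := 22697) (l := 4) rfl N22697 D74474
theorem N44370 : nd 44370 = n74477 := ndS (p := 22698) (l := 5) rfl N22698 D74477
theorem N44371 : nd 44371 = n74478 := ndS (p := 22698) (l := 6) rfl N22698 D74478
theorem N44372 : nd 44372 = n74483 := ndS (p := 22700) (l := 0) rfl N22700 D74483
theorem N44373 : nd 44373 = n74484 := ndS (p := 22700) (l := 1) rfl N22700 D74484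
theorem N44374 : nd 44374 = n74485 := ndS (p := 22700) (l := 5) rfl N22700 D74485
theorem N44375 : nd 44375 = n74489 := ndS (p := 22701) (l := 5) rfl N22701 D74489
theorem N44376 : nd 44376 = n74491 := ndS (p := 22702) (l := 3) rfl N22702 D74491
theorem N44377 : nd 44377 = n74493 := ndS (p := 22703) (l := 3) rfl N22703 D74493
theorem N44378 : nd 44378 = n74494 := ndS (p := 22703) (l := 5) rfl N22703 D74494
theorem N44379 : nd 44379 = n74495 := ndS (p := 22704) (l := 4) rfl N22704 D74495
theorem N44380 : nd 44380 = n74499 := ndS (p := 22705) (l := 4) rfl N22705 D74499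
theorem N44381 : nd 44381 = n74500 := ndS (p := 22705) (l := 5) rfl N22705 D74500
theorem N44382 : nd 44382 = n74503 := ndS (p := 22706) (l := 4) rfl N22706 D74503
theorem N44383 : nd 44383 = n74512 := ndS (p := 22708) (l := 3) rfl N22708 D74512
theorem N44384 : nd 44384 = n74513 := ndS (p := 22709) (l := 3) rfl N22709 D74513
theorem N44385 : nd 44385 = n74514 := ndS (p := 22709) (l := 6) rfl N22709 D74514
theorem N44386 : nd 44386 = n74516 := ndS (p := 22710) (l := 1) rfl N22710 D74516
theorem N44387 : nd 44387 = n74517 := ndS (p := 22710) (l := 2) rfl N22710 D74517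
theorem N44388 : nd 44388 = n74518 := ndS (p := 22710) (l := 5) rfl N22710 D74518
theorem N44389 : nd 44389 = n74520 := ndS (p := 22711) (l := 6) rfl N22711 D74520
theorem N44390 : nd 44390 = n74523 := ndS (p := 22712) (l := 5) rfl N22712 D74523
theorem N44391 : nd 44391 = n74524 := ndS (p := 22712) (l := 7) rfl N22712 D74524
theorem N44392 : nd 44392 = n74525 := ndS (p := 22713) (l := 4) rfl N22713 D74525
theorem N44393 : nd 44393 = n74526 := ndS (p := 22713) (l := 6) rfl N22713 D74526
theorem N44394 : nd 44394 = n74527 := ndS (p := 22714) (l := 4) rfl N22714 D74527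
theorem N44395 : nd 44395 = n74529 := ndS (p := 22716) (l := 3) rfl N22716 D74529
theorem N44396 : nd 44396 = n74530 := ndS (p := 22716) (l := 4) rfl N22716 D74530
theorem N44397 : nd 44397 = n74534 := ndS (p := 22717) (l := 3) rfl N22717 D74534
theorem N44398 : nd 44398 = n74535 := ndS (p := 22717) (l := 4) rfl N22717 D74535
theorem N44399 : nd 44399 = n74537 := ndS (p := 22717) (l := 6) rfl N22717 D74537
theorem N44400 : nd 44400 = n74555 := ndS (p := 22721) (l := 4) rfl N22721 D74555
theorem N44401 : nd 44401 = n74559 := ndS (p := 22722) (l := 4) rfl N22722 D74559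
theorem N44402 : nd 44402 = n74563 := ndS (p := 22723) (l := 3) rfl N22723 D74563
theorem N44403 : nd 44403 = n74564 := ndS (p := 22723) (l := 4) rfl N22723 D74564
theorem N44404 : nd 44404 = n74567 := ndS (p := 22724) (l := 4) rfl N22724 D74567
theorem N44405 : nd 44405 = n74570 := ndS (p := 22725) (l := 0) rfl N22725 D74570
theorem N44406 : nd 44406 = n74571 := ndS (p := 22725) (l := 1) rfl N22725 D74571
theorem N44407 : nd 44407 = n74572 := ndS (p := 22725) (l := 5) rfl N22725 D74572
theorem N44408 : nd 44408 = n74573 := ndS (p := 22725) (l := 6) rfl N22725 D74573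
theorem N44409 : nd 44409 = n74579 := ndS (p := 22727) (l := 5) rfl N22727 D74579
theorem N44410 : nd 44410 = n74585 := ndS (p := 22729) (l := 4) rfl N22729 D74585
theorem N44411 : nd 44411 = n74588 := ndS (p := 22730) (l := 4) rfl N22730 D74588
theorem N44412 : nd 44412 = n74589 := ndS (p := 22730) (l := 5) rfl N22730 D74589
theorem N44413 : nd 44413 = n74599 := ndS (p := 22731) (l := 0) rfl N22731 D74599
theorem N44414 : nd 44414 = n74600 := ndS (p := 22731) (l := 1) rfl N22731 D74600
theorem N44415 : nd 44415 = n74601 := ndS (p := 22731) (l := 5) rfl N22731 D74601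
theorem N44416 : nd 44416 = n74616 := ndS (p := 22732) (l := 6) rfl N22732 D74616
theorem N44417 : nd 44417 = n74620 := ndS (p := 22733) (l := 4) rfl N22733 D74620
theorem N44418 : nd 44418 = n74630 := ndS (p := 22734) (l := 0) rfl N22734 D74630
theorem N44419 : nd 44419 = n74631 := ndS (p := 22734) (l := 1) rfl N22734 D74631
theorem N44420 : nd 44420 = n74632 := ndS (p := 22734) (l := 3) rfl N22734 D74632
theorem N44421 : nd 44421 = n74633 := ndS (p := 22734) (l := 5) rfl N22734 D74633
theorem N44422 : nd 44422 = n74634 := ndS (p := 22734) (l := 6) rfl N22734 D74634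
theorem N44423 : nd 44423 = n74652 := ndS (p := 22736) (l := 3) rfl N22736 D74652
theorem N44424 : nd 44424 = n74653 := ndS (p := 22736) (l := 5) rfl N22736 D74653
theorem N44425 : nd 44425 = n74671 := ndS (p := 22737) (l := 4) rfl N22737 D74671
theorem N44426 : nd 44426 = n74672 := ndS (p := 22737) (l := 6) rfl N22737 D74672
theorem N44427 : nd 44427 = n74675 := ndS (p := 22738) (l := 4) rfl N22738 D74675
theorem N44428 : nd 44428 = n74680 := ndS (p := 22739) (l := 4) rfl N22739 D74680
theorem N44429 : nd 44429 = n74683 := ndS (p := 22740) (l := 0) rfl N22740 D74683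
theorem N44430 : nd 44430 = n74684 := ndS (p := 22740) (l := 1) rfl N22740 D74684
theorem N44431 : nd 44431 = n74685 := ndS (p := 22740) (l := 5) rfl N22740 D74685
theorem N44432 : nd 44432 = n74686 := ndS (p := 22740) (l := 6) rfl N22740 D74686
theorem N44433 : nd 44433 = n74688 := ndS (p := 22741) (l := 1) rfl N22741 D74688
theorem N44434 : nd 44434 = n74690 := ndS (p := 22742) (l := 0) rfl N22742 D74690
theorem N44435 : nd 44435 = n74691 := ndS (p := 22742) (l := 1) rfl N22742 D74691
theorem N44436 : nd 44436 = n74702 := ndS (p := 22744) (l := 1) rfl N22744 D74702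
theorem N44437 : nd 44437 = n74703 := ndS (p := 22744) (l := 5) rfl N22744 D74703
theorem N44438 : nd 44438 = n74706 := ndS (p := 22745) (l := 3) rfl N22745 D74706
theorem N44439 : nd 44439 = n74714 := ndS (p := 22746) (l := 6) rfl N22746 D74714
theorem N44440 : nd 44440 = n74715 := ndS (p := 22749) (l := 3) rfl N22749 D74715
theorem N44441 : nd 44441 = n74716 := ndS (p := 22749) (l := 6) rfl N22749 D74716
theorem N44442 : nd 44442 = n74717 := ndS (p := 22750) (l := 3) rfl N22750 D74717
theorem N44443 : nd 44443 = n74718 := ndS (p := 22751) (l := 0) rfl N22751 D74718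
theorem N44444 : nd 44444 = n74719 := ndS (p := 22751) (l := 1) rfl N22751 D74719
theorem N44445 : nd 44445 = n74720 := ndS (p := 22751) (l := 2) rfl N22751 D74720
theorem N44446 : nd 44446 = n74721 := ndS (p := 22751) (l := 5) rfl N22751 D74721
theorem N44447 : nd 44447 = n74722 := ndS (p := 22751) (l := 6) rfl N22751 D74722
theorem N44448 : nd 44448 = n74723 := ndS (p := 22752) (l := 6) rfl N22752 D74723
theorem N44449 : nd 44449 = n74724 := ndS (p := 22753) (l := 0) rfl N22753 D74724
theorem N44450 : nd 44450 = n74725 := ndS (p := 22753) (l := 1) rfl N22753 D74725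
theorem N44451 : nd 44451 = n74726 := ndS (p := 22753) (l := 5) rfl N22753 D74726
theorem N44452 : nd 44452 = n74727 := ndS (p := 22753) (l := 7) rfl N22753 D74727
theorem N44453 : nd 44453 = n74728 := ndS (p := 22754) (l := 3) rfl N22754 D74728
theorem N44454 : nd 44454 = n74729 := ndS (p := 22754) (l := 4) rfl N22754 D74729
theorem N44455 : nd 44455 = n74730 := ndS (p := 22755) (l := 3) rfl N22755 D74730
theorem N44456 : nd 44456 = n74731 := ndS (p := 22755) (l := 4) rfl N22755 D74731
theorem N44457 : nd 44457 = n74732 := ndS (p := 22755) (l := 6) rfl N22755 D74732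
theorem N44458 : nd 44458 = n74735 := ndS (p := 22757) (l := 4) rfl N22757 D74735
theorem N44459 : nd 44459 = n74737 := ndS (p := 22757) (l := 6) rfl N22757 D74737
theorem N44460 : nd 44460 = n74739 := ndS (p := 22758) (l := 3) rfl N22758 D74739
theorem N44461 : nd 44461 = n74740 := ndS (p := 22758) (l := 4) rfl N22758 D74740
theorem N44462 : nd 44462 = n74750 := ndS (p := 22761) (l := 4) rfl N22761 D74750
theorem N44463 : nd 44463 = n74751 := ndS (p := 22762) (l := 1) rfl N22762 D74751
theorem N44464 : nd 44464 = n74752 := ndS (p := 22762) (l := 2) rfl N22762 D74752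
theorem N44465 : nd 44465 = n74753 := ndS (p := 22762) (l := 4) rfl N22762 D74753
theorem N44466 : nd 44466 = n74754 := ndS (p := 22762) (l := 6) rfl N22762 D74754
theorem N44467 : nd 44467 = n74763 := ndS (p := 22766) (l := 0) rfl N22766 D74763
theorem N44468 : nd 44468 = n74764 := ndS (p := 22766) (l := 1) rfl N22766 D74764
theorem N44469 : nd 44469 = n74765 := ndS (p := 22766) (l := 2) rfl N22766 D74765
theorem N44470 : nd 44470 = n74766 := ndS (p := 22766) (l := 5) rfl N22766 D74766
theorem N44471 : nd 44471 = n74767 := ndS (p := 22766) (l := 6) rfl N22766 D74767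
theorem N44472 : nd 44472 = n74768 := ndS (p := 22767) (l := 6) rfl N22767 D74768
theorem N44473 : nd 44473 = n74769 := ndS (p := 22768) (l := 0) rfl N22768 D74769
theorem N44474 : nd 44474 = n74770 := ndS (p := 22768) (l := 5) rfl N22768 D74770
theorem N44475 : nd 44475 = n74771 := ndS (p := 22768) (l := 7) rfl N22768 D74771
theorem N44476 : nd 44476 = n74774 := ndS (p := 22771) (l := 4) rfl N22771 D74774
theorem N44477 : nd 44477 = n74776 := ndS (p := 22771) (l := 6) rfl N22771 D74776
theorem N44478 : nd 44478 = n74782 := ndS (p := 22772) (l := 6) rfl N22772 D74782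
theorem N44479 : nd 44479 = n74783 := ndS (p := 22773) (l := 0) rfl N22773 D74783
theorem N44480 : nd 44480 = n74785 := ndS (p := 22773) (l := 5) rfl N22773 D74785
theorem N44481 : nd 44481 = n74786 := ndS (p := 22773) (l := 7) rfl N22773 D74786
theorem N44482 : nd 44482 = n74791 := ndS (p := 22776) (l := 0) rfl N22776 D74791
theorem N44483 : nd 44483 = n74792 := ndS (p := 22776) (l := 2) rfl N22776 D74792
theorem N44484 : nd 44484 = n74793 := ndS (p := 22776) (l := 4) rfl N22776 D74793
theorem N44485 : nd 44485 = n74795 := ndS (p := 22777) (l := 3) rfl N22777 D74795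
theorem N44486 : nd 44486 = n74797 := ndS (p := 22777) (l := 5) rfl N22777 D74797
theorem N44487 : nd 44487 = n74802 := ndS (p := 22778) (l := 5) rfl N22778 D74802
theorem N44488 : nd 44488 = n74804 := ndS (p := 22780) (l := 2) rfl N22780 D74804
theorem N44489 : nd 44489 = n74805 := ndS (p := 22782) (l := 5) rfl N22782 D74805
theorem N44490 : nd 44490 = n74828 := ndS (p := 22784) (l := 5) rfl N22784 D74828
theorem N44491 : nd 44491 = n74830 := ndS (p := 22785) (l := 6) rfl N22785 D74830
theorem N44492 : nd 44492 = n74831 := ndS (p := 22787) (l := 6) rfl N22787 D74831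
theorem N44493 : nd 44493 = n74832 := ndS (p := 22788) (l := 5) rfl N22788 D74832
theorem N44494 : nd 44494 = n74833 := ndS (p := 22789) (l := 4) rfl N22789 D74833
theorem N44495 : nd 44495 = n74834 := ndS (p := 22789) (l := 6) rfl N22789 D74834
theorem N44496 : nd 44496 = n74836 := ndS (p := 22790) (l := 6) rfl N22790 D74836
theorem N44497 : nd 44497 = n74838 := ndS (p := 22791) (l := 6) rfl N22791 D74838
theorem N44498 : nd 44498 = n74839 := ndS (p := 22792) (l := 5) rfl N22792 D74839
theorem N44499 : nd 44499 = n74850 := ndS (p := 22795) (l := 0) rfl N22795 D74850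
theorem N44500 : nd 44500 = n74851 := ndS (p := 22795) (l := 4) rfl N22795 D74851
theorem N44501 : nd 44501 = n74852 := ndS (p := 22795) (l := 6) rfl N22795 D74852
theorem N44502 : nd 44502 = n74853 := ndS (p := 22796) (l := 5) rfl N22796 D74853
theorem N44503 : nd 44503 = n74854 := ndS (p := 22797) (l := 0) rfl N22797 D74854
theorem N44504 : nd 44504 = n74855 := ndS (p := 22797) (l := 5) rfl N22797 D74855
theorem N44505 : nd 44505 = n74857 := ndS (p := 22798) (l := 0) rfl N22798 D74857
theorem N44506 : nd 44506 = n74858 := ndS (p := 22798) (l := 1) rfl N22798 D74858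
theorem N44507 : nd 44507 = n74859 := ndS (p := 22798) (l := 5) rfl N22798 D74859
theorem N44508 : nd 44508 = n74860 := ndS (p := 22798) (l := 7) rfl N22798 D74860
theorem N44509 : nd 44509 = n74861 := ndS (p := 22799) (l := 4) rfl N22799 D74861
theorem N44510 : nd 44510 = n74862 := ndS (p := 22800) (l := 3) rfl N22800 D74862
theorem N44511 : nd 44511 = n74865 := ndS (p := 22801) (l := 3) rfl N22801 D74865
theorem N44512 : nd 44512 = n74875 := ndS (p := 22806) (l := 6) rfl N22806 D74875
theorem N44513 : nd 44513 = n74876 := ndS (p := 22808) (l := 6) rfl N22808 D74876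
theorem N44514 : nd 44514 = n74877 := ndS (p := 22810) (l := 3) rfl N22810 D74877
theorem N44515 : nd 44515 = n74879 := ndS (p := 22810) (l := 6) rfl N22810 D74879
theorem N44516 : nd 44516 = n74881 := ndS (p := 22811) (l := 1) rfl N22811 D74881
theorem N44517 : nd 44517 = n74882 := ndS (p := 22811) (l := 5) rfl N22811 D74882
theorem N44518 : nd 44518 = n74883 := ndS (p := 22811) (l := 7) rfl N22811 D74883
theorem N44519 : nd 44519 = n74886 := ndS (p := 22815) (l := 6) rfl N22815 D74886
theorem N44520 : nd 44520 = n74887 := ndS (p := 22816) (l := 3) rfl N22816 D74887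
theorem N44521 : nd 44521 = n74890 := ndS (p := 22817) (l := 0) rfl N22817 D74890
theorem N44522 : nd 44522 = n74892 := ndS (p := 22817) (l := 7) rfl N22817 D74892
theorem N44523 : nd 44523 = n74893 := ndS (p := 22818) (l := 3) rfl N22818 D74893
theorem N44524 : nd 44524 = n74896 := ndS (p := 22819) (l := 0) rfl N22819 D74896
theorem N44525 : nd 44525 = n74897 := ndS (p := 22819) (l := 1) rfl N22819 D74897
theorem N44526 : nd 44526 = n74898 := ndS (p := 22819) (l := 2) rfl N22819 D74898
theorem N44527 : nd 44527 = n74899 := ndS (p := 22819) (l := 5) rfl N22819 D74899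
theorem N44528 : nd 44528 = n74904 := ndS (p := 22820) (l := 6) rfl N22820 D74904
theorem N44529 : nd 44529 = n74907 := ndS (p := 22821) (l := 1) rfl N22821 D74907
theorem N44530 : nd 44530 = n74908 := ndS (p := 22821) (l := 5) rfl N22821 D74908
theorem N44531 : nd 44531 = n74909 := ndS (p := 22821) (l := 7) rfl N22821 D74909
theorem N44532 : nd 44532 = n74910 := ndS (p := 22822) (l := 6) rfl N22822 D74910
theorem N44533 : nd 44533 = n74914 := ndS (p := 22824) (l := 3) rfl N22824 D74914
theorem N44534 : nd 44534 = n74917 := ndS (p := 22825) (l := 6) rfl N22825 D74917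
theorem N44535 : nd 44535 = n74918 := ndS (p := 22826) (l := 0) rfl N22826 D74918
theorem N44536 : nd 44536 = n74919 := ndS (p := 22826) (l := 1) rfl N22826 D74919
theorem N44537 : nd 44537 = n74928 := ndS (p := 22828) (l := 5) rfl N22828 D74928
theorem N44538 : nd 44538 = n74929 := ndS (p := 22828) (l := 6) rfl N22828 D74929
theorem N44539 : nd 44539 = n74932 := ndS (p := 22831) (l := 5) rfl N22831 D74932
theorem N44540 : nd 44540 = n74933 := ndS (p := 22831) (l := 6) rfl N22831 D74933
theorem N44541 : nd 44541 = n74935 := ndS (p := 22832) (l := 1) rfl N22832 D74935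
theorem N44542 : nd 44542 = n74940 := ndS (p := 22833) (l := 6) rfl N22833 D74940
theorem N44543 : nd 44543 = n74942 := ndS (p := 22834) (l := 3) rfl N22834 D74942
theorem N44544 : nd 44544 = n74946 := ndS (p := 22835) (l := 3) rfl N22835 D74946
theorem N44545 : nd 44545 = n74947 := ndS (p := 22835) (l := 4) rfl N22835 D74947
theorem N44546 : nd 44546 = n74952 := ndS (p := 22836) (l := 4) rfl N22836 D74952
theorem N44547 : nd 44547 = n74954 := ndS (p := 22836) (l := 6) rfl N22836 D74954
theorem N44548 : nd 44548 = n74956 := ndS (p := 22838) (l := 0) rfl N22838 D74956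
theorem N44549 : nd 44549 = n74958 := ndS (p := 22838) (l := 5) rfl N22838 D74958
theorem N44550 : nd 44550 = n74959 := ndS (p := 22838) (l := 7) rfl N22838 D74959
theorem N44551 : nd 44551 = n74967 := ndS (p := 22840) (l := 1) rfl N22840 D74967
theorem N44552 : nd 44552 = n74968 := ndS (p := 22840) (l := 4) rfl N22840 D74968
theorem N44553 : nd 44553 = n74989 := ndS (p := 22846) (l := 3) rfl N22846 D74989
theorem N44554 : nd 44554 = n74991 := ndS (p := 22846) (l := 5) rfl N22846 D74991
theorem N44555 : nd 44555 = n74996 := ndS (p := 22847) (l := 5) rfl N22847 D74996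
theorem N44556 : nd 44556 = n74998 := ndS (p := 22850) (l := 6) rfl N22850 D74998
theorem N44557 : nd 44557 = n75005 := ndS (p := 22851) (l := 5) rfl N22851 D75005
theorem N44558 : nd 44558 = n75006 := ndS (p := 22852) (l := 0) rfl N22852 D75006
theorem N44559 : nd 44559 = n75007 := ndS (p := 22852) (l := 1) rfl N22852 D75007
theorem N44560 : nd 44560 = n75013 := ndS (p := 22853) (l := 3) rfl N22853 D75013
theorem N44561 : nd 44561 = n75014 := ndS (p := 22853) (l := 6) rfl N22853 D75014
theorem N44562 : nd 44562 = n75015 := ndS (p := 22854) (l := 0) rfl N22854 D75015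
theorem N44563 : nd 44563 = n75016 := ndS (p := 22854) (l := 1) rfl N22854 D75016
theorem N44564 : nd 44564 = n75017 := ndS (p := 22854) (l := 5) rfl N22854 D75017
theorem N44565 : nd 44565 = n75018 := ndS (p := 22854) (l := 7) rfl N22854 D75018
theorem N44566 : nd 44566 = n75020 := ndS (p := 22855) (l := 3) rfl N22855 D75020
theorem N44567 : nd 44567 = n75021 := ndS (p := 22855) (l := 5) rfl N22855 D75021
theorem N44568 : nd 44568 = n75024 := ndS (p := 22856) (l := 3) rfl N22856 D75024
theorem N44569 : nd 44569 = n75026 := ndS (p := 22856) (l := 5) rfl N22856 D75026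
theorem N44570 : nd 44570 = n75027 := ndS (p := 22856) (l := 6) rfl N22856 D75027
theorem N44571 : nd 44571 = n75029 := ndS (p := 22857) (l := 1) rfl N22857 D75029
theorem N44572 : nd 44572 = n75030 := ndS (p := 22857) (l := 4) rfl N22857 D75030
theorem N44573 : nd 44573 = n75031 := ndS (p := 22857) (l := 7) rfl N22857 D75031
theorem N44574 : nd 44574 = n75041 := ndS (p := 22859) (l := 4) rfl N22859 D75041
theorem N44575 : nd 44575 = n75046 := ndS (p := 22860) (l := 3) rfl N22860 D75046
theorem N44576 : nd 44576 = n75047 := ndS (p := 22860) (l := 5) rfl N22860 D75047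
theorem N44577 : nd 44577 = n75059 := ndS (p := 22863) (l := 5) rfl N22863 D75059
theorem N44578 : nd 44578 = n75060 := ndS (p := 22863) (l := 6) rfl N22863 D75060
theorem N44579 : nd 44579 = n75061 := ndS (p := 22864) (l := 3) rfl N22864 D75061
theorem N44580 : nd 44580 = n75062 := ndS (p := 22864) (l := 5) rfl N22864 D75062
theorem N44581 : nd 44581 = n75063 := ndS (p := 22864) (l := 6) rfl N22864 D75063
theorem N44582 : nd 44582 = n75064 := ndS (p := 22865) (l := 4) rfl N22865 D75064
theorem N44583 : nd 44583 = n75065 := ndS (p := 22865) (l := 6) rfl N22865 D75065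
theorem N44584 : nd 44584 = n75068 := ndS (p := 22869) (l := 3) rfl N22869 D75068
theorem N44585 : nd 44585 = n75069 := ndS (p := 22869) (l := 5) rfl N22869 D75069
theorem N44586 : nd 44586 = n75114 := ndS (p := 22874) (l := 5) rfl N22874 D75114
theorem N44587 : nd 44587 = n75115 := ndS (p := 22874) (l := 6) rfl N22874 D75115
theorem N44588 : nd 44588 = n75116 := ndS (p := 22875) (l := 0) rfl N22875 D75116
theorem N44589 : nd 44589 = n75118 := ndS (p := 22875) (l := 4) rfl N22875 D75118
theorem N44590 : nd 44590 = n75119 := ndS (p := 22875) (l := 6) rfl N22875 D75119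
theorem N44591 : nd 44591 = n75124 := ndS (p := 22877) (l := 6) rfl N22877 D75124
theorem N44592 : nd 44592 = n75128 := ndS (p := 22882) (l := 0) rfl N22882 D75128
theorem N44593 : nd 44593 = n75129 := ndS (p := 22882) (l := 1) rfl N22882 D75129
theorem N44594 : nd 44594 = n75131 := ndS (p := 22883) (l := 5) rfl N22883 D75131
theorem N44595 : nd 44595 = n75132 := ndS (p := 22884) (l := 3) rfl N22884 D75132
theorem N44596 : nd 44596 = n75133 := ndS (p := 22884) (l := 6) rfl N22884 D75133
theorem N44597 : nd 44597 = n75134 := ndS (p := 22885) (l := 0) rfl N22885 D75134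
theorem N44598 : nd 44598 = n75135 := ndS (p := 22885) (l := 7) rfl N22885 D75135
theorem N44599 : nd 44599 = n75136 := ndS (p := 22886) (l := 0) rfl N22886 D75136
theorem N44600 : nd 44600 = n75137 := ndS (p := 22886) (l := 1) rfl N22886 D75137
theorem N44601 : nd 44601 = n75138 := ndS (p := 22886) (l := 2) rfl N22886 D75138
theorem N44602 : nd 44602 = n75139 := ndS (p := 22887) (l := 3) rfl N22887 D75139
theorem N44603 : nd 44603 = n75140 := ndS (p := 22887) (l := 6) rfl N22887 D75140
theorem N44604 : nd 44604 = n75141 := ndS (p := 22888) (l := 0) rfl N22888 D75141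
theorem N44605 : nd 44605 = n75142 := ndS (p := 22888) (l := 1) rfl N22888 D75142
theorem N44606 : nd 44606 = n75143 := ndS (p := 22888) (l := 7) rfl N22888 D75143
theorem N44607 : nd 44607 = n75147 := ndS (p := 22889) (l := 5) rfl N22889 D75147
theorem N44608 : nd 44608 = n75148 := ndS (p := 22889) (l := 6) rfl N22889 D75148
theorem N44609 : nd 44609 = n75150 := ndS (p := 22890) (l := 3) rfl N22890 D75150
theorem N44610 : nd 44610 = n75152 := ndS (p := 22890) (l := 5) rfl N22890 D75152
theorem N44611 : nd 44611 = n75153 := ndS (p := 22890) (l := 6) rfl N22890 D75153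
theorem N44612 : nd 44612 = n75154 := ndS (p := 22891) (l := 0) rfl N22891 D75154
theorem N44613 : nd 44613 = n75155 := ndS (p := 22891) (l := 1) rfl N22891 D75155
theorem N44614 : nd 44614 = n75156 := ndS (p := 22891) (l := 4) rfl N22891 D75156
theorem N44615 : nd 44615 = n75157 := ndS (p := 22891) (l := 7) rfl N22891 D75157
theorem N44616 : nd 44616 = n75158 := ndS (p := 22893) (l := 6) rfl N22893 D75158
theorem N44617 : nd 44617 = n75159 := ndS (p := 22894) (l := 3) rfl N22894 D75159
theorem N44618 : nd 44618 = n75160 := ndS (p := 22895) (l := 6) rfl N22895 D75160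
theorem N44619 : nd 44619 = n75162 := ndS (p := 22896) (l := 5) rfl N22896 D75162
theorem N44620 : nd 44620 = n75163 := ndS (p := 22897) (l := 3) rfl N22897 D75163
theorem N44621 : nd 44621 = n75167 := ndS (p := 22898) (l := 6) rfl N22898 D75167
theorem N44622 : nd 44622 = n75171 := ndS (p := 22900) (l := 4) rfl N22900 D75171
theorem N44623 : nd 44623 = n75172 := ndS (p := 22900) (l := 6) rfl N22900 D75172
theorem N44624 : nd 44624 = n75173 := ndS (p := 22901) (l := 3) rfl N22901 D75173
theorem N44625 : nd 44625 = n75174 := ndS (p := 22901) (l := 5) rfl N22901 D75174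
theorem N44626 : nd 44626 = n75175 := ndS (p := 22901) (l := 6) rfl N22901 D75175
theorem N44627 : nd 44627 = n75177 := ndS (p := 22902) (l := 1) rfl N22902 D75177
theorem N44628 : nd 44628 = n75179 := ndS (p := 22903) (l := 3) rfl N22903 D75179
theorem N44629 : nd 44629 = n75180 := ndS (p := 22903) (l := 6) rfl N22903 D75180
theorem N44630 : nd 44630 = n75181 := ndS (p := 22904) (l := 0) rfl N22904 D75181
theorem N44631 : nd 44631 = n75182 := ndS (p := 22904) (l := 1) rfl N22904 D75182
theorem N44632 : nd 44632 = n75183 := ndS (p := 22904) (l := 2) rfl N22904 D75183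
theorem N44633 : nd 44633 = n75184 := ndS (p := 22904) (l := 5) rfl N22904 D75184
theorem N44634 : nd 44634 = n75185 := ndS (p := 22905) (l := 0) rfl N22905 D75185
theorem N44635 : nd 44635 = n75186 := ndS (p := 22905) (l := 1) rfl N22905 D75186
theorem N44636 : nd 44636 = n75187 := ndS (p := 22905) (l := 6) rfl N22905 D75187
theorem N44637 : nd 44637 = n75189 := ndS (p := 22906) (l := 3) rfl N22906 D75189
theorem N44638 : nd 44638 = n75190 := ndS (p := 22906) (l := 4) rfl N22906 D75190
theorem N44639 : nd 44639 = n75192 := ndS (p := 22906) (l := 6) rfl N22906 D75192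
theorem N44640 : nd 44640 = n75194 := ndS (p := 22907) (l := 3) rfl N22907 D75194
theorem N44641 : nd 44641 = n75195 := ndS (p := 22907) (l := 4) rfl N22907 D75195
theorem N44642 : nd 44642 = n75197 := ndS (p := 22907) (l := 6) rfl N22907 D75197
theorem N44643 : nd 44643 = n75198 := ndS (p := 22909) (l := 0) rfl N22909 D75198
theorem N44644 : nd 44644 = n75200 := ndS (p := 22909) (l := 7) rfl N22909 D75200
theorem N44645 : nd 44645 = n75201 := ndS (p := 22910) (l := 4) rfl N22910 D75201
theorem N44646 : nd 44646 = n75202 := ndS (p := 22911) (l := 3) rfl N22911 D75202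
theorem N44647 : nd 44647 = n75203 := ndS (p := 22911) (l := 5) rfl N22911 D75203
theorem N44648 : nd 44648 = n75204 := ndS (p := 22912) (l := 3) rfl N22912 D75204
theorem N44649 : nd 44649 = n75205 := ndS (p := 22912) (l := 5) rfl N22912 D75205
theorem N44650 : nd 44650 = n75206 := ndS (p := 22914) (l := 3) rfl N22914 D75206
theorem N44651 : nd 44651 = n75207 := ndS (p := 22914) (l := 5) rfl N22914 D75207
theorem N44652 : nd 44652 = n75208 := ndS (p := 22915) (l := 0) rfl N22915 D75208
theorem N44653 : nd 44653 = n75209 := ndS (p := 22915) (l := 3) rfl N22915 D75209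
theorem N44654 : nd 44654 = n75210 := ndS (p := 22915) (l := 5) rfl N22915 D75210
theorem N44655 : nd 44655 = n75211 := ndS (p := 22915) (l := 6) rfl N22915 D75211
theorem N44656 : nd 44656 = n75212 := ndS (p := 22916) (l := 0) rfl N22916 D75212
theorem N44657 : nd 44657 = n75215 := ndS (p := 22917) (l := 4) rfl N22917 D75215
theorem N44658 : nd 44658 = n75217 := ndS (p := 22918) (l := 3) rfl N22918 D75217
theorem N44659 : nd 44659 = n75218 := ndS (p := 22918) (l := 5) rfl N22918 D75218
theorem N44660 : nd 44660 = n75223 := ndS (p := 22919) (l := 3) rfl N22919 D75223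
theorem N44661 : nd 44661 = n75224 := ndS (p := 22919) (l := 5) rfl N22919 D75224
theorem N44662 : nd 44662 = n75225 := ndS (p := 22919) (l := 6) rfl N22919 D75225
theorem N44663 : nd 44663 = n75227 := ndS (p := 22920) (l := 5) rfl N22920 D75227
theorem N44664 : nd 44664 = n75229 := ndS (p := 22921) (l := 0) rfl N22921 D75229
theorem N44665 : nd 44665 = n75230 := ndS (p := 22921) (l := 1) rfl N22921 D75230
theorem N44666 : nd 44666 = n75231 := ndS (p := 22921) (l := 2) rfl N22921 D75231
theorem N44667 : nd 44667 = n75232 := ndS (p := 22921) (l := 5) rfl N22921 D75232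
theorem N44668 : nd 44668 = n75233 := ndS (p := 22922) (l := 0) rfl N22922 D75233
theorem N44669 : nd 44669 = n75235 := ndS (p := 22922) (l := 4) rfl N22922 D75235
theorem N44670 : nd 44670 = n75236 := ndS (p := 22922) (l := 6) rfl N22922 D75236
theorem N44671 : nd 44671 = n75239 := ndS (p := 22923) (l := 4) rfl N22923 D75239
theorem N44672 : nd 44672 = n75241 := ndS (p := 22923) (l := 6) rfl N22923 D75241
theorem N44673 : nd 44673 = n75243 := ndS (p := 22924) (l := 3) rfl N22924 D75243
theorem N44674 : nd 44674 = n75244 := ndS (p := 22924) (l := 4) rfl N22924 D75244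
theorem N44675 : nd 44675 = n75246 := ndS (p := 22924) (l := 6) rfl N22924 D75246
theorem N44676 : nd 44676 = n75247 := ndS (p := 22926) (l := 0) rfl N22926 D75247
theorem N44677 : nd 44677 = n75248 := ndS (p := 22926) (l := 1) rfl N22926 D75248
theorem N44678 : nd 44678 = n75249 := ndS (p := 22926) (l := 6) rfl N22926 D75249
theorem N44679 : nd 44679 = n75251 := ndS (p := 22927) (l := 1) rfl N22927 D75251
theorem N44680 : nd 44680 = n75252 := ndS (p := 22927) (l := 5) rfl N22927 D75252
theorem N44681 : nd 44681 = n75253 := ndS (p := 22927) (l := 7) rfl N22927 D75253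
theorem N44682 : nd 44682 = n75260 := ndS (p := 22929) (l := 5) rfl N22929 D75260
theorem N44683 : nd 44683 = n75263 := ndS (p := 22930) (l := 4) rfl N22930 D75263
theorem N44684 : nd 44684 = n75265 := ndS (p := 22932) (l := 3) rfl N22932 D75265
theorem N44685 : nd 44685 = n75273 := ndS (p := 22935) (l := 4) rfl N22935 D75273
theorem N44686 : nd 44686 = n75275 := ndS (p := 22936) (l := 4) rfl N22936 D75275
theorem N44687 : nd 44687 = n75277 := ndS (p := 22937) (l := 3) rfl N22937 D75277
theorem N44688 : nd 44688 = n75278 := ndS (p := 22937) (l := 5) rfl N22937 D75278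
theorem N44689 : nd 44689 = n75280 := ndS (p := 22939) (l := 3) rfl N22939 D75280
theorem N44690 : nd 44690 = n75284 := ndS (p := 22940) (l := 3) rfl N22940 D75284
theorem N44691 : nd 44691 = n75285 := ndS (p := 22940) (l := 5) rfl N22940 D75285
theorem N44692 : nd 44692 = n75286 := ndS (p := 22941) (l := 0) rfl N22941 D75286
theorem N44693 : nd 44693 = n75287 := ndS (p := 22941) (l := 1) rfl N22941 D75287
theorem N44694 : nd 44694 = n75288 := ndS (p := 22941) (l := 2) rfl N22941 D75288
theorem N44695 : nd 44695 = n75289 := ndS (p := 22941) (l := 5) rfl N22941 D75289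
theorem N44696 : nd 44696 = n75290 := ndS (p := 22941) (l := 7) rfl N22941 D75290
theorem N44697 : nd 44697 = n75291 := ndS (p := 22942) (l := 0) rfl N22942 D75291
theorem N44698 : nd 44698 = n75292 := ndS (p := 22942) (l := 1) rfl N22942 D75292
theorem N44699 : nd 44699 = n75293 := ndS (p := 22942) (l := 6) rfl N22942 D75293
theorem N44700 : nd 44700 = n75301 := ndS (p := 22944) (l := 3) rfl N22944 D75301
theorem N44701 : nd 44701 = n75302 := ndS (p := 22944) (l := 6) rfl N22944 D75302
theorem N44702 : nd 44702 = n75303 := ndS (p := 22945) (l := 3) rfl N22945 D75303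
theorem N44703 : nd 44703 = n75305 := ndS (p := 22946) (l := 0) rfl N22946 D75305
theorem N44704 : nd 44704 = n75306 := ndS (p := 22946) (l := 1) rfl N22946 D75306
theorem N44705 : nd 44705 = n75307 := ndS (p := 22946) (l := 2) rfl N22946 D75307
theorem N44706 : nd 44706 = n75308 := ndS (p := 22946) (l := 5) rfl N22946 D75308
theorem N44707 : nd 44707 = n75309 := ndS (p := 22947) (l := 0) rfl N22947 D75309
theorem N44708 : nd 44708 = n75310 := ndS (p := 22947) (l := 1) rfl N22947 D75310
theorem N44709 : nd 44709 = n75311 := ndS (p := 22947) (l := 6) rfl N22947 D75311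
theorem N44710 : nd 44710 = n75313 := ndS (p := 22948) (l := 3) rfl N22948 D75313
theorem N44711 : nd 44711 = n75314 := ndS (p := 22948) (l := 4) rfl N22948 D75314
theorem N44712 : nd 44712 = n75315 := ndS (p := 22948) (l := 6) rfl N22948 D75315
theorem N44713 : nd 44713 = n75317 := ndS (p := 22949) (l := 3) rfl N22949 D75317
theorem N44714 : nd 44714 = n75318 := ndS (p := 22949) (l := 4) rfl N22949 D75318
theorem N44715 : nd 44715 = n75319 := ndS (p := 22949) (l := 6) rfl N22949 D75319
theorem N44716 : nd 44716 = n75320 := ndS (p := 22950) (l := 5) rfl N22950 D75320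
theorem N44717 : nd 44717 = n75321 := ndS (p := 22950) (l := 6) rfl N22950 D75321
theorem N44718 : nd 44718 = n75323 := ndS (p := 22951) (l := 6) rfl N22951 D75323
theorem N44719 : nd 44719 = n75324 := ndS (p := 22952) (l := 0) rfl N22952 D75324
theorem N44720 : nd 44720 = n75327 := ndS (p := 22952) (l := 7) rfl N22952 D75327
theorem N44721 : nd 44721 = n75329 := ndS (p := 22953) (l := 1) rfl N22953 D75329
theorem N44722 : nd 44722 = n75331 := ndS (p := 22953) (l := 7) rfl N22953 D75331
theorem N44723 : nd 44723 = n75352 := ndS (p := 22956) (l := 6) rfl N22956 D75352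
theorem N44724 : nd 44724 = n75354 := ndS (p := 22957) (l := 3) rfl N22957 D75354
theorem N44725 : nd 44725 = n75355 := ndS (p := 22957) (l := 5) rfl N22957 D75355
theorem N44726 : nd 44726 = n75356 := ndS (p := 22957) (l := 6) rfl N22957 D75356
theorem N44727 : nd 44727 = n75360 := ndS (p := 22959) (l := 1) rfl N22959 D75360
theorem N44728 : nd 44728 = n75361 := ndS (p := 22959) (l := 7) rfl N22959 D75361
theorem N44729 : nd 44729 = n75368 := ndS (p := 22961) (l := 5) rfl N22961 D75368
theorem N44730 : nd 44730 = n75369 := ndS (p := 22961) (l := 6) rfl N22961 D75369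
theorem N44731 : nd 44731 = n75377 := ndS (p := 22963) (l := 0) rfl N22963 D75377
theorem N44732 : nd 44732 = n75378 := ndS (p := 22963) (l := 1) rfl N22963 D75378
theorem N44733 : nd 44733 = n75380 := ndS (p := 22964) (l := 6) rfl N22964 D75380
theorem N44734 : nd 44734 = n75458 := ndS (p := 22967) (l := 0) rfl N22967 D75458
theorem N44735 : nd 44735 = n75459 := ndS (p := 22967) (l := 1) rfl N22967 D75459
theorem N44736 : nd 44736 = n75460 := ndS (p := 22967) (l := 2) rfl N22967 D75460
theorem N44737 : nd 44737 = n75478 := ndS (p := 22969) (l := 6) rfl N22969 D75478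
theorem N44738 : nd 44738 = n75479 := ndS (p := 22970) (l := 6) rfl N22970 D75479
theorem N44739 : nd 44739 = n75480 := ndS (p := 22971) (l := 6) rfl N22971 D75480
theorem N44740 : nd 44740 = n75481 := ndS (p := 22972) (l := 6) rfl N22972 D75481
theorem N44741 : nd 44741 = n75482 := ndS (p := 22973) (l := 0) rfl N22973 D75482
theorem N44742 : nd 44742 = n75483 := ndS (p := 22973) (l := 1) rfl N22973 D75483
theorem N44743 : nd 44743 = n75484 := ndS (p := 22973) (l := 5) rfl N22973 D75484
theorem N44744 : nd 44744 = n75485 := ndS (p := 22973) (l := 7) rfl N22973 D75485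
theorem N44745 : nd 44745 = n75488 := ndS (p := 22974) (l := 5) rfl N22974 D75488
theorem N44746 : nd 44746 = n75489 := ndS (p := 22974) (l := 7) rfl N22974 D75489
theorem N44747 : nd 44747 = n75500 := ndS (p := 22975) (l := 0) rfl N22975 D75500
theorem N44748 : nd 44748 = n75501 := ndS (p := 22975) (l := 1) rfl N22975 D75501
theorem N44749 : nd 44749 = n75502 := ndS (p := 22975) (l := 4) rfl N22975 D75502
theorem N44750 : nd 44750 = n75503 := ndS (p := 22975) (l := 7) rfl N22975 D75503
theorem N44751 : nd 44751 = n75519 := ndS (p := 22977) (l := 3) rfl N22977 D75519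
theorem N44752 : nd 44752 = n75520 := ndS (p := 22977) (l := 5) rfl N22977 D75520
theorem N44753 : nd 44753 = n75521 := ndS (p := 22977) (l := 6) rfl N22977 D75521
theorem N44754 : nd 44754 = n75522 := ndS (p := 22979) (l := 3) rfl N22979 D75522
theorem N44755 : nd 44755 = n75523 := ndS (p := 22979) (l := 4) rfl N22979 D75523
theorem N44756 : nd 44756 = n75525 := ndS (p := 22980) (l := 3) rfl N22980 D75525
theorem N44757 : nd 44757 = n75526 := ndS (p := 22980) (l := 4) rfl N22980 D75526
theorem N44758 : nd 44758 = n75528 := ndS (p := 22981) (l := 6) rfl N22981 D75528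
theorem N44759 : nd 44759 = n75532 := ndS (p := 22984) (l := 1) rfl N22984 D75532
theorem N44760 : nd 44760 = n75535 := ndS (p := 22985) (l := 0) rfl N22985 D75535
theorem N44761 : nd 44761 = n75536 := ndS (p := 22985) (l := 1) rfl N22985 D75536
theorem N44762 : nd 44762 = n75537 := ndS (p := 22985) (l := 5) rfl N22985 D75537
theorem N44763 : nd 44763 = n75538 := ndS (p := 22985) (l := 7) rfl N22985 D75538
theorem N44764 : nd 44764 = n75550 := ndS (p := 22986) (l := 1) rfl N22986 D75550
theorem N44765 : nd 44765 = n75555 := ndS (p := 22987) (l := 0) rfl N22987 D75555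
theorem N44766 : nd 44766 = n75556 := ndS (p := 22987) (l := 1) rfl N22987 D75556
theorem N44767 : nd 44767 = n75559 := ndS (p := 22988) (l := 0) rfl N22988 D75559
theorem N44768 : nd 44768 = n75560 := ndS (p := 22988) (l := 1) rfl N22988 D75560
theorem N44769 : nd 44769 = n75561 := ndS (p := 22988) (l := 5) rfl N22988 D75561
theorem N44770 : nd 44770 = n75562 := ndS (p := 22988) (l := 7) rfl N22988 D75562
theorem N44771 : nd 44771 = n75573 := ndS (p := 22989) (l := 0) rfl N22989 D75573
theorem N44772 : nd 44772 = n75575 := ndS (p := 22989) (l := 4) rfl N22989 D75575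
theorem N44773 : nd 44773 = n75582 := ndS (p := 22992) (l := 5) rfl N22992 D75582
theorem N44774 : nd 44774 = n75584 := ndS (p := 22993) (l := 0) rfl N22993 D75584
theorem N44775 : nd 44775 = n75585 := ndS (p := 22993) (l := 6) rfl N22993 D75585
theorem N44776 : nd 44776 = n75588 := ndS (p := 22994) (l := 5) rfl N22994 D75588
theorem N44777 : nd 44777 = n75590 := ndS (p := 22995) (l := 6) rfl N22995 D75590
theorem N44778 : nd 44778 = n75591 := ndS (p := 22996) (l := 0) rfl N22996 D75591
theorem N44779 : nd 44779 = n75593 := ndS (p := 22996) (l := 5) rfl N22996 D75593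
theorem N44780 : nd 44780 = n75594 := ndS (p := 22996) (l := 7) rfl N22996 D75594
theorem N44781 : nd 44781 = n75595 := ndS (p := 22997) (l := 6) rfl N22997 D75595
theorem N44782 : nd 44782 = n75596 := ndS (p := 22998) (l := 0) rfl N22998 D75596
theorem N44783 : nd 44783 = n75597 := ndS (p := 22998) (l := 1) rfl N22998 D75597
theorem N44784 : nd 44784 = n75598 := ndS (p := 22998) (l := 5) rfl N22998 D75598
theorem N44785 : nd 44785 = n75599 := ndS (p := 22998) (l := 7) rfl N22998 D75599
theorem N44786 : nd 44786 = n75603 := ndS (p := 22999) (l := 5) rfl N22999 D75603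
theorem N44787 : nd 44787 = n75604 := ndS (p := 22999) (l := 6) rfl N22999 D75604
theorem N44788 : nd 44788 = n75606 := ndS (p := 23000) (l := 3) rfl N23000 D75606
theorem N44789 : nd 44789 = n75608 := ndS (p := 23000) (l := 5) rfl N23000 D75608
theorem N44790 : nd 44790 = n75609 := ndS (p := 23000) (l := 6) rfl N23000 D75609
theorem N44791 : nd 44791 = n75611 := ndS (p := 23001) (l := 1) rfl N23001 D75611
theorem N44792 : nd 44792 = n75617 := ndS (p := 23003) (l := 5) rfl N23003 D75617
theorem N44793 : nd 44793 = n75618 := ndS (p := 23003) (l := 6) rfl N23003 D75618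
theorem N44794 : nd 44794 = n75622 := ndS (p := 23004) (l := 5) rfl N23004 D75622
theorem N44795 : nd 44795 = n75623 := ndS (p := 23004) (l := 6) rfl N23004 D75623
theorem N44796 : nd 44796 = n75624 := ndS (p := 23005) (l := 0) rfl N23005 D75624
theorem N44797 : nd 44797 = n75626 := ndS (p := 23005) (l := 4) rfl N23005 D75626
theorem N44798 : nd 44798 = n75641 := ndS (p := 23008) (l := 4) rfl N23008 D75641
theorem N44799 : nd 44799 = n75643 := ndS (p := 23008) (l := 6) rfl N23008 D75643
theorem N44800 : nd 44800 = n75646 := ndS (p := 23009) (l := 6) rfl N23009 D75646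
theorem N44801 : nd 44801 = n75654 := ndS (p := 23010) (l := 1) rfl N23010 D75654
theorem N44802 : nd 44802 = n75655 := ndS (p := 23010) (l := 5) rfl N23010 D75655
theorem N44803 : nd 44803 = n75656 := ndS (p := 23010) (l := 7) rfl N23010 D75656
theorem N44804 : nd 44804 = n75668 := ndS (p := 23012) (l := 0) rfl N23012 D75668
theorem N44805 : nd 44805 = n75670 := ndS (p := 23012) (l := 5) rfl N23012 D75670
theorem N44806 : nd 44806 = n75679 := ndS (p := 23013) (l := 1) rfl N23013 D75679
theorem N44807 : nd 44807 = n75684 := ndS (p := 23014) (l := 5) rfl N23014 D75684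
theorem N44808 : nd 44808 = n75686 := ndS (p := 23015) (l := 3) rfl N23015 D75686
theorem N44809 : nd 44809 = n75687 := ndS (p := 23015) (l := 5) rfl N23015 D75687
theorem N44810 : nd 44810 = n75688 := ndS (p := 23015) (l := 6) rfl N23015 D75688
theorem N44811 : nd 44811 = n75691 := ndS (p := 23016) (l := 5) rfl N23016 D75691
theorem N44812 : nd 44812 = n75692 := ndS (p := 23016) (l := 6) rfl N23016 D75692
theorem N44813 : nd 44813 = n75695 := ndS (p := 23017) (l := 4) rfl N23017 D75695
theorem N44814 : nd 44814 = n75696 := ndS (p := 23018) (l := 4) rfl N23018 D75696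
theorem N44815 : nd 44815 = n75703 := ndS (p := 23019) (l := 5) rfl N23019 D75703
theorem N44816 : nd 44816 = n75704 := ndS (p := 23019) (l := 6) rfl N23019 D75704
theorem N44817 : nd 44817 = n75713 := ndS (p := 23021) (l := 3) rfl N23021 D75713
theorem N44818 : nd 44818 = n75720 := ndS (p := 23022) (l := 0) rfl N23022 D75720
theorem N44819 : nd 44819 = n75722 := ndS (p := 23022) (l := 4) rfl N23022 D75722
theorem N44820 : nd 44820 = n75725 := ndS (p := 23023) (l := 1) rfl N23023 D75725
theorem N44821 : nd 44821 = n75727 := ndS (p := 23023) (l := 7) rfl N23023 D75727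
theorem N44822 : nd 44822 = n75744 := ndS (p := 23029) (l := 5) rfl N23029 D75744
theorem N44823 : nd 44823 = n75754 := ndS (p := 23031) (l := 1) rfl N23031 D75754
theorem N44824 : nd 44824 = n75756 := ndS (p := 23031) (l := 5) rfl N23031 D75756
theorem N44825 : nd 44825 = n75757 := ndS (p := 23031) (l := 6) rfl N23031 D75757
theorem N44826 : nd 44826 = n75758 := ndS (p := 23032) (l := 4) rfl N23032 D75758
theorem N44827 : nd 44827 = n75759 := ndS (p := 23032) (l := 6) rfl N23032 D75759
theorem N44828 : nd 44828 = n75760 := ndS (p := 23033) (l := 0) rfl N23033 D75760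
theorem N44829 : nd 44829 = n75762 := ndS (p := 23033) (l := 5) rfl N23033 D75762
theorem N44830 : nd 44830 = n75763 := ndS (p := 23033) (l := 7) rfl N23033 D75763
theorem N44831 : nd 44831 = n75764 := ndS (p := 23034) (l := 3) rfl N23034 D75764
theorem N44832 : nd 44832 = n75765 := ndS (p := 23034) (l := 5) rfl N23034 D75765
theorem N44833 : nd 44833 = n75768 := ndS (p := 23036) (l := 4) rfl N23036 D75768
theorem N44834 : nd 44834 = n75770 := ndS (p := 23038) (l := 4) rfl N23038 D75770
theorem N44835 : nd 44835 = n75776 := ndS (p := 23039) (l := 5) rfl N23039 D75776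
theorem N44836 : nd 44836 = n75779 := ndS (p := 23040) (l := 4) rfl N23040 D75779
theorem N44837 : nd 44837 = n75784 := ndS (p := 23041) (l := 6) rfl N23041 D75784
theorem N44838 : nd 44838 = n75785 := ndS (p := 23042) (l := 3) rfl N23042 D75785
theorem N44839 : nd 44839 = n75786 := ndS (p := 23042) (l := 5) rfl N23042 D75786
theorem N44840 : nd 44840 = n75787 := ndS (p := 23042) (l := 6) rfl N23042 D75787
theorem N44841 : nd 44841 = n75788 := ndS (p := 23043) (l := 4) rfl N23043 D75788
theorem N44842 : nd 44842 = n75789 := ndS (p := 23043) (l := 6) rfl N23043 D75789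
theorem N44843 : nd 44843 = n75799 := ndS (p := 23045) (l := 0) rfl N23045 D75799
theorem N44844 : nd 44844 = n75800 := ndS (p := 23045) (l := 1) rfl N23045 D75800
theorem N44845 : nd 44845 = n75801 := ndS (p := 23045) (l := 3) rfl N23045 D75801
theorem N44846 : nd 44846 = n75802 := ndS (p := 23045) (l := 5) rfl N23045 D75802
theorem N44847 : nd 44847 = n75804 := ndS (p := 23047) (l := 3) rfl N23047 D75804
theorem N44848 : nd 44848 = n75805 := ndS (p := 23047) (l := 5) rfl N23047 D75805
theorem N44849 : nd 44849 = n75810 := ndS (p := 23048) (l := 3) rfl N23048 D75810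
theorem N44850 : nd 44850 = n75813 := ndS (p := 23049) (l := 3) rfl N23049 D75813
theorem N44851 : nd 44851 = n75815 := ndS (p := 23049) (l := 6) rfl N23049 D75815
theorem N44852 : nd 44852 = n75816 := ndS (p := 23050) (l := 0) rfl N23050 D75816
theorem N44853 : nd 44853 = n75817 := ndS (p := 23050) (l := 1) rfl N23050 D75817
theorem N44854 : nd 44854 = n75818 := ndS (p := 23050) (l := 2) rfl N23050 D75818
theorem N44855 : nd 44855 = n75819 := ndS (p := 23050) (l := 5) rfl N23050 D75819
theorem N44856 : nd 44856 = n75820 := ndS (p := 23051) (l := 6) rfl N23051 D75820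
theorem N44857 : nd 44857 = n75824 := ndS (p := 23052) (l := 5) rfl N23052 D75824
theorem N44858 : nd 44858 = n75828 := ndS (p := 23053) (l := 5) rfl N23053 D75828
theorem N44859 : nd 44859 = n75849 := ndS (p := 23055) (l := 0) rfl N23055 D75849
theorem N44860 : nd 44860 = n75850 := ndS (p := 23055) (l := 1) rfl N23055 D75850
theorem N44861 : nd 44861 = n75851 := ndS (p := 23055) (l := 4) rfl N23055 D75851
theorem N44862 : nd 44862 = n75852 := ndS (p := 23055) (l := 6) rfl N23055 D75852
theorem N44863 : nd 44863 = n75866 := ndS (p := 23058) (l := 6) rfl N23058 D75866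
theorem N44864 : nd 44864 = n75867 := ndS (p := 23059) (l := 4) rfl N23059 D75867
theorem N44865 : nd 44865 = n75872 := ndS (p := 23061) (l := 4) rfl N23061 D75872
theorem N44866 : nd 44866 = n75874 := ndS (p := 23061) (l := 6) rfl N23061 D75874
theorem N44867 : nd 44867 = n75877 := ndS (p := 23062) (l := 4) rfl N23062 D75877
theorem N44868 : nd 44868 = n75879 := ndS (p := 23063) (l := 0) rfl N23063 D75879
theorem N44869 : nd 44869 = n75880 := ndS (p := 23063) (l := 1) rfl N23063 D75880
theorem N44870 : nd 44870 = n75881 := ndS (p := 23063) (l := 3) rfl N23063 D75881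
theorem N44871 : nd 44871 = n75882 := ndS (p := 23063) (l := 5) rfl N23063 D75882
theorem N44872 : nd 44872 = n75883 := ndS (p := 23063) (l := 7) rfl N23063 D75883
theorem N44873 : nd 44873 = n75898 := ndS (p := 23065) (l := 5) rfl N23065 D75898
theorem N44874 : nd 44874 = n75899 := ndS (p := 23066) (l := 0) rfl N23066 D75899
theorem N44875 : nd 44875 = n75900 := ndS (p := 23066) (l := 1) rfl N23066 D75900
theorem N44876 : nd 44876 = n75901 := ndS (p := 23066) (l := 4) rfl N23066 D75901
theorem N44877 : nd 44877 = n75903 := ndS (p := 23067) (l := 4) rfl N23067 D75903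
theorem N44878 : nd 44878 = n75904 := ndS (p := 23068) (l := 0) rfl N23068 D75904
theorem N44879 : nd 44879 = n75905 := ndS (p := 23068) (l := 1) rfl N23068 D75905
theorem N44880 : nd 44880 = n75906 := ndS (p := 23068) (l := 3) rfl N23068 D75906
theorem N44881 : nd 44881 = n75926 := ndS (p := 23069) (l := 4) rfl N23069 D75926
theorem N44882 : nd 44882 = n75927 := ndS (p := 23069) (l := 6) rfl N23069 D75927
theorem N44883 : nd 44883 = n75930 := ndS (p := 23070) (l := 3) rfl N23070 D75930
theorem N44884 : nd 44884 = n75933 := ndS (p := 23071) (l := 7) rfl N23071 D75933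
theorem N44885 : nd 44885 = n75937 := ndS (p := 23072) (l := 4) rfl N23072 D75937
theorem N44886 : nd 44886 = n75938 := ndS (p := 23072) (l := 6) rfl N23072 D75938
theorem N44887 : nd 44887 = n75939 := ndS (p := 23073) (l := 3) rfl N23073 D75939
theorem N44888 : nd 44888 = n75940 := ndS (p := 23073) (l := 6) rfl N23073 D75940
theorem N44889 : nd 44889 = n75941 := ndS (p := 23074) (l := 1) rfl N23074 D75941
theorem N44890 : nd 44890 = n75947 := ndS (p := 23076) (l := 3) rfl N23076 D75947
theorem N44891 : nd 44891 = n75948 := ndS (p := 23076) (l := 6) rfl N23076 D75948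
theorem N44892 : nd 44892 = n75949 := ndS (p := 23077) (l := 0) rfl N23077 D75949
theorem N44893 : nd 44893 = n75950 := ndS (p := 23077) (l := 1) rfl N23077 D75950
theorem N44894 : nd 44894 = n75951 := ndS (p := 23077) (l := 7) rfl N23077 D75951
theorem N44895 : nd 44895 = n75952 := ndS (p := 23078) (l := 3) rfl N23078 D75952
theorem N44896 : nd 44896 = n75953 := ndS (p := 23078) (l := 6) rfl N23078 D75953
theorem N44897 : nd 44897 = n75955 := ndS (p := 23079) (l := 6) rfl N23079 D75955
theorem N44898 : nd 44898 = n75956 := ndS (p := 23080) (l := 0) rfl N23080 D75956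
theorem N44899 : nd 44899 = n75957 := ndS (p := 23080) (l := 1) rfl N23080 D75957
theorem N44900 : nd 44900 = n75958 := ndS (p := 23080) (l := 2) rfl N23080 D75958
theorem N44901 : nd 44901 = n75961 := ndS (p := 23082) (l := 3) rfl N23082 D75961
theorem N44902 : nd 44902 = n75982 := ndS (p := 23083) (l := 1) rfl N23083 D75982
theorem N44903 : nd 44903 = n75983 := ndS (p := 23083) (l := 7) rfl N23083 D75983
theorem N44904 : nd 44904 = n75984 := ndS (p := 23084) (l := 3) rfl N23084 D75984
theorem N44905 : nd 44905 = n75996 := ndS (p := 23086) (l := 1) rfl N23086 D75996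
theorem N44906 : nd 44906 = n75997 := ndS (p := 23086) (l := 5) rfl N23086 D75997
theorem N44907 : nd 44907 = n75998 := ndS (p := 23086) (l := 7) rfl N23086 D75998
theorem N44908 : nd 44908 = n76015 := ndS (p := 23088) (l := 1) rfl N23088 D76015
theorem N44909 : nd 44909 = n76018 := ndS (p := 23089) (l := 4) rfl N23089 D76018
theorem N44910 : nd 44910 = n76023 := ndS (p := 23090) (l := 4) rfl N23090 D76023
theorem N44911 : nd 44911 = n76038 := ndS (p := 23092) (l := 0) rfl N23092 D76038
theorem N44912 : nd 44912 = n76044 := ndS (p := 23094) (l := 3) rfl N23094 D76044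
theorem N44913 : nd 44913 = n76045 := ndS (p := 23094) (l := 4) rfl N23094 D76045
theorem N44914 : nd 44914 = n76046 := ndS (p := 23095) (l := 3) rfl N23095 D76046
theorem N44915 : nd 44915 = n76069 := ndS (p := 23097) (l := 3) rfl N23097 D76069
theorem N44916 : nd 44916 = n76070 := ndS (p := 23097) (l := 5) rfl N23097 D76070
theorem N44917 : nd 44917 = n76073 := ndS (p := 23098) (l := 3) rfl N23098 D76073
theorem N44918 : nd 44918 = n76074 := ndS (p := 23098) (l := 5) rfl N23098 D76074
theorem N44919 : nd 44919 = n76081 := ndS (p := 23099) (l := 5) rfl N23099 D76081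
theorem N44920 : nd 44920 = n76085 := ndS (p := 23100) (l := 5) rfl N23100 D76085
theorem N44921 : nd 44921 = n76086 := ndS (p := 23100) (l := 6) rfl N23100 D76086
theorem N44922 : nd 44922 = n76090 := ndS (p := 23101) (l := 6) rfl N23101 D76090
theorem N44923 : nd 44923 = n76093 := ndS (p := 23102) (l := 5) rfl N23102 D76093
theorem N44924 : nd 44924 = n76121 := ndS (p := 23103) (l := 4) rfl N23103 D76121
theorem N44925 : nd 44925 = n76134 := ndS (p := 23104) (l := 0) rfl N23104 D76134
theorem N44926 : nd 44926 = n76137 := ndS (p := 23104) (l := 6) rfl N23104 D76137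
theorem N44927 : nd 44927 = n76143 := ndS (p := 23107) (l := 7) rfl N23107 D76143
theorem N44928 : nd 44928 = n76151 := ndS (p := 23109) (l := 3) rfl N23109 D76151
theorem N44929 : nd 44929 = n76152 := ndS (p := 23109) (l := 5) rfl N23109 D76152
theorem N44930 : nd 44930 = n76153 := ndS (p := 23110) (l := 3) rfl N23110 D76153
theorem N44931 : nd 44931 = n76161 := ndS (p := 23111) (l := 4) rfl N23111 D76161
theorem N44932 : nd 44932 = n76162 := ndS (p := 23112) (l := 3) rfl N23112 D76162
theorem N44933 : nd 44933 = n76163 := ndS (p := 23112) (l := 5) rfl N23112 D76163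
theorem N44934 : nd 44934 = n76169 := ndS (p := 23113) (l := 5) rfl N23113 D76169
theorem N44935 : nd 44935 = n76170 := ndS (p := 23113) (l := 6) rfl N23113 D76170
theorem N44936 : nd 44936 = n76173 := ndS (p := 23114) (l := 4) rfl N23114 D76173
theorem N44937 : nd 44937 = n76181 := ndS (p := 23117) (l := 4) rfl N23117 D76181
theorem N44938 : nd 44938 = n76183 := ndS (p := 23118) (l := 3) rfl N23118 D76183
theorem N44939 : nd 44939 = n76191 := ndS (p := 23121) (l := 3) rfl N23121 D76191
theorem N44940 : nd 44940 = n76193 := ndS (p := 23121) (l := 6) rfl N23121 D76193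
theorem N44941 : nd 44941 = n76198 := ndS (p := 23124) (l := 3) rfl N23124 D76198
theorem N44942 : nd 44942 = n76201 := ndS (p := 23125) (l := 0) rfl N23125 D76201
theorem N44943 : nd 44943 = n76202 := ndS (p := 23125) (l := 1) rfl N23125 D76202
theorem N44944 : nd 44944 = n76203 := ndS (p := 23125) (l := 2) rfl N23125 D76203
theorem N44945 : nd 44945 = n76204 := ndS (p := 23125) (l := 5) rfl N23125 D76204
theorem N44946 : nd 44946 = n76205 := ndS (p := 23126) (l := 0) rfl N23126 D76205
theorem N44947 : nd 44947 = n76208 := ndS (p := 23127) (l := 3) rfl N23127 D76208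
theorem N44948 : nd 44948 = n76209 := ndS (p := 23127) (l := 4) rfl N23127 D76209
theorem N44949 : nd 44949 = n76211 := ndS (p := 23127) (l := 6) rfl N23127 D76211
theorem N44950 : nd 44950 = n76213 := ndS (p := 23128) (l := 3) rfl N23128 D76213
theorem N44951 : nd 44951 = n76214 := ndS (p := 23128) (l := 4) rfl N23128 D76214
theorem N44952 : nd 44952 = n76216 := ndS (p := 23128) (l := 6) rfl N23128 D76216
theorem N44953 : nd 44953 = n76217 := ndS (p := 23130) (l := 0) rfl N23130 D76217
theorem N44954 : nd 44954 = n76218 := ndS (p := 23130) (l := 1) rfl N23130 D76218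
theorem N44955 : nd 44955 = n76219 := ndS (p := 23130) (l := 4) rfl N23130 D76219
theorem N44956 : nd 44956 = n76220 := ndS (p := 23132) (l := 1) rfl N23132 D76220
theorem N44957 : nd 44957 = n76221 := ndS (p := 23132) (l := 4) rfl N23132 D76221
theorem N44958 : nd 44958 = n76222 := ndS (p := 23132) (l := 6) rfl N23132 D76222
theorem N44959 : nd 44959 = n76223 := ndS (p := 23133) (l := 4) rfl N23133 D76223
theorem N44960 : nd 44960 = n76224 := ndS (p := 23133) (l := 6) rfl N23133 D76224
theorem N44961 : nd 44961 = n76225 := ndS (p := 23134) (l := 3) rfl N23134 D76225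
theorem N44962 : nd 44962 = n76226 := ndS (p := 23134) (l := 4) rfl N23134 D76226
theorem N44963 : nd 44963 = n76227 := ndS (p := 23134) (l := 6) rfl N23134 D76227
theorem N44964 : nd 44964 = n76228 := ndS (p := 23135) (l := 4) rfl N23135 D76228
theorem N44965 : nd 44965 = n76229 := ndS (p := 23135) (l := 6) rfl N23135 D76229
theorem N44966 : nd 44966 = n76230 := ndS (p := 23136) (l := 0) rfl N23136 D76230
theorem N44967 : nd 44967 = n76231 := ndS (p := 23136) (l := 1) rfl N23136 D76231
theorem N44968 : nd 44968 = n76232 := ndS (p := 23136) (l := 3) rfl N23136 D76232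
theorem N44969 : nd 44969 = n76233 := ndS (p := 23137) (l := 6) rfl N23137 D76233
theorem N44970 : nd 44970 = n76234 := ndS (p := 23138) (l := 0) rfl N23138 D76234
theorem N44971 : nd 44971 = n76235 := ndS (p := 23138) (l := 2) rfl N23138 D76235
theorem N44972 : nd 44972 = n76236 := ndS (p := 23138) (l := 5) rfl N23138 D76236
theorem N44973 : nd 44973 = n76237 := ndS (p := 23139) (l := 4) rfl N23139 D76237
theorem N44974 : nd 44974 = n76238 := ndS (p := 23139) (l := 6) rfl N23139 D76238
theorem N44975 : nd 44975 = n76240 := ndS (p := 23141) (l := 5) rfl N23141 D76240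
theorem N44976 : nd 44976 = n76243 := ndS (p := 23143) (l := 4) rfl N23143 D76243
theorem N44977 : nd 44977 = n76244 := ndS (p := 23144) (l := 0) rfl N23144 D76244
theorem N44978 : nd 44978 = n76245 := ndS (p := 23144) (l := 1) rfl N23144 D76245
theorem N44979 : nd 44979 = n76246 := ndS (p := 23144) (l := 4) rfl N23144 D76246
theorem N44980 : nd 44980 = n76247 := ndS (p := 23144) (l := 7) rfl N23144 D76247
theorem N44981 : nd 44981 = n76248 := ndS (p := 23146) (l := 5) rfl N23146 D76248
theorem N44982 : nd 44982 = n76249 := ndS (p := 23147) (l := 4) rfl N23147 D76249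
theorem N44983 : nd 44983 = n76250 := ndS (p := 23147) (l := 6) rfl N23147 D76250
theorem N44984 : nd 44984 = n76251 := ndS (p := 23148) (l := 5) rfl N23148 D76251
theorem N44985 : nd 44985 = n76252 := ndS (p := 23149) (l := 5) rfl N23149 D76252
theorem N44986 : nd 44986 = n76253 := ndS (p := 23150) (l := 4) rfl N23150 D76253
theorem N44987 : nd 44987 = n76254 := ndS (p := 23150) (l := 6) rfl N23150 D76254
theorem N44988 : nd 44988 = n76255 := ndS (p := 23151) (l := 4) rfl N23151 D76255
theorem N44989 : nd 44989 = n76257 := ndS (p := 23152) (l := 3) rfl N23152 D76257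
theorem N44990 : nd 44990 = n76258 := ndS (p := 23152) (l := 4) rfl N23152 D76258
theorem N44991 : nd 44991 = n76259 := ndS (p := 23152) (l := 6) rfl N23152 D76259
theorem N44992 : nd 44992 = n76260 := ndS (p := 23153) (l := 1) rfl N23153 D76260
theorem N44993 : nd 44993 = n76261 := ndS (p := 23153) (l := 3) rfl N23153 D76261
theorem N44994 : nd 44994 = n76262 := ndS (p := 23153) (l := 5) rfl N23153 D76262
theorem N44995 : nd 44995 = n76263 := ndS (p := 23153) (l := 7) rfl N23153 D76263
theorem N44996 : nd 44996 = n76264 := ndS (p := 23154) (l := 6) rfl N23154 D76264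
theorem N44997 : nd 44997 = n76265 := ndS (p := 23155) (l := 0) rfl N23155 D76265
theorem N44998 : nd 44998 = n76266 := ndS (p := 23155) (l := 1) rfl N23155 D76266
theorem N44999 : nd 44999 = n76267 := ndS (p := 23155) (l := 2) rfl N23155 D76267
theorem N45000 : nd 45000 = n76270 := ndS (p := 23157) (l := 6) rfl N23157 D76270
theorem N45001 : nd 45001 = n76271 := ndS (p := 23158) (l := 6) rfl N23158 D76271
theorem N45002 : nd 45002 = n76272 := ndS (p := 23159) (l := 0) rfl N23159 D76272
theorem N45003 : nd 45003 = n76273 := ndS (p := 23159) (l := 1) rfl N23159 D76273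
theorem N45004 : nd 45004 = n76274 := ndS (p := 23159) (l := 7) rfl N23159 D76274
theorem N45005 : nd 45005 = n76278 := ndS (p := 23160) (l := 5) rfl N23160 D76278
theorem N45006 : nd 45006 = n76279 := ndS (p := 23160) (l := 6) rfl N23160 D76279
theorem N45007 : nd 45007 = n76281 := ndS (p := 23161) (l := 3) rfl N23161 D76281
theorem N45008 : nd 45008 = n76283 := ndS (p := 23161) (l := 5) rfl N23161 D76283
theorem N45009 : nd 45009 = n76284 := ndS (p := 23161) (l := 6) rfl N23161 D76284
theorem N45010 : nd 45010 = n76285 := ndS (p := 23162) (l := 0) rfl N23162 D76285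
theorem N45011 : nd 45011 = n76286 := ndS (p := 23162) (l := 1) rfl N23162 D76286
theorem N45012 : nd 45012 = n76287 := ndS (p := 23162) (l := 4) rfl N23162 D76287
theorem N45013 : nd 45013 = n76288 := ndS (p := 23162) (l := 7) rfl N23162 D76288
theorem N45014 : nd 45014 = n76289 := ndS (p := 23164) (l := 6) rfl N23164 D76289
theorem N45015 : nd 45015 = n76290 := ndS (p := 23165) (l := 3) rfl N23165 D76290
theorem N45016 : nd 45016 = n76291 := ndS (p := 23165) (l := 6) rfl N23165 D76291
theorem N45017 : nd 45017 = n76292 := ndS (p := 23166) (l := 3) rfl N23166 D76292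
theorem N45018 : nd 45018 = n76293 := ndS (p := 23166) (l := 5) rfl N23166 D76293
theorem N45019 : nd 45019 = n76294 := ndS (p := 23166) (l := 7) rfl N23166 D76294
theorem N45020 : nd 45020 = n76295 := ndS (p := 23167) (l := 6) rfl N23167 D76295
theorem N45021 : nd 45021 = n76296 := ndS (p := 23169) (l := 5) rfl N23169 D76296
theorem N45022 : nd 45022 = n76297 := ndS (p := 23170) (l := 0) rfl N23170 D76297
theorem N45023 : nd 45023 = n76298 := ndS (p := 23170) (l := 5) rfl N23170 D76298
theorem N45024 : nd 45024 = n76299 := ndS (p := 23170) (l := 7) rfl N23170 D76299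
theorem N45025 : nd 45025 = n76300 := ndS (p := 23171) (l := 6) rfl N23171 D76300
theorem N45026 : nd 45026 = n76301 := ndS (p := 23172) (l := 5) rfl N23172 D76301
theorem N45027 : nd 45027 = n76302 := ndS (p := 23173) (l := 5) rfl N23173 D76302
theorem N45028 : nd 45028 = n76303 := ndS (p := 23174) (l := 4) rfl N23174 D76303
theorem N45029 : nd 45029 = n76304 := ndS (p := 23175) (l := 6) rfl N23175 D76304
theorem N45030 : nd 45030 = n76305 := ndS (p := 23176) (l := 4) rfl N23176 D76305
theorem N45031 : nd 45031 = n76306 := ndS (p := 23176) (l := 6) rfl N23176 D76306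
theorem N45032 : nd 45032 = n76307 := ndS (p := 23177) (l := 0) rfl N23177 D76307
theorem N45033 : nd 45033 = n76311 := ndS (p := 23178) (l := 5) rfl N23178 D76311
theorem N45034 : nd 45034 = n76314 := ndS (p := 23179) (l := 3) rfl N23179 D76314
theorem N45035 : nd 45035 = n76316 := ndS (p := 23179) (l := 5) rfl N23179 D76316
theorem N45036 : nd 45036 = n76317 := ndS (p := 23179) (l := 6) rfl N23179 D76317
theorem N45037 : nd 45037 = n76318 := ndS (p := 23181) (l := 6) rfl N23181 D76318
theorem N45038 : nd 45038 = n76319 := ndS (p := 23182) (l := 0) rfl N23182 D76319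
theorem N45039 : nd 45039 = n76320 := ndS (p := 23182) (l := 1) rfl N23182 D76320
theorem N45040 : nd 45040 = n76321 := ndS (p := 23182) (l := 7) rfl N23182 D76321
theorem N45041 : nd 45041 = n76326 := ndS (p := 23183) (l := 6) rfl N23183 D76326
theorem N45042 : nd 45042 = n76328 := ndS (p := 23184) (l := 3) rfl N23184 D76328
theorem N45043 : nd 45043 = n76330 := ndS (p := 23184) (l := 5) rfl N23184 D76330
theorem N45044 : nd 45044 = n76331 := ndS (p := 23184) (l := 6) rfl N23184 D76331
theorem N45045 : nd 45045 = n76333 := ndS (p := 23185) (l := 1) rfl N23185 D76333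
theorem N45046 : nd 45046 = n76334 := ndS (p := 23185) (l := 4) rfl N23185 D76334
theorem N45047 : nd 45047 = n76335 := ndS (p := 23185) (l := 7) rfl N23185 D76335
theorem N45048 : nd 45048 = n76336 := ndS (p := 23187) (l := 6) rfl N23187 D76336
theorem N45049 : nd 45049 = n76337 := ndS (p := 23188) (l := 3) rfl N23188 D76337
theorem N45050 : nd 45050 = n76338 := ndS (p := 23188) (l := 6) rfl N23188 D76338
theorem N45051 : nd 45051 = n76339 := ndS (p := 23189) (l := 0) rfl N23189 D76339
theorem N45052 : nd 45052 = n76340 := ndS (p := 23189) (l := 3) rfl N23189 D76340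
theorem N45053 : nd 45053 = n76341 := ndS (p := 23189) (l := 5) rfl N23189 D76341
theorem N45054 : nd 45054 = n76342 := ndS (p := 23189) (l := 7) rfl N23189 D76342
theorem N45055 : nd 45055 = n76343 := ndS (p := 23190) (l := 6) rfl N23190 D76343
theorem N45056 : nd 45056 = n76344 := ndS (p := 23191) (l := 5) rfl N23191 D76344
theorem N45057 : nd 45057 = n76345 := ndS (p := 23192) (l := 4) rfl N23192 D76345
theorem N45058 : nd 45058 = n76346 := ndS (p := 23192) (l := 6) rfl N23192 D76346
theorem N45059 : nd 45059 = n76347 := ndS (p := 23195) (l := 4) rfl N23195 D76347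
theorem N45060 : nd 45060 = n76348 := ndS (p := 23195) (l := 6) rfl N23195 D76348
theorem N45061 : nd 45061 = n76349 := ndS (p := 23198) (l := 6) rfl N23198 D76349
theorem N45062 : nd 45062 = n76350 := ndS (p := 23199) (l := 0) rfl N23199 D76350
theorem N45063 : nd 45063 = n76351 := ndS (p := 23199) (l := 1) rfl N23199 D76351
theorem N45064 : nd 45064 = n76352 := ndS (p := 23199) (l := 7) rfl N23199 D76352
theorem N45065 : nd 45065 = n76354 := ndS (p := 23200) (l := 3) rfl N23200 D76354
theorem N45066 : nd 45066 = n76356 := ndS (p := 23200) (l := 5) rfl N23200 D76356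
theorem N45067 : nd 45067 = n76357 := ndS (p := 23200) (l := 6) rfl N23200 D76357
theorem N45068 : nd 45068 = n76359 := ndS (p := 23201) (l := 3) rfl N23201 D76359
theorem N45069 : nd 45069 = n76361 := ndS (p := 23201) (l := 5) rfl N23201 D76361
theorem N45070 : nd 45070 = n76362 := ndS (p := 23201) (l := 6) rfl N23201 D76362
theorem N45071 : nd 45071 = n76363 := ndS (p := 23203) (l := 4) rfl N23203 D76363
theorem N45072 : nd 45072 = n76364 := ndS (p := 23203) (l := 6) rfl N23203 D76364
theorem N45073 : nd 45073 = n76365 := ndS (p := 23205) (l := 6) rfl N23205 D76365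
theorem N45074 : nd 45074 = n76366 := ndS (p := 23206) (l := 0) rfl N23206 D76366
theorem N45075 : nd 45075 = n76367 := ndS (p := 23206) (l := 1) rfl N23206 D76367
theorem N45076 : nd 45076 = n76368 := ndS (p := 23206) (l := 5) rfl N23206 D76368
theorem N45077 : nd 45077 = n76369 := ndS (p := 23206) (l := 7) rfl N23206 D76369
theorem N45078 : nd 45078 = n76370 := ndS (p := 23208) (l := 4) rfl N23208 D76370
theorem N45079 : nd 45079 = n76374 := ndS (p := 23210) (l := 5) rfl N23210 D76374
theorem N45080 : nd 45080 = n76376 := ndS (p := 23211) (l := 3) rfl N23211 D76376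
theorem N45081 : nd 45081 = n76378 := ndS (p := 23211) (l := 5) rfl N23211 D76378
theorem N45082 : nd 45082 = n76379 := ndS (p := 23211) (l := 6) rfl N23211 D76379
theorem N45083 : nd 45083 = n76380 := ndS (p := 23212) (l := 0) rfl N23212 D76380
theorem N45084 : nd 45084 = n76381 := ndS (p := 23212) (l := 1) rfl N23212 D76381
theorem N45085 : nd 45085 = n76382 := ndS (p := 23212) (l := 4) rfl N23212 D76382
theorem N45086 : nd 45086 = n76383 := ndS (p := 23212) (l := 7) rfl N23212 D76383
theorem N45087 : nd 45087 = n76384 := ndS (p := 23215) (l := 0) rfl N23215 D76384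
theorem N45088 : nd 45088 = n76385 := ndS (p := 23215) (l := 3) rfl N23215 D76385
theorem N45089 : nd 45089 = n76386 := ndS (p := 23216) (l := 6) rfl N23216 D76386
theorem N45090 : nd 45090 = n76389 := ndS (p := 23217) (l := 5) rfl N23217 D76389
theorem N45091 : nd 45091 = n76390 := ndS (p := 23217) (l := 7) rfl N23217 D76390
theorem N45092 : nd 45092 = n76391 := ndS (p := 23218) (l := 5) rfl N23218 D76391
theorem N45093 : nd 45093 = n76392 := ndS (p := 23218) (l := 6) rfl N23218 D76392
theorem N45094 : nd 45094 = n76393 := ndS (p := 23219) (l := 4) rfl N23219 D76393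
theorem N45095 : nd 45095 = n76394 := ndS (p := 23219) (l := 7) rfl N23219 D76394
theorem N45096 : nd 45096 = n76395 := ndS (p := 23221) (l := 6) rfl N23221 D76395
theorem N45097 : nd 45097 = n76397 := ndS (p := 23222) (l := 1) rfl N23222 D76397
theorem N45098 : nd 45098 = n76398 := ndS (p := 23222) (l := 5) rfl N23222 D76398
theorem N45099 : nd 45099 = n76399 := ndS (p := 23222) (l := 7) rfl N23222 D76399
theorem N45100 : nd 45100 = n76400 := ndS (p := 23224) (l := 4) rfl N23224 D76400
theorem N45101 : nd 45101 = n76401 := ndS (p := 23225) (l := 3) rfl N23225 D76401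
theorem N45102 : nd 45102 = n76402 := ndS (p := 23225) (l := 6) rfl N23225 D76402
theorem N45103 : nd 45103 = n76403 := ndS (p := 23226) (l := 0) rfl N23226 D76403
theorem N45104 : nd 45104 = n76404 := ndS (p := 23226) (l := 1) rfl N23226 D76404
theorem N45105 : nd 45105 = n76405 := ndS (p := 23226) (l := 7) rfl N23226 D76405
theorem N45106 : nd 45106 = n76406 := ndS (p := 23227) (l := 6) rfl N23227 D76406
theorem N45107 : nd 45107 = n76407 := ndS (p := 23228) (l := 6) rfl N23228 D76407
theorem N45108 : nd 45108 = n76408 := ndS (p := 23229) (l := 0) rfl N23229 D76408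
theorem N45109 : nd 45109 = n76409 := ndS (p := 23229) (l := 1) rfl N23229 D76409
theorem N45110 : nd 45110 = n76410 := ndS (p := 23229) (l := 5) rfl N23229 D76410
theorem N45111 : nd 45111 = n76411 := ndS (p := 23229) (l := 7) rfl N23229 D76411
theorem N45112 : nd 45112 = n76413 := ndS (p := 23230) (l := 3) rfl N23230 D76413
theorem N45113 : nd 45113 = n76414 := ndS (p := 23230) (l := 4) rfl N23230 D76414
theorem N45114 : nd 45114 = n76415 := ndS (p := 23230) (l := 5) rfl N23230 D76415
theorem N45115 : nd 45115 = n76416 := ndS (p := 23230) (l := 6) rfl N23230 D76416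
theorem N45116 : nd 45116 = n76418 := ndS (p := 23231) (l := 3) rfl N23231 D76418
theorem N45117 : nd 45117 = n76419 := ndS (p := 23231) (l := 4) rfl N23231 D76419
theorem N45118 : nd 45118 = n76420 := ndS (p := 23231) (l := 5) rfl N23231 D76420
theorem N45119 : nd 45119 = n76421 := ndS (p := 23231) (l := 6) rfl N23231 D76421
theorem N45120 : nd 45120 = n76422 := ndS (p := 23232) (l := 0) rfl N23232 D76422
theorem N45121 : nd 45121 = n76423 := ndS (p := 23232) (l := 1) rfl N23232 D76423
theorem N45122 : nd 45122 = n76424 := ndS (p := 23232) (l := 7) rfl N23232 D76424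
theorem N45123 : nd 45123 = n76425 := ndS (p := 23235) (l := 5) rfl N23235 D76425
theorem N45124 : nd 45124 = n76426 := ndS (p := 23235) (l := 7) rfl N23235 D76426
theorem N45125 : nd 45125 = n76433 := ndS (p := 23237) (l := 0) rfl N23237 D76433
theorem N45126 : nd 45126 = n76435 := ndS (p := 23237) (l := 2) rfl N23237 D76435
theorem N45127 : nd 45127 = n76437 := ndS (p := 23237) (l := 5) rfl N23237 D76437
theorem N45128 : nd 45128 = n76438 := ndS (p := 23237) (l := 6) rfl N23237 D76438
theorem N45129 : nd 45129 = n76447 := ndS (p := 23238) (l := 1) rfl N23238 D76447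
theorem N45130 : nd 45130 = n76448 := ndS (p := 23238) (l := 4) rfl N23238 D76448
theorem N45131 : nd 45131 = n76449 := ndS (p := 23238) (l := 6) rfl N23238 D76449
theorem N45132 : nd 45132 = n76452 := ndS (p := 23239) (l := 1) rfl N23239 D76452
theorem N45133 : nd 45133 = n76453 := ndS (p := 23239) (l := 5) rfl N23239 D76453
theorem N45134 : nd 45134 = n76454 := ndS (p := 23239) (l := 7) rfl N23239 D76454
theorem N45135 : nd 45135 = n76457 := ndS (p := 23240) (l := 1) rfl N23240 D76457
theorem N45136 : nd 45136 = n76458 := ndS (p := 23240) (l := 2) rfl N23240 D76458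
theorem N45137 : nd 45137 = n76459 := ndS (p := 23240) (l := 4) rfl N23240 D76459
theorem N45138 : nd 45138 = n76460 := ndS (p := 23240) (l := 5) rfl N23240 D76460
theorem N45139 : nd 45139 = n76461 := ndS (p := 23240) (l := 6) rfl N23240 D76461
theorem N45140 : nd 45140 = n76465 := ndS (p := 23241) (l := 4) rfl N23241 D76465
theorem N45141 : nd 45141 = n76466 := ndS (p := 23242) (l := 0) rfl N23242 D76466
theorem N45142 : nd 45142 = n76468 := ndS (p := 23242) (l := 5) rfl N23242 D76468
theorem N45143 : nd 45143 = n76469 := ndS (p := 23242) (l := 7) rfl N23242 D76469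
theorem N45144 : nd 45144 = n76472 := ndS (p := 23243) (l := 4) rfl N23243 D76472
theorem N45145 : nd 45145 = n76473 := ndS (p := 23243) (l := 5) rfl N23243 D76473
theorem N45146 : nd 45146 = n76474 := ndS (p := 23243) (l := 6) rfl N23243 D76474
theorem N45147 : nd 45147 = n76476 := ndS (p := 23244) (l := 3) rfl N23244 D76476
theorem N45148 : nd 45148 = n76477 := ndS (p := 23244) (l := 4) rfl N23244 D76477
theorem N45149 : nd 45149 = n76478 := ndS (p := 23244) (l := 6) rfl N23244 D76478
theorem N45150 : nd 45150 = n76479 := ndS (p := 23245) (l := 0) rfl N23245 D76479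
theorem N45151 : nd 45151 = n76480 := ndS (p := 23245) (l := 1) rfl N23245 D76480
theorem N45152 : nd 45152 = n76481 := ndS (p := 23245) (l := 5) rfl N23245 D76481
theorem N45153 : nd 45153 = n76482 := ndS (p := 23245) (l := 7) rfl N23245 D76482
theorem N45154 : nd 45154 = n76483 := ndS (p := 23246) (l := 6) rfl N23246 D76483
theorem N45155 : nd 45155 = n76487 := ndS (p := 23248) (l := 5) rfl N23248 D76487
theorem N45156 : nd 45156 = n76488 := ndS (p := 23249) (l := 6) rfl N23249 D76488
theorem N45157 : nd 45157 = n76489 := ndS (p := 23250) (l := 1) rfl N23250 D76489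
theorem N45158 : nd 45158 = n76490 := ndS (p := 23250) (l := 5) rfl N23250 D76490
theorem N45159 : nd 45159 = n76491 := ndS (p := 23251) (l := 0) rfl N23251 D76491
theorem N45160 : nd 45160 = n76493 := ndS (p := 23251) (l := 5) rfl N23251 D76493
theorem N45161 : nd 45161 = n76494 := ndS (p := 23251) (l := 7) rfl N23251 D76494
theorem N45162 : nd 45162 = n76495 := ndS (p := 23252) (l := 4) rfl N23252 D76495
theorem N45163 : nd 45163 = n76498 := ndS (p := 23253) (l := 5) rfl N23253 D76498
theorem N45164 : nd 45164 = n76500 := ndS (p := 23254) (l := 6) rfl N23254 D76500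
theorem N45165 : nd 45165 = n76501 := ndS (p := 23255) (l := 0) rfl N23255 D76501
theorem N45166 : nd 45166 = n76503 := ndS (p := 23255) (l := 7) rfl N23255 D76503
theorem N45167 : nd 45167 = n76504 := ndS (p := 23256) (l := 6) rfl N23256 D76504
theorem N45168 : nd 45168 = n76505 := ndS (p := 23257) (l := 0) rfl N23257 D76505
theorem N45169 : nd 45169 = n76506 := ndS (p := 23257) (l := 1) rfl N23257 D76506
theorem N45170 : nd 45170 = n76510 := ndS (p := 23259) (l := 6) rfl N23259 D76510
theorem N45171 : nd 45171 = n76512 := ndS (p := 23260) (l := 1) rfl N23260 D76512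
theorem N45172 : nd 45172 = n76513 := ndS (p := 23260) (l := 5) rfl N23260 D76513
theorem N45173 : nd 45173 = n76514 := ndS (p := 23260) (l := 7) rfl N23260 D76514
theorem N45174 : nd 45174 = n76516 := ndS (p := 23261) (l := 1) rfl N23261 D76516
theorem N45175 : nd 45175 = n76517 := ndS (p := 23261) (l := 5) rfl N23261 D76517
theorem N45176 : nd 45176 = n76518 := ndS (p := 23261) (l := 7) rfl N23261 D76518
theorem N45177 : nd 45177 = n76519 := ndS (p := 23262) (l := 4) rfl N23262 D76519
theorem N45178 : nd 45178 = n76520 := ndS (p := 23264) (l := 0) rfl N23264 D76520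
theorem N45179 : nd 45179 = n76521 := ndS (p := 23264) (l := 2) rfl N23264 D76521
theorem N45180 : nd 45180 = n76522 := ndS (p := 23264) (l := 5) rfl N23264 D76522
theorem N45181 : nd 45181 = n76523 := ndS (p := 23265) (l := 4) rfl N23265 D76523
theorem N45182 : nd 45182 = n76524 := ndS (p := 23265) (l := 6) rfl N23265 D76524
theorem N45183 : nd 45183 = n76525 := ndS (p := 23266) (l := 4) rfl N23266 D76525
theorem N45184 : nd 45184 = n76526 := ndS (p := 23266) (l := 6) rfl N23266 D76526
theorem N45185 : nd 45185 = n76527 := ndS (p := 23267) (l := 6) rfl N23267 D76527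
theorem N45186 : nd 45186 = n76528 := ndS (p := 23268) (l := 5) rfl N23268 D76528
theorem N45187 : nd 45187 = n76530 := ndS (p := 23272) (l := 5) rfl N23272 D76530
theorem N45188 : nd 45188 = n76531 := ndS (p := 23276) (l := 5) rfl N23276 D76531
theorem N45189 : nd 45189 = n76532 := ndS (p := 23276) (l := 6) rfl N23276 D76532
theorem N45190 : nd 45190 = n76533 := ndS (p := 23277) (l := 4) rfl N23277 D76533
theorem N45191 : nd 45191 = n76534 := ndS (p := 23277) (l := 6) rfl N23277 D76534
theorem N45192 : nd 45192 = n76535 := ndS (p := 23279) (l := 5) rfl N23279 D76535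
theorem N45193 : nd 45193 = n76536 := ndS (p := 23280) (l := 5) rfl N23280 D76536
theorem N45194 : nd 45194 = n76539 := ndS (p := 23282) (l := 6) rfl N23282 D76539
theorem N45195 : nd 45195 = n76540 := ndS (p := 23283) (l := 3) rfl N23283 D76540
theorem N45196 : nd 45196 = n76541 := ndS (p := 23284) (l := 0) rfl N23284 D76541
theorem N45197 : nd 45197 = n76542 := ndS (p := 23284) (l := 1) rfl N23284 D76542
theorem N45198 : nd 45198 = n76543 := ndS (p := 23284) (l := 2) rfl N23284 D76543
theorem N45199 : nd 45199 = n76544 := ndS (p := 23285) (l := 0) rfl N23285 D76544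
theorem N45200 : nd 45200 = n76545 := ndS (p := 23285) (l := 1) rfl N23285 D76545
theorem N45201 : nd 45201 = n76546 := ndS (p := 23285) (l := 5) rfl N23285 D76546
theorem N45202 : nd 45202 = n76547 := ndS (p := 23285) (l := 7) rfl N23285 D76547
theorem N45203 : nd 45203 = n76548 := ndS (p := 23288) (l := 6) rfl N23288 D76548
theorem N45204 : nd 45204 = n76549 := ndS (p := 23289) (l := 6) rfl N23289 D76549
theorem N45205 : nd 45205 = n76550 := ndS (p := 23290) (l := 6) rfl N23290 D76550
theorem N45206 : nd 45206 = n76551 := ndS (p := 23291) (l := 3) rfl N23291 D76551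
theorem N45207 : nd 45207 = n76552 := ndS (p := 23291) (l := 6) rfl N23291 D76552
theorem N45208 : nd 45208 = n76553 := ndS (p := 23292) (l := 0) rfl N23292 D76553
theorem N45209 : nd 45209 = n76554 := ndS (p := 23292) (l := 1) rfl N23292 D76554
theorem N45210 : nd 45210 = n76555 := ndS (p := 23292) (l := 5) rfl N23292 D76555
theorem N45211 : nd 45211 = n76556 := ndS (p := 23292) (l := 7) rfl N23292 D76556
theorem N45212 : nd 45212 = n76557 := ndS (p := 23293) (l := 0) rfl N23293 D76557
theorem N45213 : nd 45213 = n76558 := ndS (p := 23293) (l := 1) rfl N23293 D76558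
theorem N45214 : nd 45214 = n76559 := ndS (p := 23293) (l := 4) rfl N23293 D76559
theorem N45215 : nd 45215 = n76560 := ndS (p := 23293) (l := 7) rfl N23293 D76560
theorem N45216 : nd 45216 = n76570 := ndS (p := 23298) (l := 4) rfl N23298 D76570
theorem N45217 : nd 45217 = n76571 := ndS (p := 23298) (l := 5) rfl N23298 D76571
theorem N45218 : nd 45218 = n76572 := ndS (p := 23298) (l := 6) rfl N23298 D76572
theorem N45219 : nd 45219 = n76578 := ndS (p := 23299) (l := 0) rfl N23299 D76578
theorem N45220 : nd 45220 = n76580 := ndS (p := 23299) (l := 4) rfl N23299 D76580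
theorem N45221 : nd 45221 = n76581 := ndS (p := 23299) (l := 7) rfl N23299 D76581
theorem N45222 : nd 45222 = n76582 := ndS (p := 23302) (l := 6) rfl N23302 D76582
theorem N45223 : nd 45223 = n76585 := ndS (p := 23303) (l := 7) rfl N23303 D76585
theorem N45224 : nd 45224 = n76586 := ndS (p := 23304) (l := 6) rfl N23304 D76586
theorem N45225 : nd 45225 = n76587 := ndS (p := 23305) (l := 4) rfl N23305 D76587
theorem N45226 : nd 45226 = n76588 := ndS (p := 23305) (l := 6) rfl N23305 D76588
theorem N45227 : nd 45227 = n76589 := ndS (p := 23306) (l := 5) rfl N23306 D76589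
theorem N45228 : nd 45228 = n76591 := ndS (p := 23307) (l := 5) rfl N23307 D76591
theorem N45229 : nd 45229 = n76592 := ndS (p := 23307) (l := 6) rfl N23307 D76592
theorem N45230 : nd 45230 = n76594 := ndS (p := 23308) (l := 1) rfl N23308 D76594
theorem N45231 : nd 45231 = n76595 := ndS (p := 23308) (l := 7) rfl N23308 D76595
theorem N45232 : nd 45232 = n76596 := ndS (p := 23309) (l := 6) rfl N23309 D76596
theorem N45233 : nd 45233 = n76597 := ndS (p := 23310) (l := 0) rfl N23310 D76597
theorem N45234 : nd 45234 = n76598 := ndS (p := 23310) (l := 1) rfl N23310 D76598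
theorem N45235 : nd 45235 = n76599 := ndS (p := 23310) (l := 5) rfl N23310 D76599
theorem N45236 : nd 45236 = n76600 := ndS (p := 23310) (l := 7) rfl N23310 D76600
theorem N45237 : nd 45237 = n76601 := ndS (p := 23311) (l := 5) rfl N23311 D76601
theorem N45238 : nd 45238 = n76602 := ndS (p := 23312) (l := 5) rfl N23312 D76602
theorem N45239 : nd 45239 = n76603 := ndS (p := 23313) (l := 4) rfl N23313 D76603
theorem N45240 : nd 45240 = n76604 := ndS (p := 23313) (l := 7) rfl N23313 D76604
theorem N45241 : nd 45241 = n76607 := ndS (p := 23315) (l := 6) rfl N23315 D76607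
theorem N45242 : nd 45242 = n76608 := ndS (p := 23316) (l := 0) rfl N23316 D76608
theorem N45243 : nd 45243 = n76609 := ndS (p := 23316) (l := 1) rfl N23316 D76609
theorem N45244 : nd 45244 = n76619 := ndS (p := 23317) (l := 4) rfl N23317 D76619
theorem N45245 : nd 45245 = n76620 := ndS (p := 23317) (l := 5) rfl N23317 D76620
theorem N45246 : nd 45246 = n76621 := ndS (p := 23317) (l := 6) rfl N23317 D76621
theorem N45247 : nd 45247 = n76624 := ndS (p := 23318) (l := 4) rfl N23318 D76624
theorem N45248 : nd 45248 = n76626 := ndS (p := 23320) (l := 6) rfl N23320 D76626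
theorem N45249 : nd 45249 = n76627 := ndS (p := 23322) (l := 6) rfl N23322 D76627
theorem N45250 : nd 45250 = n76629 := ndS (p := 23323) (l := 5) rfl N23323 D76629
theorem N45251 : nd 45251 = n76631 := ndS (p := 23324) (l := 6) rfl N23324 D76631
theorem N45252 : nd 45252 = n76633 := ndS (p := 23327) (l := 6) rfl N23327 D76633
theorem N45253 : nd 45253 = n76634 := ndS (p := 23328) (l := 6) rfl N23328 D76634
theorem N45254 : nd 45254 = n76635 := ndS (p := 23330) (l := 6) rfl N23330 D76635
theorem N45255 : nd 45255 = n76636 := ndS (p := 23331) (l := 1) rfl N23331 D76636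
theorem N45256 : nd 45256 = n76637 := ndS (p := 23331) (l := 7) rfl N23331 D76637
theorem N45257 : nd 45257 = n76639 := ndS (p := 23335) (l := 5) rfl N23335 D76639
theorem N45258 : nd 45258 = n76640 := ndS (p := 23335) (l := 7) rfl N23335 D76640
theorem N45259 : nd 45259 = n76641 := ndS (p := 23336) (l := 4) rfl N23336 D76641
theorem N45260 : nd 45260 = n76642 := ndS (p := 23336) (l := 6) rfl N23336 D76642
theorem N45261 : nd 45261 = n76643 := ndS (p := 23337) (l := 3) rfl N23337 D76643
theorem N45262 : nd 45262 = n76649 := ndS (p := 23338) (l := 4) rfl N23338 D76649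
theorem N45263 : nd 45263 = n76650 := ndS (p := 23340) (l := 5) rfl N23340 D76650
theorem N45264 : nd 45264 = n76651 := ndS (p := 23340) (l := 7) rfl N23340 D76651
theorem N45265 : nd 45265 = n76652 := ndS (p := 23341) (l := 6) rfl N23341 D76652
theorem N45266 : nd 45266 = n76654 := ndS (p := 23342) (l := 1) rfl N23342 D76654
theorem N45267 : nd 45267 = n76655 := ndS (p := 23342) (l := 5) rfl N23342 D76655
theorem N45268 : nd 45268 = n76657 := ndS (p := 23343) (l := 4) rfl N23343 D76657
theorem N45269 : nd 45269 = n76658 := ndS (p := 23345) (l := 6) rfl N23345 D76658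
theorem N45270 : nd 45270 = n76659 := ndS (p := 23346) (l := 3) rfl N23346 D76659
theorem N45271 : nd 45271 = n76660 := ndS (p := 23346) (l := 6) rfl N23346 D76660
theorem N45272 : nd 45272 = n76662 := ndS (p := 23347) (l := 1) rfl N23347 D76662
theorem N45273 : nd 45273 = n76663 := ndS (p := 23347) (l := 5) rfl N23347 D76663
theorem N45274 : nd 45274 = n76664 := ndS (p := 23347) (l := 7) rfl N23347 D76664
theorem N45275 : nd 45275 = n76665 := ndS (p := 23348) (l := 6) rfl N23348 D76665
theorem N45276 : nd 45276 = n76667 := ndS (p := 23349) (l := 1) rfl N23349 D76667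
theorem N45277 : nd 45277 = n76668 := ndS (p := 23349) (l := 7) rfl N23349 D76668
theorem N45278 : nd 45278 = n76669 := ndS (p := 23350) (l := 5) rfl N23350 D76669
theorem N45279 : nd 45279 = n76670 := ndS (p := 23350) (l := 6) rfl N23350 D76670
theorem N45280 : nd 45280 = n76671 := ndS (p := 23351) (l := 3) rfl N23351 D76671
theorem N45281 : nd 45281 = n76672 := ndS (p := 23351) (l := 5) rfl N23351 D76672
theorem N45282 : nd 45282 = n76673 := ndS (p := 23351) (l := 6) rfl N23351 D76673
theorem N45283 : nd 45283 = n76674 := ndS (p := 23352) (l := 0) rfl N23352 D76674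
theorem N45284 : nd 45284 = n76675 := ndS (p := 23352) (l := 1) rfl N23352 D76675
theorem N45285 : nd 45285 = n76676 := ndS (p := 23352) (l := 2) rfl N23352 D76676
theorem N45286 : nd 45286 = n76678 := ndS (p := 23352) (l := 7) rfl N23352 D76678
theorem N45287 : nd 45287 = n76679 := ndS (p := 23353) (l := 0) rfl N23353 D76679
theorem N45288 : nd 45288 = n76680 := ndS (p := 23353) (l := 1) rfl N23353 D76680
theorem N45289 : nd 45289 = n76682 := ndS (p := 23354) (l := 6) rfl N23354 D76682
theorem N45290 : nd 45290 = n76683 := ndS (p := 23355) (l := 0) rfl N23355 D76683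
theorem N45291 : nd 45291 = n76685 := ndS (p := 23356) (l := 1) rfl N23356 D76685
theorem N45292 : nd 45292 = n76686 := ndS (p := 23356) (l := 6) rfl N23356 D76686
theorem N45293 : nd 45293 = n76689 := ndS (p := 23357) (l := 7) rfl N23357 D76689
theorem N45294 : nd 45294 = n76698 := ndS (p := 23360) (l := 6) rfl N23360 D76698
theorem N45295 : nd 45295 = n76707 := ndS (p := 23362) (l := 0) rfl N23362 D76707
theorem N45296 : nd 45296 = n76708 := ndS (p := 23362) (l := 1) rfl N23362 D76708
theorem N45297 : nd 45297 = n76709 := ndS (p := 23362) (l := 2) rfl N23362 D76709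
theorem N45298 : nd 45298 = n76720 := ndS (p := 23363) (l := 0) rfl N23363 D76720
theorem N45299 : nd 45299 = n76721 := ndS (p := 23363) (l := 2) rfl N23363 D76721
theorem N45300 : nd 45300 = n76722 := ndS (p := 23363) (l := 3) rfl N23363 D76722
theorem N45301 : nd 45301 = n76724 := ndS (p := 23363) (l := 5) rfl N23363 D76724
theorem N45302 : nd 45302 = n76725 := ndS (p := 23363) (l := 6) rfl N23363 D76725
theorem N45303 : nd 45303 = n76727 := ndS (p := 23364) (l := 3) rfl N23364 D76727
theorem N45304 : nd 45304 = n76728 := ndS (p := 23364) (l := 5) rfl N23364 D76728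
theorem N45305 : nd 45305 = n76732 := ndS (p := 23365) (l := 5) rfl N23365 D76732
theorem N45306 : nd 45306 = n76734 := ndS (p := 23366) (l := 1) rfl N23366 D76734
theorem N45307 : nd 45307 = n76735 := ndS (p := 23366) (l := 6) rfl N23366 D76735
theorem N45308 : nd 45308 = n76736 := ndS (p := 23367) (l := 6) rfl N23367 D76736
theorem N45309 : nd 45309 = n76737 := ndS (p := 23368) (l := 0) rfl N23368 D76737
theorem N45310 : nd 45310 = n76738 := ndS (p := 23368) (l := 1) rfl N23368 D76738
theorem N45311 : nd 45311 = n76751 := ndS (p := 23373) (l := 4) rfl N23373 D76751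
theorem N45312 : nd 45312 = n76752 := ndS (p := 23373) (l := 6) rfl N23373 D76752
theorem N45313 : nd 45313 = n76753 := ndS (p := 23374) (l := 4) rfl N23374 D76753
theorem N45314 : nd 45314 = n76755 := ndS (p := 23376) (l := 6) rfl N23376 D76755
theorem N45315 : nd 45315 = n76756 := ndS (p := 23377) (l := 3) rfl N23377 D76756
theorem N45316 : nd 45316 = n76757 := ndS (p := 23377) (l := 6) rfl N23377 D76757
theorem N45317 : nd 45317 = n76762 := ndS (p := 23379) (l := 4) rfl N23379 D76762
theorem N45318 : nd 45318 = n76763 := ndS (p := 23380) (l := 3) rfl N23380 D76763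
theorem N45319 : nd 45319 = n76764 := ndS (p := 23380) (l := 4) rfl N23380 D76764
theorem N45320 : nd 45320 = n76780 := ndS (p := 23381) (l := 6) rfl N23381 D76780
theorem N45321 : nd 45321 = n76781 := ndS (p := 23382) (l := 6) rfl N23382 D76781
theorem N45322 : nd 45322 = n76782 := ndS (p := 23384) (l := 3) rfl N23384 D76782
theorem N45323 : nd 45323 = n76783 := ndS (p := 23384) (l := 6) rfl N23384 D76783
theorem N45324 : nd 45324 = n76784 := ndS (p := 23385) (l := 0) rfl N23385 D76784
theorem N45325 : nd 45325 = n76785 := ndS (p := 23385) (l := 1) rfl N23385 D76785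
theorem N45326 : nd 45326 = n76787 := ndS (p := 23386) (l := 3) rfl N23386 D76787
theorem N45327 : nd 45327 = n76803 := ndS (p := 23391) (l := 5) rfl N23391 D76803
theorem N45328 : nd 45328 = n76805 := ndS (p := 23393) (l := 0) rfl N23393 D76805
theorem N45329 : nd 45329 = n76806 := ndS (p := 23393) (l := 3) rfl N23393 D76806
theorem N45330 : nd 45330 = n76807 := ndS (p := 23393) (l := 5) rfl N23393 D76807
theorem N45331 : nd 45331 = n76808 := ndS (p := 23394) (l := 0) rfl N23394 D76808
theorem N45332 : nd 45332 = n76809 := ndS (p := 23394) (l := 1) rfl N23394 D76809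
theorem N45333 : nd 45333 = n76810 := ndS (p := 23394) (l := 6) rfl N23394 D76810
theorem N45334 : nd 45334 = n76811 := ndS (p := 23395) (l := 0) rfl N23395 D76811
theorem N45335 : nd 45335 = n76812 := ndS (p := 23395) (l := 1) rfl N23395 D76812
theorem N45336 : nd 45336 = n76813 := ndS (p := 23395) (l := 5) rfl N23395 D76813
theorem N45337 : nd 45337 = n76814 := ndS (p := 23395) (l := 7) rfl N23395 D76814
theorem N45338 : nd 45338 = n76821 := ndS (p := 23396) (l := 4) rfl N23396 D76821
theorem N45339 : nd 45339 = n76822 := ndS (p := 23396) (l := 5) rfl N23396 D76822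
theorem N45340 : nd 45340 = n76827 := ndS (p := 23398) (l := 3) rfl N23398 D76827
theorem N45341 : nd 45341 = n76828 := ndS (p := 23399) (l := 0) rfl N23399 D76828
theorem N45342 : nd 45342 = n76829 := ndS (p := 23399) (l := 1) rfl N23399 D76829
theorem N45343 : nd 45343 = n76830 := ndS (p := 23399) (l := 5) rfl N23399 D76830
theorem N45344 : nd 45344 = n76831 := ndS (p := 23399) (l := 7) rfl N23399 D76831
theorem N45345 : nd 45345 = n76834 := ndS (p := 23400) (l := 5) rfl N23400 D76834
theorem N45346 : nd 45346 = n76837 := ndS (p := 23401) (l := 3) rfl N23401 D76837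
theorem N45347 : nd 45347 = n76839 := ndS (p := 23401) (l := 5) rfl N23401 D76839
theorem N45348 : nd 45348 = n76840 := ndS (p := 23401) (l := 6) rfl N23401 D76840
theorem N45349 : nd 45349 = n76841 := ndS (p := 23402) (l := 0) rfl N23402 D76841
theorem N45350 : nd 45350 = n76842 := ndS (p := 23402) (l := 1) rfl N23402 D76842
theorem N45351 : nd 45351 = n76843 := ndS (p := 23402) (l := 4) rfl N23402 D76843
theorem N45352 : nd 45352 = n76844 := ndS (p := 23402) (l := 7) rfl N23402 D76844
theorem N45353 : nd 45353 = n76854 := ndS (p := 23404) (l := 4) rfl N23404 D76854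
theorem N45354 : nd 45354 = n76858 := ndS (p := 23405) (l := 0) rfl N23405 D76858
theorem N45355 : nd 45355 = n76859 := ndS (p := 23405) (l := 3) rfl N23405 D76859
theorem N45356 : nd 45356 = n76860 := ndS (p := 23405) (l := 5) rfl N23405 D76860
theorem N45357 : nd 45357 = n76865 := ndS (p := 23406) (l := 4) rfl N23406 D76865
theorem N45358 : nd 45358 = n76874 := ndS (p := 23407) (l := 6) rfl N23407 D76874
theorem N45359 : nd 45359 = n76875 := ndS (p := 23408) (l := 4) rfl N23408 D76875
theorem N45360 : nd 45360 = n76887 := ndS (p := 23410) (l := 0) rfl N23410 D76887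
theorem N45361 : nd 45361 = n76888 := ndS (p := 23410) (l := 1) rfl N23410 D76888
theorem N45362 : nd 45362 = n76889 := ndS (p := 23410) (l := 3) rfl N23410 D76889
theorem N45363 : nd 45363 = n76890 := ndS (p := 23410) (l := 5) rfl N23410 D76890
theorem N45364 : nd 45364 = n76893 := ndS (p := 23412) (l := 3) rfl N23412 D76893
theorem N45365 : nd 45365 = n76894 := ndS (p := 23412) (l := 5) rfl N23412 D76894
theorem N45366 : nd 45366 = n76895 := ndS (p := 23412) (l := 6) rfl N23412 D76895
theorem N45367 : nd 45367 = n76899 := ndS (p := 23414) (l := 3) rfl N23414 D76899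
theorem N45368 : nd 45368 = n76900 := ndS (p := 23414) (l := 5) rfl N23414 D76900
theorem N45369 : nd 45369 = n76904 := ndS (p := 23416) (l := 3) rfl N23416 D76904
theorem N45370 : nd 45370 = n76905 := ndS (p := 23416) (l := 5) rfl N23416 D76905
theorem N45371 : nd 45371 = n76907 := ndS (p := 23417) (l := 3) rfl N23417 D76907
theorem N45372 : nd 45372 = n76908 := ndS (p := 23417) (l := 5) rfl N23417 D76908
theorem N45373 : nd 45373 = n76909 := ndS (p := 23417) (l := 6) rfl N23417 D76909
theorem N45374 : nd 45374 = n76911 := ndS (p := 23418) (l := 1) rfl N23418 D76911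
theorem N45375 : nd 45375 = n76912 := ndS (p := 23418) (l := 2) rfl N23418 D76912
theorem N45376 : nd 45376 = n76913 := ndS (p := 23418) (l := 5) rfl N23418 D76913
theorem N45377 : nd 45377 = n76914 := ndS (p := 23419) (l := 0) rfl N23419 D76914
theorem N45378 : nd 45378 = n76915 := ndS (p := 23419) (l := 1) rfl N23419 D76915
theorem N45379 : nd 45379 = n76916 := ndS (p := 23419) (l := 6) rfl N23419 D76916
theorem N45380 : nd 45380 = n76925 := ndS (p := 23420) (l := 5) rfl N23420 D76925
theorem N45381 : nd 45381 = n76928 := ndS (p := 23421) (l := 4) rfl N23421 D76928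
theorem N45382 : nd 45382 = n76929 := ndS (p := 23422) (l := 3) rfl N23422 D76929
theorem N45383 : nd 45383 = n76930 := ndS (p := 23422) (l := 5) rfl N23422 D76930
theorem N45384 : nd 45384 = n76941 := ndS (p := 23423) (l := 6) rfl N23423 D76941
theorem N45385 : nd 45385 = n76942 := ndS (p := 23424) (l := 0) rfl N23424 D76942
theorem N45386 : nd 45386 = n76944 := ndS (p := 23424) (l := 4) rfl N23424 D76944
theorem N45387 : nd 45387 = n76947 := ndS (p := 23426) (l := 3) rfl N23426 D76947
theorem N45388 : nd 45388 = n76960 := ndS (p := 23428) (l := 4) rfl N23428 D76960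
theorem N45389 : nd 45389 = n76962 := ndS (p := 23429) (l := 3) rfl N23429 D76962
theorem N45390 : nd 45390 = n76964 := ndS (p := 23429) (l := 6) rfl N23429 D76964
theorem N45391 : nd 45391 = n76972 := ndS (p := 23432) (l := 0) rfl N23432 D76972
theorem N45392 : nd 45392 = n76973 := ndS (p := 23432) (l := 1) rfl N23432 D76973
theorem N45393 : nd 45393 = n76974 := ndS (p := 23432) (l := 2) rfl N23432 D76974
theorem N45394 : nd 45394 = n76976 := ndS (p := 23432) (l := 7) rfl N23432 D76976
theorem N45395 : nd 45395 = n76977 := ndS (p := 23433) (l := 0) rfl N23433 D76977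
theorem N45396 : nd 45396 = n76979 := ndS (p := 23433) (l := 7) rfl N23433 D76979
theorem N45397 : nd 45397 = n76981 := ndS (p := 23435) (l := 3) rfl N23435 D76981
theorem N45398 : nd 45398 = n76982 := ndS (p := 23435) (l := 4) rfl N23435 D76982
theorem N45399 : nd 45399 = n76984 := ndS (p := 23435) (l := 6) rfl N23435 D76984
theorem N45400 : nd 45400 = n76986 := ndS (p := 23436) (l := 3) rfl N23436 D76986
theorem N45401 : nd 45401 = n76987 := ndS (p := 23436) (l := 4) rfl N23436 D76987
theorem N45402 : nd 45402 = n76989 := ndS (p := 23436) (l := 6) rfl N23436 D76989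
theorem N45403 : nd 45403 = n76996 := ndS (p := 23440) (l := 6) rfl N23440 D76996
theorem N45404 : nd 45404 = n76999 := ndS (p := 23441) (l := 5) rfl N23441 D76999
theorem N45405 : nd 45405 = n77013 := ndS (p := 23442) (l := 4) rfl N23442 D77013
theorem N45406 : nd 45406 = n77015 := ndS (p := 23443) (l := 0) rfl N23443 D77015
theorem N45407 : nd 45407 = n77017 := ndS (p := 23443) (l := 3) rfl N23443 D77017
theorem N45408 : nd 45408 = n77018 := ndS (p := 23443) (l := 5) rfl N23443 D77018
theorem N45409 : nd 45409 = n77019 := ndS (p := 23444) (l := 0) rfl N23444 D77019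
theorem N45410 : nd 45410 = n77020 := ndS (p := 23444) (l := 2) rfl N23444 D77020
theorem N45411 : nd 45411 = n77021 := ndS (p := 23444) (l := 5) rfl N23444 D77021
theorem N45412 : nd 45412 = n77023 := ndS (p := 23445) (l := 6) rfl N23445 D77023
theorem N45413 : nd 45413 = n77024 := ndS (p := 23446) (l := 0) rfl N23446 D77024
theorem N45414 : nd 45414 = n77040 := ndS (p := 23447) (l := 4) rfl N23447 D77040
theorem N45415 : nd 45415 = n77042 := ndS (p := 23448) (l := 0) rfl N23448 D77042
theorem N45416 : nd 45416 = n77043 := ndS (p := 23448) (l := 3) rfl N23448 D77043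
theorem N45417 : nd 45417 = n77044 := ndS (p := 23448) (l := 5) rfl N23448 D77044
theorem N45418 : nd 45418 = n77045 := ndS (p := 23449) (l := 0) rfl N23449 D77045
theorem N45419 : nd 45419 = n77046 := ndS (p := 23449) (l := 1) rfl N23449 D77046
theorem N45420 : nd 45420 = n77047 := ndS (p := 23449) (l := 5) rfl N23449 D77047
theorem N45421 : nd 45421 = n77048 := ndS (p := 23449) (l := 6) rfl N23449 D77048
theorem N45422 : nd 45422 = n77049 := ndS (p := 23450) (l := 6) rfl N23450 D77049
theorem N45423 : nd 45423 = n77056 := ndS (p := 23452) (l := 5) rfl N23452 D77056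
theorem N45424 : nd 45424 = n77058 := ndS (p := 23453) (l := 4) rfl N23453 D77058
theorem N45425 : nd 45425 = n77059 := ndS (p := 23453) (l := 5) rfl N23453 D77059
theorem N45426 : nd 45426 = n77065 := ndS (p := 23456) (l := 3) rfl N23456 D77065
theorem N45427 : nd 45427 = n77066 := ndS (p := 23456) (l := 5) rfl N23456 D77066
theorem N45428 : nd 45428 = n77067 := ndS (p := 23457) (l := 2) rfl N23457 D77067
theorem N45429 : nd 45429 = n77069 := ndS (p := 23458) (l := 6) rfl N23458 D77069
theorem N45430 : nd 45430 = n77106 := ndS (p := 23459) (l := 0) rfl N23459 D77106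
theorem N45431 : nd 45431 = n77107 := ndS (p := 23459) (l := 1) rfl N23459 D77107
theorem N45432 : nd 45432 = n77108 := ndS (p := 23459) (l := 2) rfl N23459 D77108
theorem N45433 : nd 45433 = n77109 := ndS (p := 23459) (l := 5) rfl N23459 D77109
theorem N45434 : nd 45434 = n77111 := ndS (p := 23460) (l := 6) rfl N23460 D77111
theorem N45435 : nd 45435 = n77116 := ndS (p := 23461) (l := 3) rfl N23461 D77116
theorem N45436 : nd 45436 = n77117 := ndS (p := 23461) (l := 6) rfl N23461 D77117
theorem N45437 : nd 45437 = n77118 := ndS (p := 23462) (l := 3) rfl N23462 D77118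
theorem N45438 : nd 45438 = n77119 := ndS (p := 23462) (l := 6) rfl N23462 D77119
theorem N45439 : nd 45439 = n77120 := ndS (p := 23463) (l := 0) rfl N23463 D77120
theorem N45440 : nd 45440 = n77121 := ndS (p := 23463) (l := 1) rfl N23463 D77121
theorem N45441 : nd 45441 = n77122 := ndS (p := 23463) (l := 5) rfl N23463 D77122
theorem N45442 : nd 45442 = n77123 := ndS (p := 23463) (l := 7) rfl N23463 D77123
theorem N45443 : nd 45443 = n77127 := ndS (p := 23464) (l := 3) rfl N23464 D77127
theorem N45444 : nd 45444 = n77128 := ndS (p := 23464) (l := 5) rfl N23464 D77128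
theorem N45445 : nd 45445 = n77132 := ndS (p := 23465) (l := 4) rfl N23465 D77132
theorem N45446 : nd 45446 = n77145 := ndS (p := 23468) (l := 0) rfl N23468 D77145
theorem N45447 : nd 45447 = n77147 := ndS (p := 23468) (l := 3) rfl N23468 D77147
theorem N45448 : nd 45448 = n77148 := ndS (p := 23468) (l := 5) rfl N23468 D77148
theorem N45449 : nd 45449 = n77151 := ndS (p := 23469) (l := 0) rfl N23469 D77151
theorem N45450 : nd 45450 = n77153 := ndS (p := 23469) (l := 4) rfl N23469 D77153
theorem N45451 : nd 45451 = n77163 := ndS (p := 23471) (l := 6) rfl N23471 D77163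
theorem N45452 : nd 45452 = n77164 := ndS (p := 23472) (l := 4) rfl N23472 D77164
theorem N45453 : nd 45453 = n77165 := ndS (p := 23472) (l := 6) rfl N23472 D77165
theorem N45454 : nd 45454 = n77177 := ndS (p := 23474) (l := 4) rfl N23474 D77177
theorem N45455 : nd 45455 = n77179 := ndS (p := 23474) (l := 6) rfl N23474 D77179
theorem N45456 : nd 45456 = n77182 := ndS (p := 23475) (l := 3) rfl N23475 D77182
theorem N45457 : nd 45457 = n77183 := ndS (p := 23475) (l := 5) rfl N23475 D77183
theorem N45458 : nd 45458 = n77186 := ndS (p := 23477) (l := 3) rfl N23477 D77186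
theorem N45459 : nd 45459 = n77187 := ndS (p := 23477) (l := 5) rfl N23477 D77187
theorem N45460 : nd 45460 = n77188 := ndS (p := 23477) (l := 6) rfl N23477 D77188
theorem N45461 : nd 45461 = n77189 := ndS (p := 23478) (l := 0) rfl N23478 D77189
theorem N45462 : nd 45462 = n77191 := ndS (p := 23478) (l := 7) rfl N23478 D77191
theorem N45463 : nd 45463 = n77192 := ndS (p := 23479) (l := 3) rfl N23479 D77192
theorem N45464 : nd 45464 = n77193 := ndS (p := 23479) (l := 5) rfl N23479 D77193
theorem N45465 : nd 45465 = n77194 := ndS (p := 23479) (l := 6) rfl N23479 D77194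
theorem N45466 : nd 45466 = n77199 := ndS (p := 23481) (l := 3) rfl N23481 D77199
theorem N45467 : nd 45467 = n77200 := ndS (p := 23481) (l := 5) rfl N23481 D77200
theorem N45468 : nd 45468 = n77206 := ndS (p := 23482) (l := 5) rfl N23482 D77206
theorem N45469 : nd 45469 = n77208 := ndS (p := 23483) (l := 0) rfl N23483 D77208
theorem N45470 : nd 45470 = n77209 := ndS (p := 23483) (l := 1) rfl N23483 D77209
theorem N45471 : nd 45471 = n77210 := ndS (p := 23483) (l := 2) rfl N23483 D77210
theorem N45472 : nd 45472 = n77211 := ndS (p := 23483) (l := 5) rfl N23483 D77211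
theorem N45473 : nd 45473 = n77212 := ndS (p := 23484) (l := 0) rfl N23484 D77212
theorem N45474 : nd 45474 = n77213 := ndS (p := 23484) (l := 1) rfl N23484 D77213
theorem N45475 : nd 45475 = n77214 := ndS (p := 23484) (l := 4) rfl N23484 D77214
theorem N45476 : nd 45476 = n77215 := ndS (p := 23484) (l := 6) rfl N23484 D77215
theorem N45477 : nd 45477 = n77223 := ndS (p := 23485) (l := 3) rfl N23485 D77223
theorem N45478 : nd 45478 = n77227 := ndS (p := 23486) (l := 6) rfl N23486 D77227
theorem N45479 : nd 45479 = n77242 := ndS (p := 23489) (l := 0) rfl N23489 D77242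
theorem N45480 : nd 45480 = n77243 := ndS (p := 23489) (l := 1) rfl N23489 D77243
theorem N45481 : nd 45481 = n77244 := ndS (p := 23489) (l := 2) rfl N23489 D77244
theorem N45482 : nd 45482 = n77245 := ndS (p := 23489) (l := 5) rfl N23489 D77245
theorem N45483 : nd 45483 = n77246 := ndS (p := 23489) (l := 7) rfl N23489 D77246
theorem N45484 : nd 45484 = n77248 := ndS (p := 23490) (l := 7) rfl N23490 D77248
theorem N45485 : nd 45485 = n77250 := ndS (p := 23492) (l := 3) rfl N23492 D77250
theorem N45486 : nd 45486 = n77251 := ndS (p := 23492) (l := 4) rfl N23492 D77251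
theorem N45487 : nd 45487 = n77255 := ndS (p := 23493) (l := 3) rfl N23493 D77255
theorem N45488 : nd 45488 = n77256 := ndS (p := 23493) (l := 4) rfl N23493 D77256
theorem N45489 : nd 45489 = n77258 := ndS (p := 23493) (l := 6) rfl N23493 D77258
theorem N45490 : nd 45490 = n77259 := ndS (p := 23495) (l := 0) rfl N23495 D77259
theorem N45491 : nd 45491 = n77260 := ndS (p := 23495) (l := 3) rfl N23495 D77260
theorem N45492 : nd 45492 = n77261 := ndS (p := 23495) (l := 5) rfl N23495 D77261
theorem N45493 : nd 45493 = n77262 := ndS (p := 23496) (l := 4) rfl N23496 D77262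
theorem N45494 : nd 45494 = n77263 := ndS (p := 23497) (l := 0) rfl N23497 D77263
theorem N45495 : nd 45495 = n77264 := ndS (p := 23497) (l := 1) rfl N23497 D77264
theorem N45496 : nd 45496 = n77265 := ndS (p := 23497) (l := 3) rfl N23497 D77265
theorem N45497 : nd 45497 = n77266 := ndS (p := 23497) (l := 5) rfl N23497 D77266
theorem N45498 : nd 45498 = n77268 := ndS (p := 23498) (l := 1) rfl N23498 D77268
theorem N45499 : nd 45499 = n77308 := ndS (p := 23500) (l := 6) rfl N23500 D77308
theorem N45500 : nd 45500 = n77311 := ndS (p := 23501) (l := 5) rfl N23501 D77311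
theorem N45501 : nd 45501 = n77326 := ndS (p := 23505) (l := 5) rfl N23505 D77326
theorem N45502 : nd 45502 = n77327 := ndS (p := 23505) (l := 6) rfl N23505 D77327
theorem N45503 : nd 45503 = n77336 := ndS (p := 23507) (l := 5) rfl N23507 D77336
theorem N45504 : nd 45504 = n77338 := ndS (p := 23508) (l := 5) rfl N23508 D77338
theorem N45505 : nd 45505 = n77339 := ndS (p := 23508) (l := 6) rfl N23508 D77339
theorem N45506 : nd 45506 = n77342 := ndS (p := 23509) (l := 4) rfl N23509 D77342
theorem N45507 : nd 45507 = n77347 := ndS (p := 23513) (l := 5) rfl N23513 D77347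
theorem N45508 : nd 45508 = n77363 := ndS (p := 23516) (l := 2) rfl N23516 D77363
theorem N45509 : nd 45509 = n77369 := ndS (p := 23517) (l := 3) rfl N23517 D77369
theorem N45510 : nd 45510 = n77371 := ndS (p := 23518) (l := 3) rfl N23518 D77371
theorem N45511 : nd 45511 = n77373 := ndS (p := 23518) (l := 6) rfl N23518 D77373
theorem N45512 : nd 45512 = n77374 := ndS (p := 23519) (l := 0) rfl N23519 D77374
theorem N45513 : nd 45513 = n77375 := ndS (p := 23519) (l := 1) rfl N23519 D77375
theorem N45514 : nd 45514 = n77377 := ndS (p := 23519) (l := 7) rfl N23519 D77377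
theorem N45515 : nd 45515 = n77378 := ndS (p := 23521) (l := 3) rfl N23521 D77378
theorem N45516 : nd 45516 = n77419 := ndS (p := 23522) (l := 6) rfl N23522 D77419
theorem N45517 : nd 45517 = n77434 := ndS (p := 23526) (l := 0) rfl N23526 D77434
theorem N45518 : nd 45518 = n77435 := ndS (p := 23526) (l := 1) rfl N23526 D77435
theorem N45519 : nd 45519 = n77436 := ndS (p := 23526) (l := 5) rfl N23526 D77436
theorem N45520 : nd 45520 = n77437 := ndS (p := 23526) (l := 7) rfl N23526 D77437
theorem N45521 : nd 45521 = n77442 := ndS (p := 23528) (l := 3) rfl N23528 D77442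
theorem N45522 : nd 45522 = n77443 := ndS (p := 23528) (l := 5) rfl N23528 D77443
theorem N45523 : nd 45523 = n77444 := ndS (p := 23528) (l := 6) rfl N23528 D77444
theorem N45524 : nd 45524 = n77449 := ndS (p := 23531) (l := 3) rfl N23531 D77449
theorem N45525 : nd 45525 = n77450 := ndS (p := 23531) (l := 5) rfl N23531 D77450
theorem N45526 : nd 45526 = n77459 := ndS (p := 23533) (l := 3) rfl N23533 D77459
theorem N45527 : nd 45527 = n77461 := ndS (p := 23533) (l := 6) rfl N23533 D77461
theorem N45528 : nd 45528 = n77462 := ndS (p := 23534) (l := 6) rfl N23534 D77462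
theorem N45529 : nd 45529 = n77463 := ndS (p := 23535) (l := 0) rfl N23535 D77463
theorem N45530 : nd 45530 = n77465 := ndS (p := 23535) (l := 5) rfl N23535 D77465
theorem N45531 : nd 45531 = n77468 := ndS (p := 23536) (l := 1) rfl N23536 D77468
theorem N45532 : nd 45532 = n77469 := ndS (p := 23536) (l := 5) rfl N23536 D77469
theorem N45533 : nd 45533 = n77470 := ndS (p := 23536) (l := 7) rfl N23536 D77470
theorem N45534 : nd 45534 = n77472 := ndS (p := 23537) (l := 3) rfl N23537 D77472
theorem N45535 : nd 45535 = n77476 := ndS (p := 23538) (l := 3) rfl N23538 D77476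
theorem N45536 : nd 45536 = n77480 := ndS (p := 23539) (l := 0) rfl N23539 D77480
theorem N45537 : nd 45537 = n77488 := ndS (p := 23541) (l := 5) rfl N23541 D77488
theorem N45538 : nd 45538 = n77491 := ndS (p := 23542) (l := 3) rfl N23542 D77491
theorem N45539 : nd 45539 = n77538 := ndS (p := 23547) (l := 0) rfl N23547 D77538
theorem N45540 : nd 45540 = n77539 := ndS (p := 23547) (l := 1) rfl N23547 D77539
theorem N45541 : nd 45541 = n77542 := ndS (p := 23548) (l := 6) rfl N23548 D77542
theorem N45542 : nd 45542 = n77548 := ndS (p := 23550) (l := 3) rfl N23550 D77548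
theorem N45543 : nd 45543 = n77550 := ndS (p := 23550) (l := 5) rfl N23550 D77550
theorem N45544 : nd 45544 = n77557 := ndS (p := 23551) (l := 0) rfl N23551 D77557
theorem N45545 : nd 45545 = n77558 := ndS (p := 23551) (l := 1) rfl N23551 D77558
theorem N45546 : nd 45546 = n77602 := ndS (p := 23555) (l := 0) rfl N23555 D77602
theorem N45547 : nd 45547 = n77604 := ndS (p := 23555) (l := 5) rfl N23555 D77604
theorem N45548 : nd 45548 = n77605 := ndS (p := 23555) (l := 6) rfl N23555 D77605
theorem N45549 : nd 45549 = n77606 := ndS (p := 23556) (l := 6) rfl N23556 D77606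
theorem N45550 : nd 45550 = n77607 := ndS (p := 23557) (l := 5) rfl N23557 D77607
theorem N45551 : nd 45551 = n77608 := ndS (p := 23559) (l := 3) rfl N23559 D77608
theorem N45552 : nd 45552 = n77609 := ndS (p := 23559) (l := 6) rfl N23559 D77609
theorem N45553 : nd 45553 = n77610 := ndS (p := 23560) (l := 0) rfl N23560 D77610
theorem N45554 : nd 45554 = n77611 := ndS (p := 23560) (l := 1) rfl N23560 D77611
theorem N45555 : nd 45555 = n77612 := ndS (p := 23560) (l := 5) rfl N23560 D77612
theorem N45556 : nd 45556 = n77614 := ndS (p := 23561) (l := 0) rfl N23561 D77614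
theorem N45557 : nd 45557 = n77615 := ndS (p := 23561) (l := 1) rfl N23561 D77615
theorem N45558 : nd 45558 = n77618 := ndS (p := 23562) (l := 3) rfl N23562 D77618
theorem N45559 : nd 45559 = n77621 := ndS (p := 23563) (l := 0) rfl N23563 D77621
theorem N45560 : nd 45560 = n77622 := ndS (p := 23563) (l := 1) rfl N23563 D77622
theorem N45561 : nd 45561 = n77624 := ndS (p := 23563) (l := 7) rfl N23563 D77624
theorem N45562 : nd 45562 = n77625 := ndS (p := 23565) (l := 3) rfl N23565 D77625
theorem N45563 : nd 45563 = n77627 := ndS (p := 23565) (l := 6) rfl N23565 D77627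
theorem N45564 : nd 45564 = n77630 := ndS (p := 23567) (l := 6) rfl N23567 D77630
theorem N45565 : nd 45565 = n77631 := ndS (p := 23568) (l := 3) rfl N23568 D77631
theorem N45566 : nd 45566 = n77633 := ndS (p := 23568) (l := 6) rfl N23568 D77633
theorem N45567 : nd 45567 = n77634 := ndS (p := 23569) (l := 4) rfl N23569 D77634
theorem N45568 : nd 45568 = n77635 := ndS (p := 23569) (l := 6) rfl N23569 D77635
theorem N45569 : nd 45569 = n77638 := ndS (p := 23571) (l := 4) rfl N23571 D77638
theorem N45570 : nd 45570 = n77640 := ndS (p := 23572) (l := 0) rfl N23572 D77640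
theorem N45571 : nd 45571 = n77641 := ndS (p := 23572) (l := 1) rfl N23572 D77641
theorem N45572 : nd 45572 = n77642 := ndS (p := 23572) (l := 5) rfl N23572 D77642
theorem N45573 : nd 45573 = n77644 := ndS (p := 23573) (l := 0) rfl N23573 D77644
theorem N45574 : nd 45574 = n77645 := ndS (p := 23573) (l := 1) rfl N23573 D77645
theorem N45575 : nd 45575 = n77646 := ndS (p := 23573) (l := 5) rfl N23573 D77646
theorem N45576 : nd 45576 = n77647 := ndS (p := 23573) (l := 7) rfl N23573 D77647
theorem N45577 : nd 45577 = n77659 := ndS (p := 23574) (l := 1) rfl N23574 D77659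
theorem N45578 : nd 45578 = n77662 := ndS (p := 23575) (l := 3) rfl N23575 D77662
theorem N45579 : nd 45579 = n77663 := ndS (p := 23575) (l := 6) rfl N23575 D77663
theorem N45580 : nd 45580 = n77667 := ndS (p := 23577) (l := 5) rfl N23577 D77667
theorem N45581 : nd 45581 = n77668 := ndS (p := 23577) (l := 7) rfl N23577 D77668
theorem N45582 : nd 45582 = n77669 := ndS (p := 23578) (l := 0) rfl N23578 D77669
theorem N45583 : nd 45583 = n77670 := ndS (p := 23578) (l := 1) rfl N23578 D77670
theorem N45584 : nd 45584 = n77683 := ndS (p := 23579) (l := 0) rfl N23579 D77683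
theorem N45585 : nd 45585 = n77684 := ndS (p := 23579) (l := 1) rfl N23579 D77684
theorem N45586 : nd 45586 = n77686 := ndS (p := 23579) (l := 7) rfl N23579 D77686
theorem N45587 : nd 45587 = n77687 := ndS (p := 23581) (l := 6) rfl N23581 D77687
theorem N45588 : nd 45588 = n77688 := ndS (p := 23582) (l := 0) rfl N23582 D77688
theorem N45589 : nd 45589 = n77690 := ndS (p := 23582) (l := 5) rfl N23582 D77690
theorem N45590 : nd 45590 = n77691 := ndS (p := 23582) (l := 7) rfl N23582 D77691
theorem N45591 : nd 45591 = n77704 := ndS (p := 23584) (l := 3) rfl N23584 D77704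
theorem N45592 : nd 45592 = n77705 := ndS (p := 23584) (l := 4) rfl N23584 D77705
theorem N45593 : nd 45593 = n77710 := ndS (p := 23585) (l := 4) rfl N23585 D77710
theorem N45594 : nd 45594 = n77712 := ndS (p := 23585) (l := 6) rfl N23585 D77712
theorem N45595 : nd 45595 = n77713 := ndS (p := 23586) (l := 0) rfl N23586 D77713
theorem N45596 : nd 45596 = n77716 := ndS (p := 23586) (l := 7) rfl N23586 D77716
theorem N45597 : nd 45597 = n77723 := ndS (p := 23588) (l := 0) rfl N23588 D77723
theorem N45598 : nd 45598 = n77725 := ndS (p := 23588) (l := 2) rfl N23588 D77725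
theorem N45599 : nd 45599 = n77726 := ndS (p := 23588) (l := 4) rfl N23588 D77726
theorem N45600 : nd 45600 = n77728 := ndS (p := 23588) (l := 6) rfl N23588 D77728
theorem N45601 : nd 45601 = n77745 := ndS (p := 23591) (l := 1) rfl N23591 D77745
theorem N45602 : nd 45602 = n77746 := ndS (p := 23591) (l := 2) rfl N23591 D77746
theorem N45603 : nd 45603 = n77747 := ndS (p := 23591) (l := 4) rfl N23591 D77747
theorem N45604 : nd 45604 = n77748 := ndS (p := 23591) (l := 5) rfl N23591 D77748
theorem N45605 : nd 45605 = n77759 := ndS (p := 23593) (l := 3) rfl N23593 D77759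
theorem N45606 : nd 45606 = n77762 := ndS (p := 23593) (l := 6) rfl N23593 D77762
theorem N45607 : nd 45607 = n77764 := ndS (p := 23594) (l := 3) rfl N23594 D77764
theorem N45608 : nd 45608 = n77783 := ndS (p := 23597) (l := 5) rfl N23597 D77783
theorem N45609 : nd 45609 = n77786 := ndS (p := 23598) (l := 5) rfl N23598 D77786
theorem N45610 : nd 45610 = n77787 := ndS (p := 23599) (l := 0) rfl N23599 D77787
theorem N45611 : nd 45611 = n77788 := ndS (p := 23599) (l := 1) rfl N23599 D77788
theorem N45612 : nd 45612 = n77789 := ndS (p := 23599) (l := 4) rfl N23599 D77789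
theorem N45613 : nd 45613 = n77794 := ndS (p := 23601) (l := 3) rfl N23601 D77794
theorem N45614 : nd 45614 = n77807 := ndS (p := 23602) (l := 0) rfl N23602 D77807
theorem N45615 : nd 45615 = n77828 := ndS (p := 23605) (l := 5) rfl N23605 D77828
theorem N45616 : nd 45616 = n77831 := ndS (p := 23606) (l := 3) rfl N23606 D77831
theorem N45617 : nd 45617 = n77832 := ndS (p := 23606) (l := 5) rfl N23606 D77832
theorem N45618 : nd 45618 = n77834 := ndS (p := 23607) (l := 0) rfl N23607 D77834
theorem N45619 : nd 45619 = n77835 := ndS (p := 23607) (l := 1) rfl N23607 D77835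
theorem N45620 : nd 45620 = n77836 := ndS (p := 23607) (l := 4) rfl N23607 D77836
theorem N45621 : nd 45621 = n77843 := ndS (p := 23608) (l := 1) rfl N23608 D77843
theorem N45622 : nd 45622 = n77845 := ndS (p := 23608) (l := 5) rfl N23608 D77845
theorem N45623 : nd 45623 = n77862 := ndS (p := 23610) (l := 2) rfl N23610 D77862
theorem N45624 : nd 45624 = n77863 := ndS (p := 23610) (l := 4) rfl N23610 D77863
theorem N45625 : nd 45625 = n77865 := ndS (p := 23610) (l := 6) rfl N23610 D77865
theorem N45626 : nd 45626 = n77908 := ndS (p := 23613) (l := 4) rfl N23613 D77908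
theorem N45627 : nd 45627 = n77939 := ndS (p := 23614) (l := 6) rfl N23614 D77939
theorem N45628 : nd 45628 = n77941 := ndS (p := 23615) (l := 5) rfl N23615 D77941
theorem N45629 : nd 45629 = n77942 := ndS (p := 23615) (l := 6) rfl N23615 D77942
theorem N45630 : nd 45630 = n77943 := ndS (p := 23616) (l := 0) rfl N23616 D77943
theorem N45631 : nd 45631 = n77944 := ndS (p := 23616) (l := 1) rfl N23616 D77944
theorem N45632 : nd 45632 = n77946 := ndS (p := 23617) (l := 3) rfl N23617 D77946
theorem N45633 : nd 45633 = n77965 := ndS (p := 23619) (l := 5) rfl N23619 D77965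
theorem N45634 : nd 45634 = n77966 := ndS (p := 23619) (l := 6) rfl N23619 D77966
theorem N45635 : nd 45635 = n77967 := ndS (p := 23620) (l := 0) rfl N23620 D77967
theorem N45636 : nd 45636 = n77968 := ndS (p := 23620) (l := 1) rfl N23620 D77968
theorem N45637 : nd 45637 = n78004 := ndS (p := 23623) (l := 4) rfl N23623 D78004
theorem N45638 : nd 45638 = n78008 := ndS (p := 23624) (l := 3) rfl N23624 D78008
theorem N45639 : nd 45639 = n78009 := ndS (p := 23624) (l := 4) rfl N23624 D78009
theorem N45640 : nd 45640 = n78044 := ndS (p := 23626) (l := 0) rfl N23626 D78044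
theorem N45641 : nd 45641 = n78045 := ndS (p := 23626) (l := 1) rfl N23626 D78045
theorem N45642 : nd 45642 = n78047 := ndS (p := 23627) (l := 6) rfl N23627 D78047
theorem N45643 : nd 45643 = n78059 := ndS (p := 23628) (l := 0) rfl N23628 D78059
theorem N45644 : nd 45644 = n78060 := ndS (p := 23628) (l := 1) rfl N23628 D78060
theorem N45645 : nd 45645 = n78061 := ndS (p := 23628) (l := 4) rfl N23628 D78061
theorem N45646 : nd 45646 = n78063 := ndS (p := 23629) (l := 0) rfl N23629 D78063
theorem N45647 : nd 45647 = n78064 := ndS (p := 23629) (l := 1) rfl N23629 D78064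
theorem N45648 : nd 45648 = n78065 := ndS (p := 23629) (l := 2) rfl N23629 D78065
theorem N45649 : nd 45649 = n78070 := ndS (p := 23630) (l := 6) rfl N23630 D78070
theorem N45650 : nd 45650 = n78071 := ndS (p := 23631) (l := 0) rfl N23631 D78071
theorem N45651 : nd 45651 = n78072 := ndS (p := 23631) (l := 1) rfl N23631 D78072
theorem N45652 : nd 45652 = n78073 := ndS (p := 23631) (l := 5) rfl N23631 D78073
theorem N45653 : nd 45653 = n78074 := ndS (p := 23631) (l := 7) rfl N23631 D78074
theorem N45654 : nd 45654 = n78084 := ndS (p := 23632) (l := 0) rfl N23632 D78084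
theorem N45655 : nd 45655 = n78085 := ndS (p := 23632) (l := 1) rfl N23632 D78085
theorem N45656 : nd 45656 = n78086 := ndS (p := 23632) (l := 4) rfl N23632 D78086
theorem N45657 : nd 45657 = n78097 := ndS (p := 23633) (l := 5) rfl N23633 D78097
theorem N45658 : nd 45658 = n78102 := ndS (p := 23634) (l := 3) rfl N23634 D78102
theorem N45659 : nd 45659 = n78103 := ndS (p := 23634) (l := 5) rfl N23634 D78103
theorem N45660 : nd 45660 = n78108 := ndS (p := 23635) (l := 4) rfl N23635 D78108
theorem N45661 : nd 45661 = n78109 := ndS (p := 23635) (l := 6) rfl N23635 D78109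
theorem N45662 : nd 45662 = n78131 := ndS (p := 23636) (l := 3) rfl N23636 D78131
theorem N45663 : nd 45663 = n78132 := ndS (p := 23636) (l := 4) rfl N23636 D78132
theorem N45664 : nd 45664 = n78134 := ndS (p := 23636) (l := 6) rfl N23636 D78134
theorem N45665 : nd 45665 = n78137 := ndS (p := 23637) (l := 4) rfl N23637 D78137
theorem N45666 : nd 45666 = n78140 := ndS (p := 23638) (l := 0) rfl N23638 D78140
theorem N45667 : nd 45667 = n78141 := ndS (p := 23638) (l := 1) rfl N23638 D78141
theorem N45668 : nd 45668 = n78142 := ndS (p := 23638) (l := 3) rfl N23638 D78142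
theorem N45669 : nd 45669 = n78143 := ndS (p := 23638) (l := 5) rfl N23638 D78143
theorem N45670 : nd 45670 = n78144 := ndS (p := 23638) (l := 7) rfl N23638 D78144
theorem N45671 : nd 45671 = n78148 := ndS (p := 23641) (l := 0) rfl N23641 D78148
theorem N45672 : nd 45672 = n78150 := ndS (p := 23641) (l := 2) rfl N23641 D78150
theorem N45673 : nd 45673 = n78151 := ndS (p := 23641) (l := 5) rfl N23641 D78151
theorem N45674 : nd 45674 = n78152 := ndS (p := 23641) (l := 7) rfl N23641 D78152
theorem N45675 : nd 45675 = n78161 := ndS (p := 23644) (l := 3) rfl N23644 D78161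
theorem N45676 : nd 45676 = n78162 := ndS (p := 23644) (l := 5) rfl N23644 D78162
theorem N45677 : nd 45677 = n78167 := ndS (p := 23645) (l := 4) rfl N23645 D78167
theorem N45678 : nd 45678 = n78186 := ndS (p := 23646) (l := 3) rfl N23646 D78186
theorem N45679 : nd 45679 = n78187 := ndS (p := 23646) (l := 5) rfl N23646 D78187
theorem N45680 : nd 45680 = n78189 := ndS (p := 23647) (l := 4) rfl N23647 D78189
theorem N45681 : nd 45681 = n78191 := ndS (p := 23648) (l := 3) rfl N23648 D78191
theorem N45682 : nd 45682 = n78192 := ndS (p := 23648) (l := 5) rfl N23648 D78192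
theorem N45683 : nd 45683 = n78196 := ndS (p := 23649) (l := 5) rfl N23649 D78196
theorem N45684 : nd 45684 = n78197 := ndS (p := 23649) (l := 6) rfl N23649 D78197
theorem N45685 : nd 45685 = n78199 := ndS (p := 23650) (l := 1) rfl N23650 D78199
theorem N45686 : nd 45686 = n78200 := ndS (p := 23650) (l := 4) rfl N23650 D78200
theorem N45687 : nd 45687 = n78201 := ndS (p := 23650) (l := 6) rfl N23650 D78201
theorem N45688 : nd 45688 = n78207 := ndS (p := 23652) (l := 4) rfl N23652 D78207
theorem N45689 : nd 45689 = n78211 := ndS (p := 23653) (l := 3) rfl N23653 D78211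
theorem N45690 : nd 45690 = n78212 := ndS (p := 23653) (l := 4) rfl N23653 D78212
theorem N45691 : nd 45691 = n78215 := ndS (p := 23654) (l := 0) rfl N23654 D78215
theorem N45692 : nd 45692 = n78216 := ndS (p := 23654) (l := 1) rfl N23654 D78216
theorem N45693 : nd 45693 = n78217 := ndS (p := 23654) (l := 3) rfl N23654 D78217
theorem N45694 : nd 45694 = n78218 := ndS (p := 23654) (l := 5) rfl N23654 D78218
theorem N45695 : nd 45695 = n78224 := ndS (p := 23656) (l := 4) rfl N23656 D78224
theorem N45696 : nd 45696 = n78233 := ndS (p := 23658) (l := 3) rfl N23658 D78233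
theorem N45697 : nd 45697 = n78234 := ndS (p := 23658) (l := 4) rfl N23658 D78234
theorem N45698 : nd 45698 = n78235 := ndS (p := 23658) (l := 5) rfl N23658 D78235
theorem N45699 : nd 45699 = n78242 := ndS (p := 23659) (l := 5) rfl N23659 D78242
theorem N45700 : nd 45700 = n78243 := ndS (p := 23659) (l := 6) rfl N23659 D78243
theorem N45701 : nd 45701 = n78244 := ndS (p := 23660) (l := 0) rfl N23660 D78244
theorem N45702 : nd 45702 = n78245 := ndS (p := 23660) (l := 1) rfl N23660 D78245
theorem N45703 : nd 45703 = n78257 := ndS (p := 23664) (l := 3) rfl N23664 D78257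
theorem N45704 : nd 45704 = n78258 := ndS (p := 23664) (l := 5) rfl N23664 D78258
theorem N45705 : nd 45705 = n78261 := ndS (p := 23666) (l := 3) rfl N23666 D78261
theorem N45706 : nd 45706 = n78262 := ndS (p := 23666) (l := 5) rfl N23666 D78262
theorem N45707 : nd 45707 = n78263 := ndS (p := 23667) (l := 3) rfl N23667 D78263
theorem N45708 : nd 45708 = n78264 := ndS (p := 23667) (l := 5) rfl N23667 D78264
theorem N45709 : nd 45709 = n78265 := ndS (p := 23668) (l := 0) rfl N23668 D78265
theorem N45710 : nd 45710 = n78266 := ndS (p := 23668) (l := 1) rfl N23668 D78266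
theorem N45711 : nd 45711 = n78267 := ndS (p := 23668) (l := 2) rfl N23668 D78267
theorem N45712 : nd 45712 = n78268 := ndS (p := 23668) (l := 5) rfl N23668 D78268
theorem N45713 : nd 45713 = n78269 := ndS (p := 23668) (l := 6) rfl N23668 D78269
theorem N45714 : nd 45714 = n78270 := ndS (p := 23669) (l := 6) rfl N23669 D78270
theorem N45715 : nd 45715 = n78272 := ndS (p := 23671) (l := 3) rfl N23671 D78272
theorem N45716 : nd 45716 = n78273 := ndS (p := 23671) (l := 5) rfl N23671 D78273
theorem N45717 : nd 45717 = n78274 := ndS (p := 23672) (l := 4) rfl N23672 D78274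
theorem N45718 : nd 45718 = n78276 := ndS (p := 23673) (l := 3) rfl N23673 D78276
theorem N45719 : nd 45719 = n78279 := ndS (p := 23674) (l := 4) rfl N23674 D78279
theorem N45720 : nd 45720 = n78280 := ndS (p := 23674) (l := 6) rfl N23674 D78280
theorem N45721 : nd 45721 = n78283 := ndS (p := 23675) (l := 5) rfl N23675 D78283
theorem N45722 : nd 45722 = n78290 := ndS (p := 23676) (l := 3) rfl N23676 D78290
theorem N45723 : nd 45723 = n78291 := ndS (p := 23676) (l := 5) rfl N23676 D78291
theorem N45724 : nd 45724 = n78293 := ndS (p := 23677) (l := 1) rfl N23677 D78293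
theorem N45725 : nd 45725 = n78294 := ndS (p := 23677) (l := 2) rfl N23677 D78294
theorem N45726 : nd 45726 = n78306 := ndS (p := 23679) (l := 4) rfl N23679 D78306
theorem N45727 : nd 45727 = n78308 := ndS (p := 23679) (l := 6) rfl N23679 D78308
theorem N45728 : nd 45728 = n78309 := ndS (p := 23680) (l := 4) rfl N23680 D78309
theorem N45729 : nd 45729 = n78310 := ndS (p := 23680) (l := 6) rfl N23680 D78310
theorem N45730 : nd 45730 = n78312 := ndS (p := 23681) (l := 1) rfl N23681 D78312
theorem N45731 : nd 45731 = n78313 := ndS (p := 23681) (l := 3) rfl N23681 D78313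
theorem N45732 : nd 45732 = n78314 := ndS (p := 23681) (l := 5) rfl N23681 D78314
theorem N45733 : nd 45733 = n78315 := ndS (p := 23681) (l := 6) rfl N23681 D78315
theorem N45734 : nd 45734 = n78316 := ndS (p := 23682) (l := 0) rfl N23682 D78316
theorem N45735 : nd 45735 = n78325 := ndS (p := 23683) (l := 4) rfl N23683 D78325
theorem N45736 : nd 45736 = n78327 := ndS (p := 23684) (l := 4) rfl N23684 D78327
theorem N45737 : nd 45737 = n78334 := ndS (p := 23685) (l := 3) rfl N23685 D78334
theorem N45738 : nd 45738 = n78335 := ndS (p := 23685) (l := 4) rfl N23685 D78335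
theorem N45739 : nd 45739 = n78336 := ndS (p := 23685) (l := 5) rfl N23685 D78336
theorem N45740 : nd 45740 = n78339 := ndS (p := 23686) (l := 6) rfl N23686 D78339
theorem N45741 : nd 45741 = n78344 := ndS (p := 23687) (l := 1) rfl N23687 D78344
theorem N45742 : nd 45742 = n78348 := ndS (p := 23689) (l := 3) rfl N23689 D78348
theorem N45743 : nd 45743 = n78349 := ndS (p := 23691) (l := 0) rfl N23691 D78349
theorem N45744 : nd 45744 = n78350 := ndS (p := 23691) (l := 1) rfl N23691 D78350
theorem N45745 : nd 45745 = n78351 := ndS (p := 23691) (l := 2) rfl N23691 D78351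
theorem N45746 : nd 45746 = n78352 := ndS (p := 23691) (l := 5) rfl N23691 D78352
theorem N45747 : nd 45747 = n78353 := ndS (p := 23691) (l := 6) rfl N23691 D78353
theorem N45748 : nd 45748 = n78361 := ndS (p := 23694) (l := 3) rfl N23694 D78361
theorem N45749 : nd 45749 = n78373 := ndS (p := 23695) (l := 4) rfl N23695 D78373
theorem N45750 : nd 45750 = n78376 := ndS (p := 23696) (l := 3) rfl N23696 D78376
theorem N45751 : nd 45751 = n78377 := ndS (p := 23696) (l := 5) rfl N23696 D78377
theorem N45752 : nd 45752 = n78383 := ndS (p := 23697) (l := 2) rfl N23697 D78383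
theorem N45753 : nd 45753 = n78384 := ndS (p := 23697) (l := 5) rfl N23697 D78384
theorem N45754 : nd 45754 = n78385 := ndS (p := 23698) (l := 0) rfl N23698 D78385
theorem N45755 : nd 45755 = n78391 := ndS (p := 23700) (l := 3) rfl N23700 D78391
theorem N45756 : nd 45756 = n78392 := ndS (p := 23700) (l := 5) rfl N23700 D78392
theorem N45757 : nd 45757 = n78396 := ndS (p := 23701) (l := 0) rfl N23701 D78396
theorem N45758 : nd 45758 = n78397 := ndS (p := 23701) (l := 1) rfl N23701 D78397
theorem N45759 : nd 45759 = n78398 := ndS (p := 23701) (l := 2) rfl N23701 D78398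
theorem N45760 : nd 45760 = n78399 := ndS (p := 23701) (l := 5) rfl N23701 D78399
theorem N45761 : nd 45761 = n78406 := ndS (p := 23703) (l := 0) rfl N23703 D78406
theorem N45762 : nd 45762 = n78408 := ndS (p := 23703) (l := 2) rfl N23703 D78408
theorem N45763 : nd 45763 = n78409 := ndS (p := 23703) (l := 4) rfl N23703 D78409
theorem N45764 : nd 45764 = n78410 := ndS (p := 23703) (l := 5) rfl N23703 D78410
theorem N45765 : nd 45765 = n78411 := ndS (p := 23704) (l := 0) rfl N23704 D78411
theorem N45766 : nd 45766 = n78412 := ndS (p := 23704) (l := 1) rfl N23704 D78412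
theorem N45767 : nd 45767 = n78415 := ndS (p := 23705) (l := 1) rfl N23705 D78415
theorem N45768 : nd 45768 = n78416 := ndS (p := 23705) (l := 2) rfl N23705 D78416
theorem N45769 : nd 45769 = n78417 := ndS (p := 23705) (l := 4) rfl N23705 D78417
theorem N45770 : nd 45770 = n78424 := ndS (p := 23707) (l := 3) rfl N23707 D78424
theorem N45771 : nd 45771 = n78425 := ndS (p := 23707) (l := 4) rfl N23707 D78425
theorem N45772 : nd 45772 = n78426 := ndS (p := 23707) (l := 5) rfl N23707 D78426
theorem N45773 : nd 45773 = n78427 := ndS (p := 23707) (l := 6) rfl N23707 D78427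
theorem N45774 : nd 45774 = n78429 := ndS (p := 23708) (l := 3) rfl N23708 D78429
theorem N45775 : nd 45775 = n78431 := ndS (p := 23708) (l := 5) rfl N23708 D78431
theorem N45776 : nd 45776 = n78435 := ndS (p := 23709) (l := 5) rfl N23709 D78435
theorem N45777 : nd 45777 = n78436 := ndS (p := 23710) (l := 0) rfl N23710 D78436
theorem N45778 : nd 45778 = n78437 := ndS (p := 23710) (l := 1) rfl N23710 D78437
theorem N45779 : nd 45779 = n78438 := ndS (p := 23710) (l := 4) rfl N23710 D78438
theorem N45780 : nd 45780 = n78439 := ndS (p := 23710) (l := 6) rfl N23710 D78439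
theorem N45781 : nd 45781 = n78442 := ndS (p := 23711) (l := 3) rfl N23711 D78442
theorem N45782 : nd 45782 = n78443 := ndS (p := 23711) (l := 6) rfl N23711 D78443
theorem N45783 : nd 45783 = n78444 := ndS (p := 23712) (l := 3) rfl N23712 D78444
theorem N45784 : nd 45784 = n78446 := ndS (p := 23713) (l := 3) rfl N23713 D78446
theorem N45785 : nd 45785 = n78448 := ndS (p := 23714) (l := 0) rfl N23714 D78448
theorem N45786 : nd 45786 = n78450 := ndS (p := 23714) (l := 7) rfl N23714 D78450
theorem N45787 : nd 45787 = n78451 := ndS (p := 23715) (l := 6) rfl N23715 D78451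
theorem N45788 : nd 45788 = n78454 := ndS (p := 23716) (l := 3) rfl N23716 D78454
theorem N45789 : nd 45789 = n78455 := ndS (p := 23716) (l := 5) rfl N23716 D78455
theorem N45790 : nd 45790 = n78459 := ndS (p := 23717) (l := 3) rfl N23717 D78459
theorem N45791 : nd 45791 = n78460 := ndS (p := 23717) (l := 5) rfl N23717 D78460
theorem N45792 : nd 45792 = n78461 := ndS (p := 23717) (l := 6) rfl N23717 D78461
theorem N45793 : nd 45793 = n78463 := ndS (p := 23718) (l := 1) rfl N23718 D78463
theorem N45794 : nd 45794 = n78464 := ndS (p := 23718) (l := 7) rfl N23718 D78464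
theorem N45795 : nd 45795 = n78466 := ndS (p := 23719) (l := 5) rfl N23719 D78466
theorem N45796 : nd 45796 = n78468 := ndS (p := 23720) (l := 3) rfl N23720 D78468
theorem N45797 : nd 45797 = n78469 := ndS (p := 23720) (l := 5) rfl N23720 D78469
theorem N45798 : nd 45798 = n78471 := ndS (p := 23721) (l := 0) rfl N23721 D78471
theorem N45799 : nd 45799 = n78472 := ndS (p := 23721) (l := 1) rfl N23721 D78472
theorem N45800 : nd 45800 = n78473 := ndS (p := 23721) (l := 2) rfl N23721 D78473
theorem N45801 : nd 45801 = n78474 := ndS (p := 23721) (l := 5) rfl N23721 D78474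
theorem N45802 : nd 45802 = n78476 := ndS (p := 23722) (l := 4) rfl N23722 D78476
theorem N45803 : nd 45803 = n78477 := ndS (p := 23722) (l := 6) rfl N23722 D78477
theorem N45804 : nd 45804 = n78492 := ndS (p := 23723) (l := 3) rfl N23723 D78492
theorem N45805 : nd 45805 = n78493 := ndS (p := 23723) (l := 4) rfl N23723 D78493
theorem N45806 : nd 45806 = n78495 := ndS (p := 23723) (l := 6) rfl N23723 D78495
theorem N45807 : nd 45807 = n78497 := ndS (p := 23724) (l := 3) rfl N23724 D78497
theorem N45808 : nd 45808 = n78498 := ndS (p := 23724) (l := 4) rfl N23724 D78498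
theorem N45809 : nd 45809 = n78500 := ndS (p := 23724) (l := 6) rfl N23724 D78500
theorem N45810 : nd 45810 = n78501 := ndS (p := 23725) (l := 6) rfl N23725 D78501
theorem N45811 : nd 45811 = n78502 := ndS (p := 23726) (l := 0) rfl N23726 D78502
theorem N45812 : nd 45812 = n78503 := ndS (p := 23726) (l := 1) rfl N23726 D78503
theorem N45813 : nd 45813 = n78508 := ndS (p := 23727) (l := 3) rfl N23727 D78508
theorem N45814 : nd 45814 = n78510 := ndS (p := 23727) (l := 6) rfl N23727 D78510
theorem N45815 : nd 45815 = n78533 := ndS (p := 23729) (l := 3) rfl N23729 D78533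
theorem N45816 : nd 45816 = n78534 := ndS (p := 23729) (l := 5) rfl N23729 D78534
theorem N45817 : nd 45817 = n78537 := ndS (p := 23730) (l := 1) rfl N23730 D78537
theorem N45818 : nd 45818 = n78538 := ndS (p := 23731) (l := 3) rfl N23731 D78538
theorem N45819 : nd 45819 = n78539 := ndS (p := 23731) (l := 6) rfl N23731 D78539
theorem N45820 : nd 45820 = n78540 := ndS (p := 23732) (l := 0) rfl N23732 D78540
theorem N45821 : nd 45821 = n78541 := ndS (p := 23732) (l := 7) rfl N23732 D78541
theorem N45822 : nd 45822 = n78542 := ndS (p := 23733) (l := 3) rfl N23733 D78542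
theorem N45823 : nd 45823 = n78543 := ndS (p := 23733) (l := 5) rfl N23733 D78543
theorem N45824 : nd 45824 = n78544 := ndS (p := 23733) (l := 6) rfl N23733 D78544
theorem N45825 : nd 45825 = n78545 := ndS (p := 23735) (l := 3) rfl N23735 D78545
theorem N45826 : nd 45826 = n78546 := ndS (p := 23735) (l := 5) rfl N23735 D78546
theorem N45827 : nd 45827 = n78548 := ndS (p := 23736) (l := 3) rfl N23736 D78548
theorem N45828 : nd 45828 = n78549 := ndS (p := 23736) (l := 5) rfl N23736 D78549
theorem N45829 : nd 45829 = n78550 := ndS (p := 23736) (l := 6) rfl N23736 D78550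
theorem N45830 : nd 45830 = n78551 := ndS (p := 23737) (l := 0) rfl N23737 D78551
theorem N45831 : nd 45831 = n78552 := ndS (p := 23737) (l := 1) rfl N23737 D78552
theorem N45832 : nd 45832 = n78553 := ndS (p := 23737) (l := 2) rfl N23737 D78553
theorem N45833 : nd 45833 = n78554 := ndS (p := 23737) (l := 5) rfl N23737 D78554
theorem N45834 : nd 45834 = n78555 := ndS (p := 23737) (l := 6) rfl N23737 D78555
theorem N45835 : nd 45835 = n78556 := ndS (p := 23738) (l := 0) rfl N23738 D78556
theorem N45836 : nd 45836 = n78557 := ndS (p := 23738) (l := 1) rfl N23738 D78557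
theorem N45837 : nd 45837 = n78558 := ndS (p := 23738) (l := 6) rfl N23738 D78558
theorem N45838 : nd 45838 = n78559 := ndS (p := 23739) (l := 0) rfl N23739 D78559
theorem N45839 : nd 45839 = n78560 := ndS (p := 23739) (l := 1) rfl N23739 D78560
theorem N45840 : nd 45840 = n78561 := ndS (p := 23739) (l := 5) rfl N23739 D78561
theorem N45841 : nd 45841 = n78562 := ndS (p := 23739) (l := 7) rfl N23739 D78562
theorem N45842 : nd 45842 = n78564 := ndS (p := 23740) (l := 4) rfl N23740 D78564
theorem N45843 : nd 45843 = n78565 := ndS (p := 23740) (l := 5) rfl N23740 D78565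
theorem N45844 : nd 45844 = n78567 := ndS (p := 23741) (l := 4) rfl N23741 D78567
theorem N45845 : nd 45845 = n78568 := ndS (p := 23741) (l := 5) rfl N23741 D78568
theorem N45846 : nd 45846 = n78570 := ndS (p := 23743) (l := 3) rfl N23743 D78570
theorem N45847 : nd 45847 = n78571 := ndS (p := 23743) (l := 4) rfl N23743 D78571
theorem N45848 : nd 45848 = n78573 := ndS (p := 23743) (l := 6) rfl N23743 D78573
theorem N45849 : nd 45849 = n78575 := ndS (p := 23744) (l := 3) rfl N23744 D78575
theorem N45850 : nd 45850 = n78576 := ndS (p := 23744) (l := 4) rfl N23744 D78576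
theorem N45851 : nd 45851 = n78578 := ndS (p := 23744) (l := 6) rfl N23744 D78578
theorem N45852 : nd 45852 = n78579 := ndS (p := 23745) (l := 6) rfl N23745 D78579
theorem N45853 : nd 45853 = n78580 := ndS (p := 23746) (l := 0) rfl N23746 D78580
theorem N45854 : nd 45854 = n78581 := ndS (p := 23746) (l := 1) rfl N23746 D78581
theorem N45855 : nd 45855 = n78582 := ndS (p := 23746) (l := 5) rfl N23746 D78582
theorem N45856 : nd 45856 = n78583 := ndS (p := 23746) (l := 7) rfl N23746 D78583
theorem N45857 : nd 45857 = n78584 := ndS (p := 23747) (l := 3) rfl N23747 D78584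
theorem N45858 : nd 45858 = n78586 := ndS (p := 23748) (l := 3) rfl N23748 D78586
theorem N45859 : nd 45859 = n78592 := ndS (p := 23751) (l := 3) rfl N23751 D78592
theorem N45860 : nd 45860 = n78594 := ndS (p := 23752) (l := 4) rfl N23752 D78594
theorem N45861 : nd 45861 = n78596 := ndS (p := 23753) (l := 3) rfl N23753 D78596
theorem N45862 : nd 45862 = n78598 := ndS (p := 23754) (l := 3) rfl N23754 D78598
theorem N45863 : nd 45863 = n78599 := ndS (p := 23754) (l := 6) rfl N23754 D78599
theorem N45864 : nd 45864 = n78600 := ndS (p := 23755) (l := 0) rfl N23755 D78600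
theorem N45865 : nd 45865 = n78601 := ndS (p := 23755) (l := 7) rfl N23755 D78601
theorem N45866 : nd 45866 = n78602 := ndS (p := 23756) (l := 3) rfl N23756 D78602
theorem N45867 : nd 45867 = n78604 := ndS (p := 23757) (l := 3) rfl N23757 D78604
theorem N45868 : nd 45868 = n78606 := ndS (p := 23758) (l := 0) rfl N23758 D78606
theorem N45869 : nd 45869 = n78607 := ndS (p := 23758) (l := 1) rfl N23758 D78607
theorem N45870 : nd 45870 = n78608 := ndS (p := 23758) (l := 2) rfl N23758 D78608
theorem N45871 : nd 45871 = n78609 := ndS (p := 23758) (l := 5) rfl N23758 D78609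
theorem N45872 : nd 45872 = n78610 := ndS (p := 23758) (l := 6) rfl N23758 D78610
theorem N45873 : nd 45873 = n78613 := ndS (p := 23759) (l := 6) rfl N23759 D78613
theorem N45874 : nd 45874 = n78614 := ndS (p := 23760) (l := 0) rfl N23760 D78614
theorem N45875 : nd 45875 = n78615 := ndS (p := 23760) (l := 1) rfl N23760 D78615
theorem N45876 : nd 45876 = n78616 := ndS (p := 23760) (l := 5) rfl N23760 D78616
theorem N45877 : nd 45877 = n78617 := ndS (p := 23760) (l := 7) rfl N23760 D78617
theorem N45878 : nd 45878 = n78619 := ndS (p := 23761) (l := 4) rfl N23761 D78619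
theorem N45879 : nd 45879 = n78620 := ndS (p := 23761) (l := 6) rfl N23761 D78620
theorem N45880 : nd 45880 = n78621 := ndS (p := 23762) (l := 3) rfl N23762 D78621
theorem N45881 : nd 45881 = n78622 := ndS (p := 23762) (l := 4) rfl N23762 D78622
theorem N45882 : nd 45882 = n78624 := ndS (p := 23764) (l := 3) rfl N23764 D78624
theorem N45883 : nd 45883 = n78625 := ndS (p := 23764) (l := 4) rfl N23764 D78625
theorem N45884 : nd 45884 = n78633 := ndS (p := 23766) (l := 6) rfl N23766 D78633
theorem N45885 : nd 45885 = n78634 := ndS (p := 23767) (l := 0) rfl N23767 D78634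
theorem N45886 : nd 45886 = n78635 := ndS (p := 23767) (l := 1) rfl N23767 D78635
theorem N45887 : nd 45887 = n78636 := ndS (p := 23767) (l := 5) rfl N23767 D78636
theorem N45888 : nd 45888 = n78637 := ndS (p := 23767) (l := 7) rfl N23767 D78637
theorem N45889 : nd 45889 = n78643 := ndS (p := 23772) (l := 3) rfl N23772 D78643
theorem N45890 : nd 45890 = n78646 := ndS (p := 23772) (l := 6) rfl N23772 D78646
theorem N45891 : nd 45891 = n78648 := ndS (p := 23773) (l := 1) rfl N23773 D78648
theorem N45892 : nd 45892 = n78649 := ndS (p := 23773) (l := 2) rfl N23773 D78649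
theorem N45893 : nd 45893 = n78650 := ndS (p := 23773) (l := 4) rfl N23773 D78650
theorem N45894 : nd 45894 = n78651 := ndS (p := 23773) (l := 5) rfl N23773 D78651
theorem N45895 : nd 45895 = n78652 := ndS (p := 23773) (l := 6) rfl N23773 D78652
theorem N45896 : nd 45896 = n78653 := ndS (p := 23773) (l := 7) rfl N23773 D78653
theorem N45897 : nd 45897 = n78656 := ndS (p := 23774) (l := 3) rfl N23774 D78656
theorem N45898 : nd 45898 = n78657 := ndS (p := 23774) (l := 5) rfl N23774 D78657
theorem N45899 : nd 45899 = n78658 := ndS (p := 23774) (l := 6) rfl N23774 D78658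
theorem N45900 : nd 45900 = n78662 := ndS (p := 23775) (l := 4) rfl N23775 D78662
theorem N45901 : nd 45901 = n78663 := ndS (p := 23775) (l := 6) rfl N23775 D78663
theorem N45902 : nd 45902 = n78665 := ndS (p := 23776) (l := 0) rfl N23776 D78665
theorem N45903 : nd 45903 = n78668 := ndS (p := 23776) (l := 7) rfl N23776 D78668
theorem N45904 : nd 45904 = n78669 := ndS (p := 23777) (l := 6) rfl N23777 D78669
theorem N45905 : nd 45905 = n78670 := ndS (p := 23778) (l := 0) rfl N23778 D78670
theorem N45906 : nd 45906 = n78672 := ndS (p := 23778) (l := 2) rfl N23778 D78672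
theorem N45907 : nd 45907 = n78673 := ndS (p := 23778) (l := 4) rfl N23778 D78673
theorem N45908 : nd 45908 = n78674 := ndS (p := 23778) (l := 5) rfl N23778 D78674
theorem N45909 : nd 45909 = n78675 := ndS (p := 23778) (l := 6) rfl N23778 D78675
theorem N45910 : nd 45910 = n78678 := ndS (p := 23779) (l := 6) rfl N23779 D78678
theorem N45911 : nd 45911 = n78679 := ndS (p := 23780) (l := 4) rfl N23780 D78679
theorem N45912 : nd 45912 = n78680 := ndS (p := 23780) (l := 6) rfl N23780 D78680
theorem N45913 : nd 45913 = n78682 := ndS (p := 23781) (l := 1) rfl N23781 D78682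
theorem N45914 : nd 45914 = n78683 := ndS (p := 23781) (l := 5) rfl N23781 D78683
theorem N45915 : nd 45915 = n78684 := ndS (p := 23781) (l := 7) rfl N23781 D78684
theorem N45916 : nd 45916 = n78695 := ndS (p := 23782) (l := 4) rfl N23782 D78695
theorem N45917 : nd 45917 = n78698 := ndS (p := 23783) (l := 3) rfl N23783 D78698
theorem N45918 : nd 45918 = n78699 := ndS (p := 23783) (l := 4) rfl N23783 D78699
theorem N45919 : nd 45919 = n78701 := ndS (p := 23783) (l := 6) rfl N23783 D78701
theorem N45920 : nd 45920 = n78703 := ndS (p := 23784) (l := 3) rfl N23784 D78703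
theorem N45921 : nd 45921 = n78704 := ndS (p := 23784) (l := 4) rfl N23784 D78704
theorem N45922 : nd 45922 = n78706 := ndS (p := 23784) (l := 6) rfl N23784 D78706
theorem N45923 : nd 45923 = n78708 := ndS (p := 23785) (l := 1) rfl N23785 D78708
theorem N45924 : nd 45924 = n78710 := ndS (p := 23785) (l := 6) rfl N23785 D78710
theorem N45925 : nd 45925 = n78711 := ndS (p := 23786) (l := 0) rfl N23786 D78711
theorem N45926 : nd 45926 = n78712 := ndS (p := 23786) (l := 1) rfl N23786 D78712
theorem N45927 : nd 45927 = n78713 := ndS (p := 23786) (l := 7) rfl N23786 D78713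
theorem N45928 : nd 45928 = n78717 := ndS (p := 23787) (l := 3) rfl N23787 D78717
theorem N45929 : nd 45929 = n78719 := ndS (p := 23788) (l := 3) rfl N23788 D78719
theorem N45930 : nd 45930 = n78722 := ndS (p := 23790) (l := 3) rfl N23790 D78722
theorem N45931 : nd 45931 = n78726 := ndS (p := 23791) (l := 3) rfl N23791 D78726
theorem N45932 : nd 45932 = n78727 := ndS (p := 23791) (l := 5) rfl N23791 D78727
theorem N45933 : nd 45933 = n78729 := ndS (p := 23792) (l := 0) rfl N23792 D78729
theorem N45934 : nd 45934 = n78754 := ndS (p := 23795) (l := 6) rfl N23795 D78754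
theorem N45935 : nd 45935 = n78755 := ndS (p := 23796) (l := 3) rfl N23796 D78755
theorem N45936 : nd 45936 = n78756 := ndS (p := 23796) (l := 5) rfl N23796 D78756
theorem N45937 : nd 45937 = n78760 := ndS (p := 23799) (l := 3) rfl N23799 D78760
theorem N45938 : nd 45938 = n78761 := ndS (p := 23799) (l := 5) rfl N23799 D78761
theorem N45939 : nd 45939 = n78765 := ndS (p := 23800) (l := 3) rfl N23800 D78765
theorem N45940 : nd 45940 = n78766 := ndS (p := 23800) (l := 6) rfl N23800 D78766
theorem N45941 : nd 45941 = n78767 := ndS (p := 23801) (l := 3) rfl N23801 D78767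
theorem N45942 : nd 45942 = n78769 := ndS (p := 23802) (l := 0) rfl N23802 D78769
theorem N45943 : nd 45943 = n78770 := ndS (p := 23802) (l := 1) rfl N23802 D78770
theorem N45944 : nd 45944 = n78771 := ndS (p := 23802) (l := 2) rfl N23802 D78771
theorem N45945 : nd 45945 = n78772 := ndS (p := 23802) (l := 5) rfl N23802 D78772
theorem N45946 : nd 45946 = n78773 := ndS (p := 23802) (l := 6) rfl N23802 D78773
theorem N45947 : nd 45947 = n78774 := ndS (p := 23803) (l := 4) rfl N23803 D78774
theorem N45948 : nd 45948 = n78775 := ndS (p := 23803) (l := 6) rfl N23803 D78775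
theorem N45949 : nd 45949 = n78778 := ndS (p := 23804) (l := 5) rfl N23804 D78778
theorem N45950 : nd 45950 = n78790 := ndS (p := 23805) (l := 3) rfl N23805 D78790
theorem N45951 : nd 45951 = n78791 := ndS (p := 23805) (l := 4) rfl N23805 D78791
theorem N45952 : nd 45952 = n78793 := ndS (p := 23805) (l := 6) rfl N23805 D78793
theorem N45953 : nd 45953 = n78795 := ndS (p := 23806) (l := 3) rfl N23806 D78795
theorem N45954 : nd 45954 = n78796 := ndS (p := 23806) (l := 4) rfl N23806 D78796
theorem N45955 : nd 45955 = n78798 := ndS (p := 23806) (l := 6) rfl N23806 D78798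
theorem N45956 : nd 45956 = n78799 := ndS (p := 23807) (l := 6) rfl N23807 D78799
theorem N45957 : nd 45957 = n78800 := ndS (p := 23808) (l := 0) rfl N23808 D78800
theorem N45958 : nd 45958 = n78801 := ndS (p := 23808) (l := 1) rfl N23808 D78801
theorem N45959 : nd 45959 = n78822 := ndS (p := 23809) (l := 3) rfl N23809 D78822
theorem N45960 : nd 45960 = n78824 := ndS (p := 23809) (l := 6) rfl N23809 D78824
theorem N45961 : nd 45961 = n78826 := ndS (p := 23811) (l := 3) rfl N23811 D78826
theorem N45962 : nd 45962 = n78827 := ndS (p := 23811) (l := 6) rfl N23811 D78827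
theorem N45963 : nd 45963 = n78828 := ndS (p := 23812) (l := 1) rfl N23812 D78828
theorem N45964 : nd 45964 = n78829 := ndS (p := 23812) (l := 7) rfl N23812 D78829
theorem N45965 : nd 45965 = n78830 := ndS (p := 23813) (l := 3) rfl N23813 D78830
theorem N45966 : nd 45966 = n78831 := ndS (p := 23813) (l := 6) rfl N23813 D78831
theorem N45967 : nd 45967 = n78832 := ndS (p := 23814) (l := 0) rfl N23814 D78832
theorem N45968 : nd 45968 = n78833 := ndS (p := 23814) (l := 1) rfl N23814 D78833
theorem N45969 : nd 45969 = n78834 := ndS (p := 23814) (l := 2) rfl N23814 D78834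
theorem N45970 : nd 45970 = n78835 := ndS (p := 23814) (l := 5) rfl N23814 D78835
theorem N45971 : nd 45971 = n78836 := ndS (p := 23814) (l := 6) rfl N23814 D78836
theorem N45972 : nd 45972 = n78837 := ndS (p := 23815) (l := 6) rfl N23815 D78837
theorem N45973 : nd 45973 = n78838 := ndS (p := 23816) (l := 0) rfl N23816 D78838
theorem N45974 : nd 45974 = n78839 := ndS (p := 23816) (l := 1) rfl N23816 D78839
theorem N45975 : nd 45975 = n78840 := ndS (p := 23816) (l := 5) rfl N23816 D78840
theorem N45976 : nd 45976 = n78841 := ndS (p := 23816) (l := 7) rfl N23816 D78841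
theorem N45977 : nd 45977 = n78843 := ndS (p := 23817) (l := 4) rfl N23817 D78843
theorem N45978 : nd 45978 = n78844 := ndS (p := 23817) (l := 5) rfl N23817 D78844
theorem N45979 : nd 45979 = n78846 := ndS (p := 23818) (l := 4) rfl N23818 D78846
theorem N45980 : nd 45980 = n78849 := ndS (p := 23820) (l := 3) rfl N23820 D78849
theorem N45981 : nd 45981 = n78850 := ndS (p := 23820) (l := 4) rfl N23820 D78850
theorem N45982 : nd 45982 = n78852 := ndS (p := 23820) (l := 6) rfl N23820 D78852
theorem N45983 : nd 45983 = n78854 := ndS (p := 23821) (l := 3) rfl N23821 D78854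
theorem N45984 : nd 45984 = n78855 := ndS (p := 23821) (l := 4) rfl N23821 D78855
theorem N45985 : nd 45985 = n78857 := ndS (p := 23821) (l := 6) rfl N23821 D78857
theorem N45986 : nd 45986 = n78858 := ndS (p := 23822) (l := 6) rfl N23822 D78858
theorem N45987 : nd 45987 = n78859 := ndS (p := 23823) (l := 0) rfl N23823 D78859
theorem N45988 : nd 45988 = n78860 := ndS (p := 23823) (l := 1) rfl N23823 D78860
theorem N45989 : nd 45989 = n78867 := ndS (p := 23825) (l := 0) rfl N23825 D78867
theorem N45990 : nd 45990 = n78868 := ndS (p := 23825) (l := 2) rfl N23825 D78868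
theorem N45991 : nd 45991 = n78869 := ndS (p := 23825) (l := 4) rfl N23825 D78869
theorem N45992 : nd 45992 = n78873 := ndS (p := 23826) (l := 4) rfl N23826 D78873
theorem N45993 : nd 45993 = n78876 := ndS (p := 23827) (l := 4) rfl N23827 D78876
theorem N45994 : nd 45994 = n78877 := ndS (p := 23828) (l := 3) rfl N23828 D78877
theorem N45995 : nd 45995 = n78880 := ndS (p := 23829) (l := 3) rfl N23829 D78880
theorem N45996 : nd 45996 = n78882 := ndS (p := 23829) (l := 5) rfl N23829 D78882
theorem N45997 : nd 45997 = n78883 := ndS (p := 23829) (l := 6) rfl N23829 D78883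
theorem N45998 : nd 45998 = n78887 := ndS (p := 23830) (l := 5) rfl N23830 D78887
theorem N45999 : nd 45999 = n78888 := ndS (p := 23830) (l := 6) rfl N23830 D78888
theorem N46000 : nd 46000 = n78889 := ndS (p := 23832) (l := 6) rfl N23832 D78889
theorem N46001 : nd 46001 = n78890 := ndS (p := 23835) (l := 6) rfl N23835 D78890
theorem N46002 : nd 46002 = n78891 := ndS (p := 23836) (l := 0) rfl N23836 D78891
theorem N46003 : nd 46003 = n78893 := ndS (p := 23836) (l := 5) rfl N23836 D78893
theorem N46004 : nd 46004 = n78895 := ndS (p := 23837) (l := 4) rfl N23837 D78895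
theorem N46005 : nd 46005 = n78896 := ndS (p := 23837) (l := 7) rfl N23837 D78896
theorem N46006 : nd 46006 = n78897 := ndS (p := 23839) (l := 4) rfl N23839 D78897
theorem N46007 : nd 46007 = n78898 := ndS (p := 23839) (l := 6) rfl N23839 D78898
theorem N46008 : nd 46008 = n78899 := ndS (p := 23840) (l := 5) rfl N23840 D78899
theorem N46009 : nd 46009 = n78907 := ndS (p := 23843) (l := 7) rfl N23843 D78907
theorem N46010 : nd 46010 = n78908 := ndS (p := 23845) (l := 3) rfl N23845 D78908
theorem N46011 : nd 46011 = n78909 := ndS (p := 23845) (l := 6) rfl N23845 D78909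
theorem N46012 : nd 46012 = n78910 := ndS (p := 23846) (l := 0) rfl N23846 D78910
theorem N46013 : nd 46013 = n78911 := ndS (p := 23846) (l := 1) rfl N23846 D78911
theorem N46014 : nd 46014 = n78912 := ndS (p := 23846) (l := 7) rfl N23846 D78912
theorem N46015 : nd 46015 = n78913 := ndS (p := 23847) (l := 6) rfl N23847 D78913
theorem N46016 : nd 46016 = n78914 := ndS (p := 23848) (l := 0) rfl N23848 D78914
theorem N46017 : nd 46017 = n78915 := ndS (p := 23848) (l := 1) rfl N23848 D78915
theorem N46018 : nd 46018 = n78916 := ndS (p := 23848) (l := 5) rfl N23848 D78916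
theorem N46019 : nd 46019 = n78917 := ndS (p := 23848) (l := 7) rfl N23848 D78917
theorem N46020 : nd 46020 = n78919 := ndS (p := 23849) (l := 3) rfl N23849 D78919
theorem N46021 : nd 46021 = n78920 := ndS (p := 23849) (l := 4) rfl N23849 D78920
theorem N46022 : nd 46022 = n78921 := ndS (p := 23849) (l := 5) rfl N23849 D78921
theorem N46023 : nd 46023 = n78922 := ndS (p := 23849) (l := 6) rfl N23849 D78922
theorem N46024 : nd 46024 = n78924 := ndS (p := 23850) (l := 3) rfl N23850 D78924
theorem N46025 : nd 46025 = n78927 := ndS (p := 23850) (l := 6) rfl N23850 D78927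
theorem N46026 : nd 46026 = n78928 := ndS (p := 23851) (l := 0) rfl N23851 D78928
theorem N46027 : nd 46027 = n78929 := ndS (p := 23851) (l := 1) rfl N23851 D78929
theorem N46028 : nd 46028 = n78930 := ndS (p := 23851) (l := 7) rfl N23851 D78930
theorem N46029 : nd 46029 = n78931 := ndS (p := 23853) (l := 6) rfl N23853 D78931
theorem N46030 : nd 46030 = n78932 := ndS (p := 23854) (l := 5) rfl N23854 D78932
theorem N46031 : nd 46031 = n78938 := ndS (p := 23855) (l := 0) rfl N23855 D78938
theorem N46032 : nd 46032 = n78940 := ndS (p := 23855) (l := 2) rfl N23855 D78940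
theorem N46033 : nd 46033 = n78942 := ndS (p := 23855) (l := 5) rfl N23855 D78942
theorem N46034 : nd 46034 = n78945 := ndS (p := 23856) (l := 0) rfl N23856 D78945
theorem N46035 : nd 46035 = n78946 := ndS (p := 23856) (l := 1) rfl N23856 D78946
theorem N46036 : nd 46036 = n78947 := ndS (p := 23856) (l := 4) rfl N23856 D78947
theorem N46037 : nd 46037 = n78948 := ndS (p := 23856) (l := 6) rfl N23856 D78948
theorem N46038 : nd 46038 = n78951 := ndS (p := 23857) (l := 1) rfl N23857 D78951
theorem N46039 : nd 46039 = n78952 := ndS (p := 23857) (l := 7) rfl N23857 D78952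
theorem N46040 : nd 46040 = n78957 := ndS (p := 23858) (l := 4) rfl N23858 D78957
theorem N46041 : nd 46041 = n78958 := ndS (p := 23858) (l := 5) rfl N23858 D78958
theorem N46042 : nd 46042 = n78959 := ndS (p := 23858) (l := 6) rfl N23858 D78959
theorem N46043 : nd 46043 = n78960 := ndS (p := 23859) (l := 4) rfl N23859 D78960
theorem N46044 : nd 46044 = n78961 := ndS (p := 23859) (l := 6) rfl N23859 D78961
theorem N46045 : nd 46045 = n78962 := ndS (p := 23860) (l := 0) rfl N23860 D78962
theorem N46046 : nd 46046 = n78964 := ndS (p := 23860) (l := 5) rfl N23860 D78964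
theorem N46047 : nd 46047 = n78965 := ndS (p := 23860) (l := 7) rfl N23860 D78965
theorem N46048 : nd 46048 = n78968 := ndS (p := 23861) (l := 4) rfl N23861 D78968
theorem N46049 : nd 46049 = n78969 := ndS (p := 23861) (l := 5) rfl N23861 D78969
theorem N46050 : nd 46050 = n78970 := ndS (p := 23861) (l := 6) rfl N23861 D78970
theorem N46051 : nd 46051 = n78976 := ndS (p := 23862) (l := 0) rfl N23862 D78976
theorem N46052 : nd 46052 = n78977 := ndS (p := 23862) (l := 1) rfl N23862 D78977
theorem N46053 : nd 46053 = n78978 := ndS (p := 23862) (l := 5) rfl N23862 D78978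
theorem N46054 : nd 46054 = n78979 := ndS (p := 23862) (l := 7) rfl N23862 D78979
theorem N46055 : nd 46055 = n78980 := ndS (p := 23863) (l := 6) rfl N23863 D78980
theorem N46056 : nd 46056 = n78981 := ndS (p := 23864) (l := 6) rfl N23864 D78981
theorem N46057 : nd 46057 = n78982 := ndS (p := 23865) (l := 0) rfl N23865 D78982
theorem N46058 : nd 46058 = n78983 := ndS (p := 23865) (l := 1) rfl N23865 D78983
theorem N46059 : nd 46059 = n78984 := ndS (p := 23865) (l := 7) rfl N23865 D78984
theorem N46060 : nd 46060 = n78985 := ndS (p := 23866) (l := 3) rfl N23866 D78985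
theorem N46061 : nd 46061 = n78986 := ndS (p := 23866) (l := 6) rfl N23866 D78986
theorem N46062 : nd 46062 = n78987 := ndS (p := 23867) (l := 0) rfl N23867 D78987
theorem N46063 : nd 46063 = n78988 := ndS (p := 23867) (l := 1) rfl N23867 D78988
theorem N46064 : nd 46064 = n78989 := ndS (p := 23867) (l := 5) rfl N23867 D78989
theorem N46065 : nd 46065 = n78990 := ndS (p := 23867) (l := 7) rfl N23867 D78990
theorem N46066 : nd 46066 = n78991 := ndS (p := 23868) (l := 3) rfl N23868 D78991
theorem N46067 : nd 46067 = n78992 := ndS (p := 23868) (l := 6) rfl N23868 D78992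
theorem N46068 : nd 46068 = n78993 := ndS (p := 23869) (l := 6) rfl N23869 D78993
theorem N46069 : nd 46069 = n78994 := ndS (p := 23870) (l := 0) rfl N23870 D78994
theorem N46070 : nd 46070 = n78996 := ndS (p := 23871) (l := 3) rfl N23871 D78996
theorem N46071 : nd 46071 = n78997 := ndS (p := 23871) (l := 6) rfl N23871 D78997
theorem N46072 : nd 46072 = n78998 := ndS (p := 23872) (l := 0) rfl N23872 D78998
theorem N46073 : nd 46073 = n78999 := ndS (p := 23872) (l := 1) rfl N23872 D78999
theorem N46074 : nd 46074 = n79000 := ndS (p := 23872) (l := 7) rfl N23872 D79000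
theorem N46075 : nd 46075 = n79001 := ndS (p := 23873) (l := 6) rfl N23873 D79001
theorem N46076 : nd 46076 = n79002 := ndS (p := 23874) (l := 6) rfl N23874 D79002
theorem N46077 : nd 46077 = n79003 := ndS (p := 23875) (l := 3) rfl N23875 D79003
theorem N46078 : nd 46078 = n79004 := ndS (p := 23875) (l := 6) rfl N23875 D79004
theorem N46079 : nd 46079 = n79005 := ndS (p := 23876) (l := 0) rfl N23876 D79005
theorem N46080 : nd 46080 = n79006 := ndS (p := 23876) (l := 1) rfl N23876 D79006
theorem N46081 : nd 46081 = n79007 := ndS (p := 23876) (l := 7) rfl N23876 D79007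
theorem N46082 : nd 46082 = n79008 := ndS (p := 23877) (l := 3) rfl N23877 D79008
theorem N46083 : nd 46083 = n79009 := ndS (p := 23877) (l := 6) rfl N23877 D79009
theorem N46084 : nd 46084 = n79011 := ndS (p := 23879) (l := 0) rfl N23879 D79011
theorem N46085 : nd 46085 = n79012 := ndS (p := 23879) (l := 1) rfl N23879 D79012
theorem N46086 : nd 46086 = n79013 := ndS (p := 23879) (l := 5) rfl N23879 D79013
theorem N46087 : nd 46087 = n79014 := ndS (p := 23879) (l := 7) rfl N23879 D79014
theorem N46088 : nd 46088 = n79017 := ndS (p := 23880) (l := 4) rfl N23880 D79017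
theorem N46089 : nd 46089 = n79018 := ndS (p := 23880) (l := 5) rfl N23880 D79018
theorem N46090 : nd 46090 = n79025 := ndS (p := 23882) (l := 6) rfl N23882 D79025
theorem N46091 : nd 46091 = n79031 := ndS (p := 23885) (l := 6) rfl N23885 D79031
theorem N46092 : nd 46092 = n79032 := ndS (p := 23886) (l := 6) rfl N23886 D79032
theorem N46093 : nd 46093 = n79033 := ndS (p := 23887) (l := 0) rfl N23887 D79033
theorem N46094 : nd 46094 = n79034 := ndS (p := 23887) (l := 1) rfl N23887 D79034
theorem N46095 : nd 46095 = n79035 := ndS (p := 23887) (l := 5) rfl N23887 D79035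
theorem N46096 : nd 46096 = n79036 := ndS (p := 23887) (l := 7) rfl N23887 D79036
theorem N46097 : nd 46097 = n79042 := ndS (p := 23888) (l := 4) rfl N23888 D79042
theorem N46098 : nd 46098 = n79045 := ndS (p := 23889) (l := 1) rfl N23889 D79045
theorem N46099 : nd 46099 = n79046 := ndS (p := 23889) (l := 4) rfl N23889 D79046
theorem N46100 : nd 46100 = n79047 := ndS (p := 23889) (l := 7) rfl N23889 D79047
theorem N46101 : nd 46101 = n79048 := ndS (p := 23891) (l := 3) rfl N23891 D79048
theorem N46102 : nd 46102 = n79049 := ndS (p := 23891) (l := 5) rfl N23891 D79049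
theorem N46103 : nd 46103 = n79053 := ndS (p := 23892) (l := 5) rfl N23892 D79053
theorem N46104 : nd 46104 = n79066 := ndS (p := 23893) (l := 0) rfl N23893 D79066
theorem N46105 : nd 46105 = n79067 := ndS (p := 23893) (l := 2) rfl N23893 D79067
theorem N46106 : nd 46106 = n79079 := ndS (p := 23894) (l := 4) rfl N23894 D79079
theorem N46107 : nd 46107 = n79080 := ndS (p := 23894) (l := 5) rfl N23894 D79080
theorem N46108 : nd 46108 = n79081 := ndS (p := 23894) (l := 6) rfl N23894 D79081
theorem N46109 : nd 46109 = n79083 := ndS (p := 23895) (l := 4) rfl N23895 D79083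
theorem N46110 : nd 46110 = n79094 := ndS (p := 23898) (l := 6) rfl N23898 D79094
theorem N46111 : nd 46111 = n79095 := ndS (p := 23900) (l := 3) rfl N23900 D79095
theorem N46112 : nd 46112 = n79096 := ndS (p := 23902) (l := 3) rfl N23902 D79096
theorem N46113 : nd 46113 = n79097 := ndS (p := 23902) (l := 6) rfl N23902 D79097
theorem N46114 : nd 46114 = n79098 := ndS (p := 23903) (l := 6) rfl N23903 D79098
theorem N46115 : nd 46115 = n79099 := ndS (p := 23904) (l := 3) rfl N23904 D79099
theorem N46116 : nd 46116 = n79100 := ndS (p := 23904) (l := 6) rfl N23904 D79100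
theorem N46117 : nd 46117 = n79101 := ndS (p := 23905) (l := 0) rfl N23905 D79101
theorem N46118 : nd 46118 = n79102 := ndS (p := 23905) (l := 1) rfl N23905 D79102
theorem N46119 : nd 46119 = n79103 := ndS (p := 23905) (l := 7) rfl N23905 D79103
theorem N46120 : nd 46120 = n79111 := ndS (p := 23909) (l := 6) rfl N23909 D79111
theorem N46121 : nd 46121 = n79151 := ndS (p := 23912) (l := 6) rfl N23912 D79151
theorem N46122 : nd 46122 = n79200 := ndS (p := 23915) (l := 3) rfl N23915 D79200
theorem N46123 : nd 46123 = n79206 := ndS (p := 23916) (l := 0) rfl N23916 D79206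
theorem N46124 : nd 46124 = n79207 := ndS (p := 23916) (l := 1) rfl N23916 D79207
theorem N46125 : nd 46125 = n79208 := ndS (p := 23916) (l := 2) rfl N23916 D79208
theorem N46126 : nd 46126 = n79268 := ndS (p := 23917) (l := 0) rfl N23917 D79268
theorem N46127 : nd 46127 = n79270 := ndS (p := 23917) (l := 2) rfl N23917 D79270
theorem N46128 : nd 46128 = n79279 := ndS (p := 23918) (l := 1) rfl N23918 D79279
theorem N46129 : nd 46129 = n79280 := ndS (p := 23918) (l := 2) rfl N23918 D79280
theorem N46130 : nd 46130 = n79288 := ndS (p := 23922) (l := 1) rfl N23922 D79288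
theorem N46131 : nd 46131 = n79289 := ndS (p := 23922) (l := 5) rfl N23922 D79289
theorem N46132 : nd 46132 = n79325 := ndS (p := 23924) (l := 3) rfl N23924 D79325
theorem N46133 : nd 46133 = n79327 := ndS (p := 23925) (l := 6) rfl N23925 D79327
theorem N46134 : nd 46134 = n79363 := ndS (p := 23927) (l := 4) rfl N23927 D79363
theorem N46135 : nd 46135 = n79368 := ndS (p := 23928) (l := 4) rfl N23928 D79368
theorem N46136 : nd 46136 = n79369 := ndS (p := 23928) (l := 6) rfl N23928 D79369
theorem N46137 : nd 46137 = n79371 := ndS (p := 23929) (l := 5) rfl N23929 D79371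
theorem N46138 : nd 46138 = n79372 := ndS (p := 23929) (l := 6) rfl N23929 D79372
theorem N46139 : nd 46139 = n79375 := ndS (p := 23930) (l := 1) rfl N23930 D79375
theorem N46140 : nd 46140 = n79411 := ndS (p := 23931) (l := 4) rfl N23931 D79411
theorem N46141 : nd 46141 = n79422 := ndS (p := 23934) (l := 3) rfl N23934 D79422
theorem N46142 : nd 46142 = n79423 := ndS (p := 23934) (l := 4) rfl N23934 D79423
theorem N46143 : nd 46143 = n79540 := ndS (p := 23937) (l := 2) rfl N23937 D79540
theorem N46144 : nd 46144 = n79541 := ndS (p := 23937) (l := 4) rfl N23937 D79541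
theorem N46145 : nd 46145 = n79546 := ndS (p := 23938) (l := 3) rfl N23938 D79546
theorem N46146 : nd 46146 = n79557 := ndS (p := 23939) (l := 3) rfl N23939 D79557
theorem N46147 : nd 46147 = n79560 := ndS (p := 23940) (l := 3) rfl N23940 D79560
theorem N46148 : nd 46148 = n79563 := ndS (p := 23941) (l := 0) rfl N23941 D79563
theorem N46149 : nd 46149 = n79564 := ndS (p := 23941) (l := 1) rfl N23941 D79564
theorem N46150 : nd 46150 = n79565 := ndS (p := 23941) (l := 2) rfl N23941 D79565
theorem N46151 : nd 46151 = n79574 := ndS (p := 23942) (l := 3) rfl N23942 D79574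
theorem N46152 : nd 46152 = n79580 := ndS (p := 23943) (l := 4) rfl N23943 D79580
theorem N46153 : nd 46153 = n79590 := ndS (p := 23945) (l := 3) rfl N23945 D79590
theorem N46154 : nd 46154 = n79592 := ndS (p := 23945) (l := 6) rfl N23945 D79592
theorem N46155 : nd 46155 = n79596 := ndS (p := 23946) (l := 0) rfl N23946 D79596
theorem N46156 : nd 46156 = n79597 := ndS (p := 23946) (l := 1) rfl N23946 D79597
theorem N46157 : nd 46157 = n79598 := ndS (p := 23946) (l := 2) rfl N23946 D79598
theorem N46158 : nd 46158 = n79613 := ndS (p := 23947) (l := 3) rfl N23947 D79613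
theorem N46159 : nd 46159 = n79617 := ndS (p := 23949) (l := 0) rfl N23949 D79617
theorem N46160 : nd 46160 = n79618 := ndS (p := 23949) (l := 1) rfl N23949 D79618
theorem N46161 : nd 46161 = n79619 := ndS (p := 23949) (l := 2) rfl N23949 D79619
theorem N46162 : nd 46162 = n79623 := ndS (p := 23951) (l := 3) rfl N23951 D79623
theorem N46163 : nd 46163 = n79631 := ndS (p := 23952) (l := 0) rfl N23952 D79631
theorem N46164 : nd 46164 = n79633 := ndS (p := 23952) (l := 2) rfl N23952 D79633
theorem N46165 : nd 46165 = n79657 := ndS (p := 23953) (l := 0) rfl N23953 D79657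
theorem N46166 : nd 46166 = n79659 := ndS (p := 23953) (l := 2) rfl N23953 D79659
theorem N46167 : nd 46167 = n79660 := ndS (p := 23953) (l := 4) rfl N23953 D79660
theorem N46168 : nd 46168 = n79680 := ndS (p := 23954) (l := 3) rfl N23954 D79680
theorem N46169 : nd 46169 = n79681 := ndS (p := 23954) (l := 4) rfl N23954 D79681
theorem N46170 : nd 46170 = n79682 := ndS (p := 23954) (l := 5) rfl N23954 D79682
theorem N46171 : nd 46171 = n79683 := ndS (p := 23954) (l := 6) rfl N23954 D79683
theorem N46172 : nd 46172 = n79685 := ndS (p := 23955) (l := 3) rfl N23955 D79685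
theorem N46173 : nd 46173 = n79686 := ndS (p := 23955) (l := 4) rfl N23955 D79686
theorem N46174 : nd 46174 = n79687 := ndS (p := 23955) (l := 5) rfl N23955 D79687
theorem N46175 : nd 46175 = n79706 := ndS (p := 23957) (l := 5) rfl N23957 D79706
theorem N46176 : nd 46176 = n79712 := ndS (p := 23958) (l := 5) rfl N23958 D79712
theorem N46177 : nd 46177 = n79713 := ndS (p := 23959) (l := 4) rfl N23959 D79713
theorem N46178 : nd 46178 = n79722 := ndS (p := 23960) (l := 0) rfl N23960 D79722
theorem N46179 : nd 46179 = n79724 := ndS (p := 23960) (l := 2) rfl N23960 D79724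
theorem N46180 : nd 46180 = n79725 := ndS (p := 23960) (l := 5) rfl N23960 D79725
theorem N46181 : nd 46181 = n79727 := ndS (p := 23961) (l := 0) rfl N23961 D79727
theorem N46182 : nd 46182 = n79728 := ndS (p := 23961) (l := 1) rfl N23961 D79728
theorem N46183 : nd 46183 = n79729 := ndS (p := 23961) (l := 4) rfl N23961 D79729
theorem N46184 : nd 46184 = n79735 := ndS (p := 23962) (l := 4) rfl N23962 D79735
theorem N46185 : nd 46185 = n79736 := ndS (p := 23963) (l := 3) rfl N23963 D79736
theorem N46186 : nd 46186 = n79737 := ndS (p := 23963) (l := 4) rfl N23963 D79737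
theorem N46187 : nd 46187 = n79739 := ndS (p := 23964) (l := 1) rfl N23964 D79739
theorem N46188 : nd 46188 = n79740 := ndS (p := 23964) (l := 3) rfl N23964 D79740
theorem N46189 : nd 46189 = n79741 := ndS (p := 23964) (l := 5) rfl N23964 D79741
theorem N46190 : nd 46190 = n79751 := ndS (p := 23965) (l := 3) rfl N23965 D79751
theorem N46191 : nd 46191 = n79752 := ndS (p := 23965) (l := 4) rfl N23965 D79752
theorem N46192 : nd 46192 = n79753 := ndS (p := 23965) (l := 5) rfl N23965 D79753
theorem N46193 : nd 46193 = n79760 := ndS (p := 23966) (l := 5) rfl N23966 D79760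
theorem N46194 : nd 46194 = n79762 := ndS (p := 23967) (l := 0) rfl N23967 D79762
theorem N46195 : nd 46195 = n79763 := ndS (p := 23967) (l := 1) rfl N23967 D79763
theorem N46196 : nd 46196 = n79764 := ndS (p := 23967) (l := 4) rfl N23967 D79764
theorem N46197 : nd 46197 = n79768 := ndS (p := 23968) (l := 3) rfl N23968 D79768
theorem N46198 : nd 46198 = n79770 := ndS (p := 23968) (l := 6) rfl N23968 D79770
theorem N46199 : nd 46199 = n79777 := ndS (p := 23969) (l := 3) rfl N23969 D79777
theorem N46200 : nd 46200 = n79778 := ndS (p := 23969) (l := 5) rfl N23969 D79778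
theorem N46201 : nd 46201 = n79779 := ndS (p := 23970) (l := 3) rfl N23970 D79779
theorem N46202 : nd 46202 = n79780 := ndS (p := 23970) (l := 5) rfl N23970 D79780
theorem N46203 : nd 46203 = n79781 := ndS (p := 23971) (l := 3) rfl N23971 D79781
theorem N46204 : nd 46204 = n79784 := ndS (p := 23972) (l := 3) rfl N23972 D79784
theorem N46205 : nd 46205 = n79786 := ndS (p := 23973) (l := 0) rfl N23973 D79786
theorem N46206 : nd 46206 = n79787 := ndS (p := 23973) (l := 1) rfl N23973 D79787
theorem N46207 : nd 46207 = n79788 := ndS (p := 23973) (l := 2) rfl N23973 D79788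
theorem N46208 : nd 46208 = n79789 := ndS (p := 23973) (l := 5) rfl N23973 D79789
theorem N46209 : nd 46209 = n79796 := ndS (p := 23975) (l := 3) rfl N23975 D79796
theorem N46210 : nd 46210 = n79797 := ndS (p := 23975) (l := 5) rfl N23975 D79797
theorem N46211 : nd 46211 = n79798 := ndS (p := 23976) (l := 4) rfl N23976 D79798
theorem N46212 : nd 46212 = n79799 := ndS (p := 23977) (l := 3) rfl N23977 D79799
theorem N46213 : nd 46213 = n79800 := ndS (p := 23977) (l := 5) rfl N23977 D79800
theorem N46214 : nd 46214 = n79802 := ndS (p := 23978) (l := 4) rfl N23978 D79802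
theorem N46215 : nd 46215 = n79810 := ndS (p := 23980) (l := 5) rfl N23980 D79810
theorem N46216 : nd 46216 = n79812 := ndS (p := 23981) (l := 0) rfl N23981 D79812
theorem N46217 : nd 46217 = n79813 := ndS (p := 23981) (l := 1) rfl N23981 D79813
theorem N46218 : nd 46218 = n79814 := ndS (p := 23981) (l := 4) rfl N23981 D79814
theorem N46219 : nd 46219 = n79815 := ndS (p := 23981) (l := 6) rfl N23981 D79815
theorem N46220 : nd 46220 = n79820 := ndS (p := 23982) (l := 4) rfl N23982 D79820
theorem N46221 : nd 46221 = n79822 := ndS (p := 23983) (l := 4) rfl N23983 D79822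
theorem N46222 : nd 46222 = n79823 := ndS (p := 23983) (l := 6) rfl N23983 D79823
theorem N46223 : nd 46223 = n79826 := ndS (p := 23984) (l := 3) rfl N23984 D79826
theorem N46224 : nd 46224 = n79827 := ndS (p := 23984) (l := 5) rfl N23984 D79827
theorem N46225 : nd 46225 = n79843 := ndS (p := 23988) (l := 5) rfl N23988 D79843
theorem N46226 : nd 46226 = n79844 := ndS (p := 23988) (l := 6) rfl N23988 D79844
theorem N46227 : nd 46227 = n79845 := ndS (p := 23989) (l := 0) rfl N23989 D79845
theorem N46228 : nd 46228 = n79846 := ndS (p := 23989) (l := 1) rfl N23989 D79846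
theorem N46229 : nd 46229 = n79847 := ndS (p := 23989) (l := 4) rfl N23989 D79847
theorem N46230 : nd 46230 = n79848 := ndS (p := 23989) (l := 6) rfl N23989 D79848
theorem N46231 : nd 46231 = n79849 := ndS (p := 23990) (l := 0) rfl N23990 D79849
theorem N46232 : nd 46232 = n79850 := ndS (p := 23990) (l := 1) rfl N23990 D79850
theorem N46233 : nd 46233 = n79851 := ndS (p := 23990) (l := 5) rfl N23990 D79851
theorem N46234 : nd 46234 = n79852 := ndS (p := 23991) (l := 3) rfl N23991 D79852
theorem N46235 : nd 46235 = n79854 := ndS (p := 23992) (l := 5) rfl N23992 D79854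
theorem N46236 : nd 46236 = n79856 := ndS (p := 23994) (l := 1) rfl N23994 D79856
theorem N46237 : nd 46237 = n79857 := ndS (p := 23994) (l := 2) rfl N23994 D79857
theorem N46238 : nd 46238 = n79858 := ndS (p := 23994) (l := 5) rfl N23994 D79858
theorem N46239 : nd 46239 = n79860 := ndS (p := 23996) (l := 3) rfl N23996 D79860
theorem N46240 : nd 46240 = n79861 := ndS (p := 23997) (l := 4) rfl N23997 D79861
theorem N46241 : nd 46241 = n79862 := ndS (p := 23997) (l := 5) rfl N23997 D79862
theorem N46242 : nd 46242 = n79863 := ndS (p := 23997) (l := 6) rfl N23997 D79863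
theorem N46243 : nd 46243 = n79865 := ndS (p := 23998) (l := 3) rfl N23998 D79865
theorem N46244 : nd 46244 = n79866 := ndS (p := 23998) (l := 5) rfl N23998 D79866
theorem N46245 : nd 46245 = n79867 := ndS (p := 23998) (l := 6) rfl N23998 D79867
theorem N46246 : nd 46246 = n79871 := ndS (p := 24001) (l := 0) rfl N24001 D79871
theorem N46247 : nd 46247 = n79873 := ndS (p := 24001) (l := 2) rfl N24001 D79873
theorem N46248 : nd 46248 = n79875 := ndS (p := 24001) (l := 6) rfl N24001 D79875
theorem N46249 : nd 46249 = n79880 := ndS (p := 24003) (l := 4) rfl N24003 D79880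
theorem N46250 : nd 46250 = n79885 := ndS (p := 24004) (l := 6) rfl N24004 D79885
theorem N46251 : nd 46251 = n79887 := ndS (p := 24006) (l := 1) rfl N24006 D79887
theorem N46252 : nd 46252 = n79888 := ndS (p := 24006) (l := 2) rfl N24006 D79888
theorem N46253 : nd 46253 = n79889 := ndS (p := 24006) (l := 5) rfl N24006 D79889
theorem N46254 : nd 46254 = n79890 := ndS (p := 24006) (l := 6) rfl N24006 D79890
theorem N46255 : nd 46255 = n79891 := ndS (p := 24007) (l := 6) rfl N24007 D79891
theorem N46256 : nd 46256 = n79893 := ndS (p := 24009) (l := 0) rfl N24009 D79893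
theorem N46257 : nd 46257 = n79895 := ndS (p := 24009) (l := 2) rfl N24009 D79895
theorem N46258 : nd 46258 = n79896 := ndS (p := 24009) (l := 4) rfl N24009 D79896
theorem N46259 : nd 46259 = n79905 := ndS (p := 24011) (l := 1) rfl N24011 D79905
theorem N46260 : nd 46260 = n79906 := ndS (p := 24011) (l := 2) rfl N24011 D79906
theorem N46261 : nd 46261 = n79907 := ndS (p := 24011) (l := 4) rfl N24011 D79907
theorem N46262 : nd 46262 = n79909 := ndS (p := 24011) (l := 6) rfl N24011 D79909
theorem N46263 : nd 46263 = n79912 := ndS (p := 24014) (l := 0) rfl N24014 D79912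
theorem N46264 : nd 46264 = n79913 := ndS (p := 24014) (l := 2) rfl N24014 D79913
theorem N46265 : nd 46265 = n79914 := ndS (p := 24014) (l := 3) rfl N24014 D79914
theorem N46266 : nd 46266 = n79915 := ndS (p := 24014) (l := 4) rfl N24014 D79915
theorem N46267 : nd 46267 = n79916 := ndS (p := 24014) (l := 5) rfl N24014 D79916
theorem N46268 : nd 46268 = n79917 := ndS (p := 24014) (l := 6) rfl N24014 D79917
theorem N46269 : nd 46269 = n79918 := ndS (p := 24014) (l := 7) rfl N24014 D79918
theorem N46270 : nd 46270 = n79919 := ndS (p := 24015) (l := 3) rfl N24015 D79919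
theorem N46271 : nd 46271 = n79921 := ndS (p := 24015) (l := 5) rfl N24015 D79921
theorem N46272 : nd 46272 = n79922 := ndS (p := 24015) (l := 6) rfl N24015 D79922
theorem N46273 : nd 46273 = n79925 := ndS (p := 24016) (l := 5) rfl N24016 D79925
theorem N46274 : nd 46274 = n79926 := ndS (p := 24017) (l := 0) rfl N24017 D79926
theorem N46275 : nd 46275 = n79927 := ndS (p := 24017) (l := 1) rfl N24017 D79927
theorem N46276 : nd 46276 = n79928 := ndS (p := 24017) (l := 4) rfl N24017 D79928
theorem N46277 : nd 46277 = n79929 := ndS (p := 24017) (l := 7) rfl N24017 D79929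
theorem N46278 : nd 46278 = n79930 := ndS (p := 24019) (l := 3) rfl N24019 D79930
theorem N46279 : nd 46279 = n79932 := ndS (p := 24020) (l := 3) rfl N24020 D79932
theorem N46280 : nd 46280 = n79935 := ndS (p := 24021) (l := 6) rfl N24021 D79935
theorem N46281 : nd 46281 = n79936 := ndS (p := 24022) (l := 6) rfl N24022 D79936
theorem N46282 : nd 46282 = n79937 := ndS (p := 24023) (l := 3) rfl N24023 D79937
theorem N46283 : nd 46283 = n79938 := ndS (p := 24023) (l := 6) rfl N24023 D79938
theorem N46284 : nd 46284 = n79940 := ndS (p := 24024) (l := 1) rfl N24024 D79940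
theorem N46285 : nd 46285 = n79941 := ndS (p := 24024) (l := 7) rfl N24024 D79941
theorem N46286 : nd 46286 = n79942 := ndS (p := 24025) (l := 3) rfl N24025 D79942
theorem N46287 : nd 46287 = n79949 := ndS (p := 24028) (l := 3) rfl N24028 D79949
theorem N46288 : nd 46288 = n79951 := ndS (p := 24028) (l := 6) rfl N24028 D79951
theorem N46289 : nd 46289 = n79952 := ndS (p := 24030) (l := 3) rfl N24030 D79952
theorem N46290 : nd 46290 = n79955 := ndS (p := 24031) (l := 3) rfl N24031 D79955
theorem N46291 : nd 46291 = n79957 := ndS (p := 24032) (l := 0) rfl N24032 D79957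
theorem N46292 : nd 46292 = n79958 := ndS (p := 24032) (l := 1) rfl N24032 D79958
theorem N46293 : nd 46293 = n79959 := ndS (p := 24032) (l := 2) rfl N24032 D79959
theorem N46294 : nd 46294 = n79960 := ndS (p := 24032) (l := 5) rfl N24032 D79960
theorem N46295 : nd 46295 = n79961 := ndS (p := 24032) (l := 6) rfl N24032 D79961
theorem N46296 : nd 46296 = n79962 := ndS (p := 24033) (l := 6) rfl N24033 D79962
theorem N46297 : nd 46297 = n79965 := ndS (p := 24034) (l := 5) rfl N24034 D79965
theorem N46298 : nd 46298 = n79966 := ndS (p := 24034) (l := 7) rfl N24034 D79966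
theorem N46299 : nd 46299 = n79969 := ndS (p := 24035) (l := 4) rfl N24035 D79969
theorem N46300 : nd 46300 = n79972 := ndS (p := 24036) (l := 4) rfl N24036 D79972
theorem N46301 : nd 46301 = n79975 := ndS (p := 24038) (l := 3) rfl N24038 D79975
theorem N46302 : nd 46302 = n79976 := ndS (p := 24038) (l := 4) rfl N24038 D79976
theorem N46303 : nd 46303 = n79978 := ndS (p := 24038) (l := 6) rfl N24038 D79978
theorem N46304 : nd 46304 = n79980 := ndS (p := 24039) (l := 3) rfl N24039 D79980
theorem N46305 : nd 46305 = n79981 := ndS (p := 24039) (l := 4) rfl N24039 D79981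
theorem N46306 : nd 46306 = n79983 := ndS (p := 24039) (l := 6) rfl N24039 D79983
theorem N46307 : nd 46307 = n79984 := ndS (p := 24040) (l := 6) rfl N24040 D79984
theorem N46308 : nd 46308 = n79985 := ndS (p := 24041) (l := 0) rfl N24041 D79985
theorem N46309 : nd 46309 = n79986 := ndS (p := 24041) (l := 1) rfl N24041 D79986
theorem N46310 : nd 46310 = n79987 := ndS (p := 24041) (l := 5) rfl N24041 D79987
theorem N46311 : nd 46311 = n79988 := ndS (p := 24041) (l := 7) rfl N24041 D79988
theorem N46312 : nd 46312 = n79990 := ndS (p := 24042) (l := 7) rfl N24042 D79990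
theorem N46313 : nd 46313 = n79994 := ndS (p := 24044) (l := 3) rfl N24044 D79994
theorem N46314 : nd 46314 = n79995 := ndS (p := 24045) (l := 3) rfl N24045 D79995
theorem N46315 : nd 46315 = n79996 := ndS (p := 24045) (l := 5) rfl N24045 D79996
theorem N46316 : nd 46316 = n79998 := ndS (p := 24047) (l := 3) rfl N24047 D79998
theorem N46317 : nd 46317 = n79999 := ndS (p := 24047) (l := 5) rfl N24047 D79999
theorem N46318 : nd 46318 = n80000 := ndS (p := 24047) (l := 6) rfl N24047 D80000
theorem N46319 : nd 46319 = n80002 := ndS (p := 24048) (l := 1) rfl N24048 D80002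
theorem N46320 : nd 46320 = n80003 := ndS (p := 24048) (l := 7) rfl N24048 D80003
theorem N46321 : nd 46321 = n80005 := ndS (p := 24049) (l := 5) rfl N24049 D80005
theorem N46322 : nd 46322 = n80006 := ndS (p := 24049) (l := 6) rfl N24049 D80006
theorem N46323 : nd 46323 = n80007 := ndS (p := 24050) (l := 3) rfl N24050 D80007
theorem N46324 : nd 46324 = n80008 := ndS (p := 24050) (l := 5) rfl N24050 D80008
theorem N46325 : nd 46325 = n80010 := ndS (p := 24051) (l := 0) rfl N24051 D80010
theorem N46326 : nd 46326 = n80011 := ndS (p := 24051) (l := 1) rfl N24051 D80011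
theorem N46327 : nd 46327 = n80012 := ndS (p := 24051) (l := 2) rfl N24051 D80012
theorem N46328 : nd 46328 = n80013 := ndS (p := 24051) (l := 5) rfl N24051 D80013
theorem N46329 : nd 46329 = n80014 := ndS (p := 24052) (l := 6) rfl N24052 D80014
theorem N46330 : nd 46330 = n80016 := ndS (p := 24053) (l := 3) rfl N24053 D80016
theorem N46331 : nd 46331 = n80017 := ndS (p := 24053) (l := 4) rfl N24053 D80017
theorem N46332 : nd 46332 = n80021 := ndS (p := 24054) (l := 3) rfl N24054 D80021
theorem N46333 : nd 46333 = n80032 := ndS (p := 24056) (l := 1) rfl N24056 D80032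
theorem N46334 : nd 46334 = n80033 := ndS (p := 24056) (l := 2) rfl N24056 D80033
theorem N46335 : nd 46335 = n80034 := ndS (p := 24056) (l := 4) rfl N24056 D80034
theorem N46336 : nd 46336 = n80036 := ndS (p := 24056) (l := 6) rfl N24056 D80036
theorem N46337 : nd 46337 = n80038 := ndS (p := 24057) (l := 0) rfl N24057 D80038
theorem N46338 : nd 46338 = n80039 := ndS (p := 24057) (l := 1) rfl N24057 D80039
theorem N46339 : nd 46339 = n80040 := ndS (p := 24057) (l := 3) rfl N24057 D80040
theorem N46340 : nd 46340 = n80041 := ndS (p := 24057) (l := 5) rfl N24057 D80041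
theorem N46341 : nd 46341 = n80049 := ndS (p := 24058) (l := 0) rfl N24058 D80049
theorem N46342 : nd 46342 = n80054 := ndS (p := 24059) (l := 0) rfl N24059 D80054
theorem N46343 : nd 46343 = n80056 := ndS (p := 24059) (l := 2) rfl N24059 D80056
theorem N46344 : nd 46344 = n80057 := ndS (p := 24059) (l := 4) rfl N24059 D80057
theorem N46345 : nd 46345 = n80060 := ndS (p := 24060) (l := 3) rfl N24060 D80060
theorem N46346 : nd 46346 = n80061 := ndS (p := 24060) (l := 5) rfl N24060 D80061
theorem N46347 : nd 46347 = n80070 := ndS (p := 24062) (l := 3) rfl N24062 D80070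
theorem N46348 : nd 46348 = n80081 := ndS (p := 24063) (l := 0) rfl N24063 D80081
theorem N46349 : nd 46349 = n80082 := ndS (p := 24063) (l := 2) rfl N24063 D80082
theorem N46350 : nd 46350 = n80083 := ndS (p := 24063) (l := 5) rfl N24063 D80083
theorem N46351 : nd 46351 = n80085 := ndS (p := 24064) (l := 6) rfl N24064 D80085
theorem N46352 : nd 46352 = n80107 := ndS (p := 24066) (l := 3) rfl N24066 D80107
theorem N46353 : nd 46353 = n80120 := ndS (p := 24067) (l := 3) rfl N24067 D80120
theorem N46354 : nd 46354 = n80121 := ndS (p := 24067) (l := 4) rfl N24067 D80121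
theorem N46355 : nd 46355 = n80122 := ndS (p := 24067) (l := 5) rfl N24067 D80122
theorem N46356 : nd 46356 = n80123 := ndS (p := 24067) (l := 6) rfl N24067 D80123
theorem N46357 : nd 46357 = n80125 := ndS (p := 24068) (l := 3) rfl N24068 D80125
theorem N46358 : nd 46358 = n80127 := ndS (p := 24068) (l := 5) rfl N24068 D80127
theorem N46359 : nd 46359 = n80128 := ndS (p := 24068) (l := 6) rfl N24068 D80128
theorem N46360 : nd 46360 = n80138 := ndS (p := 24069) (l := 3) rfl N24069 D80138
theorem N46361 : nd 46361 = n80140 := ndS (p := 24069) (l := 6) rfl N24069 D80140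
theorem N46362 : nd 46362 = n80148 := ndS (p := 24070) (l := 6) rfl N24070 D80148
theorem N46363 : nd 46363 = n80152 := ndS (p := 24071) (l := 6) rfl N24071 D80152
theorem N46364 : nd 46364 = n80162 := ndS (p := 24073) (l := 6) rfl N24073 D80162
theorem N46365 : nd 46365 = n80167 := ndS (p := 24077) (l := 0) rfl N24077 D80167
theorem N46366 : nd 46366 = n80168 := ndS (p := 24077) (l := 1) rfl N24077 D80168
theorem N46367 : nd 46367 = n80170 := ndS (p := 24077) (l := 7) rfl N24077 D80170
theorem N46368 : nd 46368 = n80171 := ndS (p := 24078) (l := 3) rfl N24078 D80171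
theorem N46369 : nd 46369 = n80172 := ndS (p := 24078) (l := 6) rfl N24078 D80172
theorem N46370 : nd 46370 = n80180 := ndS (p := 24081) (l := 6) rfl N24081 D80180
theorem N46371 : nd 46371 = n80181 := ndS (p := 24082) (l := 3) rfl N24082 D80181
theorem N46372 : nd 46372 = n80188 := ndS (p := 24084) (l := 3) rfl N24084 D80188
theorem N46373 : nd 46373 = n80190 := ndS (p := 24084) (l := 6) rfl N24084 D80190
theorem N46374 : nd 46374 = n80195 := ndS (p := 24087) (l := 1) rfl N24087 D80195
theorem N46375 : nd 46375 = n80197 := ndS (p := 24087) (l := 7) rfl N24087 D80197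
theorem N46376 : nd 46376 = n80201 := ndS (p := 24088) (l := 6) rfl N24088 D80201
theorem N46377 : nd 46377 = n80206 := ndS (p := 24091) (l := 6) rfl N24091 D80206
theorem N46378 : nd 46378 = n80214 := ndS (p := 24095) (l := 6) rfl N24095 D80214
theorem N46379 : nd 46379 = n80215 := ndS (p := 24096) (l := 6) rfl N24096 D80215
theorem N46380 : nd 46380 = n80216 := ndS (p := 24097) (l := 0) rfl N24097 D80216
theorem N46381 : nd 46381 = n80217 := ndS (p := 24097) (l := 1) rfl N24097 D80217
theorem N46382 : nd 46382 = n80218 := ndS (p := 24097) (l := 5) rfl N24097 D80218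
theorem N46383 : nd 46383 = n80219 := ndS (p := 24097) (l := 7) rfl N24097 D80219
theorem N46384 : nd 46384 = n80220 := ndS (p := 24098) (l := 0) rfl N24098 D80220
theorem N46385 : nd 46385 = n80222 := ndS (p := 24098) (l := 5) rfl N24098 D80222
theorem N46386 : nd 46386 = n80223 := ndS (p := 24098) (l := 7) rfl N24098 D80223
theorem N46387 : nd 46387 = n80224 := ndS (p := 24099) (l := 3) rfl N24099 D80224
theorem N46388 : nd 46388 = n80227 := ndS (p := 24100) (l := 3) rfl N24100 D80227
theorem N46389 : nd 46389 = n80229 := ndS (p := 24100) (l := 6) rfl N24100 D80229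
theorem N46390 : nd 46390 = n80233 := ndS (p := 24101) (l := 7) rfl N24101 D80233
theorem N46391 : nd 46391 = n80238 := ndS (p := 24104) (l := 6) rfl N24104 D80238
theorem N46392 : nd 46392 = n80253 := ndS (p := 24107) (l := 3) rfl N24107 D80253
theorem N46393 : nd 46393 = n80255 := ndS (p := 24107) (l := 6) rfl N24107 D80255
theorem N46394 : nd 46394 = n80258 := ndS (p := 24109) (l := 1) rfl N24109 D80258
theorem N46395 : nd 46395 = n80261 := ndS (p := 24110) (l := 6) rfl N24110 D80261
theorem N46396 : nd 46396 = n80264 := ndS (p := 24111) (l := 5) rfl N24111 D80264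
theorem N46397 : nd 46397 = n80274 := ndS (p := 24115) (l := 3) rfl N24115 D80274
theorem N46398 : nd 46398 = n80275 := ndS (p := 24115) (l := 6) rfl N24115 D80275
theorem N46399 : nd 46399 = n80278 := ndS (p := 24117) (l := 1) rfl N24117 D80278
theorem N46400 : nd 46400 = n80279 := ndS (p := 24117) (l := 5) rfl N24117 D80279
theorem N46401 : nd 46401 = n80280 := ndS (p := 24117) (l := 7) rfl N24117 D80280
theorem N46402 : nd 46402 = n80281 := ndS (p := 24118) (l := 0) rfl N24118 D80281
theorem N46403 : nd 46403 = n80284 := ndS (p := 24118) (l := 7) rfl N24118 D80284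
theorem N46404 : nd 46404 = n80311 := ndS (p := 24121) (l := 2) rfl N24121 D80311
theorem N46405 : nd 46405 = n80312 := ndS (p := 24121) (l := 4) rfl N24121 D80312
theorem N46406 : nd 46406 = n80313 := ndS (p := 24121) (l := 5) rfl N24121 D80313
theorem N46407 : nd 46407 = n80314 := ndS (p := 24121) (l := 6) rfl N24121 D80314
theorem N46408 : nd 46408 = n80322 := ndS (p := 24123) (l := 7) rfl N24123 D80322
theorem N46409 : nd 46409 = n80347 := ndS (p := 24124) (l := 5) rfl N24124 D80347
theorem N46410 : nd 46410 = n80348 := ndS (p := 24124) (l := 6) rfl N24124 D80348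
theorem N46411 : nd 46411 = n80350 := ndS (p := 24125) (l := 5) rfl N24125 D80350
theorem N46412 : nd 46412 = n80351 := ndS (p := 24125) (l := 6) rfl N24125 D80351
theorem N46413 : nd 46413 = n80352 := ndS (p := 24126) (l := 0) rfl N24126 D80352
theorem N46414 : nd 46414 = n80353 := ndS (p := 24126) (l := 1) rfl N24126 D80353
theorem N46415 : nd 46415 = n80356 := ndS (p := 24127) (l := 0) rfl N24127 D80356
theorem N46416 : nd 46416 = n80357 := ndS (p := 24127) (l := 1) rfl N24127 D80357
theorem N46417 : nd 46417 = n80359 := ndS (p := 24127) (l := 7) rfl N24127 D80359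
theorem N46418 : nd 46418 = n80365 := ndS (p := 24128) (l := 5) rfl N24128 D80365
theorem N46419 : nd 46419 = n80366 := ndS (p := 24128) (l := 6) rfl N24128 D80366
theorem N46420 : nd 46420 = n80373 := ndS (p := 24130) (l := 7) rfl N24130 D80373
theorem N46421 : nd 46421 = n80374 := ndS (p := 24131) (l := 4) rfl N24131 D80374
theorem N46422 : nd 46422 = n80376 := ndS (p := 24132) (l := 0) rfl N24132 D80376
theorem N46423 : nd 46423 = n80378 := ndS (p := 24132) (l := 3) rfl N24132 D80378
theorem N46424 : nd 46424 = n80408 := ndS (p := 24134) (l := 0) rfl N24134 D80408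
theorem N46425 : nd 46425 = n80409 := ndS (p := 24134) (l := 1) rfl N24134 D80409
theorem N46426 : nd 46426 = n80410 := ndS (p := 24134) (l := 6) rfl N24134 D80410
theorem N46427 : nd 46427 = n80412 := ndS (p := 24135) (l := 5) rfl N24135 D80412
theorem N46428 : nd 46428 = n80413 := ndS (p := 24135) (l := 7) rfl N24135 D80413
theorem N46429 : nd 46429 = n80414 := ndS (p := 24136) (l := 4) rfl N24136 D80414
theorem N46430 : nd 46430 = n80422 := ndS (p := 24139) (l := 6) rfl N24139 D80422
theorem N46431 : nd 46431 = n80423 := ndS (p := 24140) (l := 6) rfl N24140 D80423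
theorem N46432 : nd 46432 = n80424 := ndS (p := 24141) (l := 0) rfl N24141 D80424
theorem N46433 : nd 46433 = n80425 := ndS (p := 24141) (l := 1) rfl N24141 D80425
theorem N46434 : nd 46434 = n80426 := ndS (p := 24141) (l := 5) rfl N24141 D80426
theorem N46435 : nd 46435 = n80427 := ndS (p := 24141) (l := 7) rfl N24141 D80427
theorem N46436 : nd 46436 = n80428 := ndS (p := 24142) (l := 3) rfl N24142 D80428
theorem N46437 : nd 46437 = n80429 := ndS (p := 24142) (l := 5) rfl N24142 D80429
theorem N46438 : nd 46438 = n80430 := ndS (p := 24142) (l := 6) rfl N24142 D80430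
theorem N46439 : nd 46439 = n80431 := ndS (p := 24143) (l := 3) rfl N24143 D80431
theorem N46440 : nd 46440 = n80432 := ndS (p := 24143) (l := 5) rfl N24143 D80432
theorem N46441 : nd 46441 = n80436 := ndS (p := 24144) (l := 4) rfl N24144 D80436
theorem N46442 : nd 46442 = n80437 := ndS (p := 24144) (l := 7) rfl N24144 D80437
theorem N46443 : nd 46443 = n80440 := ndS (p := 24147) (l := 3) rfl N24147 D80440
theorem N46444 : nd 46444 = n80442 := ndS (p := 24147) (l := 6) rfl N24147 D80442
theorem N46445 : nd 46445 = n80453 := ndS (p := 24152) (l := 0) rfl N24152 D80453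
theorem N46446 : nd 46446 = n80454 := ndS (p := 24152) (l := 1) rfl N24152 D80454
theorem N46447 : nd 46447 = n80455 := ndS (p := 24152) (l := 6) rfl N24152 D80455
theorem N46448 : nd 46448 = n80456 := ndS (p := 24153) (l := 1) rfl N24153 D80456
theorem N46449 : nd 46449 = n80457 := ndS (p := 24153) (l := 5) rfl N24153 D80457
theorem N46450 : nd 46450 = n80458 := ndS (p := 24153) (l := 7) rfl N24153 D80458
theorem N46451 : nd 46451 = n80459 := ndS (p := 24154) (l := 4) rfl N24154 D80459
theorem N46452 : nd 46452 = n80463 := ndS (p := 24157) (l := 5) rfl N24157 D80463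
theorem N46453 : nd 46453 = n80466 := ndS (p := 24158) (l := 5) rfl N24158 D80466
theorem N46454 : nd 46454 = n80468 := ndS (p := 24159) (l := 3) rfl N24159 D80468
theorem N46455 : nd 46455 = n80469 := ndS (p := 24159) (l := 5) rfl N24159 D80469
theorem N46456 : nd 46456 = n80470 := ndS (p := 24159) (l := 6) rfl N24159 D80470
theorem N46457 : nd 46457 = n80472 := ndS (p := 24160) (l := 1) rfl N24160 D80472
theorem N46458 : nd 46458 = n80473 := ndS (p := 24160) (l := 4) rfl N24160 D80473
theorem N46459 : nd 46459 = n80474 := ndS (p := 24160) (l := 7) rfl N24160 D80474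
theorem N46460 : nd 46460 = n80480 := ndS (p := 24163) (l := 4) rfl N24163 D80480
theorem N46461 : nd 46461 = n80483 := ndS (p := 24165) (l := 3) rfl N24165 D80483
theorem N46462 : nd 46462 = n80485 := ndS (p := 24165) (l := 6) rfl N24165 D80485
theorem N46463 : nd 46463 = n80486 := ndS (p := 24166) (l := 4) rfl N24166 D80486
theorem N46464 : nd 46464 = n80491 := ndS (p := 24169) (l := 3) rfl N24169 D80491
theorem N46465 : nd 46465 = n80497 := ndS (p := 24170) (l := 4) rfl N24170 D80497
theorem N46466 : nd 46466 = n80499 := ndS (p := 24171) (l := 7) rfl N24171 D80499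
theorem N46467 : nd 46467 = n80502 := ndS (p := 24172) (l := 0) rfl N24172 D80502
theorem N46468 : nd 46468 = n80504 := ndS (p := 24172) (l := 2) rfl N24172 D80504
theorem N46469 : nd 46469 = n80505 := ndS (p := 24172) (l := 5) rfl N24172 D80505
theorem N46470 : nd 46470 = n80506 := ndS (p := 24172) (l := 6) rfl N24172 D80506
theorem N46471 : nd 46471 = n80507 := ndS (p := 24173) (l := 0) rfl N24173 D80507
theorem N46472 : nd 46472 = n80508 := ndS (p := 24173) (l := 1) rfl N24173 D80508
theorem N46473 : nd 46473 = n80509 := ndS (p := 24173) (l := 4) rfl N24173 D80509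
theorem N46474 : nd 46474 = n80510 := ndS (p := 24173) (l := 6) rfl N24173 D80510
theorem N46475 : nd 46475 = n80511 := ndS (p := 24174) (l := 0) rfl N24174 D80511
theorem N46476 : nd 46476 = n80513 := ndS (p := 24174) (l := 5) rfl N24174 D80513
theorem N46477 : nd 46477 = n80514 := ndS (p := 24174) (l := 7) rfl N24174 D80514
theorem N46478 : nd 46478 = n80519 := ndS (p := 24177) (l := 3) rfl N24177 D80519
theorem N46479 : nd 46479 = n80527 := ndS (p := 24182) (l := 3) rfl N24182 D80527
theorem N46480 : nd 46480 = n80528 := ndS (p := 24182) (l := 4) rfl N24182 D80528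
theorem N46481 : nd 46481 = n80529 := ndS (p := 24182) (l := 5) rfl N24182 D80529
theorem N46482 : nd 46482 = n80537 := ndS (p := 24183) (l := 6) rfl N24183 D80537
theorem N46483 : nd 46483 = n80542 := ndS (p := 24184) (l := 0) rfl N24184 D80542
theorem N46484 : nd 46484 = n80543 := ndS (p := 24184) (l := 1) rfl N24184 D80543
theorem N46485 : nd 46485 = n80549 := ndS (p := 24185) (l := 3) rfl N24185 D80549
theorem N46486 : nd 46486 = n80551 := ndS (p := 24186) (l := 0) rfl N24186 D80551
theorem N46487 : nd 46487 = n80553 := ndS (p := 24186) (l := 2) rfl N24186 D80553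
theorem N46488 : nd 46488 = n80554 := ndS (p := 24187) (l := 3) rfl N24187 D80554
theorem N46489 : nd 46489 = n80560 := ndS (p := 24189) (l := 0) rfl N24189 D80560
theorem N46490 : nd 46490 = n80561 := ndS (p := 24189) (l := 5) rfl N24189 D80561
theorem N46491 : nd 46491 = n80562 := ndS (p := 24189) (l := 7) rfl N24189 D80562
theorem N46492 : nd 46492 = n80566 := ndS (p := 24190) (l := 1) rfl N24190 D80566
theorem N46493 : nd 46493 = n80567 := ndS (p := 24190) (l := 2) rfl N24190 D80567
theorem N46494 : nd 46494 = n80571 := ndS (p := 24191) (l := 1) rfl N24191 D80571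
theorem N46495 : nd 46495 = n80572 := ndS (p := 24191) (l := 4) rfl N24191 D80572
theorem N46496 : nd 46496 = n80573 := ndS (p := 24191) (l := 6) rfl N24191 D80573
theorem N46497 : nd 46497 = n80575 := ndS (p := 24192) (l := 1) rfl N24192 D80575
theorem N46498 : nd 46498 = n80577 := ndS (p := 24192) (l := 7) rfl N24192 D80577
theorem N46499 : nd 46499 = n80582 := ndS (p := 24195) (l := 5) rfl N24195 D80582
theorem N46500 : nd 46500 = n80587 := ndS (p := 24198) (l := 1) rfl N24198 D80587
theorem N46501 : nd 46501 = n80596 := ndS (p := 24200) (l := 3) rfl N24200 D80596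
theorem N46502 : nd 46502 = n80597 := ndS (p := 24200) (l := 4) rfl N24200 D80597
theorem N46503 : nd 46503 = n80600 := ndS (p := 24201) (l := 5) rfl N24201 D80600
theorem N46504 : nd 46504 = n80601 := ndS (p := 24201) (l := 6) rfl N24201 D80601
theorem N46505 : nd 46505 = n80602 := ndS (p := 24202) (l := 0) rfl N24202 D80602
theorem N46506 : nd 46506 = n80603 := ndS (p := 24202) (l := 1) rfl N24202 D80603
theorem N46507 : nd 46507 = n80604 := ndS (p := 24202) (l := 4) rfl N24202 D80604
theorem N46508 : nd 46508 = n80606 := ndS (p := 24203) (l := 0) rfl N24203 D80606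
theorem N46509 : nd 46509 = n80607 := ndS (p := 24203) (l := 1) rfl N24203 D80607
theorem N46510 : nd 46510 = n80608 := ndS (p := 24203) (l := 7) rfl N24203 D80608
theorem N46511 : nd 46511 = n80610 := ndS (p := 24204) (l := 3) rfl N24204 D80610
theorem N46512 : nd 46512 = n80611 := ndS (p := 24206) (l := 3) rfl N24206 D80611
theorem N46513 : nd 46513 = n80679 := ndS (p := 24212) (l := 6) rfl N24212 D80679
theorem N46514 : nd 46514 = n80681 := ndS (p := 24213) (l := 1) rfl N24213 D80681
theorem N46515 : nd 46515 = n80684 := ndS (p := 24214) (l := 3) rfl N24214 D80684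
theorem N46516 : nd 46516 = n80689 := ndS (p := 24215) (l := 7) rfl N24215 D80689
theorem N46517 : nd 46517 = n80707 := ndS (p := 24218) (l := 6) rfl N24218 D80707
theorem N46518 : nd 46518 = n80708 := ndS (p := 24219) (l := 0) rfl N24219 D80708
theorem N46519 : nd 46519 = n80710 := ndS (p := 24219) (l := 6) rfl N24219 D80710
theorem N46520 : nd 46520 = n81424 := ndS (p := 24222) (l := 6) rfl N24222 D81424
theorem N46521 : nd 46521 = n81430 := ndS (p := 24225) (l := 5) rfl N24225 D81430
theorem N46522 : nd 46522 = n81433 := ndS (p := 24227) (l := 5) rfl N24227 D81433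
theorem N46523 : nd 46523 = n81434 := ndS (p := 24228) (l := 6) rfl N24228 D81434
theorem N46524 : nd 46524 = n81437 := ndS (p := 24230) (l := 6) rfl N24230 D81437
theorem N46525 : nd 46525 = n81438 := ndS (p := 24231) (l := 0) rfl N24231 D81438
theorem N46526 : nd 46526 = n81439 := ndS (p := 24231) (l := 1) rfl N24231 D81439
theorem N46527 : nd 46527 = n81440 := ndS (p := 24231) (l := 5) rfl N24231 D81440
theorem N46528 : nd 46528 = n81441 := ndS (p := 24231) (l := 7) rfl N24231 D81441
theorem N46529 : nd 46529 = n81443 := ndS (p := 24232) (l := 6) rfl N24232 D81443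
theorem N46530 : nd 46530 = n81444 := ndS (p := 24233) (l := 6) rfl N24233 D81444
theorem N46531 : nd 46531 = n81461 := ndS (p := 24235) (l := 4) rfl N24235 D81461
theorem N46532 : nd 46532 = n81476 := ndS (p := 24237) (l := 3) rfl N24237 D81476
theorem N46533 : nd 46533 = n81477 := ndS (p := 24237) (l := 5) rfl N24237 D81477
theorem N46534 : nd 46534 = n81480 := ndS (p := 24238) (l := 4) rfl N24238 D81480
theorem N46535 : nd 46535 = n81495 := ndS (p := 24239) (l := 4) rfl N24239 D81495
theorem N46536 : nd 46536 = n81499 := ndS (p := 24240) (l := 3) rfl N24240 D81499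
theorem N46537 : nd 46537 = n81500 := ndS (p := 24240) (l := 5) rfl N24240 D81500
theorem N46538 : nd 46538 = n81501 := ndS (p := 24240) (l := 7) rfl N24240 D81501
theorem N46539 : nd 46539 = n81502 := ndS (p := 24242) (l := 3) rfl N24242 D81502
theorem N46540 : nd 46540 = n81503 := ndS (p := 24243) (l := 3) rfl N24243 D81503
theorem N46541 : nd 46541 = n81504 := ndS (p := 24243) (l := 5) rfl N24243 D81504
theorem N46542 : nd 46542 = n81506 := ndS (p := 24244) (l := 3) rfl N24244 D81506
theorem N46543 : nd 46543 = n81507 := ndS (p := 24244) (l := 5) rfl N24244 D81507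
theorem N46544 : nd 46544 = n81509 := ndS (p := 24245) (l := 0) rfl N24245 D81509
theorem N46545 : nd 46545 = n81511 := ndS (p := 24245) (l := 2) rfl N24245 D81511
theorem N46546 : nd 46546 = n81512 := ndS (p := 24245) (l := 5) rfl N24245 D81512
theorem N46547 : nd 46547 = n81513 := ndS (p := 24246) (l := 0) rfl N24246 D81513
theorem N46548 : nd 46548 = n81514 := ndS (p := 24246) (l := 1) rfl N24246 D81514
theorem N46549 : nd 46549 = n81515 := ndS (p := 24246) (l := 6) rfl N24246 D81515
theorem N46550 : nd 46550 = n81519 := ndS (p := 24247) (l := 5) rfl N24247 D81519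
theorem N46551 : nd 46551 = n81523 := ndS (p := 24250) (l := 5) rfl N24250 D81523
theorem N46552 : nd 46552 = n81524 := ndS (p := 24250) (l := 6) rfl N24250 D81524
theorem N46553 : nd 46553 = n81525 := ndS (p := 24251) (l := 6) rfl N24251 D81525
theorem N46554 : nd 46554 = n81544 := ndS (p := 24252) (l := 3) rfl N24252 D81544
theorem N46555 : nd 46555 = n81545 := ndS (p := 24252) (l := 6) rfl N24252 D81545
theorem N46556 : nd 46556 = n81546 := ndS (p := 24253) (l := 3) rfl N24253 D81546
theorem N46557 : nd 46557 = n81547 := ndS (p := 24253) (l := 6) rfl N24253 D81547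
theorem N46558 : nd 46558 = n81548 := ndS (p := 24254) (l := 0) rfl N24254 D81548
theorem N46559 : nd 46559 = n81549 := ndS (p := 24254) (l := 1) rfl N24254 D81549
theorem N46560 : nd 46560 = n81550 := ndS (p := 24254) (l := 5) rfl N24254 D81550
theorem N46561 : nd 46561 = n81555 := ndS (p := 24255) (l := 3) rfl N24255 D81555
theorem N46562 : nd 46562 = n81559 := ndS (p := 24256) (l := 1) rfl N24256 D81559
theorem N46563 : nd 46563 = n81560 := ndS (p := 24256) (l := 4) rfl N24256 D81560
theorem N46564 : nd 46564 = n81563 := ndS (p := 24257) (l := 3) rfl N24257 D81563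
theorem N46565 : nd 46565 = n81564 := ndS (p := 24257) (l := 5) rfl N24257 D81564
theorem N46566 : nd 46566 = n81567 := ndS (p := 24260) (l := 5) rfl N24260 D81567
theorem N46567 : nd 46567 = n81569 := ndS (p := 24261) (l := 1) rfl N24261 D81569
theorem N46568 : nd 46568 = n81577 := ndS (p := 24265) (l := 6) rfl N24265 D81577
theorem N46569 : nd 46569 = n81578 := ndS (p := 24266) (l := 0) rfl N24266 D81578
theorem N46570 : nd 46570 = n81579 := ndS (p := 24266) (l := 1) rfl N24266 D81579
theorem N46571 : nd 46571 = n81581 := ndS (p := 24267) (l := 3) rfl N24267 D81581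
theorem N46572 : nd 46572 = n81582 := ndS (p := 24267) (l := 6) rfl N24267 D81582
theorem N46573 : nd 46573 = n81585 := ndS (p := 24269) (l := 1) rfl N24269 D81585
theorem N46574 : nd 46574 = n81587 := ndS (p := 24269) (l := 7) rfl N24269 D81587
theorem N46575 : nd 46575 = n81588 := ndS (p := 24270) (l := 3) rfl N24270 D81588
theorem N46576 : nd 46576 = n81590 := ndS (p := 24270) (l := 6) rfl N24270 D81590
theorem N46577 : nd 46577 = n81591 := ndS (p := 24271) (l := 3) rfl N24271 D81591
theorem N46578 : nd 46578 = n81603 := ndS (p := 24273) (l := 5) rfl N24273 D81603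
theorem N46579 : nd 46579 = n81612 := ndS (p := 24276) (l := 3) rfl N24276 D81612
theorem N46580 : nd 46580 = n81613 := ndS (p := 24276) (l := 6) rfl N24276 D81613
theorem N46581 : nd 46581 = n81636 := ndS (p := 24282) (l := 3) rfl N24282 D81636
theorem N46582 : nd 46582 = n81638 := ndS (p := 24282) (l := 6) rfl N24282 D81638
theorem N46583 : nd 46583 = n81639 := ndS (p := 24283) (l := 4) rfl N24283 D81639
theorem N46584 : nd 46584 = n81648 := ndS (p := 24285) (l := 3) rfl N24285 D81648
theorem N46585 : nd 46585 = n81649 := ndS (p := 24285) (l := 5) rfl N24285 D81649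
theorem N46586 : nd 46586 = n81650 := ndS (p := 24285) (l := 7) rfl N24285 D81650
theorem N46587 : nd 46587 = n81651 := ndS (p := 24287) (l := 4) rfl N24287 D81651
theorem N46588 : nd 46588 = n81652 := ndS (p := 24287) (l := 5) rfl N24287 D81652
theorem N46589 : nd 46589 = n81654 := ndS (p := 24288) (l := 3) rfl N24288 D81654
theorem N46590 : nd 46590 = n81655 := ndS (p := 24288) (l := 4) rfl N24288 D81655
theorem N46591 : nd 46591 = n81656 := ndS (p := 24288) (l := 6) rfl N24288 D81656
theorem N46592 : nd 46592 = n81657 := ndS (p := 24289) (l := 5) rfl N24289 D81657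
theorem N46593 : nd 46593 = n81658 := ndS (p := 24289) (l := 6) rfl N24289 D81658
theorem N46594 : nd 46594 = n81659 := ndS (p := 24290) (l := 0) rfl N24290 D81659
theorem N46595 : nd 46595 = n81660 := ndS (p := 24290) (l := 4) rfl N24290 D81660
theorem N46596 : nd 46596 = n81661 := ndS (p := 24290) (l := 6) rfl N24290 D81661
theorem N46597 : nd 46597 = n81662 := ndS (p := 24291) (l := 0) rfl N24291 D81662
theorem N46598 : nd 46598 = n81663 := ndS (p := 24291) (l := 1) rfl N24291 D81663
theorem N46599 : nd 46599 = n81664 := ndS (p := 24291) (l := 5) rfl N24291 D81664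
theorem N46600 : nd 46600 = n81667 := ndS (p := 24292) (l := 5) rfl N24292 D81667
theorem N46601 : nd 46601 = n81671 := ndS (p := 24294) (l := 3) rfl N24294 D81671
theorem N46602 : nd 46602 = n81677 := ndS (p := 24297) (l := 6) rfl N24297 D81677
theorem N46603 : nd 46603 = n81680 := ndS (p := 24298) (l := 5) rfl N24298 D81680
theorem N46604 : nd 46604 = n81683 := ndS (p := 24299) (l := 1) rfl N24299 D81683
theorem N46605 : nd 46605 = n81688 := ndS (p := 24300) (l := 4) rfl N24300 D81688
theorem N46606 : nd 46606 = n81690 := ndS (p := 24302) (l := 2) rfl N24302 D81690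
theorem N46607 : nd 46607 = n81691 := ndS (p := 24302) (l := 4) rfl N24302 D81691
theorem N46608 : nd 46608 = n81692 := ndS (p := 24302) (l := 6) rfl N24302 D81692
theorem N46609 : nd 46609 = n81693 := ndS (p := 24303) (l := 0) rfl N24303 D81693
theorem N46610 : nd 46610 = n81695 := ndS (p := 24303) (l := 5) rfl N24303 D81695
theorem N46611 : nd 46611 = n81703 := ndS (p := 24305) (l := 3) rfl N24305 D81703
theorem N46612 : nd 46612 = n81704 := ndS (p := 24305) (l := 4) rfl N24305 D81704
theorem N46613 : nd 46613 = n81705 := ndS (p := 24305) (l := 5) rfl N24305 D81705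
theorem N46614 : nd 46614 = n81706 := ndS (p := 24305) (l := 6) rfl N24305 D81706
theorem N46615 : nd 46615 = n81708 := ndS (p := 24306) (l := 3) rfl N24306 D81708
theorem N46616 : nd 46616 = n81709 := ndS (p := 24306) (l := 4) rfl N24306 D81709
theorem N46617 : nd 46617 = n81710 := ndS (p := 24306) (l := 5) rfl N24306 D81710
theorem N46618 : nd 46618 = n81711 := ndS (p := 24306) (l := 6) rfl N24306 D81711
theorem N46619 : nd 46619 = n81713 := ndS (p := 24307) (l := 1) rfl N24307 D81713
theorem N46620 : nd 46620 = n81714 := ndS (p := 24307) (l := 4) rfl N24307 D81714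
theorem N46621 : nd 46621 = n81715 := ndS (p := 24307) (l := 7) rfl N24307 D81715
theorem N46622 : nd 46622 = n81716 := ndS (p := 24309) (l := 0) rfl N24309 D81716
theorem N46623 : nd 46623 = n81718 := ndS (p := 24309) (l := 2) rfl N24309 D81718
theorem N46624 : nd 46624 = n81719 := ndS (p := 24309) (l := 5) rfl N24309 D81719
theorem N46625 : nd 46625 = n81720 := ndS (p := 24309) (l := 6) rfl N24309 D81720
theorem N46626 : nd 46626 = n81723 := ndS (p := 24310) (l := 4) rfl N24310 D81723
theorem N46627 : nd 46627 = n81724 := ndS (p := 24310) (l := 6) rfl N24310 D81724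
theorem N46628 : nd 46628 = n81725 := ndS (p := 24311) (l := 5) rfl N24311 D81725
theorem N46629 : nd 46629 = n81726 := ndS (p := 24311) (l := 7) rfl N24311 D81726
theorem N46630 : nd 46630 = n81734 := ndS (p := 24312) (l := 4) rfl N24312 D81734
theorem N46631 : nd 46631 = n81739 := ndS (p := 24314) (l := 3) rfl N24314 D81739
theorem N46632 : nd 46632 = n81740 := ndS (p := 24314) (l := 4) rfl N24314 D81740
theorem N46633 : nd 46633 = n81743 := ndS (p := 24315) (l := 4) rfl N24315 D81743
theorem N46634 : nd 46634 = n81746 := ndS (p := 24316) (l := 1) rfl N24316 D81746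
theorem N46635 : nd 46635 = n81747 := ndS (p := 24316) (l := 3) rfl N24316 D81747
theorem N46636 : nd 46636 = n81748 := ndS (p := 24316) (l := 5) rfl N24316 D81748
theorem N46637 : nd 46637 = n81749 := ndS (p := 24316) (l := 7) rfl N24316 D81749
theorem N46638 : nd 46638 = n81758 := ndS (p := 24320) (l := 0) rfl N24320 D81758
theorem N46639 : nd 46639 = n81760 := ndS (p := 24320) (l := 2) rfl N24320 D81760
theorem N46640 : nd 46640 = n81761 := ndS (p := 24320) (l := 5) rfl N24320 D81761
theorem N46641 : nd 46641 = n81762 := ndS (p := 24320) (l := 6) rfl N24320 D81762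
theorem N46642 : nd 46642 = n81764 := ndS (p := 24321) (l := 1) rfl N24321 D81764
theorem N46643 : nd 46643 = n81765 := ndS (p := 24321) (l := 4) rfl N24321 D81765
theorem N46644 : nd 46644 = n81766 := ndS (p := 24321) (l := 6) rfl N24321 D81766
theorem N46645 : nd 46645 = n81768 := ndS (p := 24322) (l := 5) rfl N24322 D81768
theorem N46646 : nd 46646 = n81773 := ndS (p := 24324) (l := 3) rfl N24324 D81773
theorem N46647 : nd 46647 = n81774 := ndS (p := 24324) (l := 5) rfl N24324 D81774
theorem N46648 : nd 46648 = n81775 := ndS (p := 24324) (l := 6) rfl N24324 D81775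
theorem N46649 : nd 46649 = n81776 := ndS (p := 24326) (l := 4) rfl N24326 D81776
theorem N46650 : nd 46650 = n81786 := ndS (p := 24328) (l := 1) rfl N24328 D81786
theorem N46651 : nd 46651 = n81787 := ndS (p := 24328) (l := 2) rfl N24328 D81787
theorem N46652 : nd 46652 = n81795 := ndS (p := 24331) (l := 3) rfl N24331 D81795
theorem N46653 : nd 46653 = n81796 := ndS (p := 24331) (l := 5) rfl N24331 D81796
theorem N46654 : nd 46654 = n81797 := ndS (p := 24332) (l := 4) rfl N24332 D81797
theorem N46655 : nd 46655 = n81798 := ndS (p := 24333) (l := 3) rfl N24333 D81798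
theorem N46656 : nd 46656 = n81799 := ndS (p := 24333) (l := 5) rfl N24333 D81799
theorem N46657 : nd 46657 = n81800 := ndS (p := 24334) (l := 0) rfl N24334 D81800
theorem N46658 : nd 46658 = n81801 := ndS (p := 24334) (l := 1) rfl N24334 D81801
theorem N46659 : nd 46659 = n81802 := ndS (p := 24334) (l := 4) rfl N24334 D81802
theorem N46660 : nd 46660 = n81803 := ndS (p := 24334) (l := 6) rfl N24334 D81803
theorem N46661 : nd 46661 = n81804 := ndS (p := 24335) (l := 0) rfl N24335 D81804
theorem N46662 : nd 46662 = n81805 := ndS (p := 24335) (l := 1) rfl N24335 D81805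
theorem N46663 : nd 46663 = n81806 := ndS (p := 24335) (l := 5) rfl N24335 D81806
theorem N46664 : nd 46664 = n81807 := ndS (p := 24335) (l := 7) rfl N24335 D81807
theorem N46665 : nd 46665 = n81808 := ndS (p := 24336) (l := 0) rfl N24336 D81808
theorem N46666 : nd 46666 = n81809 := ndS (p := 24336) (l := 3) rfl N24336 D81809
theorem N46667 : nd 46667 = n81810 := ndS (p := 24336) (l := 5) rfl N24336 D81810
theorem N46668 : nd 46668 = n81813 := ndS (p := 24337) (l := 4) rfl N24337 D81813
theorem N46669 : nd 46669 = n81816 := ndS (p := 24339) (l := 0) rfl N24339 D81816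
theorem N46670 : nd 46670 = n81818 := ndS (p := 24339) (l := 2) rfl N24339 D81818
theorem N46671 : nd 46671 = n81819 := ndS (p := 24340) (l := 0) rfl N24340 D81819
theorem N46672 : nd 46672 = n81820 := ndS (p := 24340) (l := 4) rfl N24340 D81820
theorem N46673 : nd 46673 = n81821 := ndS (p := 24340) (l := 6) rfl N24340 D81821
theorem N46674 : nd 46674 = n81823 := ndS (p := 24341) (l := 5) rfl N24341 D81823
theorem N46675 : nd 46675 = n81824 := ndS (p := 24342) (l := 3) rfl N24342 D81824
theorem N46676 : nd 46676 = n81825 := ndS (p := 24343) (l := 4) rfl N24343 D81825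
theorem N46677 : nd 46677 = n81828 := ndS (p := 24345) (l := 3) rfl N24345 D81828
theorem N46678 : nd 46678 = n81829 := ndS (p := 24345) (l := 5) rfl N24345 D81829
theorem N46679 : nd 46679 = n81832 := ndS (p := 24348) (l := 1) rfl N24348 D81832
theorem N46680 : nd 46680 = n81833 := ndS (p := 24348) (l := 6) rfl N24348 D81833
theorem N46681 : nd 46681 = n81840 := ndS (p := 24350) (l := 3) rfl N24350 D81840
theorem N46682 : nd 46682 = n81841 := ndS (p := 24350) (l := 5) rfl N24350 D81841
theorem N46683 : nd 46683 = n81845 := ndS (p := 24351) (l := 4) rfl N24351 D81845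
theorem N46684 : nd 46684 = n81846 := ndS (p := 24352) (l := 0) rfl N24352 D81846
theorem N46685 : nd 46685 = n81847 := ndS (p := 24352) (l := 1) rfl N24352 D81847
theorem N46686 : nd 46686 = n81848 := ndS (p := 24352) (l := 5) rfl N24352 D81848
theorem N46687 : nd 46687 = n81849 := ndS (p := 24352) (l := 6) rfl N24352 D81849
theorem N46688 : nd 46688 = n81850 := ndS (p := 24353) (l := 6) rfl N24353 D81850
theorem N46689 : nd 46689 = n81851 := ndS (p := 24354) (l := 5) rfl N24354 D81851
theorem N46690 : nd 46690 = n81859 := ndS (p := 24355) (l := 4) rfl N24355 D81859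
theorem N46691 : nd 46691 = n81861 := ndS (p := 24356) (l := 3) rfl N24356 D81861
theorem N46692 : nd 46692 = n81862 := ndS (p := 24356) (l := 5) rfl N24356 D81862
theorem N46693 : nd 46693 = n81863 := ndS (p := 24357) (l := 3) rfl N24357 D81863
theorem N46694 : nd 46694 = n81865 := ndS (p := 24358) (l := 6) rfl N24358 D81865
theorem N46695 : nd 46695 = n81866 := ndS (p := 24359) (l := 6) rfl N24359 D81866
theorem N46696 : nd 46696 = n81867 := ndS (p := 24360) (l := 0) rfl N24360 D81867
theorem N46697 : nd 46697 = n81869 := ndS (p := 24360) (l := 5) rfl N24360 D81869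
theorem N46698 : nd 46698 = n81871 := ndS (p := 24361) (l := 0) rfl N24361 D81871
theorem N46699 : nd 46699 = n81872 := ndS (p := 24361) (l := 1) rfl N24361 D81872
theorem N46700 : nd 46700 = n81890 := ndS (p := 24363) (l := 4) rfl N24363 D81890
theorem N46701 : nd 46701 = n81892 := ndS (p := 24364) (l := 0) rfl N24364 D81892
theorem N46702 : nd 46702 = n81893 := ndS (p := 24364) (l := 1) rfl N24364 D81893
theorem N46703 : nd 46703 = n81894 := ndS (p := 24364) (l := 3) rfl N24364 D81894
theorem N46704 : nd 46704 = n81897 := ndS (p := 24365) (l := 3) rfl N24365 D81897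
theorem N46705 : nd 46705 = n81901 := ndS (p := 24367) (l := 3) rfl N24367 D81901
theorem N46706 : nd 46706 = n81902 := ndS (p := 24367) (l := 5) rfl N24367 D81902
theorem N46707 : nd 46707 = n81905 := ndS (p := 24368) (l := 1) rfl N24368 D81905
theorem N46708 : nd 46708 = n81907 := ndS (p := 24369) (l := 3) rfl N24369 D81907
theorem N46709 : nd 46709 = n81908 := ndS (p := 24369) (l := 5) rfl N24369 D81908
theorem N46710 : nd 46710 = n81909 := ndS (p := 24369) (l := 6) rfl N24369 D81909
theorem N46711 : nd 46711 = n81910 := ndS (p := 24370) (l := 3) rfl N24370 D81910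
theorem N46712 : nd 46712 = n81911 := ndS (p := 24370) (l := 5) rfl N24370 D81911
theorem N46713 : nd 46713 = n81913 := ndS (p := 24371) (l := 0) rfl N24371 D81913
theorem N46714 : nd 46714 = n81914 := ndS (p := 24371) (l := 1) rfl N24371 D81914
theorem N46715 : nd 46715 = n81915 := ndS (p := 24371) (l := 2) rfl N24371 D81915
theorem N46716 : nd 46716 = n81916 := ndS (p := 24371) (l := 5) rfl N24371 D81916
theorem N46717 : nd 46717 = n81917 := ndS (p := 24372) (l := 0) rfl N24372 D81917
theorem N46718 : nd 46718 = n81918 := ndS (p := 24372) (l := 1) rfl N24372 D81918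
theorem N46719 : nd 46719 = n81920 := ndS (p := 24373) (l := 4) rfl N24373 D81920
theorem N46720 : nd 46720 = n81921 := ndS (p := 24373) (l := 6) rfl N24373 D81921
theorem N46721 : nd 46721 = n81922 := ndS (p := 24374) (l := 4) rfl N24374 D81922
theorem N46722 : nd 46722 = n81923 := ndS (p := 24374) (l := 6) rfl N24374 D81923
theorem N46723 : nd 46723 = n81924 := ndS (p := 24375) (l := 6) rfl N24375 D81924
theorem N46724 : nd 46724 = n81930 := ndS (p := 24376) (l := 1) rfl N24376 D81930
theorem N46725 : nd 46725 = n81932 := ndS (p := 24376) (l := 7) rfl N24376 D81932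
theorem N46726 : nd 46726 = n81969 := ndS (p := 24377) (l := 0) rfl N24377 D81969
theorem N46727 : nd 46727 = n81970 := ndS (p := 24377) (l := 1) rfl N24377 D81970
theorem N46728 : nd 46728 = n81971 := ndS (p := 24377) (l := 2) rfl N24377 D81971
theorem N46729 : nd 46729 = n81975 := ndS (p := 24378) (l := 3) rfl N24378 D81975
theorem N46730 : nd 46730 = n81976 := ndS (p := 24378) (l := 5) rfl N24378 D81976
theorem N46731 : nd 46731 = n81978 := ndS (p := 24379) (l := 3) rfl N24379 D81978
theorem N46732 : nd 46732 = n81979 := ndS (p := 24379) (l := 5) rfl N24379 D81979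
theorem N46733 : nd 46733 = n81980 := ndS (p := 24379) (l := 6) rfl N24379 D81980
theorem N46734 : nd 46734 = n81985 := ndS (p := 24382) (l := 3) rfl N24382 D81985
theorem N46735 : nd 46735 = n81986 := ndS (p := 24382) (l := 5) rfl N24382 D81986
theorem N46736 : nd 46736 = n81987 := ndS (p := 24383) (l := 4) rfl N24383 D81987
theorem N46737 : nd 46737 = n81992 := ndS (p := 24384) (l := 1) rfl N24384 D81992
theorem N46738 : nd 46738 = n81993 := ndS (p := 24384) (l := 3) rfl N24384 D81993
theorem N46739 : nd 46739 = n81997 := ndS (p := 24385) (l := 6) rfl N24385 D81997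
theorem N46740 : nd 46740 = n81998 := ndS (p := 24386) (l := 6) rfl N24386 D81998
theorem N46741 : nd 46741 = n82000 := ndS (p := 24388) (l := 3) rfl N24388 D82000
theorem N46742 : nd 46742 = n82002 := ndS (p := 24389) (l := 6) rfl N24389 D82002
theorem N46743 : nd 46743 = n82003 := ndS (p := 24390) (l := 0) rfl N24390 D82003
theorem N46744 : nd 46744 = n82004 := ndS (p := 24390) (l := 1) rfl N24390 D82004
theorem N46745 : nd 46745 = n82005 := ndS (p := 24390) (l := 5) rfl N24390 D82005
theorem N46746 : nd 46746 = n82006 := ndS (p := 24391) (l := 0) rfl N24391 D82006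
theorem N46747 : nd 46747 = n82007 := ndS (p := 24391) (l := 1) rfl N24391 D82007
theorem N46748 : nd 46748 = n82008 := ndS (p := 24391) (l := 5) rfl N24391 D82008
theorem N46749 : nd 46749 = n82017 := ndS (p := 24394) (l := 4) rfl N24394 D82017
theorem N46750 : nd 46750 = n82018 := ndS (p := 24395) (l := 0) rfl N24395 D82018
theorem N46751 : nd 46751 = n82019 := ndS (p := 24395) (l := 1) rfl N24395 D82019
theorem N46752 : nd 46752 = n82021 := ndS (p := 24395) (l := 7) rfl N24395 D82021
theorem N46753 : nd 46753 = n82027 := ndS (p := 24398) (l := 4) rfl N24398 D82027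
theorem N46754 : nd 46754 = n82029 := ndS (p := 24399) (l := 5) rfl N24399 D82029
theorem N46755 : nd 46755 = n82032 := ndS (p := 24400) (l := 3) rfl N24400 D82032
theorem N46756 : nd 46756 = n82033 := ndS (p := 24400) (l := 4) rfl N24400 D82033
theorem N46757 : nd 46757 = n82034 := ndS (p := 24400) (l := 5) rfl N24400 D82034
theorem N46758 : nd 46758 = n82035 := ndS (p := 24400) (l := 6) rfl N24400 D82035
theorem N46759 : nd 46759 = n82039 := ndS (p := 24401) (l := 5) rfl N24401 D82039
theorem N46760 : nd 46760 = n82257 := ndS (p := 24403) (l := 6) rfl N24403 D82257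
theorem N46761 : nd 46761 = n82384 := ndS (p := 24405) (l := 3) rfl N24405 D82384
theorem N46762 : nd 46762 = n82385 := ndS (p := 24405) (l := 4) rfl N24405 D82385
theorem N46763 : nd 46763 = n82386 := ndS (p := 24405) (l := 6) rfl N24405 D82386
theorem N46764 : nd 46764 = n82387 := ndS (p := 24406) (l := 3) rfl N24406 D82387
theorem N46765 : nd 46765 = n82388 := ndS (p := 24406) (l := 4) rfl N24406 D82388
theorem N46766 : nd 46766 = n82389 := ndS (p := 24406) (l := 6) rfl N24406 D82389
theorem N46767 : nd 46767 = n82390 := ndS (p := 24407) (l := 0) rfl N24407 D82390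
theorem N46768 : nd 46768 = n82391 := ndS (p := 24407) (l := 1) rfl N24407 D82391
theorem N46769 : nd 46769 = n82392 := ndS (p := 24407) (l := 5) rfl N24407 D82392
theorem N46770 : nd 46770 = n82393 := ndS (p := 24407) (l := 7) rfl N24407 D82393
theorem N46771 : nd 46771 = n82400 := ndS (p := 24408) (l := 0) rfl N24408 D82400
theorem N46772 : nd 46772 = n82402 := ndS (p := 24408) (l := 7) rfl N24408 D82402
theorem N46773 : nd 46773 = n82403 := ndS (p := 24410) (l := 3) rfl N24410 D82403
theorem N46774 : nd 46774 = n82404 := ndS (p := 24410) (l := 5) rfl N24410 D82404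
theorem N46775 : nd 46775 = n82411 := ndS (p := 24412) (l := 5) rfl N24412 D82411
theorem N46776 : nd 46776 = n82413 := ndS (p := 24413) (l := 4) rfl N24413 D82413
theorem N46777 : nd 46777 = n82414 := ndS (p := 24414) (l := 4) rfl N24414 D82414
theorem N46778 : nd 46778 = n82417 := ndS (p := 24415) (l := 3) rfl N24415 D82417
theorem N46779 : nd 46779 = n82418 := ndS (p := 24415) (l := 5) rfl N24415 D82418
theorem N46780 : nd 46780 = n82419 := ndS (p := 24415) (l := 7) rfl N24415 D82419
theorem N46781 : nd 46781 = n82420 := ndS (p := 24417) (l := 0) rfl N24417 D82420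
theorem N46782 : nd 46782 = n82421 := ndS (p := 24417) (l := 1) rfl N24417 D82421
theorem N46783 : nd 46783 = n82422 := ndS (p := 24417) (l := 2) rfl N24417 D82422
theorem N46784 : nd 46784 = n82423 := ndS (p := 24417) (l := 5) rfl N24417 D82423
theorem N46785 : nd 46785 = n82424 := ndS (p := 24418) (l := 6) rfl N24418 D82424
theorem N46786 : nd 46786 = n82425 := ndS (p := 24419) (l := 6) rfl N24419 D82425
theorem N46787 : nd 46787 = n82442 := ndS (p := 24421) (l := 6) rfl N24421 D82442
theorem N46788 : nd 46788 = n82443 := ndS (p := 24422) (l := 6) rfl N24422 D82443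
theorem N46789 : nd 46789 = n82444 := ndS (p := 24423) (l := 6) rfl N24423 D82444
theorem N46790 : nd 46790 = n82445 := ndS (p := 24424) (l := 0) rfl N24424 D82445
theorem N46791 : nd 46791 = n82446 := ndS (p := 24424) (l := 1) rfl N24424 D82446
theorem N46792 : nd 46792 = n82449 := ndS (p := 24425) (l := 0) rfl N24425 D82449
theorem N46793 : nd 46793 = n82450 := ndS (p := 24425) (l := 1) rfl N24425 D82450
theorem N46794 : nd 46794 = n82451 := ndS (p := 24425) (l := 5) rfl N24425 D82451
theorem N46795 : nd 46795 = n82452 := ndS (p := 24425) (l := 7) rfl N24425 D82452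
theorem N46796 : nd 46796 = n82457 := ndS (p := 24426) (l := 4) rfl N24426 D82457
theorem N46797 : nd 46797 = n82482 := ndS (p := 24433) (l := 4) rfl N24433 D82482
theorem N46798 : nd 46798 = n82483 := ndS (p := 24433) (l := 6) rfl N24433 D82483
theorem N46799 : nd 46799 = n82484 := ndS (p := 24434) (l := 3) rfl N24434 D82484
theorem N46800 : nd 46800 = n82485 := ndS (p := 24434) (l := 6) rfl N24434 D82485
theorem N46801 : nd 46801 = n82486 := ndS (p := 24435) (l := 6) rfl N24435 D82486
theorem N46802 : nd 46802 = n82487 := ndS (p := 24436) (l := 0) rfl N24436 D82487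
theorem N46803 : nd 46803 = n82488 := ndS (p := 24436) (l := 1) rfl N24436 D82488
theorem N46804 : nd 46804 = n82489 := ndS (p := 24436) (l := 5) rfl N24436 D82489
theorem N46805 : nd 46805 = n82490 := ndS (p := 24437) (l := 4) rfl N24437 D82490
theorem N46806 : nd 46806 = n82492 := ndS (p := 24439) (l := 7) rfl N24439 D82492
theorem N46807 : nd 46807 = n82496 := ndS (p := 24440) (l := 5) rfl N24440 D82496
theorem N46808 : nd 46808 = n82498 := ndS (p := 24441) (l := 6) rfl N24441 D82498
theorem N46809 : nd 46809 = n82499 := ndS (p := 24442) (l := 1) rfl N24442 D82499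
theorem N46810 : nd 46810 = n82500 := ndS (p := 24442) (l := 4) rfl N24442 D82500
theorem N46811 : nd 46811 = n82501 := ndS (p := 24442) (l := 6) rfl N24442 D82501
theorem N46812 : nd 46812 = n82503 := ndS (p := 24443) (l := 1) rfl N24443 D82503
theorem N46813 : nd 46813 = n82504 := ndS (p := 24443) (l := 5) rfl N24443 D82504
theorem N46814 : nd 46814 = n82505 := ndS (p := 24444) (l := 0) rfl N24444 D82505
theorem N46815 : nd 46815 = n82507 := ndS (p := 24444) (l := 5) rfl N24444 D82507
theorem N46816 : nd 46816 = n82508 := ndS (p := 24444) (l := 7) rfl N24444 D82508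
theorem N46817 : nd 46817 = n82511 := ndS (p := 24446) (l := 6) rfl N24446 D82511
theorem N46818 : nd 46818 = n82515 := ndS (p := 24447) (l := 7) rfl N24447 D82515
theorem N46819 : nd 46819 = n82517 := ndS (p := 24448) (l := 1) rfl N24448 D82517
theorem N46820 : nd 46820 = n82523 := ndS (p := 24449) (l := 7) rfl N24449 D82523
theorem N46821 : nd 46821 = n82524 := ndS (p := 24451) (l := 4) rfl N24451 D82524
theorem N46822 : nd 46822 = n82525 := ndS (p := 24451) (l := 6) rfl N24451 D82525
theorem N46823 : nd 46823 = n82536 := ndS (p := 24454) (l := 4) rfl N24454 D82536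
theorem N46824 : nd 46824 = n82538 := ndS (p := 24454) (l := 6) rfl N24454 D82538
theorem N46825 : nd 46825 = n82540 := ndS (p := 24455) (l := 3) rfl N24455 D82540
theorem N46826 : nd 46826 = n82541 := ndS (p := 24455) (l := 4) rfl N24455 D82541
theorem N46827 : nd 46827 = n82542 := ndS (p := 24455) (l := 5) rfl N24455 D82542
theorem N46828 : nd 46828 = n82543 := ndS (p := 24455) (l := 6) rfl N24455 D82543
theorem N46829 : nd 46829 = n82546 := ndS (p := 24456) (l := 4) rfl N24456 D82546
theorem N46830 : nd 46830 = n82548 := ndS (p := 24457) (l := 4) rfl N24457 D82548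
theorem N46831 : nd 46831 = n82549 := ndS (p := 24457) (l := 6) rfl N24457 D82549
theorem N46832 : nd 46832 = n82552 := ndS (p := 24458) (l := 5) rfl N24458 D82552
theorem N46833 : nd 46833 = n82553 := ndS (p := 24458) (l := 7) rfl N24458 D82553
theorem N46834 : nd 46834 = n82554 := ndS (p := 24459) (l := 0) rfl N24459 D82554
theorem N46835 : nd 46835 = n82555 := ndS (p := 24459) (l := 1) rfl N24459 D82555
theorem N46836 : nd 46836 = n82556 := ndS (p := 24459) (l := 5) rfl N24459 D82556
theorem N46837 : nd 46837 = n82557 := ndS (p := 24459) (l := 7) rfl N24459 D82557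
theorem N46838 : nd 46838 = n82561 := ndS (p := 24460) (l := 5) rfl N24460 D82561
theorem N46839 : nd 46839 = n82562 := ndS (p := 24460) (l := 6) rfl N24460 D82562
theorem N46840 : nd 46840 = n82564 := ndS (p := 24461) (l := 3) rfl N24461 D82564
theorem N46841 : nd 46841 = n82566 := ndS (p := 24461) (l := 5) rfl N24461 D82566
theorem N46842 : nd 46842 = n82567 := ndS (p := 24461) (l := 6) rfl N24461 D82567
theorem N46843 : nd 46843 = n82568 := ndS (p := 24462) (l := 0) rfl N24462 D82568
theorem N46844 : nd 46844 = n82569 := ndS (p := 24462) (l := 1) rfl N24462 D82569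
theorem N46845 : nd 46845 = n82570 := ndS (p := 24462) (l := 4) rfl N24462 D82570
theorem N46846 : nd 46846 = n82571 := ndS (p := 24462) (l := 7) rfl N24462 D82571
theorem N46847 : nd 46847 = n82578 := ndS (p := 24464) (l := 1) rfl N24464 D82578
theorem N46848 : nd 46848 = n82579 := ndS (p := 24464) (l := 4) rfl N24464 D82579
theorem N46849 : nd 46849 = n82580 := ndS (p := 24464) (l := 6) rfl N24464 D82580
theorem N46850 : nd 46850 = n82582 := ndS (p := 24465) (l := 7) rfl N24465 D82582
theorem N46851 : nd 46851 = n82583 := ndS (p := 24466) (l := 1) rfl N24466 D82583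
theorem N46852 : nd 46852 = n82584 := ndS (p := 24466) (l := 2) rfl N24466 D82584
theorem N46853 : nd 46853 = n82586 := ndS (p := 24466) (l := 6) rfl N24466 D82586
theorem N46854 : nd 46854 = n82587 := ndS (p := 24467) (l := 4) rfl N24467 D82587
theorem N46855 : nd 46855 = n82588 := ndS (p := 24467) (l := 6) rfl N24467 D82588
theorem N46856 : nd 46856 = n82590 := ndS (p := 24468) (l := 5) rfl N24468 D82590
theorem N46857 : nd 46857 = n82592 := ndS (p := 24469) (l := 3) rfl N24469 D82592
theorem N46858 : nd 46858 = n82593 := ndS (p := 24469) (l := 4) rfl N24469 D82593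
theorem N46859 : nd 46859 = n82595 := ndS (p := 24469) (l := 6) rfl N24469 D82595
theorem N46860 : nd 46860 = n82597 := ndS (p := 24470) (l := 4) rfl N24470 D82597
theorem N46861 : nd 46861 = n82600 := ndS (p := 24471) (l := 0) rfl N24471 D82600
theorem N46862 : nd 46862 = n82601 := ndS (p := 24471) (l := 1) rfl N24471 D82601
theorem N46863 : nd 46863 = n82602 := ndS (p := 24471) (l := 3) rfl N24471 D82602
theorem N46864 : nd 46864 = n82603 := ndS (p := 24471) (l := 5) rfl N24471 D82603
theorem N46865 : nd 46865 = n82606 := ndS (p := 24472) (l := 0) rfl N24472 D82606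
theorem N46866 : nd 46866 = n82608 := ndS (p := 24472) (l := 2) rfl N24472 D82608
theorem N46867 : nd 46867 = n82609 := ndS (p := 24472) (l := 5) rfl N24472 D82609
theorem N46868 : nd 46868 = n82610 := ndS (p := 24472) (l := 6) rfl N24472 D82610
theorem N46869 : nd 46869 = n82611 := ndS (p := 24473) (l := 4) rfl N24473 D82611
theorem N46870 : nd 46870 = n82612 := ndS (p := 24473) (l := 6) rfl N24473 D82612
theorem N46871 : nd 46871 = n82615 := ndS (p := 24474) (l := 7) rfl N24474 D82615
theorem N46872 : nd 46872 = n82616 := ndS (p := 24475) (l := 3) rfl N24475 D82616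
theorem N46873 : nd 46873 = n82634 := ndS (p := 24478) (l := 4) rfl N24478 D82634
theorem N46874 : nd 46874 = n82635 := ndS (p := 24478) (l := 6) rfl N24478 D82635
theorem N46875 : nd 46875 = n82637 := ndS (p := 24479) (l := 5) rfl N24479 D82637
theorem N46876 : nd 46876 = n82640 := ndS (p := 24481) (l := 1) rfl N24481 D82640
theorem N46877 : nd 46877 = n82683 := ndS (p := 24482) (l := 6) rfl N24482 D82683
theorem N46878 : nd 46878 = n82698 := ndS (p := 24484) (l := 7) rfl N24484 D82698
theorem N46879 : nd 46879 = n82716 := ndS (p := 24486) (l := 7) rfl N24486 D82716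
theorem N46880 : nd 46880 = n82718 := ndS (p := 24487) (l := 6) rfl N24487 D82718
theorem N46881 : nd 46881 = n82727 := ndS (p := 24490) (l := 3) rfl N24490 D82727
theorem N46882 : nd 46882 = n82728 := ndS (p := 24490) (l := 6) rfl N24490 D82728
theorem N46883 : nd 46883 = n82729 := ndS (p := 24491) (l := 6) rfl N24491 D82729
theorem N46884 : nd 46884 = n82730 := ndS (p := 24492) (l := 6) rfl N24492 D82730
theorem N46885 : nd 46885 = n82731 := ndS (p := 24493) (l := 0) rfl N24493 D82731
theorem N46886 : nd 46886 = n82732 := ndS (p := 24493) (l := 1) rfl N24493 D82732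
theorem N46887 : nd 46887 = n82734 := ndS (p := 24493) (l := 7) rfl N24493 D82734
theorem N46888 : nd 46888 = n82739 := ndS (p := 24494) (l := 6) rfl N24494 D82739
theorem N46889 : nd 46889 = n82743 := ndS (p := 24495) (l := 5) rfl N24495 D82743
theorem N46890 : nd 46890 = n82744 := ndS (p := 24495) (l := 6) rfl N24495 D82744
theorem N46891 : nd 46891 = n82745 := ndS (p := 24496) (l := 0) rfl N24496 D82745
theorem N46892 : nd 46892 = n82747 := ndS (p := 24496) (l := 4) rfl N24496 D82747
theorem N46893 : nd 46893 = n82752 := ndS (p := 24497) (l := 5) rfl N24497 D82752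
theorem N46894 : nd 46894 = n82753 := ndS (p := 24497) (l := 6) rfl N24497 D82753
theorem N46895 : nd 46895 = n82757 := ndS (p := 24498) (l := 5) rfl N24498 D82757
theorem N46896 : nd 46896 = n82759 := ndS (p := 24499) (l := 0) rfl N24499 D82759
theorem N46897 : nd 46897 = n82760 := ndS (p := 24499) (l := 1) rfl N24499 D82760
theorem N46898 : nd 46898 = n82762 := ndS (p := 24499) (l := 7) rfl N24499 D82762
theorem N46899 : nd 46899 = n82879 := ndS (p := 24501) (l := 0) rfl N24501 D82879
theorem N46900 : nd 46900 = n82880 := ndS (p := 24501) (l := 1) rfl N24501 D82880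
theorem N46901 : nd 46901 = n82881 := ndS (p := 24501) (l := 2) rfl N24501 D82881
theorem N46902 : nd 46902 = n82882 := ndS (p := 24501) (l := 6) rfl N24501 D82882
theorem N46903 : nd 46903 = n82885 := ndS (p := 24503) (l := 6) rfl N24503 D82885
theorem N46904 : nd 46904 = n82886 := ndS (p := 24504) (l := 6) rfl N24504 D82886
theorem N46905 : nd 46905 = n82887 := ndS (p := 24505) (l := 6) rfl N24505 D82887
theorem N46906 : nd 46906 = n82888 := ndS (p := 24506) (l := 0) rfl N24506 D82888
theorem N46907 : nd 46907 = n82889 := ndS (p := 24506) (l := 1) rfl N24506 D82889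
theorem N46908 : nd 46908 = n82890 := ndS (p := 24506) (l := 5) rfl N24506 D82890
theorem N46909 : nd 46909 = n82891 := ndS (p := 24506) (l := 7) rfl N24506 D82891
theorem N46910 : nd 46910 = n82894 := ndS (p := 24507) (l := 5) rfl N24507 D82894
theorem N46911 : nd 46911 = n82895 := ndS (p := 24507) (l := 7) rfl N24507 D82895
theorem N46912 : nd 46912 = n82896 := ndS (p := 24508) (l := 3) rfl N24508 D82896
theorem N46913 : nd 46913 = n82897 := ndS (p := 24508) (l := 5) rfl N24508 D82897
theorem N46914 : nd 46914 = n82899 := ndS (p := 24509) (l := 5) rfl N24509 D82899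
theorem N46915 : nd 46915 = n82901 := ndS (p := 24510) (l := 0) rfl N24510 D82901
theorem N46916 : nd 46916 = n82903 := ndS (p := 24510) (l := 4) rfl N24510 D82903
theorem N46917 : nd 46917 = n82904 := ndS (p := 24510) (l := 7) rfl N24510 D82904
theorem N46918 : nd 46918 = n82905 := ndS (p := 24512) (l := 3) rfl N24512 D82905
theorem N46919 : nd 46919 = n82906 := ndS (p := 24512) (l := 5) rfl N24512 D82906
theorem N46920 : nd 46920 = n82908 := ndS (p := 24513) (l := 4) rfl N24513 D82908
theorem N46921 : nd 46921 = n82909 := ndS (p := 24514) (l := 4) rfl N24514 D82909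
theorem N46922 : nd 46922 = n82911 := ndS (p := 24515) (l := 0) rfl N24515 D82911
theorem N46923 : nd 46923 = n82914 := ndS (p := 24515) (l := 5) rfl N24515 D82914
theorem N46924 : nd 46924 = n82916 := ndS (p := 24516) (l := 0) rfl N24516 D82916
theorem N46925 : nd 46925 = n82917 := ndS (p := 24516) (l := 1) rfl N24516 D82917
theorem N46926 : nd 46926 = n82926 := ndS (p := 24517) (l := 0) rfl N24517 D82926
theorem N46927 : nd 46927 = n82927 := ndS (p := 24517) (l := 1) rfl N24517 D82927
theorem N46928 : nd 46928 = n82928 := ndS (p := 24517) (l := 5) rfl N24517 D82928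
theorem N46929 : nd 46929 = n82929 := ndS (p := 24517) (l := 7) rfl N24517 D82929
theorem N46930 : nd 46930 = n82932 := ndS (p := 24518) (l := 5) rfl N24518 D82932
theorem N46931 : nd 46931 = n82933 := ndS (p := 24518) (l := 7) rfl N24518 D82933
theorem N46932 : nd 46932 = n82936 := ndS (p := 24519) (l := 3) rfl N24519 D82936
theorem N46933 : nd 46933 = n82937 := ndS (p := 24519) (l := 5) rfl N24519 D82937
theorem N46934 : nd 46934 = n82938 := ndS (p := 24520) (l := 0) rfl N24520 D82938
theorem N46935 : nd 46935 = n82939 := ndS (p := 24520) (l := 1) rfl N24520 D82939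
theorem N46936 : nd 46936 = n82940 := ndS (p := 24520) (l := 4) rfl N24520 D82940
theorem N46937 : nd 46937 = n82941 := ndS (p := 24520) (l := 7) rfl N24520 D82941
theorem N46938 : nd 46938 = n82945 := ndS (p := 24522) (l := 4) rfl N24522 D82945
theorem N46939 : nd 46939 = n82947 := ndS (p := 24523) (l := 0) rfl N24523 D82947
theorem N46940 : nd 46940 = n82948 := ndS (p := 24523) (l := 1) rfl N24523 D82948
theorem N46941 : nd 46941 = n82949 := ndS (p := 24523) (l := 3) rfl N24523 D82949
theorem N46942 : nd 46942 = n82950 := ndS (p := 24523) (l := 5) rfl N24523 D82950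
theorem N46943 : nd 46943 = n82951 := ndS (p := 24523) (l := 7) rfl N24523 D82951
theorem N46944 : nd 46944 = n82952 := ndS (p := 24525) (l := 0) rfl N24525 D82952
theorem N46945 : nd 46945 = n82953 := ndS (p := 24525) (l := 1) rfl N24525 D82953
theorem N46946 : nd 46946 = n82954 := ndS (p := 24525) (l := 4) rfl N24525 D82954
theorem N46947 : nd 46947 = n82956 := ndS (p := 24527) (l := 4) rfl N24527 D82956
theorem N46948 : nd 46948 = n82957 := ndS (p := 24527) (l := 6) rfl N24527 D82957
theorem N46949 : nd 46949 = n82958 := ndS (p := 24528) (l := 4) rfl N24528 D82958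
theorem N46950 : nd 46950 = n82959 := ndS (p := 24528) (l := 6) rfl N24528 D82959
theorem N46951 : nd 46951 = n82960 := ndS (p := 24529) (l := 0) rfl N24529 D82960
theorem N46952 : nd 46952 = n82961 := ndS (p := 24529) (l := 1) rfl N24529 D82961
theorem N46953 : nd 46953 = n82962 := ndS (p := 24529) (l := 5) rfl N24529 D82962
theorem N46954 : nd 46954 = n82964 := ndS (p := 24530) (l := 0) rfl N24530 D82964
theorem N46955 : nd 46955 = n82965 := ndS (p := 24530) (l := 1) rfl N24530 D82965
theorem N46956 : nd 46956 = n82966 := ndS (p := 24530) (l := 5) rfl N24530 D82966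
theorem N46957 : nd 46957 = n82967 := ndS (p := 24530) (l := 7) rfl N24530 D82967
theorem N46958 : nd 46958 = n82968 := ndS (p := 24531) (l := 0) rfl N24531 D82968
theorem N46959 : nd 46959 = n82969 := ndS (p := 24531) (l := 1) rfl N24531 D82969
theorem N46960 : nd 46960 = n82970 := ndS (p := 24531) (l := 4) rfl N24531 D82970
theorem N46961 : nd 46961 = n82974 := ndS (p := 24532) (l := 6) rfl N24532 D82974
theorem N46962 : nd 46962 = n82975 := ndS (p := 24533) (l := 5) rfl N24533 D82975
theorem N46963 : nd 46963 = n82976 := ndS (p := 24533) (l := 6) rfl N24533 D82976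
theorem N46964 : nd 46964 = n82978 := ndS (p := 24535) (l := 0) rfl N24535 D82978
theorem N46965 : nd 46965 = n82980 := ndS (p := 24535) (l := 5) rfl N24535 D82980
theorem N46966 : nd 46966 = n82981 := ndS (p := 24535) (l := 7) rfl N24535 D82981
theorem N46967 : nd 46967 = n82982 := ndS (p := 24536) (l := 0) rfl N24536 D82982
theorem N46968 : nd 46968 = n82983 := ndS (p := 24536) (l := 2) rfl N24536 D82983
theorem N46969 : nd 46969 = n82984 := ndS (p := 24536) (l := 6) rfl N24536 D82984
theorem N46970 : nd 46970 = n82985 := ndS (p := 24537) (l := 5) rfl N24537 D82985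
theorem N46971 : nd 46971 = n82986 := ndS (p := 24537) (l := 6) rfl N24537 D82986
theorem N46972 : nd 46972 = n82987 := ndS (p := 24538) (l := 6) rfl N24538 D82987
theorem N46973 : nd 46973 = n82989 := ndS (p := 24539) (l := 1) rfl N24539 D82989
theorem N46974 : nd 46974 = n82990 := ndS (p := 24539) (l := 5) rfl N24539 D82990
theorem N46975 : nd 46975 = n82991 := ndS (p := 24539) (l := 7) rfl N24539 D82991
theorem N46976 : nd 46976 = n82992 := ndS (p := 24540) (l := 6) rfl N24540 D82992
theorem N46977 : nd 46977 = n82993 := ndS (p := 24541) (l := 0) rfl N24541 D82993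
theorem N46978 : nd 46978 = n82994 := ndS (p := 24541) (l := 1) rfl N24541 D82994
theorem N46979 : nd 46979 = n82995 := ndS (p := 24541) (l := 5) rfl N24541 D82995
theorem N46980 : nd 46980 = n82996 := ndS (p := 24541) (l := 7) rfl N24541 D82996
theorem N46981 : nd 46981 = n82997 := ndS (p := 24542) (l := 3) rfl N24542 D82997
theorem N46982 : nd 46982 = n82998 := ndS (p := 24542) (l := 6) rfl N24542 D82998
theorem N46983 : nd 46983 = n82999 := ndS (p := 24543) (l := 6) rfl N24543 D82999
theorem N46984 : nd 46984 = n83002 := ndS (p := 24544) (l := 5) rfl N24544 D83002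
theorem N46985 : nd 46985 = n83003 := ndS (p := 24544) (l := 7) rfl N24544 D83003
theorem N46986 : nd 46986 = n83005 := ndS (p := 24545) (l := 3) rfl N24545 D83005
theorem N46987 : nd 46987 = n83006 := ndS (p := 24545) (l := 4) rfl N24545 D83006
theorem N46988 : nd 46988 = n83007 := ndS (p := 24545) (l := 5) rfl N24545 D83007
theorem N46989 : nd 46989 = n83008 := ndS (p := 24545) (l := 6) rfl N24545 D83008
theorem N46990 : nd 46990 = n83010 := ndS (p := 24546) (l := 3) rfl N24546 D83010
theorem N46991 : nd 46991 = n83011 := ndS (p := 24546) (l := 4) rfl N24546 D83011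
theorem N46992 : nd 46992 = n83012 := ndS (p := 24546) (l := 5) rfl N24546 D83012
theorem N46993 : nd 46993 = n83013 := ndS (p := 24546) (l := 6) rfl N24546 D83013
theorem N46994 : nd 46994 = n83014 := ndS (p := 24547) (l := 0) rfl N24547 D83014
theorem N46995 : nd 46995 = n83017 := ndS (p := 24547) (l := 7) rfl N24547 D83017
theorem N46996 : nd 46996 = n83021 := ndS (p := 24549) (l := 5) rfl N24549 D83021
theorem N46997 : nd 46997 = n83025 := ndS (p := 24550) (l := 4) rfl N24550 D83025
theorem N46998 : nd 46998 = n83026 := ndS (p := 24550) (l := 5) rfl N24550 D83026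
theorem N46999 : nd 46999 = n83027 := ndS (p := 24550) (l := 6) rfl N24550 D83027
theorem N47000 : nd 47000 = n83028 := ndS (p := 24551) (l := 0) rfl N24551 D83028
theorem N47001 : nd 47001 = n83029 := ndS (p := 24551) (l := 1) rfl N24551 D83029
theorem N47002 : nd 47002 = n83030 := ndS (p := 24551) (l := 4) rfl N24551 D83030
theorem N47003 : nd 47003 = n83031 := ndS (p := 24551) (l := 7) rfl N24551 D83031
theorem N47004 : nd 47004 = n83037 := ndS (p := 24553) (l := 0) rfl N24553 D83037
theorem N47005 : nd 47005 = n83038 := ndS (p := 24553) (l := 1) rfl N24553 D83038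
theorem N47006 : nd 47006 = n83039 := ndS (p := 24553) (l := 4) rfl N24553 D83039
theorem N47007 : nd 47007 = n83043 := ndS (p := 24554) (l := 1) rfl N24554 D83043
theorem N47008 : nd 47008 = n83044 := ndS (p := 24554) (l := 2) rfl N24554 D83044
theorem N47009 : nd 47009 = n83045 := ndS (p := 24554) (l := 5) rfl N24554 D83045
theorem N47010 : nd 47010 = n83046 := ndS (p := 24554) (l := 6) rfl N24554 D83046
theorem N47011 : nd 47011 = n83048 := ndS (p := 24555) (l := 6) rfl N24555 D83048
theorem N47012 : nd 47012 = n83049 := ndS (p := 24556) (l := 5) rfl N24556 D83049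
theorem N47013 : nd 47013 = n83051 := ndS (p := 24557) (l := 3) rfl N24557 D83051
theorem N47014 : nd 47014 = n83052 := ndS (p := 24557) (l := 4) rfl N24557 D83052
theorem N47015 : nd 47015 = n83053 := ndS (p := 24557) (l := 6) rfl N24557 D83053
theorem N47016 : nd 47016 = n83054 := ndS (p := 24558) (l := 3) rfl N24558 D83054
theorem N47017 : nd 47017 = n83057 := ndS (p := 24559) (l := 0) rfl N24559 D83057
theorem N47018 : nd 47018 = n83058 := ndS (p := 24559) (l := 1) rfl N24559 D83058
theorem N47019 : nd 47019 = n83060 := ndS (p := 24560) (l := 6) rfl N24560 D83060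
theorem N47020 : nd 47020 = n83065 := ndS (p := 24561) (l := 3) rfl N24561 D83065
theorem N47021 : nd 47021 = n83066 := ndS (p := 24561) (l := 5) rfl N24561 D83066
theorem N47022 : nd 47022 = n83067 := ndS (p := 24562) (l := 0) rfl N24562 D83067
theorem N47023 : nd 47023 = n83069 := ndS (p := 24562) (l := 2) rfl N24562 D83069
theorem N47024 : nd 47024 = n83070 := ndS (p := 24562) (l := 5) rfl N24562 D83070
theorem N47025 : nd 47025 = n83073 := ndS (p := 24563) (l := 4) rfl N24563 D83073
theorem N47026 : nd 47026 = n83074 := ndS (p := 24563) (l := 6) rfl N24563 D83074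
theorem N47027 : nd 47027 = n83075 := ndS (p := 24564) (l := 3) rfl N24564 D83075
theorem N47028 : nd 47028 = n83080 := ndS (p := 24565) (l := 1) rfl N24565 D83080
theorem N47029 : nd 47029 = n83081 := ndS (p := 24565) (l := 2) rfl N24565 D83081
theorem N47030 : nd 47030 = n83082 := ndS (p := 24565) (l := 5) rfl N24565 D83082
theorem N47031 : nd 47031 = n83083 := ndS (p := 24565) (l := 6) rfl N24565 D83083
theorem N47032 : nd 47032 = n83084 := ndS (p := 24566) (l := 4) rfl N24566 D83084
theorem N47033 : nd 47033 = n83087 := ndS (p := 24568) (l := 0) rfl N24568 D83087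
theorem N47034 : nd 47034 = n83088 := ndS (p := 24568) (l := 1) rfl N24568 D83088
theorem N47035 : nd 47035 = n83089 := ndS (p := 24568) (l := 2) rfl N24568 D83089
theorem N47036 : nd 47036 = n83090 := ndS (p := 24568) (l := 6) rfl N24568 D83090
theorem N47037 : nd 47037 = n83091 := ndS (p := 24569) (l := 5) rfl N24569 D83091
theorem N47038 : nd 47038 = n83097 := ndS (p := 24574) (l := 3) rfl N24574 D83097
theorem N47039 : nd 47039 = n83099 := ndS (p := 24575) (l := 6) rfl N24575 D83099
theorem N47040 : nd 47040 = n83100 := ndS (p := 24576) (l := 6) rfl N24576 D83100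
theorem N47041 : nd 47041 = n83101 := ndS (p := 24577) (l := 0) rfl N24577 D83101
theorem N47042 : nd 47042 = n83102 := ndS (p := 24577) (l := 1) rfl N24577 D83102
theorem N47043 : nd 47043 = n83104 := ndS (p := 24577) (l := 7) rfl N24577 D83104
theorem N47044 : nd 47044 = n83105 := ndS (p := 24578) (l := 0) rfl N24578 D83105
theorem N47045 : nd 47045 = n83106 := ndS (p := 24578) (l := 1) rfl N24578 D83106
theorem N47046 : nd 47046 = n83107 := ndS (p := 24578) (l := 5) rfl N24578 D83107
theorem N47047 : nd 47047 = n83108 := ndS (p := 24578) (l := 7) rfl N24578 D83108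
theorem N47048 : nd 47048 = n83109 := ndS (p := 24579) (l := 3) rfl N24579 D83109
theorem N47049 : nd 47049 = n83110 := ndS (p := 24579) (l := 5) rfl N24579 D83110
theorem N47050 : nd 47050 = n83112 := ndS (p := 24580) (l := 0) rfl N24580 D83112
theorem N47051 : nd 47051 = n83114 := ndS (p := 24580) (l := 4) rfl N24580 D83114
theorem N47052 : nd 47052 = n83115 := ndS (p := 24580) (l := 7) rfl N24580 D83115
theorem N47053 : nd 47053 = n83116 := ndS (p := 24582) (l := 3) rfl N24582 D83116
theorem N47054 : nd 47054 = n83117 := ndS (p := 24582) (l := 5) rfl N24582 D83117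
theorem N47055 : nd 47055 = n83121 := ndS (p := 24583) (l := 4) rfl N24583 D83121
theorem N47056 : nd 47056 = n83126 := ndS (p := 24584) (l := 5) rfl N24584 D83126
theorem N47057 : nd 47057 = n83128 := ndS (p := 24585) (l := 4) rfl N24585 D83128
theorem N47058 : nd 47058 = n83133 := ndS (p := 24586) (l := 4) rfl N24586 D83133
theorem N47059 : nd 47059 = n83139 := ndS (p := 24587) (l := 1) rfl N24587 D83139
theorem N47060 : nd 47060 = n83140 := ndS (p := 24587) (l := 3) rfl N24587 D83140
theorem N47061 : nd 47061 = n83141 := ndS (p := 24587) (l := 5) rfl N24587 D83141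
theorem N47062 : nd 47062 = n83142 := ndS (p := 24587) (l := 7) rfl N24587 D83142
theorem N47063 : nd 47063 = n83144 := ndS (p := 24589) (l := 4) rfl N24589 D83144
theorem N47064 : nd 47064 = n83145 := ndS (p := 24589) (l := 5) rfl N24589 D83145
theorem N47065 : nd 47065 = n83147 := ndS (p := 24590) (l := 3) rfl N24590 D83147
theorem N47066 : nd 47066 = n83148 := ndS (p := 24590) (l := 5) rfl N24590 D83148
theorem N47067 : nd 47067 = n83149 := ndS (p := 24590) (l := 6) rfl N24590 D83149
theorem N47068 : nd 47068 = n83156 := ndS (p := 24592) (l := 4) rfl N24592 D83156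
theorem N47069 : nd 47069 = n83158 := ndS (p := 24593) (l := 6) rfl N24593 D83158
theorem N47070 : nd 47070 = n83160 := ndS (p := 24594) (l := 1) rfl N24594 D83160
theorem N47071 : nd 47071 = n83161 := ndS (p := 24594) (l := 5) rfl N24594 D83161
theorem N47072 : nd 47072 = n83162 := ndS (p := 24595) (l := 4) rfl N24595 D83162
theorem N47073 : nd 47073 = n83163 := ndS (p := 24596) (l := 4) rfl N24596 D83163
theorem N47074 : nd 47074 = n83164 := ndS (p := 24596) (l := 6) rfl N24596 D83164
theorem N47075 : nd 47075 = n83167 := ndS (p := 24597) (l := 5) rfl N24597 D83167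
theorem N47076 : nd 47076 = n83169 := ndS (p := 24598) (l := 0) rfl N24598 D83169
theorem N47077 : nd 47077 = n83170 := ndS (p := 24598) (l := 1) rfl N24598 D83170
theorem N47078 : nd 47078 = n83171 := ndS (p := 24598) (l := 5) rfl N24598 D83171
theorem N47079 : nd 47079 = n83172 := ndS (p := 24598) (l := 7) rfl N24598 D83172
theorem N47080 : nd 47080 = n83175 := ndS (p := 24599) (l := 5) rfl N24599 D83175
theorem N47081 : nd 47081 = n83176 := ndS (p := 24599) (l := 7) rfl N24599 D83176
theorem N47082 : nd 47082 = n83178 := ndS (p := 24600) (l := 4) rfl N24600 D83178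
theorem N47083 : nd 47083 = n83182 := ndS (p := 24601) (l := 3) rfl N24601 D83182
theorem N47084 : nd 47084 = n83183 := ndS (p := 24601) (l := 4) rfl N24601 D83183
theorem N47085 : nd 47085 = n83184 := ndS (p := 24601) (l := 5) rfl N24601 D83184
theorem N47086 : nd 47086 = n83187 := ndS (p := 24602) (l := 1) rfl N24602 D83187
theorem N47087 : nd 47087 = n83188 := ndS (p := 24602) (l := 4) rfl N24602 D83188
theorem N47088 : nd 47088 = n83189 := ndS (p := 24602) (l := 7) rfl N24602 D83189
theorem N47089 : nd 47089 = n83190 := ndS (p := 24604) (l := 2) rfl N24604 D83190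
theorem N47090 : nd 47090 = n83191 := ndS (p := 24604) (l := 4) rfl N24604 D83191
theorem N47091 : nd 47091 = n83196 := ndS (p := 24605) (l := 7) rfl N24605 D83196
theorem N47092 : nd 47092 = n83198 := ndS (p := 24606) (l := 6) rfl N24606 D83198
theorem N47093 : nd 47093 = n83199 := ndS (p := 24607) (l := 0) rfl N24607 D83199
theorem N47094 : nd 47094 = n83200 := ndS (p := 24607) (l := 1) rfl N24607 D83200
theorem N47095 : nd 47095 = n83201 := ndS (p := 24607) (l := 5) rfl N24607 D83201
theorem N47096 : nd 47096 = n83202 := ndS (p := 24607) (l := 7) rfl N24607 D83202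
theorem N47097 : nd 47097 = n83204 := ndS (p := 24608) (l := 3) rfl N24608 D83204
theorem N47098 : nd 47098 = n83206 := ndS (p := 24608) (l := 5) rfl N24608 D83206
theorem N47099 : nd 47099 = n83207 := ndS (p := 24608) (l := 6) rfl N24608 D83207
theorem N47100 : nd 47100 = n83211 := ndS (p := 24609) (l := 5) rfl N24609 D83211
theorem N47101 : nd 47101 = n83212 := ndS (p := 24609) (l := 6) rfl N24609 D83212
theorem N47102 : nd 47102 = n83213 := ndS (p := 24610) (l := 0) rfl N24610 D83213
theorem N47103 : nd 47103 = n83215 := ndS (p := 24610) (l := 4) rfl N24610 D83215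
theorem N47104 : nd 47104 = n83216 := ndS (p := 24610) (l := 7) rfl N24610 D83216
theorem N47105 : nd 47105 = n83219 := ndS (p := 24612) (l := 2) rfl N24612 D83219
theorem N47106 : nd 47106 = n83221 := ndS (p := 24612) (l := 5) rfl N24612 D83221
theorem N47107 : nd 47107 = n83225 := ndS (p := 24613) (l := 4) rfl N24613 D83225
theorem N47108 : nd 47108 = n83226 := ndS (p := 24613) (l := 6) rfl N24613 D83226
theorem N47109 : nd 47109 = n83227 := ndS (p := 24614) (l := 1) rfl N24614 D83227
theorem N47110 : nd 47110 = n83228 := ndS (p := 24614) (l := 2) rfl N24614 D83228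
theorem N47111 : nd 47111 = n83229 := ndS (p := 24614) (l := 4) rfl N24614 D83229
theorem N47112 : nd 47112 = n83230 := ndS (p := 24614) (l := 5) rfl N24614 D83230
theorem N47113 : nd 47113 = n83234 := ndS (p := 24616) (l := 4) rfl N24616 D83234
theorem N47114 : nd 47114 = n83235 := ndS (p := 24616) (l := 6) rfl N24616 D83235
theorem N47115 : nd 47115 = n83240 := ndS (p := 24617) (l := 3) rfl N24617 D83240
theorem N47116 : nd 47116 = n83241 := ndS (p := 24617) (l := 4) rfl N24617 D83241
theorem N47117 : nd 47117 = n83243 := ndS (p := 24617) (l := 6) rfl N24617 D83243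
theorem N47118 : nd 47118 = n83244 := ndS (p := 24618) (l := 3) rfl N24618 D83244
theorem N47119 : nd 47119 = n83245 := ndS (p := 24618) (l := 4) rfl N24618 D83245
theorem N47120 : nd 47120 = n83246 := ndS (p := 24618) (l := 6) rfl N24618 D83246
theorem N47121 : nd 47121 = n83247 := ndS (p := 24619) (l := 0) rfl N24619 D83247
theorem N47122 : nd 47122 = n83248 := ndS (p := 24619) (l := 1) rfl N24619 D83248
theorem N47123 : nd 47123 = n83249 := ndS (p := 24619) (l := 3) rfl N24619 D83249
theorem N47124 : nd 47124 = n83250 := ndS (p := 24619) (l := 5) rfl N24619 D83250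
theorem N47125 : nd 47125 = n83251 := ndS (p := 24619) (l := 7) rfl N24619 D83251
theorem N47126 : nd 47126 = n83252 := ndS (p := 24620) (l := 6) rfl N24620 D83252
theorem N47127 : nd 47127 = n83256 := ndS (p := 24621) (l := 5) rfl N24621 D83256
theorem N47128 : nd 47128 = n83257 := ndS (p := 24621) (l := 6) rfl N24621 D83257
theorem N47129 : nd 47129 = n83258 := ndS (p := 24622) (l := 1) rfl N24622 D83258
theorem N47130 : nd 47130 = n83259 := ndS (p := 24622) (l := 4) rfl N24622 D83259
theorem N47131 : nd 47131 = n83261 := ndS (p := 24624) (l := 4) rfl N24624 D83261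
theorem N47132 : nd 47132 = n83262 := ndS (p := 24625) (l := 0) rfl N24625 D83262
theorem N47133 : nd 47133 = n83263 := ndS (p := 24625) (l := 1) rfl N24625 D83263
theorem N47134 : nd 47134 = n83264 := ndS (p := 24625) (l := 3) rfl N24625 D83264
theorem N47135 : nd 47135 = n83266 := ndS (p := 24625) (l := 6) rfl N24625 D83266
theorem N47136 : nd 47136 = n83267 := ndS (p := 24627) (l := 4) rfl N24627 D83267
theorem N47137 : nd 47137 = n83268 := ndS (p := 24627) (l := 6) rfl N24627 D83268
theorem N47138 : nd 47138 = n83272 := ndS (p := 24628) (l := 3) rfl N24628 D83272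
theorem N47139 : nd 47139 = n83273 := ndS (p := 24628) (l := 5) rfl N24628 D83273
theorem N47140 : nd 47140 = n83279 := ndS (p := 24629) (l := 3) rfl N24629 D83279
theorem N47141 : nd 47141 = n83280 := ndS (p := 24629) (l := 5) rfl N24629 D83280
theorem N47142 : nd 47142 = n83282 := ndS (p := 24631) (l := 5) rfl N24631 D83282
theorem N47143 : nd 47143 = n83284 := ndS (p := 24632) (l := 3) rfl N24632 D83284
theorem N47144 : nd 47144 = n83285 := ndS (p := 24632) (l := 5) rfl N24632 D83285
theorem N47145 : nd 47145 = n83286 := ndS (p := 24633) (l := 3) rfl N24633 D83286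
theorem N47146 : nd 47146 = n83288 := ndS (p := 24633) (l := 5) rfl N24633 D83288
theorem N47147 : nd 47147 = n83290 := ndS (p := 24634) (l := 0) rfl N24634 D83290
theorem N47148 : nd 47148 = n83291 := ndS (p := 24634) (l := 1) rfl N24634 D83291
theorem N47149 : nd 47149 = n83292 := ndS (p := 24634) (l := 2) rfl N24634 D83292
theorem N47150 : nd 47150 = n83293 := ndS (p := 24634) (l := 5) rfl N24634 D83293
theorem N47151 : nd 47151 = n83294 := ndS (p := 24634) (l := 7) rfl N24634 D83294
theorem N47152 : nd 47152 = n83295 := ndS (p := 24635) (l := 0) rfl N24635 D83295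
theorem N47153 : nd 47153 = n83296 := ndS (p := 24635) (l := 1) rfl N24635 D83296
theorem N47154 : nd 47154 = n83297 := ndS (p := 24635) (l := 4) rfl N24635 D83297
theorem N47155 : nd 47155 = n83298 := ndS (p := 24635) (l := 6) rfl N24635 D83298
theorem N47156 : nd 47156 = n83299 := ndS (p := 24635) (l := 7) rfl N24635 D83299
theorem N47157 : nd 47157 = n83301 := ndS (p := 24637) (l := 2) rfl N24637 D83301
theorem N47158 : nd 47158 = n83302 := ndS (p := 24637) (l := 6) rfl N24637 D83302
theorem N47159 : nd 47159 = n83303 := ndS (p := 24638) (l := 5) rfl N24638 D83303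
theorem N47160 : nd 47160 = n83310 := ndS (p := 24639) (l := 6) rfl N24639 D83310
theorem N47161 : nd 47161 = n83311 := ndS (p := 24640) (l := 3) rfl N24640 D83311
theorem N47162 : nd 47162 = n83312 := ndS (p := 24640) (l := 6) rfl N24640 D83312
theorem N47163 : nd 47163 = n83313 := ndS (p := 24641) (l := 6) rfl N24641 D83313
theorem N47164 : nd 47164 = n83314 := ndS (p := 24642) (l := 6) rfl N24642 D83314
theorem N47165 : nd 47165 = n83315 := ndS (p := 24643) (l := 0) rfl N24643 D83315
theorem N47166 : nd 47166 = n83316 := ndS (p := 24643) (l := 1) rfl N24643 D83316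
theorem N47167 : nd 47167 = n83317 := ndS (p := 24643) (l := 5) rfl N24643 D83317
theorem N47168 : nd 47168 = n83318 := ndS (p := 24643) (l := 7) rfl N24643 D83318
theorem N47169 : nd 47169 = n83321 := ndS (p := 24644) (l := 5) rfl N24644 D83321
theorem N47170 : nd 47170 = n83327 := ndS (p := 24645) (l := 5) rfl N24645 D83327
theorem N47171 : nd 47171 = n83331 := ndS (p := 24646) (l := 7) rfl N24646 D83331
theorem N47172 : nd 47172 = n83351 := ndS (p := 24649) (l := 1) rfl N24649 D83351
theorem N47173 : nd 47173 = n83352 := ndS (p := 24649) (l := 6) rfl N24649 D83352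
theorem N47174 : nd 47174 = n83355 := ndS (p := 24650) (l := 5) rfl N24650 D83355
theorem N47175 : nd 47175 = n83358 := ndS (p := 24651) (l := 1) rfl N24651 D83358
theorem N47176 : nd 47176 = n83359 := ndS (p := 24651) (l := 5) rfl N24651 D83359
theorem N47177 : nd 47177 = n83360 := ndS (p := 24651) (l := 7) rfl N24651 D83360
theorem N47178 : nd 47178 = n83361 := ndS (p := 24652) (l := 6) rfl N24652 D83361
theorem N47179 : nd 47179 = n83362 := ndS (p := 24653) (l := 0) rfl N24653 D83362
theorem N47180 : nd 47180 = n83363 := ndS (p := 24653) (l := 1) rfl N24653 D83363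
theorem N47181 : nd 47181 = n83364 := ndS (p := 24653) (l := 5) rfl N24653 D83364
theorem N47182 : nd 47182 = n83365 := ndS (p := 24653) (l := 7) rfl N24653 D83365
theorem N47183 : nd 47183 = n83367 := ndS (p := 24654) (l := 6) rfl N24654 D83367
theorem N47184 : nd 47184 = n83369 := ndS (p := 24656) (l := 0) rfl N24656 D83369
theorem N47185 : nd 47185 = n83370 := ndS (p := 24656) (l := 1) rfl N24656 D83370
theorem N47186 : nd 47186 = n83371 := ndS (p := 24656) (l := 5) rfl N24656 D83371
theorem N47187 : nd 47187 = n83372 := ndS (p := 24656) (l := 7) rfl N24656 D83372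
theorem N47188 : nd 47188 = n83374 := ndS (p := 24657) (l := 3) rfl N24657 D83374
theorem N47189 : nd 47189 = n83375 := ndS (p := 24657) (l := 4) rfl N24657 D83375
theorem N47190 : nd 47190 = n83376 := ndS (p := 24657) (l := 5) rfl N24657 D83376
theorem N47191 : nd 47191 = n83380 := ndS (p := 24658) (l := 4) rfl N24658 D83380
theorem N47192 : nd 47192 = n83381 := ndS (p := 24658) (l := 5) rfl N24658 D83381
theorem N47193 : nd 47193 = n83382 := ndS (p := 24658) (l := 6) rfl N24658 D83382
theorem N47194 : nd 47194 = n83383 := ndS (p := 24659) (l := 0) rfl N24659 D83383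
theorem N47195 : nd 47195 = n83384 := ndS (p := 24659) (l := 1) rfl N24659 D83384
theorem N47196 : nd 47196 = n83385 := ndS (p := 24659) (l := 4) rfl N24659 D83385
theorem N47197 : nd 47197 = n83386 := ndS (p := 24659) (l := 7) rfl N24659 D83386
theorem N47198 : nd 47198 = n83388 := ndS (p := 24661) (l := 3) rfl N24661 D83388
theorem N47199 : nd 47199 = n83390 := ndS (p := 24661) (l := 5) rfl N24661 D83390
theorem N47200 : nd 47200 = n83391 := ndS (p := 24661) (l := 6) rfl N24661 D83391
theorem N47201 : nd 47201 = n83393 := ndS (p := 24662) (l := 3) rfl N24662 D83393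
theorem N47202 : nd 47202 = n83395 := ndS (p := 24662) (l := 5) rfl N24662 D83395
theorem N47203 : nd 47203 = n83396 := ndS (p := 24662) (l := 6) rfl N24662 D83396
theorem N47204 : nd 47204 = n83397 := ndS (p := 24663) (l := 0) rfl N24663 D83397
theorem N47205 : nd 47205 = n83398 := ndS (p := 24663) (l := 1) rfl N24663 D83398
theorem N47206 : nd 47206 = n83399 := ndS (p := 24663) (l := 4) rfl N24663 D83399
theorem N47207 : nd 47207 = n83400 := ndS (p := 24663) (l := 7) rfl N24663 D83400
theorem N47208 : nd 47208 = n83401 := ndS (p := 24665) (l := 0) rfl N24665 D83401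
theorem N47209 : nd 47209 = n83404 := ndS (p := 24665) (l := 5) rfl N24665 D83404
theorem N47210 : nd 47210 = n83407 := ndS (p := 24666) (l := 0) rfl N24666 D83407
theorem N47211 : nd 47211 = n83408 := ndS (p := 24666) (l := 1) rfl N24666 D83408
theorem N47212 : nd 47212 = n83409 := ndS (p := 24666) (l := 4) rfl N24666 D83409
theorem N47213 : nd 47213 = n83410 := ndS (p := 24666) (l := 6) rfl N24666 D83410
theorem N47214 : nd 47214 = n83417 := ndS (p := 24667) (l := 4) rfl N24667 D83417
theorem N47215 : nd 47215 = n83418 := ndS (p := 24667) (l := 6) rfl N24667 D83418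
theorem N47216 : nd 47216 = n83419 := ndS (p := 24669) (l := 3) rfl N24669 D83419
theorem N47217 : nd 47217 = n83420 := ndS (p := 24669) (l := 4) rfl N24669 D83420
theorem N47218 : nd 47218 = n83421 := ndS (p := 24669) (l := 5) rfl N24669 D83421
theorem N47219 : nd 47219 = n83422 := ndS (p := 24669) (l := 6) rfl N24669 D83422
theorem N47220 : nd 47220 = n83423 := ndS (p := 24670) (l := 3) rfl N24670 D83423
theorem N47221 : nd 47221 = n83424 := ndS (p := 24670) (l := 4) rfl N24670 D83424
theorem N47222 : nd 47222 = n83425 := ndS (p := 24670) (l := 6) rfl N24670 D83425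
theorem N47223 : nd 47223 = n83426 := ndS (p := 24671) (l := 0) rfl N24671 D83426
theorem N47224 : nd 47224 = n83427 := ndS (p := 24671) (l := 1) rfl N24671 D83427
theorem N47225 : nd 47225 = n83428 := ndS (p := 24671) (l := 3) rfl N24671 D83428
theorem N47226 : nd 47226 = n83429 := ndS (p := 24671) (l := 5) rfl N24671 D83429
theorem N47227 : nd 47227 = n83430 := ndS (p := 24671) (l := 7) rfl N24671 D83430
theorem N47228 : nd 47228 = n83431 := ndS (p := 24672) (l := 6) rfl N24672 D83431
theorem N47229 : nd 47229 = n83432 := ndS (p := 24673) (l := 0) rfl N24673 D83432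
theorem N47230 : nd 47230 = n83433 := ndS (p := 24673) (l := 1) rfl N24673 D83433
theorem N47231 : nd 47231 = n83434 := ndS (p := 24673) (l := 4) rfl N24673 D83434
theorem N47232 : nd 47232 = n83435 := ndS (p := 24673) (l := 6) rfl N24673 D83435
theorem N47233 : nd 47233 = n83438 := ndS (p := 24674) (l := 4) rfl N24674 D83438
theorem N47234 : nd 47234 = n83440 := ndS (p := 24675) (l := 4) rfl N24675 D83440
theorem N47235 : nd 47235 = n83443 := ndS (p := 24676) (l := 3) rfl N24676 D83443
theorem N47236 : nd 47236 = n83444 := ndS (p := 24676) (l := 5) rfl N24676 D83444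
theorem N47237 : nd 47237 = n83451 := ndS (p := 24677) (l := 6) rfl N24677 D83451
theorem N47238 : nd 47238 = n83454 := ndS (p := 24680) (l := 3) rfl N24680 D83454
theorem N47239 : nd 47239 = n83455 := ndS (p := 24680) (l := 5) rfl N24680 D83455
theorem N47240 : nd 47240 = n83457 := ndS (p := 24681) (l := 5) rfl N24681 D83457
theorem N47241 : nd 47241 = n83459 := ndS (p := 24682) (l := 4) rfl N24682 D83459
theorem N47242 : nd 47242 = n83461 := ndS (p := 24683) (l := 3) rfl N24683 D83461
theorem N47243 : nd 47243 = n83462 := ndS (p := 24683) (l := 5) rfl N24683 D83462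
theorem N47244 : nd 47244 = n83464 := ndS (p := 24684) (l := 3) rfl N24684 D83464
theorem N47245 : nd 47245 = n83465 := ndS (p := 24684) (l := 5) rfl N24684 D83465
theorem N47246 : nd 47246 = n83467 := ndS (p := 24685) (l := 3) rfl N24685 D83467
theorem N47247 : nd 47247 = n83468 := ndS (p := 24685) (l := 5) rfl N24685 D83468
theorem N47248 : nd 47248 = n83471 := ndS (p := 24686) (l := 1) rfl N24686 D83471
theorem N47249 : nd 47249 = n83472 := ndS (p := 24686) (l := 2) rfl N24686 D83472
theorem N47250 : nd 47250 = n83473 := ndS (p := 24686) (l := 5) rfl N24686 D83473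
theorem N47251 : nd 47251 = n83475 := ndS (p := 24687) (l := 0) rfl N24687 D83475
theorem N47252 : nd 47252 = n83476 := ndS (p := 24687) (l := 1) rfl N24687 D83476
theorem N47253 : nd 47253 = n83477 := ndS (p := 24687) (l := 4) rfl N24687 D83477
theorem N47254 : nd 47254 = n83478 := ndS (p := 24687) (l := 6) rfl N24687 D83478
theorem N47255 : nd 47255 = n83479 := ndS (p := 24687) (l := 7) rfl N24687 D83479
theorem N47256 : nd 47256 = n83481 := ndS (p := 24689) (l := 6) rfl N24689 D83481
theorem N47257 : nd 47257 = n83482 := ndS (p := 24690) (l := 6) rfl N24690 D83482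
theorem N47258 : nd 47258 = n83483 := ndS (p := 24691) (l := 6) rfl N24691 D83483
theorem N47259 : nd 47259 = n83484 := ndS (p := 24692) (l := 0) rfl N24692 D83484
theorem N47260 : nd 47260 = n83486 := ndS (p := 24692) (l := 5) rfl N24692 D83486
theorem N47261 : nd 47261 = n83487 := ndS (p := 24692) (l := 7) rfl N24692 D83487
theorem N47262 : nd 47262 = n83488 := ndS (p := 24693) (l := 5) rfl N24693 D83488
theorem N47263 : nd 47263 = n83490 := ndS (p := 24694) (l := 6) rfl N24694 D83490
theorem N47264 : nd 47264 = n83494 := ndS (p := 24696) (l := 5) rfl N24696 D83494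
theorem N47265 : nd 47265 = n83496 := ndS (p := 24697) (l := 0) rfl N24697 D83496
theorem N47266 : nd 47266 = n83497 := ndS (p := 24697) (l := 1) rfl N24697 D83497
theorem N47267 : nd 47267 = n83499 := ndS (p := 24697) (l := 7) rfl N24697 D83499
theorem N47268 : nd 47268 = n83502 := ndS (p := 24698) (l := 5) rfl N24698 D83502
theorem N47269 : nd 47269 = n83504 := ndS (p := 24699) (l := 5) rfl N24699 D83504
theorem N47270 : nd 47270 = n83505 := ndS (p := 24699) (l := 6) rfl N24699 D83505
theorem N47271 : nd 47271 = n83506 := ndS (p := 24700) (l := 0) rfl N24700 D83506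
theorem N47272 : nd 47272 = n83508 := ndS (p := 24700) (l := 5) rfl N24700 D83508
theorem N47273 : nd 47273 = n83509 := ndS (p := 24700) (l := 7) rfl N24700 D83509
theorem N47274 : nd 47274 = n83511 := ndS (p := 24701) (l := 3) rfl N24701 D83511
theorem N47275 : nd 47275 = n83512 := ndS (p := 24701) (l := 4) rfl N24701 D83512
theorem N47276 : nd 47276 = n83513 := ndS (p := 24701) (l := 5) rfl N24701 D83513
theorem N47277 : nd 47277 = n83514 := ndS (p := 24701) (l := 6) rfl N24701 D83514
theorem N47278 : nd 47278 = n83516 := ndS (p := 24702) (l := 3) rfl N24702 D83516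
theorem N47279 : nd 47279 = n83517 := ndS (p := 24702) (l := 4) rfl N24702 D83517
theorem N47280 : nd 47280 = n83518 := ndS (p := 24702) (l := 5) rfl N24702 D83518
theorem N47281 : nd 47281 = n83519 := ndS (p := 24702) (l := 6) rfl N24702 D83519
theorem N47282 : nd 47282 = n83520 := ndS (p := 24703) (l := 0) rfl N24703 D83520
theorem N47283 : nd 47283 = n83521 := ndS (p := 24703) (l := 1) rfl N24703 D83521
theorem N47284 : nd 47284 = n83522 := ndS (p := 24703) (l := 4) rfl N24703 D83522
theorem N47285 : nd 47285 = n83523 := ndS (p := 24703) (l := 7) rfl N24703 D83523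
theorem N47286 : nd 47286 = n83525 := ndS (p := 24705) (l := 3) rfl N24705 D83525
theorem N47287 : nd 47287 = n83527 := ndS (p := 24705) (l := 5) rfl N24705 D83527
theorem N47288 : nd 47288 = n83528 := ndS (p := 24705) (l := 6) rfl N24705 D83528
theorem N47289 : nd 47289 = n83530 := ndS (p := 24706) (l := 3) rfl N24706 D83530
theorem N47290 : nd 47290 = n83532 := ndS (p := 24706) (l := 5) rfl N24706 D83532
theorem N47291 : nd 47291 = n83534 := ndS (p := 24707) (l := 0) rfl N24707 D83534
theorem N47292 : nd 47292 = n83536 := ndS (p := 24707) (l := 4) rfl N24707 D83536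
theorem N47293 : nd 47293 = n83537 := ndS (p := 24707) (l := 7) rfl N24707 D83537
theorem N47294 : nd 47294 = n83538 := ndS (p := 24709) (l := 3) rfl N24709 D83538
theorem N47295 : nd 47295 = n83542 := ndS (p := 24711) (l := 0) rfl N24711 D83542
theorem N47296 : nd 47296 = n83544 := ndS (p := 24711) (l := 3) rfl N24711 D83544
theorem N47297 : nd 47297 = n83545 := ndS (p := 24711) (l := 5) rfl N24711 D83545
theorem N47298 : nd 47298 = n83546 := ndS (p := 24711) (l := 7) rfl N24711 D83546
theorem N47299 : nd 47299 = n83547 := ndS (p := 24712) (l := 6) rfl N24712 D83547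
theorem N47300 : nd 47300 = n83548 := ndS (p := 24713) (l := 4) rfl N24713 D83548
theorem N47301 : nd 47301 = n83549 := ndS (p := 24713) (l := 6) rfl N24713 D83549
theorem N47302 : nd 47302 = n83551 := ndS (p := 24714) (l := 1) rfl N24714 D83551
theorem N47303 : nd 47303 = n83552 := ndS (p := 24714) (l := 5) rfl N24714 D83552
theorem N47304 : nd 47304 = n83553 := ndS (p := 24714) (l := 7) rfl N24714 D83553
theorem N47305 : nd 47305 = n83555 := ndS (p := 24715) (l := 3) rfl N24715 D83555
theorem N47306 : nd 47306 = n83557 := ndS (p := 24715) (l := 5) rfl N24715 D83557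
theorem N47307 : nd 47307 = n83560 := ndS (p := 24716) (l := 3) rfl N24716 D83560
theorem N47308 : nd 47308 = n83562 := ndS (p := 24716) (l := 5) rfl N24716 D83562
theorem N47309 : nd 47309 = n83565 := ndS (p := 24717) (l := 1) rfl N24717 D83565
theorem N47310 : nd 47310 = n83567 := ndS (p := 24717) (l := 7) rfl N24717 D83567
theorem N47311 : nd 47311 = n83571 := ndS (p := 24719) (l := 5) rfl N24719 D83571
theorem N47312 : nd 47312 = n83574 := ndS (p := 24720) (l := 3) rfl N24720 D83574
theorem N47313 : nd 47313 = n83576 := ndS (p := 24720) (l := 5) rfl N24720 D83576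
theorem N47314 : nd 47314 = n83577 := ndS (p := 24720) (l := 6) rfl N24720 D83577
theorem N47315 : nd 47315 = n83578 := ndS (p := 24721) (l := 0) rfl N24721 D83578
theorem N47316 : nd 47316 = n83579 := ndS (p := 24721) (l := 1) rfl N24721 D83579
theorem N47317 : nd 47317 = n83580 := ndS (p := 24721) (l := 4) rfl N24721 D83580
theorem N47318 : nd 47318 = n83581 := ndS (p := 24721) (l := 7) rfl N24721 D83581
theorem N47319 : nd 47319 = n83582 := ndS (p := 24723) (l := 3) rfl N24723 D83582
theorem N47320 : nd 47320 = n83584 := ndS (p := 24724) (l := 3) rfl N24724 D83584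
theorem N47321 : nd 47321 = n83585 := ndS (p := 24724) (l := 6) rfl N24724 D83585
theorem N47322 : nd 47322 = n83586 := ndS (p := 24725) (l := 0) rfl N24725 D83586
theorem N47323 : nd 47323 = n83587 := ndS (p := 24725) (l := 1) rfl N24725 D83587
theorem N47324 : nd 47324 = n83588 := ndS (p := 24725) (l := 3) rfl N24725 D83588
theorem N47325 : nd 47325 = n83589 := ndS (p := 24725) (l := 5) rfl N24725 D83589
theorem N47326 : nd 47326 = n83590 := ndS (p := 24725) (l := 7) rfl N24725 D83590
theorem N47327 : nd 47327 = n83591 := ndS (p := 24726) (l := 6) rfl N24726 D83591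
theorem N47328 : nd 47328 = n83592 := ndS (p := 24727) (l := 4) rfl N24727 D83592
theorem N47329 : nd 47329 = n83593 := ndS (p := 24727) (l := 6) rfl N24727 D83593
theorem N47330 : nd 47330 = n83594 := ndS (p := 24728) (l := 6) rfl N24728 D83594
theorem N47331 : nd 47331 = n83595 := ndS (p := 24729) (l := 4) rfl N24729 D83595
theorem N47332 : nd 47332 = n83596 := ndS (p := 24729) (l := 6) rfl N24729 D83596
theorem N47333 : nd 47333 = n83598 := ndS (p := 24730) (l := 1) rfl N24730 D83598
theorem N47334 : nd 47334 = n83599 := ndS (p := 24730) (l := 5) rfl N24730 D83599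
theorem N47335 : nd 47335 = n83601 := ndS (p := 24731) (l := 0) rfl N24731 D83601
theorem N47336 : nd 47336 = n83603 := ndS (p := 24731) (l := 7) rfl N24731 D83603
theorem N47337 : nd 47337 = n83605 := ndS (p := 24733) (l := 6) rfl N24733 D83605
theorem N47338 : nd 47338 = n83606 := ndS (p := 24734) (l := 0) rfl N24734 D83606
theorem N47339 : nd 47339 = n83608 := ndS (p := 24734) (l := 5) rfl N24734 D83608
theorem N47340 : nd 47340 = n83609 := ndS (p := 24734) (l := 7) rfl N24734 D83609
theorem N47341 : nd 47341 = n83614 := ndS (p := 24735) (l := 6) rfl N24735 D83614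
theorem N47342 : nd 47342 = n83620 := ndS (p := 24736) (l := 0) rfl N24736 D83620
theorem N47343 : nd 47343 = n83622 := ndS (p := 24736) (l := 4) rfl N24736 D83622
theorem N47344 : nd 47344 = n83623 := ndS (p := 24736) (l := 7) rfl N24736 D83623
theorem N47345 : nd 47345 = n83624 := ndS (p := 24738) (l := 6) rfl N24738 D83624
theorem N47346 : nd 47346 = n83626 := ndS (p := 24739) (l := 1) rfl N24739 D83626
theorem N47347 : nd 47347 = n83627 := ndS (p := 24739) (l := 5) rfl N24739 D83627
theorem N47348 : nd 47348 = n83628 := ndS (p := 24739) (l := 7) rfl N24739 D83628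
theorem N47349 : nd 47349 = n83630 := ndS (p := 24740) (l := 1) rfl N24740 D83630
theorem N47350 : nd 47350 = n83631 := ndS (p := 24740) (l := 5) rfl N24740 D83631
theorem N47351 : nd 47351 = n83632 := ndS (p := 24740) (l := 7) rfl N24740 D83632
theorem N47352 : nd 47352 = n83641 := ndS (p := 24741) (l := 5) rfl N24741 D83641
theorem N47353 : nd 47353 = n83642 := ndS (p := 24741) (l := 6) rfl N24741 D83642
theorem N47354 : nd 47354 = n83644 := ndS (p := 24742) (l := 1) rfl N24742 D83644
theorem N47355 : nd 47355 = n83645 := ndS (p := 24742) (l := 4) rfl N24742 D83645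
theorem N47356 : nd 47356 = n83646 := ndS (p := 24742) (l := 7) rfl N24742 D83646
theorem N47357 : nd 47357 = n83647 := ndS (p := 24744) (l := 0) rfl N24744 D83647
theorem N47358 : nd 47358 = n83648 := ndS (p := 24744) (l := 1) rfl N24744 D83648
theorem N47359 : nd 47359 = n83649 := ndS (p := 24744) (l := 5) rfl N24744 D83649
theorem N47360 : nd 47360 = n83650 := ndS (p := 24744) (l := 7) rfl N24744 D83650
theorem N47361 : nd 47361 = n83652 := ndS (p := 24745) (l := 3) rfl N24745 D83652
theorem N47362 : nd 47362 = n83653 := ndS (p := 24745) (l := 5) rfl N24745 D83653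
theorem N47363 : nd 47363 = n83654 := ndS (p := 24745) (l := 6) rfl N24745 D83654
theorem N47364 : nd 47364 = n83656 := ndS (p := 24746) (l := 3) rfl N24746 D83656
theorem N47365 : nd 47365 = n83657 := ndS (p := 24746) (l := 4) rfl N24746 D83657
theorem N47366 : nd 47366 = n83658 := ndS (p := 24746) (l := 5) rfl N24746 D83658
theorem N47367 : nd 47367 = n83659 := ndS (p := 24746) (l := 6) rfl N24746 D83659
theorem N47368 : nd 47368 = n83660 := ndS (p := 24747) (l := 0) rfl N24747 D83660
theorem N47369 : nd 47369 = n83661 := ndS (p := 24747) (l := 1) rfl N24747 D83661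
theorem N47370 : nd 47370 = n83662 := ndS (p := 24747) (l := 4) rfl N24747 D83662
theorem N47371 : nd 47371 = n83663 := ndS (p := 24747) (l := 7) rfl N24747 D83663
theorem N47372 : nd 47372 = n83664 := ndS (p := 24749) (l := 4) rfl N24749 D83664
theorem N47373 : nd 47373 = n83665 := ndS (p := 24749) (l := 6) rfl N24749 D83665
theorem N47374 : nd 47374 = n83666 := ndS (p := 24750) (l := 0) rfl N24750 D83666
theorem N47375 : nd 47375 = n83667 := ndS (p := 24750) (l := 1) rfl N24750 D83667
theorem N47376 : nd 47376 = n83672 := ndS (p := 24751) (l := 5) rfl N24751 D83672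
theorem N47377 : nd 47377 = n83675 := ndS (p := 24753) (l := 0) rfl N24753 D83675
theorem N47378 : nd 47378 = n83676 := ndS (p := 24753) (l := 1) rfl N24753 D83676
theorem N47379 : nd 47379 = n83677 := ndS (p := 24753) (l := 5) rfl N24753 D83677
theorem N47380 : nd 47380 = n83680 := ndS (p := 24754) (l := 1) rfl N24754 D83680
theorem N47381 : nd 47381 = n83681 := ndS (p := 24754) (l := 6) rfl N24754 D83681
theorem N47382 : nd 47382 = n83683 := ndS (p := 24755) (l := 1) rfl N24755 D83683
theorem N47383 : nd 47383 = n83684 := ndS (p := 24755) (l := 5) rfl N24755 D83684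
theorem N47384 : nd 47384 = n83685 := ndS (p := 24755) (l := 7) rfl N24755 D83685
theorem N47385 : nd 47385 = n83688 := ndS (p := 24756) (l := 4) rfl N24756 D83688
theorem N47386 : nd 47386 = n83689 := ndS (p := 24756) (l := 5) rfl N24756 D83689
theorem N47387 : nd 47387 = n83692 := ndS (p := 24757) (l := 3) rfl N24757 D83692
theorem N47388 : nd 47388 = n83693 := ndS (p := 24757) (l := 4) rfl N24757 D83693
theorem N47389 : nd 47389 = n83694 := ndS (p := 24757) (l := 5) rfl N24757 D83694
theorem N47390 : nd 47390 = n83695 := ndS (p := 24757) (l := 6) rfl N24757 D83695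
theorem N47391 : nd 47391 = n83696 := ndS (p := 24758) (l := 0) rfl N24758 D83696
theorem N47392 : nd 47392 = n83697 := ndS (p := 24758) (l := 1) rfl N24758 D83697
theorem N47393 : nd 47393 = n83698 := ndS (p := 24758) (l := 4) rfl N24758 D83698
theorem N47394 : nd 47394 = n83699 := ndS (p := 24758) (l := 7) rfl N24758 D83699
theorem N47395 : nd 47395 = n83706 := ndS (p := 24760) (l := 0) rfl N24760 D83706
theorem N47396 : nd 47396 = n83710 := ndS (p := 24760) (l := 5) rfl N24760 D83710
theorem N47397 : nd 47397 = n83713 := ndS (p := 24761) (l := 0) rfl N24761 D83713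
theorem N47398 : nd 47398 = n83717 := ndS (p := 24761) (l := 6) rfl N24761 D83717
theorem N47399 : nd 47399 = n83719 := ndS (p := 24762) (l := 0) rfl N24762 D83719
theorem N47400 : nd 47400 = n83720 := ndS (p := 24762) (l := 1) rfl N24762 D83720
theorem N47401 : nd 47401 = n83721 := ndS (p := 24762) (l := 4) rfl N24762 D83721
theorem N47402 : nd 47402 = n83722 := ndS (p := 24762) (l := 6) rfl N24762 D83722
theorem N47403 : nd 47403 = n83730 := ndS (p := 24764) (l := 1) rfl N24764 D83730
theorem N47404 : nd 47404 = n83731 := ndS (p := 24764) (l := 2) rfl N24764 D83731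
theorem N47405 : nd 47405 = n83732 := ndS (p := 24764) (l := 4) rfl N24764 D83732
theorem N47406 : nd 47406 = n83733 := ndS (p := 24764) (l := 5) rfl N24764 D83733
theorem N47407 : nd 47407 = n83734 := ndS (p := 24764) (l := 6) rfl N24764 D83734
theorem N47408 : nd 47408 = n83735 := ndS (p := 24765) (l := 5) rfl N24765 D83735
theorem N47409 : nd 47409 = n83736 := ndS (p := 24765) (l := 6) rfl N24765 D83736
theorem N47410 : nd 47410 = n83737 := ndS (p := 24766) (l := 4) rfl N24766 D83737
theorem N47411 : nd 47411 = n83738 := ndS (p := 24766) (l := 6) rfl N24766 D83738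
theorem N47412 : nd 47412 = n83739 := ndS (p := 24767) (l := 0) rfl N24767 D83739
theorem N47413 : nd 47413 = n83741 := ndS (p := 24767) (l := 5) rfl N24767 D83741
theorem N47414 : nd 47414 = n83742 := ndS (p := 24767) (l := 7) rfl N24767 D83742
theorem N47415 : nd 47415 = n83744 := ndS (p := 24768) (l := 3) rfl N24768 D83744
theorem N47416 : nd 47416 = n83745 := ndS (p := 24768) (l := 4) rfl N24768 D83745
theorem N47417 : nd 47417 = n83746 := ndS (p := 24768) (l := 5) rfl N24768 D83746
theorem N47418 : nd 47418 = n83747 := ndS (p := 24768) (l := 6) rfl N24768 D83747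
theorem N47419 : nd 47419 = n83749 := ndS (p := 24769) (l := 3) rfl N24769 D83749
theorem N47420 : nd 47420 = n83750 := ndS (p := 24769) (l := 4) rfl N24769 D83750
theorem N47421 : nd 47421 = n83751 := ndS (p := 24769) (l := 5) rfl N24769 D83751
theorem N47422 : nd 47422 = n83752 := ndS (p := 24769) (l := 6) rfl N24769 D83752
theorem N47423 : nd 47423 = n83753 := ndS (p := 24770) (l := 0) rfl N24770 D83753
theorem N47424 : nd 47424 = n83754 := ndS (p := 24770) (l := 1) rfl N24770 D83754
theorem N47425 : nd 47425 = n83755 := ndS (p := 24770) (l := 3) rfl N24770 D83755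
theorem N47426 : nd 47426 = n83756 := ndS (p := 24770) (l := 5) rfl N24770 D83756
theorem N47427 : nd 47427 = n83757 := ndS (p := 24770) (l := 7) rfl N24770 D83757
theorem N47428 : nd 47428 = n83758 := ndS (p := 24771) (l := 6) rfl N24771 D83758
theorem N47429 : nd 47429 = n83759 := ndS (p := 24772) (l := 6) rfl N24772 D83759
theorem N47430 : nd 47430 = n83760 := ndS (p := 24773) (l := 0) rfl N24773 D83760
theorem N47431 : nd 47431 = n83761 := ndS (p := 24773) (l := 1) rfl N24773 D83761
theorem N47432 : nd 47432 = n83762 := ndS (p := 24773) (l := 5) rfl N24773 D83762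
theorem N47433 : nd 47433 = n83765 := ndS (p := 24774) (l := 3) rfl N24774 D83765
theorem N47434 : nd 47434 = n83767 := ndS (p := 24774) (l := 5) rfl N24774 D83767
theorem N47435 : nd 47435 = n83772 := ndS (p := 24775) (l := 5) rfl N24775 D83772
theorem N47436 : nd 47436 = n83773 := ndS (p := 24775) (l := 6) rfl N24775 D83773
theorem N47437 : nd 47437 = n83774 := ndS (p := 24776) (l := 0) rfl N24776 D83774
theorem N47438 : nd 47438 = n83775 := ndS (p := 24776) (l := 1) rfl N24776 D83775
theorem N47439 : nd 47439 = n83776 := ndS (p := 24776) (l := 4) rfl N24776 D83776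
theorem N47440 : nd 47440 = n83777 := ndS (p := 24776) (l := 7) rfl N24776 D83777
theorem N47441 : nd 47441 = n83781 := ndS (p := 24778) (l := 5) rfl N24778 D83781
theorem N47442 : nd 47442 = n83782 := ndS (p := 24778) (l := 6) rfl N24778 D83782
theorem N47443 : nd 47443 = n83784 := ndS (p := 24779) (l := 3) rfl N24779 D83784
theorem N47444 : nd 47444 = n83786 := ndS (p := 24779) (l := 5) rfl N24779 D83786
theorem N47445 : nd 47445 = n83788 := ndS (p := 24780) (l := 0) rfl N24780 D83788
theorem N47446 : nd 47446 = n83789 := ndS (p := 24780) (l := 1) rfl N24780 D83789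
theorem N47447 : nd 47447 = n83791 := ndS (p := 24780) (l := 7) rfl N24780 D83791
theorem N47448 : nd 47448 = n83792 := ndS (p := 24782) (l := 3) rfl N24782 D83792
theorem N47449 : nd 47449 = n83794 := ndS (p := 24783) (l := 6) rfl N24783 D83794
theorem N47450 : nd 47450 = n83795 := ndS (p := 24784) (l := 0) rfl N24784 D83795
theorem N47451 : nd 47451 = n83796 := ndS (p := 24784) (l := 1) rfl N24784 D83796
theorem N47452 : nd 47452 = n83797 := ndS (p := 24784) (l := 5) rfl N24784 D83797
theorem N47453 : nd 47453 = n83798 := ndS (p := 24784) (l := 7) rfl N24784 D83798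
theorem N47454 : nd 47454 = n83802 := ndS (p := 24785) (l := 5) rfl N24785 D83802
theorem N47455 : nd 47455 = n83805 := ndS (p := 24786) (l := 3) rfl N24786 D83805
theorem N47456 : nd 47456 = n83807 := ndS (p := 24786) (l := 5) rfl N24786 D83807
theorem N47457 : nd 47457 = n83808 := ndS (p := 24786) (l := 6) rfl N24786 D83808
theorem N47458 : nd 47458 = n83809 := ndS (p := 24787) (l := 0) rfl N24787 D83809
theorem N47459 : nd 47459 = n83810 := ndS (p := 24787) (l := 1) rfl N24787 D83810
theorem N47460 : nd 47460 = n83811 := ndS (p := 24787) (l := 4) rfl N24787 D83811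
theorem N47461 : nd 47461 = n83812 := ndS (p := 24787) (l := 7) rfl N24787 D83812
theorem N47462 : nd 47462 = n83826 := ndS (p := 24789) (l := 0) rfl N24789 D83826
theorem N47463 : nd 47463 = n83829 := ndS (p := 24789) (l := 5) rfl N24789 D83829
theorem N47464 : nd 47464 = n83832 := ndS (p := 24790) (l := 0) rfl N24790 D83832
theorem N47465 : nd 47465 = n83833 := ndS (p := 24790) (l := 1) rfl N24790 D83833
theorem N47466 : nd 47466 = n83849 := ndS (p := 24791) (l := 5) rfl N24791 D83849
theorem N47467 : nd 47467 = n83851 := ndS (p := 24792) (l := 4) rfl N24792 D83851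
theorem N47468 : nd 47468 = n83852 := ndS (p := 24792) (l := 6) rfl N24792 D83852
theorem N47469 : nd 47469 = n83855 := ndS (p := 24793) (l := 5) rfl N24793 D83855
theorem N47470 : nd 47470 = n83858 := ndS (p := 24794) (l := 3) rfl N24794 D83858
theorem N47471 : nd 47471 = n83859 := ndS (p := 24794) (l := 4) rfl N24794 D83859
theorem N47472 : nd 47472 = n83860 := ndS (p := 24794) (l := 5) rfl N24794 D83860
theorem N47473 : nd 47473 = n83861 := ndS (p := 24794) (l := 6) rfl N24794 D83861
theorem N47474 : nd 47474 = n83864 := ndS (p := 24795) (l := 4) rfl N24795 D83864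
theorem N47475 : nd 47475 = n83866 := ndS (p := 24795) (l := 6) rfl N24795 D83866
theorem N47476 : nd 47476 = n83867 := ndS (p := 24796) (l := 0) rfl N24796 D83867
theorem N47477 : nd 47477 = n83868 := ndS (p := 24796) (l := 1) rfl N24796 D83868
theorem N47478 : nd 47478 = n83869 := ndS (p := 24796) (l := 3) rfl N24796 D83869
theorem N47479 : nd 47479 = n83870 := ndS (p := 24796) (l := 5) rfl N24796 D83870
theorem N47480 : nd 47480 = n83871 := ndS (p := 24796) (l := 7) rfl N24796 D83871
theorem N47481 : nd 47481 = n83872 := ndS (p := 24797) (l := 6) rfl N24797 D83872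
theorem N47482 : nd 47482 = n83873 := ndS (p := 24798) (l := 5) rfl N24798 D83873
theorem N47483 : nd 47483 = n83875 := ndS (p := 24799) (l := 3) rfl N24799 D83875
theorem N47484 : nd 47484 = n83876 := ndS (p := 24799) (l := 4) rfl N24799 D83876
theorem N47485 : nd 47485 = n83877 := ndS (p := 24799) (l := 5) rfl N24799 D83877
theorem N47486 : nd 47486 = n83878 := ndS (p := 24799) (l := 6) rfl N24799 D83878
theorem N47487 : nd 47487 = n83882 := ndS (p := 24800) (l := 5) rfl N24800 D83882
theorem N47488 : nd 47488 = n83884 := ndS (p := 24801) (l := 0) rfl N24801 D83884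
theorem N47489 : nd 47489 = n83886 := ndS (p := 24801) (l := 4) rfl N24801 D83886
theorem N47490 : nd 47490 = n83889 := ndS (p := 24802) (l := 4) rfl N24802 D83889
theorem N47491 : nd 47491 = n83890 := ndS (p := 24802) (l := 5) rfl N24802 D83890
theorem N47492 : nd 47492 = n83897 := ndS (p := 24803) (l := 4) rfl N24803 D83897
theorem N47493 : nd 47493 = n83898 := ndS (p := 24803) (l := 5) rfl N24803 D83898
theorem N47494 : nd 47494 = n83900 := ndS (p := 24804) (l := 0) rfl N24804 D83900
theorem N47495 : nd 47495 = n83902 := ndS (p := 24804) (l := 5) rfl N24804 D83902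
theorem N47496 : nd 47496 = n83904 := ndS (p := 24805) (l := 0) rfl N24805 D83904
theorem N47497 : nd 47497 = n83905 := ndS (p := 24805) (l := 1) rfl N24805 D83905
theorem N47498 : nd 47498 = n83906 := ndS (p := 24805) (l := 4) rfl N24805 D83906
theorem N47499 : nd 47499 = n83907 := ndS (p := 24805) (l := 6) rfl N24805 D83907
theorem N47500 : nd 47500 = n83913 := ndS (p := 24808) (l := 3) rfl N24808 D83913
theorem N47501 : nd 47501 = n83914 := ndS (p := 24808) (l := 4) rfl N24808 D83914
theorem N47502 : nd 47502 = n83915 := ndS (p := 24808) (l := 6) rfl N24808 D83915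
theorem N47503 : nd 47503 = n83917 := ndS (p := 24809) (l := 4) rfl N24809 D83917
theorem N47504 : nd 47504 = n83918 := ndS (p := 24809) (l := 5) rfl N24809 D83918
theorem N47505 : nd 47505 = n83919 := ndS (p := 24809) (l := 6) rfl N24809 D83919
theorem N47506 : nd 47506 = n83920 := ndS (p := 24810) (l := 0) rfl N24810 D83920
theorem N47507 : nd 47507 = n83921 := ndS (p := 24810) (l := 1) rfl N24810 D83921
theorem N47508 : nd 47508 = n83925 := ndS (p := 24811) (l := 1) rfl N24811 D83925
theorem N47509 : nd 47509 = n83927 := ndS (p := 24811) (l := 7) rfl N24811 D83927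
theorem N47510 : nd 47510 = n83938 := ndS (p := 24813) (l := 5) rfl N24813 D83938
theorem N47511 : nd 47511 = n83941 := ndS (p := 24814) (l := 5) rfl N24814 D83941
theorem N47512 : nd 47512 = n83950 := ndS (p := 24815) (l := 6) rfl N24815 D83950
theorem N47513 : nd 47513 = n83955 := ndS (p := 24818) (l := 3) rfl N24818 D83955
theorem N47514 : nd 47514 = n83956 := ndS (p := 24818) (l := 6) rfl N24818 D83956
theorem N47515 : nd 47515 = n83957 := ndS (p := 24819) (l := 0) rfl N24819 D83957
theorem N47516 : nd 47516 = n83958 := ndS (p := 24819) (l := 1) rfl N24819 D83958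
theorem N47517 : nd 47517 = n83959 := ndS (p := 24819) (l := 5) rfl N24819 D83959
theorem N47518 : nd 47518 = n83960 := ndS (p := 24819) (l := 7) rfl N24819 D83960
theorem N47519 : nd 47519 = n83962 := ndS (p := 24821) (l := 4) rfl N24821 D83962
theorem N47520 : nd 47520 = n83966 := ndS (p := 24823) (l := 2) rfl N24823 D83966
theorem N47521 : nd 47521 = n83967 := ndS (p := 24823) (l := 4) rfl N24823 D83967
theorem N47522 : nd 47522 = n83969 := ndS (p := 24823) (l := 6) rfl N24823 D83969
theorem N47523 : nd 47523 = n83970 := ndS (p := 24824) (l := 0) rfl N24824 D83970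
theorem N47524 : nd 47524 = n83971 := ndS (p := 24824) (l := 1) rfl N24824 D83971
theorem N47525 : nd 47525 = n83973 := ndS (p := 24824) (l := 6) rfl N24824 D83973
theorem N47526 : nd 47526 = n83974 := ndS (p := 24825) (l := 0) rfl N24825 D83974
theorem N47527 : nd 47527 = n83975 := ndS (p := 24825) (l := 1) rfl N24825 D83975
theorem N47528 : nd 47528 = n83976 := ndS (p := 24825) (l := 5) rfl N24825 D83976
theorem N47529 : nd 47529 = n83977 := ndS (p := 24825) (l := 7) rfl N24825 D83977
theorem N47530 : nd 47530 = n83980 := ndS (p := 24826) (l := 2) rfl N24826 D83980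
theorem N47531 : nd 47531 = n83984 := ndS (p := 24827) (l := 3) rfl N24827 D83984
theorem N47532 : nd 47532 = n83988 := ndS (p := 24828) (l := 5) rfl N24828 D83988
theorem N47533 : nd 47533 = n83991 := ndS (p := 24829) (l := 3) rfl N24829 D83991
theorem N47534 : nd 47534 = n83992 := ndS (p := 24829) (l := 6) rfl N24829 D83992
theorem N47535 : nd 47535 = n83994 := ndS (p := 24830) (l := 3) rfl N24830 D83994
theorem N47536 : nd 47536 = n83999 := ndS (p := 24831) (l := 5) rfl N24831 D83999
theorem N47537 : nd 47537 = n84002 := ndS (p := 24833) (l := 6) rfl N24833 D84002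
theorem N47538 : nd 47538 = n84003 := ndS (p := 24834) (l := 0) rfl N24834 D84003
theorem N47539 : nd 47539 = n84004 := ndS (p := 24834) (l := 1) rfl N24834 D84004
theorem N47540 : nd 47540 = n84005 := ndS (p := 24834) (l := 5) rfl N24834 D84005
theorem N47541 : nd 47541 = n84010 := ndS (p := 24836) (l := 5) rfl N24836 D84010
theorem N47542 : nd 47542 = n84012 := ndS (p := 24837) (l := 0) rfl N24837 D84012
theorem N47543 : nd 47543 = n84013 := ndS (p := 24837) (l := 1) rfl N24837 D84013
theorem N47544 : nd 47544 = n84014 := ndS (p := 24837) (l := 4) rfl N24837 D84014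
theorem N47545 : nd 47545 = n84015 := ndS (p := 24837) (l := 6) rfl N24837 D84015
theorem N47546 : nd 47546 = n84023 := ndS (p := 24839) (l := 4) rfl N24839 D84023
theorem N47547 : nd 47547 = n84024 := ndS (p := 24839) (l := 6) rfl N24839 D84024
theorem N47548 : nd 47548 = n84027 := ndS (p := 24840) (l := 3) rfl N24840 D84027
theorem N47549 : nd 47549 = n84028 := ndS (p := 24840) (l := 4) rfl N24840 D84028
theorem N47550 : nd 47550 = n84029 := ndS (p := 24840) (l := 6) rfl N24840 D84029
theorem N47551 : nd 47551 = n84035 := ndS (p := 24842) (l := 3) rfl N24842 D84035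
theorem N47552 : nd 47552 = n84036 := ndS (p := 24842) (l := 5) rfl N24842 D84036
theorem N47553 : nd 47553 = n84062 := ndS (p := 24845) (l := 0) rfl N24845 D84062
theorem N47554 : nd 47554 = n84063 := ndS (p := 24845) (l := 1) rfl N24845 D84063
theorem N47555 : nd 47555 = n84064 := ndS (p := 24845) (l := 2) rfl N24845 D84064
theorem N47556 : nd 47556 = n84066 := ndS (p := 24845) (l := 5) rfl N24845 D84066
theorem N47557 : nd 47557 = n84067 := ndS (p := 24846) (l := 4) rfl N24846 D84067
theorem N47558 : nd 47558 = n84068 := ndS (p := 24846) (l := 6) rfl N24846 D84068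
theorem N47559 : nd 47559 = n84071 := ndS (p := 24847) (l := 4) rfl N24847 D84071
theorem N47560 : nd 47560 = n84072 := ndS (p := 24847) (l := 5) rfl N24847 D84072
theorem N47561 : nd 47561 = n84079 := ndS (p := 24848) (l := 5) rfl N24848 D84079
theorem N47562 : nd 47562 = n84082 := ndS (p := 24849) (l := 1) rfl N24849 D84082
theorem N47563 : nd 47563 = n84083 := ndS (p := 24849) (l := 4) rfl N24849 D84083
theorem N47564 : nd 47564 = n84084 := ndS (p := 24849) (l := 6) rfl N24849 D84084
theorem N47565 : nd 47565 = n84091 := ndS (p := 24850) (l := 3) rfl N24850 D84091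
theorem N47566 : nd 47566 = n84092 := ndS (p := 24850) (l := 4) rfl N24850 D84092
theorem N47567 : nd 47567 = n84094 := ndS (p := 24850) (l := 6) rfl N24850 D84094
theorem N47568 : nd 47568 = n84095 := ndS (p := 24851) (l := 3) rfl N24851 D84095
theorem N47569 : nd 47569 = n84098 := ndS (p := 24852) (l := 1) rfl N24852 D84098
theorem N47570 : nd 47570 = n84100 := ndS (p := 24852) (l := 7) rfl N24852 D84100
theorem N47571 : nd 47571 = n84104 := ndS (p := 24853) (l := 3) rfl N24853 D84104
theorem N47572 : nd 47572 = n84107 := ndS (p := 24854) (l := 3) rfl N24854 D84107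
theorem N47573 : nd 47573 = n84120 := ndS (p := 24858) (l := 3) rfl N24858 D84120
theorem N47574 : nd 47574 = n84125 := ndS (p := 24861) (l := 1) rfl N24861 D84125
theorem N47575 : nd 47575 = n84126 := ndS (p := 24861) (l := 2) rfl N24861 D84126
theorem N47576 : nd 47576 = n84128 := ndS (p := 24861) (l := 6) rfl N24861 D84128
theorem N47577 : nd 47577 = n84146 := ndS (p := 24864) (l := 3) rfl N24864 D84146
theorem N47578 : nd 47578 = n84147 := ndS (p := 24864) (l := 4) rfl N24864 D84147
theorem N47579 : nd 47579 = n84148 := ndS (p := 24864) (l := 5) rfl N24864 D84148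
theorem N47580 : nd 47580 = n84150 := ndS (p := 24865) (l := 5) rfl N24865 D84150
theorem N47581 : nd 47581 = n84151 := ndS (p := 24865) (l := 6) rfl N24865 D84151
theorem N47582 : nd 47582 = n84152 := ndS (p := 24866) (l := 0) rfl N24866 D84152
theorem N47583 : nd 47583 = n84153 := ndS (p := 24866) (l := 1) rfl N24866 D84153
theorem N47584 : nd 47584 = n84154 := ndS (p := 24866) (l := 4) rfl N24866 D84154
theorem N47585 : nd 47585 = n84155 := ndS (p := 24866) (l := 6) rfl N24866 D84155
theorem N47586 : nd 47586 = n84156 := ndS (p := 24867) (l := 0) rfl N24867 D84156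
theorem N47587 : nd 47587 = n84157 := ndS (p := 24867) (l := 1) rfl N24867 D84157
theorem N47588 : nd 47588 = n84158 := ndS (p := 24867) (l := 5) rfl N24867 D84158
theorem N47589 : nd 47589 = n84159 := ndS (p := 24867) (l := 7) rfl N24867 D84159
theorem N47590 : nd 47590 = n84160 := ndS (p := 24868) (l := 3) rfl N24868 D84160
theorem N47591 : nd 47591 = n84161 := ndS (p := 24868) (l := 6) rfl N24868 D84161
theorem N47592 : nd 47592 = n84164 := ndS (p := 24869) (l := 5) rfl N24869 D84164
theorem N47593 : nd 47593 = n84166 := ndS (p := 24870) (l := 3) rfl N24870 D84166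
theorem N47594 : nd 47594 = n84167 := ndS (p := 24871) (l := 4) rfl N24871 D84167
theorem N47595 : nd 47595 = n84169 := ndS (p := 24873) (l := 0) rfl N24873 D84169
theorem N47596 : nd 47596 = n84170 := ndS (p := 24873) (l := 1) rfl N24873 D84170
theorem N47597 : nd 47597 = n84173 := ndS (p := 24874) (l := 6) rfl N24874 D84173
theorem N47598 : nd 47598 = n84174 := ndS (p := 24875) (l := 3) rfl N24875 D84174
theorem N47599 : nd 47599 = n84175 := ndS (p := 24875) (l := 5) rfl N24875 D84175
theorem N47600 : nd 47600 = n84186 := ndS (p := 24876) (l := 5) rfl N24876 D84186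
theorem N47601 : nd 47601 = n84189 := ndS (p := 24877) (l := 1) rfl N24877 D84189
theorem N47602 : nd 47602 = n84190 := ndS (p := 24877) (l := 4) rfl N24877 D84190
theorem N47603 : nd 47603 = n84191 := ndS (p := 24877) (l := 6) rfl N24877 D84191
theorem N47604 : nd 47604 = n84193 := ndS (p := 24878) (l := 4) rfl N24878 D84193
theorem N47605 : nd 47605 = n84195 := ndS (p := 24879) (l := 1) rfl N24879 D84195
theorem N47606 : nd 47606 = n84197 := ndS (p := 24879) (l := 5) rfl N24879 D84197
theorem N47607 : nd 47607 = n84212 := ndS (p := 24880) (l := 5) rfl N24880 D84212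
theorem N47608 : nd 47608 = n84215 := ndS (p := 24881) (l := 6) rfl N24881 D84215
theorem N47609 : nd 47609 = n84218 := ndS (p := 24882) (l := 5) rfl N24882 D84218
theorem N47610 : nd 47610 = n84228 := ndS (p := 24883) (l := 6) rfl N24883 D84228
theorem N47611 : nd 47611 = n84231 := ndS (p := 24886) (l := 3) rfl N24886 D84231
theorem N47612 : nd 47612 = n84233 := ndS (p := 24887) (l := 3) rfl N24887 D84233
theorem N47613 : nd 47613 = n84234 := ndS (p := 24887) (l := 5) rfl N24887 D84234
theorem N47614 : nd 47614 = n84235 := ndS (p := 24887) (l := 6) rfl N24887 D84235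
theorem N47615 : nd 47615 = n84236 := ndS (p := 24888) (l := 3) rfl N24888 D84236
theorem N47616 : nd 47616 = n84237 := ndS (p := 24888) (l := 5) rfl N24888 D84237
theorem N47617 : nd 47617 = n84239 := ndS (p := 24889) (l := 0) rfl N24889 D84239
theorem N47618 : nd 47618 = n84241 := ndS (p := 24889) (l := 2) rfl N24889 D84241
theorem N47619 : nd 47619 = n84242 := ndS (p := 24889) (l := 5) rfl N24889 D84242
theorem N47620 : nd 47620 = n84243 := ndS (p := 24890) (l := 0) rfl N24890 D84243
theorem N47621 : nd 47621 = n84244 := ndS (p := 24890) (l := 1) rfl N24890 D84244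
theorem N47622 : nd 47622 = n84245 := ndS (p := 24890) (l := 4) rfl N24890 D84245
theorem N47623 : nd 47623 = n84246 := ndS (p := 24890) (l := 6) rfl N24890 D84246
theorem N47624 : nd 47624 = n84248 := ndS (p := 24892) (l := 3) rfl N24892 D84248
theorem N47625 : nd 47625 = n84250 := ndS (p := 24893) (l := 3) rfl N24893 D84250
theorem N47626 : nd 47626 = n84252 := ndS (p := 24893) (l := 6) rfl N24893 D84252
theorem N47627 : nd 47627 = n84253 := ndS (p := 24894) (l := 3) rfl N24894 D84253
theorem N47628 : nd 47628 = n84254 := ndS (p := 24894) (l := 5) rfl N24894 D84254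
theorem N47629 : nd 47629 = n84256 := ndS (p := 24895) (l := 0) rfl N24895 D84256
theorem N47630 : nd 47630 = n84257 := ndS (p := 24895) (l := 1) rfl N24895 D84257
theorem N47631 : nd 47631 = n84258 := ndS (p := 24895) (l := 2) rfl N24895 D84258
theorem N47632 : nd 47632 = n84259 := ndS (p := 24895) (l := 5) rfl N24895 D84259
theorem N47633 : nd 47633 = n84260 := ndS (p := 24896) (l := 6) rfl N24896 D84260
theorem N47634 : nd 47634 = n84272 := ndS (p := 24897) (l := 6) rfl N24897 D84272
theorem N47635 : nd 47635 = n84285 := ndS (p := 24898) (l := 6) rfl N24898 D84285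
theorem N47636 : nd 47636 = n84299 := ndS (p := 24899) (l := 0) rfl N24899 D84299
theorem N47637 : nd 47637 = n84300 := ndS (p := 24899) (l := 1) rfl N24899 D84300
theorem N47638 : nd 47638 = n84301 := ndS (p := 24899) (l := 2) rfl N24899 D84301
theorem N47639 : nd 47639 = n84302 := ndS (p := 24899) (l := 5) rfl N24899 D84302
theorem N47640 : nd 47640 = n84303 := ndS (p := 24899) (l := 6) rfl N24899 D84303
theorem N47641 : nd 47641 = n84304 := ndS (p := 24900) (l := 6) rfl N24900 D84304
theorem N47642 : nd 47642 = n84305 := ndS (p := 24901) (l := 5) rfl N24901 D84305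
theorem N47643 : nd 47643 = n84306 := ndS (p := 24901) (l := 7) rfl N24901 D84306
theorem N47644 : nd 47644 = n84307 := ndS (p := 24902) (l := 0) rfl N24902 D84307
theorem N47645 : nd 47645 = n84308 := ndS (p := 24902) (l := 1) rfl N24902 D84308
theorem N47646 : nd 47646 = n84309 := ndS (p := 24902) (l := 2) rfl N24902 D84309
theorem N47647 : nd 47647 = n84310 := ndS (p := 24902) (l := 5) rfl N24902 D84310
theorem N47648 : nd 47648 = n84312 := ndS (p := 24903) (l := 6) rfl N24903 D84312
theorem N47649 : nd 47649 = n84315 := ndS (p := 24904) (l := 5) rfl N24904 D84315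
theorem N47650 : nd 47650 = n84316 := ndS (p := 24904) (l := 7) rfl N24904 D84316
theorem N47651 : nd 47651 = n84318 := ndS (p := 24905) (l := 3) rfl N24905 D84318
theorem N47652 : nd 47652 = n84319 := ndS (p := 24905) (l := 4) rfl N24905 D84319
theorem N47653 : nd 47653 = n84320 := ndS (p := 24905) (l := 5) rfl N24905 D84320
theorem N47654 : nd 47654 = n84321 := ndS (p := 24905) (l := 6) rfl N24905 D84321
theorem N47655 : nd 47655 = n84323 := ndS (p := 24906) (l := 3) rfl N24906 D84323
theorem N47656 : nd 47656 = n84324 := ndS (p := 24906) (l := 5) rfl N24906 D84324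
theorem N47657 : nd 47657 = n84325 := ndS (p := 24906) (l := 6) rfl N24906 D84325
theorem N47658 : nd 47658 = n84326 := ndS (p := 24907) (l := 5) rfl N24907 D84326
theorem N47659 : nd 47659 = n84327 := ndS (p := 24908) (l := 0) rfl N24908 D84327
theorem N47660 : nd 47660 = n84328 := ndS (p := 24908) (l := 1) rfl N24908 D84328
theorem N47661 : nd 47661 = n84329 := ndS (p := 24908) (l := 4) rfl N24908 D84329
theorem N47662 : nd 47662 = n84330 := ndS (p := 24908) (l := 6) rfl N24908 D84330
theorem N47663 : nd 47663 = n84331 := ndS (p := 24909) (l := 3) rfl N24909 D84331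
theorem N47664 : nd 47664 = n84332 := ndS (p := 24909) (l := 6) rfl N24909 D84332
theorem N47665 : nd 47665 = n84333 := ndS (p := 24910) (l := 3) rfl N24910 D84333
theorem N47666 : nd 47666 = n84334 := ndS (p := 24910) (l := 6) rfl N24910 D84334
theorem N47667 : nd 47667 = n84335 := ndS (p := 24911) (l := 3) rfl N24911 D84335
theorem N47668 : nd 47668 = n84336 := ndS (p := 24911) (l := 6) rfl N24911 D84336
theorem N47669 : nd 47669 = n84337 := ndS (p := 24912) (l := 0) rfl N24912 D84337
theorem N47670 : nd 47670 = n84338 := ndS (p := 24912) (l := 1) rfl N24912 D84338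
theorem N47671 : nd 47671 = n84339 := ndS (p := 24912) (l := 7) rfl N24912 D84339
theorem N47672 : nd 47672 = n84340 := ndS (p := 24913) (l := 3) rfl N24913 D84340
theorem N47673 : nd 47673 = n84341 := ndS (p := 24913) (l := 6) rfl N24913 D84341
theorem N47674 : nd 47674 = n84344 := ndS (p := 24915) (l := 0) rfl N24915 D84344
theorem N47675 : nd 47675 = n84345 := ndS (p := 24915) (l := 1) rfl N24915 D84345
theorem N47676 : nd 47676 = n84346 := ndS (p := 24915) (l := 5) rfl N24915 D84346
theorem N47677 : nd 47677 = n84347 := ndS (p := 24915) (l := 7) rfl N24915 D84347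
theorem N47678 : nd 47678 = n84350 := ndS (p := 24917) (l := 5) rfl N24917 D84350
theorem N47679 : nd 47679 = n84354 := ndS (p := 24918) (l := 4) rfl N24918 D84354
theorem N47680 : nd 47680 = n84356 := ndS (p := 24920) (l := 3) rfl N24920 D84356
theorem N47681 : nd 47681 = n84359 := ndS (p := 24921) (l := 4) rfl N24921 D84359
theorem N47682 : nd 47682 = n84363 := ndS (p := 24923) (l := 4) rfl N24923 D84363
theorem N47683 : nd 47683 = n84365 := ndS (p := 24924) (l := 4) rfl N24924 D84365
theorem N47684 : nd 47684 = n84369 := ndS (p := 24925) (l := 3) rfl N24925 D84369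
theorem N47685 : nd 47685 = n84370 := ndS (p := 24925) (l := 5) rfl N24925 D84370
theorem N47686 : nd 47686 = n84373 := ndS (p := 24926) (l := 4) rfl N24926 D84373
theorem N47687 : nd 47687 = n84374 := ndS (p := 24926) (l := 5) rfl N24926 D84374
theorem N47688 : nd 47688 = n84375 := ndS (p := 24926) (l := 6) rfl N24926 D84375
theorem N47689 : nd 47689 = n84376 := ndS (p := 24927) (l := 3) rfl N24927 D84376
theorem N47690 : nd 47690 = n84377 := ndS (p := 24927) (l := 5) rfl N24927 D84377
theorem N47691 : nd 47691 = n84378 := ndS (p := 24927) (l := 6) rfl N24927 D84378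
theorem N47692 : nd 47692 = n84379 := ndS (p := 24928) (l := 6) rfl N24928 D84379
theorem N47693 : nd 47693 = n84380 := ndS (p := 24929) (l := 0) rfl N24929 D84380
theorem N47694 : nd 47694 = n84381 := ndS (p := 24929) (l := 1) rfl N24929 D84381
theorem N47695 : nd 47695 = n84382 := ndS (p := 24929) (l := 5) rfl N24929 D84382
theorem N47696 : nd 47696 = n84383 := ndS (p := 24929) (l := 7) rfl N24929 D84383
theorem N47697 : nd 47697 = n84384 := ndS (p := 24930) (l := 0) rfl N24930 D84384
theorem N47698 : nd 47698 = n84385 := ndS (p := 24930) (l := 4) rfl N24930 D84385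
theorem N47699 : nd 47699 = n84386 := ndS (p := 24930) (l := 7) rfl N24930 D84386
theorem N47700 : nd 47700 = n84388 := ndS (p := 24932) (l := 3) rfl N24932 D84388
theorem N47701 : nd 47701 = n84389 := ndS (p := 24932) (l := 4) rfl N24932 D84389
theorem N47702 : nd 47702 = n84390 := ndS (p := 24932) (l := 5) rfl N24932 D84390
theorem N47703 : nd 47703 = n84391 := ndS (p := 24932) (l := 6) rfl N24932 D84391
theorem N47704 : nd 47704 = n84393 := ndS (p := 24933) (l := 4) rfl N24933 D84393
theorem N47705 : nd 47705 = n84394 := ndS (p := 24933) (l := 5) rfl N24933 D84394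
theorem N47706 : nd 47706 = n84402 := ndS (p := 24935) (l := 2) rfl N24935 D84402
theorem N47707 : nd 47707 = n84408 := ndS (p := 24936) (l := 6) rfl N24936 D84408
theorem N47708 : nd 47708 = n84410 := ndS (p := 24937) (l := 1) rfl N24937 D84410
theorem N47709 : nd 47709 = n84411 := ndS (p := 24937) (l := 5) rfl N24937 D84411
theorem N47710 : nd 47710 = n84414 := ndS (p := 24938) (l := 3) rfl N24938 D84414
theorem N47711 : nd 47711 = n84415 := ndS (p := 24938) (l := 4) rfl N24938 D84415
theorem N47712 : nd 47712 = n84416 := ndS (p := 24938) (l := 5) rfl N24938 D84416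
theorem N47713 : nd 47713 = n84419 := ndS (p := 24939) (l := 3) rfl N24939 D84419
theorem N47714 : nd 47714 = n84420 := ndS (p := 24939) (l := 4) rfl N24939 D84420
theorem N47715 : nd 47715 = n84421 := ndS (p := 24939) (l := 5) rfl N24939 D84421
theorem N47716 : nd 47716 = n84422 := ndS (p := 24939) (l := 6) rfl N24939 D84422
theorem N47717 : nd 47717 = n84423 := ndS (p := 24940) (l := 0) rfl N24940 D84423
theorem N47718 : nd 47718 = n84425 := ndS (p := 24940) (l := 4) rfl N24940 D84425
theorem N47719 : nd 47719 = n84426 := ndS (p := 24940) (l := 7) rfl N24940 D84426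
theorem N47720 : nd 47720 = n84427 := ndS (p := 24942) (l := 0) rfl N24942 D84427
theorem N47721 : nd 47721 = n84429 := ndS (p := 24942) (l := 2) rfl N24942 D84429
theorem N47722 : nd 47722 = n84430 := ndS (p := 24942) (l := 5) rfl N24942 D84430
theorem N47723 : nd 47723 = n84431 := ndS (p := 24942) (l := 6) rfl N24942 D84431
theorem N47724 : nd 47724 = n84432 := ndS (p := 24943) (l := 5) rfl N24943 D84432
theorem N47725 : nd 47725 = n84434 := ndS (p := 24944) (l := 0) rfl N24944 D84434
theorem N47726 : nd 47726 = n84435 := ndS (p := 24944) (l := 1) rfl N24944 D84435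
theorem N47727 : nd 47727 = n84436 := ndS (p := 24944) (l := 4) rfl N24944 D84436
theorem N47728 : nd 47728 = n84439 := ndS (p := 24946) (l := 1) rfl N24946 D84439
theorem N47729 : nd 47729 = n84440 := ndS (p := 24946) (l := 2) rfl N24946 D84440
theorem N47730 : nd 47730 = n84446 := ndS (p := 24947) (l := 4) rfl N24947 D84446
theorem N47731 : nd 47731 = n84452 := ndS (p := 24948) (l := 3) rfl N24948 D84452
theorem N47732 : nd 47732 = n84453 := ndS (p := 24948) (l := 4) rfl N24948 D84453
theorem N47733 : nd 47733 = n84460 := ndS (p := 24949) (l := 1) rfl N24949 D84460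
theorem N47734 : nd 47734 = n84461 := ndS (p := 24949) (l := 3) rfl N24949 D84461
theorem N47735 : nd 47735 = n84462 := ndS (p := 24949) (l := 5) rfl N24949 D84462
theorem N47736 : nd 47736 = n84463 := ndS (p := 24949) (l := 7) rfl N24949 D84463
theorem N47737 : nd 47737 = n84464 := ndS (p := 24950) (l := 6) rfl N24950 D84464
theorem N47738 : nd 47738 = n84469 := ndS (p := 24952) (l := 0) rfl N24952 D84469
theorem N47739 : nd 47739 = n84471 := ndS (p := 24952) (l := 2) rfl N24952 D84471
theorem N47740 : nd 47740 = n84473 := ndS (p := 24952) (l := 6) rfl N24952 D84473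
theorem N47741 : nd 47741 = n84480 := ndS (p := 24954) (l := 4) rfl N24954 D84480
theorem N47742 : nd 47742 = n84481 := ndS (p := 24955) (l := 4) rfl N24955 D84481
theorem N47743 : nd 47743 = n84485 := ndS (p := 24956) (l := 5) rfl N24956 D84485
theorem N47744 : nd 47744 = n84486 := ndS (p := 24956) (l := 6) rfl N24956 D84486
theorem N47745 : nd 47745 = n84492 := ndS (p := 24959) (l := 4) rfl N24959 D84492
theorem N47746 : nd 47746 = n84499 := ndS (p := 24960) (l := 1) rfl N24960 D84499
theorem N47747 : nd 47747 = n84500 := ndS (p := 24960) (l := 2) rfl N24960 D84500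
theorem N47748 : nd 47748 = n84501 := ndS (p := 24960) (l := 5) rfl N24960 D84501
theorem N47749 : nd 47749 = n84503 := ndS (p := 24961) (l := 4) rfl N24961 D84503
theorem N47750 : nd 47750 = n84508 := ndS (p := 24962) (l := 3) rfl N24962 D84508
theorem N47751 : nd 47751 = n84509 := ndS (p := 24962) (l := 5) rfl N24962 D84509
theorem N47752 : nd 47752 = n84515 := ndS (p := 24963) (l := 1) rfl N24963 D84515
theorem N47753 : nd 47753 = n84517 := ndS (p := 24963) (l := 5) rfl N24963 D84517
theorem N47754 : nd 47754 = n84518 := ndS (p := 24963) (l := 6) rfl N24963 D84518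
theorem N47755 : nd 47755 = n84521 := ndS (p := 24965) (l := 0) rfl N24965 D84521
theorem N47756 : nd 47756 = n84524 := ndS (p := 24966) (l := 3) rfl N24966 D84524
theorem N47757 : nd 47757 = n84525 := ndS (p := 24966) (l := 5) rfl N24966 D84525
theorem N47758 : nd 47758 = n84531 := ndS (p := 24968) (l := 3) rfl N24968 D84531
theorem N47759 : nd 47759 = n84533 := ndS (p := 24968) (l := 5) rfl N24968 D84533
theorem N47760 : nd 47760 = n84534 := ndS (p := 24968) (l := 6) rfl N24968 D84534
theorem N47761 : nd 47761 = n84538 := ndS (p := 24969) (l := 0) rfl N24969 D84538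
theorem N47762 : nd 47762 = n84539 := ndS (p := 24969) (l := 1) rfl N24969 D84539
theorem N47763 : nd 47763 = n84540 := ndS (p := 24969) (l := 2) rfl N24969 D84540
theorem N47764 : nd 47764 = n84541 := ndS (p := 24969) (l := 5) rfl N24969 D84541
theorem N47765 : nd 47765 = n84542 := ndS (p := 24969) (l := 7) rfl N24969 D84542
theorem N47766 : nd 47766 = n84543 := ndS (p := 24970) (l := 0) rfl N24970 D84543
theorem N47767 : nd 47767 = n84544 := ndS (p := 24970) (l := 1) rfl N24970 D84544
theorem N47768 : nd 47768 = n84545 := ndS (p := 24970) (l := 4) rfl N24970 D84545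
theorem N47769 : nd 47769 = n84546 := ndS (p := 24970) (l := 6) rfl N24970 D84546
theorem N47770 : nd 47770 = n84547 := ndS (p := 24970) (l := 7) rfl N24970 D84547
theorem N47771 : nd 47771 = n84553 := ndS (p := 24972) (l := 4) rfl N24972 D84553
theorem N47772 : nd 47772 = n84554 := ndS (p := 24972) (l := 6) rfl N24972 D84554
theorem N47773 : nd 47773 = n84555 := ndS (p := 24973) (l := 5) rfl N24973 D84555
theorem N47774 : nd 47774 = n84559 := ndS (p := 24974) (l := 0) rfl N24974 D84559
theorem N47775 : nd 47775 = n84560 := ndS (p := 24974) (l := 1) rfl N24974 D84560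
theorem N47776 : nd 47776 = n84561 := ndS (p := 24974) (l := 3) rfl N24974 D84561
theorem N47777 : nd 47777 = n84563 := ndS (p := 24974) (l := 6) rfl N24974 D84563
theorem N47778 : nd 47778 = n84564 := ndS (p := 24976) (l := 3) rfl N24976 D84564
theorem N47779 : nd 47779 = n84565 := ndS (p := 24977) (l := 0) rfl N24977 D84565
theorem N47780 : nd 47780 = n84566 := ndS (p := 24977) (l := 1) rfl N24977 D84566
theorem N47781 : nd 47781 = n84567 := ndS (p := 24977) (l := 2) rfl N24977 D84567
theorem N47782 : nd 47782 = n84570 := ndS (p := 24978) (l := 0) rfl N24978 D84570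
theorem N47783 : nd 47783 = n84571 := ndS (p := 24978) (l := 1) rfl N24978 D84571
theorem N47784 : nd 47784 = n84572 := ndS (p := 24978) (l := 2) rfl N24978 D84572
theorem N47785 : nd 47785 = n84573 := ndS (p := 24980) (l := 3) rfl N24980 D84573
theorem N47786 : nd 47786 = n84576 := ndS (p := 24981) (l := 5) rfl N24981 D84576
theorem N47787 : nd 47787 = n84579 := ndS (p := 24982) (l := 0) rfl N24982 D84579
theorem N47788 : nd 47788 = n84581 := ndS (p := 24982) (l := 2) rfl N24982 D84581
theorem N47789 : nd 47789 = n84582 := ndS (p := 24982) (l := 4) rfl N24982 D84582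
theorem N47790 : nd 47790 = n84583 := ndS (p := 24982) (l := 5) rfl N24982 D84583
theorem N47791 : nd 47791 = n84588 := ndS (p := 24984) (l := 4) rfl N24984 D84588
theorem N47792 : nd 47792 = n84589 := ndS (p := 24984) (l := 5) rfl N24984 D84589
theorem N47793 : nd 47793 = n84593 := ndS (p := 24986) (l := 0) rfl N24986 D84593
theorem N47794 : nd 47794 = n84594 := ndS (p := 24986) (l := 2) rfl N24986 D84594
theorem N47795 : nd 47795 = n84595 := ndS (p := 24986) (l := 3) rfl N24986 D84595
theorem N47796 : nd 47796 = n84596 := ndS (p := 24986) (l := 4) rfl N24986 D84596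
theorem N47797 : nd 47797 = n84597 := ndS (p := 24986) (l := 5) rfl N24986 D84597
theorem N47798 : nd 47798 = n84598 := ndS (p := 24986) (l := 6) rfl N24986 D84598
theorem N47799 : nd 47799 = n84599 := ndS (p := 24986) (l := 7) rfl N24986 D84599
theorem N47800 : nd 47800 = n84600 := ndS (p := 24987) (l := 3) rfl N24987 D84600
theorem N47801 : nd 47801 = n84601 := ndS (p := 24987) (l := 4) rfl N24987 D84601
theorem N47802 : nd 47802 = n84602 := ndS (p := 24987) (l := 5) rfl N24987 D84602
theorem N47803 : nd 47803 = n84603 := ndS (p := 24987) (l := 6) rfl N24987 D84603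
theorem N47804 : nd 47804 = n84606 := ndS (p := 24988) (l := 5) rfl N24988 D84606
theorem N47805 : nd 47805 = n84607 := ndS (p := 24989) (l := 0) rfl N24989 D84607
theorem N47806 : nd 47806 = n84608 := ndS (p := 24989) (l := 1) rfl N24989 D84608
theorem N47807 : nd 47807 = n84609 := ndS (p := 24989) (l := 4) rfl N24989 D84609
theorem N47808 : nd 47808 = n84610 := ndS (p := 24989) (l := 6) rfl N24989 D84610
theorem N47809 : nd 47809 = n84611 := ndS (p := 24989) (l := 7) rfl N24989 D84611
theorem N47810 : nd 47810 = n84612 := ndS (p := 24990) (l := 6) rfl N24990 D84612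
theorem N47811 : nd 47811 = n84613 := ndS (p := 24991) (l := 3) rfl N24991 D84613
theorem N47812 : nd 47812 = n84617 := ndS (p := 24992) (l := 3) rfl N24992 D84617
theorem N47813 : nd 47813 = n84619 := ndS (p := 24993) (l := 0) rfl N24993 D84619
theorem N47814 : nd 47814 = n84621 := ndS (p := 24993) (l := 7) rfl N24993 D84621
theorem N47815 : nd 47815 = n84622 := ndS (p := 24994) (l := 6) rfl N24994 D84622
theorem N47816 : nd 47816 = n84625 := ndS (p := 24997) (l := 3) rfl N24997 D84625
theorem N47817 : nd 47817 = n84626 := ndS (p := 24997) (l := 6) rfl N24997 D84626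
theorem N47818 : nd 47818 = n84627 := ndS (p := 24998) (l := 6) rfl N24998 D84627
theorem N47819 : nd 47819 = n84629 := ndS (p := 24999) (l := 1) rfl N24999 D84629
theorem N47820 : nd 47820 = n84630 := ndS (p := 24999) (l := 5) rfl N24999 D84630
theorem N47821 : nd 47821 = n84633 := ndS (p := 25000) (l := 1) rfl N25000 D84633
theorem N47822 : nd 47822 = n84634 := ndS (p := 25000) (l := 5) rfl N25000 D84634
theorem N47823 : nd 47823 = n84640 := ndS (p := 25001) (l := 5) rfl N25001 D84640
theorem N47824 : nd 47824 = n84642 := ndS (p := 25002) (l := 0) rfl N25002 D84642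
theorem N47825 : nd 47825 = n84643 := ndS (p := 25002) (l := 1) rfl N25002 D84643
theorem N47826 : nd 47826 = n84644 := ndS (p := 25002) (l := 4) rfl N25002 D84644
theorem N47827 : nd 47827 = n84652 := ndS (p := 25003) (l := 4) rfl N25003 D84652
theorem N47828 : nd 47828 = n84653 := ndS (p := 25003) (l := 5) rfl N25003 D84653
theorem N47829 : nd 47829 = n84656 := ndS (p := 25004) (l := 0) rfl N25004 D84656
theorem N47830 : nd 47830 = n84657 := ndS (p := 25004) (l := 1) rfl N25004 D84657
theorem N47831 : nd 47831 = n84658 := ndS (p := 25004) (l := 3) rfl N25004 D84658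
theorem N47832 : nd 47832 = n84659 := ndS (p := 25004) (l := 5) rfl N25004 D84659
theorem N47833 : nd 47833 = n84661 := ndS (p := 25005) (l := 4) rfl N25005 D84661
theorem N47834 : nd 47834 = n84662 := ndS (p := 25005) (l := 6) rfl N25005 D84662
theorem N47835 : nd 47835 = n84663 := ndS (p := 25006) (l := 3) rfl N25006 D84663
theorem N47836 : nd 47836 = n84664 := ndS (p := 25006) (l := 4) rfl N25006 D84664
theorem N47837 : nd 47837 = n84666 := ndS (p := 25007) (l := 0) rfl N25007 D84666
theorem N47838 : nd 47838 = n84667 := ndS (p := 25007) (l := 1) rfl N25007 D84667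
theorem N47839 : nd 47839 = n84668 := ndS (p := 25007) (l := 5) rfl N25007 D84668
theorem N47840 : nd 47840 = n84670 := ndS (p := 25008) (l := 4) rfl N25008 D84670
theorem N47841 : nd 47841 = n84679 := ndS (p := 25011) (l := 3) rfl N25011 D84679
theorem N47842 : nd 47842 = n84680 := ndS (p := 25011) (l := 4) rfl N25011 D84680
theorem N47843 : nd 47843 = n84681 := ndS (p := 25011) (l := 5) rfl N25011 D84681
theorem N47844 : nd 47844 = n84682 := ndS (p := 25011) (l := 6) rfl N25011 D84682
theorem N47845 : nd 47845 = n84686 := ndS (p := 25012) (l := 5) rfl N25012 D84686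
theorem N47846 : nd 47846 = n84688 := ndS (p := 25013) (l := 0) rfl N25013 D84688
theorem N47847 : nd 47847 = n84689 := ndS (p := 25013) (l := 1) rfl N25013 D84689
theorem N47848 : nd 47848 = n84690 := ndS (p := 25013) (l := 4) rfl N25013 D84690
theorem N47849 : nd 47849 = n84691 := ndS (p := 25013) (l := 7) rfl N25013 D84691
theorem N47850 : nd 47850 = n84695 := ndS (p := 25015) (l := 5) rfl N25015 D84695
theorem N47851 : nd 47851 = n84700 := ndS (p := 25016) (l := 0) rfl N25016 D84700
theorem N47852 : nd 47852 = n84701 := ndS (p := 25016) (l := 1) rfl N25016 D84701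
theorem N47853 : nd 47853 = n84702 := ndS (p := 25016) (l := 4) rfl N25016 D84702
theorem N47854 : nd 47854 = n84703 := ndS (p := 25016) (l := 6) rfl N25016 D84703
theorem N47855 : nd 47855 = n84712 := ndS (p := 25018) (l := 4) rfl N25018 D84712
theorem N47856 : nd 47856 = n84713 := ndS (p := 25018) (l := 6) rfl N25018 D84713
theorem N47857 : nd 47857 = n84715 := ndS (p := 25019) (l := 3) rfl N25019 D84715
theorem N47858 : nd 47858 = n84716 := ndS (p := 25019) (l := 4) rfl N25019 D84716
theorem N47859 : nd 47859 = n84717 := ndS (p := 25019) (l := 5) rfl N25019 D84717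
theorem N47860 : nd 47860 = n84718 := ndS (p := 25019) (l := 6) rfl N25019 D84718
theorem N47861 : nd 47861 = n84719 := ndS (p := 25020) (l := 3) rfl N25020 D84719
theorem N47862 : nd 47862 = n84720 := ndS (p := 25020) (l := 4) rfl N25020 D84720
theorem N47863 : nd 47863 = n84721 := ndS (p := 25020) (l := 6) rfl N25020 D84721
theorem N47864 : nd 47864 = n84722 := ndS (p := 25021) (l := 0) rfl N25021 D84722
theorem N47865 : nd 47865 = n84723 := ndS (p := 25021) (l := 1) rfl N25021 D84723
theorem N47866 : nd 47866 = n84724 := ndS (p := 25021) (l := 3) rfl N25021 D84724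
theorem N47867 : nd 47867 = n84725 := ndS (p := 25021) (l := 5) rfl N25021 D84725
theorem N47868 : nd 47868 = n84726 := ndS (p := 25021) (l := 7) rfl N25021 D84726
theorem N47869 : nd 47869 = n84727 := ndS (p := 25022) (l := 6) rfl N25022 D84727
theorem N47870 : nd 47870 = n84763 := ndS (p := 25023) (l := 5) rfl N25023 D84763
theorem N47871 : nd 47871 = n84765 := ndS (p := 25024) (l := 4) rfl N25024 D84765
theorem N47872 : nd 47872 = n84766 := ndS (p := 25024) (l := 6) rfl N25024 D84766
theorem N47873 : nd 47873 = n84769 := ndS (p := 25025) (l := 3) rfl N25025 D84769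
theorem N47874 : nd 47874 = n84770 := ndS (p := 25025) (l := 5) rfl N25025 D84770
theorem N47875 : nd 47875 = n84771 := ndS (p := 25025) (l := 6) rfl N25025 D84771
theorem N47876 : nd 47876 = n84775 := ndS (p := 25027) (l := 0) rfl N25027 D84775
theorem N47877 : nd 47877 = n84776 := ndS (p := 25027) (l := 1) rfl N25027 D84776
theorem N47878 : nd 47878 = n84777 := ndS (p := 25027) (l := 3) rfl N25027 D84777
theorem N47879 : nd 47879 = n84778 := ndS (p := 25027) (l := 5) rfl N25027 D84778
theorem N47880 : nd 47880 = n84779 := ndS (p := 25027) (l := 6) rfl N25027 D84779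
theorem N47881 : nd 47881 = n84781 := ndS (p := 25028) (l := 4) rfl N25028 D84781
theorem N47882 : nd 47882 = n84787 := ndS (p := 25030) (l := 3) rfl N25030 D84787
theorem N47883 : nd 47883 = n84788 := ndS (p := 25030) (l := 5) rfl N25030 D84788
theorem N47884 : nd 47884 = n84790 := ndS (p := 25031) (l := 4) rfl N25031 D84790
theorem N47885 : nd 47885 = n84791 := ndS (p := 25032) (l := 3) rfl N25032 D84791
theorem N47886 : nd 47886 = n84792 := ndS (p := 25032) (l := 4) rfl N25032 D84792
theorem N47887 : nd 47887 = n84793 := ndS (p := 25032) (l := 5) rfl N25032 D84793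
theorem N47888 : nd 47888 = n84794 := ndS (p := 25032) (l := 6) rfl N25032 D84794
theorem N47889 : nd 47889 = n84796 := ndS (p := 25033) (l := 5) rfl N25033 D84796
theorem N47890 : nd 47890 = n84797 := ndS (p := 25033) (l := 6) rfl N25033 D84797
theorem N47891 : nd 47891 = n84798 := ndS (p := 25034) (l := 0) rfl N25034 D84798
theorem N47892 : nd 47892 = n84799 := ndS (p := 25034) (l := 1) rfl N25034 D84799
theorem N47893 : nd 47893 = n84800 := ndS (p := 25034) (l := 2) rfl N25034 D84800
theorem N47894 : nd 47894 = n84801 := ndS (p := 25034) (l := 5) rfl N25034 D84801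
theorem N47895 : nd 47895 = n84802 := ndS (p := 25034) (l := 7) rfl N25034 D84802
theorem N47896 : nd 47896 = n84803 := ndS (p := 25035) (l := 0) rfl N25035 D84803
theorem N47897 : nd 47897 = n84804 := ndS (p := 25035) (l := 1) rfl N25035 D84804
theorem N47898 : nd 47898 = n84805 := ndS (p := 25035) (l := 4) rfl N25035 D84805
theorem N47899 : nd 47899 = n84806 := ndS (p := 25035) (l := 6) rfl N25035 D84806
theorem N47900 : nd 47900 = n84807 := ndS (p := 25035) (l := 7) rfl N25035 D84807
theorem N47901 : nd 47901 = n84810 := ndS (p := 25039) (l := 3) rfl N25039 D84810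
theorem N47902 : nd 47902 = n84811 := ndS (p := 25040) (l := 3) rfl N25040 D84811
theorem N47903 : nd 47903 = n84812 := ndS (p := 25041) (l := 0) rfl N25041 D84812
theorem N47904 : nd 47904 = n84813 := ndS (p := 25041) (l := 1) rfl N25041 D84813
theorem N47905 : nd 47905 = n84814 := ndS (p := 25041) (l := 2) rfl N25041 D84814
theorem N47906 : nd 47906 = n84828 := ndS (p := 25042) (l := 3) rfl N25042 D84828
theorem N47907 : nd 47907 = n84829 := ndS (p := 25042) (l := 5) rfl N25042 D84829
theorem N47908 : nd 47908 = n84830 := ndS (p := 25043) (l := 0) rfl N25043 D84830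
theorem N47909 : nd 47909 = n84831 := ndS (p := 25043) (l := 1) rfl N25043 D84831
theorem N47910 : nd 47910 = n84832 := ndS (p := 25043) (l := 2) rfl N25043 D84832
theorem N47911 : nd 47911 = n84833 := ndS (p := 25044) (l := 1) rfl N25044 D84833
theorem N47912 : nd 47912 = n84834 := ndS (p := 25044) (l := 5) rfl N25044 D84834
theorem N47913 : nd 47913 = n84836 := ndS (p := 25045) (l := 0) rfl N25045 D84836
theorem N47914 : nd 47914 = n84837 := ndS (p := 25045) (l := 1) rfl N25045 D84837
theorem N47915 : nd 47915 = n84840 := ndS (p := 25045) (l := 5) rfl N25045 D84840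
theorem N47916 : nd 47916 = n84846 := ndS (p := 25048) (l := 1) rfl N25048 D84846
theorem N47917 : nd 47917 = n84847 := ndS (p := 25048) (l := 2) rfl N25048 D84847
theorem N47918 : nd 47918 = n84848 := ndS (p := 25048) (l := 4) rfl N25048 D84848
theorem N47919 : nd 47919 = n84849 := ndS (p := 25048) (l := 5) rfl N25048 D84849
theorem N47920 : nd 47920 = n84850 := ndS (p := 25048) (l := 6) rfl N25048 D84850
theorem N47921 : nd 47921 = n84851 := ndS (p := 25049) (l := 6) rfl N25049 D84851
theorem N47922 : nd 47922 = n84853 := ndS (p := 25051) (l := 0) rfl N25051 D84853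
theorem N47923 : nd 47923 = n84854 := ndS (p := 25051) (l := 2) rfl N25051 D84854
theorem N47924 : nd 47924 = n84856 := ndS (p := 25051) (l := 4) rfl N25051 D84856
theorem N47925 : nd 47925 = n84857 := ndS (p := 25051) (l := 5) rfl N25051 D84857
theorem N47926 : nd 47926 = n84859 := ndS (p := 25051) (l := 7) rfl N25051 D84859
theorem N47927 : nd 47927 = n84860 := ndS (p := 25052) (l := 3) rfl N25052 D84860
theorem N47928 : nd 47928 = n84861 := ndS (p := 25052) (l := 4) rfl N25052 D84861
theorem N47929 : nd 47929 = n84862 := ndS (p := 25052) (l := 5) rfl N25052 D84862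
theorem N47930 : nd 47930 = n84866 := ndS (p := 25053) (l := 5) rfl N25053 D84866
theorem N47931 : nd 47931 = n84867 := ndS (p := 25054) (l := 0) rfl N25054 D84867
theorem N47932 : nd 47932 = n84868 := ndS (p := 25054) (l := 1) rfl N25054 D84868
theorem N47933 : nd 47933 = n84869 := ndS (p := 25054) (l := 4) rfl N25054 D84869
theorem N47934 : nd 47934 = n84870 := ndS (p := 25054) (l := 6) rfl N25054 D84870
theorem N47935 : nd 47935 = n84871 := ndS (p := 25054) (l := 7) rfl N25054 D84871
theorem N47936 : nd 47936 = n84872 := ndS (p := 25055) (l := 6) rfl N25055 D84872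
theorem N47937 : nd 47937 = n84873 := ndS (p := 25056) (l := 3) rfl N25056 D84873
theorem N47938 : nd 47938 = n84880 := ndS (p := 25059) (l := 6) rfl N25059 D84880
theorem N47939 : nd 47939 = n84881 := ndS (p := 25061) (l := 6) rfl N25061 D84881
theorem N47940 : nd 47940 = n84889 := ndS (p := 25064) (l := 5) rfl N25064 D84889
theorem N47941 : nd 47941 = n84890 := ndS (p := 25064) (l := 6) rfl N25064 D84890
theorem N47942 : nd 47942 = n84894 := ndS (p := 25065) (l := 6) rfl N25065 D84894
theorem N47943 : nd 47943 = n84895 := ndS (p := 25067) (l := 6) rfl N25067 D84895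
theorem N47944 : nd 47944 = n84898 := ndS (p := 25068) (l := 5) rfl N25068 D84898
theorem N47945 : nd 47945 = n84900 := ndS (p := 25069) (l := 6) rfl N25069 D84900
theorem N47946 : nd 47946 = n84903 := ndS (p := 25070) (l := 5) rfl N25070 D84903
theorem N47947 : nd 47947 = n84907 := ndS (p := 25072) (l := 6) rfl N25072 D84907
theorem N47948 : nd 47948 = n84908 := ndS (p := 25073) (l := 0) rfl N25073 D84908
theorem N47949 : nd 47949 = n84909 := ndS (p := 25073) (l := 1) rfl N25073 D84909
theorem N47950 : nd 47950 = n84911 := ndS (p := 25073) (l := 7) rfl N25073 D84911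
theorem N47951 : nd 47951 = n84913 := ndS (p := 25074) (l := 3) rfl N25074 D84913
theorem N47952 : nd 47952 = n84914 := ndS (p := 25074) (l := 4) rfl N25074 D84914
theorem N47953 : nd 47953 = n84916 := ndS (p := 25074) (l := 6) rfl N25074 D84916
theorem N47954 : nd 47954 = n84919 := ndS (p := 25075) (l := 4) rfl N25075 D84919
theorem N47955 : nd 47955 = n84921 := ndS (p := 25075) (l := 6) rfl N25075 D84921
theorem N47956 : nd 47956 = n84922 := ndS (p := 25076) (l := 0) rfl N25076 D84922
theorem N47957 : nd 47957 = n84928 := ndS (p := 25078) (l := 4) rfl N25078 D84928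
theorem N47958 : nd 47958 = n84930 := ndS (p := 25079) (l := 1) rfl N25079 D84930
theorem N47959 : nd 47959 = n84931 := ndS (p := 25079) (l := 7) rfl N25079 D84931
theorem N47960 : nd 47960 = n84932 := ndS (p := 25080) (l := 4) rfl N25080 D84932
theorem N47961 : nd 47961 = n84933 := ndS (p := 25080) (l := 6) rfl N25080 D84933
theorem N47962 : nd 47962 = n84936 := ndS (p := 25081) (l := 5) rfl N25081 D84936
theorem N47963 : nd 47963 = n84940 := ndS (p := 25083) (l := 1) rfl N25083 D84940
theorem N47964 : nd 47964 = n84941 := ndS (p := 25083) (l := 5) rfl N25083 D84941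
theorem N47965 : nd 47965 = n84942 := ndS (p := 25083) (l := 7) rfl N25083 D84942
theorem N47966 : nd 47966 = n84945 := ndS (p := 25084) (l := 4) rfl N25084 D84945
theorem N47967 : nd 47967 = n84946 := ndS (p := 25084) (l := 5) rfl N25084 D84946
theorem N47968 : nd 47968 = n84947 := ndS (p := 25084) (l := 6) rfl N25084 D84947
theorem N47969 : nd 47969 = n84949 := ndS (p := 25085) (l := 3) rfl N25085 D84949
theorem N47970 : nd 47970 = n84951 := ndS (p := 25085) (l := 5) rfl N25085 D84951
theorem N47971 : nd 47971 = n84953 := ndS (p := 25086) (l := 0) rfl N25086 D84953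
theorem N47972 : nd 47972 = n84954 := ndS (p := 25086) (l := 1) rfl N25086 D84954
theorem N47973 : nd 47973 = n84955 := ndS (p := 25086) (l := 4) rfl N25086 D84955
theorem N47974 : nd 47974 = n84956 := ndS (p := 25086) (l := 7) rfl N25086 D84956
theorem N47975 : nd 47975 = n84994 := ndS (p := 25088) (l := 4) rfl N25088 D84994
theorem N47976 : nd 47976 = n84995 := ndS (p := 25088) (l := 6) rfl N25088 D84995
theorem N47977 : nd 47977 = n85005 := ndS (p := 25090) (l := 4) rfl N25090 D85005
theorem N47978 : nd 47978 = n85006 := ndS (p := 25090) (l := 5) rfl N25090 D85006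
theorem N47979 : nd 47979 = n85008 := ndS (p := 25091) (l := 0) rfl N25091 D85008
theorem N47980 : nd 47980 = n85009 := ndS (p := 25091) (l := 1) rfl N25091 D85009
theorem N47981 : nd 47981 = n85010 := ndS (p := 25091) (l := 3) rfl N25091 D85010
theorem N47982 : nd 47982 = n85011 := ndS (p := 25091) (l := 5) rfl N25091 D85011
theorem N47983 : nd 47983 = n85012 := ndS (p := 25091) (l := 7) rfl N25091 D85012
theorem N47984 : nd 47984 = n85021 := ndS (p := 25093) (l := 5) rfl N25093 D85021
theorem N47985 : nd 47985 = n85029 := ndS (p := 25095) (l := 6) rfl N25095 D85029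
theorem N47986 : nd 47986 = n85031 := ndS (p := 25096) (l := 5) rfl N25096 D85031
theorem N47987 : nd 47987 = n85032 := ndS (p := 25096) (l := 6) rfl N25096 D85032
theorem N47988 : nd 47988 = n85033 := ndS (p := 25097) (l := 4) rfl N25097 D85033
theorem N47989 : nd 47989 = n85051 := ndS (p := 25099) (l := 4) rfl N25099 D85051
theorem N47990 : nd 47990 = n85065 := ndS (p := 25101) (l := 4) rfl N25101 D85065
theorem N47991 : nd 47991 = n85066 := ndS (p := 25101) (l := 6) rfl N25101 D85066
theorem N47992 : nd 47992 = n85072 := ndS (p := 25102) (l := 3) rfl N25102 D85072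
theorem N47993 : nd 47993 = n85073 := ndS (p := 25102) (l := 5) rfl N25102 D85073
theorem N47994 : nd 47994 = n85084 := ndS (p := 25103) (l := 0) rfl N25103 D85084
theorem N47995 : nd 47995 = n85085 := ndS (p := 25103) (l := 1) rfl N25103 D85085
theorem N47996 : nd 47996 = n85086 := ndS (p := 25103) (l := 4) rfl N25103 D85086
theorem N47997 : nd 47997 = n85093 := ndS (p := 25104) (l := 4) rfl N25104 D85093
theorem N47998 : nd 47998 = n85095 := ndS (p := 25104) (l := 6) rfl N25104 D85095
theorem N47999 : nd 47999 = n85096 := ndS (p := 25105) (l := 4) rfl N25105 D85096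
theorem N48000 : nd 48000 = n85097 := ndS (p := 25106) (l := 0) rfl N25106 D85097
theorem N48001 : nd 48001 = n85098 := ndS (p := 25106) (l := 1) rfl N25106 D85098
theorem N48002 : nd 48002 = n85099 := ndS (p := 25106) (l := 3) rfl N25106 D85099
theorem N48003 : nd 48003 = n85100 := ndS (p := 25106) (l := 5) rfl N25106 D85100
theorem N48004 : nd 48004 = n85101 := ndS (p := 25106) (l := 6) rfl N25106 D85101
theorem N48005 : nd 48005 = n85102 := ndS (p := 25107) (l := 0) rfl N25107 D85102
theorem N48006 : nd 48006 = n85103 := ndS (p := 25107) (l := 1) rfl N25107 D85103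
theorem N48007 : nd 48007 = n85104 := ndS (p := 25107) (l := 5) rfl N25107 D85104
theorem N48008 : nd 48008 = n85105 := ndS (p := 25107) (l := 7) rfl N25107 D85105
theorem N48009 : nd 48009 = n85106 := ndS (p := 25108) (l := 4) rfl N25108 D85106
theorem N48010 : nd 48010 = n85129 := ndS (p := 25111) (l := 5) rfl N25111 D85129
theorem N48011 : nd 48011 = n85130 := ndS (p := 25111) (l := 6) rfl N25111 D85130
theorem N48012 : nd 48012 = n85131 := ndS (p := 25112) (l := 4) rfl N25112 D85131
theorem N48013 : nd 48013 = n85132 := ndS (p := 25112) (l := 6) rfl N25112 D85132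
theorem N48014 : nd 48014 = n85133 := ndS (p := 25113) (l := 0) rfl N25113 D85133
theorem N48015 : nd 48015 = n85135 := ndS (p := 25113) (l := 5) rfl N25113 D85135
theorem N48016 : nd 48016 = n85136 := ndS (p := 25113) (l := 7) rfl N25113 D85136
theorem N48017 : nd 48017 = n85138 := ndS (p := 25114) (l := 5) rfl N25114 D85138
theorem N48018 : nd 48018 = n85144 := ndS (p := 25116) (l := 4) rfl N25116 D85144
theorem N48019 : nd 48019 = n85188 := ndS (p := 25118) (l := 3) rfl N25118 D85188
theorem N48020 : nd 48020 = n85190 := ndS (p := 25118) (l := 5) rfl N25118 D85190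
theorem N48021 : nd 48021 = n85194 := ndS (p := 25119) (l := 4) rfl N25119 D85194
theorem N48022 : nd 48022 = n85195 := ndS (p := 25119) (l := 5) rfl N25119 D85195
theorem N48023 : nd 48023 = n85196 := ndS (p := 25119) (l := 6) rfl N25119 D85196
theorem N48024 : nd 48024 = n85197 := ndS (p := 25120) (l := 0) rfl N25120 D85197
theorem N48025 : nd 48025 = n85198 := ndS (p := 25120) (l := 1) rfl N25120 D85198
theorem N48026 : nd 48026 = n85199 := ndS (p := 25120) (l := 2) rfl N25120 D85199
theorem N48027 : nd 48027 = n85200 := ndS (p := 25120) (l := 5) rfl N25120 D85200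
theorem N48028 : nd 48028 = n85202 := ndS (p := 25121) (l := 0) rfl N25121 D85202
theorem N48029 : nd 48029 = n85203 := ndS (p := 25121) (l := 1) rfl N25121 D85203
theorem N48030 : nd 48030 = n85204 := ndS (p := 25121) (l := 4) rfl N25121 D85204
theorem N48031 : nd 48031 = n85205 := ndS (p := 25121) (l := 6) rfl N25121 D85205
theorem N48032 : nd 48032 = n85217 := ndS (p := 25122) (l := 5) rfl N25122 D85217
theorem N48033 : nd 48033 = n85244 := ndS (p := 25123) (l := 3) rfl N25123 D85244
theorem N48034 : nd 48034 = n85247 := ndS (p := 25124) (l := 4) rfl N25124 D85247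
theorem N48035 : nd 48035 = n85248 := ndS (p := 25124) (l := 6) rfl N25124 D85248
theorem N48036 : nd 48036 = n85252 := ndS (p := 25125) (l := 7) rfl N25125 D85252
theorem N48037 : nd 48037 = n85254 := ndS (p := 25126) (l := 4) rfl N25126 D85254
theorem N48038 : nd 48038 = n85255 := ndS (p := 25126) (l := 5) rfl N25126 D85255
theorem N48039 : nd 48039 = n85265 := ndS (p := 25127) (l := 0) rfl N25127 D85265
theorem N48040 : nd 48040 = n85276 := ndS (p := 25128) (l := 4) rfl N25128 D85276
theorem N48041 : nd 48041 = n85279 := ndS (p := 25129) (l := 0) rfl N25129 D85279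
theorem N48042 : nd 48042 = n85280 := ndS (p := 25129) (l := 1) rfl N25129 D85280
theorem N48043 : nd 48043 = n85282 := ndS (p := 25129) (l := 5) rfl N25129 D85282
theorem N48044 : nd 48044 = n85283 := ndS (p := 25129) (l := 6) rfl N25129 D85283
theorem N48045 : nd 48045 = n85284 := ndS (p := 25130) (l := 0) rfl N25130 D85284
theorem N48046 : nd 48046 = n85285 := ndS (p := 25130) (l := 1) rfl N25130 D85285
theorem N48047 : nd 48047 = n85286 := ndS (p := 25130) (l := 5) rfl N25130 D85286
theorem N48048 : nd 48048 = n85287 := ndS (p := 25130) (l := 7) rfl N25130 D85287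
theorem N48049 : nd 48049 = n85290 := ndS (p := 25131) (l := 4) rfl N25131 D85290
theorem N48050 : nd 48050 = n85294 := ndS (p := 25132) (l := 3) rfl N25132 D85294
theorem N48051 : nd 48051 = n85300 := ndS (p := 25133) (l := 4) rfl N25133 D85300
theorem N48052 : nd 48052 = n85303 := ndS (p := 25135) (l := 4) rfl N25135 D85303
theorem N48053 : nd 48053 = n85304 := ndS (p := 25135) (l := 6) rfl N25135 D85304
theorem N48054 : nd 48054 = n85305 := ndS (p := 25136) (l := 3) rfl N25136 D85305
theorem N48055 : nd 48055 = n85306 := ndS (p := 25136) (l := 5) rfl N25136 D85306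
theorem N48056 : nd 48056 = n85307 := ndS (p := 25136) (l := 6) rfl N25136 D85307
theorem N48057 : nd 48057 = n85309 := ndS (p := 25138) (l := 3) rfl N25138 D85309
theorem N48058 : nd 48058 = n85310 := ndS (p := 25138) (l := 5) rfl N25138 D85310
theorem N48059 : nd 48059 = n85311 := ndS (p := 25140) (l := 3) rfl N25140 D85311
theorem N48060 : nd 48060 = n85312 := ndS (p := 25140) (l := 6) rfl N25140 D85312
theorem N48061 : nd 48061 = n85314 := ndS (p := 25142) (l := 0) rfl N25142 D85314
theorem N48062 : nd 48062 = n85315 := ndS (p := 25142) (l := 1) rfl N25142 D85315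
theorem N48063 : nd 48063 = n85316 := ndS (p := 25142) (l := 2) rfl N25142 D85316
theorem N48064 : nd 48064 = n85317 := ndS (p := 25142) (l := 6) rfl N25142 D85317
theorem N48065 : nd 48065 = n85322 := ndS (p := 25144) (l := 3) rfl N25144 D85322
theorem N48066 : nd 48066 = n85326 := ndS (p := 25146) (l := 4) rfl N25146 D85326
theorem N48067 : nd 48067 = n85327 := ndS (p := 25146) (l := 7) rfl N25146 D85327
theorem N48068 : nd 48068 = n85328 := ndS (p := 25148) (l := 3) rfl N25148 D85328
theorem N48069 : nd 48069 = n85364 := ndS (p := 25149) (l := 5) rfl N25149 D85364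
theorem N48070 : nd 48070 = n85366 := ndS (p := 25150) (l := 4) rfl N25150 D85366
theorem N48071 : nd 48071 = n85367 := ndS (p := 25150) (l := 6) rfl N25150 D85367
theorem N48072 : nd 48072 = n85376 := ndS (p := 25152) (l := 6) rfl N25152 D85376
theorem N48073 : nd 48073 = n85393 := ndS (p := 25154) (l := 6) rfl N25154 D85393
theorem N48074 : nd 48074 = n85399 := ndS (p := 25156) (l := 3) rfl N25156 D85399
theorem N48075 : nd 48075 = n85400 := ndS (p := 25156) (l := 4) rfl N25156 D85400
theorem N48076 : nd 48076 = n85401 := ndS (p := 25156) (l := 5) rfl N25156 D85401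
theorem N48077 : nd 48077 = n85402 := ndS (p := 25156) (l := 6) rfl N25156 D85402
theorem N48078 : nd 48078 = n85405 := ndS (p := 25157) (l := 4) rfl N25157 D85405
theorem N48079 : nd 48079 = n85407 := ndS (p := 25157) (l := 6) rfl N25157 D85407
theorem N48080 : nd 48080 = n85413 := ndS (p := 25159) (l := 0) rfl N25159 D85413
theorem N48081 : nd 48081 = n85418 := ndS (p := 25160) (l := 3) rfl N25160 D85418
theorem N48082 : nd 48082 = n85419 := ndS (p := 25160) (l := 4) rfl N25160 D85419
theorem N48083 : nd 48083 = n85424 := ndS (p := 25161) (l := 4) rfl N25161 D85424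
theorem N48084 : nd 48084 = n85431 := ndS (p := 25162) (l := 0) rfl N25162 D85431
theorem N48085 : nd 48085 = n85432 := ndS (p := 25162) (l := 1) rfl N25162 D85432
theorem N48086 : nd 48086 = n85433 := ndS (p := 25162) (l := 2) rfl N25162 D85433
theorem N48087 : nd 48087 = n85457 := ndS (p := 25164) (l := 0) rfl N25164 D85457
theorem N48088 : nd 48088 = n85458 := ndS (p := 25164) (l := 1) rfl N25164 D85458
theorem N48089 : nd 48089 = n85459 := ndS (p := 25164) (l := 3) rfl N25164 D85459
theorem N48090 : nd 48090 = n85460 := ndS (p := 25164) (l := 5) rfl N25164 D85460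
theorem N48091 : nd 48091 = n85468 := ndS (p := 25166) (l := 3) rfl N25166 D85468
theorem N48092 : nd 48092 = n85469 := ndS (p := 25166) (l := 6) rfl N25166 D85469
theorem N48093 : nd 48093 = n85470 := ndS (p := 25167) (l := 0) rfl N25167 D85470
theorem N48094 : nd 48094 = n85471 := ndS (p := 25167) (l := 1) rfl N25167 D85471
theorem N48095 : nd 48095 = n85472 := ndS (p := 25167) (l := 2) rfl N25167 D85472
theorem N48096 : nd 48096 = n85473 := ndS (p := 25167) (l := 6) rfl N25167 D85473
theorem N48097 : nd 48097 = n85479 := ndS (p := 25169) (l := 3) rfl N25169 D85479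
theorem N48098 : nd 48098 = n85498 := ndS (p := 25172) (l := 6) rfl N25172 D85498
theorem N48099 : nd 48099 = n85501 := ndS (p := 25173) (l := 3) rfl N25173 D85501
theorem N48100 : nd 48100 = n85502 := ndS (p := 25173) (l := 5) rfl N25173 D85502
theorem N48101 : nd 48101 = n85503 := ndS (p := 25173) (l := 6) rfl N25173 D85503
theorem N48102 : nd 48102 = n85504 := ndS (p := 25174) (l := 0) rfl N25174 D85504
theorem N48103 : nd 48103 = n85505 := ndS (p := 25174) (l := 1) rfl N25174 D85505
theorem N48104 : nd 48104 = n85506 := ndS (p := 25174) (l := 7) rfl N25174 D85506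
theorem N48105 : nd 48105 = n85508 := ndS (p := 25175) (l := 1) rfl N25175 D85508
theorem N48106 : nd 48106 = n85509 := ndS (p := 25175) (l := 2) rfl N25175 D85509
theorem N48107 : nd 48107 = n85518 := ndS (p := 25176) (l := 6) rfl N25176 D85518
theorem N48108 : nd 48108 = n85520 := ndS (p := 25177) (l := 3) rfl N25177 D85520
theorem N48109 : nd 48109 = n85531 := ndS (p := 25179) (l := 0) rfl N25179 D85531
theorem N48110 : nd 48110 = n85532 := ndS (p := 25179) (l := 1) rfl N25179 D85532
theorem N48111 : nd 48111 = n85533 := ndS (p := 25179) (l := 2) rfl N25179 D85533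
theorem N48112 : nd 48112 = n85534 := ndS (p := 25179) (l := 4) rfl N25179 D85534
theorem N48113 : nd 48113 = n85540 := ndS (p := 25180) (l := 0) rfl N25180 D85540
theorem N48114 : nd 48114 = n85541 := ndS (p := 25180) (l := 2) rfl N25180 D85541
theorem N48115 : nd 48115 = n85542 := ndS (p := 25180) (l := 3) rfl N25180 D85542
theorem N48116 : nd 48116 = n85544 := ndS (p := 25180) (l := 5) rfl N25180 D85544
theorem N48117 : nd 48117 = n85545 := ndS (p := 25180) (l := 6) rfl N25180 D85545
theorem N48118 : nd 48118 = n85546 := ndS (p := 25180) (l := 7) rfl N25180 D85546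
theorem N48119 : nd 48119 = n85547 := ndS (p := 25181) (l := 3) rfl N25181 D85547
theorem N48120 : nd 48120 = n85549 := ndS (p := 25181) (l := 5) rfl N25181 D85549
theorem N48121 : nd 48121 = n85550 := ndS (p := 25181) (l := 6) rfl N25181 D85550
theorem N48122 : nd 48122 = n85553 := ndS (p := 25182) (l := 5) rfl N25182 D85553
theorem N48123 : nd 48123 = n85554 := ndS (p := 25183) (l := 0) rfl N25183 D85554
theorem N48124 : nd 48124 = n85555 := ndS (p := 25183) (l := 1) rfl N25183 D85555
theorem N48125 : nd 48125 = n85556 := ndS (p := 25183) (l := 4) rfl N25183 D85556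
theorem N48126 : nd 48126 = n85557 := ndS (p := 25183) (l := 6) rfl N25183 D85557
theorem N48127 : nd 48127 = n85558 := ndS (p := 25184) (l := 6) rfl N25184 D85558
theorem N48128 : nd 48128 = n85559 := ndS (p := 25185) (l := 0) rfl N25185 D85559
theorem N48129 : nd 48129 = n85560 := ndS (p := 25185) (l := 1) rfl N25185 D85560
theorem N48130 : nd 48130 = n85577 := ndS (p := 25189) (l := 1) rfl N25189 D85577
theorem N48131 : nd 48131 = n85618 := ndS (p := 25190) (l := 3) rfl N25190 D85618
theorem N48132 : nd 48132 = n85627 := ndS (p := 25191) (l := 3) rfl N25191 D85627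
theorem N48133 : nd 48133 = n85652 := ndS (p := 25196) (l := 3) rfl N25196 D85652
theorem N48134 : nd 48134 = n85660 := ndS (p := 25197) (l := 4) rfl N25197 D85660
theorem N48135 : nd 48135 = n85666 := ndS (p := 25198) (l := 5) rfl N25198 D85666
theorem N48136 : nd 48136 = n85668 := ndS (p := 25199) (l := 4) rfl N25199 D85668
theorem N48137 : nd 48137 = n85670 := ndS (p := 25200) (l := 0) rfl N25200 D85670
theorem N48138 : nd 48138 = n85673 := ndS (p := 25201) (l := 1) rfl N25201 D85673
theorem N48139 : nd 48139 = n85675 := ndS (p := 25201) (l := 6) rfl N25201 D85675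
theorem N48140 : nd 48140 = n85676 := ndS (p := 25202) (l := 3) rfl N25202 D85676
theorem N48141 : nd 48141 = n85677 := ndS (p := 25202) (l := 6) rfl N25202 D85677
theorem N48142 : nd 48142 = n85755 := ndS (p := 25207) (l := 2) rfl N25207 D85755
theorem N48143 : nd 48143 = n85756 := ndS (p := 25207) (l := 4) rfl N25207 D85756
theorem N48144 : nd 48144 = n85757 := ndS (p := 25207) (l := 6) rfl N25207 D85757
theorem N48145 : nd 48145 = n85758 := ndS (p := 25208) (l := 3) rfl N25208 D85758
theorem N48146 : nd 48146 = n85759 := ndS (p := 25208) (l := 6) rfl N25208 D85759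
theorem N48147 : nd 48147 = n85760 := ndS (p := 25209) (l := 0) rfl N25209 D85760
theorem N48148 : nd 48148 = n85764 := ndS (p := 25210) (l := 2) rfl N25210 D85764
theorem N48149 : nd 48149 = n85765 := ndS (p := 25210) (l := 4) rfl N25210 D85765
theorem N48150 : nd 48150 = n85766 := ndS (p := 25211) (l := 3) rfl N25211 D85766
theorem N48151 : nd 48151 = n85774 := ndS (p := 25212) (l := 7) rfl N25212 D85774
theorem N48152 : nd 48152 = n85776 := ndS (p := 25213) (l := 3) rfl N25213 D85776
theorem N48153 : nd 48153 = n85779 := ndS (p := 25214) (l := 3) rfl N25214 D85779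
theorem N48154 : nd 48154 = n85780 := ndS (p := 25214) (l := 4) rfl N25214 D85780
theorem N48155 : nd 48155 = n85782 := ndS (p := 25215) (l := 0) rfl N25215 D85782
theorem N48156 : nd 48156 = n85783 := ndS (p := 25215) (l := 1) rfl N25215 D85783
theorem N48157 : nd 48157 = n85784 := ndS (p := 25215) (l := 4) rfl N25215 D85784
theorem N48158 : nd 48158 = n85787 := ndS (p := 25217) (l := 1) rfl N25217 D85787
theorem N48159 : nd 48159 = n85788 := ndS (p := 25217) (l := 2) rfl N25217 D85788
theorem N48160 : nd 48160 = n85790 := ndS (p := 25218) (l := 3) rfl N25218 D85790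
theorem N48161 : nd 48161 = n85796 := ndS (p := 25219) (l := 1) rfl N25219 D85796
theorem N48162 : nd 48162 = n85799 := ndS (p := 25221) (l := 5) rfl N25221 D85799
theorem N48163 : nd 48163 = n85800 := ndS (p := 25222) (l := 6) rfl N25222 D85800
theorem N48164 : nd 48164 = n85812 := ndS (p := 25224) (l := 3) rfl N25224 D85812
theorem N48165 : nd 48165 = n85817 := ndS (p := 25225) (l := 6) rfl N25225 D85817
theorem N48166 : nd 48166 = n85827 := ndS (p := 25228) (l := 2) rfl N25228 D85827
theorem N48167 : nd 48167 = n85828 := ndS (p := 25228) (l := 5) rfl N25228 D85828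
theorem N48168 : nd 48168 = n85835 := ndS (p := 25230) (l := 6) rfl N25230 D85835
theorem N48169 : nd 48169 = n85836 := ndS (p := 25231) (l := 4) rfl N25231 D85836
theorem N48170 : nd 48170 = n85837 := ndS (p := 25231) (l := 6) rfl N25231 D85837
theorem N48171 : nd 48171 = n85838 := ndS (p := 25232) (l := 5) rfl N25232 D85838
theorem N48172 : nd 48172 = n85842 := ndS (p := 25233) (l := 5) rfl N25233 D85842
theorem N48173 : nd 48173 = n85843 := ndS (p := 25235) (l := 4) rfl N25235 D85843
theorem N48174 : nd 48174 = n85851 := ndS (p := 25236) (l := 5) rfl N25236 D85851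
theorem N48175 : nd 48175 = n85853 := ndS (p := 25237) (l := 5) rfl N25237 D85853
theorem N48176 : nd 48176 = n85854 := ndS (p := 25237) (l := 6) rfl N25237 D85854
theorem N48177 : nd 48177 = n85855 := ndS (p := 25238) (l := 0) rfl N25238 D85855
theorem N48178 : nd 48178 = n85856 := ndS (p := 25238) (l := 1) rfl N25238 D85856
theorem N48179 : nd 48179 = n85857 := ndS (p := 25238) (l := 4) rfl N25238 D85857
theorem N48180 : nd 48180 = n85858 := ndS (p := 25238) (l := 6) rfl N25238 D85858
theorem N48181 : nd 48181 = n85859 := ndS (p := 25239) (l := 0) rfl N25239 D85859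
theorem N48182 : nd 48182 = n85860 := ndS (p := 25239) (l := 1) rfl N25239 D85860
theorem N48183 : nd 48183 = n85861 := ndS (p := 25239) (l := 5) rfl N25239 D85861
theorem N48184 : nd 48184 = n85863 := ndS (p := 25240) (l := 3) rfl N25240 D85863
theorem N48185 : nd 48185 = n85864 := ndS (p := 25240) (l := 4) rfl N25240 D85864
theorem N48186 : nd 48186 = n85865 := ndS (p := 25240) (l := 5) rfl N25240 D85865
theorem N48187 : nd 48187 = n85866 := ndS (p := 25240) (l := 6) rfl N25240 D85866
theorem N48188 : nd 48188 = n85867 := ndS (p := 25241) (l := 3) rfl N25241 D85867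
theorem N48189 : nd 48189 = n85868 := ndS (p := 25241) (l := 4) rfl N25241 D85868
theorem N48190 : nd 48190 = n85870 := ndS (p := 25242) (l := 0) rfl N25242 D85870
theorem N48191 : nd 48191 = n85871 := ndS (p := 25242) (l := 1) rfl N25242 D85871
theorem N48192 : nd 48192 = n85873 := ndS (p := 25242) (l := 5) rfl N25242 D85873
theorem N48193 : nd 48193 = n85874 := ndS (p := 25242) (l := 6) rfl N25242 D85874
theorem N48194 : nd 48194 = n85875 := ndS (p := 25243) (l := 0) rfl N25243 D85875
theorem N48195 : nd 48195 = n85876 := ndS (p := 25243) (l := 1) rfl N25243 D85876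
theorem N48196 : nd 48196 = n85877 := ndS (p := 25243) (l := 5) rfl N25243 D85877
theorem N48197 : nd 48197 = n85878 := ndS (p := 25243) (l := 7) rfl N25243 D85878
theorem N48198 : nd 48198 = n85879 := ndS (p := 25244) (l := 3) rfl N25244 D85879
theorem N48199 : nd 48199 = n85881 := ndS (p := 25245) (l := 3) rfl N25245 D85881
theorem N48200 : nd 48200 = n85882 := ndS (p := 25246) (l := 0) rfl N25246 D85882
theorem N48201 : nd 48201 = n85883 := ndS (p := 25246) (l := 4) rfl N25246 D85883
theorem N48202 : nd 48202 = n85895 := ndS (p := 25247) (l := 3) rfl N25247 D85895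
theorem N48203 : nd 48203 = n85897 := ndS (p := 25247) (l := 5) rfl N25247 D85897
theorem N48204 : nd 48204 = n85902 := ndS (p := 25248) (l := 0) rfl N25248 D85902
theorem N48205 : nd 48205 = n85903 := ndS (p := 25248) (l := 1) rfl N25248 D85903
theorem N48206 : nd 48206 = n85904 := ndS (p := 25248) (l := 2) rfl N25248 D85904
theorem N48207 : nd 48207 = n85905 := ndS (p := 25248) (l := 5) rfl N25248 D85905
theorem N48208 : nd 48208 = n85906 := ndS (p := 25249) (l := 4) rfl N25249 D85906
theorem N48209 : nd 48209 = n85907 := ndS (p := 25249) (l := 6) rfl N25249 D85907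
theorem N48210 : nd 48210 = n85914 := ndS (p := 25250) (l := 3) rfl N25250 D85914
theorem N48211 : nd 48211 = n85915 := ndS (p := 25250) (l := 5) rfl N25250 D85915
theorem N48212 : nd 48212 = n85942 := ndS (p := 25252) (l := 5) rfl N25252 D85942
theorem N48213 : nd 48213 = n85952 := ndS (p := 25253) (l := 0) rfl N25253 D85952
theorem N48214 : nd 48214 = n85954 := ndS (p := 25253) (l := 5) rfl N25253 D85954
theorem N48215 : nd 48215 = n85955 := ndS (p := 25253) (l := 7) rfl N25253 D85955
theorem N48216 : nd 48216 = n85957 := ndS (p := 25254) (l := 3) rfl N25254 D85957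
theorem N48217 : nd 48217 = n85958 := ndS (p := 25254) (l := 4) rfl N25254 D85958
theorem N48218 : nd 48218 = n85962 := ndS (p := 25255) (l := 3) rfl N25255 D85962
theorem N48219 : nd 48219 = n85963 := ndS (p := 25255) (l := 4) rfl N25255 D85963
theorem N48220 : nd 48220 = n85966 := ndS (p := 25256) (l := 0) rfl N25256 D85966
theorem N48221 : nd 48221 = n85967 := ndS (p := 25256) (l := 1) rfl N25256 D85967
theorem N48222 : nd 48222 = n85968 := ndS (p := 25256) (l := 3) rfl N25256 D85968
theorem N48223 : nd 48223 = n85969 := ndS (p := 25256) (l := 5) rfl N25256 D85969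
theorem N48224 : nd 48224 = n85970 := ndS (p := 25256) (l := 6) rfl N25256 D85970
theorem N48225 : nd 48225 = n85973 := ndS (p := 25257) (l := 5) rfl N25257 D85973
theorem N48226 : nd 48226 = n85976 := ndS (p := 25258) (l := 3) rfl N25258 D85976
theorem N48227 : nd 48227 = n85977 := ndS (p := 25258) (l := 4) rfl N25258 D85977
theorem N48228 : nd 48228 = n85979 := ndS (p := 25258) (l := 6) rfl N25258 D85979
theorem N48229 : nd 48229 = n85981 := ndS (p := 25259) (l := 3) rfl N25259 D85981
theorem N48230 : nd 48230 = n85982 := ndS (p := 25259) (l := 4) rfl N25259 D85982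
theorem N48231 : nd 48231 = n85985 := ndS (p := 25260) (l := 0) rfl N25260 D85985
theorem N48232 : nd 48232 = n85987 := ndS (p := 25260) (l := 4) rfl N25260 D85987
theorem N48233 : nd 48233 = n85988 := ndS (p := 25262) (l := 0) rfl N25262 D85988
theorem N48234 : nd 48234 = n85989 := ndS (p := 25262) (l := 1) rfl N25262 D85989
theorem N48235 : nd 48235 = n85990 := ndS (p := 25262) (l := 2) rfl N25262 D85990
theorem N48236 : nd 48236 = n86003 := ndS (p := 25266) (l := 3) rfl N25266 D86003
theorem N48237 : nd 48237 = n86004 := ndS (p := 25266) (l := 4) rfl N25266 D86004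
theorem N48238 : nd 48238 = n86005 := ndS (p := 25266) (l := 5) rfl N25266 D86005
theorem N48239 : nd 48239 = n86008 := ndS (p := 25267) (l := 3) rfl N25267 D86008
theorem N48240 : nd 48240 = n86009 := ndS (p := 25267) (l := 4) rfl N25267 D86009
theorem N48241 : nd 48241 = n86010 := ndS (p := 25267) (l := 5) rfl N25267 D86010
theorem N48242 : nd 48242 = n86015 := ndS (p := 25269) (l := 4) rfl N25269 D86015
theorem N48243 : nd 48243 = n86016 := ndS (p := 25269) (l := 6) rfl N25269 D86016
theorem N48244 : nd 48244 = n86017 := ndS (p := 25270) (l := 0) rfl N25270 D86017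
theorem N48245 : nd 48245 = n86018 := ndS (p := 25270) (l := 7) rfl N25270 D86018
theorem N48246 : nd 48246 = n86019 := ndS (p := 25271) (l := 0) rfl N25271 D86019
theorem N48247 : nd 48247 = n86021 := ndS (p := 25271) (l := 2) rfl N25271 D86021
theorem N48248 : nd 48248 = n86023 := ndS (p := 25272) (l := 1) rfl N25272 D86023
theorem N48249 : nd 48249 = n86024 := ndS (p := 25272) (l := 4) rfl N25272 D86024
theorem N48250 : nd 48250 = n86028 := ndS (p := 25274) (l := 4) rfl N25274 D86028
theorem N48251 : nd 48251 = n86029 := ndS (p := 25275) (l := 0) rfl N25275 D86029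
theorem N48252 : nd 48252 = n86032 := ndS (p := 25275) (l := 5) rfl N25275 D86032
theorem N48253 : nd 48253 = n86033 := ndS (p := 25275) (l := 6) rfl N25275 D86033
theorem N48254 : nd 48254 = n86036 := ndS (p := 25277) (l := 3) rfl N25277 D86036
theorem N48255 : nd 48255 = n86058 := ndS (p := 25279) (l := 0) rfl N25279 D86058
theorem N48256 : nd 48256 = n86059 := ndS (p := 25279) (l := 1) rfl N25279 D86059
theorem N48257 : nd 48257 = n86060 := ndS (p := 25279) (l := 2) rfl N25279 D86060
theorem N48258 : nd 48258 = n86063 := ndS (p := 25280) (l := 0) rfl N25280 D86063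
theorem N48259 : nd 48259 = n86065 := ndS (p := 25280) (l := 5) rfl N25280 D86065
theorem N48260 : nd 48260 = n86066 := ndS (p := 25280) (l := 6) rfl N25280 D86066
theorem N48261 : nd 48261 = n86078 := ndS (p := 25283) (l := 3) rfl N25283 D86078
theorem N48262 : nd 48262 = n86082 := ndS (p := 25285) (l := 0) rfl N25285 D86082
theorem N48263 : nd 48263 = n86083 := ndS (p := 25285) (l := 1) rfl N25285 D86083
theorem N48264 : nd 48264 = n86084 := ndS (p := 25285) (l := 3) rfl N25285 D86084
theorem N48265 : nd 48265 = n86085 := ndS (p := 25285) (l := 5) rfl N25285 D86085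
theorem N48266 : nd 48266 = n86086 := ndS (p := 25286) (l := 0) rfl N25286 D86086
theorem N48267 : nd 48267 = n86087 := ndS (p := 25286) (l := 1) rfl N25286 D86087
theorem N48268 : nd 48268 = n86088 := ndS (p := 25286) (l := 2) rfl N25286 D86088
theorem N48269 : nd 48269 = n86089 := ndS (p := 25286) (l := 5) rfl N25286 D86089
theorem N48270 : nd 48270 = n86091 := ndS (p := 25288) (l := 0) rfl N25288 D86091
theorem N48271 : nd 48271 = n86093 := ndS (p := 25288) (l := 2) rfl N25288 D86093
theorem N48272 : nd 48272 = n86095 := ndS (p := 25288) (l := 5) rfl N25288 D86095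
theorem N48273 : nd 48273 = n86097 := ndS (p := 25289) (l := 0) rfl N25289 D86097
theorem N48274 : nd 48274 = n86101 := ndS (p := 25291) (l := 1) rfl N25291 D86101
theorem N48275 : nd 48275 = n86102 := ndS (p := 25291) (l := 2) rfl N25291 D86102
theorem N48276 : nd 48276 = n86104 := ndS (p := 25291) (l := 5) rfl N25291 D86104
theorem N48277 : nd 48277 = n86105 := ndS (p := 25292) (l := 6) rfl N25292 D86105
theorem N48278 : nd 48278 = n86107 := ndS (p := 25293) (l := 3) rfl N25293 D86107
theorem N48279 : nd 48279 = n86108 := ndS (p := 25293) (l := 4) rfl N25293 D86108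
theorem N48280 : nd 48280 = n86110 := ndS (p := 25293) (l := 6) rfl N25293 D86110
theorem N48281 : nd 48281 = n86113 := ndS (p := 25294) (l := 4) rfl N25294 D86113
theorem N48282 : nd 48282 = n86116 := ndS (p := 25295) (l := 5) rfl N25295 D86116
theorem N48283 : nd 48283 = n86117 := ndS (p := 25296) (l := 0) rfl N25296 D86117
theorem N48284 : nd 48284 = n86119 := ndS (p := 25296) (l := 4) rfl N25296 D86119
theorem N48285 : nd 48285 = n86125 := ndS (p := 25298) (l := 5) rfl N25298 D86125
theorem N48286 : nd 48286 = n86126 := ndS (p := 25298) (l := 6) rfl N25298 D86126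
theorem N48287 : nd 48287 = n86128 := ndS (p := 25301) (l := 3) rfl N25301 D86128
theorem N48288 : nd 48288 = n86129 := ndS (p := 25301) (l := 5) rfl N25301 D86129
theorem N48289 : nd 48289 = n86131 := ndS (p := 25302) (l := 3) rfl N25302 D86131
theorem N48290 : nd 48290 = n86133 := ndS (p := 25302) (l := 6) rfl N25302 D86133
theorem N48291 : nd 48291 = n86134 := ndS (p := 25303) (l := 3) rfl N25303 D86134
theorem N48292 : nd 48292 = n86135 := ndS (p := 25303) (l := 5) rfl N25303 D86135
theorem N48293 : nd 48293 = n86137 := ndS (p := 25304) (l := 0) rfl N25304 D86137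
theorem N48294 : nd 48294 = n86138 := ndS (p := 25304) (l := 1) rfl N25304 D86138
theorem N48295 : nd 48295 = n86139 := ndS (p := 25304) (l := 2) rfl N25304 D86139
theorem N48296 : nd 48296 = n86140 := ndS (p := 25304) (l := 5) rfl N25304 D86140
theorem N48297 : nd 48297 = n86141 := ndS (p := 25305) (l := 6) rfl N25305 D86141
theorem N48298 : nd 48298 = n86143 := ndS (p := 25306) (l := 3) rfl N25306 D86143
theorem N48299 : nd 48299 = n86144 := ndS (p := 25306) (l := 4) rfl N25306 D86144
theorem N48300 : nd 48300 = n86146 := ndS (p := 25306) (l := 6) rfl N25306 D86146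
theorem N48301 : nd 48301 = n86148 := ndS (p := 25307) (l := 3) rfl N25307 D86148
theorem N48302 : nd 48302 = n86149 := ndS (p := 25307) (l := 4) rfl N25307 D86149
theorem N48303 : nd 48303 = n86151 := ndS (p := 25307) (l := 6) rfl N25307 D86151
theorem N48304 : nd 48304 = n86152 := ndS (p := 25309) (l := 3) rfl N25309 D86152
theorem N48305 : nd 48305 = n86153 := ndS (p := 25309) (l := 5) rfl N25309 D86153
theorem N48306 : nd 48306 = n86154 := ndS (p := 25309) (l := 6) rfl N25309 D86154
theorem N48307 : nd 48307 = n86155 := ndS (p := 25311) (l := 3) rfl N25311 D86155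
theorem N48308 : nd 48308 = n86156 := ndS (p := 25311) (l := 5) rfl N25311 D86156
theorem N48309 : nd 48309 = n86159 := ndS (p := 25312) (l := 5) rfl N25312 D86159
theorem N48310 : nd 48310 = n86160 := ndS (p := 25312) (l := 6) rfl N25312 D86160
theorem N48311 : nd 48311 = n86161 := ndS (p := 25313) (l := 0) rfl N25313 D86161
theorem N48312 : nd 48312 = n86162 := ndS (p := 25313) (l := 2) rfl N25313 D86162
theorem N48313 : nd 48313 = n86163 := ndS (p := 25313) (l := 5) rfl N25313 D86163
theorem N48314 : nd 48314 = n86164 := ndS (p := 25313) (l := 6) rfl N25313 D86164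
theorem N48315 : nd 48315 = n86166 := ndS (p := 25314) (l := 6) rfl N25314 D86166
theorem N48316 : nd 48316 = n86171 := ndS (p := 25316) (l := 4) rfl N25316 D86171
theorem N48317 : nd 48317 = n86173 := ndS (p := 25317) (l := 4) rfl N25317 D86173
theorem N48318 : nd 48318 = n86175 := ndS (p := 25318) (l := 3) rfl N25318 D86175
theorem N48319 : nd 48319 = n86176 := ndS (p := 25318) (l := 4) rfl N25318 D86176
theorem N48320 : nd 48320 = n86178 := ndS (p := 25318) (l := 6) rfl N25318 D86178
theorem N48321 : nd 48321 = n86180 := ndS (p := 25319) (l := 3) rfl N25319 D86180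
theorem N48322 : nd 48322 = n86181 := ndS (p := 25319) (l := 4) rfl N25319 D86181
theorem N48323 : nd 48323 = n86183 := ndS (p := 25319) (l := 6) rfl N25319 D86183
theorem N48324 : nd 48324 = n86184 := ndS (p := 25320) (l := 6) rfl N25320 D86184
theorem N48325 : nd 48325 = n86186 := ndS (p := 25321) (l := 1) rfl N25321 D86186
theorem N48326 : nd 48326 = n86187 := ndS (p := 25322) (l := 3) rfl N25322 D86187
theorem N48327 : nd 48327 = n86189 := ndS (p := 25323) (l := 3) rfl N25323 D86189
theorem N48328 : nd 48328 = n86190 := ndS (p := 25323) (l := 5) rfl N25323 D86190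
theorem N48329 : nd 48329 = n86192 := ndS (p := 25324) (l := 3) rfl N25324 D86192
theorem N48330 : nd 48330 = n86193 := ndS (p := 25325) (l := 0) rfl N25325 D86193
theorem N48331 : nd 48331 = n86194 := ndS (p := 25325) (l := 1) rfl N25325 D86194
theorem N48332 : nd 48332 = n86195 := ndS (p := 25325) (l := 2) rfl N25325 D86195
theorem N48333 : nd 48333 = n86196 := ndS (p := 25325) (l := 5) rfl N25325 D86196
theorem N48334 : nd 48334 = n86197 := ndS (p := 25325) (l := 6) rfl N25325 D86197
theorem N48335 : nd 48335 = n86198 := ndS (p := 25326) (l := 4) rfl N25326 D86198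
theorem N48336 : nd 48336 = n86199 := ndS (p := 25326) (l := 6) rfl N25326 D86199
theorem N48337 : nd 48337 = n86202 := ndS (p := 25327) (l := 5) rfl N25327 D86202
theorem N48338 : nd 48338 = n86213 := ndS (p := 25329) (l := 6) rfl N25329 D86213
theorem N48339 : nd 48339 = n86215 := ndS (p := 25331) (l := 4) rfl N25331 D86215
theorem N48340 : nd 48340 = n86219 := ndS (p := 25332) (l := 3) rfl N25332 D86219
theorem N48341 : nd 48341 = n86220 := ndS (p := 25332) (l := 4) rfl N25332 D86220
theorem N48342 : nd 48342 = n86223 := ndS (p := 25333) (l := 6) rfl N25333 D86223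
theorem N48343 : nd 48343 = n86225 := ndS (p := 25334) (l := 1) rfl N25334 D86225
theorem N48344 : nd 48344 = n86226 := ndS (p := 25334) (l := 5) rfl N25334 D86226
theorem N48345 : nd 48345 = n86227 := ndS (p := 25334) (l := 7) rfl N25334 D86227
theorem N48346 : nd 48346 = n86230 := ndS (p := 25335) (l := 7) rfl N25335 D86230
theorem N48347 : nd 48347 = n86237 := ndS (p := 25337) (l := 3) rfl N25337 D86237
theorem N48348 : nd 48348 = n86244 := ndS (p := 25340) (l := 4) rfl N25340 D86244
theorem N48349 : nd 48349 = n86246 := ndS (p := 25341) (l := 3) rfl N25341 D86246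
theorem N48350 : nd 48350 = n86247 := ndS (p := 25341) (l := 5) rfl N25341 D86247
theorem N48351 : nd 48351 = n86258 := ndS (p := 25343) (l := 4) rfl N25343 D86258
theorem N48352 : nd 48352 = n86260 := ndS (p := 25344) (l := 0) rfl N25344 D86260
theorem N48353 : nd 48353 = n86261 := ndS (p := 25344) (l := 1) rfl N25344 D86261
theorem N48354 : nd 48354 = n86263 := ndS (p := 25344) (l := 6) rfl N25344 D86263
theorem N48355 : nd 48355 = n86264 := ndS (p := 25345) (l := 0) rfl N25345 D86264
theorem N48356 : nd 48356 = n86265 := ndS (p := 25345) (l := 1) rfl N25345 D86265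
theorem N48357 : nd 48357 = n86266 := ndS (p := 25345) (l := 5) rfl N25345 D86266
theorem N48358 : nd 48358 = n86267 := ndS (p := 25345) (l := 7) rfl N25345 D86267
theorem N48359 : nd 48359 = n86268 := ndS (p := 25346) (l := 0) rfl N25346 D86268
theorem N48360 : nd 48360 = n86271 := ndS (p := 25346) (l := 7) rfl N25346 D86271
theorem N48361 : nd 48361 = n86279 := ndS (p := 25348) (l := 1) rfl N25348 D86279
theorem N48362 : nd 48362 = n86280 := ndS (p := 25348) (l := 2) rfl N25348 D86280
theorem N48363 : nd 48363 = n86281 := ndS (p := 25348) (l := 5) rfl N25348 D86281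
theorem N48364 : nd 48364 = n86282 := ndS (p := 25348) (l := 6) rfl N25348 D86282
theorem N48365 : nd 48365 = n86284 := ndS (p := 25349) (l := 0) rfl N25349 D86284
theorem N48366 : nd 48366 = n86285 := ndS (p := 25349) (l := 1) rfl N25349 D86285
theorem N48367 : nd 48367 = n86286 := ndS (p := 25349) (l := 3) rfl N25349 D86286
theorem N48368 : nd 48368 = n86287 := ndS (p := 25349) (l := 5) rfl N25349 D86287
theorem N48369 : nd 48369 = n86288 := ndS (p := 25349) (l := 6) rfl N25349 D86288
theorem N48370 : nd 48370 = n86292 := ndS (p := 25350) (l := 4) rfl N25350 D86292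
theorem N48371 : nd 48371 = n86293 := ndS (p := 25350) (l := 6) rfl N25350 D86293
theorem N48372 : nd 48372 = n86295 := ndS (p := 25351) (l := 0) rfl N25351 D86295
theorem N48373 : nd 48373 = n86297 := ndS (p := 25351) (l := 5) rfl N25351 D86297
theorem N48374 : nd 48374 = n86298 := ndS (p := 25351) (l := 7) rfl N25351 D86298
theorem N48375 : nd 48375 = n86300 := ndS (p := 25352) (l := 0) rfl N25352 D86300
theorem N48376 : nd 48376 = n86302 := ndS (p := 25352) (l := 2) rfl N25352 D86302
theorem N48377 : nd 48377 = n86303 := ndS (p := 25352) (l := 4) rfl N25352 D86303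
theorem N48378 : nd 48378 = n86304 := ndS (p := 25352) (l := 5) rfl N25352 D86304
theorem N48379 : nd 48379 = n86305 := ndS (p := 25352) (l := 6) rfl N25352 D86305
theorem N48380 : nd 48380 = n86306 := ndS (p := 25353) (l := 3) rfl N25353 D86306
theorem N48381 : nd 48381 = n86307 := ndS (p := 25353) (l := 5) rfl N25353 D86307
theorem N48382 : nd 48382 = n86308 := ndS (p := 25353) (l := 6) rfl N25353 D86308
theorem N48383 : nd 48383 = n86309 := ndS (p := 25354) (l := 4) rfl N25354 D86309
theorem N48384 : nd 48384 = n86310 := ndS (p := 25354) (l := 6) rfl N25354 D86310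
theorem N48385 : nd 48385 = n86312 := ndS (p := 25355) (l := 1) rfl N25355 D86312
theorem N48386 : nd 48386 = n86313 := ndS (p := 25355) (l := 5) rfl N25355 D86313
theorem N48387 : nd 48387 = n86314 := ndS (p := 25355) (l := 7) rfl N25355 D86314
theorem N48388 : nd 48388 = n86322 := ndS (p := 25360) (l := 2) rfl N25360 D86322
theorem N48389 : nd 48389 = n86325 := ndS (p := 25361) (l := 6) rfl N25361 D86325
theorem N48390 : nd 48390 = n86328 := ndS (p := 25362) (l := 0) rfl N25362 D86328
theorem N48391 : nd 48391 = n86329 := ndS (p := 25362) (l := 1) rfl N25362 D86329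
theorem N48392 : nd 48392 = n86330 := ndS (p := 25362) (l := 5) rfl N25362 D86330
theorem N48393 : nd 48393 = n86331 := ndS (p := 25362) (l := 7) rfl N25362 D86331
theorem N48394 : nd 48394 = n86342 := ndS (p := 25366) (l := 3) rfl N25366 D86342
theorem N48395 : nd 48395 = n86343 := ndS (p := 25367) (l := 3) rfl N25367 D86343
theorem N48396 : nd 48396 = n86345 := ndS (p := 25368) (l := 0) rfl N25368 D86345
theorem N48397 : nd 48397 = n86346 := ndS (p := 25368) (l := 1) rfl N25368 D86346
theorem N48398 : nd 48398 = n86347 := ndS (p := 25368) (l := 2) rfl N25368 D86347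
theorem N48399 : nd 48399 = n86348 := ndS (p := 25368) (l := 5) rfl N25368 D86348
theorem N48400 : nd 48400 = n86349 := ndS (p := 25369) (l := 6) rfl N25369 D86349
theorem N48401 : nd 48401 = n86352 := ndS (p := 25370) (l := 4) rfl N25370 D86352
theorem N48402 : nd 48402 = n86356 := ndS (p := 25371) (l := 3) rfl N25371 D86356
theorem N48403 : nd 48403 = n86357 := ndS (p := 25371) (l := 4) rfl N25371 D86357
theorem N48404 : nd 48404 = n86359 := ndS (p := 25371) (l := 6) rfl N25371 D86359
theorem N48405 : nd 48405 = n86360 := ndS (p := 25373) (l := 3) rfl N25373 D86360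
theorem N48406 : nd 48406 = n86361 := ndS (p := 25373) (l := 5) rfl N25373 D86361
theorem N48407 : nd 48407 = n86362 := ndS (p := 25374) (l := 0) rfl N25374 D86362
theorem N48408 : nd 48408 = n86363 := ndS (p := 25374) (l := 1) rfl N25374 D86363
theorem N48409 : nd 48409 = n86368 := ndS (p := 25375) (l := 4) rfl N25375 D86368
theorem N48410 : nd 48410 = n86375 := ndS (p := 25377) (l := 6) rfl N25377 D86375
theorem N48411 : nd 48411 = n86386 := ndS (p := 25379) (l := 4) rfl N25379 D86386
theorem N48412 : nd 48412 = n86392 := ndS (p := 25383) (l := 1) rfl N25383 D86392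
theorem N48413 : nd 48413 = n86393 := ndS (p := 25383) (l := 5) rfl N25383 D86393
theorem N48414 : nd 48414 = n86395 := ndS (p := 25384) (l := 6) rfl N25384 D86395
theorem N48415 : nd 48415 = n86407 := ndS (p := 25387) (l := 5) rfl N25387 D86407
theorem N48416 : nd 48416 = n86447 := ndS (p := 25393) (l := 4) rfl N25393 D86447
theorem N48417 : nd 48417 = n86448 := ndS (p := 25394) (l := 1) rfl N25394 D86448
theorem N48418 : nd 48418 = n86452 := ndS (p := 25395) (l := 4) rfl N25395 D86452
theorem N48419 : nd 48419 = n86453 := ndS (p := 25395) (l := 6) rfl N25395 D86453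
theorem N48420 : nd 48420 = n86455 := ndS (p := 25396) (l := 3) rfl N25396 D86455
theorem N48421 : nd 48421 = n86456 := ndS (p := 25396) (l := 4) rfl N25396 D86456
theorem N48422 : nd 48422 = n86458 := ndS (p := 25397) (l := 6) rfl N25397 D86458
theorem N48423 : nd 48423 = n86459 := ndS (p := 25398) (l := 0) rfl N25398 D86459
theorem N48424 : nd 48424 = n86460 := ndS (p := 25398) (l := 1) rfl N25398 D86460
theorem N48425 : nd 48425 = n86478 := ndS (p := 25404) (l := 2) rfl N25404 D86478
theorem N48426 : nd 48426 = n86479 := ndS (p := 25404) (l := 6) rfl N25404 D86479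
theorem N48427 : nd 48427 = n86482 := ndS (p := 25406) (l := 2) rfl N25406 D86482
theorem N48428 : nd 48428 = n86486 := ndS (p := 25407) (l := 0) rfl N25407 D86486
theorem N48429 : nd 48429 = n86487 := ndS (p := 25407) (l := 1) rfl N25407 D86487
theorem N48430 : nd 48430 = n86492 := ndS (p := 25409) (l := 3) rfl N25409 D86492
theorem N48431 : nd 48431 = n86497 := ndS (p := 25410) (l := 4) rfl N25410 D86497
theorem N48432 : nd 48432 = n86499 := ndS (p := 25412) (l := 3) rfl N25412 D86499
theorem N48433 : nd 48433 = n86501 := ndS (p := 25413) (l := 4) rfl N25413 D86501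
theorem N48434 : nd 48434 = n86502 := ndS (p := 25414) (l := 4) rfl N25414 D86502
theorem N48435 : nd 48435 = n86505 := ndS (p := 25415) (l := 3) rfl N25415 D86505
theorem N48436 : nd 48436 = n86506 := ndS (p := 25415) (l := 5) rfl N25415 D86506
theorem N48437 : nd 48437 = n86508 := ndS (p := 25418) (l := 1) rfl N25418 D86508
theorem N48438 : nd 48438 = n86509 := ndS (p := 25418) (l := 6) rfl N25418 D86509
theorem N48439 : nd 48439 = n86510 := ndS (p := 25419) (l := 5) rfl N25419 D86510
theorem N48440 : nd 48440 = n86511 := ndS (p := 25420) (l := 4) rfl N25420 D86511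
theorem N48441 : nd 48441 = n86513 := ndS (p := 25422) (l := 3) rfl N25422 D86513
theorem N48442 : nd 48442 = n86515 := ndS (p := 25423) (l := 6) rfl N25423 D86515
theorem N48443 : nd 48443 = n86521 := ndS (p := 25426) (l := 0) rfl N25426 D86521
theorem N48444 : nd 48444 = n86524 := ndS (p := 25426) (l := 7) rfl N25426 D86524
theorem N48445 : nd 48445 = n86530 := ndS (p := 25428) (l := 0) rfl N25428 D86530
theorem N48446 : nd 48446 = n86532 := ndS (p := 25428) (l := 4) rfl N25428 D86532
theorem N48447 : nd 48447 = n86533 := ndS (p := 25428) (l := 7) rfl N25428 D86533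
theorem N48448 : nd 48448 = n86540 := ndS (p := 25432) (l := 0) rfl N25432 D86540
theorem N48449 : nd 48449 = n86542 := ndS (p := 25432) (l := 3) rfl N25432 D86542
theorem N48450 : nd 48450 = n86543 := ndS (p := 25432) (l := 5) rfl N25432 D86543
theorem N48451 : nd 48451 = n86544 := ndS (p := 25432) (l := 7) rfl N25432 D86544
theorem N48452 : nd 48452 = n86548 := ndS (p := 25435) (l := 3) rfl N25435 D86548
theorem N48453 : nd 48453 = n86549 := ndS (p := 25435) (l := 5) rfl N25435 D86549
theorem N48454 : nd 48454 = n86565 := ndS (p := 25438) (l := 3) rfl N25438 D86565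
theorem N48455 : nd 48455 = n86566 := ndS (p := 25438) (l := 6) rfl N25438 D86566
theorem N48456 : nd 48456 = n86567 := ndS (p := 25439) (l := 6) rfl N25439 D86567
theorem N48457 : nd 48457 = n86569 := ndS (p := 25440) (l := 1) rfl N25440 D86569
theorem N48458 : nd 48458 = n86578 := ndS (p := 25442) (l := 4) rfl N25442 D86578
theorem N48459 : nd 48459 = n86580 := ndS (p := 25443) (l := 6) rfl N25443 D86580
theorem N48460 : nd 48460 = n86581 := ndS (p := 25444) (l := 5) rfl N25444 D86581
theorem N48461 : nd 48461 = n86583 := ndS (p := 25446) (l := 6) rfl N25446 D86583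
theorem N48462 : nd 48462 = n86584 := ndS (p := 25447) (l := 5) rfl N25447 D86584
theorem N48463 : nd 48463 = n86586 := ndS (p := 25449) (l := 6) rfl N25449 D86586
theorem N48464 : nd 48464 = n86587 := ndS (p := 25450) (l := 0) rfl N25450 D86587
theorem N48465 : nd 48465 = n86595 := ndS (p := 25452) (l := 5) rfl N25452 D86595
theorem N48466 : nd 48466 = n86598 := ndS (p := 25453) (l := 1) rfl N25453 D86598
theorem N48467 : nd 48467 = n86599 := ndS (p := 25453) (l := 4) rfl N25453 D86599
theorem N48468 : nd 48468 = n86600 := ndS (p := 25454) (l := 4) rfl N25454 D86600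
theorem N48469 : nd 48469 = n86606 := ndS (p := 25456) (l := 0) rfl N25456 D86606
theorem N48470 : nd 48470 = n86607 := ndS (p := 25456) (l := 1) rfl N25456 D86607
theorem N48471 : nd 48471 = n86609 := ndS (p := 25456) (l := 7) rfl N25456 D86609
theorem N48472 : nd 48472 = n86612 := ndS (p := 25457) (l := 4) rfl N25457 D86612
theorem N48473 : nd 48473 = n86613 := ndS (p := 25457) (l := 5) rfl N25457 D86613
theorem N48474 : nd 48474 = n86614 := ndS (p := 25457) (l := 6) rfl N25457 D86614
theorem N48475 : nd 48475 = n86617 := ndS (p := 25458) (l := 4) rfl N25458 D86617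
theorem N48476 : nd 48476 = n86642 := ndS (p := 25461) (l := 1) rfl N25461 D86642
theorem N48477 : nd 48477 = n86645 := ndS (p := 25461) (l := 6) rfl N25461 D86645
theorem N48478 : nd 48478 = n86647 := ndS (p := 25462) (l := 6) rfl N25462 D86647
theorem N48479 : nd 48479 = n86671 := ndS (p := 25464) (l := 0) rfl N25464 D86671
theorem N48480 : nd 48480 = n86672 := ndS (p := 25464) (l := 1) rfl N25464 D86672
theorem N48481 : nd 48481 = n86673 := ndS (p := 25464) (l := 4) rfl N25464 D86673
theorem N48482 : nd 48482 = n86692 := ndS (p := 25468) (l := 3) rfl N25468 D86692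
theorem N48483 : nd 48483 = n86699 := ndS (p := 25470) (l := 6) rfl N25470 D86699
theorem N48484 : nd 48484 = n86709 := ndS (p := 25473) (l := 4) rfl N25473 D86709
theorem N48485 : nd 48485 = n86710 := ndS (p := 25473) (l := 6) rfl N25473 D86710
theorem N48486 : nd 48486 = n86713 := ndS (p := 25475) (l := 3) rfl N25475 D86713
theorem N48487 : nd 48487 = n86714 := ndS (p := 25475) (l := 5) rfl N25475 D86714
theorem N48488 : nd 48488 = n86716 := ndS (p := 25476) (l := 4) rfl N25476 D86716
theorem N48489 : nd 48489 = n86719 := ndS (p := 25477) (l := 3) rfl N25477 D86719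
theorem N48490 : nd 48490 = n86721 := ndS (p := 25478) (l := 3) rfl N25478 D86721
theorem N48491 : nd 48491 = n86723 := ndS (p := 25478) (l := 6) rfl N25478 D86723
theorem N48492 : nd 48492 = n86724 := ndS (p := 25479) (l := 1) rfl N25479 D86724
theorem N48493 : nd 48493 = n86742 := ndS (p := 25482) (l := 5) rfl N25482 D86742
theorem N48494 : nd 48494 = n86745 := ndS (p := 25483) (l := 6) rfl N25483 D86745
theorem N48495 : nd 48495 = n86747 := ndS (p := 25485) (l := 0) rfl N25485 D86747
theorem N48496 : nd 48496 = n86783 := ndS (p := 25490) (l := 4) rfl N25490 D86783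
theorem N48497 : nd 48497 = n86784 := ndS (p := 25490) (l := 6) rfl N25490 D86784
theorem N48498 : nd 48498 = n86788 := ndS (p := 25491) (l := 5) rfl N25491 D86788
theorem N48499 : nd 48499 = n86792 := ndS (p := 25492) (l := 5) rfl N25492 D86792
theorem N48500 : nd 48500 = n86793 := ndS (p := 25492) (l := 6) rfl N25492 D86793
theorem N48501 : nd 48501 = n86794 := ndS (p := 25493) (l := 3) rfl N25493 D86794
theorem N48502 : nd 48502 = n86795 := ndS (p := 25493) (l := 5) rfl N25493 D86795
theorem N48503 : nd 48503 = n86796 := ndS (p := 25493) (l := 6) rfl N25493 D86796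
theorem N48504 : nd 48504 = n86797 := ndS (p := 25494) (l := 4) rfl N25494 D86797
theorem N48505 : nd 48505 = n86798 := ndS (p := 25494) (l := 6) rfl N25494 D86798
theorem N48506 : nd 48506 = n86805 := ndS (p := 25496) (l := 4) rfl N25496 D86805
theorem N48507 : nd 48507 = n86809 := ndS (p := 25497) (l := 3) rfl N25497 D86809
theorem N48508 : nd 48508 = n86810 := ndS (p := 25497) (l := 4) rfl N25497 D86810
theorem N48509 : nd 48509 = n86812 := ndS (p := 25497) (l := 6) rfl N25497 D86812
theorem N48510 : nd 48510 = n86823 := ndS (p := 25499) (l := 0) rfl N25499 D86823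
theorem N48511 : nd 48511 = n86824 := ndS (p := 25499) (l := 1) rfl N25499 D86824
theorem N48512 : nd 48512 = n86825 := ndS (p := 25499) (l := 2) rfl N25499 D86825
theorem N48513 : nd 48513 = n86826 := ndS (p := 25499) (l := 5) rfl N25499 D86826
theorem N48514 : nd 48514 = n86827 := ndS (p := 25500) (l := 6) rfl N25500 D86827
theorem N48515 : nd 48515 = n86831 := ndS (p := 25502) (l := 3) rfl N25502 D86831
theorem N48516 : nd 48516 = n86855 := ndS (p := 25503) (l := 5) rfl N25503 D86855
theorem N48517 : nd 48517 = n86871 := ndS (p := 25505) (l := 3) rfl N25505 D86871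
theorem N48518 : nd 48518 = n86873 := ndS (p := 25506) (l := 3) rfl N25506 D86873
theorem N48519 : nd 48519 = n86875 := ndS (p := 25507) (l := 0) rfl N25507 D86875
theorem N48520 : nd 48520 = n86876 := ndS (p := 25507) (l := 1) rfl N25507 D86876
theorem N48521 : nd 48521 = n86877 := ndS (p := 25507) (l := 2) rfl N25507 D86877
theorem N48522 : nd 48522 = n86878 := ndS (p := 25507) (l := 5) rfl N25507 D86878
theorem N48523 : nd 48523 = n86880 := ndS (p := 25508) (l := 1) rfl N25508 D86880
theorem N48524 : nd 48524 = n86881 := ndS (p := 25508) (l := 6) rfl N25508 D86881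
theorem N48525 : nd 48525 = n86882 := ndS (p := 25509) (l := 3) rfl N25509 D86882
theorem N48526 : nd 48526 = n86892 := ndS (p := 25512) (l := 0) rfl N25512 D86892
theorem N48527 : nd 48527 = n86894 := ndS (p := 25512) (l := 2) rfl N25512 D86894
theorem N48528 : nd 48528 = n86895 := ndS (p := 25512) (l := 5) rfl N25512 D86895
theorem N48529 : nd 48529 = n86896 := ndS (p := 25513) (l := 0) rfl N25513 D86896
theorem N48530 : nd 48530 = n86897 := ndS (p := 25513) (l := 6) rfl N25513 D86897
theorem N48531 : nd 48531 = n86898 := ndS (p := 25514) (l := 4) rfl N25514 D86898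
theorem N48532 : nd 48532 = n86899 := ndS (p := 25514) (l := 6) rfl N25514 D86899
theorem N48533 : nd 48533 = n86900 := ndS (p := 25515) (l := 0) rfl N25515 D86900
theorem N48534 : nd 48534 = n86901 := ndS (p := 25515) (l := 1) rfl N25515 D86901
theorem N48535 : nd 48535 = n86902 := ndS (p := 25515) (l := 5) rfl N25515 D86902
theorem N48536 : nd 48536 = n86903 := ndS (p := 25515) (l := 7) rfl N25515 D86903
theorem N48537 : nd 48537 = n86906 := ndS (p := 25516) (l := 5) rfl N25516 D86906
theorem N48538 : nd 48538 = n86908 := ndS (p := 25517) (l := 3) rfl N25517 D86908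
theorem N48539 : nd 48539 = n86909 := ndS (p := 25517) (l := 5) rfl N25517 D86909
theorem N48540 : nd 48540 = n86910 := ndS (p := 25518) (l := 4) rfl N25518 D86910
theorem N48541 : nd 48541 = n86911 := ndS (p := 25518) (l := 7) rfl N25518 D86911
theorem N48542 : nd 48542 = n86912 := ndS (p := 25520) (l := 0) rfl N25520 D86912
theorem N48543 : nd 48543 = n86913 := ndS (p := 25520) (l := 5) rfl N25520 D86913
theorem N48544 : nd 48544 = n86915 := ndS (p := 25521) (l := 5) rfl N25521 D86915
theorem N48545 : nd 48545 = n86916 := ndS (p := 25522) (l := 5) rfl N25522 D86916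
theorem N48546 : nd 48546 = n86917 := ndS (p := 25523) (l := 6) rfl N25523 D86917
theorem N48547 : nd 48547 = n86918 := ndS (p := 25524) (l := 1) rfl N25524 D86918
theorem N48548 : nd 48548 = n86919 := ndS (p := 25524) (l := 5) rfl N25524 D86919
theorem N48549 : nd 48549 = n86922 := ndS (p := 25525) (l := 5) rfl N25525 D86922
theorem N48550 : nd 48550 = n86928 := ndS (p := 25526) (l := 6) rfl N25526 D86928
theorem N48551 : nd 48551 = n86936 := ndS (p := 25528) (l := 6) rfl N25528 D86936
theorem N48552 : nd 48552 = n86937 := ndS (p := 25529) (l := 5) rfl N25529 D86937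
theorem N48553 : nd 48553 = n86938 := ndS (p := 25530) (l := 0) rfl N25530 D86938
theorem N48554 : nd 48554 = n86939 := ndS (p := 25530) (l := 1) rfl N25530 D86939
theorem N48555 : nd 48555 = n86940 := ndS (p := 25530) (l := 5) rfl N25530 D86940
theorem N48556 : nd 48556 = n86941 := ndS (p := 25530) (l := 7) rfl N25530 D86941
theorem N48557 : nd 48557 = n86942 := ndS (p := 25531) (l := 5) rfl N25531 D86942
theorem N48558 : nd 48558 = n86944 := ndS (p := 25532) (l := 0) rfl N25532 D86944
theorem N48559 : nd 48559 = n86945 := ndS (p := 25532) (l := 1) rfl N25532 D86945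
theorem N48560 : nd 48560 = n86946 := ndS (p := 25532) (l := 4) rfl N25532 D86946
theorem N48561 : nd 48561 = n86947 := ndS (p := 25533) (l := 6) rfl N25533 D86947
theorem N48562 : nd 48562 = n86948 := ndS (p := 25534) (l := 6) rfl N25534 D86948
theorem N48563 : nd 48563 = n86949 := ndS (p := 25535) (l := 0) rfl N25535 D86949
theorem N48564 : nd 48564 = n86950 := ndS (p := 25535) (l := 1) rfl N25535 D86950
theorem N48565 : nd 48565 = n86951 := ndS (p := 25535) (l := 5) rfl N25535 D86951
theorem N48566 : nd 48566 = n86956 := ndS (p := 25537) (l := 6) rfl N25537 D86956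
theorem N48567 : nd 48567 = n86959 := ndS (p := 25538) (l := 5) rfl N25538 D86959
theorem N48568 : nd 48568 = n86971 := ndS (p := 25539) (l := 0) rfl N25539 D86971
theorem N48569 : nd 48569 = n86972 := ndS (p := 25539) (l := 1) rfl N25539 D86972
theorem N48570 : nd 48570 = n86973 := ndS (p := 25539) (l := 4) rfl N25539 D86973
theorem N48571 : nd 48571 = n86975 := ndS (p := 25540) (l := 0) rfl N25540 D86975
theorem N48572 : nd 48572 = n86977 := ndS (p := 25540) (l := 2) rfl N25540 D86977
theorem N48573 : nd 48573 = n86978 := ndS (p := 25540) (l := 5) rfl N25540 D86978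
theorem N48574 : nd 48574 = n86979 := ndS (p := 25540) (l := 6) rfl N25540 D86979
theorem N48575 : nd 48575 = n86980 := ndS (p := 25541) (l := 0) rfl N25541 D86980
theorem N48576 : nd 48576 = n86982 := ndS (p := 25541) (l := 4) rfl N25541 D86982
theorem N48577 : nd 48577 = n86983 := ndS (p := 25541) (l := 6) rfl N25541 D86983
theorem N48578 : nd 48578 = n86985 := ndS (p := 25543) (l := 1) rfl N25543 D86985
theorem N48579 : nd 48579 = n86986 := ndS (p := 25543) (l := 2) rfl N25543 D86986
theorem N48580 : nd 48580 = n86987 := ndS (p := 25543) (l := 5) rfl N25543 D86987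
theorem N48581 : nd 48581 = n86988 := ndS (p := 25543) (l := 6) rfl N25543 D86988
theorem N48582 : nd 48582 = n86989 := ndS (p := 25544) (l := 4) rfl N25544 D86989
theorem N48583 : nd 48583 = n86990 := ndS (p := 25544) (l := 6) rfl N25544 D86990
theorem N48584 : nd 48584 = n86991 := ndS (p := 25546) (l := 3) rfl N25546 D86991
theorem N48585 : nd 48585 = n86992 := ndS (p := 25546) (l := 4) rfl N25546 D86992
theorem N48586 : nd 48586 = n86993 := ndS (p := 25546) (l := 6) rfl N25546 D86993
theorem N48587 : nd 48587 = n86994 := ndS (p := 25547) (l := 3) rfl N25547 D86994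
theorem N48588 : nd 48588 = n86995 := ndS (p := 25547) (l := 4) rfl N25547 D86995
theorem N48589 : nd 48589 = n86997 := ndS (p := 25548) (l := 0) rfl N25548 D86997
theorem N48590 : nd 48590 = n86998 := ndS (p := 25548) (l := 1) rfl N25548 D86998
theorem N48591 : nd 48591 = n86999 := ndS (p := 25548) (l := 3) rfl N25548 D86999
theorem N48592 : nd 48592 = n87000 := ndS (p := 25548) (l := 5) rfl N25548 D87000
theorem N48593 : nd 48593 = n87001 := ndS (p := 25548) (l := 7) rfl N25548 D87001
theorem N48594 : nd 48594 = n87002 := ndS (p := 25549) (l := 6) rfl N25549 D87002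
theorem N48595 : nd 48595 = n87005 := ndS (p := 25552) (l := 3) rfl N25552 D87005
theorem N48596 : nd 48596 = n87006 := ndS (p := 25552) (l := 5) rfl N25552 D87006
theorem N48597 : nd 48597 = n87007 := ndS (p := 25553) (l := 0) rfl N25553 D87007
theorem N48598 : nd 48598 = n87009 := ndS (p := 25553) (l := 2) rfl N25553 D87009
theorem N48599 : nd 48599 = n87010 := ndS (p := 25553) (l := 5) rfl N25553 D87010
theorem N48600 : nd 48600 = n87011 := ndS (p := 25553) (l := 6) rfl N25553 D87011
theorem N48601 : nd 48601 = n87012 := ndS (p := 25554) (l := 0) rfl N25554 D87012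
theorem N48602 : nd 48602 = n87013 := ndS (p := 25554) (l := 1) rfl N25554 D87013
theorem N48603 : nd 48603 = n87014 := ndS (p := 25554) (l := 4) rfl N25554 D87014
theorem N48604 : nd 48604 = n87015 := ndS (p := 25554) (l := 6) rfl N25554 D87015
theorem N48605 : nd 48605 = n87016 := ndS (p := 25555) (l := 1) rfl N25555 D87016
theorem N48606 : nd 48606 = n87017 := ndS (p := 25555) (l := 5) rfl N25555 D87017
theorem N48607 : nd 48607 = n87018 := ndS (p := 25556) (l := 4) rfl N25556 D87018
theorem N48608 : nd 48608 = n87019 := ndS (p := 25557) (l := 0) rfl N25557 D87019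
theorem N48609 : nd 48609 = n87020 := ndS (p := 25557) (l := 3) rfl N25557 D87020
theorem N48610 : nd 48610 = n87021 := ndS (p := 25557) (l := 5) rfl N25557 D87021
theorem N48611 : nd 48611 = n87023 := ndS (p := 25558) (l := 1) rfl N25558 D87023
theorem N48612 : nd 48612 = n87024 := ndS (p := 25559) (l := 0) rfl N25559 D87024
theorem N48613 : nd 48613 = n87026 := ndS (p := 25560) (l := 5) rfl N25560 D87026
theorem N48614 : nd 48614 = n87027 := ndS (p := 25560) (l := 6) rfl N25560 D87027
theorem N48615 : nd 48615 = n87028 := ndS (p := 25561) (l := 4) rfl N25561 D87028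
theorem N48616 : nd 48616 = n87029 := ndS (p := 25561) (l := 6) rfl N25561 D87029
theorem N48617 : nd 48617 = n87030 := ndS (p := 25562) (l := 0) rfl N25562 D87030
theorem N48618 : nd 48618 = n87032 := ndS (p := 25562) (l := 5) rfl N25562 D87032
theorem N48619 : nd 48619 = n87033 := ndS (p := 25563) (l := 3) rfl N25563 D87033
theorem N48620 : nd 48620 = n87034 := ndS (p := 25563) (l := 5) rfl N25563 D87034
theorem N48621 : nd 48621 = n87035 := ndS (p := 25564) (l := 0) rfl N25564 D87035
theorem N48622 : nd 48622 = n87037 := ndS (p := 25564) (l := 4) rfl N25564 D87037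
theorem N48623 : nd 48623 = n87039 := ndS (p := 25566) (l := 4) rfl N25566 D87039
theorem N48624 : nd 48624 = n87040 := ndS (p := 25567) (l := 0) rfl N25567 D87040
theorem N48625 : nd 48625 = n87041 := ndS (p := 25568) (l := 0) rfl N25568 D87041
theorem N48626 : nd 48626 = n87042 := ndS (p := 25568) (l := 4) rfl N25568 D87042
theorem N48627 : nd 48627 = n87047 := ndS (p := 25571) (l := 0) rfl N25571 D87047
theorem N48628 : nd 48628 = n87048 := ndS (p := 25571) (l := 1) rfl N25571 D87048
theorem N48629 : nd 48629 = n87053 := ndS (p := 25573) (l := 1) rfl N25573 D87053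
theorem N48630 : nd 48630 = n87055 := ndS (p := 25573) (l := 5) rfl N25573 D87055
theorem N48631 : nd 48631 = n87056 := ndS (p := 25574) (l := 6) rfl N25574 D87056
theorem N48632 : nd 48632 = n87059 := ndS (p := 25575) (l := 3) rfl N25575 D87059
theorem N48633 : nd 48633 = n87087 := ndS (p := 25577) (l := 5) rfl N25577 D87087
theorem N48634 : nd 48634 = n87089 := ndS (p := 25578) (l := 6) rfl N25578 D87089
theorem N48635 : nd 48635 = n87095 := ndS (p := 25579) (l := 0) rfl N25579 D87095
theorem N48636 : nd 48636 = n87096 := ndS (p := 25579) (l := 1) rfl N25579 D87096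
theorem N48637 : nd 48637 = n87097 := ndS (p := 25579) (l := 2) rfl N25579 D87097
theorem N48638 : nd 48638 = n87098 := ndS (p := 25579) (l := 4) rfl N25579 D87098
theorem N48639 : nd 48639 = n87099 := ndS (p := 25579) (l := 5) rfl N25579 D87099
theorem N48640 : nd 48640 = n87101 := ndS (p := 25580) (l := 6) rfl N25580 D87101
theorem N48641 : nd 48641 = n87104 := ndS (p := 25581) (l := 0) rfl N25581 D87104
theorem N48642 : nd 48642 = n87105 := ndS (p := 25581) (l := 1) rfl N25581 D87105
theorem N48643 : nd 48643 = n87106 := ndS (p := 25581) (l := 2) rfl N25581 D87106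
theorem N48644 : nd 48644 = n87108 := ndS (p := 25581) (l := 6) rfl N25581 D87108
theorem N48645 : nd 48645 = n87110 := ndS (p := 25583) (l := 5) rfl N25583 D87110
theorem N48646 : nd 48646 = n87124 := ndS (p := 25584) (l := 6) rfl N25584 D87124
theorem N48647 : nd 48647 = n87129 := ndS (p := 25586) (l := 3) rfl N25586 D87129
theorem N48648 : nd 48648 = n87130 := ndS (p := 25586) (l := 6) rfl N25586 D87130
theorem N48649 : nd 48649 = n87131 := ndS (p := 25587) (l := 0) rfl N25587 D87131
theorem N48650 : nd 48650 = n87132 := ndS (p := 25587) (l := 1) rfl N25587 D87132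
theorem N48651 : nd 48651 = n87133 := ndS (p := 25587) (l := 7) rfl N25587 D87133
theorem N48652 : nd 48652 = n87175 := ndS (p := 25591) (l := 0) rfl N25591 D87175
theorem N48653 : nd 48653 = n87176 := ndS (p := 25591) (l := 1) rfl N25591 D87176
theorem N48654 : nd 48654 = n87177 := ndS (p := 25591) (l := 2) rfl N25591 D87177
theorem N48655 : nd 48655 = n87178 := ndS (p := 25591) (l := 5) rfl N25591 D87178
theorem N48656 : nd 48656 = n87179 := ndS (p := 25592) (l := 6) rfl N25592 D87179
theorem N48657 : nd 48657 = n87180 := ndS (p := 25593) (l := 0) rfl N25593 D87180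
theorem N48658 : nd 48658 = n87181 := ndS (p := 25593) (l := 1) rfl N25593 D87181
theorem N48659 : nd 48659 = n87183 := ndS (p := 25593) (l := 5) rfl N25593 D87183
theorem N48660 : nd 48660 = n87184 := ndS (p := 25594) (l := 6) rfl N25594 D87184
theorem N48661 : nd 48661 = n87188 := ndS (p := 25595) (l := 0) rfl N25595 D87188
theorem N48662 : nd 48662 = n87189 := ndS (p := 25595) (l := 1) rfl N25595 D87189
theorem N48663 : nd 48663 = n87190 := ndS (p := 25595) (l := 2) rfl N25595 D87190
theorem N48664 : nd 48664 = n87213 := ndS (p := 25597) (l := 0) rfl N25597 D87213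
theorem N48665 : nd 48665 = n87214 := ndS (p := 25597) (l := 1) rfl N25597 D87214
theorem N48666 : nd 48666 = n87215 := ndS (p := 25597) (l := 2) rfl N25597 D87215
theorem N48667 : nd 48667 = n87216 := ndS (p := 25597) (l := 5) rfl N25597 D87216
theorem N48668 : nd 48668 = n87218 := ndS (p := 25598) (l := 6) rfl N25598 D87218
theorem N48669 : nd 48669 = n87223 := ndS (p := 25599) (l := 0) rfl N25599 D87223
theorem N48670 : nd 48670 = n87224 := ndS (p := 25599) (l := 1) rfl N25599 D87224
theorem N48671 : nd 48671 = n87226 := ndS (p := 25599) (l := 5) rfl N25599 D87226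
theorem N48672 : nd 48672 = n87244 := ndS (p := 25601) (l := 3) rfl N25601 D87244
theorem N48673 : nd 48673 = n87245 := ndS (p := 25601) (l := 6) rfl N25601 D87245
theorem N48674 : nd 48674 = n87246 := ndS (p := 25602) (l := 0) rfl N25602 D87246
theorem N48675 : nd 48675 = n87248 := ndS (p := 25602) (l := 7) rfl N25602 D87248
theorem N48676 : nd 48676 = n87289 := ndS (p := 25603) (l := 0) rfl N25603 D87289
theorem N48677 : nd 48677 = n87290 := ndS (p := 25603) (l := 1) rfl N25603 D87290
theorem N48678 : nd 48678 = n87291 := ndS (p := 25603) (l := 2) rfl N25603 D87291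
theorem N48679 : nd 48679 = n87292 := ndS (p := 25603) (l := 5) rfl N25603 D87292
theorem N48680 : nd 48680 = n87293 := ndS (p := 25604) (l := 6) rfl N25604 D87293
theorem N48681 : nd 48681 = n87312 := ndS (p := 25610) (l := 5) rfl N25610 D87312
theorem N48682 : nd 48682 = n87334 := ndS (p := 25611) (l := 6) rfl N25611 D87334
theorem N48683 : nd 48683 = n87335 := ndS (p := 25612) (l := 6) rfl N25612 D87335
theorem N48684 : nd 48684 = n87336 := ndS (p := 25613) (l := 6) rfl N25613 D87336
theorem N48685 : nd 48685 = n87337 := ndS (p := 25614) (l := 0) rfl N25614 D87337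
theorem N48686 : nd 48686 = n87338 := ndS (p := 25614) (l := 1) rfl N25614 D87338
theorem N48687 : nd 48687 = n87339 := ndS (p := 25614) (l := 5) rfl N25614 D87339
theorem N48688 : nd 48688 = n87342 := ndS (p := 25615) (l := 5) rfl N25615 D87342
theorem N48689 : nd 48689 = n87344 := ndS (p := 25616) (l := 0) rfl N25616 D87344
theorem N48690 : nd 48690 = n87345 := ndS (p := 25616) (l := 4) rfl N25616 D87345
theorem N48691 : nd 48691 = n87351 := ndS (p := 25617) (l := 1) rfl N25617 D87351
theorem N48692 : nd 48692 = n87352 := ndS (p := 25617) (l := 4) rfl N25617 D87352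
theorem N48693 : nd 48693 = n87353 := ndS (p := 25617) (l := 7) rfl N25617 D87353
theorem N48694 : nd 48694 = n87356 := ndS (p := 25619) (l := 5) rfl N25619 D87356
theorem N48695 : nd 48695 = n87358 := ndS (p := 25620) (l := 6) rfl N25620 D87358
theorem N48696 : nd 48696 = n87360 := ndS (p := 25621) (l := 1) rfl N25621 D87360
theorem N48697 : nd 48697 = n87361 := ndS (p := 25621) (l := 5) rfl N25621 D87361
theorem N48698 : nd 48698 = n87362 := ndS (p := 25621) (l := 7) rfl N25621 D87362
theorem N48699 : nd 48699 = n87363 := ndS (p := 25622) (l := 0) rfl N25622 D87363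
theorem N48700 : nd 48700 = n87364 := ndS (p := 25622) (l := 1) rfl N25622 D87364
theorem N48701 : nd 48701 = n87365 := ndS (p := 25622) (l := 5) rfl N25622 D87365
theorem N48702 : nd 48702 = n87366 := ndS (p := 25622) (l := 7) rfl N25622 D87366
theorem N48703 : nd 48703 = n87369 := ndS (p := 25623) (l := 5) rfl N25623 D87369
theorem N48704 : nd 48704 = n87373 := ndS (p := 25624) (l := 5) rfl N25624 D87373
theorem N48705 : nd 48705 = n87374 := ndS (p := 25624) (l := 6) rfl N25624 D87374
theorem N48706 : nd 48706 = n87376 := ndS (p := 25625) (l := 3) rfl N25625 D87376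
theorem N48707 : nd 48707 = n87378 := ndS (p := 25625) (l := 5) rfl N25625 D87378
theorem N48708 : nd 48708 = n87379 := ndS (p := 25625) (l := 6) rfl N25625 D87379
theorem N48709 : nd 48709 = n87380 := ndS (p := 25626) (l := 0) rfl N25626 D87380
theorem N48710 : nd 48710 = n87381 := ndS (p := 25626) (l := 1) rfl N25626 D87381
theorem N48711 : nd 48711 = n87382 := ndS (p := 25626) (l := 4) rfl N25626 D87382
theorem N48712 : nd 48712 = n87383 := ndS (p := 25626) (l := 7) rfl N25626 D87383
theorem N48713 : nd 48713 = n87384 := ndS (p := 25628) (l := 6) rfl N25628 D87384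
theorem N48714 : nd 48714 = n87387 := ndS (p := 25629) (l := 5) rfl N25629 D87387
theorem N48715 : nd 48715 = n87394 := ndS (p := 25630) (l := 3) rfl N25630 D87394
theorem N48716 : nd 48716 = n87396 := ndS (p := 25630) (l := 5) rfl N25630 D87396
theorem N48717 : nd 48717 = n87401 := ndS (p := 25631) (l := 5) rfl N25631 D87401
theorem N48718 : nd 48718 = n87402 := ndS (p := 25631) (l := 6) rfl N25631 D87402
theorem N48719 : nd 48719 = n87403 := ndS (p := 25632) (l := 0) rfl N25632 D87403
theorem N48720 : nd 48720 = n87404 := ndS (p := 25632) (l := 1) rfl N25632 D87404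
theorem N48721 : nd 48721 = n87405 := ndS (p := 25632) (l := 4) rfl N25632 D87405
theorem N48722 : nd 48722 = n87406 := ndS (p := 25632) (l := 7) rfl N25632 D87406
theorem N48723 : nd 48723 = n87407 := ndS (p := 25634) (l := 0) rfl N25634 D87407
theorem N48724 : nd 48724 = n87409 := ndS (p := 25634) (l := 5) rfl N25634 D87409
theorem N48725 : nd 48725 = n87410 := ndS (p := 25634) (l := 6) rfl N25634 D87410
theorem N48726 : nd 48726 = n87411 := ndS (p := 25635) (l := 1) rfl N25635 D87411
theorem N48727 : nd 48727 = n87412 := ndS (p := 25635) (l := 4) rfl N25635 D87412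
theorem N48728 : nd 48728 = n87413 := ndS (p := 25635) (l := 6) rfl N25635 D87413
theorem N48729 : nd 48729 = n87415 := ndS (p := 25637) (l := 4) rfl N25637 D87415
theorem N48730 : nd 48730 = n87416 := ndS (p := 25637) (l := 6) rfl N25637 D87416
theorem N48731 : nd 48731 = n87418 := ndS (p := 25638) (l := 5) rfl N25638 D87418
theorem N48732 : nd 48732 = n87419 := ndS (p := 25639) (l := 3) rfl N25639 D87419
theorem N48733 : nd 48733 = n87420 := ndS (p := 25639) (l := 4) rfl N25639 D87420
theorem N48734 : nd 48734 = n87421 := ndS (p := 25639) (l := 6) rfl N25639 D87421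
theorem N48735 : nd 48735 = n87423 := ndS (p := 25640) (l := 4) rfl N25640 D87423
theorem N48736 : nd 48736 = n87424 := ndS (p := 25640) (l := 6) rfl N25640 D87424
theorem N48737 : nd 48737 = n87425 := ndS (p := 25641) (l := 0) rfl N25641 D87425
theorem N48738 : nd 48738 = n87427 := ndS (p := 25641) (l := 3) rfl N25641 D87427
theorem N48739 : nd 48739 = n87428 := ndS (p := 25641) (l := 5) rfl N25641 D87428
theorem N48740 : nd 48740 = n87429 := ndS (p := 25641) (l := 7) rfl N25641 D87429
theorem N48741 : nd 48741 = n87430 := ndS (p := 25642) (l := 6) rfl N25642 D87430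
theorem N48742 : nd 48742 = n87431 := ndS (p := 25643) (l := 5) rfl N25643 D87431
theorem N48743 : nd 48743 = n87432 := ndS (p := 25643) (l := 6) rfl N25643 D87432
theorem N48744 : nd 48744 = n87433 := ndS (p := 25644) (l := 4) rfl N25644 D87433
theorem N48745 : nd 48745 = n87434 := ndS (p := 25644) (l := 6) rfl N25644 D87434
theorem N48746 : nd 48746 = n87435 := ndS (p := 25645) (l := 1) rfl N25645 D87435
theorem N48747 : nd 48747 = n87437 := ndS (p := 25646) (l := 3) rfl N25646 D87437
theorem N48748 : nd 48748 = n87438 := ndS (p := 25646) (l := 5) rfl N25646 D87438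
theorem N48749 : nd 48749 = n87457 := ndS (p := 25650) (l := 5) rfl N25650 D87457
theorem N48750 : nd 48750 = n87458 := ndS (p := 25650) (l := 6) rfl N25650 D87458
theorem N48751 : nd 48751 = n87459 := ndS (p := 25651) (l := 5) rfl N25651 D87459
theorem N48752 : nd 48752 = n87460 := ndS (p := 25651) (l := 6) rfl N25651 D87460
theorem N48753 : nd 48753 = n87461 := ndS (p := 25652) (l := 5) rfl N25652 D87461
theorem N48754 : nd 48754 = n87462 := ndS (p := 25652) (l := 6) rfl N25652 D87462
theorem N48755 : nd 48755 = n87463 := ndS (p := 25653) (l := 1) rfl N25653 D87463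
theorem N48756 : nd 48756 = n87464 := ndS (p := 25653) (l := 4) rfl N25653 D87464
theorem N48757 : nd 48757 = n87465 := ndS (p := 25653) (l := 6) rfl N25653 D87465
theorem N48758 : nd 48758 = n87466 := ndS (p := 25654) (l := 0) rfl N25654 D87466
theorem N48759 : nd 48759 = n87467 := ndS (p := 25654) (l := 1) rfl N25654 D87467
theorem N48760 : nd 48760 = n87468 := ndS (p := 25654) (l := 5) rfl N25654 D87468
theorem N48761 : nd 48761 = n87470 := ndS (p := 25655) (l := 6) rfl N25655 D87470
theorem N48762 : nd 48762 = n87473 := ndS (p := 25656) (l := 5) rfl N25656 D87473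
theorem N48763 : nd 48763 = n87474 := ndS (p := 25656) (l := 7) rfl N25656 D87474
theorem N48764 : nd 48764 = n87476 := ndS (p := 25657) (l := 4) rfl N25657 D87476
theorem N48765 : nd 48765 = n87493 := ndS (p := 25660) (l := 3) rfl N25660 D87493
theorem N48766 : nd 48766 = n87494 := ndS (p := 25660) (l := 6) rfl N25660 D87494
theorem N48767 : nd 48767 = n87536 := ndS (p := 25663) (l := 4) rfl N25663 D87536
theorem N48768 : nd 48768 = n87537 := ndS (p := 25663) (l := 6) rfl N25663 D87537
theorem N48769 : nd 48769 = n87538 := ndS (p := 25664) (l := 0) rfl N25664 D87538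
theorem N48770 : nd 48770 = n87540 := ndS (p := 25664) (l := 5) rfl N25664 D87540
theorem N48771 : nd 48771 = n87541 := ndS (p := 25664) (l := 7) rfl N25664 D87541
theorem N48772 : nd 48772 = n87542 := ndS (p := 25665) (l := 6) rfl N25665 D87542
theorem N48773 : nd 48773 = n87543 := ndS (p := 25666) (l := 5) rfl N25666 D87543
theorem N48774 : nd 48774 = n87544 := ndS (p := 25667) (l := 6) rfl N25667 D87544
theorem N48775 : nd 48775 = n87545 := ndS (p := 25668) (l := 6) rfl N25668 D87545
theorem N48776 : nd 48776 = n87546 := ndS (p := 25669) (l := 0) rfl N25669 D87546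
theorem N48777 : nd 48777 = n87548 := ndS (p := 25669) (l := 5) rfl N25669 D87548
theorem N48778 : nd 48778 = n87549 := ndS (p := 25669) (l := 7) rfl N25669 D87549
theorem N48779 : nd 48779 = n87550 := ndS (p := 25670) (l := 5) rfl N25670 D87550
theorem N48780 : nd 48780 = n87551 := ndS (p := 25670) (l := 6) rfl N25670 D87551
theorem N48781 : nd 48781 = n87552 := ndS (p := 25671) (l := 0) rfl N25671 D87552
theorem N48782 : nd 48782 = n87554 := ndS (p := 25671) (l := 4) rfl N25671 D87554
theorem N48783 : nd 48783 = n87557 := ndS (p := 25672) (l := 3) rfl N25672 D87557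
theorem N48784 : nd 48784 = n87559 := ndS (p := 25672) (l := 5) rfl N25672 D87559
theorem N48785 : nd 48785 = n87566 := ndS (p := 25673) (l := 0) rfl N25673 D87566
theorem N48786 : nd 48786 = n87567 := ndS (p := 25673) (l := 1) rfl N25673 D87567
theorem N48787 : nd 48787 = n87568 := ndS (p := 25673) (l := 4) rfl N25673 D87568
theorem N48788 : nd 48788 = n87569 := ndS (p := 25673) (l := 7) rfl N25673 D87569
theorem N48789 : nd 48789 = n87571 := ndS (p := 25675) (l := 5) rfl N25675 D87571
theorem N48790 : nd 48790 = n87572 := ndS (p := 25675) (l := 6) rfl N25675 D87572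
theorem N48791 : nd 48791 = n87576 := ndS (p := 25676) (l := 6) rfl N25676 D87576
theorem N48792 : nd 48792 = n87578 := ndS (p := 25678) (l := 1) rfl N25678 D87578
theorem N48793 : nd 48793 = n87579 := ndS (p := 25678) (l := 2) rfl N25678 D87579
theorem N48794 : nd 48794 = n87580 := ndS (p := 25678) (l := 5) rfl N25678 D87580
theorem N48795 : nd 48795 = n87581 := ndS (p := 25678) (l := 6) rfl N25678 D87581
theorem N48796 : nd 48796 = n87583 := ndS (p := 25679) (l := 6) rfl N25679 D87583
theorem N48797 : nd 48797 = n87584 := ndS (p := 25681) (l := 3) rfl N25681 D87584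
theorem N48798 : nd 48798 = n87585 := ndS (p := 25681) (l := 4) rfl N25681 D87585
theorem N48799 : nd 48799 = n87586 := ndS (p := 25681) (l := 6) rfl N25681 D87586
theorem N48800 : nd 48800 = n87587 := ndS (p := 25682) (l := 3) rfl N25682 D87587
theorem N48801 : nd 48801 = n87588 := ndS (p := 25682) (l := 4) rfl N25682 D87588
theorem N48802 : nd 48802 = n87589 := ndS (p := 25682) (l := 6) rfl N25682 D87589
theorem N48803 : nd 48803 = n87592 := ndS (p := 25683) (l := 3) rfl N25683 D87592
theorem N48804 : nd 48804 = n87596 := ndS (p := 25684) (l := 5) rfl N25684 D87596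
theorem N48805 : nd 48805 = n87597 := ndS (p := 25684) (l := 6) rfl N25684 D87597
theorem N48806 : nd 48806 = n87599 := ndS (p := 25685) (l := 6) rfl N25685 D87599
theorem N48807 : nd 48807 = n87666 := ndS (p := 25687) (l := 5) rfl N25687 D87666
theorem N48808 : nd 48808 = n87673 := ndS (p := 25688) (l := 3) rfl N25688 D87673
theorem N48809 : nd 48809 = n87674 := ndS (p := 25688) (l := 4) rfl N25688 D87674
theorem N48810 : nd 48810 = n87675 := ndS (p := 25688) (l := 5) rfl N25688 D87675
theorem N48811 : nd 48811 = n87676 := ndS (p := 25688) (l := 6) rfl N25688 D87676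
theorem N48812 : nd 48812 = n87678 := ndS (p := 25689) (l := 3) rfl N25689 D87678
theorem N48813 : nd 48813 = n87679 := ndS (p := 25689) (l := 4) rfl N25689 D87679
theorem N48814 : nd 48814 = n87680 := ndS (p := 25689) (l := 5) rfl N25689 D87680
theorem N48815 : nd 48815 = n87682 := ndS (p := 25690) (l := 0) rfl N25690 D87682
theorem N48816 : nd 48816 = n87683 := ndS (p := 25690) (l := 1) rfl N25690 D87683
theorem N48817 : nd 48817 = n87684 := ndS (p := 25690) (l := 4) rfl N25690 D87684
theorem N48818 : nd 48818 = n87685 := ndS (p := 25690) (l := 7) rfl N25690 D87685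
theorem N48819 : nd 48819 = n87701 := ndS (p := 25692) (l := 1) rfl N25692 D87701
theorem N48820 : nd 48820 = n87702 := ndS (p := 25692) (l := 2) rfl N25692 D87702
theorem N48821 : nd 48821 = n87703 := ndS (p := 25692) (l := 5) rfl N25692 D87703
theorem N48822 : nd 48822 = n87705 := ndS (p := 25693) (l := 4) rfl N25693 D87705
theorem N48823 : nd 48823 = n87706 := ndS (p := 25693) (l := 6) rfl N25693 D87706
theorem N48824 : nd 48824 = n87707 := ndS (p := 25694) (l := 3) rfl N25694 D87707
theorem N48825 : nd 48825 = n87708 := ndS (p := 25694) (l := 4) rfl N25694 D87708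
theorem N48826 : nd 48826 = n87709 := ndS (p := 25694) (l := 6) rfl N25694 D87709
theorem N48827 : nd 48827 = n87710 := ndS (p := 25695) (l := 3) rfl N25695 D87710
theorem N48828 : nd 48828 = n87711 := ndS (p := 25695) (l := 4) rfl N25695 D87711
theorem N48829 : nd 48829 = n87712 := ndS (p := 25695) (l := 6) rfl N25695 D87712
theorem N48830 : nd 48830 = n87713 := ndS (p := 25696) (l := 0) rfl N25696 D87713
theorem N48831 : nd 48831 = n87714 := ndS (p := 25696) (l := 1) rfl N25696 D87714
theorem N48832 : nd 48832 = n87715 := ndS (p := 25696) (l := 3) rfl N25696 D87715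
theorem N48833 : nd 48833 = n87716 := ndS (p := 25697) (l := 6) rfl N25697 D87716
theorem N48834 : nd 48834 = n87717 := ndS (p := 25699) (l := 5) rfl N25699 D87717
theorem N48835 : nd 48835 = n87718 := ndS (p := 25700) (l := 0) rfl N25700 D87718
theorem N48836 : nd 48836 = n87719 := ndS (p := 25700) (l := 2) rfl N25700 D87719
theorem N48837 : nd 48837 = n87720 := ndS (p := 25700) (l := 5) rfl N25700 D87720
theorem N48838 : nd 48838 = n87721 := ndS (p := 25701) (l := 0) rfl N25701 D87721
theorem N48839 : nd 48839 = n87722 := ndS (p := 25701) (l := 1) rfl N25701 D87722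
theorem N48840 : nd 48840 = n87723 := ndS (p := 25701) (l := 4) rfl N25701 D87723
theorem N48841 : nd 48841 = n87725 := ndS (p := 25702) (l := 3) rfl N25702 D87725
theorem N48842 : nd 48842 = n87726 := ndS (p := 25703) (l := 4) rfl N25703 D87726
theorem N48843 : nd 48843 = n87727 := ndS (p := 25703) (l := 6) rfl N25703 D87727
theorem N48844 : nd 48844 = n87731 := ndS (p := 25705) (l := 5) rfl N25705 D87731
theorem N48845 : nd 48845 = n87732 := ndS (p := 25705) (l := 6) rfl N25705 D87732
theorem N48846 : nd 48846 = n87740 := ndS (p := 25708) (l := 6) rfl N25708 D87740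
theorem N48847 : nd 48847 = n87741 := ndS (p := 25709) (l := 6) rfl N25709 D87741
theorem N48848 : nd 48848 = n87742 := ndS (p := 25710) (l := 0) rfl N25710 D87742
theorem N48849 : nd 48849 = n87743 := ndS (p := 25710) (l := 1) rfl N25710 D87743
theorem N48850 : nd 48850 = n87744 := ndS (p := 25710) (l := 5) rfl N25710 D87744
theorem N48851 : nd 48851 = n87745 := ndS (p := 25711) (l := 0) rfl N25711 D87745
theorem N48852 : nd 48852 = n87746 := ndS (p := 25711) (l := 4) rfl N25711 D87746
theorem N48853 : nd 48853 = n87747 := ndS (p := 25712) (l := 4) rfl N25712 D87747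
theorem N48854 : nd 48854 = n87750 := ndS (p := 25713) (l := 5) rfl N25713 D87750
theorem N48855 : nd 48855 = n87752 := ndS (p := 25714) (l := 6) rfl N25714 D87752
theorem N48856 : nd 48856 = n87755 := ndS (p := 25715) (l := 5) rfl N25715 D87755
theorem N48857 : nd 48857 = n87757 := ndS (p := 25716) (l := 0) rfl N25716 D87757
theorem N48858 : nd 48858 = n87758 := ndS (p := 25716) (l := 1) rfl N25716 D87758
theorem N48859 : nd 48859 = n87759 := ndS (p := 25716) (l := 5) rfl N25716 D87759
theorem N48860 : nd 48860 = n87760 := ndS (p := 25716) (l := 7) rfl N25716 D87760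
theorem N48861 : nd 48861 = n87762 := ndS (p := 25717) (l := 4) rfl N25717 D87762
theorem N48862 : nd 48862 = n87763 := ndS (p := 25717) (l := 5) rfl N25717 D87763
theorem N48863 : nd 48863 = n87764 := ndS (p := 25717) (l := 6) rfl N25717 D87764
theorem N48864 : nd 48864 = n87766 := ndS (p := 25718) (l := 3) rfl N25718 D87766
theorem N48865 : nd 48865 = n87767 := ndS (p := 25718) (l := 4) rfl N25718 D87767
theorem N48866 : nd 48866 = n87768 := ndS (p := 25718) (l := 5) rfl N25718 D87768
theorem N48867 : nd 48867 = n87769 := ndS (p := 25718) (l := 6) rfl N25718 D87769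
theorem N48868 : nd 48868 = n87770 := ndS (p := 25719) (l := 0) rfl N25719 D87770
theorem N48869 : nd 48869 = n87771 := ndS (p := 25719) (l := 1) rfl N25719 D87771
theorem N48870 : nd 48870 = n87772 := ndS (p := 25719) (l := 4) rfl N25719 D87772
theorem N48871 : nd 48871 = n87773 := ndS (p := 25719) (l := 7) rfl N25719 D87773
theorem N48872 : nd 48872 = n87785 := ndS (p := 25721) (l := 3) rfl N25721 D87785
theorem N48873 : nd 48873 = n87787 := ndS (p := 25721) (l := 5) rfl N25721 D87787
theorem N48874 : nd 48874 = n87788 := ndS (p := 25721) (l := 6) rfl N25721 D87788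
theorem N48875 : nd 48875 = n87792 := ndS (p := 25722) (l := 5) rfl N25722 D87792
theorem N48876 : nd 48876 = n87794 := ndS (p := 25723) (l := 0) rfl N25723 D87794
theorem N48877 : nd 48877 = n87795 := ndS (p := 25723) (l := 1) rfl N25723 D87795
theorem N48878 : nd 48878 = n87796 := ndS (p := 25723) (l := 4) rfl N25723 D87796
theorem N48879 : nd 48879 = n87797 := ndS (p := 25723) (l := 7) rfl N25723 D87797
theorem N48880 : nd 48880 = n87798 := ndS (p := 25725) (l := 0) rfl N25725 D87798
theorem N48881 : nd 48881 = n87800 := ndS (p := 25725) (l := 5) rfl N25725 D87800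
theorem N48882 : nd 48882 = n87801 := ndS (p := 25725) (l := 6) rfl N25725 D87801
theorem N48883 : nd 48883 = n87802 := ndS (p := 25726) (l := 1) rfl N25726 D87802
theorem N48884 : nd 48884 = n87803 := ndS (p := 25726) (l := 4) rfl N25726 D87803
theorem N48885 : nd 48885 = n87804 := ndS (p := 25726) (l := 6) rfl N25726 D87804
theorem N48886 : nd 48886 = n87805 := ndS (p := 25728) (l := 4) rfl N25728 D87805
theorem N48887 : nd 48887 = n87806 := ndS (p := 25728) (l := 6) rfl N25728 D87806
theorem N48888 : nd 48888 = n87808 := ndS (p := 25729) (l := 5) rfl N25729 D87808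
theorem N48889 : nd 48889 = n87809 := ndS (p := 25730) (l := 3) rfl N25730 D87809
theorem N48890 : nd 48890 = n87810 := ndS (p := 25730) (l := 4) rfl N25730 D87810
theorem N48891 : nd 48891 = n87812 := ndS (p := 25730) (l := 6) rfl N25730 D87812
theorem N48892 : nd 48892 = n87814 := ndS (p := 25731) (l := 4) rfl N25731 D87814
theorem N48893 : nd 48893 = n87815 := ndS (p := 25731) (l := 6) rfl N25731 D87815
theorem N48894 : nd 48894 = n87818 := ndS (p := 25732) (l := 3) rfl N25732 D87818
theorem N48895 : nd 48895 = n87820 := ndS (p := 25732) (l := 7) rfl N25732 D87820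
theorem N48896 : nd 48896 = n87821 := ndS (p := 25733) (l := 6) rfl N25733 D87821
theorem N48897 : nd 48897 = n87822 := ndS (p := 25734) (l := 5) rfl N25734 D87822
theorem N48898 : nd 48898 = n87824 := ndS (p := 25735) (l := 4) rfl N25735 D87824
theorem N48899 : nd 48899 = n87825 := ndS (p := 25735) (l := 6) rfl N25735 D87825
theorem N48900 : nd 48900 = n87826 := ndS (p := 25736) (l := 3) rfl N25736 D87826
theorem N48901 : nd 48901 = n87848 := ndS (p := 25738) (l := 1) rfl N25738 D87848
theorem N48902 : nd 48902 = n87849 := ndS (p := 25738) (l := 7) rfl N25738 D87849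
theorem N48903 : nd 48903 = n87850 := ndS (p := 25740) (l := 6) rfl N25740 D87850
theorem N48904 : nd 48904 = n87851 := ndS (p := 25741) (l := 6) rfl N25741 D87851
theorem N48905 : nd 48905 = n87852 := ndS (p := 25742) (l := 5) rfl N25742 D87852
theorem N48906 : nd 48906 = n87853 := ndS (p := 25742) (l := 6) rfl N25742 D87853
theorem N48907 : nd 48907 = n87854 := ndS (p := 25743) (l := 1) rfl N25743 D87854
theorem N48908 : nd 48908 = n87856 := ndS (p := 25743) (l := 6) rfl N25743 D87856
theorem N48909 : nd 48909 = n87857 := ndS (p := 25744) (l := 0) rfl N25744 D87857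
theorem N48910 : nd 48910 = n87858 := ndS (p := 25744) (l := 1) rfl N25744 D87858
theorem N48911 : nd 48911 = n87859 := ndS (p := 25744) (l := 5) rfl N25744 D87859
theorem N48912 : nd 48912 = n87862 := ndS (p := 25745) (l := 5) rfl N25745 D87862
theorem N48913 : nd 48913 = n87863 := ndS (p := 25745) (l := 7) rfl N25745 D87863
theorem N48914 : nd 48914 = n87864 := ndS (p := 25746) (l := 0) rfl N25746 D87864
theorem N48915 : nd 48915 = n87865 := ndS (p := 25746) (l := 4) rfl N25746 D87865
theorem N48916 : nd 48916 = n87873 := ndS (p := 25750) (l := 3) rfl N25750 D87873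
theorem N48917 : nd 48917 = n87876 := ndS (p := 25752) (l := 5) rfl N25752 D87876
theorem N48918 : nd 48918 = n87877 := ndS (p := 25753) (l := 5) rfl N25753 D87877
theorem N48919 : nd 48919 = n87878 := ndS (p := 25754) (l := 4) rfl N25754 D87878
theorem N48920 : nd 48920 = n87879 := ndS (p := 25754) (l := 6) rfl N25754 D87879
theorem N48921 : nd 48921 = n87880 := ndS (p := 25755) (l := 0) rfl N25755 D87880
theorem N48922 : nd 48922 = n87882 := ndS (p := 25755) (l := 5) rfl N25755 D87882
theorem N48923 : nd 48923 = n87884 := ndS (p := 25756) (l := 5) rfl N25756 D87884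
theorem N48924 : nd 48924 = n87886 := ndS (p := 25757) (l := 0) rfl N25757 D87886
theorem N48925 : nd 48925 = n87888 := ndS (p := 25757) (l := 4) rfl N25757 D87888
theorem N48926 : nd 48926 = n87889 := ndS (p := 25757) (l := 7) rfl N25757 D87889
theorem N48927 : nd 48927 = n87893 := ndS (p := 25759) (l := 5) rfl N25759 D87893
theorem N48928 : nd 48928 = n87896 := ndS (p := 25760) (l := 3) rfl N25760 D87896
theorem N48929 : nd 48929 = n87898 := ndS (p := 25760) (l := 5) rfl N25760 D87898
theorem N48930 : nd 48930 = n87901 := ndS (p := 25761) (l := 1) rfl N25761 D87901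
theorem N48931 : nd 48931 = n87902 := ndS (p := 25761) (l := 4) rfl N25761 D87902
theorem N48932 : nd 48932 = n87903 := ndS (p := 25761) (l := 7) rfl N25761 D87903
theorem N48933 : nd 48933 = n87909 := ndS (p := 25764) (l := 6) rfl N25764 D87909
theorem N48934 : nd 48934 = n87911 := ndS (p := 25765) (l := 1) rfl N25765 D87911
theorem N48935 : nd 48935 = n87912 := ndS (p := 25765) (l := 2) rfl N25765 D87912
theorem N48936 : nd 48936 = n87913 := ndS (p := 25765) (l := 5) rfl N25765 D87913
theorem N48937 : nd 48937 = n87914 := ndS (p := 25765) (l := 6) rfl N25765 D87914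
theorem N48938 : nd 48938 = n87916 := ndS (p := 25766) (l := 6) rfl N25766 D87916
theorem N48939 : nd 48939 = n87919 := ndS (p := 25768) (l := 5) rfl N25768 D87919
theorem N48940 : nd 48940 = n87920 := ndS (p := 25768) (l := 6) rfl N25768 D87920
theorem N48941 : nd 48941 = n87921 := ndS (p := 25769) (l := 3) rfl N25769 D87921
theorem N48942 : nd 48942 = n87922 := ndS (p := 25769) (l := 4) rfl N25769 D87922
theorem N48943 : nd 48943 = n87923 := ndS (p := 25769) (l := 6) rfl N25769 D87923
theorem N48944 : nd 48944 = n87924 := ndS (p := 25770) (l := 0) rfl N25770 D87924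
theorem N48945 : nd 48945 = n87925 := ndS (p := 25770) (l := 1) rfl N25770 D87925
theorem N48946 : nd 48946 = n87926 := ndS (p := 25770) (l := 3) rfl N25770 D87926
theorem N48947 : nd 48947 = n87928 := ndS (p := 25770) (l := 7) rfl N25770 D87928
theorem N48948 : nd 48948 = n87929 := ndS (p := 25771) (l := 6) rfl N25771 D87929
theorem N48949 : nd 48949 = n87930 := ndS (p := 25772) (l := 5) rfl N25772 D87930
theorem N48950 : nd 48950 = n87931 := ndS (p := 25772) (l := 6) rfl N25772 D87931
theorem N48951 : nd 48951 = n87933 := ndS (p := 25773) (l := 6) rfl N25773 D87933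
theorem N48952 : nd 48952 = n87936 := ndS (p := 25775) (l := 3) rfl N25775 D87936
theorem N48953 : nd 48953 = n87937 := ndS (p := 25775) (l := 5) rfl N25775 D87937
theorem N48954 : nd 48954 = n87938 := ndS (p := 25775) (l := 6) rfl N25775 D87938
theorem N48955 : nd 48955 = n87939 := ndS (p := 25777) (l := 3) rfl N25777 D87939
theorem N48956 : nd 48956 = n87940 := ndS (p := 25777) (l := 5) rfl N25777 D87940
theorem N48957 : nd 48957 = n87944 := ndS (p := 25778) (l := 6) rfl N25778 D87944
theorem N48958 : nd 48958 = n87945 := ndS (p := 25779) (l := 0) rfl N25779 D87945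
theorem N48959 : nd 48959 = n87946 := ndS (p := 25779) (l := 1) rfl N25779 D87946
theorem N48960 : nd 48960 = n87947 := ndS (p := 25779) (l := 2) rfl N25779 D87947
theorem N48961 : nd 48961 = n87948 := ndS (p := 25779) (l := 5) rfl N25779 D87948
theorem N48962 : nd 48962 = n87949 := ndS (p := 25779) (l := 7) rfl N25779 D87949
theorem N48963 : nd 48963 = n87953 := ndS (p := 25780) (l := 6) rfl N25780 D87953
theorem N48964 : nd 48964 = n87954 := ndS (p := 25780) (l := 7) rfl N25780 D87954
theorem N48965 : nd 48965 = n87956 := ndS (p := 25782) (l := 6) rfl N25782 D87956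
theorem N48966 : nd 48966 = n87959 := ndS (p := 25783) (l := 5) rfl N25783 D87959
theorem N48967 : nd 48967 = n87961 := ndS (p := 25784) (l := 6) rfl N25784 D87961
theorem N48968 : nd 48968 = n87962 := ndS (p := 25785) (l := 6) rfl N25785 D87962
theorem N48969 : nd 48969 = n87965 := ndS (p := 25786) (l := 5) rfl N25786 D87965
theorem N48970 : nd 48970 = n87967 := ndS (p := 25787) (l := 0) rfl N25787 D87967
theorem N48971 : nd 48971 = n87969 := ndS (p := 25787) (l := 5) rfl N25787 D87969
theorem N48972 : nd 48972 = n87970 := ndS (p := 25787) (l := 7) rfl N25787 D87970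
theorem N48973 : nd 48973 = n87972 := ndS (p := 25788) (l := 5) rfl N25788 D87972
theorem N48974 : nd 48974 = n87974 := ndS (p := 25790) (l := 4) rfl N25790 D87974
theorem N48975 : nd 48975 = n87975 := ndS (p := 25790) (l := 6) rfl N25790 D87975
theorem N48976 : nd 48976 = n87976 := ndS (p := 25791) (l := 1) rfl N25791 D87976
theorem N48977 : nd 48977 = n87977 := ndS (p := 25791) (l := 5) rfl N25791 D87977
theorem N48978 : nd 48978 = n87978 := ndS (p := 25791) (l := 6) rfl N25791 D87978
theorem N48979 : nd 48979 = n87979 := ndS (p := 25792) (l := 0) rfl N25792 D87979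
theorem N48980 : nd 48980 = n87980 := ndS (p := 25792) (l := 1) rfl N25792 D87980
theorem N48981 : nd 48981 = n87981 := ndS (p := 25792) (l := 5) rfl N25792 D87981
theorem N48982 : nd 48982 = n87982 := ndS (p := 25792) (l := 7) rfl N25792 D87982
theorem N48983 : nd 48983 = n87985 := ndS (p := 25793) (l := 4) rfl N25793 D87985
theorem N48984 : nd 48984 = n87986 := ndS (p := 25793) (l := 5) rfl N25793 D87986
theorem N48985 : nd 48985 = n87987 := ndS (p := 25793) (l := 6) rfl N25793 D87987
theorem N48986 : nd 48986 = n87989 := ndS (p := 25794) (l := 3) rfl N25794 D87989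
theorem N48987 : nd 48987 = n87990 := ndS (p := 25794) (l := 4) rfl N25794 D87990
theorem N48988 : nd 48988 = n87991 := ndS (p := 25794) (l := 5) rfl N25794 D87991
theorem N48989 : nd 48989 = n87992 := ndS (p := 25794) (l := 6) rfl N25794 D87992
theorem N48990 : nd 48990 = n87993 := ndS (p := 25795) (l := 0) rfl N25795 D87993
theorem N48991 : nd 48991 = n87994 := ndS (p := 25795) (l := 1) rfl N25795 D87994
theorem N48992 : nd 48992 = n87995 := ndS (p := 25795) (l := 4) rfl N25795 D87995
theorem N48993 : nd 48993 = n87996 := ndS (p := 25795) (l := 7) rfl N25795 D87996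
theorem N48994 : nd 48994 = n87997 := ndS (p := 25797) (l := 4) rfl N25797 D87997
theorem N48995 : nd 48995 = n88004 := ndS (p := 25798) (l := 3) rfl N25798 D88004
theorem N48996 : nd 48996 = n88006 := ndS (p := 25798) (l := 5) rfl N25798 D88006
theorem N48997 : nd 48997 = n88007 := ndS (p := 25798) (l := 6) rfl N25798 D88007
theorem N48998 : nd 48998 = n88011 := ndS (p := 25799) (l := 5) rfl N25799 D88011
theorem N48999 : nd 48999 = n88015 := ndS (p := 25800) (l := 4) rfl N25800 D88015
theorem N49000 : nd 49000 = n88016 := ndS (p := 25800) (l := 7) rfl N25800 D88016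
theorem N49001 : nd 49001 = n88017 := ndS (p := 25802) (l := 3) rfl N25802 D88017
theorem N49002 : nd 49002 = n88018 := ndS (p := 25802) (l := 6) rfl N25802 D88018
theorem N49003 : nd 49003 = n88020 := ndS (p := 25803) (l := 0) rfl N25803 D88020
theorem N49004 : nd 49004 = n88021 := ndS (p := 25803) (l := 1) rfl N25803 D88021
theorem N49005 : nd 49005 = n88022 := ndS (p := 25803) (l := 3) rfl N25803 D88022
theorem N49006 : nd 49006 = n88024 := ndS (p := 25803) (l := 7) rfl N25803 D88024
theorem N49007 : nd 49007 = n88025 := ndS (p := 25804) (l := 6) rfl N25804 D88025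
theorem N49008 : nd 49008 = n88026 := ndS (p := 25805) (l := 6) rfl N25805 D88026
theorem N49009 : nd 49009 = n88029 := ndS (p := 25806) (l := 5) rfl N25806 D88029
theorem N49010 : nd 49010 = n88033 := ndS (p := 25807) (l := 5) rfl N25807 D88033
theorem N49011 : nd 49011 = n88035 := ndS (p := 25808) (l := 1) rfl N25808 D88035
theorem N49012 : nd 49012 = n88036 := ndS (p := 25808) (l := 5) rfl N25808 D88036
theorem N49013 : nd 49013 = n88037 := ndS (p := 25808) (l := 7) rfl N25808 D88037
theorem N49014 : nd 49014 = n88039 := ndS (p := 25809) (l := 3) rfl N25809 D88039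
theorem N49015 : nd 49015 = n88046 := ndS (p := 25810) (l := 6) rfl N25810 D88046
theorem N49016 : nd 49016 = n88054 := ndS (p := 25813) (l := 5) rfl N25813 D88054
theorem N49017 : nd 49017 = n88055 := ndS (p := 25813) (l := 6) rfl N25813 D88055
theorem N49018 : nd 49018 = n88057 := ndS (p := 25814) (l := 3) rfl N25814 D88057
theorem N49019 : nd 49019 = n88059 := ndS (p := 25814) (l := 5) rfl N25814 D88059
theorem N49020 : nd 49020 = n88060 := ndS (p := 25814) (l := 6) rfl N25814 D88060
theorem N49021 : nd 49021 = n88063 := ndS (p := 25815) (l := 4) rfl N25815 D88063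
theorem N49022 : nd 49022 = n88065 := ndS (p := 25817) (l := 6) rfl N25817 D88065
theorem N49023 : nd 49023 = n88066 := ndS (p := 25818) (l := 3) rfl N25818 D88066
theorem N49024 : nd 49024 = n88067 := ndS (p := 25818) (l := 6) rfl N25818 D88067
theorem N49025 : nd 49025 = n88070 := ndS (p := 25819) (l := 3) rfl N25819 D88070
theorem N49026 : nd 49026 = n88074 := ndS (p := 25821) (l := 6) rfl N25821 D88074
theorem N49027 : nd 49027 = n88075 := ndS (p := 25822) (l := 5) rfl N25822 D88075
theorem N49028 : nd 49028 = n88079 := ndS (p := 25823) (l := 5) rfl N25823 D88079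
theorem N49029 : nd 49029 = n88084 := ndS (p := 25824) (l := 5) rfl N25824 D88084
theorem N49030 : nd 49030 = n88085 := ndS (p := 25824) (l := 6) rfl N25824 D88085
theorem N49031 : nd 49031 = n88086 := ndS (p := 25825) (l := 0) rfl N25825 D88086
theorem N49032 : nd 49032 = n88087 := ndS (p := 25825) (l := 1) rfl N25825 D88087
theorem N49033 : nd 49033 = n88088 := ndS (p := 25825) (l := 4) rfl N25825 D88088
theorem N49034 : nd 49034 = n88089 := ndS (p := 25825) (l := 7) rfl N25825 D88089
theorem N49035 : nd 49035 = n88100 := ndS (p := 25827) (l := 0) rfl N25827 D88100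
theorem N49036 : nd 49036 = n88101 := ndS (p := 25827) (l := 1) rfl N25827 D88101
theorem N49037 : nd 49037 = n88102 := ndS (p := 25827) (l := 4) rfl N25827 D88102
theorem N49038 : nd 49038 = n88104 := ndS (p := 25828) (l := 6) rfl N25828 D88104
theorem N49039 : nd 49039 = n88105 := ndS (p := 25829) (l := 3) rfl N25829 D88105
theorem N49040 : nd 49040 = n88109 := ndS (p := 25831) (l := 1) rfl N25831 D88109
theorem N49041 : nd 49041 = n88110 := ndS (p := 25831) (l := 5) rfl N25831 D88110
theorem N49042 : nd 49042 = n88115 := ndS (p := 25832) (l := 5) rfl N25832 D88115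
theorem N49043 : nd 49043 = n88120 := ndS (p := 25833) (l := 5) rfl N25833 D88120
theorem N49044 : nd 49044 = n88122 := ndS (p := 25834) (l := 0) rfl N25834 D88122
theorem N49045 : nd 49045 = n88123 := ndS (p := 25834) (l := 1) rfl N25834 D88123
theorem N49046 : nd 49046 = n88124 := ndS (p := 25834) (l := 4) rfl N25834 D88124
theorem N49047 : nd 49047 = n88171 := ndS (p := 25835) (l := 3) rfl N25835 D88171
theorem N49048 : nd 49048 = n88172 := ndS (p := 25835) (l := 4) rfl N25835 D88172
theorem N49049 : nd 49049 = n88173 := ndS (p := 25835) (l := 5) rfl N25835 D88173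
theorem N49050 : nd 49050 = n88174 := ndS (p := 25835) (l := 6) rfl N25835 D88174
theorem N49051 : nd 49051 = n88176 := ndS (p := 25836) (l := 3) rfl N25836 D88176
theorem N49052 : nd 49052 = n88178 := ndS (p := 25836) (l := 5) rfl N25836 D88178
theorem N49053 : nd 49053 = n88180 := ndS (p := 25837) (l := 0) rfl N25837 D88180
theorem N49054 : nd 49054 = n88181 := ndS (p := 25837) (l := 1) rfl N25837 D88181
theorem N49055 : nd 49055 = n88182 := ndS (p := 25837) (l := 3) rfl N25837 D88182
theorem N49056 : nd 49056 = n88183 := ndS (p := 25837) (l := 5) rfl N25837 D88183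
theorem N49057 : nd 49057 = n88187 := ndS (p := 25838) (l := 4) rfl N25838 D88187
theorem N49058 : nd 49058 = n88188 := ndS (p := 25838) (l := 5) rfl N25838 D88188
theorem N49059 : nd 49059 = n88195 := ndS (p := 25839) (l := 5) rfl N25839 D88195
theorem N49060 : nd 49060 = n88196 := ndS (p := 25839) (l := 6) rfl N25839 D88196
theorem N49061 : nd 49061 = n88198 := ndS (p := 25840) (l := 6) rfl N25840 D88198
theorem N49062 : nd 49062 = n88199 := ndS (p := 25841) (l := 0) rfl N25841 D88199
theorem N49063 : nd 49063 = n88200 := ndS (p := 25841) (l := 1) rfl N25841 D88200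
theorem N49064 : nd 49064 = n88201 := ndS (p := 25841) (l := 4) rfl N25841 D88201
theorem N49065 : nd 49065 = n88202 := ndS (p := 25841) (l := 6) rfl N25841 D88202
theorem N49066 : nd 49066 = n88203 := ndS (p := 25842) (l := 0) rfl N25842 D88203
theorem N49067 : nd 49067 = n88204 := ndS (p := 25842) (l := 1) rfl N25842 D88204
theorem N49068 : nd 49068 = n88205 := ndS (p := 25842) (l := 5) rfl N25842 D88205
theorem N49069 : nd 49069 = n88206 := ndS (p := 25842) (l := 7) rfl N25842 D88206
theorem N49070 : nd 49070 = n88207 := ndS (p := 25843) (l := 3) rfl N25843 D88207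
theorem N49071 : nd 49071 = n88208 := ndS (p := 25843) (l := 4) rfl N25843 D88208
theorem N49072 : nd 49072 = n88209 := ndS (p := 25843) (l := 6) rfl N25843 D88209
theorem N49073 : nd 49073 = n88210 := ndS (p := 25844) (l := 4) rfl N25844 D88210
theorem N49074 : nd 49074 = n88211 := ndS (p := 25844) (l := 6) rfl N25844 D88211
theorem N49075 : nd 49075 = n88212 := ndS (p := 25845) (l := 0) rfl N25845 D88212
theorem N49076 : nd 49076 = n88213 := ndS (p := 25845) (l := 1) rfl N25845 D88213
theorem N49077 : nd 49077 = n88214 := ndS (p := 25845) (l := 3) rfl N25845 D88214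
theorem N49078 : nd 49078 = n88216 := ndS (p := 25846) (l := 0) rfl N25846 D88216
theorem N49079 : nd 49079 = n88217 := ndS (p := 25846) (l := 1) rfl N25846 D88217
theorem N49080 : nd 49080 = n88218 := ndS (p := 25846) (l := 5) rfl N25846 D88218
theorem N49081 : nd 49081 = n88226 := ndS (p := 25849) (l := 5) rfl N25849 D88226
theorem N49082 : nd 49082 = n88228 := ndS (p := 25850) (l := 5) rfl N25850 D88228
theorem N49083 : nd 49083 = n88229 := ndS (p := 25850) (l := 6) rfl N25850 D88229
theorem N49084 : nd 49084 = n88230 := ndS (p := 25851) (l := 0) rfl N25851 D88230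
theorem N49085 : nd 49085 = n88231 := ndS (p := 25851) (l := 1) rfl N25851 D88231
theorem N49086 : nd 49086 = n88232 := ndS (p := 25851) (l := 4) rfl N25851 D88232
theorem N49087 : nd 49087 = n88233 := ndS (p := 25851) (l := 6) rfl N25851 D88233
theorem N49088 : nd 49088 = n88234 := ndS (p := 25852) (l := 0) rfl N25852 D88234
theorem N49089 : nd 49089 = n88235 := ndS (p := 25852) (l := 1) rfl N25852 D88235
theorem N49090 : nd 49090 = n88236 := ndS (p := 25852) (l := 5) rfl N25852 D88236
theorem N49091 : nd 49091 = n88238 := ndS (p := 25853) (l := 3) rfl N25853 D88238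
theorem N49092 : nd 49092 = n88239 := ndS (p := 25853) (l := 6) rfl N25853 D88239
theorem N49093 : nd 49093 = n88240 := ndS (p := 25854) (l := 0) rfl N25854 D88240
theorem N49094 : nd 49094 = n88242 := ndS (p := 25854) (l := 5) rfl N25854 D88242
theorem N49095 : nd 49095 = n88243 := ndS (p := 25854) (l := 7) rfl N25854 D88243
theorem N49096 : nd 49096 = n88244 := ndS (p := 25855) (l := 4) rfl N25855 D88244
theorem N49097 : nd 49097 = n88247 := ndS (p := 25856) (l := 2) rfl N25856 D88247
theorem N49098 : nd 49098 = n88248 := ndS (p := 25856) (l := 4) rfl N25856 D88248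
theorem N49099 : nd 49099 = n88249 := ndS (p := 25856) (l := 5) rfl N25856 D88249
theorem N49100 : nd 49100 = n88250 := ndS (p := 25856) (l := 6) rfl N25856 D88250
theorem N49101 : nd 49101 = n88251 := ndS (p := 25857) (l := 0) rfl N25857 D88251
theorem N49102 : nd 49102 = n88252 := ndS (p := 25857) (l := 1) rfl N25857 D88252
theorem N49103 : nd 49103 = n88253 := ndS (p := 25857) (l := 3) rfl N25857 D88253
theorem N49104 : nd 49104 = n88255 := ndS (p := 25859) (l := 0) rfl N25859 D88255
theorem N49105 : nd 49105 = n88256 := ndS (p := 25859) (l := 1) rfl N25859 D88256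
theorem N49106 : nd 49106 = n88257 := ndS (p := 25859) (l := 5) rfl N25859 D88257
theorem N49107 : nd 49107 = n88258 := ndS (p := 25859) (l := 7) rfl N25859 D88258
theorem N49108 : nd 49108 = n88261 := ndS (p := 25860) (l := 2) rfl N25860 D88261
theorem N49109 : nd 49109 = n88262 := ndS (p := 25860) (l := 4) rfl N25860 D88262
theorem N49110 : nd 49110 = n88263 := ndS (p := 25860) (l := 5) rfl N25860 D88263
theorem N49111 : nd 49111 = n88264 := ndS (p := 25860) (l := 6) rfl N25860 D88264
theorem N49112 : nd 49112 = n88265 := ndS (p := 25861) (l := 3) rfl N25861 D88265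
theorem N49113 : nd 49113 = n88266 := ndS (p := 25861) (l := 6) rfl N25861 D88266
theorem N49114 : nd 49114 = n88269 := ndS (p := 25863) (l := 5) rfl N25863 D88269
theorem N49115 : nd 49115 = n88270 := ndS (p := 25863) (l := 7) rfl N25863 D88270
theorem N49116 : nd 49116 = n88272 := ndS (p := 25864) (l := 3) rfl N25864 D88272
theorem N49117 : nd 49117 = n88273 := ndS (p := 25864) (l := 6) rfl N25864 D88273
theorem N49118 : nd 49118 = n88275 := ndS (p := 25865) (l := 3) rfl N25865 D88275
theorem N49119 : nd 49119 = n88276 := ndS (p := 25865) (l := 6) rfl N25865 D88276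
theorem N49120 : nd 49120 = n88277 := ndS (p := 25866) (l := 0) rfl N25866 D88277
theorem N49121 : nd 49121 = n88278 := ndS (p := 25866) (l := 1) rfl N25866 D88278
theorem N49122 : nd 49122 = n88279 := ndS (p := 25866) (l := 2) rfl N25866 D88279
theorem N49123 : nd 49123 = n88280 := ndS (p := 25866) (l := 5) rfl N25866 D88280
theorem N49124 : nd 49124 = n88281 := ndS (p := 25866) (l := 7) rfl N25866 D88281
theorem N49125 : nd 49125 = n88282 := ndS (p := 25867) (l := 6) rfl N25867 D88282
theorem N49126 : nd 49126 = n88283 := ndS (p := 25868) (l := 6) rfl N25868 D88283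
theorem N49127 : nd 49127 = n88284 := ndS (p := 25869) (l := 0) rfl N25869 D88284
theorem N49128 : nd 49128 = n88285 := ndS (p := 25869) (l := 1) rfl N25869 D88285
theorem N49129 : nd 49129 = n88286 := ndS (p := 25871) (l := 3) rfl N25871 D88286
theorem N49130 : nd 49130 = n88288 := ndS (p := 25874) (l := 0) rfl N25874 D88288
theorem N49131 : nd 49131 = n88289 := ndS (p := 25874) (l := 1) rfl N25874 D88289
theorem N49132 : nd 49132 = n88290 := ndS (p := 25874) (l := 2) rfl N25874 D88290
theorem N49133 : nd 49133 = n88291 := ndS (p := 25874) (l := 5) rfl N25874 D88291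
theorem N49134 : nd 49134 = n88292 := ndS (p := 25875) (l := 4) rfl N25875 D88292
theorem N49135 : nd 49135 = n88293 := ndS (p := 25875) (l := 6) rfl N25875 D88293
theorem N49136 : nd 49136 = n88295 := ndS (p := 25876) (l := 4) rfl N25876 D88295
theorem N49137 : nd 49137 = n88296 := ndS (p := 25876) (l := 5) rfl N25876 D88296
theorem N49138 : nd 49138 = n88303 := ndS (p := 25877) (l := 5) rfl N25877 D88303
theorem N49139 : nd 49139 = n88304 := ndS (p := 25877) (l := 6) rfl N25877 D88304
theorem N49140 : nd 49140 = n88305 := ndS (p := 25878) (l := 0) rfl N25878 D88305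
theorem N49141 : nd 49141 = n88306 := ndS (p := 25878) (l := 1) rfl N25878 D88306
theorem N49142 : nd 49142 = n88308 := ndS (p := 25878) (l := 6) rfl N25878 D88308
theorem N49143 : nd 49143 = n88309 := ndS (p := 25879) (l := 0) rfl N25879 D88309
theorem N49144 : nd 49144 = n88310 := ndS (p := 25879) (l := 1) rfl N25879 D88310
theorem N49145 : nd 49145 = n88311 := ndS (p := 25879) (l := 5) rfl N25879 D88311
theorem N49146 : nd 49146 = n88312 := ndS (p := 25880) (l := 3) rfl N25880 D88312
theorem N49147 : nd 49147 = n88314 := ndS (p := 25880) (l := 6) rfl N25880 D88314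
theorem N49148 : nd 49148 = n88315 := ndS (p := 25881) (l := 3) rfl N25881 D88315
theorem N49149 : nd 49149 = n88317 := ndS (p := 25881) (l := 5) rfl N25881 D88317
theorem N49150 : nd 49150 = n88318 := ndS (p := 25881) (l := 6) rfl N25881 D88318
theorem N49151 : nd 49151 = n88325 := ndS (p := 25883) (l := 3) rfl N25883 D88325
theorem N49152 : nd 49152 = n88326 := ndS (p := 25884) (l := 1) rfl N25884 D88326
theorem N49153 : nd 49153 = n88327 := ndS (p := 25884) (l := 4) rfl N25884 D88327
theorem N49154 : nd 49154 = n88328 := ndS (p := 25885) (l := 3) rfl N25885 D88328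
theorem N49155 : nd 49155 = n88329 := ndS (p := 25885) (l := 5) rfl N25885 D88329
theorem N49156 : nd 49156 = n88331 := ndS (p := 25886) (l := 3) rfl N25886 D88331
theorem N49157 : nd 49157 = n88332 := ndS (p := 25886) (l := 5) rfl N25886 D88332
theorem N49158 : nd 49158 = n88334 := ndS (p := 25887) (l := 3) rfl N25887 D88334
theorem N49159 : nd 49159 = n88335 := ndS (p := 25887) (l := 5) rfl N25887 D88335
theorem N49160 : nd 49160 = n88336 := ndS (p := 25888) (l := 0) rfl N25888 D88336
theorem N49161 : nd 49161 = n88337 := ndS (p := 25888) (l := 1) rfl N25888 D88337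
theorem N49162 : nd 49162 = n88338 := ndS (p := 25888) (l := 2) rfl N25888 D88338
theorem N49163 : nd 49163 = n88339 := ndS (p := 25888) (l := 5) rfl N25888 D88339
theorem N49164 : nd 49164 = n88340 := ndS (p := 25888) (l := 6) rfl N25888 D88340
theorem N49165 : nd 49165 = n88341 := ndS (p := 25889) (l := 6) rfl N25889 D88341
theorem N49166 : nd 49166 = n88343 := ndS (p := 25893) (l := 1) rfl N25893 D88343
theorem N49167 : nd 49167 = n88344 := ndS (p := 25893) (l := 2) rfl N25893 D88344
theorem N49168 : nd 49168 = n88345 := ndS (p := 25893) (l := 5) rfl N25893 D88345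
theorem N49169 : nd 49169 = n88346 := ndS (p := 25893) (l := 6) rfl N25893 D88346
theorem N49170 : nd 49170 = n88347 := ndS (p := 25894) (l := 0) rfl N25894 D88347
theorem N49171 : nd 49171 = n88348 := ndS (p := 25894) (l := 1) rfl N25894 D88348
theorem N49172 : nd 49172 = n88349 := ndS (p := 25894) (l := 4) rfl N25894 D88349
theorem N49173 : nd 49173 = n88350 := ndS (p := 25894) (l := 6) rfl N25894 D88350
theorem N49174 : nd 49174 = n88351 := ndS (p := 25896) (l := 5) rfl N25896 D88351
theorem N49175 : nd 49175 = n88352 := ndS (p := 25898) (l := 3) rfl N25898 D88352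
theorem N49176 : nd 49176 = n88354 := ndS (p := 25900) (l := 5) rfl N25900 D88354
theorem N49177 : nd 49177 = n88355 := ndS (p := 25901) (l := 5) rfl N25901 D88355
theorem N49178 : nd 49178 = n88356 := ndS (p := 25901) (l := 6) rfl N25901 D88356
theorem N49179 : nd 49179 = n88357 := ndS (p := 25902) (l := 0) rfl N25902 D88357
theorem N49180 : nd 49180 = n88358 := ndS (p := 25902) (l := 1) rfl N25902 D88358
theorem N49181 : nd 49181 = n88359 := ndS (p := 25902) (l := 4) rfl N25902 D88359
theorem N49182 : nd 49182 = n88360 := ndS (p := 25902) (l := 6) rfl N25902 D88360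
theorem N49183 : nd 49183 = n88361 := ndS (p := 25903) (l := 0) rfl N25903 D88361
theorem N49184 : nd 49184 = n88362 := ndS (p := 25903) (l := 5) rfl N25903 D88362
theorem N49185 : nd 49185 = n88364 := ndS (p := 25904) (l := 3) rfl N25904 D88364
theorem N49186 : nd 49186 = n88365 := ndS (p := 25904) (l := 6) rfl N25904 D88365
theorem N49187 : nd 49187 = n88366 := ndS (p := 25905) (l := 0) rfl N25905 D88366
theorem N49188 : nd 49188 = n88367 := ndS (p := 25905) (l := 1) rfl N25905 D88367
theorem N49189 : nd 49189 = n88368 := ndS (p := 25905) (l := 5) rfl N25905 D88368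
theorem N49190 : nd 49190 = n88371 := ndS (p := 25907) (l := 4) rfl N25907 D88371
theorem N49191 : nd 49191 = n88373 := ndS (p := 25908) (l := 0) rfl N25908 D88373
theorem N49192 : nd 49192 = n88374 := ndS (p := 25908) (l := 1) rfl N25908 D88374
theorem N49193 : nd 49193 = n88375 := ndS (p := 25908) (l := 2) rfl N25908 D88375
theorem N49194 : nd 49194 = n88376 := ndS (p := 25908) (l := 5) rfl N25908 D88376
theorem N49195 : nd 49195 = n88378 := ndS (p := 25910) (l := 3) rfl N25910 D88378
theorem N49196 : nd 49196 = n88391 := ndS (p := 25911) (l := 3) rfl N25911 D88391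
theorem N49197 : nd 49197 = n88392 := ndS (p := 25911) (l := 6) rfl N25911 D88392
theorem N49198 : nd 49198 = n88408 := ndS (p := 25913) (l := 0) rfl N25913 D88408
theorem N49199 : nd 49199 = n88409 := ndS (p := 25913) (l := 1) rfl N25913 D88409
theorem N49200 : nd 49200 = n88410 := ndS (p := 25913) (l := 2) rfl N25913 D88410
theorem N49201 : nd 49201 = n88411 := ndS (p := 25913) (l := 5) rfl N25913 D88411
theorem N49202 : nd 49202 = n88413 := ndS (p := 25914) (l := 6) rfl N25914 D88413
theorem N49203 : nd 49203 = n88427 := ndS (p := 25915) (l := 0) rfl N25915 D88427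
theorem N49204 : nd 49204 = n88428 := ndS (p := 25915) (l := 1) rfl N25915 D88428
theorem N49205 : nd 49205 = n88429 := ndS (p := 25915) (l := 2) rfl N25915 D88429
theorem N49206 : nd 49206 = n88430 := ndS (p := 25915) (l := 5) rfl N25915 D88430
theorem N49207 : nd 49207 = n88432 := ndS (p := 25916) (l := 6) rfl N25916 D88432
theorem N49208 : nd 49208 = n88434 := ndS (p := 25917) (l := 0) rfl N25917 D88434
theorem N49209 : nd 49209 = n88435 := ndS (p := 25917) (l := 1) rfl N25917 D88435
theorem N49210 : nd 49210 = n88436 := ndS (p := 25917) (l := 2) rfl N25917 D88436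
theorem N49211 : nd 49211 = n88437 := ndS (p := 25917) (l := 5) rfl N25917 D88437
theorem N49212 : nd 49212 = n88439 := ndS (p := 25918) (l := 6) rfl N25918 D88439
theorem N49213 : nd 49213 = n88447 := ndS (p := 25919) (l := 3) rfl N25919 D88447
theorem N49214 : nd 49214 = n88450 := ndS (p := 25920) (l := 5) rfl N25920 D88450
theorem N49215 : nd 49215 = n88453 := ndS (p := 25921) (l := 4) rfl N25921 D88453
theorem N49216 : nd 49216 = n88454 := ndS (p := 25921) (l := 6) rfl N25921 D88454
theorem N49217 : nd 49217 = n88459 := ndS (p := 25922) (l := 3) rfl N25922 D88459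
theorem N49218 : nd 49218 = n88460 := ndS (p := 25922) (l := 6) rfl N25922 D88460
theorem N49219 : nd 49219 = n88461 := ndS (p := 25923) (l := 0) rfl N25923 D88461
theorem N49220 : nd 49220 = n88462 := ndS (p := 25923) (l := 1) rfl N25923 D88462
theorem N49221 : nd 49221 = n88463 := ndS (p := 25923) (l := 7) rfl N25923 D88463
theorem N49222 : nd 49222 = n88464 := ndS (p := 25924) (l := 0) rfl N25924 D88464
theorem N49223 : nd 49223 = n88465 := ndS (p := 25924) (l := 1) rfl N25924 D88465
theorem N49224 : nd 49224 = n88466 := ndS (p := 25924) (l := 2) rfl N25924 D88466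
theorem N49225 : nd 49225 = n88467 := ndS (p := 25925) (l := 4) rfl N25925 D88467
theorem N49226 : nd 49226 = n88469 := ndS (p := 25926) (l := 0) rfl N25926 D88469
theorem N49227 : nd 49227 = n88471 := ndS (p := 25926) (l := 5) rfl N25926 D88471
theorem N49228 : nd 49228 = n88472 := ndS (p := 25926) (l := 6) rfl N25926 D88472
theorem N49229 : nd 49229 = n88475 := ndS (p := 25929) (l := 3) rfl N25929 D88475
theorem N49230 : nd 49230 = n88476 := ndS (p := 25930) (l := 0) rfl N25930 D88476
theorem N49231 : nd 49231 = n88477 := ndS (p := 25930) (l := 1) rfl N25930 D88477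
theorem N49232 : nd 49232 = n88478 := ndS (p := 25930) (l := 2) rfl N25930 D88478
theorem N49233 : nd 49233 = n88479 := ndS (p := 25930) (l := 5) rfl N25930 D88479
theorem N49234 : nd 49234 = n88482 := ndS (p := 25932) (l := 3) rfl N25932 D88482
theorem N49235 : nd 49235 = n88483 := ndS (p := 25932) (l := 4) rfl N25932 D88483
theorem N49236 : nd 49236 = n88484 := ndS (p := 25932) (l := 6) rfl N25932 D88484
theorem N49237 : nd 49237 = n88485 := ndS (p := 25933) (l := 3) rfl N25933 D88485
theorem N49238 : nd 49238 = n88486 := ndS (p := 25933) (l := 4) rfl N25933 D88486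
theorem N49239 : nd 49239 = n88487 := ndS (p := 25933) (l := 6) rfl N25933 D88487
theorem N49240 : nd 49240 = n88488 := ndS (p := 25934) (l := 0) rfl N25934 D88488
theorem N49241 : nd 49241 = n88489 := ndS (p := 25934) (l := 1) rfl N25934 D88489
theorem N49242 : nd 49242 = n88497 := ndS (p := 25936) (l := 3) rfl N25936 D88497
theorem N49243 : nd 49243 = n88501 := ndS (p := 25938) (l := 3) rfl N25938 D88501
theorem N49244 : nd 49244 = n88502 := ndS (p := 25938) (l := 5) rfl N25938 D88502
theorem N49245 : nd 49245 = n88503 := ndS (p := 25939) (l := 3) rfl N25939 D88503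
theorem N49246 : nd 49246 = n88506 := ndS (p := 25940) (l := 4) rfl N25940 D88506
theorem N49247 : nd 49247 = n88507 := ndS (p := 25940) (l := 6) rfl N25940 D88507
theorem N49248 : nd 49248 = n88508 := ndS (p := 25941) (l := 3) rfl N25941 D88508
theorem N49249 : nd 49249 = n88509 := ndS (p := 25941) (l := 5) rfl N25941 D88509
theorem N49250 : nd 49250 = n88513 := ndS (p := 25942) (l := 0) rfl N25942 D88513
theorem N49251 : nd 49251 = n88514 := ndS (p := 25942) (l := 2) rfl N25942 D88514
theorem N49252 : nd 49252 = n88515 := ndS (p := 25942) (l := 5) rfl N25942 D88515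
theorem N49253 : nd 49253 = n88516 := ndS (p := 25943) (l := 4) rfl N25943 D88516
theorem N49254 : nd 49254 = n88519 := ndS (p := 25944) (l := 1) rfl N25944 D88519
theorem N49255 : nd 49255 = n88520 := ndS (p := 25944) (l := 5) rfl N25944 D88520
theorem N49256 : nd 49256 = n88521 := ndS (p := 25944) (l := 6) rfl N25944 D88521
theorem N49257 : nd 49257 = n88522 := ndS (p := 25945) (l := 4) rfl N25945 D88522
theorem N49258 : nd 49258 = n88523 := ndS (p := 25945) (l := 6) rfl N25945 D88523
theorem N49259 : nd 49259 = n88524 := ndS (p := 25947) (l := 0) rfl N25947 D88524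
theorem N49260 : nd 49260 = n88525 := ndS (p := 25947) (l := 1) rfl N25947 D88525
theorem N49261 : nd 49261 = n88526 := ndS (p := 25947) (l := 2) rfl N25947 D88526
theorem N49262 : nd 49262 = n88527 := ndS (p := 25947) (l := 5) rfl N25947 D88527
theorem N49263 : nd 49263 = n88530 := ndS (p := 25949) (l := 3) rfl N25949 D88530
theorem N49264 : nd 49264 = n88532 := ndS (p := 25949) (l := 6) rfl N25949 D88532
theorem N49265 : nd 49265 = n88533 := ndS (p := 25950) (l := 3) rfl N25950 D88533
theorem N49266 : nd 49266 = n88535 := ndS (p := 25950) (l := 6) rfl N25950 D88535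
theorem N49267 : nd 49267 = n88536 := ndS (p := 25951) (l := 0) rfl N25951 D88536
theorem N49268 : nd 49268 = n88537 := ndS (p := 25951) (l := 1) rfl N25951 D88537
theorem N49269 : nd 49269 = n88538 := ndS (p := 25951) (l := 3) rfl N25951 D88538
theorem N49270 : nd 49270 = n88540 := ndS (p := 25951) (l := 6) rfl N25951 D88540
theorem N49271 : nd 49271 = n88541 := ndS (p := 25952) (l := 0) rfl N25952 D88541
theorem N49272 : nd 49272 = n88542 := ndS (p := 25952) (l := 1) rfl N25952 D88542
theorem N49273 : nd 49273 = n88543 := ndS (p := 25952) (l := 5) rfl N25952 D88543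
theorem N49274 : nd 49274 = n88544 := ndS (p := 25952) (l := 7) rfl N25952 D88544
theorem N49275 : nd 49275 = n88545 := ndS (p := 25953) (l := 3) rfl N25953 D88545
theorem N49276 : nd 49276 = n88546 := ndS (p := 25954) (l := 3) rfl N25954 D88546
theorem N49277 : nd 49277 = n88547 := ndS (p := 25955) (l := 4) rfl N25955 D88547
theorem N49278 : nd 49278 = n88580 := ndS (p := 25956) (l := 3) rfl N25956 D88580
theorem N49279 : nd 49279 = n88581 := ndS (p := 25956) (l := 5) rfl N25956 D88581
theorem N49280 : nd 49280 = n88591 := ndS (p := 25959) (l := 0) rfl N25959 D88591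
theorem N49281 : nd 49281 = n88592 := ndS (p := 25959) (l := 1) rfl N25959 D88592
theorem N49282 : nd 49282 = n88593 := ndS (p := 25959) (l := 5) rfl N25959 D88593
theorem N49283 : nd 49283 = n88594 := ndS (p := 25959) (l := 7) rfl N25959 D88594
theorem N49284 : nd 49284 = n88595 := ndS (p := 25960) (l := 3) rfl N25960 D88595
theorem N49285 : nd 49285 = n88596 := ndS (p := 25960) (l := 5) rfl N25960 D88596
theorem N49286 : nd 49286 = n88597 := ndS (p := 25961) (l := 3) rfl N25961 D88597
theorem N49287 : nd 49287 = n88598 := ndS (p := 25961) (l := 5) rfl N25961 D88598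
theorem N49288 : nd 49288 = n88600 := ndS (p := 25962) (l := 4) rfl N25962 D88600
theorem N49289 : nd 49289 = n88601 := ndS (p := 25962) (l := 7) rfl N25962 D88601
theorem N49290 : nd 49290 = n88602 := ndS (p := 25964) (l := 3) rfl N25964 D88602
theorem N49291 : nd 49291 = n88603 := ndS (p := 25964) (l := 5) rfl N25964 D88603
theorem N49292 : nd 49292 = n88606 := ndS (p := 25965) (l := 5) rfl N25965 D88606
theorem N49293 : nd 49293 = n88614 := ndS (p := 25966) (l := 0) rfl N25966 D88614
theorem N49294 : nd 49294 = n88615 := ndS (p := 25966) (l := 1) rfl N25966 D88615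
theorem N49295 : nd 49295 = n88617 := ndS (p := 25968) (l := 0) rfl N25968 D88617
theorem N49296 : nd 49296 = n88618 := ndS (p := 25968) (l := 1) rfl N25968 D88618
theorem N49297 : nd 49297 = n88619 := ndS (p := 25968) (l := 2) rfl N25968 D88619
theorem N49298 : nd 49298 = n88620 := ndS (p := 25968) (l := 5) rfl N25968 D88620
theorem N49299 : nd 49299 = n88621 := ndS (p := 25969) (l := 6) rfl N25969 D88621
theorem N49300 : nd 49300 = n88627 := ndS (p := 25973) (l := 0) rfl N25973 D88627
theorem N49301 : nd 49301 = n88628 := ndS (p := 25973) (l := 1) rfl N25973 D88628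
theorem N49302 : nd 49302 = n88629 := ndS (p := 25973) (l := 2) rfl N25973 D88629
theorem N49303 : nd 49303 = n88640 := ndS (p := 25977) (l := 3) rfl N25977 D88640
theorem N49304 : nd 49304 = n88641 := ndS (p := 25978) (l := 5) rfl N25978 D88641
theorem N49305 : nd 49305 = n88642 := ndS (p := 25978) (l := 7) rfl N25978 D88642
theorem N49306 : nd 49306 = n88647 := ndS (p := 25982) (l := 6) rfl N25982 D88647
theorem N49307 : nd 49307 = n88650 := ndS (p := 25983) (l := 4) rfl N25983 D88650
theorem N49308 : nd 49308 = n88652 := ndS (p := 25984) (l := 4) rfl N25984 D88652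
theorem N49309 : nd 49309 = n88662 := ndS (p := 25987) (l := 0) rfl N25987 D88662
theorem N49310 : nd 49310 = n88678 := ndS (p := 25988) (l := 0) rfl N25988 D88678
theorem N49311 : nd 49311 = n88679 := ndS (p := 25988) (l := 1) rfl N25988 D88679
theorem N49312 : nd 49312 = n88680 := ndS (p := 25988) (l := 2) rfl N25988 D88680
theorem N49313 : nd 49313 = n88681 := ndS (p := 25988) (l := 5) rfl N25988 D88681
theorem N49314 : nd 49314 = n88683 := ndS (p := 25989) (l := 6) rfl N25989 D88683
theorem N49315 : nd 49315 = n88687 := ndS (p := 25990) (l := 1) rfl N25990 D88687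
theorem N49316 : nd 49316 = n88688 := ndS (p := 25990) (l := 2) rfl N25990 D88688
theorem N49317 : nd 49317 = n88689 := ndS (p := 25990) (l := 5) rfl N25990 D88689
theorem N49318 : nd 49318 = n88690 := ndS (p := 25990) (l := 6) rfl N25990 D88690
theorem N49319 : nd 49319 = n88691 := ndS (p := 25991) (l := 6) rfl N25991 D88691
theorem N49320 : nd 49320 = n88694 := ndS (p := 25993) (l := 0) rfl N25993 D88694
theorem N49321 : nd 49321 = n88695 := ndS (p := 25993) (l := 2) rfl N25993 D88695
theorem N49322 : nd 49322 = n88696 := ndS (p := 25993) (l := 3) rfl N25993 D88696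
theorem N49323 : nd 49323 = n88697 := ndS (p := 25993) (l := 4) rfl N25993 D88697
theorem N49324 : nd 49324 = n88698 := ndS (p := 25993) (l := 5) rfl N25993 D88698
theorem N49325 : nd 49325 = n88699 := ndS (p := 25993) (l := 6) rfl N25993 D88699
theorem N49326 : nd 49326 = n88700 := ndS (p := 25993) (l := 7) rfl N25993 D88700
theorem N49327 : nd 49327 = n88701 := ndS (p := 25994) (l := 3) rfl N25994 D88701
theorem N49328 : nd 49328 = n88702 := ndS (p := 25994) (l := 4) rfl N25994 D88702
theorem N49329 : nd 49329 = n88703 := ndS (p := 25994) (l := 5) rfl N25994 D88703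
theorem N49330 : nd 49330 = n88707 := ndS (p := 25995) (l := 5) rfl N25995 D88707
theorem N49331 : nd 49331 = n88709 := ndS (p := 25996) (l := 1) rfl N25996 D88709
theorem N49332 : nd 49332 = n88710 := ndS (p := 25996) (l := 4) rfl N25996 D88710
theorem N49333 : nd 49333 = n88711 := ndS (p := 25996) (l := 6) rfl N25996 D88711
theorem N49334 : nd 49334 = n88712 := ndS (p := 25996) (l := 7) rfl N25996 D88712
theorem N49335 : nd 49335 = n88716 := ndS (p := 25998) (l := 3) rfl N25998 D88716
theorem N49336 : nd 49336 = n88717 := ndS (p := 25998) (l := 6) rfl N25998 D88717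
theorem N49337 : nd 49337 = n88718 := ndS (p := 25999) (l := 0) rfl N25999 D88718
theorem N49338 : nd 49338 = n88719 := ndS (p := 25999) (l := 1) rfl N25999 D88719
theorem N49339 : nd 49339 = n88720 := ndS (p := 25999) (l := 7) rfl N25999 D88720
theorem N49340 : nd 49340 = n88721 := ndS (p := 26000) (l := 6) rfl N26000 D88721
theorem N49341 : nd 49341 = n88735 := ndS (p := 26001) (l := 0) rfl N26001 D88735
theorem N49342 : nd 49342 = n88736 := ndS (p := 26001) (l := 1) rfl N26001 D88736
theorem N49343 : nd 49343 = n88737 := ndS (p := 26001) (l := 2) rfl N26001 D88737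
theorem N49344 : nd 49344 = n88738 := ndS (p := 26001) (l := 5) rfl N26001 D88738
theorem N49345 : nd 49345 = n88739 := ndS (p := 26002) (l := 6) rfl N26002 D88739
theorem N49346 : nd 49346 = n88746 := ndS (p := 26003) (l := 4) rfl N26003 D88746
theorem N49347 : nd 49347 = n88751 := ndS (p := 26006) (l := 3) rfl N26006 D88751
theorem N49348 : nd 49348 = n88752 := ndS (p := 26006) (l := 5) rfl N26006 D88752
theorem N49349 : nd 49349 = n88753 := ndS (p := 26006) (l := 7) rfl N26006 D88753
theorem N49350 : nd 49350 = n88754 := ndS (p := 26008) (l := 0) rfl N26008 D88754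
theorem N49351 : nd 49351 = n88755 := ndS (p := 26008) (l := 1) rfl N26008 D88755
theorem N49352 : nd 49352 = n88756 := ndS (p := 26008) (l := 2) rfl N26008 D88756
theorem N49353 : nd 49353 = n88757 := ndS (p := 26008) (l := 5) rfl N26008 D88757
theorem N49354 : nd 49354 = n88758 := ndS (p := 26009) (l := 6) rfl N26009 D88758
theorem N49355 : nd 49355 = n88760 := ndS (p := 26010) (l := 1) rfl N26010 D88760
theorem N49356 : nd 49356 = n88761 := ndS (p := 26010) (l := 2) rfl N26010 D88761
theorem N49357 : nd 49357 = n88765 := ndS (p := 26011) (l := 5) rfl N26011 D88765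
theorem N49358 : nd 49358 = n88774 := ndS (p := 26012) (l := 3) rfl N26012 D88774
theorem N49359 : nd 49359 = n88775 := ndS (p := 26012) (l := 4) rfl N26012 D88775
theorem N49360 : nd 49360 = n88776 := ndS (p := 26012) (l := 5) rfl N26012 D88776
theorem N49361 : nd 49361 = n88781 := ndS (p := 26013) (l := 5) rfl N26013 D88781
theorem N49362 : nd 49362 = n88783 := ndS (p := 26014) (l := 5) rfl N26014 D88783
theorem N49363 : nd 49363 = n88784 := ndS (p := 26015) (l := 0) rfl N26015 D88784
theorem N49364 : nd 49364 = n88785 := ndS (p := 26015) (l := 1) rfl N26015 D88785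
theorem N49365 : nd 49365 = n88786 := ndS (p := 26015) (l := 4) rfl N26015 D88786
theorem N49366 : nd 49366 = n88787 := ndS (p := 26015) (l := 6) rfl N26015 D88787
theorem N49367 : nd 49367 = n88788 := ndS (p := 26016) (l := 3) rfl N26016 D88788
theorem N49368 : nd 49368 = n88789 := ndS (p := 26016) (l := 6) rfl N26016 D88789
theorem N49369 : nd 49369 = n88790 := ndS (p := 26017) (l := 3) rfl N26017 D88790
theorem N49370 : nd 49370 = n88791 := ndS (p := 26017) (l := 6) rfl N26017 D88791
theorem N49371 : nd 49371 = n88792 := ndS (p := 26018) (l := 3) rfl N26018 D88792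
theorem N49372 : nd 49372 = n88793 := ndS (p := 26018) (l := 6) rfl N26018 D88793
theorem N49373 : nd 49373 = n88794 := ndS (p := 26019) (l := 0) rfl N26019 D88794
theorem N49374 : nd 49374 = n88795 := ndS (p := 26019) (l := 1) rfl N26019 D88795
theorem N49375 : nd 49375 = n88796 := ndS (p := 26019) (l := 7) rfl N26019 D88796
theorem N49376 : nd 49376 = n88797 := ndS (p := 26020) (l := 6) rfl N26020 D88797
theorem N49377 : nd 49377 = n88798 := ndS (p := 26021) (l := 6) rfl N26021 D88798
theorem N49378 : nd 49378 = n88801 := ndS (p := 26022) (l := 5) rfl N26022 D88801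
theorem N49379 : nd 49379 = n88803 := ndS (p := 26023) (l := 0) rfl N26023 D88803
theorem N49380 : nd 49380 = n88804 := ndS (p := 26023) (l := 6) rfl N26023 D88804
theorem N49381 : nd 49381 = n88805 := ndS (p := 26024) (l := 6) rfl N26024 D88805
theorem N49382 : nd 49382 = n88808 := ndS (p := 26025) (l := 5) rfl N26025 D88808
theorem N49383 : nd 49383 = n88810 := ndS (p := 26026) (l := 0) rfl N26026 D88810
theorem N49384 : nd 49384 = n88811 := ndS (p := 26026) (l := 1) rfl N26026 D88811
theorem N49385 : nd 49385 = n88812 := ndS (p := 26026) (l := 5) rfl N26026 D88812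
theorem N49386 : nd 49386 = n88813 := ndS (p := 26026) (l := 7) rfl N26026 D88813
theorem N49387 : nd 49387 = n88814 := ndS (p := 26027) (l := 5) rfl N26027 D88814
theorem N49388 : nd 49388 = n88816 := ndS (p := 26028) (l := 0) rfl N26028 D88816
theorem N49389 : nd 49389 = n88817 := ndS (p := 26028) (l := 1) rfl N26028 D88817
theorem N49390 : nd 49390 = n88819 := ndS (p := 26028) (l := 7) rfl N26028 D88819
theorem N49391 : nd 49391 = n88821 := ndS (p := 26029) (l := 3) rfl N26029 D88821
theorem N49392 : nd 49392 = n88822 := ndS (p := 26029) (l := 4) rfl N26029 D88822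
theorem N49393 : nd 49393 = n88823 := ndS (p := 26029) (l := 5) rfl N26029 D88823
theorem N49394 : nd 49394 = n88824 := ndS (p := 26029) (l := 6) rfl N26029 D88824
theorem N49395 : nd 49395 = n88826 := ndS (p := 26030) (l := 3) rfl N26030 D88826
theorem N49396 : nd 49396 = n88827 := ndS (p := 26030) (l := 4) rfl N26030 D88827
theorem N49397 : nd 49397 = n88828 := ndS (p := 26030) (l := 5) rfl N26030 D88828
theorem N49398 : nd 49398 = n88829 := ndS (p := 26030) (l := 6) rfl N26030 D88829
theorem N49399 : nd 49399 = n88830 := ndS (p := 26031) (l := 0) rfl N26031 D88830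
theorem N49400 : nd 49400 = n88831 := ndS (p := 26031) (l := 1) rfl N26031 D88831
theorem N49401 : nd 49401 = n88833 := ndS (p := 26031) (l := 7) rfl N26031 D88833
theorem N49402 : nd 49402 = n88842 := ndS (p := 26034) (l := 6) rfl N26034 D88842
theorem N49403 : nd 49403 = n88844 := ndS (p := 26035) (l := 1) rfl N26035 D88844
theorem N49404 : nd 49404 = n88846 := ndS (p := 26035) (l := 7) rfl N26035 D88846
theorem N49405 : nd 49405 = n88847 := ndS (p := 26037) (l := 0) rfl N26037 D88847
theorem N49406 : nd 49406 = n88849 := ndS (p := 26037) (l := 2) rfl N26037 D88849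
theorem N49407 : nd 49407 = n88850 := ndS (p := 26037) (l := 5) rfl N26037 D88850
theorem N49408 : nd 49408 = n88851 := ndS (p := 26037) (l := 6) rfl N26037 D88851
theorem N49409 : nd 49409 = n88852 := ndS (p := 26038) (l := 4) rfl N26038 D88852
theorem N49410 : nd 49410 = n88853 := ndS (p := 26038) (l := 6) rfl N26038 D88853
theorem N49411 : nd 49411 = n88857 := ndS (p := 26040) (l := 1) rfl N26040 D88857
theorem N49412 : nd 49412 = n88858 := ndS (p := 26040) (l := 2) rfl N26040 D88858
theorem N49413 : nd 49413 = n88859 := ndS (p := 26040) (l := 5) rfl N26040 D88859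
theorem N49414 : nd 49414 = n88861 := ndS (p := 26041) (l := 4) rfl N26041 D88861
theorem N49415 : nd 49415 = n88862 := ndS (p := 26041) (l := 6) rfl N26041 D88862
theorem N49416 : nd 49416 = n88864 := ndS (p := 26042) (l := 3) rfl N26042 D88864
theorem N49417 : nd 49417 = n88865 := ndS (p := 26042) (l := 4) rfl N26042 D88865
theorem N49418 : nd 49418 = n88866 := ndS (p := 26042) (l := 6) rfl N26042 D88866
theorem N49419 : nd 49419 = n88867 := ndS (p := 26043) (l := 0) rfl N26043 D88867
theorem N49420 : nd 49420 = n88869 := ndS (p := 26044) (l := 6) rfl N26044 D88869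
theorem N49421 : nd 49421 = n88870 := ndS (p := 26045) (l := 4) rfl N26045 D88870
theorem N49422 : nd 49422 = n88873 := ndS (p := 26047) (l := 3) rfl N26047 D88873
theorem N49423 : nd 49423 = n88874 := ndS (p := 26048) (l := 0) rfl N26048 D88874
theorem N49424 : nd 49424 = n88877 := ndS (p := 26048) (l := 6) rfl N26048 D88877
theorem N49425 : nd 49425 = n88878 := ndS (p := 26049) (l := 4) rfl N26049 D88878
theorem N49426 : nd 49426 = n88879 := ndS (p := 26049) (l := 6) rfl N26049 D88879
theorem N49427 : nd 49427 = n88880 := ndS (p := 26050) (l := 1) rfl N26050 D88880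
theorem N49428 : nd 49428 = n88881 := ndS (p := 26050) (l := 5) rfl N26050 D88881
theorem N49429 : nd 49429 = n88883 := ndS (p := 26051) (l := 3) rfl N26051 D88883
theorem N49430 : nd 49430 = n88884 := ndS (p := 26051) (l := 5) rfl N26051 D88884
theorem N49431 : nd 49431 = n88891 := ndS (p := 26053) (l := 4) rfl N26053 D88891
theorem N49432 : nd 49432 = n88892 := ndS (p := 26053) (l := 6) rfl N26053 D88892
theorem N49433 : nd 49433 = n88895 := ndS (p := 26054) (l := 3) rfl N26054 D88895
theorem N49434 : nd 49434 = n88896 := ndS (p := 26054) (l := 5) rfl N26054 D88896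
theorem N49435 : nd 49435 = n88910 := ndS (p := 26056) (l := 6) rfl N26056 D88910
theorem N49436 : nd 49436 = n88911 := ndS (p := 26057) (l := 5) rfl N26057 D88911
theorem N49437 : nd 49437 = n88913 := ndS (p := 26058) (l := 6) rfl N26058 D88913
theorem N49438 : nd 49438 = n88914 := ndS (p := 26059) (l := 0) rfl N26059 D88914
theorem N49439 : nd 49439 = n88915 := ndS (p := 26059) (l := 1) rfl N26059 D88915
theorem N49440 : nd 49440 = n88916 := ndS (p := 26059) (l := 5) rfl N26059 D88916
theorem N49441 : nd 49441 = n88917 := ndS (p := 26059) (l := 7) rfl N26059 D88917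
theorem N49442 : nd 49442 = n88919 := ndS (p := 26060) (l := 4) rfl N26060 D88919
theorem N49443 : nd 49443 = n88920 := ndS (p := 26060) (l := 7) rfl N26060 D88920
theorem N49444 : nd 49444 = n88921 := ndS (p := 26062) (l := 0) rfl N26062 D88921
theorem N49445 : nd 49445 = n88922 := ndS (p := 26062) (l := 1) rfl N26062 D88922
theorem N49446 : nd 49446 = n88923 := ndS (p := 26062) (l := 5) rfl N26062 D88923
theorem N49447 : nd 49447 = n88924 := ndS (p := 26063) (l := 4) rfl N26063 D88924
theorem N49448 : nd 49448 = n88926 := ndS (p := 26064) (l := 5) rfl N26064 D88926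
theorem N49449 : nd 49449 = n88927 := ndS (p := 26064) (l := 6) rfl N26064 D88927
theorem N49450 : nd 49450 = n88929 := ndS (p := 26065) (l := 3) rfl N26065 D88929
theorem N49451 : nd 49451 = n88930 := ndS (p := 26065) (l := 5) rfl N26065 D88930
theorem N49452 : nd 49452 = n88931 := ndS (p := 26065) (l := 6) rfl N26065 D88931
theorem N49453 : nd 49453 = n88932 := ndS (p := 26066) (l := 0) rfl N26066 D88932
theorem N49454 : nd 49454 = n88933 := ndS (p := 26066) (l := 1) rfl N26066 D88933
theorem N49455 : nd 49455 = n88934 := ndS (p := 26066) (l := 4) rfl N26066 D88934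
theorem N49456 : nd 49456 = n88936 := ndS (p := 26067) (l := 2) rfl N26067 D88936
theorem N49457 : nd 49457 = n88937 := ndS (p := 26067) (l := 6) rfl N26067 D88937
theorem N49458 : nd 49458 = n88940 := ndS (p := 26068) (l := 5) rfl N26068 D88940
theorem N49459 : nd 49459 = n88941 := ndS (p := 26068) (l := 7) rfl N26068 D88941
theorem N49460 : nd 49460 = n88943 := ndS (p := 26069) (l := 6) rfl N26069 D88943
theorem N49461 : nd 49461 = n88946 := ndS (p := 26070) (l := 5) rfl N26070 D88946
theorem N49462 : nd 49462 = n88949 := ndS (p := 26071) (l := 3) rfl N26071 D88949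
theorem N49463 : nd 49463 = n88951 := ndS (p := 26071) (l := 5) rfl N26071 D88951
theorem N49464 : nd 49464 = n88952 := ndS (p := 26071) (l := 6) rfl N26071 D88952
theorem N49465 : nd 49465 = n88954 := ndS (p := 26072) (l := 3) rfl N26072 D88954
theorem N49466 : nd 49466 = n88956 := ndS (p := 26072) (l := 5) rfl N26072 D88956
theorem N49467 : nd 49467 = n88957 := ndS (p := 26072) (l := 6) rfl N26072 D88957
theorem N49468 : nd 49468 = n88958 := ndS (p := 26073) (l := 0) rfl N26073 D88958
theorem N49469 : nd 49469 = n88959 := ndS (p := 26073) (l := 1) rfl N26073 D88959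
theorem N49470 : nd 49470 = n88969 := ndS (p := 26074) (l := 1) rfl N26074 D88969
theorem N49471 : nd 49471 = n88970 := ndS (p := 26074) (l := 2) rfl N26074 D88970
theorem N49472 : nd 49472 = n88971 := ndS (p := 26074) (l := 5) rfl N26074 D88971
theorem N49473 : nd 49473 = n88972 := ndS (p := 26074) (l := 6) rfl N26074 D88972
theorem N49474 : nd 49474 = n88974 := ndS (p := 26075) (l := 6) rfl N26075 D88974
theorem N49475 : nd 49475 = n88975 := ndS (p := 26077) (l := 3) rfl N26077 D88975
theorem N49476 : nd 49476 = n88977 := ndS (p := 26077) (l := 6) rfl N26077 D88977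
theorem N49477 : nd 49477 = n88978 := ndS (p := 26078) (l := 3) rfl N26078 D88978
theorem N49478 : nd 49478 = n88980 := ndS (p := 26078) (l := 6) rfl N26078 D88980
theorem N49479 : nd 49479 = n89014 := ndS (p := 26081) (l := 6) rfl N26081 D89014
theorem N49480 : nd 49480 = n89015 := ndS (p := 26082) (l := 6) rfl N26082 D89015
theorem N49481 : nd 49481 = n89016 := ndS (p := 26084) (l := 0) rfl N26084 D89016
theorem N49482 : nd 49482 = n89017 := ndS (p := 26084) (l := 1) rfl N26084 D89017
theorem N49483 : nd 49483 = n89018 := ndS (p := 26084) (l := 5) rfl N26084 D89018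
theorem N49484 : nd 49484 = n89019 := ndS (p := 26085) (l := 5) rfl N26085 D89019
theorem N49485 : nd 49485 = n89021 := ndS (p := 26086) (l := 4) rfl N26086 D89021
theorem N49486 : nd 49486 = n89022 := ndS (p := 26089) (l := 6) rfl N26089 D89022
theorem N49487 : nd 49487 = n89023 := ndS (p := 26090) (l := 5) rfl N26090 D89023
theorem N49488 : nd 49488 = n89024 := ndS (p := 26091) (l := 1) rfl N26091 D89024
theorem N49489 : nd 49489 = n89025 := ndS (p := 26091) (l := 5) rfl N26091 D89025
theorem N49490 : nd 49490 = n89026 := ndS (p := 26091) (l := 7) rfl N26091 D89026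
theorem N49491 : nd 49491 = n89027 := ndS (p := 26092) (l := 1) rfl N26092 D89027
theorem N49492 : nd 49492 = n89028 := ndS (p := 26092) (l := 5) rfl N26092 D89028
theorem N49493 : nd 49493 = n89029 := ndS (p := 26092) (l := 7) rfl N26092 D89029
theorem N49494 : nd 49494 = n89030 := ndS (p := 26093) (l := 0) rfl N26093 D89030
theorem N49495 : nd 49495 = n89032 := ndS (p := 26093) (l := 5) rfl N26093 D89032
theorem N49496 : nd 49496 = n89033 := ndS (p := 26093) (l := 7) rfl N26093 D89033
theorem N49497 : nd 49497 = n89034 := ndS (p := 26094) (l := 3) rfl N26094 D89034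
theorem N49498 : nd 49498 = n89035 := ndS (p := 26094) (l := 5) rfl N26094 D89035
theorem N49499 : nd 49499 = n89036 := ndS (p := 26094) (l := 6) rfl N26094 D89036
theorem N49500 : nd 49500 = n89037 := ndS (p := 26095) (l := 5) rfl N26095 D89037
theorem N49501 : nd 49501 = n89038 := ndS (p := 26095) (l := 6) rfl N26095 D89038
theorem N49502 : nd 49502 = n89039 := ndS (p := 26096) (l := 0) rfl N26096 D89039
theorem N49503 : nd 49503 = n89040 := ndS (p := 26096) (l := 1) rfl N26096 D89040
theorem N49504 : nd 49504 = n89041 := ndS (p := 26096) (l := 4) rfl N26096 D89041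
theorem N49505 : nd 49505 = n89042 := ndS (p := 26096) (l := 7) rfl N26096 D89042
theorem N49506 : nd 49506 = n89044 := ndS (p := 26098) (l := 3) rfl N26098 D89044
theorem N49507 : nd 49507 = n89046 := ndS (p := 26098) (l := 5) rfl N26098 D89046
theorem N49508 : nd 49508 = n89047 := ndS (p := 26098) (l := 6) rfl N26098 D89047
theorem N49509 : nd 49509 = n89051 := ndS (p := 26099) (l := 5) rfl N26099 D89051
theorem N49510 : nd 49510 = n89053 := ndS (p := 26100) (l := 0) rfl N26100 D89053
theorem N49511 : nd 49511 = n89054 := ndS (p := 26100) (l := 1) rfl N26100 D89054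
theorem N49512 : nd 49512 = n89055 := ndS (p := 26100) (l := 4) rfl N26100 D89055
theorem N49513 : nd 49513 = n89056 := ndS (p := 26100) (l := 7) rfl N26100 D89056
theorem N49514 : nd 49514 = n89057 := ndS (p := 26102) (l := 5) rfl N26102 D89057
theorem N49515 : nd 49515 = n89058 := ndS (p := 26102) (l := 6) rfl N26102 D89058
theorem N49516 : nd 49516 = n89059 := ndS (p := 26103) (l := 4) rfl N26103 D89059
theorem N49517 : nd 49517 = n89060 := ndS (p := 26103) (l := 6) rfl N26103 D89060
theorem N49518 : nd 49518 = n89062 := ndS (p := 26105) (l := 1) rfl N26105 D89062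
theorem N49519 : nd 49519 = n89063 := ndS (p := 26105) (l := 2) rfl N26105 D89063
theorem N49520 : nd 49520 = n89064 := ndS (p := 26105) (l := 5) rfl N26105 D89064
theorem N49521 : nd 49521 = n89065 := ndS (p := 26105) (l := 6) rfl N26105 D89065
theorem N49522 : nd 49522 = n89066 := ndS (p := 26106) (l := 4) rfl N26106 D89066
theorem N49523 : nd 49523 = n89067 := ndS (p := 26106) (l := 6) rfl N26106 D89067
theorem N49524 : nd 49524 = n89068 := ndS (p := 26108) (l := 3) rfl N26108 D89068
theorem N49525 : nd 49525 = n89069 := ndS (p := 26108) (l := 4) rfl N26108 D89069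
theorem N49526 : nd 49526 = n89070 := ndS (p := 26108) (l := 6) rfl N26108 D89070
theorem N49527 : nd 49527 = n89071 := ndS (p := 26109) (l := 3) rfl N26109 D89071
theorem N49528 : nd 49528 = n89072 := ndS (p := 26109) (l := 4) rfl N26109 D89072
theorem N49529 : nd 49529 = n89073 := ndS (p := 26109) (l := 6) rfl N26109 D89073
theorem N49530 : nd 49530 = n89074 := ndS (p := 26110) (l := 0) rfl N26110 D89074
theorem N49531 : nd 49531 = n89075 := ndS (p := 26110) (l := 1) rfl N26110 D89075
theorem N49532 : nd 49532 = n89076 := ndS (p := 26110) (l := 3) rfl N26110 D89076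
theorem N49533 : nd 49533 = n89080 := ndS (p := 26112) (l := 5) rfl N26112 D89080
theorem N49534 : nd 49534 = n89081 := ndS (p := 26112) (l := 6) rfl N26112 D89081
theorem N49535 : nd 49535 = n89082 := ndS (p := 26113) (l := 4) rfl N26113 D89082
theorem N49536 : nd 49536 = n89083 := ndS (p := 26113) (l := 6) rfl N26113 D89083
theorem N49537 : nd 49537 = n89084 := ndS (p := 26115) (l := 5) rfl N26115 D89084
theorem N49538 : nd 49538 = n89085 := ndS (p := 26115) (l := 6) rfl N26115 D89085
theorem N49539 : nd 49539 = n89086 := ndS (p := 26116) (l := 0) rfl N26116 D89086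
theorem N49540 : nd 49540 = n89088 := ndS (p := 26116) (l := 5) rfl N26116 D89088
theorem N49541 : nd 49541 = n89089 := ndS (p := 26116) (l := 7) rfl N26116 D89089
theorem N49542 : nd 49542 = n89090 := ndS (p := 26117) (l := 6) rfl N26117 D89090
theorem N49543 : nd 49543 = n89091 := ndS (p := 26118) (l := 5) rfl N26118 D89091
theorem N49544 : nd 49544 = n89092 := ndS (p := 26118) (l := 6) rfl N26118 D89092
theorem N49545 : nd 49545 = n89095 := ndS (p := 26119) (l := 5) rfl N26119 D89095
theorem N49546 : nd 49546 = n89097 := ndS (p := 26120) (l := 6) rfl N26120 D89097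
theorem N49547 : nd 49547 = n89100 := ndS (p := 26121) (l := 5) rfl N26121 D89100
theorem N49548 : nd 49548 = n89102 := ndS (p := 26122) (l := 4) rfl N26122 D89102
theorem N49549 : nd 49549 = n89103 := ndS (p := 26122) (l := 6) rfl N26122 D89103
theorem N49550 : nd 49550 = n89105 := ndS (p := 26123) (l := 5) rfl N26123 D89105
theorem N49551 : nd 49551 = n89106 := ndS (p := 26124) (l := 6) rfl N26124 D89106
theorem N49552 : nd 49552 = n89108 := ndS (p := 26125) (l := 1) rfl N26125 D89108
theorem N49553 : nd 49553 = n89109 := ndS (p := 26125) (l := 5) rfl N26125 D89109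
theorem N49554 : nd 49554 = n89110 := ndS (p := 26125) (l := 7) rfl N26125 D89110
theorem N49555 : nd 49555 = n89112 := ndS (p := 26126) (l := 3) rfl N26126 D89112
theorem N49556 : nd 49556 = n89113 := ndS (p := 26126) (l := 4) rfl N26126 D89113
theorem N49557 : nd 49557 = n89114 := ndS (p := 26126) (l := 5) rfl N26126 D89114
theorem N49558 : nd 49558 = n89115 := ndS (p := 26126) (l := 6) rfl N26126 D89115
theorem N49559 : nd 49559 = n89117 := ndS (p := 26127) (l := 3) rfl N26127 D89117
theorem N49560 : nd 49560 = n89119 := ndS (p := 26127) (l := 5) rfl N26127 D89119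
theorem N49561 : nd 49561 = n89121 := ndS (p := 26128) (l := 0) rfl N26128 D89121
theorem N49562 : nd 49562 = n89122 := ndS (p := 26128) (l := 1) rfl N26128 D89122
theorem N49563 : nd 49563 = n89123 := ndS (p := 26128) (l := 4) rfl N26128 D89123
theorem N49564 : nd 49564 = n89128 := ndS (p := 26129) (l := 5) rfl N26129 D89128
theorem N49565 : nd 49565 = n89129 := ndS (p := 26129) (l := 6) rfl N26129 D89129
theorem N49566 : nd 49566 = n89133 := ndS (p := 26130) (l := 5) rfl N26130 D89133
theorem N49567 : nd 49567 = n89134 := ndS (p := 26130) (l := 6) rfl N26130 D89134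
theorem N49568 : nd 49568 = n89135 := ndS (p := 26131) (l := 0) rfl N26131 D89135
theorem N49569 : nd 49569 = n89136 := ndS (p := 26131) (l := 1) rfl N26131 D89136
theorem N49570 : nd 49570 = n89138 := ndS (p := 26131) (l := 7) rfl N26131 D89138
theorem N49571 : nd 49571 = n89151 := ndS (p := 26135) (l := 6) rfl N26135 D89151
theorem N49572 : nd 49572 = n89153 := ndS (p := 26136) (l := 1) rfl N26136 D89153
theorem N49573 : nd 49573 = n89154 := ndS (p := 26136) (l := 5) rfl N26136 D89154
theorem N49574 : nd 49574 = n89155 := ndS (p := 26136) (l := 7) rfl N26136 D89155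
theorem N49575 : nd 49575 = n89156 := ndS (p := 26137) (l := 0) rfl N26137 D89156
theorem N49576 : nd 49576 = n89157 := ndS (p := 26137) (l := 1) rfl N26137 D89157
theorem N49577 : nd 49577 = n89158 := ndS (p := 26137) (l := 5) rfl N26137 D89158
theorem N49578 : nd 49578 = n89159 := ndS (p := 26137) (l := 7) rfl N26137 D89159
theorem N49579 : nd 49579 = n89162 := ndS (p := 26138) (l := 5) rfl N26138 D89162
theorem N49580 : nd 49580 = n89165 := ndS (p := 26139) (l := 3) rfl N26139 D89165
theorem N49581 : nd 49581 = n89166 := ndS (p := 26139) (l := 5) rfl N26139 D89166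
theorem N49582 : nd 49582 = n89167 := ndS (p := 26139) (l := 6) rfl N26139 D89167
theorem N49583 : nd 49583 = n89171 := ndS (p := 26140) (l := 5) rfl N26140 D89171
theorem N49584 : nd 49584 = n89172 := ndS (p := 26140) (l := 6) rfl N26140 D89172
theorem N49585 : nd 49585 = n89173 := ndS (p := 26141) (l := 0) rfl N26141 D89173
theorem N49586 : nd 49586 = n89174 := ndS (p := 26141) (l := 1) rfl N26141 D89174
theorem N49587 : nd 49587 = n89175 := ndS (p := 26141) (l := 4) rfl N26141 D89175
theorem N49588 : nd 49588 = n89176 := ndS (p := 26141) (l := 7) rfl N26141 D89176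
theorem N49589 : nd 49589 = n89180 := ndS (p := 26143) (l := 5) rfl N26143 D89180
theorem N49590 : nd 49590 = n89181 := ndS (p := 26143) (l := 6) rfl N26143 D89181
theorem N49591 : nd 49591 = n89183 := ndS (p := 26144) (l := 3) rfl N26144 D89183
theorem N49592 : nd 49592 = n89185 := ndS (p := 26144) (l := 5) rfl N26144 D89185
theorem N49593 : nd 49593 = n89187 := ndS (p := 26145) (l := 0) rfl N26145 D89187
theorem N49594 : nd 49594 = n89188 := ndS (p := 26145) (l := 1) rfl N26145 D89188
theorem N49595 : nd 49595 = n89189 := ndS (p := 26145) (l := 4) rfl N26145 D89189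
theorem N49596 : nd 49596 = n89190 := ndS (p := 26145) (l := 7) rfl N26145 D89190
theorem N49597 : nd 49597 = n89191 := ndS (p := 26147) (l := 6) rfl N26147 D89191
theorem N49598 : nd 49598 = n89192 := ndS (p := 26148) (l := 3) rfl N26148 D89192
theorem N49599 : nd 49599 = n89193 := ndS (p := 26148) (l := 6) rfl N26148 D89193
theorem N49600 : nd 49600 = n89194 := ndS (p := 26149) (l := 3) rfl N26149 D89194
theorem N49601 : nd 49601 = n89195 := ndS (p := 26149) (l := 5) rfl N26149 D89195
theorem N49602 : nd 49602 = n89196 := ndS (p := 26149) (l := 7) rfl N26149 D89196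
theorem N49603 : nd 49603 = n89197 := ndS (p := 26150) (l := 6) rfl N26150 D89197
theorem N49604 : nd 49604 = n89198 := ndS (p := 26151) (l := 6) rfl N26151 D89198
theorem N49605 : nd 49605 = n89199 := ndS (p := 26152) (l := 6) rfl N26152 D89199
theorem N49606 : nd 49606 = n89200 := ndS (p := 26153) (l := 0) rfl N26153 D89200
theorem N49607 : nd 49607 = n89201 := ndS (p := 26153) (l := 1) rfl N26153 D89201
theorem N49608 : nd 49608 = n89202 := ndS (p := 26153) (l := 5) rfl N26153 D89202
theorem N49609 : nd 49609 = n89203 := ndS (p := 26154) (l := 4) rfl N26154 D89203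
theorem N49610 : nd 49610 = n89204 := ndS (p := 26155) (l := 3) rfl N26155 D89204
theorem N49611 : nd 49611 = n89205 := ndS (p := 26155) (l := 5) rfl N26155 D89205
theorem N49612 : nd 49612 = n89206 := ndS (p := 26156) (l := 3) rfl N26156 D89206
theorem N49613 : nd 49613 = n89207 := ndS (p := 26156) (l := 5) rfl N26156 D89207
theorem N49614 : nd 49614 = n89209 := ndS (p := 26157) (l := 4) rfl N26157 D89209
theorem N49615 : nd 49615 = n89210 := ndS (p := 26157) (l := 7) rfl N26157 D89210
theorem N49616 : nd 49616 = n89230 := ndS (p := 26160) (l := 0) rfl N26160 D89230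
theorem N49617 : nd 49617 = n89232 := ndS (p := 26160) (l := 2) rfl N26160 D89232
theorem N49618 : nd 49618 = n89233 := ndS (p := 26160) (l := 5) rfl N26160 D89233
theorem N49619 : nd 49619 = n89234 := ndS (p := 26160) (l := 6) rfl N26160 D89234
theorem N49620 : nd 49620 = n89235 := ndS (p := 26161) (l := 0) rfl N26161 D89235
theorem N49621 : nd 49621 = n89237 := ndS (p := 26161) (l := 4) rfl N26161 D89237
theorem N49622 : nd 49622 = n89238 := ndS (p := 26161) (l := 6) rfl N26161 D89238
theorem N49623 : nd 49623 = n89240 := ndS (p := 26163) (l := 1) rfl N26163 D89240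
theorem N49624 : nd 49624 = n89241 := ndS (p := 26163) (l := 2) rfl N26163 D89241
theorem N49625 : nd 49625 = n89242 := ndS (p := 26163) (l := 5) rfl N26163 D89242
theorem N49626 : nd 49626 = n89243 := ndS (p := 26163) (l := 6) rfl N26163 D89243
theorem N49627 : nd 49627 = n89244 := ndS (p := 26164) (l := 4) rfl N26164 D89244
theorem N49628 : nd 49628 = n89246 := ndS (p := 26166) (l := 3) rfl N26166 D89246
theorem N49629 : nd 49629 = n89247 := ndS (p := 26166) (l := 4) rfl N26166 D89247
theorem N49630 : nd 49630 = n89248 := ndS (p := 26166) (l := 6) rfl N26166 D89248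
theorem N49631 : nd 49631 = n89249 := ndS (p := 26167) (l := 3) rfl N26167 D89249
theorem N49632 : nd 49632 = n89250 := ndS (p := 26167) (l := 4) rfl N26167 D89250
theorem N49633 : nd 49633 = n89251 := ndS (p := 26167) (l := 6) rfl N26167 D89251
theorem N49634 : nd 49634 = n89253 := ndS (p := 26168) (l := 1) rfl N26168 D89253
theorem N49635 : nd 49635 = n89254 := ndS (p := 26168) (l := 3) rfl N26168 D89254
theorem N49636 : nd 49636 = n89255 := ndS (p := 26168) (l := 5) rfl N26168 D89255
theorem N49637 : nd 49637 = n89256 := ndS (p := 26168) (l := 7) rfl N26168 D89256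
theorem N49638 : nd 49638 = n89257 := ndS (p := 26169) (l := 6) rfl N26169 D89257
theorem N49639 : nd 49639 = n89258 := ndS (p := 26170) (l := 3) rfl N26170 D89258
theorem N49640 : nd 49640 = n89260 := ndS (p := 26171) (l := 6) rfl N26171 D89260
theorem N49641 : nd 49641 = n89290 := ndS (p := 26173) (l := 6) rfl N26173 D89290
theorem N49642 : nd 49642 = n89296 := ndS (p := 26174) (l := 6) rfl N26174 D89296
theorem N49643 : nd 49643 = n89301 := ndS (p := 26175) (l := 6) rfl N26175 D89301
theorem N49644 : nd 49644 = n89304 := ndS (p := 26176) (l := 1) rfl N26176 D89304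
theorem N49645 : nd 49645 = n89308 := ndS (p := 26177) (l := 1) rfl N26177 D89308
theorem N49646 : nd 49646 = n89312 := ndS (p := 26177) (l := 6) rfl N26177 D89312
theorem N49647 : nd 49647 = n89315 := ndS (p := 26178) (l := 6) rfl N26178 D89315
theorem N49648 : nd 49648 = n89317 := ndS (p := 26179) (l := 6) rfl N26179 D89317
theorem N49649 : nd 49649 = n89318 := ndS (p := 26180) (l := 0) rfl N26180 D89318
theorem N49650 : nd 49650 = n89320 := ndS (p := 26180) (l := 5) rfl N26180 D89320
theorem N49651 : nd 49651 = n89321 := ndS (p := 26180) (l := 7) rfl N26180 D89321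
theorem N49652 : nd 49652 = n89323 := ndS (p := 26181) (l := 3) rfl N26181 D89323
theorem N49653 : nd 49653 = n89326 := ndS (p := 26181) (l := 6) rfl N26181 D89326
theorem N49654 : nd 49654 = n89330 := ndS (p := 26182) (l := 6) rfl N26182 D89330
theorem N49655 : nd 49655 = n89331 := ndS (p := 26183) (l := 0) rfl N26183 D89331
theorem N49656 : nd 49656 = n89335 := ndS (p := 26183) (l := 7) rfl N26183 D89335
theorem N49657 : nd 49657 = n89336 := ndS (p := 26184) (l := 6) rfl N26184 D89336
theorem N49658 : nd 49658 = n89337 := ndS (p := 26185) (l := 5) rfl N26185 D89337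
theorem N49659 : nd 49659 = n89339 := ndS (p := 26186) (l := 3) rfl N26186 D89339
theorem N49660 : nd 49660 = n89341 := ndS (p := 26186) (l := 5) rfl N26186 D89341
theorem N49661 : nd 49661 = n89342 := ndS (p := 26186) (l := 6) rfl N26186 D89342
theorem N49662 : nd 49662 = n89346 := ndS (p := 26187) (l := 5) rfl N26187 D89346
theorem N49663 : nd 49663 = n89347 := ndS (p := 26187) (l := 6) rfl N26187 D89347
theorem N49664 : nd 49664 = n89348 := ndS (p := 26188) (l := 0) rfl N26188 D89348
theorem N49665 : nd 49665 = n89349 := ndS (p := 26188) (l := 1) rfl N26188 D89349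
theorem N49666 : nd 49666 = n89350 := ndS (p := 26188) (l := 4) rfl N26188 D89350
theorem N49667 : nd 49667 = n89353 := ndS (p := 26189) (l := 4) rfl N26189 D89353
theorem N49668 : nd 49668 = n89354 := ndS (p := 26189) (l := 5) rfl N26189 D89354
theorem N49669 : nd 49669 = n89361 := ndS (p := 26190) (l := 5) rfl N26190 D89361
theorem N49670 : nd 49670 = n89362 := ndS (p := 26190) (l := 6) rfl N26190 D89362
theorem N49671 : nd 49671 = n89363 := ndS (p := 26191) (l := 5) rfl N26191 D89363
theorem N49672 : nd 49672 = n89364 := ndS (p := 26191) (l := 6) rfl N26191 D89364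
theorem N49673 : nd 49673 = n89365 := ndS (p := 26192) (l := 0) rfl N26192 D89365
theorem N49674 : nd 49674 = n89366 := ndS (p := 26192) (l := 1) rfl N26192 D89366
theorem N49675 : nd 49675 = n89367 := ndS (p := 26192) (l := 4) rfl N26192 D89367
theorem N49676 : nd 49676 = n89368 := ndS (p := 26192) (l := 6) rfl N26192 D89368
theorem N49677 : nd 49677 = n89369 := ndS (p := 26193) (l := 0) rfl N26193 D89369
theorem N49678 : nd 49678 = n89370 := ndS (p := 26193) (l := 1) rfl N26193 D89370
theorem N49679 : nd 49679 = n89371 := ndS (p := 26193) (l := 5) rfl N26193 D89371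
theorem N49680 : nd 49680 = n89372 := ndS (p := 26193) (l := 7) rfl N26193 D89372
theorem N49681 : nd 49681 = n89375 := ndS (p := 26197) (l := 3) rfl N26197 D89375
theorem N49682 : nd 49682 = n89376 := ndS (p := 26197) (l := 4) rfl N26197 D89376
theorem N49683 : nd 49683 = n89377 := ndS (p := 26197) (l := 6) rfl N26197 D89377
theorem N49684 : nd 49684 = n89378 := ndS (p := 26198) (l := 4) rfl N26198 D89378
theorem N49685 : nd 49685 = n89379 := ndS (p := 26198) (l := 6) rfl N26198 D89379
theorem N49686 : nd 49686 = n89380 := ndS (p := 26199) (l := 0) rfl N26199 D89380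
theorem N49687 : nd 49687 = n89381 := ndS (p := 26199) (l := 1) rfl N26199 D89381
theorem N49688 : nd 49688 = n89382 := ndS (p := 26199) (l := 3) rfl N26199 D89382
theorem N49689 : nd 49689 = n89383 := ndS (p := 26199) (l := 6) rfl N26199 D89383
theorem N49690 : nd 49690 = n89384 := ndS (p := 26200) (l := 0) rfl N26200 D89384
theorem N49691 : nd 49691 = n89385 := ndS (p := 26200) (l := 1) rfl N26200 D89385
theorem N49692 : nd 49692 = n89386 := ndS (p := 26200) (l := 5) rfl N26200 D89386
theorem N49693 : nd 49693 = n89387 := ndS (p := 26200) (l := 7) rfl N26200 D89387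
theorem N49694 : nd 49694 = n89388 := ndS (p := 26202) (l := 4) rfl N26202 D89388
theorem N49695 : nd 49695 = n89397 := ndS (p := 26204) (l := 5) rfl N26204 D89397
theorem N49696 : nd 49696 = n89399 := ndS (p := 26205) (l := 4) rfl N26205 D89399
theorem N49697 : nd 49697 = n89400 := ndS (p := 26205) (l := 5) rfl N26205 D89400
theorem N49698 : nd 49698 = n89401 := ndS (p := 26205) (l := 6) rfl N26205 D89401
theorem N49699 : nd 49699 = n89403 := ndS (p := 26206) (l := 1) rfl N26206 D89403
theorem N49700 : nd 49700 = n89404 := ndS (p := 26206) (l := 5) rfl N26206 D89404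
theorem N49701 : nd 49701 = n89406 := ndS (p := 26207) (l := 0) rfl N26207 D89406
theorem N49702 : nd 49702 = n89407 := ndS (p := 26207) (l := 1) rfl N26207 D89407
theorem N49703 : nd 49703 = n89408 := ndS (p := 26207) (l := 4) rfl N26207 D89408
theorem N49704 : nd 49704 = n89409 := ndS (p := 26207) (l := 6) rfl N26207 D89409
theorem N49705 : nd 49705 = n89410 := ndS (p := 26208) (l := 0) rfl N26208 D89410
theorem N49706 : nd 49706 = n89411 := ndS (p := 26208) (l := 1) rfl N26208 D89411
theorem N49707 : nd 49707 = n89412 := ndS (p := 26208) (l := 5) rfl N26208 D89412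
theorem N49708 : nd 49708 = n89414 := ndS (p := 26210) (l := 3) rfl N26210 D89414
theorem N49709 : nd 49709 = n89415 := ndS (p := 26210) (l := 6) rfl N26210 D89415
theorem N49710 : nd 49710 = n89416 := ndS (p := 26211) (l := 0) rfl N26211 D89416
theorem N49711 : nd 49711 = n89417 := ndS (p := 26211) (l := 1) rfl N26211 D89417
theorem N49712 : nd 49712 = n89418 := ndS (p := 26211) (l := 5) rfl N26211 D89418
theorem N49713 : nd 49713 = n89419 := ndS (p := 26211) (l := 7) rfl N26211 D89419
theorem N49714 : nd 49714 = n89420 := ndS (p := 26212) (l := 4) rfl N26212 D89420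
theorem N49715 : nd 49715 = n89423 := ndS (p := 26213) (l := 2) rfl N26213 D89423
theorem N49716 : nd 49716 = n89424 := ndS (p := 26213) (l := 4) rfl N26213 D89424
theorem N49717 : nd 49717 = n89425 := ndS (p := 26213) (l := 6) rfl N26213 D89425
theorem N49718 : nd 49718 = n89426 := ndS (p := 26214) (l := 0) rfl N26214 D89426
theorem N49719 : nd 49719 = n89428 := ndS (p := 26214) (l := 6) rfl N26214 D89428
theorem N49720 : nd 49720 = n89429 := ndS (p := 26215) (l := 0) rfl N26215 D89429
theorem N49721 : nd 49721 = n89430 := ndS (p := 26215) (l := 1) rfl N26215 D89430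
theorem N49722 : nd 49722 = n89431 := ndS (p := 26215) (l := 5) rfl N26215 D89431
theorem N49723 : nd 49723 = n89432 := ndS (p := 26215) (l := 7) rfl N26215 D89432
theorem N49724 : nd 49724 = n89435 := ndS (p := 26216) (l := 2) rfl N26216 D89435
theorem N49725 : nd 49725 = n89440 := ndS (p := 26218) (l := 0) rfl N26218 D89440
theorem N49726 : nd 49726 = n89441 := ndS (p := 26218) (l := 1) rfl N26218 D89441
theorem N49727 : nd 49727 = n89442 := ndS (p := 26218) (l := 7) rfl N26218 D89442
theorem N49728 : nd 49728 = n89443 := ndS (p := 26219) (l := 3) rfl N26219 D89443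
theorem N49729 : nd 49729 = n89444 := ndS (p := 26219) (l := 6) rfl N26219 D89444
theorem N49730 : nd 49730 = n89446 := ndS (p := 26220) (l := 6) rfl N26220 D89446
theorem N49731 : nd 49731 = n89448 := ndS (p := 26221) (l := 1) rfl N26221 D89448
theorem N49732 : nd 49732 = n89449 := ndS (p := 26221) (l := 2) rfl N26221 D89449
theorem N49733 : nd 49733 = n89450 := ndS (p := 26221) (l := 5) rfl N26221 D89450
theorem N49734 : nd 49734 = n89451 := ndS (p := 26221) (l := 7) rfl N26221 D89451
theorem N49735 : nd 49735 = n89452 := ndS (p := 26222) (l := 6) rfl N26222 D89452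
theorem N49736 : nd 49736 = n89453 := ndS (p := 26223) (l := 6) rfl N26223 D89453
theorem N49737 : nd 49737 = n89454 := ndS (p := 26224) (l := 0) rfl N26224 D89454
theorem N49738 : nd 49738 = n89455 := ndS (p := 26224) (l := 1) rfl N26224 D89455
theorem N49739 : nd 49739 = n89456 := ndS (p := 26224) (l := 5) rfl N26224 D89456
theorem N49740 : nd 49740 = n89457 := ndS (p := 26225) (l := 4) rfl N26225 D89457
theorem N49741 : nd 49741 = n89461 := ndS (p := 26226) (l := 5) rfl N26226 D89461
theorem N49742 : nd 49742 = n89462 := ndS (p := 26226) (l := 6) rfl N26226 D89462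
theorem N49743 : nd 49743 = n89463 := ndS (p := 26227) (l := 0) rfl N26227 D89463
theorem N49744 : nd 49744 = n89465 := ndS (p := 26227) (l := 4) rfl N26227 D89465
theorem N49745 : nd 49745 = n89466 := ndS (p := 26227) (l := 6) rfl N26227 D89466
theorem N49746 : nd 49746 = n89471 := ndS (p := 26229) (l := 5) rfl N26229 D89471
theorem N49747 : nd 49747 = n89472 := ndS (p := 26229) (l := 6) rfl N26229 D89472
theorem N49748 : nd 49748 = n89473 := ndS (p := 26230) (l := 4) rfl N26230 D89473
theorem N49749 : nd 49749 = n89474 := ndS (p := 26230) (l := 6) rfl N26230 D89474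
theorem N49750 : nd 49750 = n89475 := ndS (p := 26232) (l := 3) rfl N26232 D89475
theorem N49751 : nd 49751 = n89476 := ndS (p := 26232) (l := 4) rfl N26232 D89476
theorem N49752 : nd 49752 = n89477 := ndS (p := 26232) (l := 6) rfl N26232 D89477
theorem N49753 : nd 49753 = n89478 := ndS (p := 26233) (l := 3) rfl N26233 D89478
theorem N49754 : nd 49754 = n89479 := ndS (p := 26233) (l := 4) rfl N26233 D89479
theorem N49755 : nd 49755 = n89480 := ndS (p := 26233) (l := 6) rfl N26233 D89480
theorem N49756 : nd 49756 = n89481 := ndS (p := 26234) (l := 0) rfl N26234 D89481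
theorem N49757 : nd 49757 = n89482 := ndS (p := 26234) (l := 1) rfl N26234 D89482
theorem N49758 : nd 49758 = n89483 := ndS (p := 26234) (l := 3) rfl N26234 D89483
theorem N49759 : nd 49759 = n89484 := ndS (p := 26234) (l := 5) rfl N26234 D89484
theorem N49760 : nd 49760 = n89486 := ndS (p := 26237) (l := 0) rfl N26237 D89486
theorem N49761 : nd 49761 = n89489 := ndS (p := 26237) (l := 5) rfl N26237 D89489
theorem N49762 : nd 49762 = n89490 := ndS (p := 26237) (l := 6) rfl N26237 D89490
theorem N49763 : nd 49763 = n89491 := ndS (p := 26238) (l := 4) rfl N26238 D89491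
theorem N49764 : nd 49764 = n89492 := ndS (p := 26238) (l := 6) rfl N26238 D89492
theorem N49765 : nd 49765 = n89495 := ndS (p := 26241) (l := 3) rfl N26241 D89495
theorem N49766 : nd 49766 = n89496 := ndS (p := 26242) (l := 1) rfl N26242 D89496
theorem N49767 : nd 49767 = n89498 := ndS (p := 26246) (l := 0) rfl N26246 D89498
theorem N49768 : nd 49768 = n89499 := ndS (p := 26246) (l := 1) rfl N26246 D89499
theorem N49769 : nd 49769 = n89500 := ndS (p := 26246) (l := 2) rfl N26246 D89500
theorem N49770 : nd 49770 = n89501 := ndS (p := 26246) (l := 5) rfl N26246 D89501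
theorem N49771 : nd 49771 = n89502 := ndS (p := 26247) (l := 4) rfl N26247 D89502
theorem N49772 : nd 49772 = n89503 := ndS (p := 26247) (l := 6) rfl N26247 D89503
theorem N49773 : nd 49773 = n89516 := ndS (p := 26248) (l := 0) rfl N26248 D89516
theorem N49774 : nd 49774 = n89517 := ndS (p := 26248) (l := 1) rfl N26248 D89517
theorem N49775 : nd 49775 = n89518 := ndS (p := 26248) (l := 4) rfl N26248 D89518
theorem N49776 : nd 49776 = n89519 := ndS (p := 26248) (l := 6) rfl N26248 D89519
theorem N49777 : nd 49777 = n89520 := ndS (p := 26249) (l := 0) rfl N26249 D89520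
theorem N49778 : nd 49778 = n89521 := ndS (p := 26249) (l := 1) rfl N26249 D89521
theorem N49779 : nd 49779 = n89523 := ndS (p := 26249) (l := 7) rfl N26249 D89523
theorem N49780 : nd 49780 = n89524 := ndS (p := 26250) (l := 3) rfl N26250 D89524
theorem N49781 : nd 49781 = n89525 := ndS (p := 26250) (l := 4) rfl N26250 D89525
theorem N49782 : nd 49782 = n89526 := ndS (p := 26250) (l := 6) rfl N26250 D89526
theorem N49783 : nd 49783 = n89528 := ndS (p := 26251) (l := 4) rfl N26251 D89528
theorem N49784 : nd 49784 = n89530 := ndS (p := 26252) (l := 3) rfl N26252 D89530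
theorem N49785 : nd 49785 = n89531 := ndS (p := 26252) (l := 6) rfl N26252 D89531
theorem N49786 : nd 49786 = n89532 := ndS (p := 26253) (l := 0) rfl N26253 D89532
theorem N49787 : nd 49787 = n89533 := ndS (p := 26253) (l := 1) rfl N26253 D89533
theorem N49788 : nd 49788 = n89534 := ndS (p := 26253) (l := 5) rfl N26253 D89534
theorem N49789 : nd 49789 = n89535 := ndS (p := 26253) (l := 7) rfl N26253 D89535
theorem N49790 : nd 49790 = n89536 := ndS (p := 26254) (l := 3) rfl N26254 D89536
theorem N49791 : nd 49791 = n89537 := ndS (p := 26255) (l := 1) rfl N26255 D89537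
theorem N49792 : nd 49792 = n89538 := ndS (p := 26255) (l := 4) rfl N26255 D89538
theorem N49793 : nd 49793 = n89539 := ndS (p := 26255) (l := 7) rfl N26255 D89539
theorem N49794 : nd 49794 = n89540 := ndS (p := 26257) (l := 3) rfl N26257 D89540
theorem N49795 : nd 49795 = n89541 := ndS (p := 26258) (l := 3) rfl N26258 D89541
theorem N49796 : nd 49796 = n89542 := ndS (p := 26259) (l := 0) rfl N26259 D89542
theorem N49797 : nd 49797 = n89544 := ndS (p := 26259) (l := 2) rfl N26259 D89544
theorem N49798 : nd 49798 = n89545 := ndS (p := 26259) (l := 5) rfl N26259 D89545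
theorem N49799 : nd 49799 = n89546 := ndS (p := 26259) (l := 6) rfl N26259 D89546
theorem N49800 : nd 49800 = n89547 := ndS (p := 26260) (l := 6) rfl N26260 D89547
theorem N49801 : nd 49801 = n89548 := ndS (p := 26261) (l := 5) rfl N26261 D89548
theorem N49802 : nd 49802 = n89549 := ndS (p := 26262) (l := 3) rfl N26262 D89549
theorem N49803 : nd 49803 = n89550 := ndS (p := 26262) (l := 5) rfl N26262 D89550
theorem N49804 : nd 49804 = n89553 := ndS (p := 26265) (l := 1) rfl N26265 D89553
theorem N49805 : nd 49805 = n89554 := ndS (p := 26265) (l := 2) rfl N26265 D89554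
theorem N49806 : nd 49806 = n89556 := ndS (p := 26265) (l := 6) rfl N26265 D89556
theorem N49807 : nd 49807 = n89557 := ndS (p := 26266) (l := 4) rfl N26266 D89557
theorem N49808 : nd 49808 = n89561 := ndS (p := 26270) (l := 3) rfl N26270 D89561
theorem N49809 : nd 49809 = n89563 := ndS (p := 26273) (l := 5) rfl N26273 D89563
theorem N49810 : nd 49810 = n89566 := ndS (p := 26275) (l := 0) rfl N26275 D89566
theorem N49811 : nd 49811 = n89567 := ndS (p := 26275) (l := 1) rfl N26275 D89567
theorem N49812 : nd 49812 = n89569 := ndS (p := 26275) (l := 6) rfl N26275 D89569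
theorem N49813 : nd 49813 = n89570 := ndS (p := 26276) (l := 0) rfl N26276 D89570
theorem N49814 : nd 49814 = n89571 := ndS (p := 26276) (l := 1) rfl N26276 D89571
theorem N49815 : nd 49815 = n89574 := ndS (p := 26277) (l := 3) rfl N26277 D89574
theorem N49816 : nd 49816 = n89575 := ndS (p := 26277) (l := 6) rfl N26277 D89575
theorem N49817 : nd 49817 = n89576 := ndS (p := 26278) (l := 0) rfl N26278 D89576
theorem N49818 : nd 49818 = n89577 := ndS (p := 26278) (l := 1) rfl N26278 D89577
theorem N49819 : nd 49819 = n89578 := ndS (p := 26278) (l := 5) rfl N26278 D89578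
theorem N49820 : nd 49820 = n89579 := ndS (p := 26278) (l := 7) rfl N26278 D89579
theorem N49821 : nd 49821 = n89580 := ndS (p := 26279) (l := 3) rfl N26279 D89580
theorem N49822 : nd 49822 = n89582 := ndS (p := 26280) (l := 4) rfl N26280 D89582
theorem N49823 : nd 49823 = n89584 := ndS (p := 26281) (l := 0) rfl N26281 D89584
theorem N49824 : nd 49824 = n89585 := ndS (p := 26281) (l := 1) rfl N26281 D89585
theorem N49825 : nd 49825 = n89586 := ndS (p := 26281) (l := 2) rfl N26281 D89586
theorem N49826 : nd 49826 = n89587 := ndS (p := 26281) (l := 5) rfl N26281 D89587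
theorem N49827 : nd 49827 = n89588 := ndS (p := 26282) (l := 6) rfl N26282 D89588
theorem N49828 : nd 49828 = n89589 := ndS (p := 26283) (l := 3) rfl N26283 D89589
theorem N49829 : nd 49829 = n89592 := ndS (p := 26284) (l := 1) rfl N26284 D89592
theorem N49830 : nd 49830 = n89597 := ndS (p := 26285) (l := 5) rfl N26285 D89597
theorem N49831 : nd 49831 = n89598 := ndS (p := 26286) (l := 0) rfl N26286 D89598
theorem N49832 : nd 49832 = n89599 := ndS (p := 26286) (l := 1) rfl N26286 D89599
theorem N49833 : nd 49833 = n89600 := ndS (p := 26286) (l := 4) rfl N26286 D89600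
theorem N49834 : nd 49834 = n89601 := ndS (p := 26286) (l := 6) rfl N26286 D89601
theorem N49835 : nd 49835 = n89606 := ndS (p := 26287) (l := 3) rfl N26287 D89606
theorem N49836 : nd 49836 = n89607 := ndS (p := 26287) (l := 5) rfl N26287 D89607
theorem N49837 : nd 49837 = n89611 := ndS (p := 26288) (l := 5) rfl N26288 D89611
theorem N49838 : nd 49838 = n89612 := ndS (p := 26288) (l := 6) rfl N26288 D89612
theorem N49839 : nd 49839 = n89613 := ndS (p := 26289) (l := 4) rfl N26289 D89613
theorem N49840 : nd 49840 = n89614 := ndS (p := 26289) (l := 6) rfl N26289 D89614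
theorem N49841 : nd 49841 = n89615 := ndS (p := 26290) (l := 5) rfl N26290 D89615
theorem N49842 : nd 49842 = n89645 := ndS (p := 26291) (l := 0) rfl N26291 D89645
theorem N49843 : nd 49843 = n89648 := ndS (p := 26292) (l := 1) rfl N26292 D89648
theorem N49844 : nd 49844 = n89649 := ndS (p := 26292) (l := 2) rfl N26292 D89649
theorem N49845 : nd 49845 = n89650 := ndS (p := 26292) (l := 5) rfl N26292 D89650
theorem N49846 : nd 49846 = n89651 := ndS (p := 26292) (l := 6) rfl N26292 D89651
theorem N49847 : nd 49847 = n89652 := ndS (p := 26293) (l := 6) rfl N26293 D89652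
theorem N49848 : nd 49848 = n89658 := ndS (p := 26295) (l := 0) rfl N26295 D89658
theorem N49849 : nd 49849 = n89659 := ndS (p := 26295) (l := 1) rfl N26295 D89659
theorem N49850 : nd 49850 = n89660 := ndS (p := 26295) (l := 2) rfl N26295 D89660
theorem N49851 : nd 49851 = n89668 := ndS (p := 26296) (l := 0) rfl N26296 D89668
theorem N49852 : nd 49852 = n89669 := ndS (p := 26296) (l := 1) rfl N26296 D89669
theorem N49853 : nd 49853 = n89670 := ndS (p := 26296) (l := 2) rfl N26296 D89670
theorem N49854 : nd 49854 = n89685 := ndS (p := 26297) (l := 3) rfl N26297 D89685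
theorem N49855 : nd 49855 = n89686 := ndS (p := 26297) (l := 6) rfl N26297 D89686
theorem N49856 : nd 49856 = n89687 := ndS (p := 26298) (l := 3) rfl N26298 D89687
theorem N49857 : nd 49857 = n89688 := ndS (p := 26298) (l := 6) rfl N26298 D89688
theorem N49858 : nd 49858 = n89689 := ndS (p := 26299) (l := 0) rfl N26299 D89689
theorem N49859 : nd 49859 = n89690 := ndS (p := 26299) (l := 1) rfl N26299 D89690
theorem N49860 : nd 49860 = n89691 := ndS (p := 26299) (l := 7) rfl N26299 D89691
theorem N49861 : nd 49861 = n89692 := ndS (p := 26300) (l := 5) rfl N26300 D89692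
theorem N49862 : nd 49862 = n89694 := ndS (p := 26301) (l := 5) rfl N26301 D89694
theorem N49863 : nd 49863 = n89701 := ndS (p := 26302) (l := 1) rfl N26302 D89701
theorem N49864 : nd 49864 = n89703 := ndS (p := 26303) (l := 3) rfl N26303 D89703
theorem N49865 : nd 49865 = n89707 := ndS (p := 26304) (l := 5) rfl N26304 D89707
theorem N49866 : nd 49866 = n89708 := ndS (p := 26304) (l := 6) rfl N26304 D89708
theorem N49867 : nd 49867 = n89709 := ndS (p := 26305) (l := 0) rfl N26305 D89709
theorem N49868 : nd 49868 = n89710 := ndS (p := 26305) (l := 1) rfl N26305 D89710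
theorem N49869 : nd 49869 = n89712 := ndS (p := 26305) (l := 6) rfl N26305 D89712
theorem N49870 : nd 49870 = n89713 := ndS (p := 26306) (l := 5) rfl N26306 D89713
theorem N49871 : nd 49871 = n89718 := ndS (p := 26307) (l := 3) rfl N26307 D89718
theorem N49872 : nd 49872 = n89719 := ndS (p := 26307) (l := 5) rfl N26307 D89719
theorem N49873 : nd 49873 = n89723 := ndS (p := 26308) (l := 5) rfl N26308 D89723
theorem N49874 : nd 49874 = n89724 := ndS (p := 26308) (l := 6) rfl N26308 D89724
theorem N49875 : nd 49875 = n89725 := ndS (p := 26309) (l := 4) rfl N26309 D89725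
theorem N49876 : nd 49876 = n89726 := ndS (p := 26309) (l := 6) rfl N26309 D89726
theorem N49877 : nd 49877 = n89727 := ndS (p := 26310) (l := 5) rfl N26310 D89727
theorem N49878 : nd 49878 = n89756 := ndS (p := 26311) (l := 0) rfl N26311 D89756
theorem N49879 : nd 49879 = n89757 := ndS (p := 26311) (l := 1) rfl N26311 D89757
theorem N49880 : nd 49880 = n89758 := ndS (p := 26311) (l := 4) rfl N26311 D89758
theorem N49881 : nd 49881 = n89759 := ndS (p := 26311) (l := 6) rfl N26311 D89759
theorem N49882 : nd 49882 = n89768 := ndS (p := 26312) (l := 4) rfl N26312 D89768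
theorem N49883 : nd 49883 = n89769 := ndS (p := 26312) (l := 6) rfl N26312 D89769
theorem N49884 : nd 49884 = n89819 := ndS (p := 26313) (l := 5) rfl N26313 D89819
theorem N49885 : nd 49885 = n89820 := ndS (p := 26314) (l := 4) rfl N26314 D89820
theorem N49886 : nd 49886 = n89821 := ndS (p := 26314) (l := 6) rfl N26314 D89821
theorem N49887 : nd 49887 = n89822 := ndS (p := 26315) (l := 0) rfl N26315 D89822
theorem N49888 : nd 49888 = n89824 := ndS (p := 26315) (l := 5) rfl N26315 D89824
theorem N49889 : nd 49889 = n89825 := ndS (p := 26315) (l := 6) rfl N26315 D89825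
theorem N49890 : nd 49890 = n89826 := ndS (p := 26316) (l := 4) rfl N26316 D89826
theorem N49891 : nd 49891 = n89827 := ndS (p := 26316) (l := 6) rfl N26316 D89827
theorem N49892 : nd 49892 = n89828 := ndS (p := 26317) (l := 1) rfl N26317 D89828
theorem N49893 : nd 49893 = n89830 := ndS (p := 26318) (l := 3) rfl N26318 D89830
theorem N49894 : nd 49894 = n89833 := ndS (p := 26319) (l := 0) rfl N26319 D89833
theorem N49895 : nd 49895 = n89834 := ndS (p := 26319) (l := 1) rfl N26319 D89834
theorem N49896 : nd 49896 = n89835 := ndS (p := 26319) (l := 2) rfl N26319 D89835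
theorem N49897 : nd 49897 = n89836 := ndS (p := 26319) (l := 5) rfl N26319 D89836
theorem N49898 : nd 49898 = n89837 := ndS (p := 26321) (l := 4) rfl N26321 D89837
theorem N49899 : nd 49899 = n89838 := ndS (p := 26321) (l := 6) rfl N26321 D89838
theorem N49900 : nd 49900 = n89839 := ndS (p := 26322) (l := 0) rfl N26322 D89839
theorem N49901 : nd 49901 = n89840 := ndS (p := 26322) (l := 1) rfl N26322 D89840
theorem N49902 : nd 49902 = n89841 := ndS (p := 26322) (l := 4) rfl N26322 D89841
theorem N49903 : nd 49903 = n89842 := ndS (p := 26322) (l := 6) rfl N26322 D89842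
theorem N49904 : nd 49904 = n89843 := ndS (p := 26323) (l := 3) rfl N26323 D89843
theorem N49905 : nd 49905 = n89844 := ndS (p := 26323) (l := 4) rfl N26323 D89844
theorem N49906 : nd 49906 = n89845 := ndS (p := 26323) (l := 6) rfl N26323 D89845
theorem N49907 : nd 49907 = n89846 := ndS (p := 26324) (l := 3) rfl N26324 D89846
theorem N49908 : nd 49908 = n89847 := ndS (p := 26324) (l := 4) rfl N26324 D89847
theorem N49909 : nd 49909 = n89848 := ndS (p := 26324) (l := 6) rfl N26324 D89848
theorem N49910 : nd 49910 = n89849 := ndS (p := 26325) (l := 0) rfl N26325 D89849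
theorem N49911 : nd 49911 = n89850 := ndS (p := 26325) (l := 1) rfl N26325 D89850
theorem N49912 : nd 49912 = n89851 := ndS (p := 26325) (l := 3) rfl N26325 D89851
theorem N49913 : nd 49913 = n89852 := ndS (p := 26325) (l := 5) rfl N26325 D89852
theorem N49914 : nd 49914 = n89853 := ndS (p := 26325) (l := 6) rfl N26325 D89853
theorem N49915 : nd 49915 = n89854 := ndS (p := 26326) (l := 0) rfl N26326 D89854
theorem N49916 : nd 49916 = n89855 := ndS (p := 26326) (l := 1) rfl N26326 D89855
theorem N49917 : nd 49917 = n89857 := ndS (p := 26326) (l := 7) rfl N26326 D89857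
theorem N49918 : nd 49918 = n89858 := ndS (p := 26327) (l := 3) rfl N26327 D89858
theorem N49919 : nd 49919 = n89859 := ndS (p := 26328) (l := 3) rfl N26328 D89859
theorem N49920 : nd 49920 = n89863 := ndS (p := 26331) (l := 3) rfl N26331 D89863
theorem N49921 : nd 49921 = n89864 := ndS (p := 26331) (l := 5) rfl N26331 D89864
theorem N49922 : nd 49922 = n89865 := ndS (p := 26332) (l := 3) rfl N26332 D89865
theorem N49923 : nd 49923 = n89866 := ndS (p := 26333) (l := 4) rfl N26333 D89866
theorem N49924 : nd 49924 = n89867 := ndS (p := 26333) (l := 6) rfl N26333 D89867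
theorem N49925 : nd 49925 = n89870 := ndS (p := 26334) (l := 3) rfl N26334 D89870
theorem N49926 : nd 49926 = n89871 := ndS (p := 26334) (l := 5) rfl N26334 D89871
theorem N49927 : nd 49927 = n89872 := ndS (p := 26335) (l := 4) rfl N26335 D89872
theorem N49928 : nd 49928 = n89882 := ndS (p := 26339) (l := 0) rfl N26339 D89882
theorem N49929 : nd 49929 = n89883 := ndS (p := 26339) (l := 2) rfl N26339 D89883
theorem N49930 : nd 49930 = n89884 := ndS (p := 26339) (l := 5) rfl N26339 D89884
theorem N49931 : nd 49931 = n89885 := ndS (p := 26340) (l := 4) rfl N26340 D89885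
theorem N49932 : nd 49932 = n89886 := ndS (p := 26340) (l := 6) rfl N26340 D89886
theorem N49933 : nd 49933 = n89888 := ndS (p := 26341) (l := 1) rfl N26341 D89888
theorem N49934 : nd 49934 = n89889 := ndS (p := 26341) (l := 5) rfl N26341 D89889
theorem N49935 : nd 49935 = n89890 := ndS (p := 26341) (l := 6) rfl N26341 D89890
theorem N49936 : nd 49936 = n89891 := ndS (p := 26342) (l := 4) rfl N26342 D89891
theorem N49937 : nd 49937 = n89892 := ndS (p := 26342) (l := 6) rfl N26342 D89892
theorem N49938 : nd 49938 = n89895 := ndS (p := 26344) (l := 3) rfl N26344 D89895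
theorem N49939 : nd 49939 = n89897 := ndS (p := 26345) (l := 0) rfl N26345 D89897
theorem N49940 : nd 49940 = n89898 := ndS (p := 26345) (l := 1) rfl N26345 D89898
theorem N49941 : nd 49941 = n89899 := ndS (p := 26345) (l := 2) rfl N26345 D89899
theorem N49942 : nd 49942 = n89900 := ndS (p := 26345) (l := 5) rfl N26345 D89900
theorem N49943 : nd 49943 = n89901 := ndS (p := 26346) (l := 4) rfl N26346 D89901
theorem N49944 : nd 49944 = n89902 := ndS (p := 26346) (l := 6) rfl N26346 D89902
theorem N49945 : nd 49945 = n89904 := ndS (p := 26347) (l := 4) rfl N26347 D89904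
theorem N49946 : nd 49946 = n89905 := ndS (p := 26347) (l := 6) rfl N26347 D89905
theorem N49947 : nd 49947 = n89907 := ndS (p := 26348) (l := 3) rfl N26348 D89907
theorem N49948 : nd 49948 = n89908 := ndS (p := 26348) (l := 4) rfl N26348 D89908
theorem N49949 : nd 49949 = n89909 := ndS (p := 26348) (l := 6) rfl N26348 D89909
theorem N49950 : nd 49950 = n89910 := ndS (p := 26349) (l := 3) rfl N26349 D89910
theorem N49951 : nd 49951 = n89911 := ndS (p := 26349) (l := 4) rfl N26349 D89911
theorem N49952 : nd 49952 = n89912 := ndS (p := 26349) (l := 6) rfl N26349 D89912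
theorem N49953 : nd 49953 = n89913 := ndS (p := 26350) (l := 0) rfl N26350 D89913
theorem N49954 : nd 49954 = n89914 := ndS (p := 26350) (l := 1) rfl N26350 D89914
theorem N49955 : nd 49955 = n89915 := ndS (p := 26350) (l := 3) rfl N26350 D89915
theorem N49956 : nd 49956 = n89916 := ndS (p := 26350) (l := 5) rfl N26350 D89916
theorem N49957 : nd 49957 = n89917 := ndS (p := 26350) (l := 6) rfl N26350 D89917
theorem N49958 : nd 49958 = n89918 := ndS (p := 26351) (l := 0) rfl N26351 D89918
theorem N49959 : nd 49959 = n89919 := ndS (p := 26351) (l := 1) rfl N26351 D89919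
theorem N49960 : nd 49960 = n89920 := ndS (p := 26351) (l := 5) rfl N26351 D89920
theorem N49961 : nd 49961 = n89921 := ndS (p := 26351) (l := 7) rfl N26351 D89921
theorem N49962 : nd 49962 = n89922 := ndS (p := 26352) (l := 3) rfl N26352 D89922
theorem N49963 : nd 49963 = n89923 := ndS (p := 26353) (l := 3) rfl N26353 D89923
theorem N49964 : nd 49964 = n89924 := ndS (p := 26354) (l := 4) rfl N26354 D89924
theorem N49965 : nd 49965 = n89925 := ndS (p := 26355) (l := 0) rfl N26355 D89925
theorem N49966 : nd 49966 = n89926 := ndS (p := 26355) (l := 3) rfl N26355 D89926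
theorem N49967 : nd 49967 = n89927 := ndS (p := 26356) (l := 3) rfl N26356 D89927
theorem N49968 : nd 49968 = n89928 := ndS (p := 26357) (l := 3) rfl N26357 D89928
theorem N49969 : nd 49969 = n89929 := ndS (p := 26358) (l := 3) rfl N26358 D89929
theorem N49970 : nd 49970 = n89930 := ndS (p := 26359) (l := 4) rfl N26359 D89930
theorem N49971 : nd 49971 = n89931 := ndS (p := 26359) (l := 6) rfl N26359 D89931
theorem N49972 : nd 49972 = n89934 := ndS (p := 26361) (l := 3) rfl N26361 D89934
theorem N49973 : nd 49973 = n89935 := ndS (p := 26361) (l := 5) rfl N26361 D89935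
theorem N49974 : nd 49974 = n89988 := ndS (p := 26364) (l := 0) rfl N26364 D89988
theorem N49975 : nd 49975 = n89989 := ndS (p := 26364) (l := 1) rfl N26364 D89989
theorem N49976 : nd 49976 = n89990 := ndS (p := 26364) (l := 2) rfl N26364 D89990
theorem N49977 : nd 49977 = n89991 := ndS (p := 26364) (l := 5) rfl N26364 D89991
theorem N49978 : nd 49978 = n89992 := ndS (p := 26365) (l := 6) rfl N26365 D89992
theorem N49979 : nd 49979 = n89993 := ndS (p := 26366) (l := 0) rfl N26366 D89993
theorem N49980 : nd 49980 = n89994 := ndS (p := 26366) (l := 1) rfl N26366 D89994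
theorem N49981 : nd 49981 = n89996 := ndS (p := 26366) (l := 5) rfl N26366 D89996
theorem N49982 : nd 49982 = n89997 := ndS (p := 26367) (l := 6) rfl N26367 D89997
theorem N49983 : nd 49983 = n90002 := ndS (p := 26368) (l := 1) rfl N26368 D90002
theorem N49984 : nd 49984 = n90003 := ndS (p := 26368) (l := 2) rfl N26368 D90003
theorem N49985 : nd 49985 = n90004 := ndS (p := 26368) (l := 5) rfl N26368 D90004
theorem N49986 : nd 49986 = n90006 := ndS (p := 26369) (l := 6) rfl N26369 D90006
theorem N49987 : nd 49987 = n90014 := ndS (p := 26370) (l := 0) rfl N26370 D90014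
theorem N49988 : nd 49988 = n90015 := ndS (p := 26370) (l := 1) rfl N26370 D90015
theorem N49989 : nd 49989 = n90016 := ndS (p := 26370) (l := 2) rfl N26370 D90016
theorem N49990 : nd 49990 = n90017 := ndS (p := 26370) (l := 5) rfl N26370 D90017
theorem N49991 : nd 49991 = n90019 := ndS (p := 26371) (l := 6) rfl N26371 D90019
theorem N49992 : nd 49992 = n90031 := ndS (p := 26372) (l := 0) rfl N26372 D90031
theorem N49993 : nd 49993 = n90032 := ndS (p := 26372) (l := 1) rfl N26372 D90032
theorem N49994 : nd 49994 = n90033 := ndS (p := 26372) (l := 2) rfl N26372 D90033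
theorem N49995 : nd 49995 = n90052 := ndS (p := 26373) (l := 3) rfl N26373 D90052
theorem N49996 : nd 49996 = n90053 := ndS (p := 26373) (l := 6) rfl N26373 D90053
theorem N49997 : nd 49997 = n90054 := ndS (p := 26374) (l := 3) rfl N26374 D90054
theorem N49998 : nd 49998 = n90055 := ndS (p := 26374) (l := 6) rfl N26374 D90055
theorem N49999 : nd 49999 = n90056 := ndS (p := 26375) (l := 3) rfl N26375 D90056
theorem N50000 : nd 50000 = n90057 := ndS (p := 26375) (l := 6) rfl N26375 D90057

end Cfsg.Agent.Helper17.ONTC
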