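import Cfsg.Agent.Helper17.ONTC.Fin5

set_option autoImplicit false
set_option linter.all false
set_option maxRecDepth 100000

noncomputable section

namespace Cfsg.Agent.Helper17.ONTC

theorem N50001 : nd 50001 = n90058 := ndS (p := 26376) (l := 0) rfl N26376 D90058
theorem N50002 : nd 50002 = n90059 := ndS (p := 26376) (l := 1) rfl N26376 D90059
theorem N50003 : nd 50003 = n90060 := ndS (p := 26376) (l := 7) rfl N26376 D90060
theorem N50004 : nd 50004 = n90090 := ndS (p := 26380) (l := 0) rfl N26380 D90090
theorem N50005 : nd 50005 = n90091 := ndS (p := 26380) (l := 1) rfl N26380 D90091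
theorem N50006 : nd 50006 = n90092 := ndS (p := 26380) (l := 2) rfl N26380 D90092
theorem N50007 : nd 50007 = n90094 := ndS (p := 26381) (l := 6) rfl N26381 D90094
theorem N50008 : nd 50008 = n90103 := ndS (p := 26383) (l := 5) rfl N26383 D90103
theorem N50009 : nd 50009 = n90104 := ndS (p := 26384) (l := 5) rfl N26384 D90104
theorem N50010 : nd 50010 = n90111 := ndS (p := 26386) (l := 5) rfl N26386 D90111
theorem N50011 : nd 50011 = n90113 := ndS (p := 26387) (l := 6) rfl N26387 D90113
theorem N50012 : nd 50012 = n90118 := ndS (p := 26389) (l := 5) rfl N26389 D90118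
theorem N50013 : nd 50013 = n90119 := ndS (p := 26389) (l := 6) rfl N26389 D90119
theorem N50014 : nd 50014 = n90121 := ndS (p := 26390) (l := 3) rfl N26390 D90121
theorem N50015 : nd 50015 = n90122 := ndS (p := 26390) (l := 6) rfl N26390 D90122
theorem N50016 : nd 50016 = n90123 := ndS (p := 26392) (l := 1) rfl N26392 D90123
theorem N50017 : nd 50017 = n90124 := ndS (p := 26392) (l := 5) rfl N26392 D90124
theorem N50018 : nd 50018 = n90125 := ndS (p := 26392) (l := 7) rfl N26392 D90125
theorem N50019 : nd 50019 = n90126 := ndS (p := 26393) (l := 0) rfl N26393 D90126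
theorem N50020 : nd 50020 = n90128 := ndS (p := 26393) (l := 2) rfl N26393 D90128
theorem N50021 : nd 50021 = n90129 := ndS (p := 26393) (l := 5) rfl N26393 D90129
theorem N50022 : nd 50022 = n90131 := ndS (p := 26394) (l := 4) rfl N26394 D90131
theorem N50023 : nd 50023 = n90132 := ndS (p := 26394) (l := 6) rfl N26394 D90132
theorem N50024 : nd 50024 = n90133 := ndS (p := 26395) (l := 1) rfl N26395 D90133
theorem N50025 : nd 50025 = n90134 := ndS (p := 26395) (l := 2) rfl N26395 D90134
theorem N50026 : nd 50026 = n90135 := ndS (p := 26395) (l := 5) rfl N26395 D90135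
theorem N50027 : nd 50027 = n90136 := ndS (p := 26395) (l := 6) rfl N26395 D90136
theorem N50028 : nd 50028 = n90137 := ndS (p := 26396) (l := 4) rfl N26396 D90137
theorem N50029 : nd 50029 = n90138 := ndS (p := 26396) (l := 6) rfl N26396 D90138
theorem N50030 : nd 50030 = n90139 := ndS (p := 26397) (l := 5) rfl N26397 D90139
theorem N50031 : nd 50031 = n90140 := ndS (p := 26398) (l := 3) rfl N26398 D90140
theorem N50032 : nd 50032 = n90141 := ndS (p := 26398) (l := 4) rfl N26398 D90141
theorem N50033 : nd 50033 = n90143 := ndS (p := 26398) (l := 6) rfl N26398 D90143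
theorem N50034 : nd 50034 = n90144 := ndS (p := 26399) (l := 3) rfl N26399 D90144
theorem N50035 : nd 50035 = n90145 := ndS (p := 26399) (l := 4) rfl N26399 D90145
theorem N50036 : nd 50036 = n90146 := ndS (p := 26399) (l := 6) rfl N26399 D90146
theorem N50037 : nd 50037 = n90147 := ndS (p := 26400) (l := 0) rfl N26400 D90147
theorem N50038 : nd 50038 = n90148 := ndS (p := 26400) (l := 1) rfl N26400 D90148
theorem N50039 : nd 50039 = n90149 := ndS (p := 26400) (l := 5) rfl N26400 D90149
theorem N50040 : nd 50040 = n90150 := ndS (p := 26400) (l := 7) rfl N26400 D90150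
theorem N50041 : nd 50041 = n90151 := ndS (p := 26402) (l := 0) rfl N26402 D90151
theorem N50042 : nd 50042 = n90153 := ndS (p := 26402) (l := 5) rfl N26402 D90153
theorem N50043 : nd 50043 = n90154 := ndS (p := 26402) (l := 6) rfl N26402 D90154
theorem N50044 : nd 50044 = n90155 := ndS (p := 26403) (l := 4) rfl N26403 D90155
theorem N50045 : nd 50045 = n90156 := ndS (p := 26403) (l := 6) rfl N26403 D90156
theorem N50046 : nd 50046 = n90157 := ndS (p := 26405) (l := 3) rfl N26405 D90157
theorem N50047 : nd 50047 = n90158 := ndS (p := 26405) (l := 5) rfl N26405 D90158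
theorem N50048 : nd 50048 = n90173 := ndS (p := 26407) (l := 0) rfl N26407 D90173
theorem N50049 : nd 50049 = n90175 := ndS (p := 26407) (l := 4) rfl N26407 D90175
theorem N50050 : nd 50050 = n90176 := ndS (p := 26407) (l := 6) rfl N26407 D90176
theorem N50051 : nd 50051 = n90187 := ndS (p := 26408) (l := 0) rfl N26408 D90187
theorem N50052 : nd 50052 = n90188 := ndS (p := 26408) (l := 1) rfl N26408 D90188
theorem N50053 : nd 50053 = n90201 := ndS (p := 26409) (l := 0) rfl N26409 D90201
theorem N50054 : nd 50054 = n90202 := ndS (p := 26409) (l := 1) rfl N26409 D90202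
theorem N50055 : nd 50055 = n90203 := ndS (p := 26409) (l := 2) rfl N26409 D90203
theorem N50056 : nd 50056 = n90211 := ndS (p := 26410) (l := 1) rfl N26410 D90211
theorem N50057 : nd 50057 = n90212 := ndS (p := 26410) (l := 2) rfl N26410 D90212
theorem N50058 : nd 50058 = n90219 := ndS (p := 26411) (l := 3) rfl N26411 D90219
theorem N50059 : nd 50059 = n90220 := ndS (p := 26411) (l := 4) rfl N26411 D90220
theorem N50060 : nd 50060 = n90224 := ndS (p := 26412) (l := 3) rfl N26412 D90224
theorem N50061 : nd 50061 = n90228 := ndS (p := 26413) (l := 5) rfl N26413 D90228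
theorem N50062 : nd 50062 = n90229 := ndS (p := 26414) (l := 0) rfl N26414 D90229
theorem N50063 : nd 50063 = n90230 := ndS (p := 26414) (l := 1) rfl N26414 D90230
theorem N50064 : nd 50064 = n90232 := ndS (p := 26414) (l := 6) rfl N26414 D90232
theorem N50065 : nd 50065 = n90237 := ndS (p := 26415) (l := 0) rfl N26415 D90237
theorem N50066 : nd 50066 = n90238 := ndS (p := 26415) (l := 1) rfl N26415 D90238
theorem N50067 : nd 50067 = n90239 := ndS (p := 26415) (l := 7) rfl N26415 D90239
theorem N50068 : nd 50068 = n90241 := ndS (p := 26416) (l := 5) rfl N26416 D90241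
theorem N50069 : nd 50069 = n90243 := ndS (p := 26418) (l := 5) rfl N26418 D90243
theorem N50070 : nd 50070 = n90244 := ndS (p := 26418) (l := 6) rfl N26418 D90244
theorem N50071 : nd 50071 = n90247 := ndS (p := 26419) (l := 7) rfl N26419 D90247
theorem N50072 : nd 50072 = n90248 := ndS (p := 26421) (l := 4) rfl N26421 D90248
theorem N50073 : nd 50073 = n90249 := ndS (p := 26422) (l := 5) rfl N26422 D90249
theorem N50074 : nd 50074 = n90250 := ndS (p := 26422) (l := 6) rfl N26422 D90250
theorem N50075 : nd 50075 = n90251 := ndS (p := 26423) (l := 4) rfl N26423 D90251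
theorem N50076 : nd 50076 = n90252 := ndS (p := 26423) (l := 6) rfl N26423 D90252
theorem N50077 : nd 50077 = n90255 := ndS (p := 26425) (l := 6) rfl N26425 D90255
theorem N50078 : nd 50078 = n90259 := ndS (p := 26427) (l := 3) rfl N26427 D90259
theorem N50079 : nd 50079 = n90260 := ndS (p := 26427) (l := 7) rfl N26427 D90260
theorem N50080 : nd 50080 = n90261 := ndS (p := 26428) (l := 6) rfl N26428 D90261
theorem N50081 : nd 50081 = n90262 := ndS (p := 26429) (l := 5) rfl N26429 D90262
theorem N50082 : nd 50082 = n90263 := ndS (p := 26429) (l := 6) rfl N26429 D90263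
theorem N50083 : nd 50083 = n90264 := ndS (p := 26430) (l := 4) rfl N26430 D90264
theorem N50084 : nd 50084 = n90265 := ndS (p := 26430) (l := 6) rfl N26430 D90265
theorem N50085 : nd 50085 = n90267 := ndS (p := 26432) (l := 5) rfl N26432 D90267
theorem N50086 : nd 50086 = n90268 := ndS (p := 26432) (l := 6) rfl N26432 D90268
theorem N50087 : nd 50087 = n90269 := ndS (p := 26433) (l := 6) rfl N26433 D90269
theorem N50088 : nd 50088 = n90270 := ndS (p := 26434) (l := 4) rfl N26434 D90270
theorem N50089 : nd 50089 = n90271 := ndS (p := 26434) (l := 6) rfl N26434 D90271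
theorem N50090 : nd 50090 = n90274 := ndS (p := 26435) (l := 5) rfl N26435 D90274
theorem N50091 : nd 50091 = n90276 := ndS (p := 26437) (l := 0) rfl N26437 D90276
theorem N50092 : nd 50092 = n90277 := ndS (p := 26437) (l := 1) rfl N26437 D90277
theorem N50093 : nd 50093 = n90278 := ndS (p := 26437) (l := 5) rfl N26437 D90278
theorem N50094 : nd 50094 = n90279 := ndS (p := 26437) (l := 7) rfl N26437 D90279
theorem N50095 : nd 50095 = n90281 := ndS (p := 26438) (l := 3) rfl N26438 D90281
theorem N50096 : nd 50096 = n90282 := ndS (p := 26438) (l := 4) rfl N26438 D90282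
theorem N50097 : nd 50097 = n90283 := ndS (p := 26438) (l := 5) rfl N26438 D90283
theorem N50098 : nd 50098 = n90286 := ndS (p := 26439) (l := 3) rfl N26439 D90286
theorem N50099 : nd 50099 = n90287 := ndS (p := 26439) (l := 4) rfl N26439 D90287
theorem N50100 : nd 50100 = n90288 := ndS (p := 26439) (l := 5) rfl N26439 D90288
theorem N50101 : nd 50101 = n90289 := ndS (p := 26439) (l := 6) rfl N26439 D90289
theorem N50102 : nd 50102 = n90290 := ndS (p := 26440) (l := 0) rfl N26440 D90290
theorem N50103 : nd 50103 = n90291 := ndS (p := 26440) (l := 1) rfl N26440 D90291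
theorem N50104 : nd 50104 = n90292 := ndS (p := 26440) (l := 4) rfl N26440 D90292
theorem N50105 : nd 50105 = n90293 := ndS (p := 26440) (l := 7) rfl N26440 D90293
theorem N50106 : nd 50106 = n90294 := ndS (p := 26443) (l := 4) rfl N26443 D90294
theorem N50107 : nd 50107 = n90295 := ndS (p := 26443) (l := 5) rfl N26443 D90295
theorem N50108 : nd 50108 = n90296 := ndS (p := 26444) (l := 1) rfl N26444 D90296
theorem N50109 : nd 50109 = n90297 := ndS (p := 26444) (l := 4) rfl N26444 D90297
theorem N50110 : nd 50110 = n90298 := ndS (p := 26444) (l := 7) rfl N26444 D90298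
theorem N50111 : nd 50111 = n90302 := ndS (p := 26446) (l := 5) rfl N26446 D90302
theorem N50112 : nd 50112 = n90304 := ndS (p := 26447) (l := 4) rfl N26447 D90304
theorem N50113 : nd 50113 = n90305 := ndS (p := 26447) (l := 6) rfl N26447 D90305
theorem N50114 : nd 50114 = n90307 := ndS (p := 26448) (l := 1) rfl N26448 D90307
theorem N50115 : nd 50115 = n90308 := ndS (p := 26448) (l := 2) rfl N26448 D90308
theorem N50116 : nd 50116 = n90309 := ndS (p := 26448) (l := 5) rfl N26448 D90309
theorem N50117 : nd 50117 = n90310 := ndS (p := 26448) (l := 6) rfl N26448 D90310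
theorem N50118 : nd 50118 = n90311 := ndS (p := 26449) (l := 4) rfl N26449 D90311
theorem N50119 : nd 50119 = n90312 := ndS (p := 26449) (l := 6) rfl N26449 D90312
theorem N50120 : nd 50120 = n90313 := ndS (p := 26451) (l := 3) rfl N26451 D90313
theorem N50121 : nd 50121 = n90314 := ndS (p := 26451) (l := 4) rfl N26451 D90314
theorem N50122 : nd 50122 = n90315 := ndS (p := 26451) (l := 6) rfl N26451 D90315
theorem N50123 : nd 50123 = n90316 := ndS (p := 26452) (l := 3) rfl N26452 D90316
theorem N50124 : nd 50124 = n90317 := ndS (p := 26452) (l := 4) rfl N26452 D90317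
theorem N50125 : nd 50125 = n90318 := ndS (p := 26452) (l := 6) rfl N26452 D90318
theorem N50126 : nd 50126 = n90319 := ndS (p := 26453) (l := 0) rfl N26453 D90319
theorem N50127 : nd 50127 = n90320 := ndS (p := 26453) (l := 1) rfl N26453 D90320
theorem N50128 : nd 50128 = n90321 := ndS (p := 26453) (l := 3) rfl N26453 D90321
theorem N50129 : nd 50129 = n90323 := ndS (p := 26453) (l := 7) rfl N26453 D90323
theorem N50130 : nd 50130 = n90324 := ndS (p := 26454) (l := 6) rfl N26454 D90324
theorem N50131 : nd 50131 = n90325 := ndS (p := 26455) (l := 5) rfl N26455 D90325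
theorem N50132 : nd 50132 = n90326 := ndS (p := 26456) (l := 0) rfl N26456 D90326
theorem N50133 : nd 50133 = n90327 := ndS (p := 26456) (l := 2) rfl N26456 D90327
theorem N50134 : nd 50134 = n90328 := ndS (p := 26456) (l := 5) rfl N26456 D90328
theorem N50135 : nd 50135 = n90331 := ndS (p := 26457) (l := 4) rfl N26457 D90331
theorem N50136 : nd 50136 = n90332 := ndS (p := 26457) (l := 6) rfl N26457 D90332
theorem N50137 : nd 50137 = n90343 := ndS (p := 26458) (l := 5) rfl N26458 D90343
theorem N50138 : nd 50138 = n90345 := ndS (p := 26459) (l := 4) rfl N26459 D90345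
theorem N50139 : nd 50139 = n90346 := ndS (p := 26459) (l := 6) rfl N26459 D90346
theorem N50140 : nd 50140 = n90361 := ndS (p := 26460) (l := 0) rfl N26460 D90361
theorem N50141 : nd 50141 = n90364 := ndS (p := 26460) (l := 5) rfl N26460 D90364
theorem N50142 : nd 50142 = n90368 := ndS (p := 26461) (l := 4) rfl N26461 D90368
theorem N50143 : nd 50143 = n90369 := ndS (p := 26461) (l := 6) rfl N26461 D90369
theorem N50144 : nd 50144 = n90371 := ndS (p := 26462) (l := 0) rfl N26462 D90371
theorem N50145 : nd 50145 = n90372 := ndS (p := 26462) (l := 1) rfl N26462 D90372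
theorem N50146 : nd 50146 = n90373 := ndS (p := 26462) (l := 2) rfl N26462 D90373
theorem N50147 : nd 50147 = n90374 := ndS (p := 26462) (l := 5) rfl N26462 D90374
theorem N50148 : nd 50148 = n90376 := ndS (p := 26463) (l := 6) rfl N26463 D90376
theorem N50149 : nd 50149 = n90378 := ndS (p := 26464) (l := 0) rfl N26464 D90378
theorem N50150 : nd 50150 = n90379 := ndS (p := 26464) (l := 1) rfl N26464 D90379
theorem N50151 : nd 50151 = n90380 := ndS (p := 26464) (l := 2) rfl N26464 D90380
theorem N50152 : nd 50152 = n90381 := ndS (p := 26464) (l := 5) rfl N26464 D90381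
theorem N50153 : nd 50153 = n90382 := ndS (p := 26464) (l := 6) rfl N26464 D90382
theorem N50154 : nd 50154 = n90383 := ndS (p := 26465) (l := 6) rfl N26465 D90383
theorem N50155 : nd 50155 = n90386 := ndS (p := 26467) (l := 3) rfl N26467 D90386
theorem N50156 : nd 50156 = n90387 := ndS (p := 26467) (l := 4) rfl N26467 D90387
theorem N50157 : nd 50157 = n90388 := ndS (p := 26467) (l := 5) rfl N26467 D90388
theorem N50158 : nd 50158 = n90391 := ndS (p := 26468) (l := 3) rfl N26468 D90391
theorem N50159 : nd 50159 = n90392 := ndS (p := 26468) (l := 4) rfl N26468 D90392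
theorem N50160 : nd 50160 = n90393 := ndS (p := 26468) (l := 5) rfl N26468 D90393
theorem N50161 : nd 50161 = n90394 := ndS (p := 26468) (l := 6) rfl N26468 D90394
theorem N50162 : nd 50162 = n90395 := ndS (p := 26469) (l := 5) rfl N26469 D90395
theorem N50163 : nd 50163 = n90397 := ndS (p := 26470) (l := 1) rfl N26470 D90397
theorem N50164 : nd 50164 = n90398 := ndS (p := 26470) (l := 4) rfl N26470 D90398
theorem N50165 : nd 50165 = n90399 := ndS (p := 26470) (l := 6) rfl N26470 D90399
theorem N50166 : nd 50166 = n90400 := ndS (p := 26471) (l := 0) rfl N26471 D90400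
theorem N50167 : nd 50167 = n90401 := ndS (p := 26471) (l := 1) rfl N26471 D90401
theorem N50168 : nd 50168 = n90402 := ndS (p := 26471) (l := 7) rfl N26471 D90402
theorem N50169 : nd 50169 = n90410 := ndS (p := 26474) (l := 0) rfl N26474 D90410
theorem N50170 : nd 50170 = n90412 := ndS (p := 26474) (l := 4) rfl N26474 D90412
theorem N50171 : nd 50171 = n90413 := ndS (p := 26475) (l := 0) rfl N26475 D90413
theorem N50172 : nd 50172 = n90415 := ndS (p := 26475) (l := 7) rfl N26475 D90415
theorem N50173 : nd 50173 = n90417 := ndS (p := 26476) (l := 5) rfl N26476 D90417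
theorem N50174 : nd 50174 = n90419 := ndS (p := 26477) (l := 3) rfl N26477 D90419
theorem N50175 : nd 50175 = n90420 := ndS (p := 26477) (l := 5) rfl N26477 D90420
theorem N50176 : nd 50176 = n90422 := ndS (p := 26478) (l := 0) rfl N26478 D90422
theorem N50177 : nd 50177 = n90423 := ndS (p := 26478) (l := 1) rfl N26478 D90423
theorem N50178 : nd 50178 = n90424 := ndS (p := 26478) (l := 4) rfl N26478 D90424
theorem N50179 : nd 50179 = n90425 := ndS (p := 26478) (l := 7) rfl N26478 D90425
theorem N50180 : nd 50180 = n90426 := ndS (p := 26481) (l := 5) rfl N26481 D90426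
theorem N50181 : nd 50181 = n90427 := ndS (p := 26482) (l := 5) rfl N26482 D90427
theorem N50182 : nd 50182 = n90428 := ndS (p := 26483) (l := 5) rfl N26483 D90428
theorem N50183 : nd 50183 = n90429 := ndS (p := 26484) (l := 0) rfl N26484 D90429
theorem N50184 : nd 50184 = n90430 := ndS (p := 26486) (l := 0) rfl N26486 D90430
theorem N50185 : nd 50185 = n90432 := ndS (p := 26486) (l := 2) rfl N26486 D90432
theorem N50186 : nd 50186 = n90433 := ndS (p := 26486) (l := 5) rfl N26486 D90433
theorem N50187 : nd 50187 = n90434 := ndS (p := 26486) (l := 6) rfl N26486 D90434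
theorem N50188 : nd 50188 = n90436 := ndS (p := 26487) (l := 4) rfl N26487 D90436
theorem N50189 : nd 50189 = n90437 := ndS (p := 26487) (l := 6) rfl N26487 D90437
theorem N50190 : nd 50190 = n90438 := ndS (p := 26489) (l := 5) rfl N26489 D90438
theorem N50191 : nd 50191 = n90440 := ndS (p := 26490) (l := 4) rfl N26490 D90440
theorem N50192 : nd 50192 = n90441 := ndS (p := 26490) (l := 6) rfl N26490 D90441
theorem N50193 : nd 50193 = n90443 := ndS (p := 26491) (l := 3) rfl N26491 D90443
theorem N50194 : nd 50194 = n90444 := ndS (p := 26491) (l := 4) rfl N26491 D90444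
theorem N50195 : nd 50195 = n90446 := ndS (p := 26491) (l := 6) rfl N26491 D90446
theorem N50196 : nd 50196 = n90447 := ndS (p := 26492) (l := 3) rfl N26492 D90447
theorem N50197 : nd 50197 = n90448 := ndS (p := 26492) (l := 4) rfl N26492 D90448
theorem N50198 : nd 50198 = n90449 := ndS (p := 26492) (l := 6) rfl N26492 D90449
theorem N50199 : nd 50199 = n90450 := ndS (p := 26493) (l := 0) rfl N26493 D90450
theorem N50200 : nd 50200 = n90451 := ndS (p := 26493) (l := 1) rfl N26493 D90451
theorem N50201 : nd 50201 = n90452 := ndS (p := 26493) (l := 3) rfl N26493 D90452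
theorem N50202 : nd 50202 = n90454 := ndS (p := 26493) (l := 7) rfl N26493 D90454
theorem N50203 : nd 50203 = n90455 := ndS (p := 26494) (l := 6) rfl N26494 D90455
theorem N50204 : nd 50204 = n90456 := ndS (p := 26495) (l := 5) rfl N26495 D90456
theorem N50205 : nd 50205 = n90457 := ndS (p := 26495) (l := 6) rfl N26495 D90457
theorem N50206 : nd 50206 = n90459 := ndS (p := 26496) (l := 6) rfl N26496 D90459
theorem N50207 : nd 50207 = n90463 := ndS (p := 26498) (l := 3) rfl N26498 D90463
theorem N50208 : nd 50208 = n90464 := ndS (p := 26498) (l := 5) rfl N26498 D90464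
theorem N50209 : nd 50209 = n90468 := ndS (p := 26499) (l := 3) rfl N26499 D90468
theorem N50210 : nd 50210 = n90469 := ndS (p := 26499) (l := 5) rfl N26499 D90469
theorem N50211 : nd 50211 = n90473 := ndS (p := 26500) (l := 0) rfl N26500 D90473
theorem N50212 : nd 50212 = n90475 := ndS (p := 26500) (l := 2) rfl N26500 D90475
theorem N50213 : nd 50213 = n90476 := ndS (p := 26500) (l := 5) rfl N26500 D90476
theorem N50214 : nd 50214 = n90481 := ndS (p := 26501) (l := 6) rfl N26501 D90481
theorem N50215 : nd 50215 = n90483 := ndS (p := 26502) (l := 6) rfl N26502 D90483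
theorem N50216 : nd 50216 = n90484 := ndS (p := 26503) (l := 6) rfl N26503 D90484
theorem N50217 : nd 50217 = n90485 := ndS (p := 26504) (l := 6) rfl N26504 D90485
theorem N50218 : nd 50218 = n90486 := ndS (p := 26505) (l := 0) rfl N26505 D90486
theorem N50219 : nd 50219 = n90487 := ndS (p := 26505) (l := 1) rfl N26505 D90487
theorem N50220 : nd 50220 = n90488 := ndS (p := 26505) (l := 5) rfl N26505 D90488
theorem N50221 : nd 50221 = n90489 := ndS (p := 26507) (l := 5) rfl N26507 D90489
theorem N50222 : nd 50222 = n90490 := ndS (p := 26510) (l := 5) rfl N26510 D90490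
theorem N50223 : nd 50223 = n90491 := ndS (p := 26510) (l := 6) rfl N26510 D90491
theorem N50224 : nd 50224 = n90492 := ndS (p := 26511) (l := 0) rfl N26511 D90492
theorem N50225 : nd 50225 = n90493 := ndS (p := 26511) (l := 4) rfl N26511 D90493
theorem N50226 : nd 50226 = n90494 := ndS (p := 26512) (l := 5) rfl N26512 D90494
theorem N50227 : nd 50227 = n90495 := ndS (p := 26513) (l := 5) rfl N26513 D90495
theorem N50228 : nd 50228 = n90496 := ndS (p := 26514) (l := 4) rfl N26514 D90496
theorem N50229 : nd 50229 = n90497 := ndS (p := 26514) (l := 7) rfl N26514 D90497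
theorem N50230 : nd 50230 = n90500 := ndS (p := 26518) (l := 3) rfl N26518 D90500
theorem N50231 : nd 50231 = n90501 := ndS (p := 26518) (l := 4) rfl N26518 D90501
theorem N50232 : nd 50232 = n90502 := ndS (p := 26518) (l := 6) rfl N26518 D90502
theorem N50233 : nd 50233 = n90503 := ndS (p := 26519) (l := 3) rfl N26519 D90503
theorem N50234 : nd 50234 = n90504 := ndS (p := 26519) (l := 4) rfl N26519 D90504
theorem N50235 : nd 50235 = n90505 := ndS (p := 26519) (l := 6) rfl N26519 D90505
theorem N50236 : nd 50236 = n90506 := ndS (p := 26520) (l := 0) rfl N26520 D90506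
theorem N50237 : nd 50237 = n90507 := ndS (p := 26520) (l := 1) rfl N26520 D90507
theorem N50238 : nd 50238 = n90508 := ndS (p := 26520) (l := 3) rfl N26520 D90508
theorem N50239 : nd 50239 = n90510 := ndS (p := 26521) (l := 6) rfl N26521 D90510
theorem N50240 : nd 50240 = n90513 := ndS (p := 26522) (l := 5) rfl N26522 D90513
theorem N50241 : nd 50241 = n90515 := ndS (p := 26523) (l := 6) rfl N26523 D90515
theorem N50242 : nd 50242 = n90518 := ndS (p := 26524) (l := 5) rfl N26524 D90518
theorem N50243 : nd 50243 = n90520 := ndS (p := 26525) (l := 0) rfl N26525 D90520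
theorem N50244 : nd 50244 = n90521 := ndS (p := 26525) (l := 1) rfl N26525 D90521
theorem N50245 : nd 50245 = n90522 := ndS (p := 26525) (l := 7) rfl N26525 D90522
theorem N50246 : nd 50246 = n90523 := ndS (p := 26526) (l := 5) rfl N26526 D90523
theorem N50247 : nd 50247 = n90526 := ndS (p := 26527) (l := 4) rfl N26527 D90526
theorem N50248 : nd 50248 = n90527 := ndS (p := 26527) (l := 5) rfl N26527 D90527
theorem N50249 : nd 50249 = n90528 := ndS (p := 26527) (l := 6) rfl N26527 D90528
theorem N50250 : nd 50250 = n90530 := ndS (p := 26528) (l := 3) rfl N26528 D90530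
theorem N50251 : nd 50251 = n90531 := ndS (p := 26528) (l := 5) rfl N26528 D90531
theorem N50252 : nd 50252 = n90533 := ndS (p := 26529) (l := 0) rfl N26529 D90533
theorem N50253 : nd 50253 = n90534 := ndS (p := 26529) (l := 1) rfl N26529 D90534
theorem N50254 : nd 50254 = n90535 := ndS (p := 26529) (l := 4) rfl N26529 D90535
theorem N50255 : nd 50255 = n90536 := ndS (p := 26529) (l := 7) rfl N26529 D90536
theorem N50256 : nd 50256 = n90537 := ndS (p := 26531) (l := 3) rfl N26531 D90537
theorem N50257 : nd 50257 = n90538 := ndS (p := 26531) (l := 5) rfl N26531 D90538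
theorem N50258 : nd 50258 = n90539 := ndS (p := 26532) (l := 5) rfl N26532 D90539
theorem N50259 : nd 50259 = n90540 := ndS (p := 26533) (l := 0) rfl N26533 D90540
theorem N50260 : nd 50260 = n90541 := ndS (p := 26533) (l := 4) rfl N26533 D90541
theorem N50261 : nd 50261 = n90542 := ndS (p := 26534) (l := 3) rfl N26534 D90542
theorem N50262 : nd 50262 = n90543 := ndS (p := 26534) (l := 6) rfl N26534 D90543
theorem N50263 : nd 50263 = n90544 := ndS (p := 26535) (l := 6) rfl N26535 D90544
theorem N50264 : nd 50264 = n90545 := ndS (p := 26536) (l := 0) rfl N26536 D90545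
theorem N50265 : nd 50265 = n90546 := ndS (p := 26536) (l := 1) rfl N26536 D90546
theorem N50266 : nd 50266 = n90547 := ndS (p := 26536) (l := 3) rfl N26536 D90547
theorem N50267 : nd 50267 = n90549 := ndS (p := 26536) (l := 7) rfl N26536 D90549
theorem N50268 : nd 50268 = n90550 := ndS (p := 26537) (l := 6) rfl N26537 D90550
theorem N50269 : nd 50269 = n90553 := ndS (p := 26538) (l := 5) rfl N26538 D90553
theorem N50270 : nd 50270 = n90556 := ndS (p := 26540) (l := 3) rfl N26540 D90556
theorem N50271 : nd 50271 = n90557 := ndS (p := 26540) (l := 5) rfl N26540 D90557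
theorem N50272 : nd 50272 = n90561 := ndS (p := 26541) (l := 5) rfl N26541 D90561
theorem N50273 : nd 50273 = n90562 := ndS (p := 26541) (l := 6) rfl N26541 D90562
theorem N50274 : nd 50274 = n90563 := ndS (p := 26542) (l := 0) rfl N26542 D90563
theorem N50275 : nd 50275 = n90564 := ndS (p := 26542) (l := 1) rfl N26542 D90564
theorem N50276 : nd 50276 = n90565 := ndS (p := 26542) (l := 4) rfl N26542 D90565
theorem N50277 : nd 50277 = n90566 := ndS (p := 26543) (l := 5) rfl N26543 D90566
theorem N50278 : nd 50278 = n90567 := ndS (p := 26544) (l := 3) rfl N26544 D90567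
theorem N50279 : nd 50279 = n90568 := ndS (p := 26544) (l := 5) rfl N26544 D90568
theorem N50280 : nd 50280 = n90569 := ndS (p := 26545) (l := 0) rfl N26545 D90569
theorem N50281 : nd 50281 = n90570 := ndS (p := 26545) (l := 1) rfl N26545 D90570
theorem N50282 : nd 50282 = n90572 := ndS (p := 26547) (l := 6) rfl N26547 D90572
theorem N50283 : nd 50283 = n90573 := ndS (p := 26548) (l := 3) rfl N26548 D90573
theorem N50284 : nd 50284 = n90574 := ndS (p := 26548) (l := 6) rfl N26548 D90574
theorem N50285 : nd 50285 = n90575 := ndS (p := 26549) (l := 0) rfl N26549 D90575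
theorem N50286 : nd 50286 = n90576 := ndS (p := 26549) (l := 1) rfl N26549 D90576
theorem N50287 : nd 50287 = n90577 := ndS (p := 26549) (l := 3) rfl N26549 D90577
theorem N50288 : nd 50288 = n90579 := ndS (p := 26550) (l := 0) rfl N26550 D90579
theorem N50289 : nd 50289 = n90580 := ndS (p := 26550) (l := 4) rfl N26550 D90580
theorem N50290 : nd 50290 = n90581 := ndS (p := 26552) (l := 0) rfl N26552 D90581
theorem N50291 : nd 50291 = n90582 := ndS (p := 26552) (l := 1) rfl N26552 D90582
theorem N50292 : nd 50292 = n90583 := ndS (p := 26552) (l := 5) rfl N26552 D90583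
theorem N50293 : nd 50293 = n90584 := ndS (p := 26552) (l := 7) rfl N26552 D90584
theorem N50294 : nd 50294 = n90585 := ndS (p := 26554) (l := 5) rfl N26554 D90585
theorem N50295 : nd 50295 = n90586 := ndS (p := 26555) (l := 1) rfl N26555 D90586
theorem N50296 : nd 50296 = n90587 := ndS (p := 26555) (l := 4) rfl N26555 D90587
theorem N50297 : nd 50297 = n90588 := ndS (p := 26555) (l := 7) rfl N26555 D90588
theorem N50298 : nd 50298 = n90589 := ndS (p := 26557) (l := 5) rfl N26557 D90589
theorem N50299 : nd 50299 = n90590 := ndS (p := 26558) (l := 0) rfl N26558 D90590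
theorem N50300 : nd 50300 = n90591 := ndS (p := 26558) (l := 5) rfl N26558 D90591
theorem N50301 : nd 50301 = n90592 := ndS (p := 26559) (l := 4) rfl N26559 D90592
theorem N50302 : nd 50302 = n90593 := ndS (p := 26559) (l := 6) rfl N26559 D90593
theorem N50303 : nd 50303 = n90594 := ndS (p := 26560) (l := 5) rfl N26560 D90594
theorem N50304 : nd 50304 = n90595 := ndS (p := 26561) (l := 5) rfl N26561 D90595
theorem N50305 : nd 50305 = n90596 := ndS (p := 26562) (l := 4) rfl N26562 D90596
theorem N50306 : nd 50306 = n90597 := ndS (p := 26562) (l := 6) rfl N26562 D90597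
theorem N50307 : nd 50307 = n90598 := ndS (p := 26563) (l := 4) rfl N26563 D90598
theorem N50308 : nd 50308 = n90599 := ndS (p := 26563) (l := 6) rfl N26563 D90599
theorem N50309 : nd 50309 = n90600 := ndS (p := 26564) (l := 4) rfl N26564 D90600
theorem N50310 : nd 50310 = n90601 := ndS (p := 26564) (l := 6) rfl N26564 D90601
theorem N50311 : nd 50311 = n90602 := ndS (p := 26565) (l := 0) rfl N26565 D90602
theorem N50312 : nd 50312 = n90603 := ndS (p := 26565) (l := 1) rfl N26565 D90603
theorem N50313 : nd 50313 = n90604 := ndS (p := 26565) (l := 7) rfl N26565 D90604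
theorem N50314 : nd 50314 = n90605 := ndS (p := 26566) (l := 6) rfl N26566 D90605
theorem N50315 : nd 50315 = n90608 := ndS (p := 26567) (l := 4) rfl N26567 D90608
theorem N50316 : nd 50316 = n90609 := ndS (p := 26567) (l := 5) rfl N26567 D90609
theorem N50317 : nd 50317 = n90616 := ndS (p := 26568) (l := 5) rfl N26568 D90616
theorem N50318 : nd 50318 = n90617 := ndS (p := 26568) (l := 6) rfl N26568 D90617
theorem N50319 : nd 50319 = n90618 := ndS (p := 26569) (l := 5) rfl N26569 D90618
theorem N50320 : nd 50320 = n90620 := ndS (p := 26570) (l := 0) rfl N26570 D90620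
theorem N50321 : nd 50321 = n90621 := ndS (p := 26570) (l := 1) rfl N26570 D90621
theorem N50322 : nd 50322 = n90622 := ndS (p := 26570) (l := 4) rfl N26570 D90622
theorem N50323 : nd 50323 = n90623 := ndS (p := 26570) (l := 6) rfl N26570 D90623
theorem N50324 : nd 50324 = n90624 := ndS (p := 26571) (l := 0) rfl N26571 D90624
theorem N50325 : nd 50325 = n90625 := ndS (p := 26571) (l := 1) rfl N26571 D90625
theorem N50326 : nd 50326 = n90626 := ndS (p := 26571) (l := 5) rfl N26571 D90626
theorem N50327 : nd 50327 = n90630 := ndS (p := 26575) (l := 3) rfl N26575 D90630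
theorem N50328 : nd 50328 = n90631 := ndS (p := 26575) (l := 4) rfl N26575 D90631
theorem N50329 : nd 50329 = n90632 := ndS (p := 26575) (l := 6) rfl N26575 D90632
theorem N50330 : nd 50330 = n90633 := ndS (p := 26576) (l := 4) rfl N26576 D90633
theorem N50331 : nd 50331 = n90634 := ndS (p := 26576) (l := 6) rfl N26576 D90634
theorem N50332 : nd 50332 = n90635 := ndS (p := 26577) (l := 0) rfl N26577 D90635
theorem N50333 : nd 50333 = n90636 := ndS (p := 26577) (l := 1) rfl N26577 D90636
theorem N50334 : nd 50334 = n90637 := ndS (p := 26577) (l := 3) rfl N26577 D90637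
theorem N50335 : nd 50335 = n90638 := ndS (p := 26577) (l := 5) rfl N26577 D90638
theorem N50336 : nd 50336 = n90639 := ndS (p := 26577) (l := 6) rfl N26577 D90639
theorem N50337 : nd 50337 = n90640 := ndS (p := 26578) (l := 0) rfl N26578 D90640
theorem N50338 : nd 50338 = n90641 := ndS (p := 26578) (l := 1) rfl N26578 D90641
theorem N50339 : nd 50339 = n90642 := ndS (p := 26578) (l := 5) rfl N26578 D90642
theorem N50340 : nd 50340 = n90643 := ndS (p := 26578) (l := 7) rfl N26578 D90643
theorem N50341 : nd 50341 = n90644 := ndS (p := 26579) (l := 4) rfl N26579 D90644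
theorem N50342 : nd 50342 = n90651 := ndS (p := 26580) (l := 5) rfl N26580 D90651
theorem N50343 : nd 50343 = n90653 := ndS (p := 26581) (l := 4) rfl N26581 D90653
theorem N50344 : nd 50344 = n90654 := ndS (p := 26581) (l := 5) rfl N26581 D90654
theorem N50345 : nd 50345 = n90655 := ndS (p := 26581) (l := 6) rfl N26581 D90655
theorem N50346 : nd 50346 = n90658 := ndS (p := 26582) (l := 5) rfl N26582 D90658
theorem N50347 : nd 50347 = n90659 := ndS (p := 26582) (l := 6) rfl N26582 D90659
theorem N50348 : nd 50348 = n90660 := ndS (p := 26583) (l := 0) rfl N26583 D90660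
theorem N50349 : nd 50349 = n90661 := ndS (p := 26583) (l := 1) rfl N26583 D90661
theorem N50350 : nd 50350 = n90663 := ndS (p := 26583) (l := 6) rfl N26583 D90663
theorem N50351 : nd 50351 = n90664 := ndS (p := 26584) (l := 0) rfl N26584 D90664
theorem N50352 : nd 50352 = n90665 := ndS (p := 26584) (l := 1) rfl N26584 D90665
theorem N50353 : nd 50353 = n90666 := ndS (p := 26584) (l := 5) rfl N26584 D90666
theorem N50354 : nd 50354 = n90667 := ndS (p := 26584) (l := 7) rfl N26584 D90667
theorem N50355 : nd 50355 = n90670 := ndS (p := 26587) (l := 3) rfl N26587 D90670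
theorem N50356 : nd 50356 = n90671 := ndS (p := 26587) (l := 5) rfl N26587 D90671
theorem N50357 : nd 50357 = n90672 := ndS (p := 26587) (l := 6) rfl N26587 D90672
theorem N50358 : nd 50358 = n90673 := ndS (p := 26588) (l := 0) rfl N26588 D90673
theorem N50359 : nd 50359 = n90674 := ndS (p := 26588) (l := 1) rfl N26588 D90674
theorem N50360 : nd 50360 = n90676 := ndS (p := 26588) (l := 7) rfl N26588 D90676
theorem N50361 : nd 50361 = n90680 := ndS (p := 26591) (l := 2) rfl N26591 D90680
theorem N50362 : nd 50362 = n90681 := ndS (p := 26591) (l := 4) rfl N26591 D90681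
theorem N50363 : nd 50363 = n90682 := ndS (p := 26591) (l := 5) rfl N26591 D90682
theorem N50364 : nd 50364 = n90683 := ndS (p := 26591) (l := 6) rfl N26591 D90683
theorem N50365 : nd 50365 = n90684 := ndS (p := 26592) (l := 0) rfl N26592 D90684
theorem N50366 : nd 50366 = n90685 := ndS (p := 26592) (l := 1) rfl N26592 D90685
theorem N50367 : nd 50367 = n90686 := ndS (p := 26592) (l := 3) rfl N26592 D90686
theorem N50368 : nd 50368 = n90688 := ndS (p := 26592) (l := 6) rfl N26592 D90688
theorem N50369 : nd 50369 = n90689 := ndS (p := 26594) (l := 0) rfl N26594 D90689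
theorem N50370 : nd 50370 = n90690 := ndS (p := 26594) (l := 1) rfl N26594 D90690
theorem N50371 : nd 50371 = n90691 := ndS (p := 26594) (l := 7) rfl N26594 D90691
theorem N50372 : nd 50372 = n90694 := ndS (p := 26595) (l := 2) rfl N26595 D90694
theorem N50373 : nd 50373 = n90695 := ndS (p := 26595) (l := 4) rfl N26595 D90695
theorem N50374 : nd 50374 = n90696 := ndS (p := 26595) (l := 5) rfl N26595 D90696
theorem N50375 : nd 50375 = n90697 := ndS (p := 26595) (l := 6) rfl N26595 D90697
theorem N50376 : nd 50376 = n90698 := ndS (p := 26596) (l := 3) rfl N26596 D90698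
theorem N50377 : nd 50377 = n90699 := ndS (p := 26596) (l := 5) rfl N26596 D90699
theorem N50378 : nd 50378 = n90700 := ndS (p := 26596) (l := 6) rfl N26596 D90700
theorem N50379 : nd 50379 = n90701 := ndS (p := 26598) (l := 0) rfl N26598 D90701
theorem N50380 : nd 50380 = n90702 := ndS (p := 26598) (l := 1) rfl N26598 D90702
theorem N50381 : nd 50381 = n90704 := ndS (p := 26598) (l := 7) rfl N26598 D90704
theorem N50382 : nd 50382 = n90705 := ndS (p := 26599) (l := 3) rfl N26599 D90705
theorem N50383 : nd 50383 = n90707 := ndS (p := 26599) (l := 6) rfl N26599 D90707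
theorem N50384 : nd 50384 = n90708 := ndS (p := 26600) (l := 3) rfl N26600 D90708
theorem N50385 : nd 50385 = n90709 := ndS (p := 26600) (l := 5) rfl N26600 D90709
theorem N50386 : nd 50386 = n90710 := ndS (p := 26600) (l := 6) rfl N26600 D90710
theorem N50387 : nd 50387 = n90711 := ndS (p := 26601) (l := 0) rfl N26601 D90711
theorem N50388 : nd 50388 = n90712 := ndS (p := 26601) (l := 1) rfl N26601 D90712
theorem N50389 : nd 50389 = n90713 := ndS (p := 26601) (l := 5) rfl N26601 D90713
theorem N50390 : nd 50390 = n90714 := ndS (p := 26601) (l := 7) rfl N26601 D90714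
theorem N50391 : nd 50391 = n90715 := ndS (p := 26602) (l := 0) rfl N26602 D90715
theorem N50392 : nd 50392 = n90716 := ndS (p := 26602) (l := 1) rfl N26602 D90716
theorem N50393 : nd 50393 = n90717 := ndS (p := 26602) (l := 6) rfl N26602 D90717
theorem N50394 : nd 50394 = n90718 := ndS (p := 26603) (l := 6) rfl N26603 D90718
theorem N50395 : nd 50395 = n90719 := ndS (p := 26604) (l := 0) rfl N26604 D90719
theorem N50396 : nd 50396 = n90720 := ndS (p := 26604) (l := 1) rfl N26604 D90720
theorem N50397 : nd 50397 = n90722 := ndS (p := 26607) (l := 0) rfl N26607 D90722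
theorem N50398 : nd 50398 = n90724 := ndS (p := 26607) (l := 2) rfl N26607 D90724
theorem N50399 : nd 50399 = n90725 := ndS (p := 26607) (l := 5) rfl N26607 D90725
theorem N50400 : nd 50400 = n90727 := ndS (p := 26608) (l := 4) rfl N26608 D90727
theorem N50401 : nd 50401 = n90728 := ndS (p := 26608) (l := 6) rfl N26608 D90728
theorem N50402 : nd 50402 = n90732 := ndS (p := 26612) (l := 0) rfl N26612 D90732
theorem N50403 : nd 50403 = n90733 := ndS (p := 26612) (l := 1) rfl N26612 D90733
theorem N50404 : nd 50404 = n90734 := ndS (p := 26612) (l := 2) rfl N26612 D90734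
theorem N50405 : nd 50405 = n90735 := ndS (p := 26612) (l := 5) rfl N26612 D90735
theorem N50406 : nd 50406 = n90736 := ndS (p := 26613) (l := 4) rfl N26613 D90736
theorem N50407 : nd 50407 = n90737 := ndS (p := 26613) (l := 6) rfl N26613 D90737
theorem N50408 : nd 50408 = n90739 := ndS (p := 26614) (l := 4) rfl N26614 D90739
theorem N50409 : nd 50409 = n90740 := ndS (p := 26614) (l := 5) rfl N26614 D90740
theorem N50410 : nd 50410 = n90747 := ndS (p := 26615) (l := 5) rfl N26615 D90747
theorem N50411 : nd 50411 = n90748 := ndS (p := 26615) (l := 6) rfl N26615 D90748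
theorem N50412 : nd 50412 = n90749 := ndS (p := 26616) (l := 0) rfl N26616 D90749
theorem N50413 : nd 50413 = n90750 := ndS (p := 26616) (l := 1) rfl N26616 D90750
theorem N50414 : nd 50414 = n90751 := ndS (p := 26616) (l := 4) rfl N26616 D90751
theorem N50415 : nd 50415 = n90752 := ndS (p := 26616) (l := 6) rfl N26616 D90752
theorem N50416 : nd 50416 = n90754 := ndS (p := 26617) (l := 1) rfl N26617 D90754
theorem N50417 : nd 50417 = n90755 := ndS (p := 26617) (l := 5) rfl N26617 D90755
theorem N50418 : nd 50418 = n90756 := ndS (p := 26618) (l := 3) rfl N26618 D90756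
theorem N50419 : nd 50419 = n90757 := ndS (p := 26618) (l := 4) rfl N26618 D90757
theorem N50420 : nd 50420 = n90758 := ndS (p := 26618) (l := 6) rfl N26618 D90758
theorem N50421 : nd 50421 = n90759 := ndS (p := 26619) (l := 3) rfl N26619 D90759
theorem N50422 : nd 50422 = n90760 := ndS (p := 26619) (l := 4) rfl N26619 D90760
theorem N50423 : nd 50423 = n90761 := ndS (p := 26619) (l := 6) rfl N26619 D90761
theorem N50424 : nd 50424 = n90762 := ndS (p := 26620) (l := 3) rfl N26620 D90762
theorem N50425 : nd 50425 = n90763 := ndS (p := 26620) (l := 6) rfl N26620 D90763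
theorem N50426 : nd 50426 = n90764 := ndS (p := 26621) (l := 0) rfl N26621 D90764
theorem N50427 : nd 50427 = n90765 := ndS (p := 26621) (l := 1) rfl N26621 D90765
theorem N50428 : nd 50428 = n90766 := ndS (p := 26621) (l := 5) rfl N26621 D90766
theorem N50429 : nd 50429 = n90767 := ndS (p := 26621) (l := 7) rfl N26621 D90767
theorem N50430 : nd 50430 = n90770 := ndS (p := 26623) (l := 4) rfl N26623 D90770
theorem N50431 : nd 50431 = n90771 := ndS (p := 26624) (l := 3) rfl N26624 D90771
theorem N50432 : nd 50432 = n90775 := ndS (p := 26625) (l := 3) rfl N26625 D90775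
theorem N50433 : nd 50433 = n90780 := ndS (p := 26626) (l := 0) rfl N26626 D90780
theorem N50434 : nd 50434 = n90781 := ndS (p := 26626) (l := 1) rfl N26626 D90781
theorem N50435 : nd 50435 = n90782 := ndS (p := 26626) (l := 2) rfl N26626 D90782
theorem N50436 : nd 50436 = n90783 := ndS (p := 26626) (l := 5) rfl N26626 D90783
theorem N50437 : nd 50437 = n90786 := ndS (p := 26627) (l := 6) rfl N26627 D90786
theorem N50438 : nd 50438 = n90790 := ndS (p := 26628) (l := 1) rfl N26628 D90790
theorem N50439 : nd 50439 = n90791 := ndS (p := 26628) (l := 2) rfl N26628 D90791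
theorem N50440 : nd 50440 = n90792 := ndS (p := 26628) (l := 5) rfl N26628 D90792
theorem N50441 : nd 50441 = n90793 := ndS (p := 26628) (l := 6) rfl N26628 D90793
theorem N50442 : nd 50442 = n90794 := ndS (p := 26629) (l := 4) rfl N26629 D90794
theorem N50443 : nd 50443 = n90795 := ndS (p := 26629) (l := 6) rfl N26629 D90795
theorem N50444 : nd 50444 = n90800 := ndS (p := 26632) (l := 3) rfl N26632 D90800
theorem N50445 : nd 50445 = n90801 := ndS (p := 26632) (l := 5) rfl N26632 D90801
theorem N50446 : nd 50446 = n90806 := ndS (p := 26634) (l := 5) rfl N26634 D90806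
theorem N50447 : nd 50447 = n90807 := ndS (p := 26635) (l := 5) rfl N26635 D90807
theorem N50448 : nd 50448 = n90808 := ndS (p := 26635) (l := 6) rfl N26635 D90808
theorem N50449 : nd 50449 = n90809 := ndS (p := 26636) (l := 0) rfl N26636 D90809
theorem N50450 : nd 50450 = n90810 := ndS (p := 26636) (l := 1) rfl N26636 D90810
theorem N50451 : nd 50451 = n90811 := ndS (p := 26636) (l := 4) rfl N26636 D90811
theorem N50452 : nd 50452 = n90812 := ndS (p := 26636) (l := 6) rfl N26636 D90812
theorem N50453 : nd 50453 = n90813 := ndS (p := 26637) (l := 0) rfl N26637 D90813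
theorem N50454 : nd 50454 = n90814 := ndS (p := 26637) (l := 5) rfl N26637 D90814
theorem N50455 : nd 50455 = n90815 := ndS (p := 26637) (l := 7) rfl N26637 D90815
theorem N50456 : nd 50456 = n90816 := ndS (p := 26638) (l := 3) rfl N26638 D90816
theorem N50457 : nd 50457 = n90817 := ndS (p := 26638) (l := 6) rfl N26638 D90817
theorem N50458 : nd 50458 = n90818 := ndS (p := 26639) (l := 0) rfl N26639 D90818
theorem N50459 : nd 50459 = n90819 := ndS (p := 26639) (l := 1) rfl N26639 D90819
theorem N50460 : nd 50460 = n90820 := ndS (p := 26639) (l := 5) rfl N26639 D90820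
theorem N50461 : nd 50461 = n90821 := ndS (p := 26639) (l := 7) rfl N26639 D90821
theorem N50462 : nd 50462 = n90823 := ndS (p := 26640) (l := 4) rfl N26640 D90823
theorem N50463 : nd 50463 = n90824 := ndS (p := 26640) (l := 7) rfl N26640 D90824
theorem N50464 : nd 50464 = n90826 := ndS (p := 26642) (l := 1) rfl N26642 D90826
theorem N50465 : nd 50465 = n90827 := ndS (p := 26642) (l := 2) rfl N26642 D90827
theorem N50466 : nd 50466 = n90828 := ndS (p := 26642) (l := 5) rfl N26642 D90828
theorem N50467 : nd 50467 = n90830 := ndS (p := 26643) (l := 6) rfl N26643 D90830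
theorem N50468 : nd 50468 = n90851 := ndS (p := 26648) (l := 3) rfl N26648 D90851
theorem N50469 : nd 50469 = n90871 := ndS (p := 26649) (l := 0) rfl N26649 D90871
theorem N50470 : nd 50470 = n90872 := ndS (p := 26649) (l := 1) rfl N26649 D90872
theorem N50471 : nd 50471 = n90873 := ndS (p := 26649) (l := 2) rfl N26649 D90873
theorem N50472 : nd 50472 = n90875 := ndS (p := 26649) (l := 5) rfl N26649 D90875
theorem N50473 : nd 50473 = n90879 := ndS (p := 26651) (l := 6) rfl N26651 D90879
theorem N50474 : nd 50474 = n90912 := ndS (p := 26652) (l := 3) rfl N26652 D90912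
theorem N50475 : nd 50475 = n90913 := ndS (p := 26652) (l := 6) rfl N26652 D90913
theorem N50476 : nd 50476 = n90914 := ndS (p := 26653) (l := 3) rfl N26653 D90914
theorem N50477 : nd 50477 = n90915 := ndS (p := 26653) (l := 6) rfl N26653 D90915
theorem N50478 : nd 50478 = n90916 := ndS (p := 26654) (l := 3) rfl N26654 D90916
theorem N50479 : nd 50479 = n90917 := ndS (p := 26654) (l := 6) rfl N26654 D90917
theorem N50480 : nd 50480 = n90918 := ndS (p := 26655) (l := 0) rfl N26655 D90918
theorem N50481 : nd 50481 = n90919 := ndS (p := 26655) (l := 1) rfl N26655 D90919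
theorem N50482 : nd 50482 = n90920 := ndS (p := 26655) (l := 7) rfl N26655 D90920
theorem N50483 : nd 50483 = n90990 := ndS (p := 26657) (l := 0) rfl N26657 D90990
theorem N50484 : nd 50484 = n90991 := ndS (p := 26657) (l := 1) rfl N26657 D90991
theorem N50485 : nd 50485 = n90992 := ndS (p := 26657) (l := 2) rfl N26657 D90992
theorem N50486 : nd 50486 = n90993 := ndS (p := 26657) (l := 5) rfl N26657 D90993
theorem N50487 : nd 50487 = n90995 := ndS (p := 26658) (l := 6) rfl N26658 D90995
theorem N50488 : nd 50488 = n91000 := ndS (p := 26659) (l := 0) rfl N26659 D91000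
theorem N50489 : nd 50489 = n91001 := ndS (p := 26659) (l := 1) rfl N26659 D91001
theorem N50490 : nd 50490 = n91002 := ndS (p := 26659) (l := 2) rfl N26659 D91002
theorem N50491 : nd 50491 = n91009 := ndS (p := 26660) (l := 3) rfl N26660 D91009
theorem N50492 : nd 50492 = n91010 := ndS (p := 26660) (l := 4) rfl N26660 D91010
theorem N50493 : nd 50493 = n91011 := ndS (p := 26660) (l := 5) rfl N26660 D91011
theorem N50494 : nd 50494 = n91016 := ndS (p := 26661) (l := 5) rfl N26661 D91016
theorem N50495 : nd 50495 = n91018 := ndS (p := 26662) (l := 5) rfl N26662 D91018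
theorem N50496 : nd 50496 = n91020 := ndS (p := 26663) (l := 0) rfl N26663 D91020
theorem N50497 : nd 50497 = n91021 := ndS (p := 26663) (l := 1) rfl N26663 D91021
theorem N50498 : nd 50498 = n91022 := ndS (p := 26663) (l := 4) rfl N26663 D91022
theorem N50499 : nd 50499 = n91023 := ndS (p := 26663) (l := 6) rfl N26663 D91023
theorem N50500 : nd 50500 = n91028 := ndS (p := 26664) (l := 0) rfl N26664 D91028
theorem N50501 : nd 50501 = n91029 := ndS (p := 26664) (l := 1) rfl N26664 D91029
theorem N50502 : nd 50502 = n91031 := ndS (p := 26664) (l := 7) rfl N26664 D91031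
theorem N50503 : nd 50503 = n91045 := ndS (p := 26665) (l := 0) rfl N26665 D91045
theorem N50504 : nd 50504 = n91046 := ndS (p := 26665) (l := 1) rfl N26665 D91046
theorem N50505 : nd 50505 = n91047 := ndS (p := 26665) (l := 2) rfl N26665 D91047
theorem N50506 : nd 50506 = n91048 := ndS (p := 26665) (l := 6) rfl N26665 D91048
theorem N50507 : nd 50507 = n91051 := ndS (p := 26669) (l := 3) rfl N26669 D91051
theorem N50508 : nd 50508 = n91058 := ndS (p := 26671) (l := 5) rfl N26671 D91058
theorem N50509 : nd 50509 = n91059 := ndS (p := 26671) (l := 6) rfl N26671 D91059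
theorem N50510 : nd 50510 = n91062 := ndS (p := 26672) (l := 4) rfl N26672 D91062
theorem N50511 : nd 50511 = n91063 := ndS (p := 26672) (l := 6) rfl N26672 D91063
theorem N50512 : nd 50512 = n91064 := ndS (p := 26673) (l := 0) rfl N26673 D91064
theorem N50513 : nd 50513 = n91066 := ndS (p := 26673) (l := 5) rfl N26673 D91066
theorem N50514 : nd 50514 = n91067 := ndS (p := 26673) (l := 7) rfl N26673 D91067
theorem N50515 : nd 50515 = n91068 := ndS (p := 26674) (l := 0) rfl N26674 D91068
theorem N50516 : nd 50516 = n91069 := ndS (p := 26674) (l := 1) rfl N26674 D91069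
theorem N50517 : nd 50517 = n91070 := ndS (p := 26674) (l := 5) rfl N26674 D91070
theorem N50518 : nd 50518 = n91071 := ndS (p := 26674) (l := 7) rfl N26674 D91071
theorem N50519 : nd 50519 = n91079 := ndS (p := 26676) (l := 4) rfl N26676 D91079
theorem N50520 : nd 50520 = n91081 := ndS (p := 26678) (l := 3) rfl N26678 D91081
theorem N50521 : nd 50521 = n91084 := ndS (p := 26679) (l := 3) rfl N26679 D91084
theorem N50522 : nd 50522 = n91085 := ndS (p := 26679) (l := 4) rfl N26679 D91085
theorem N50523 : nd 50523 = n91087 := ndS (p := 26679) (l := 6) rfl N26679 D91087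
theorem N50524 : nd 50524 = n91089 := ndS (p := 26680) (l := 3) rfl N26680 D91089
theorem N50525 : nd 50525 = n91090 := ndS (p := 26680) (l := 4) rfl N26680 D91090
theorem N50526 : nd 50526 = n91093 := ndS (p := 26681) (l := 4) rfl N26681 D91093
theorem N50527 : nd 50527 = n91094 := ndS (p := 26681) (l := 5) rfl N26681 D91094
theorem N50528 : nd 50528 = n91095 := ndS (p := 26681) (l := 6) rfl N26681 D91095
theorem N50529 : nd 50529 = n91096 := ndS (p := 26682) (l := 1) rfl N26682 D91096
theorem N50530 : nd 50530 = n91097 := ndS (p := 26682) (l := 5) rfl N26682 D91097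
theorem N50531 : nd 50531 = n91099 := ndS (p := 26683) (l := 0) rfl N26683 D91099
theorem N50532 : nd 50532 = n91100 := ndS (p := 26683) (l := 1) rfl N26683 D91100
theorem N50533 : nd 50533 = n91101 := ndS (p := 26683) (l := 4) rfl N26683 D91101
theorem N50534 : nd 50534 = n91102 := ndS (p := 26683) (l := 6) rfl N26683 D91102
theorem N50535 : nd 50535 = n91104 := ndS (p := 26684) (l := 1) rfl N26684 D91104
theorem N50536 : nd 50536 = n91105 := ndS (p := 26684) (l := 5) rfl N26684 D91105
theorem N50537 : nd 50537 = n91107 := ndS (p := 26685) (l := 0) rfl N26685 D91107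
theorem N50538 : nd 50538 = n91108 := ndS (p := 26685) (l := 1) rfl N26685 D91108
theorem N50539 : nd 50539 = n91109 := ndS (p := 26685) (l := 5) rfl N26685 D91109
theorem N50540 : nd 50540 = n91110 := ndS (p := 26685) (l := 7) rfl N26685 D91110
theorem N50541 : nd 50541 = n91111 := ndS (p := 26686) (l := 4) rfl N26686 D91111
theorem N50542 : nd 50542 = n91114 := ndS (p := 26687) (l := 3) rfl N26687 D91114
theorem N50543 : nd 50543 = n91115 := ndS (p := 26687) (l := 4) rfl N26687 D91115
theorem N50544 : nd 50544 = n91116 := ndS (p := 26687) (l := 5) rfl N26687 D91116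
theorem N50545 : nd 50545 = n91119 := ndS (p := 26688) (l := 3) rfl N26688 D91119
theorem N50546 : nd 50546 = n91120 := ndS (p := 26688) (l := 4) rfl N26688 D91120
theorem N50547 : nd 50547 = n91121 := ndS (p := 26688) (l := 5) rfl N26688 D91121
theorem N50548 : nd 50548 = n91122 := ndS (p := 26688) (l := 6) rfl N26688 D91122
theorem N50549 : nd 50549 = n91123 := ndS (p := 26689) (l := 5) rfl N26689 D91123
theorem N50550 : nd 50550 = n91124 := ndS (p := 26689) (l := 6) rfl N26689 D91124
theorem N50551 : nd 50551 = n91125 := ndS (p := 26690) (l := 0) rfl N26690 D91125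
theorem N50552 : nd 50552 = n91126 := ndS (p := 26690) (l := 1) rfl N26690 D91126
theorem N50553 : nd 50553 = n91127 := ndS (p := 26690) (l := 4) rfl N26690 D91127
theorem N50554 : nd 50554 = n91128 := ndS (p := 26690) (l := 6) rfl N26690 D91128
theorem N50555 : nd 50555 = n91129 := ndS (p := 26691) (l := 0) rfl N26691 D91129
theorem N50556 : nd 50556 = n91130 := ndS (p := 26691) (l := 1) rfl N26691 D91130
theorem N50557 : nd 50557 = n91131 := ndS (p := 26691) (l := 5) rfl N26691 D91131
theorem N50558 : nd 50558 = n91132 := ndS (p := 26691) (l := 7) rfl N26691 D91132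
theorem N50559 : nd 50559 = n91133 := ndS (p := 26692) (l := 0) rfl N26692 D91133
theorem N50560 : nd 50560 = n91134 := ndS (p := 26692) (l := 1) rfl N26692 D91134
theorem N50561 : nd 50561 = n91135 := ndS (p := 26692) (l := 5) rfl N26692 D91135
theorem N50562 : nd 50562 = n91136 := ndS (p := 26692) (l := 7) rfl N26692 D91136
theorem N50563 : nd 50563 = n91138 := ndS (p := 26693) (l := 4) rfl N26693 D91138
theorem N50564 : nd 50564 = n91146 := ndS (p := 26695) (l := 1) rfl N26695 D91146
theorem N50565 : nd 50565 = n91147 := ndS (p := 26695) (l := 2) rfl N26695 D91147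
theorem N50566 : nd 50566 = n91148 := ndS (p := 26695) (l := 5) rfl N26695 D91148
theorem N50567 : nd 50567 = n91150 := ndS (p := 26695) (l := 7) rfl N26695 D91150
theorem N50568 : nd 50568 = n91153 := ndS (p := 26697) (l := 4) rfl N26697 D91153
theorem N50569 : nd 50569 = n91154 := ndS (p := 26697) (l := 6) rfl N26697 D91154
theorem N50570 : nd 50570 = n91161 := ndS (p := 26699) (l := 0) rfl N26699 D91161
theorem N50571 : nd 50571 = n91163 := ndS (p := 26699) (l := 2) rfl N26699 D91163
theorem N50572 : nd 50572 = n91165 := ndS (p := 26699) (l := 5) rfl N26699 D91165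
theorem N50573 : nd 50573 = n91168 := ndS (p := 26700) (l := 4) rfl N26700 D91168
theorem N50574 : nd 50574 = n91169 := ndS (p := 26700) (l := 6) rfl N26700 D91169
theorem N50575 : nd 50575 = n91174 := ndS (p := 26701) (l := 4) rfl N26701 D91174
theorem N50576 : nd 50576 = n91175 := ndS (p := 26701) (l := 6) rfl N26701 D91175
theorem N50577 : nd 50577 = n91181 := ndS (p := 26702) (l := 3) rfl N26702 D91181
theorem N50578 : nd 50578 = n91182 := ndS (p := 26702) (l := 4) rfl N26702 D91182
theorem N50579 : nd 50579 = n91183 := ndS (p := 26702) (l := 6) rfl N26702 D91183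
theorem N50580 : nd 50580 = n91186 := ndS (p := 26703) (l := 3) rfl N26703 D91186
theorem N50581 : nd 50581 = n91188 := ndS (p := 26703) (l := 6) rfl N26703 D91188
theorem N50582 : nd 50582 = n91189 := ndS (p := 26703) (l := 7) rfl N26703 D91189
theorem N50583 : nd 50583 = n91190 := ndS (p := 26704) (l := 0) rfl N26704 D91190
theorem N50584 : nd 50584 = n91191 := ndS (p := 26704) (l := 1) rfl N26704 D91191
theorem N50585 : nd 50585 = n91192 := ndS (p := 26704) (l := 7) rfl N26704 D91192
theorem N50586 : nd 50586 = n91193 := ndS (p := 26705) (l := 6) rfl N26705 D91193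
theorem N50587 : nd 50587 = n91208 := ndS (p := 26706) (l := 2) rfl N26706 D91208
theorem N50588 : nd 50588 = n91209 := ndS (p := 26706) (l := 4) rfl N26706 D91209
theorem N50589 : nd 50589 = n91210 := ndS (p := 26706) (l := 6) rfl N26706 D91210
theorem N50590 : nd 50590 = n91211 := ndS (p := 26707) (l := 0) rfl N26707 D91211
theorem N50591 : nd 50591 = n91212 := ndS (p := 26707) (l := 1) rfl N26707 D91212
theorem N50592 : nd 50592 = n91214 := ndS (p := 26707) (l := 7) rfl N26707 D91214
theorem N50593 : nd 50593 = n91215 := ndS (p := 26708) (l := 0) rfl N26708 D91215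
theorem N50594 : nd 50594 = n91216 := ndS (p := 26708) (l := 1) rfl N26708 D91216
theorem N50595 : nd 50595 = n91217 := ndS (p := 26708) (l := 2) rfl N26708 D91217
theorem N50596 : nd 50596 = n91218 := ndS (p := 26708) (l := 6) rfl N26708 D91218
theorem N50597 : nd 50597 = n91219 := ndS (p := 26709) (l := 0) rfl N26709 D91219
theorem N50598 : nd 50598 = n91220 := ndS (p := 26709) (l := 1) rfl N26709 D91220
theorem N50599 : nd 50599 = n91221 := ndS (p := 26709) (l := 5) rfl N26709 D91221
theorem N50600 : nd 50600 = n91222 := ndS (p := 26709) (l := 7) rfl N26709 D91222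
theorem N50601 : nd 50601 = n91224 := ndS (p := 26710) (l := 3) rfl N26710 D91224
theorem N50602 : nd 50602 = n91225 := ndS (p := 26710) (l := 4) rfl N26710 D91225
theorem N50603 : nd 50603 = n91226 := ndS (p := 26710) (l := 5) rfl N26710 D91226
theorem N50604 : nd 50604 = n91227 := ndS (p := 26710) (l := 6) rfl N26710 D91227
theorem N50605 : nd 50605 = n91229 := ndS (p := 26711) (l := 3) rfl N26711 D91229
theorem N50606 : nd 50606 = n91230 := ndS (p := 26711) (l := 4) rfl N26711 D91230
theorem N50607 : nd 50607 = n91231 := ndS (p := 26711) (l := 5) rfl N26711 D91231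
theorem N50608 : nd 50608 = n91232 := ndS (p := 26711) (l := 6) rfl N26711 D91232
theorem N50609 : nd 50609 = n91233 := ndS (p := 26712) (l := 6) rfl N26712 D91233
theorem N50610 : nd 50610 = n91234 := ndS (p := 26713) (l := 0) rfl N26713 D91234
theorem N50611 : nd 50611 = n91235 := ndS (p := 26713) (l := 1) rfl N26713 D91235
theorem N50612 : nd 50612 = n91270 := ndS (p := 26714) (l := 3) rfl N26714 D91270
theorem N50613 : nd 50613 = n91271 := ndS (p := 26714) (l := 4) rfl N26714 D91271
theorem N50614 : nd 50614 = n91272 := ndS (p := 26714) (l := 6) rfl N26714 D91272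
theorem N50615 : nd 50615 = n91273 := ndS (p := 26715) (l := 3) rfl N26715 D91273
theorem N50616 : nd 50616 = n91274 := ndS (p := 26715) (l := 4) rfl N26715 D91274
theorem N50617 : nd 50617 = n91275 := ndS (p := 26715) (l := 6) rfl N26715 D91275
theorem N50618 : nd 50618 = n91276 := ndS (p := 26716) (l := 0) rfl N26716 D91276
theorem N50619 : nd 50619 = n91277 := ndS (p := 26716) (l := 1) rfl N26716 D91277
theorem N50620 : nd 50620 = n91279 := ndS (p := 26716) (l := 5) rfl N26716 D91279
theorem N50621 : nd 50621 = n91281 := ndS (p := 26717) (l := 0) rfl N26717 D91281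
theorem N50622 : nd 50622 = n91282 := ndS (p := 26717) (l := 1) rfl N26717 D91282
theorem N50623 : nd 50623 = n91286 := ndS (p := 26718) (l := 3) rfl N26718 D91286
theorem N50624 : nd 50624 = n91287 := ndS (p := 26718) (l := 5) rfl N26718 D91287
theorem N50625 : nd 50625 = n91289 := ndS (p := 26719) (l := 3) rfl N26719 D91289
theorem N50626 : nd 50626 = n91290 := ndS (p := 26719) (l := 5) rfl N26719 D91290
theorem N50627 : nd 50627 = n91291 := ndS (p := 26720) (l := 3) rfl N26720 D91291
theorem N50628 : nd 50628 = n91302 := ndS (p := 26722) (l := 4) rfl N26722 D91302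
theorem N50629 : nd 50629 = n91303 := ndS (p := 26722) (l := 6) rfl N26722 D91303
theorem N50630 : nd 50630 = n91341 := ndS (p := 26724) (l := 0) rfl N26724 D91341
theorem N50631 : nd 50631 = n91342 := ndS (p := 26724) (l := 2) rfl N26724 D91342
theorem N50632 : nd 50632 = n91343 := ndS (p := 26724) (l := 5) rfl N26724 D91343
theorem N50633 : nd 50633 = n91344 := ndS (p := 26725) (l := 4) rfl N26725 D91344
theorem N50634 : nd 50634 = n91345 := ndS (p := 26725) (l := 6) rfl N26725 D91345
theorem N50635 : nd 50635 = n91350 := ndS (p := 26726) (l := 5) rfl N26726 D91350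
theorem N50636 : nd 50636 = n91351 := ndS (p := 26726) (l := 6) rfl N26726 D91351
theorem N50637 : nd 50637 = n91352 := ndS (p := 26727) (l := 4) rfl N26727 D91352
theorem N50638 : nd 50638 = n91353 := ndS (p := 26727) (l := 6) rfl N26727 D91353
theorem N50639 : nd 50639 = n91355 := ndS (p := 26729) (l := 3) rfl N26729 D91355
theorem N50640 : nd 50640 = n91356 := ndS (p := 26729) (l := 5) rfl N26729 D91356
theorem N50641 : nd 50641 = n91358 := ndS (p := 26730) (l := 5) rfl N26730 D91358
theorem N50642 : nd 50642 = n91359 := ndS (p := 26731) (l := 4) rfl N26731 D91359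
theorem N50643 : nd 50643 = n91360 := ndS (p := 26731) (l := 6) rfl N26731 D91360
theorem N50644 : nd 50644 = n91361 := ndS (p := 26732) (l := 3) rfl N26732 D91361
theorem N50645 : nd 50645 = n91362 := ndS (p := 26732) (l := 4) rfl N26732 D91362
theorem N50646 : nd 50646 = n91364 := ndS (p := 26732) (l := 6) rfl N26732 D91364
theorem N50647 : nd 50647 = n91365 := ndS (p := 26733) (l := 3) rfl N26733 D91365
theorem N50648 : nd 50648 = n91366 := ndS (p := 26733) (l := 4) rfl N26733 D91366
theorem N50649 : nd 50649 = n91367 := ndS (p := 26733) (l := 6) rfl N26733 D91367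
theorem N50650 : nd 50650 = n91368 := ndS (p := 26734) (l := 0) rfl N26734 D91368
theorem N50651 : nd 50651 = n91369 := ndS (p := 26734) (l := 1) rfl N26734 D91369
theorem N50652 : nd 50652 = n91370 := ndS (p := 26734) (l := 3) rfl N26734 D91370
theorem N50653 : nd 50653 = n91371 := ndS (p := 26734) (l := 5) rfl N26734 D91371
theorem N50654 : nd 50654 = n91372 := ndS (p := 26734) (l := 6) rfl N26734 D91372
theorem N50655 : nd 50655 = n91373 := ndS (p := 26735) (l := 0) rfl N26735 D91373
theorem N50656 : nd 50656 = n91375 := ndS (p := 26735) (l := 5) rfl N26735 D91375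
theorem N50657 : nd 50657 = n91376 := ndS (p := 26735) (l := 7) rfl N26735 D91376
theorem N50658 : nd 50658 = n91377 := ndS (p := 26736) (l := 3) rfl N26736 D91377
theorem N50659 : nd 50659 = n91379 := ndS (p := 26737) (l := 3) rfl N26737 D91379
theorem N50660 : nd 50660 = n91380 := ndS (p := 26738) (l := 4) rfl N26738 D91380
theorem N50661 : nd 50661 = n91385 := ndS (p := 26739) (l := 3) rfl N26739 D91385
theorem N50662 : nd 50662 = n91390 := ndS (p := 26740) (l := 3) rfl N26740 D91390
theorem N50663 : nd 50663 = n91398 := ndS (p := 26741) (l := 4) rfl N26741 D91398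
theorem N50664 : nd 50664 = n91399 := ndS (p := 26741) (l := 6) rfl N26741 D91399
theorem N50665 : nd 50665 = n91408 := ndS (p := 26742) (l := 3) rfl N26742 D91408
theorem N50666 : nd 50666 = n91673 := ndS (p := 26743) (l := 3) rfl N26743 D91673
theorem N50667 : nd 50667 = n91688 := ndS (p := 26744) (l := 0) rfl N26744 D91688
theorem N50668 : nd 50668 = n91689 := ndS (p := 26744) (l := 1) rfl N26744 D91689
theorem N50669 : nd 50669 = n91690 := ndS (p := 26744) (l := 2) rfl N26744 D91690
theorem N50670 : nd 50670 = n91691 := ndS (p := 26744) (l := 5) rfl N26744 D91691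
theorem N50671 : nd 50671 = n91693 := ndS (p := 26745) (l := 6) rfl N26745 D91693
theorem N50672 : nd 50672 = n91842 := ndS (p := 26746) (l := 5) rfl N26746 D91842
theorem N50673 : nd 50673 = n91844 := ndS (p := 26747) (l := 6) rfl N26747 D91844
theorem N50674 : nd 50674 = n91849 := ndS (p := 26748) (l := 1) rfl N26748 D91849
theorem N50675 : nd 50675 = n91850 := ndS (p := 26748) (l := 2) rfl N26748 D91850
theorem N50676 : nd 50676 = n91853 := ndS (p := 26749) (l := 0) rfl N26749 D91853
theorem N50677 : nd 50677 = n91855 := ndS (p := 26749) (l := 2) rfl N26749 D91855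
theorem N50678 : nd 50678 = n91871 := ndS (p := 26750) (l := 3) rfl N26750 D91871
theorem N50679 : nd 50679 = n91872 := ndS (p := 26750) (l := 6) rfl N26750 D91872
theorem N50680 : nd 50680 = n91873 := ndS (p := 26751) (l := 0) rfl N26751 D91873
theorem N50681 : nd 50681 = n91874 := ndS (p := 26751) (l := 1) rfl N26751 D91874
theorem N50682 : nd 50682 = n91876 := ndS (p := 26751) (l := 7) rfl N26751 D91876
theorem N50683 : nd 50683 = n91992 := ndS (p := 26753) (l := 3) rfl N26753 D91992
theorem N50684 : nd 50684 = n91997 := ndS (p := 26755) (l := 1) rfl N26755 D91997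
theorem N50685 : nd 50685 = n91998 := ndS (p := 26755) (l := 2) rfl N26755 D91998
theorem N50686 : nd 50686 = n91999 := ndS (p := 26755) (l := 5) rfl N26755 D91999
theorem N50687 : nd 50687 = n92004 := ndS (p := 26756) (l := 4) rfl N26756 D92004
theorem N50688 : nd 50688 = n92005 := ndS (p := 26756) (l := 6) rfl N26756 D92005
theorem N50689 : nd 50689 = n92032 := ndS (p := 26757) (l := 3) rfl N26757 D92032
theorem N50690 : nd 50690 = n92033 := ndS (p := 26757) (l := 5) rfl N26757 D92033
theorem N50691 : nd 50691 = n92040 := ndS (p := 26758) (l := 5) rfl N26758 D92040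
theorem N50692 : nd 50692 = n92042 := ndS (p := 26759) (l := 4) rfl N26759 D92042
theorem N50693 : nd 50693 = n92043 := ndS (p := 26759) (l := 6) rfl N26759 D92043
theorem N50694 : nd 50694 = n92174 := ndS (p := 26760) (l := 0) rfl N26760 D92174
theorem N50695 : nd 50695 = n92175 := ndS (p := 26760) (l := 1) rfl N26760 D92175
theorem N50696 : nd 50696 = n92176 := ndS (p := 26760) (l := 2) rfl N26760 D92176
theorem N50697 : nd 50697 = n92177 := ndS (p := 26760) (l := 5) rfl N26760 D92177
theorem N50698 : nd 50698 = n92178 := ndS (p := 26760) (l := 6) rfl N26760 D92178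
theorem N50699 : nd 50699 = n92179 := ndS (p := 26761) (l := 6) rfl N26761 D92179
theorem N50700 : nd 50700 = n92182 := ndS (p := 26762) (l := 5) rfl N26762 D92182
theorem N50701 : nd 50701 = n92190 := ndS (p := 26763) (l := 3) rfl N26763 D92190
theorem N50702 : nd 50702 = n92191 := ndS (p := 26763) (l := 4) rfl N26763 D92191
theorem N50703 : nd 50703 = n92193 := ndS (p := 26763) (l := 6) rfl N26763 D92193
theorem N50704 : nd 50704 = n92195 := ndS (p := 26764) (l := 3) rfl N26764 D92195
theorem N50705 : nd 50705 = n92196 := ndS (p := 26764) (l := 4) rfl N26764 D92196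
theorem N50706 : nd 50706 = n92198 := ndS (p := 26764) (l := 6) rfl N26764 D92198
theorem N50707 : nd 50707 = n92199 := ndS (p := 26765) (l := 6) rfl N26765 D92199
theorem N50708 : nd 50708 = n92200 := ndS (p := 26766) (l := 0) rfl N26766 D92200
theorem N50709 : nd 50709 = n92201 := ndS (p := 26766) (l := 1) rfl N26766 D92201
theorem N50710 : nd 50710 = n92311 := ndS (p := 26768) (l := 1) rfl N26768 D92311
theorem N50711 : nd 50711 = n92316 := ndS (p := 26769) (l := 5) rfl N26769 D92316
theorem N50712 : nd 50712 = n92318 := ndS (p := 26770) (l := 6) rfl N26770 D92318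
theorem N50713 : nd 50713 = n92323 := ndS (p := 26771) (l := 1) rfl N26771 D92323
theorem N50714 : nd 50714 = n92324 := ndS (p := 26771) (l := 2) rfl N26771 D92324
theorem N50715 : nd 50715 = n92325 := ndS (p := 26771) (l := 6) rfl N26771 D92325
theorem N50716 : nd 50716 = n92328 := ndS (p := 26773) (l := 0) rfl N26773 D92328
theorem N50717 : nd 50717 = n92330 := ndS (p := 26773) (l := 2) rfl N26773 D92330
theorem N50718 : nd 50718 = n92345 := ndS (p := 26774) (l := 3) rfl N26774 D92345
theorem N50719 : nd 50719 = n92346 := ndS (p := 26774) (l := 6) rfl N26774 D92346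
theorem N50720 : nd 50720 = n92347 := ndS (p := 26775) (l := 0) rfl N26775 D92347
theorem N50721 : nd 50721 = n92348 := ndS (p := 26775) (l := 1) rfl N26775 D92348
theorem N50722 : nd 50722 = n92350 := ndS (p := 26775) (l := 7) rfl N26775 D92350
theorem N50723 : nd 50723 = n92418 := ndS (p := 26782) (l := 4) rfl N26782 D92418
theorem N50724 : nd 50724 = n92422 := ndS (p := 26784) (l := 6) rfl N26784 D92422
theorem N50725 : nd 50725 = n92424 := ndS (p := 26785) (l := 1) rfl N26785 D92424
theorem N50726 : nd 50726 = n92425 := ndS (p := 26785) (l := 5) rfl N26785 D92425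
theorem N50727 : nd 50727 = n92426 := ndS (p := 26785) (l := 7) rfl N26785 D92426
theorem N50728 : nd 50728 = n92427 := ndS (p := 26786) (l := 0) rfl N26786 D92427
theorem N50729 : nd 50729 = n92428 := ndS (p := 26786) (l := 1) rfl N26786 D92428
theorem N50730 : nd 50730 = n92429 := ndS (p := 26786) (l := 7) rfl N26786 D92429
theorem N50731 : nd 50731 = n92431 := ndS (p := 26787) (l := 4) rfl N26787 D92431
theorem N50732 : nd 50732 = n92432 := ndS (p := 26787) (l := 5) rfl N26787 D92432
theorem N50733 : nd 50733 = n92433 := ndS (p := 26787) (l := 6) rfl N26787 D92433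
theorem N50734 : nd 50734 = n92435 := ndS (p := 26788) (l := 3) rfl N26788 D92435
theorem N50735 : nd 50735 = n92436 := ndS (p := 26788) (l := 4) rfl N26788 D92436
theorem N50736 : nd 50736 = n92437 := ndS (p := 26788) (l := 5) rfl N26788 D92437
theorem N50737 : nd 50737 = n92438 := ndS (p := 26788) (l := 6) rfl N26788 D92438
theorem N50738 : nd 50738 = n92439 := ndS (p := 26789) (l := 0) rfl N26789 D92439
theorem N50739 : nd 50739 = n92440 := ndS (p := 26789) (l := 1) rfl N26789 D92440
theorem N50740 : nd 50740 = n92441 := ndS (p := 26789) (l := 4) rfl N26789 D92441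
theorem N50741 : nd 50741 = n92442 := ndS (p := 26789) (l := 7) rfl N26789 D92442
theorem N50742 : nd 50742 = n92443 := ndS (p := 26791) (l := 5) rfl N26791 D92443
theorem N50743 : nd 50743 = n92444 := ndS (p := 26791) (l := 7) rfl N26791 D92444
theorem N50744 : nd 50744 = n92445 := ndS (p := 26792) (l := 6) rfl N26792 D92445
theorem N50745 : nd 50745 = n92446 := ndS (p := 26795) (l := 0) rfl N26795 D92446
theorem N50746 : nd 50746 = n92447 := ndS (p := 26795) (l := 4) rfl N26795 D92447
theorem N50747 : nd 50747 = n92448 := ndS (p := 26796) (l := 0) rfl N26796 D92448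
theorem N50748 : nd 50748 = n92450 := ndS (p := 26796) (l := 2) rfl N26796 D92450
theorem N50749 : nd 50749 = n92451 := ndS (p := 26796) (l := 5) rfl N26796 D92451
theorem N50750 : nd 50750 = n92452 := ndS (p := 26796) (l := 6) rfl N26796 D92452
theorem N50751 : nd 50751 = n92456 := ndS (p := 26799) (l := 1) rfl N26799 D92456
theorem N50752 : nd 50752 = n92457 := ndS (p := 26799) (l := 2) rfl N26799 D92457
theorem N50753 : nd 50753 = n92459 := ndS (p := 26800) (l := 4) rfl N26800 D92459
theorem N50754 : nd 50754 = n92460 := ndS (p := 26801) (l := 3) rfl N26801 D92460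
theorem N50755 : nd 50755 = n92461 := ndS (p := 26801) (l := 4) rfl N26801 D92461
theorem N50756 : nd 50756 = n92462 := ndS (p := 26801) (l := 6) rfl N26801 D92462
theorem N50757 : nd 50757 = n92466 := ndS (p := 26803) (l := 3) rfl N26803 D92466
theorem N50758 : nd 50758 = n92467 := ndS (p := 26804) (l := 6) rfl N26804 D92467
theorem N50759 : nd 50759 = n92468 := ndS (p := 26805) (l := 0) rfl N26805 D92468
theorem N50760 : nd 50760 = n92470 := ndS (p := 26805) (l := 5) rfl N26805 D92470
theorem N50761 : nd 50761 = n92471 := ndS (p := 26805) (l := 6) rfl N26805 D92471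
theorem N50762 : nd 50762 = n92472 := ndS (p := 26806) (l := 4) rfl N26806 D92472
theorem N50763 : nd 50763 = n92473 := ndS (p := 26806) (l := 6) rfl N26806 D92473
theorem N50764 : nd 50764 = n92474 := ndS (p := 26807) (l := 1) rfl N26807 D92474
theorem N50765 : nd 50765 = n92475 := ndS (p := 26808) (l := 3) rfl N26808 D92475
theorem N50766 : nd 50766 = n92487 := ndS (p := 26814) (l := 5) rfl N26814 D92487
theorem N50767 : nd 50767 = n92489 := ndS (p := 26816) (l := 5) rfl N26816 D92489
theorem N50768 : nd 50768 = n92490 := ndS (p := 26816) (l := 6) rfl N26816 D92490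
theorem N50769 : nd 50769 = n92491 := ndS (p := 26817) (l := 0) rfl N26817 D92491
theorem N50770 : nd 50770 = n92492 := ndS (p := 26817) (l := 4) rfl N26817 D92492
theorem N50771 : nd 50771 = n92493 := ndS (p := 26817) (l := 7) rfl N26817 D92493
theorem N50772 : nd 50772 = n92494 := ndS (p := 26820) (l := 5) rfl N26820 D92494
theorem N50773 : nd 50773 = n92495 := ndS (p := 26820) (l := 6) rfl N26820 D92495
theorem N50774 : nd 50774 = n92496 := ndS (p := 26821) (l := 4) rfl N26821 D92496
theorem N50775 : nd 50775 = n92497 := ndS (p := 26821) (l := 6) rfl N26821 D92497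
theorem N50776 : nd 50776 = n92499 := ndS (p := 26823) (l := 1) rfl N26823 D92499
theorem N50777 : nd 50777 = n92500 := ndS (p := 26823) (l := 2) rfl N26823 D92500
theorem N50778 : nd 50778 = n92501 := ndS (p := 26823) (l := 5) rfl N26823 D92501
theorem N50779 : nd 50779 = n92502 := ndS (p := 26823) (l := 6) rfl N26823 D92502
theorem N50780 : nd 50780 = n92503 := ndS (p := 26824) (l := 4) rfl N26824 D92503
theorem N50781 : nd 50781 = n92507 := ndS (p := 26826) (l := 4) rfl N26826 D92507
theorem N50782 : nd 50782 = n92509 := ndS (p := 26827) (l := 3) rfl N26827 D92509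
theorem N50783 : nd 50783 = n92510 := ndS (p := 26827) (l := 4) rfl N26827 D92510
theorem N50784 : nd 50784 = n92511 := ndS (p := 26827) (l := 6) rfl N26827 D92511
theorem N50785 : nd 50785 = n92514 := ndS (p := 26828) (l := 3) rfl N26828 D92514
theorem N50786 : nd 50786 = n92516 := ndS (p := 26828) (l := 7) rfl N26828 D92516
theorem N50787 : nd 50787 = n92517 := ndS (p := 26829) (l := 6) rfl N26829 D92517
theorem N50788 : nd 50788 = n92518 := ndS (p := 26830) (l := 5) rfl N26830 D92518
theorem N50789 : nd 50789 = n92520 := ndS (p := 26831) (l := 4) rfl N26831 D92520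
theorem N50790 : nd 50790 = n92521 := ndS (p := 26831) (l := 6) rfl N26831 D92521
theorem N50791 : nd 50791 = n92551 := ndS (p := 26833) (l := 0) rfl N26833 D92551
theorem N50792 : nd 50792 = n92552 := ndS (p := 26833) (l := 1) rfl N26833 D92552
theorem N50793 : nd 50793 = n92553 := ndS (p := 26833) (l := 2) rfl N26833 D92553
theorem N50794 : nd 50794 = n92558 := ndS (p := 26834) (l := 3) rfl N26834 D92558
theorem N50795 : nd 50795 = n92559 := ndS (p := 26834) (l := 4) rfl N26834 D92559
theorem N50796 : nd 50796 = n92561 := ndS (p := 26834) (l := 6) rfl N26834 D92561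
theorem N50797 : nd 50797 = n92564 := ndS (p := 26836) (l := 5) rfl N26836 D92564
theorem N50798 : nd 50798 = n92567 := ndS (p := 26837) (l := 4) rfl N26837 D92567
theorem N50799 : nd 50799 = n92568 := ndS (p := 26837) (l := 6) rfl N26837 D92568
theorem N50800 : nd 50800 = n92569 := ndS (p := 26838) (l := 0) rfl N26838 D92569
theorem N50801 : nd 50801 = n92570 := ndS (p := 26838) (l := 1) rfl N26838 D92570
theorem N50802 : nd 50802 = n92571 := ndS (p := 26838) (l := 7) rfl N26838 D92571
theorem N50803 : nd 50803 = n92572 := ndS (p := 26839) (l := 6) rfl N26839 D92572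
theorem N50804 : nd 50804 = n92575 := ndS (p := 26841) (l := 5) rfl N26841 D92575
theorem N50805 : nd 50805 = n92578 := ndS (p := 26842) (l := 3) rfl N26842 D92578
theorem N50806 : nd 50806 = n92579 := ndS (p := 26842) (l := 4) rfl N26842 D92579
theorem N50807 : nd 50807 = n92580 := ndS (p := 26842) (l := 5) rfl N26842 D92580
theorem N50808 : nd 50808 = n92583 := ndS (p := 26843) (l := 4) rfl N26843 D92583
theorem N50809 : nd 50809 = n92584 := ndS (p := 26843) (l := 5) rfl N26843 D92584
theorem N50810 : nd 50810 = n92585 := ndS (p := 26843) (l := 6) rfl N26843 D92585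
theorem N50811 : nd 50811 = n92586 := ndS (p := 26844) (l := 0) rfl N26844 D92586
theorem N50812 : nd 50812 = n92587 := ndS (p := 26844) (l := 1) rfl N26844 D92587
theorem N50813 : nd 50813 = n92588 := ndS (p := 26844) (l := 4) rfl N26844 D92588
theorem N50814 : nd 50814 = n92589 := ndS (p := 26844) (l := 7) rfl N26844 D92589
theorem N50815 : nd 50815 = n92593 := ndS (p := 26846) (l := 5) rfl N26846 D92593
theorem N50816 : nd 50816 = n92595 := ndS (p := 26847) (l := 1) rfl N26847 D92595
theorem N50817 : nd 50817 = n92596 := ndS (p := 26847) (l := 4) rfl N26847 D92596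
theorem N50818 : nd 50818 = n92597 := ndS (p := 26847) (l := 6) rfl N26847 D92597
theorem N50819 : nd 50819 = n92600 := ndS (p := 26848) (l := 1) rfl N26848 D92600
theorem N50820 : nd 50820 = n92601 := ndS (p := 26848) (l := 2) rfl N26848 D92601
theorem N50821 : nd 50821 = n92602 := ndS (p := 26848) (l := 5) rfl N26848 D92602
theorem N50822 : nd 50822 = n92603 := ndS (p := 26849) (l := 4) rfl N26849 D92603
theorem N50823 : nd 50823 = n92604 := ndS (p := 26849) (l := 6) rfl N26849 D92604
theorem N50824 : nd 50824 = n92605 := ndS (p := 26850) (l := 3) rfl N26850 D92605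
theorem N50825 : nd 50825 = n92606 := ndS (p := 26850) (l := 4) rfl N26850 D92606
theorem N50826 : nd 50826 = n92607 := ndS (p := 26850) (l := 6) rfl N26850 D92607
theorem N50827 : nd 50827 = n92608 := ndS (p := 26851) (l := 3) rfl N26851 D92608
theorem N50828 : nd 50828 = n92609 := ndS (p := 26851) (l := 4) rfl N26851 D92609
theorem N50829 : nd 50829 = n92610 := ndS (p := 26851) (l := 6) rfl N26851 D92610
theorem N50830 : nd 50830 = n92611 := ndS (p := 26852) (l := 0) rfl N26852 D92611
theorem N50831 : nd 50831 = n92612 := ndS (p := 26852) (l := 1) rfl N26852 D92612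
theorem N50832 : nd 50832 = n92613 := ndS (p := 26852) (l := 3) rfl N26852 D92613
theorem N50833 : nd 50833 = n92614 := ndS (p := 26852) (l := 5) rfl N26852 D92614
theorem N50834 : nd 50834 = n92615 := ndS (p := 26852) (l := 7) rfl N26852 D92615
theorem N50835 : nd 50835 = n92616 := ndS (p := 26853) (l := 6) rfl N26853 D92616
theorem N50836 : nd 50836 = n92619 := ndS (p := 26854) (l := 5) rfl N26854 D92619
theorem N50837 : nd 50837 = n92620 := ndS (p := 26855) (l := 0) rfl N26855 D92620
theorem N50838 : nd 50838 = n92621 := ndS (p := 26855) (l := 2) rfl N26855 D92621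
theorem N50839 : nd 50839 = n92622 := ndS (p := 26855) (l := 5) rfl N26855 D92622
theorem N50840 : nd 50840 = n92625 := ndS (p := 26856) (l := 4) rfl N26856 D92625
theorem N50841 : nd 50841 = n92626 := ndS (p := 26856) (l := 6) rfl N26856 D92626
theorem N50842 : nd 50842 = n92631 := ndS (p := 26857) (l := 1) rfl N26857 D92631
theorem N50843 : nd 50843 = n92632 := ndS (p := 26857) (l := 2) rfl N26857 D92632
theorem N50844 : nd 50844 = n92633 := ndS (p := 26857) (l := 5) rfl N26857 D92633
theorem N50845 : nd 50845 = n92634 := ndS (p := 26858) (l := 4) rfl N26858 D92634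
theorem N50846 : nd 50846 = n92635 := ndS (p := 26858) (l := 6) rfl N26858 D92635
theorem N50847 : nd 50847 = n92641 := ndS (p := 26859) (l := 3) rfl N26859 D92641
theorem N50848 : nd 50848 = n92646 := ndS (p := 26860) (l := 3) rfl N26860 D92646
theorem N50849 : nd 50849 = n92648 := ndS (p := 26861) (l := 0) rfl N26861 D92648
theorem N50850 : nd 50850 = n92649 := ndS (p := 26861) (l := 1) rfl N26861 D92649
theorem N50851 : nd 50851 = n92651 := ndS (p := 26861) (l := 5) rfl N26861 D92651
theorem N50852 : nd 50852 = n92652 := ndS (p := 26861) (l := 7) rfl N26861 D92652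
theorem N50853 : nd 50853 = n92654 := ndS (p := 26862) (l := 4) rfl N26862 D92654
theorem N50854 : nd 50854 = n92655 := ndS (p := 26862) (l := 6) rfl N26862 D92655
theorem N50855 : nd 50855 = n92658 := ndS (p := 26864) (l := 3) rfl N26864 D92658
theorem N50856 : nd 50856 = n92659 := ndS (p := 26864) (l := 4) rfl N26864 D92659
theorem N50857 : nd 50857 = n92663 := ndS (p := 26865) (l := 3) rfl N26865 D92663
theorem N50858 : nd 50858 = n92664 := ndS (p := 26865) (l := 4) rfl N26865 D92664
theorem N50859 : nd 50859 = n92670 := ndS (p := 26866) (l := 4) rfl N26866 D92670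
theorem N50860 : nd 50860 = n92671 := ndS (p := 26866) (l := 6) rfl N26866 D92671
theorem N50861 : nd 50861 = n92672 := ndS (p := 26867) (l := 0) rfl N26867 D92672
theorem N50862 : nd 50862 = n92673 := ndS (p := 26867) (l := 1) rfl N26867 D92673
theorem N50863 : nd 50863 = n92674 := ndS (p := 26867) (l := 7) rfl N26867 D92674
theorem N50864 : nd 50864 = n92675 := ndS (p := 26868) (l := 6) rfl N26868 D92675
theorem N50865 : nd 50865 = n92676 := ndS (p := 26869) (l := 6) rfl N26869 D92676
theorem N50866 : nd 50866 = n92677 := ndS (p := 26870) (l := 6) rfl N26870 D92677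
theorem N50867 : nd 50867 = n92678 := ndS (p := 26871) (l := 0) rfl N26871 D92678
theorem N50868 : nd 50868 = n92679 := ndS (p := 26871) (l := 1) rfl N26871 D92679
theorem N50869 : nd 50869 = n92680 := ndS (p := 26871) (l := 5) rfl N26871 D92680
theorem N50870 : nd 50870 = n92682 := ndS (p := 26873) (l := 5) rfl N26873 D92682
theorem N50871 : nd 50871 = n92683 := ndS (p := 26874) (l := 0) rfl N26874 D92683
theorem N50872 : nd 50872 = n92684 := ndS (p := 26874) (l := 1) rfl N26874 D92684
theorem N50873 : nd 50873 = n92685 := ndS (p := 26874) (l := 4) rfl N26874 D92685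
theorem N50874 : nd 50874 = n92688 := ndS (p := 26875) (l := 5) rfl N26875 D92688
theorem N50875 : nd 50875 = n92690 := ndS (p := 26876) (l := 6) rfl N26876 D92690
theorem N50876 : nd 50876 = n92695 := ndS (p := 26879) (l := 4) rfl N26879 D92695
theorem N50877 : nd 50877 = n92696 := ndS (p := 26879) (l := 5) rfl N26879 D92696
theorem N50878 : nd 50878 = n92697 := ndS (p := 26879) (l := 6) rfl N26879 D92697
theorem N50879 : nd 50879 = n92699 := ndS (p := 26880) (l := 3) rfl N26880 D92699
theorem N50880 : nd 50880 = n92700 := ndS (p := 26880) (l := 4) rfl N26880 D92700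
theorem N50881 : nd 50881 = n92701 := ndS (p := 26880) (l := 5) rfl N26880 D92701
theorem N50882 : nd 50882 = n92702 := ndS (p := 26880) (l := 6) rfl N26880 D92702
theorem N50883 : nd 50883 = n92703 := ndS (p := 26881) (l := 0) rfl N26881 D92703
theorem N50884 : nd 50884 = n92705 := ndS (p := 26881) (l := 2) rfl N26881 D92705
theorem N50885 : nd 50885 = n92706 := ndS (p := 26881) (l := 5) rfl N26881 D92706
theorem N50886 : nd 50886 = n92707 := ndS (p := 26882) (l := 1) rfl N26882 D92707
theorem N50887 : nd 50887 = n92710 := ndS (p := 26883) (l := 1) rfl N26883 D92710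
theorem N50888 : nd 50888 = n92711 := ndS (p := 26883) (l := 2) rfl N26883 D92711
theorem N50889 : nd 50889 = n92715 := ndS (p := 26884) (l := 6) rfl N26884 D92715
theorem N50890 : nd 50890 = n92716 := ndS (p := 26885) (l := 5) rfl N26885 D92716
theorem N50891 : nd 50891 = n92717 := ndS (p := 26886) (l := 3) rfl N26886 D92717
theorem N50892 : nd 50892 = n92718 := ndS (p := 26886) (l := 6) rfl N26886 D92718
theorem N50893 : nd 50893 = n92719 := ndS (p := 26887) (l := 3) rfl N26887 D92719
theorem N50894 : nd 50894 = n92720 := ndS (p := 26887) (l := 6) rfl N26887 D92720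
theorem N50895 : nd 50895 = n92721 := ndS (p := 26888) (l := 0) rfl N26888 D92721
theorem N50896 : nd 50896 = n92722 := ndS (p := 26888) (l := 1) rfl N26888 D92722
theorem N50897 : nd 50897 = n92723 := ndS (p := 26888) (l := 3) rfl N26888 D92723
theorem N50898 : nd 50898 = n92728 := ndS (p := 26892) (l := 6) rfl N26892 D92728
theorem N50899 : nd 50899 = n92729 := ndS (p := 26893) (l := 0) rfl N26893 D92729
theorem N50900 : nd 50900 = n92730 := ndS (p := 26893) (l := 4) rfl N26893 D92730
theorem N50901 : nd 50901 = n92732 := ndS (p := 26895) (l := 5) rfl N26895 D92732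
theorem N50902 : nd 50902 = n92733 := ndS (p := 26896) (l := 1) rfl N26896 D92733
theorem N50903 : nd 50903 = n92734 := ndS (p := 26897) (l := 5) rfl N26897 D92734
theorem N50904 : nd 50904 = n92735 := ndS (p := 26897) (l := 6) rfl N26897 D92735
theorem N50905 : nd 50905 = n92736 := ndS (p := 26898) (l := 0) rfl N26898 D92736
theorem N50906 : nd 50906 = n92737 := ndS (p := 26898) (l := 1) rfl N26898 D92737
theorem N50907 : nd 50907 = n92738 := ndS (p := 26898) (l := 4) rfl N26898 D92738
theorem N50908 : nd 50908 = n92739 := ndS (p := 26898) (l := 6) rfl N26898 D92739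
theorem N50909 : nd 50909 = n92741 := ndS (p := 26900) (l := 1) rfl N26900 D92741
theorem N50910 : nd 50910 = n92742 := ndS (p := 26900) (l := 2) rfl N26900 D92742
theorem N50911 : nd 50911 = n92743 := ndS (p := 26900) (l := 5) rfl N26900 D92743
theorem N50912 : nd 50912 = n92745 := ndS (p := 26901) (l := 4) rfl N26901 D92745
theorem N50913 : nd 50913 = n92746 := ndS (p := 26901) (l := 6) rfl N26901 D92746
theorem N50914 : nd 50914 = n92747 := ndS (p := 26902) (l := 6) rfl N26902 D92747
theorem N50915 : nd 50915 = n92748 := ndS (p := 26903) (l := 3) rfl N26903 D92748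
theorem N50916 : nd 50916 = n92749 := ndS (p := 26903) (l := 6) rfl N26903 D92749
theorem N50917 : nd 50917 = n92750 := ndS (p := 26904) (l := 0) rfl N26904 D92750
theorem N50918 : nd 50918 = n92751 := ndS (p := 26904) (l := 1) rfl N26904 D92751
theorem N50919 : nd 50919 = n92752 := ndS (p := 26904) (l := 3) rfl N26904 D92752
theorem N50920 : nd 50920 = n92753 := ndS (p := 26904) (l := 5) rfl N26904 D92753
theorem N50921 : nd 50921 = n92754 := ndS (p := 26904) (l := 7) rfl N26904 D92754
theorem N50922 : nd 50922 = n92756 := ndS (p := 26906) (l := 5) rfl N26906 D92756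
theorem N50923 : nd 50923 = n92758 := ndS (p := 26907) (l := 4) rfl N26907 D92758
theorem N50924 : nd 50924 = n92759 := ndS (p := 26907) (l := 6) rfl N26907 D92759
theorem N50925 : nd 50925 = n92761 := ndS (p := 26908) (l := 5) rfl N26908 D92761
theorem N50926 : nd 50926 = n92762 := ndS (p := 26908) (l := 6) rfl N26908 D92762
theorem N50927 : nd 50927 = n92765 := ndS (p := 26909) (l := 5) rfl N26909 D92765
theorem N50928 : nd 50928 = n92767 := ndS (p := 26910) (l := 6) rfl N26910 D92767
theorem N50929 : nd 50929 = n92768 := ndS (p := 26911) (l := 5) rfl N26911 D92768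
theorem N50930 : nd 50930 = n92769 := ndS (p := 26911) (l := 6) rfl N26911 D92769
theorem N50931 : nd 50931 = n92772 := ndS (p := 26912) (l := 5) rfl N26912 D92772
theorem N50932 : nd 50932 = n92774 := ndS (p := 26914) (l := 5) rfl N26914 D92774
theorem N50933 : nd 50933 = n92776 := ndS (p := 26917) (l := 3) rfl N26917 D92776
theorem N50934 : nd 50934 = n92777 := ndS (p := 26917) (l := 4) rfl N26917 D92777
theorem N50935 : nd 50935 = n92778 := ndS (p := 26917) (l := 5) rfl N26917 D92778
theorem N50936 : nd 50936 = n92780 := ndS (p := 26918) (l := 3) rfl N26918 D92780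
theorem N50937 : nd 50937 = n92781 := ndS (p := 26918) (l := 4) rfl N26918 D92781
theorem N50938 : nd 50938 = n92782 := ndS (p := 26918) (l := 5) rfl N26918 D92782
theorem N50939 : nd 50939 = n92783 := ndS (p := 26918) (l := 6) rfl N26918 D92783
theorem N50940 : nd 50940 = n92784 := ndS (p := 26919) (l := 0) rfl N26919 D92784
theorem N50941 : nd 50941 = n92785 := ndS (p := 26919) (l := 1) rfl N26919 D92785
theorem N50942 : nd 50942 = n92786 := ndS (p := 26919) (l := 4) rfl N26919 D92786
theorem N50943 : nd 50943 = n92787 := ndS (p := 26920) (l := 5) rfl N26920 D92787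
theorem N50944 : nd 50944 = n92788 := ndS (p := 26921) (l := 5) rfl N26921 D92788
theorem N50945 : nd 50945 = n92789 := ndS (p := 26922) (l := 0) rfl N26922 D92789
theorem N50946 : nd 50946 = n92790 := ndS (p := 26922) (l := 4) rfl N26922 D92790
theorem N50947 : nd 50947 = n92791 := ndS (p := 26922) (l := 7) rfl N26922 D92791
theorem N50948 : nd 50948 = n92792 := ndS (p := 26924) (l := 3) rfl N26924 D92792
theorem N50949 : nd 50949 = n92793 := ndS (p := 26924) (l := 6) rfl N26924 D92793
theorem N50950 : nd 50950 = n92794 := ndS (p := 26925) (l := 6) rfl N26925 D92794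
theorem N50951 : nd 50951 = n92795 := ndS (p := 26926) (l := 3) rfl N26926 D92795
theorem N50952 : nd 50952 = n92796 := ndS (p := 26926) (l := 5) rfl N26926 D92796
theorem N50953 : nd 50953 = n92797 := ndS (p := 26927) (l := 1) rfl N26927 D92797
theorem N50954 : nd 50954 = n92798 := ndS (p := 26927) (l := 7) rfl N26927 D92798
theorem N50955 : nd 50955 = n92800 := ndS (p := 26928) (l := 3) rfl N26928 D92800
theorem N50956 : nd 50956 = n92801 := ndS (p := 26928) (l := 5) rfl N26928 D92801
theorem N50957 : nd 50957 = n92802 := ndS (p := 26928) (l := 6) rfl N26928 D92802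
theorem N50958 : nd 50958 = n92804 := ndS (p := 26929) (l := 5) rfl N26929 D92804
theorem N50959 : nd 50959 = n92806 := ndS (p := 26931) (l := 6) rfl N26931 D92806
theorem N50960 : nd 50960 = n92807 := ndS (p := 26932) (l := 3) rfl N26932 D92807
theorem N50961 : nd 50961 = n92808 := ndS (p := 26932) (l := 6) rfl N26932 D92808
theorem N50962 : nd 50962 = n92809 := ndS (p := 26933) (l := 3) rfl N26933 D92809
theorem N50963 : nd 50963 = n92810 := ndS (p := 26933) (l := 5) rfl N26933 D92810
theorem N50964 : nd 50964 = n92811 := ndS (p := 26933) (l := 7) rfl N26933 D92811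
theorem N50965 : nd 50965 = n92812 := ndS (p := 26934) (l := 6) rfl N26934 D92812
theorem N50966 : nd 50966 = n92813 := ndS (p := 26935) (l := 5) rfl N26935 D92813
theorem N50967 : nd 50967 = n92814 := ndS (p := 26938) (l := 5) rfl N26938 D92814
theorem N50968 : nd 50968 = n92815 := ndS (p := 26939) (l := 0) rfl N26939 D92815
theorem N50969 : nd 50969 = n92816 := ndS (p := 26939) (l := 1) rfl N26939 D92816
theorem N50970 : nd 50970 = n92817 := ndS (p := 26939) (l := 4) rfl N26939 D92817
theorem N50971 : nd 50971 = n92818 := ndS (p := 26939) (l := 6) rfl N26939 D92818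
theorem N50972 : nd 50972 = n92819 := ndS (p := 26940) (l := 5) rfl N26940 D92819
theorem N50973 : nd 50973 = n92820 := ndS (p := 26942) (l := 4) rfl N26942 D92820
theorem N50974 : nd 50974 = n92821 := ndS (p := 26942) (l := 6) rfl N26942 D92821
theorem N50975 : nd 50975 = n92822 := ndS (p := 26943) (l := 4) rfl N26943 D92822
theorem N50976 : nd 50976 = n92823 := ndS (p := 26943) (l := 6) rfl N26943 D92823
theorem N50977 : nd 50977 = n92824 := ndS (p := 26944) (l := 4) rfl N26944 D92824
theorem N50978 : nd 50978 = n92825 := ndS (p := 26944) (l := 6) rfl N26944 D92825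
theorem N50979 : nd 50979 = n92826 := ndS (p := 26945) (l := 1) rfl N26945 D92826
theorem N50980 : nd 50980 = n92827 := ndS (p := 26945) (l := 7) rfl N26945 D92827
theorem N50981 : nd 50981 = n92828 := ndS (p := 26946) (l := 6) rfl N26946 D92828
theorem N50982 : nd 50982 = n92830 := ndS (p := 26947) (l := 4) rfl N26947 D92830
theorem N50983 : nd 50983 = n92831 := ndS (p := 26947) (l := 5) rfl N26947 D92831
theorem N50984 : nd 50984 = n92838 := ndS (p := 26948) (l := 5) rfl N26948 D92838
theorem N50985 : nd 50985 = n92840 := ndS (p := 26949) (l := 0) rfl N26949 D92840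
theorem N50986 : nd 50986 = n92843 := ndS (p := 26949) (l := 6) rfl N26949 D92843
theorem N50987 : nd 50987 = n92848 := ndS (p := 26950) (l := 3) rfl N26950 D92848
theorem N50988 : nd 50988 = n92849 := ndS (p := 26950) (l := 4) rfl N26950 D92849
theorem N50989 : nd 50989 = n92850 := ndS (p := 26950) (l := 6) rfl N26950 D92850
theorem N50990 : nd 50990 = n92851 := ndS (p := 26951) (l := 4) rfl N26951 D92851
theorem N50991 : nd 50991 = n92852 := ndS (p := 26951) (l := 6) rfl N26951 D92852
theorem N50992 : nd 50992 = n92853 := ndS (p := 26952) (l := 0) rfl N26952 D92853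
theorem N50993 : nd 50993 = n92854 := ndS (p := 26952) (l := 1) rfl N26952 D92854
theorem N50994 : nd 50994 = n92856 := ndS (p := 26952) (l := 5) rfl N26952 D92856
theorem N50995 : nd 50995 = n92857 := ndS (p := 26952) (l := 6) rfl N26952 D92857
theorem N50996 : nd 50996 = n92858 := ndS (p := 26953) (l := 0) rfl N26953 D92858
theorem N50997 : nd 50997 = n92859 := ndS (p := 26953) (l := 1) rfl N26953 D92859
theorem N50998 : nd 50998 = n92861 := ndS (p := 26953) (l := 7) rfl N26953 D92861
theorem N50999 : nd 50999 = n92868 := ndS (p := 26954) (l := 5) rfl N26954 D92868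
theorem N51000 : nd 51000 = n92870 := ndS (p := 26955) (l := 4) rfl N26955 D92870
theorem N51001 : nd 51001 = n92871 := ndS (p := 26955) (l := 5) rfl N26955 D92871
theorem N51002 : nd 51002 = n92873 := ndS (p := 26956) (l := 5) rfl N26956 D92873
theorem N51003 : nd 51003 = n92874 := ndS (p := 26957) (l := 0) rfl N26957 D92874
theorem N51004 : nd 51004 = n92875 := ndS (p := 26957) (l := 1) rfl N26957 D92875
theorem N51005 : nd 51005 = n92876 := ndS (p := 26957) (l := 4) rfl N26957 D92876
theorem N51006 : nd 51006 = n92880 := ndS (p := 26958) (l := 5) rfl N26958 D92880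
theorem N51007 : nd 51007 = n92881 := ndS (p := 26959) (l := 3) rfl N26959 D92881
theorem N51008 : nd 51008 = n92883 := ndS (p := 26959) (l := 6) rfl N26959 D92883
theorem N51009 : nd 51009 = n92884 := ndS (p := 26960) (l := 0) rfl N26960 D92884
theorem N51010 : nd 51010 = n92885 := ndS (p := 26960) (l := 1) rfl N26960 D92885
theorem N51011 : nd 51011 = n92886 := ndS (p := 26960) (l := 5) rfl N26960 D92886
theorem N51012 : nd 51012 = n92887 := ndS (p := 26960) (l := 7) rfl N26960 D92887
theorem N51013 : nd 51013 = n92888 := ndS (p := 26961) (l := 4) rfl N26961 D92888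
theorem N51014 : nd 51014 = n92891 := ndS (p := 26962) (l := 2) rfl N26962 D92891
theorem N51015 : nd 51015 = n92893 := ndS (p := 26962) (l := 5) rfl N26962 D92893
theorem N51016 : nd 51016 = n92894 := ndS (p := 26962) (l := 6) rfl N26962 D92894
theorem N51017 : nd 51017 = n92895 := ndS (p := 26963) (l := 0) rfl N26963 D92895
theorem N51018 : nd 51018 = n92897 := ndS (p := 26963) (l := 5) rfl N26963 D92897
theorem N51019 : nd 51019 = n92898 := ndS (p := 26963) (l := 6) rfl N26963 D92898
theorem N51020 : nd 51020 = n92899 := ndS (p := 26965) (l := 0) rfl N26965 D92899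
theorem N51021 : nd 51021 = n92900 := ndS (p := 26965) (l := 1) rfl N26965 D92900
theorem N51022 : nd 51022 = n92901 := ndS (p := 26965) (l := 5) rfl N26965 D92901
theorem N51023 : nd 51023 = n92902 := ndS (p := 26965) (l := 7) rfl N26965 D92902
theorem N51024 : nd 51024 = n92905 := ndS (p := 26966) (l := 2) rfl N26966 D92905
theorem N51025 : nd 51025 = n92906 := ndS (p := 26966) (l := 4) rfl N26966 D92906
theorem N51026 : nd 51026 = n92907 := ndS (p := 26966) (l := 5) rfl N26966 D92907
theorem N51027 : nd 51027 = n92908 := ndS (p := 26966) (l := 6) rfl N26966 D92908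
theorem N51028 : nd 51028 = n92909 := ndS (p := 26967) (l := 3) rfl N26967 D92909
theorem N51029 : nd 51029 = n92910 := ndS (p := 26967) (l := 5) rfl N26967 D92910
theorem N51030 : nd 51030 = n92911 := ndS (p := 26967) (l := 6) rfl N26967 D92911
theorem N51031 : nd 51031 = n92912 := ndS (p := 26969) (l := 0) rfl N26969 D92912
theorem N51032 : nd 51032 = n92913 := ndS (p := 26969) (l := 1) rfl N26969 D92913
theorem N51033 : nd 51033 = n92914 := ndS (p := 26969) (l := 5) rfl N26969 D92914
theorem N51034 : nd 51034 = n92915 := ndS (p := 26969) (l := 7) rfl N26969 D92915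
theorem N51035 : nd 51035 = n92916 := ndS (p := 26970) (l := 3) rfl N26970 D92916
theorem N51036 : nd 51036 = n92917 := ndS (p := 26970) (l := 5) rfl N26970 D92917
theorem N51037 : nd 51037 = n92918 := ndS (p := 26970) (l := 6) rfl N26970 D92918
theorem N51038 : nd 51038 = n92919 := ndS (p := 26971) (l := 3) rfl N26971 D92919
theorem N51039 : nd 51039 = n92920 := ndS (p := 26971) (l := 5) rfl N26971 D92920
theorem N51040 : nd 51040 = n92921 := ndS (p := 26971) (l := 6) rfl N26971 D92921
theorem N51041 : nd 51041 = n92922 := ndS (p := 26972) (l := 0) rfl N26972 D92922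
theorem N51042 : nd 51042 = n92923 := ndS (p := 26972) (l := 1) rfl N26972 D92923
theorem N51043 : nd 51043 = n92924 := ndS (p := 26972) (l := 2) rfl N26972 D92924
theorem N51044 : nd 51044 = n92925 := ndS (p := 26972) (l := 5) rfl N26972 D92925
theorem N51045 : nd 51045 = n92926 := ndS (p := 26972) (l := 7) rfl N26972 D92926
theorem N51046 : nd 51046 = n92927 := ndS (p := 26973) (l := 0) rfl N26973 D92927
theorem N51047 : nd 51047 = n92929 := ndS (p := 26973) (l := 6) rfl N26973 D92929
theorem N51048 : nd 51048 = n92930 := ndS (p := 26974) (l := 6) rfl N26974 D92930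
theorem N51049 : nd 51049 = n92931 := ndS (p := 26975) (l := 0) rfl N26975 D92931
theorem N51050 : nd 51050 = n92932 := ndS (p := 26975) (l := 1) rfl N26975 D92932
theorem N51051 : nd 51051 = n92935 := ndS (p := 26976) (l := 2) rfl N26976 D92935
theorem N51052 : nd 51052 = n92939 := ndS (p := 26977) (l := 4) rfl N26977 D92939
theorem N51053 : nd 51053 = n92948 := ndS (p := 26978) (l := 0) rfl N26978 D92948
theorem N51054 : nd 51054 = n92949 := ndS (p := 26978) (l := 1) rfl N26978 D92949
theorem N51055 : nd 51055 = n92950 := ndS (p := 26978) (l := 2) rfl N26978 D92950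
theorem N51056 : nd 51056 = n92951 := ndS (p := 26978) (l := 5) rfl N26978 D92951
theorem N51057 : nd 51057 = n92952 := ndS (p := 26979) (l := 4) rfl N26979 D92952
theorem N51058 : nd 51058 = n92953 := ndS (p := 26979) (l := 6) rfl N26979 D92953
theorem N51059 : nd 51059 = n92955 := ndS (p := 26980) (l := 5) rfl N26980 D92955
theorem N51060 : nd 51060 = n92961 := ndS (p := 26981) (l := 5) rfl N26981 D92961
theorem N51061 : nd 51061 = n92963 := ndS (p := 26982) (l := 0) rfl N26982 D92963
theorem N51062 : nd 51062 = n92964 := ndS (p := 26982) (l := 1) rfl N26982 D92964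
theorem N51063 : nd 51063 = n92965 := ndS (p := 26982) (l := 4) rfl N26982 D92965
theorem N51064 : nd 51064 = n92966 := ndS (p := 26982) (l := 6) rfl N26982 D92966
theorem N51065 : nd 51065 = n92971 := ndS (p := 26983) (l := 3) rfl N26983 D92971
theorem N51066 : nd 51066 = n92972 := ndS (p := 26983) (l := 4) rfl N26983 D92972
theorem N51067 : nd 51067 = n92973 := ndS (p := 26983) (l := 6) rfl N26983 D92973
theorem N51068 : nd 51068 = n92974 := ndS (p := 26984) (l := 3) rfl N26984 D92974
theorem N51069 : nd 51069 = n92975 := ndS (p := 26984) (l := 4) rfl N26984 D92975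
theorem N51070 : nd 51070 = n92976 := ndS (p := 26984) (l := 6) rfl N26984 D92976
theorem N51071 : nd 51071 = n92977 := ndS (p := 26985) (l := 3) rfl N26985 D92977
theorem N51072 : nd 51072 = n92978 := ndS (p := 26985) (l := 6) rfl N26985 D92978
theorem N51073 : nd 51073 = n92979 := ndS (p := 26986) (l := 0) rfl N26986 D92979
theorem N51074 : nd 51074 = n92980 := ndS (p := 26986) (l := 1) rfl N26986 D92980
theorem N51075 : nd 51075 = n92982 := ndS (p := 26986) (l := 7) rfl N26986 D92982
theorem N51076 : nd 51076 = n93010 := ndS (p := 26988) (l := 5) rfl N26988 D93010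
theorem N51077 : nd 51077 = n93011 := ndS (p := 26989) (l := 5) rfl N26989 D93011
theorem N51078 : nd 51078 = n93012 := ndS (p := 26989) (l := 6) rfl N26989 D93012
theorem N51079 : nd 51079 = n93013 := ndS (p := 26990) (l := 0) rfl N26990 D93013
theorem N51080 : nd 51080 = n93014 := ndS (p := 26990) (l := 1) rfl N26990 D93014
theorem N51081 : nd 51081 = n93015 := ndS (p := 26990) (l := 4) rfl N26990 D93015
theorem N51082 : nd 51082 = n93016 := ndS (p := 26990) (l := 6) rfl N26990 D93016
theorem N51083 : nd 51083 = n93017 := ndS (p := 26991) (l := 0) rfl N26991 D93017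
theorem N51084 : nd 51084 = n93018 := ndS (p := 26991) (l := 5) rfl N26991 D93018
theorem N51085 : nd 51085 = n93019 := ndS (p := 26992) (l := 3) rfl N26992 D93019
theorem N51086 : nd 51086 = n93020 := ndS (p := 26992) (l := 6) rfl N26992 D93020
theorem N51087 : nd 51087 = n93021 := ndS (p := 26993) (l := 0) rfl N26993 D93021
theorem N51088 : nd 51088 = n93022 := ndS (p := 26993) (l := 1) rfl N26993 D93022
theorem N51089 : nd 51089 = n93023 := ndS (p := 26993) (l := 5) rfl N26993 D93023
theorem N51090 : nd 51090 = n93024 := ndS (p := 26993) (l := 7) rfl N26993 D93024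
theorem N51091 : nd 51091 = n93025 := ndS (p := 26994) (l := 3) rfl N26994 D93025
theorem N51092 : nd 51092 = n93026 := ndS (p := 26995) (l := 4) rfl N26995 D93026
theorem N51093 : nd 51093 = n93027 := ndS (p := 26996) (l := 0) rfl N26996 D93027
theorem N51094 : nd 51094 = n93032 := ndS (p := 26998) (l := 3) rfl N26998 D93032
theorem N51095 : nd 51095 = n93039 := ndS (p := 27000) (l := 3) rfl N27000 D93039
theorem N51096 : nd 51096 = n93054 := ndS (p := 27003) (l := 3) rfl N27003 D93054
theorem N51097 : nd 51097 = n93058 := ndS (p := 27006) (l := 2) rfl N27006 D93058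
theorem N51098 : nd 51098 = n93060 := ndS (p := 27006) (l := 6) rfl N27006 D93060
theorem N51099 : nd 51099 = n93061 := ndS (p := 27007) (l := 6) rfl N27007 D93061
theorem N51100 : nd 51100 = n93063 := ndS (p := 27009) (l := 3) rfl N27009 D93063
theorem N51101 : nd 51101 = n93064 := ndS (p := 27010) (l := 0) rfl N27010 D93064
theorem N51102 : nd 51102 = n93065 := ndS (p := 27010) (l := 1) rfl N27010 D93065
theorem N51103 : nd 51103 = n93066 := ndS (p := 27010) (l := 2) rfl N27010 D93066
theorem N51104 : nd 51104 = n93067 := ndS (p := 27010) (l := 5) rfl N27010 D93067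
theorem N51105 : nd 51105 = n93071 := ndS (p := 27011) (l := 6) rfl N27011 D93071
theorem N51106 : nd 51106 = n93074 := ndS (p := 27012) (l := 0) rfl N27012 D93074
theorem N51107 : nd 51107 = n93075 := ndS (p := 27012) (l := 1) rfl N27012 D93075
theorem N51108 : nd 51108 = n93076 := ndS (p := 27012) (l := 2) rfl N27012 D93076
theorem N51109 : nd 51109 = n93077 := ndS (p := 27012) (l := 4) rfl N27012 D93077
theorem N51110 : nd 51110 = n93078 := ndS (p := 27012) (l := 5) rfl N27012 D93078
theorem N51111 : nd 51111 = n93079 := ndS (p := 27012) (l := 6) rfl N27012 D93079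
theorem N51112 : nd 51112 = n93080 := ndS (p := 27013) (l := 6) rfl N27013 D93080
theorem N51113 : nd 51113 = n93084 := ndS (p := 27015) (l := 3) rfl N27015 D93084
theorem N51114 : nd 51114 = n93089 := ndS (p := 27016) (l := 3) rfl N27016 D93089
theorem N51115 : nd 51115 = n93098 := ndS (p := 27017) (l := 4) rfl N27017 D93098
theorem N51116 : nd 51116 = n93099 := ndS (p := 27017) (l := 6) rfl N27017 D93099
theorem N51117 : nd 51117 = n93103 := ndS (p := 27018) (l := 3) rfl N27018 D93103
theorem N51118 : nd 51118 = n93104 := ndS (p := 27018) (l := 6) rfl N27018 D93104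
theorem N51119 : nd 51119 = n93105 := ndS (p := 27019) (l := 3) rfl N27019 D93105
theorem N51120 : nd 51120 = n93106 := ndS (p := 27019) (l := 6) rfl N27019 D93106
theorem N51121 : nd 51121 = n93107 := ndS (p := 27020) (l := 0) rfl N27020 D93107
theorem N51122 : nd 51122 = n93108 := ndS (p := 27020) (l := 1) rfl N27020 D93108
theorem N51123 : nd 51123 = n93109 := ndS (p := 27020) (l := 7) rfl N27020 D93109
theorem N51124 : nd 51124 = n93110 := ndS (p := 27021) (l := 6) rfl N27021 D93110
theorem N51125 : nd 51125 = n93130 := ndS (p := 27023) (l := 6) rfl N27023 D93130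
theorem N51126 : nd 51126 = n93132 := ndS (p := 27024) (l := 3) rfl N27024 D93132
theorem N51127 : nd 51127 = n93136 := ndS (p := 27025) (l := 5) rfl N27025 D93136
theorem N51128 : nd 51128 = n93138 := ndS (p := 27026) (l := 0) rfl N27026 D93138
theorem N51129 : nd 51129 = n93139 := ndS (p := 27026) (l := 1) rfl N27026 D93139
theorem N51130 : nd 51130 = n93140 := ndS (p := 27026) (l := 4) rfl N27026 D93140
theorem N51131 : nd 51131 = n93146 := ndS (p := 27027) (l := 0) rfl N27027 D93146
theorem N51132 : nd 51132 = n93147 := ndS (p := 27027) (l := 1) rfl N27027 D93147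
theorem N51133 : nd 51133 = n93149 := ndS (p := 27027) (l := 7) rfl N27027 D93149
theorem N51134 : nd 51134 = n93198 := ndS (p := 27028) (l := 4) rfl N27028 D93198
theorem N51135 : nd 51135 = n93200 := ndS (p := 27028) (l := 6) rfl N27028 D93200
theorem N51136 : nd 51136 = n93202 := ndS (p := 27029) (l := 3) rfl N27029 D93202
theorem N51137 : nd 51137 = n93203 := ndS (p := 27029) (l := 4) rfl N27029 D93203
theorem N51138 : nd 51138 = n93206 := ndS (p := 27030) (l := 4) rfl N27030 D93206
theorem N51139 : nd 51139 = n93207 := ndS (p := 27030) (l := 5) rfl N27030 D93207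
theorem N51140 : nd 51140 = n93208 := ndS (p := 27030) (l := 6) rfl N27030 D93208
theorem N51141 : nd 51141 = n93209 := ndS (p := 27031) (l := 1) rfl N27031 D93209
theorem N51142 : nd 51142 = n93210 := ndS (p := 27031) (l := 5) rfl N27031 D93210
theorem N51143 : nd 51143 = n93212 := ndS (p := 27032) (l := 0) rfl N27032 D93212
theorem N51144 : nd 51144 = n93213 := ndS (p := 27032) (l := 1) rfl N27032 D93213
theorem N51145 : nd 51145 = n93214 := ndS (p := 27032) (l := 4) rfl N27032 D93214
theorem N51146 : nd 51146 = n93215 := ndS (p := 27032) (l := 6) rfl N27032 D93215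
theorem N51147 : nd 51147 = n93216 := ndS (p := 27033) (l := 0) rfl N27033 D93216
theorem N51148 : nd 51148 = n93217 := ndS (p := 27033) (l := 1) rfl N27033 D93217
theorem N51149 : nd 51149 = n93218 := ndS (p := 27033) (l := 5) rfl N27033 D93218
theorem N51150 : nd 51150 = n93220 := ndS (p := 27034) (l := 0) rfl N27034 D93220
theorem N51151 : nd 51151 = n93221 := ndS (p := 27034) (l := 1) rfl N27034 D93221
theorem N51152 : nd 51152 = n93222 := ndS (p := 27034) (l := 5) rfl N27034 D93222
theorem N51153 : nd 51153 = n93223 := ndS (p := 27034) (l := 7) rfl N27034 D93223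
theorem N51154 : nd 51154 = n93229 := ndS (p := 27036) (l := 3) rfl N27036 D93229
theorem N51155 : nd 51155 = n93234 := ndS (p := 27037) (l := 3) rfl N27037 D93234
theorem N51156 : nd 51156 = n93238 := ndS (p := 27038) (l := 5) rfl N27038 D93238
theorem N51157 : nd 51157 = n93240 := ndS (p := 27039) (l := 0) rfl N27039 D93240
theorem N51158 : nd 51158 = n93241 := ndS (p := 27039) (l := 1) rfl N27039 D93241
theorem N51159 : nd 51159 = n93242 := ndS (p := 27039) (l := 4) rfl N27039 D93242
theorem N51160 : nd 51160 = n93257 := ndS (p := 27040) (l := 1) rfl N27040 D93257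
theorem N51161 : nd 51161 = n93258 := ndS (p := 27040) (l := 5) rfl N27040 D93258
theorem N51162 : nd 51162 = n93261 := ndS (p := 27041) (l := 4) rfl N27041 D93261
theorem N51163 : nd 51163 = n93262 := ndS (p := 27041) (l := 6) rfl N27041 D93262
theorem N51164 : nd 51164 = n93281 := ndS (p := 27042) (l := 3) rfl N27042 D93281
theorem N51165 : nd 51165 = n93282 := ndS (p := 27042) (l := 6) rfl N27042 D93282
theorem N51166 : nd 51166 = n93283 := ndS (p := 27043) (l := 0) rfl N27043 D93283
theorem N51167 : nd 51167 = n93284 := ndS (p := 27043) (l := 1) rfl N27043 D93284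
theorem N51168 : nd 51168 = n93285 := ndS (p := 27043) (l := 7) rfl N27043 D93285
theorem N51169 : nd 51169 = n93286 := ndS (p := 27044) (l := 0) rfl N27044 D93286
theorem N51170 : nd 51170 = n93287 := ndS (p := 27044) (l := 1) rfl N27044 D93287
theorem N51171 : nd 51171 = n93288 := ndS (p := 27044) (l := 2) rfl N27044 D93288
theorem N51172 : nd 51172 = n93289 := ndS (p := 27044) (l := 6) rfl N27044 D93289
theorem N51173 : nd 51173 = n93290 := ndS (p := 27045) (l := 0) rfl N27045 D93290
theorem N51174 : nd 51174 = n93291 := ndS (p := 27045) (l := 1) rfl N27045 D93291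
theorem N51175 : nd 51175 = n93293 := ndS (p := 27045) (l := 7) rfl N27045 D93293
theorem N51176 : nd 51176 = n93295 := ndS (p := 27046) (l := 3) rfl N27046 D93295
theorem N51177 : nd 51177 = n93296 := ndS (p := 27046) (l := 4) rfl N27046 D93296
theorem N51178 : nd 51178 = n93297 := ndS (p := 27046) (l := 5) rfl N27046 D93297
theorem N51179 : nd 51179 = n93298 := ndS (p := 27046) (l := 6) rfl N27046 D93298
theorem N51180 : nd 51180 = n93300 := ndS (p := 27047) (l := 3) rfl N27047 D93300
theorem N51181 : nd 51181 = n93301 := ndS (p := 27047) (l := 4) rfl N27047 D93301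
theorem N51182 : nd 51182 = n93302 := ndS (p := 27047) (l := 5) rfl N27047 D93302
theorem N51183 : nd 51183 = n93303 := ndS (p := 27047) (l := 6) rfl N27047 D93303
theorem N51184 : nd 51184 = n93304 := ndS (p := 27048) (l := 6) rfl N27048 D93304
theorem N51185 : nd 51185 = n93305 := ndS (p := 27049) (l := 0) rfl N27049 D93305
theorem N51186 : nd 51186 = n93306 := ndS (p := 27049) (l := 1) rfl N27049 D93306
theorem N51187 : nd 51187 = n93307 := ndS (p := 27049) (l := 5) rfl N27049 D93307
theorem N51188 : nd 51188 = n93314 := ndS (p := 27050) (l := 4) rfl N27050 D93314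
theorem N51189 : nd 51189 = n93320 := ndS (p := 27051) (l := 2) rfl N27051 D93320
theorem N51190 : nd 51190 = n93321 := ndS (p := 27051) (l := 5) rfl N27051 D93321
theorem N51191 : nd 51191 = n93322 := ndS (p := 27052) (l := 4) rfl N27052 D93322
theorem N51192 : nd 51192 = n93323 := ndS (p := 27052) (l := 6) rfl N27052 D93323
theorem N51193 : nd 51193 = n93326 := ndS (p := 27053) (l := 0) rfl N27053 D93326
theorem N51194 : nd 51194 = n93328 := ndS (p := 27053) (l := 5) rfl N27053 D93328
theorem N51195 : nd 51195 = n93330 := ndS (p := 27054) (l := 4) rfl N27054 D93330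
theorem N51196 : nd 51196 = n93331 := ndS (p := 27054) (l := 6) rfl N27054 D93331
theorem N51197 : nd 51197 = n93335 := ndS (p := 27055) (l := 0) rfl N27055 D93335
theorem N51198 : nd 51198 = n93336 := ndS (p := 27055) (l := 1) rfl N27055 D93336
theorem N51199 : nd 51199 = n93337 := ndS (p := 27055) (l := 2) rfl N27055 D93337
theorem N51200 : nd 51200 = n93338 := ndS (p := 27055) (l := 5) rfl N27055 D93338
theorem N51201 : nd 51201 = n93340 := ndS (p := 27056) (l := 4) rfl N27056 D93340
theorem N51202 : nd 51202 = n93341 := ndS (p := 27056) (l := 6) rfl N27056 D93341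
theorem N51203 : nd 51203 = n93342 := ndS (p := 27057) (l := 3) rfl N27057 D93342
theorem N51204 : nd 51204 = n93344 := ndS (p := 27057) (l := 6) rfl N27057 D93344
theorem N51205 : nd 51205 = n93345 := ndS (p := 27058) (l := 3) rfl N27058 D93345
theorem N51206 : nd 51206 = n93347 := ndS (p := 27058) (l := 6) rfl N27058 D93347
theorem N51207 : nd 51207 = n93348 := ndS (p := 27059) (l := 0) rfl N27059 D93348
theorem N51208 : nd 51208 = n93349 := ndS (p := 27059) (l := 1) rfl N27059 D93349
theorem N51209 : nd 51209 = n93351 := ndS (p := 27059) (l := 5) rfl N27059 D93351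
theorem N51210 : nd 51210 = n93352 := ndS (p := 27059) (l := 6) rfl N27059 D93352
theorem N51211 : nd 51211 = n93353 := ndS (p := 27060) (l := 0) rfl N27060 D93353
theorem N51212 : nd 51212 = n93354 := ndS (p := 27060) (l := 1) rfl N27060 D93354
theorem N51213 : nd 51213 = n93356 := ndS (p := 27060) (l := 7) rfl N27060 D93356
theorem N51214 : nd 51214 = n93434 := ndS (p := 27061) (l := 3) rfl N27061 D93434
theorem N51215 : nd 51215 = n93435 := ndS (p := 27061) (l := 4) rfl N27061 D93435
theorem N51216 : nd 51216 = n93437 := ndS (p := 27062) (l := 4) rfl N27062 D93437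
theorem N51217 : nd 51217 = n93439 := ndS (p := 27063) (l := 0) rfl N27063 D93439
theorem N51218 : nd 51218 = n93440 := ndS (p := 27063) (l := 1) rfl N27063 D93440
theorem N51219 : nd 51219 = n93443 := ndS (p := 27063) (l := 6) rfl N27063 D93443
theorem N51220 : nd 51220 = n93444 := ndS (p := 27064) (l := 0) rfl N27064 D93444
theorem N51221 : nd 51221 = n93445 := ndS (p := 27064) (l := 1) rfl N27064 D93445
theorem N51222 : nd 51222 = n93446 := ndS (p := 27064) (l := 5) rfl N27064 D93446
theorem N51223 : nd 51223 = n93447 := ndS (p := 27064) (l := 7) rfl N27064 D93447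
theorem N51224 : nd 51224 = n93448 := ndS (p := 27065) (l := 4) rfl N27065 D93448
theorem N51225 : nd 51225 = n93521 := ndS (p := 27067) (l := 3) rfl N27067 D93521
theorem N51226 : nd 51226 = n93527 := ndS (p := 27068) (l := 4) rfl N27068 D93527
theorem N51227 : nd 51227 = n93528 := ndS (p := 27068) (l := 6) rfl N27068 D93528
theorem N51228 : nd 51228 = n93757 := ndS (p := 27071) (l := 4) rfl N27071 D93757
theorem N51229 : nd 51229 = n93761 := ndS (p := 27072) (l := 3) rfl N27072 D93761
theorem N51230 : nd 51230 = n93762 := ndS (p := 27072) (l := 4) rfl N27072 D93762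
theorem N51231 : nd 51231 = n93765 := ndS (p := 27073) (l := 5) rfl N27073 D93765
theorem N51232 : nd 51232 = n93768 := ndS (p := 27074) (l := 4) rfl N27074 D93768
theorem N51233 : nd 51233 = n93770 := ndS (p := 27075) (l := 0) rfl N27075 D93770
theorem N51234 : nd 51234 = n93771 := ndS (p := 27075) (l := 1) rfl N27075 D93771
theorem N51235 : nd 51235 = n93772 := ndS (p := 27075) (l := 7) rfl N27075 D93772
theorem N51236 : nd 51236 = n93773 := ndS (p := 27076) (l := 6) rfl N27076 D93773
theorem N51237 : nd 51237 = n93774 := ndS (p := 27077) (l := 6) rfl N27077 D93774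
theorem N51238 : nd 51238 = n93777 := ndS (p := 27078) (l := 5) rfl N27078 D93777
theorem N51239 : nd 51239 = n93779 := ndS (p := 27079) (l := 0) rfl N27079 D93779
theorem N51240 : nd 51240 = n93780 := ndS (p := 27079) (l := 5) rfl N27079 D93780
theorem N51241 : nd 51241 = n93781 := ndS (p := 27079) (l := 7) rfl N27079 D93781
theorem N51242 : nd 51242 = n93783 := ndS (p := 27080) (l := 3) rfl N27080 D93783
theorem N51243 : nd 51243 = n93784 := ndS (p := 27080) (l := 4) rfl N27080 D93784
theorem N51244 : nd 51244 = n93785 := ndS (p := 27080) (l := 5) rfl N27080 D93785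
theorem N51245 : nd 51245 = n93786 := ndS (p := 27080) (l := 6) rfl N27080 D93786
theorem N51246 : nd 51246 = n93788 := ndS (p := 27081) (l := 3) rfl N27081 D93788
theorem N51247 : nd 51247 = n93789 := ndS (p := 27081) (l := 4) rfl N27081 D93789
theorem N51248 : nd 51248 = n93790 := ndS (p := 27081) (l := 5) rfl N27081 D93790
theorem N51249 : nd 51249 = n93791 := ndS (p := 27081) (l := 6) rfl N27081 D93791
theorem N51250 : nd 51250 = n93792 := ndS (p := 27082) (l := 0) rfl N27082 D93792
theorem N51251 : nd 51251 = n93793 := ndS (p := 27082) (l := 1) rfl N27082 D93793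
theorem N51252 : nd 51252 = n93794 := ndS (p := 27082) (l := 4) rfl N27082 D93794
theorem N51253 : nd 51253 = n93795 := ndS (p := 27082) (l := 7) rfl N27082 D93795
theorem N51254 : nd 51254 = n93796 := ndS (p := 27084) (l := 4) rfl N27084 D93796
theorem N51255 : nd 51255 = n93797 := ndS (p := 27084) (l := 7) rfl N27084 D93797
theorem N51256 : nd 51256 = n93801 := ndS (p := 27086) (l := 5) rfl N27086 D93801
theorem N51257 : nd 51257 = n93803 := ndS (p := 27087) (l := 4) rfl N27087 D93803
theorem N51258 : nd 51258 = n93805 := ndS (p := 27088) (l := 1) rfl N27088 D93805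
theorem N51259 : nd 51259 = n93807 := ndS (p := 27088) (l := 5) rfl N27088 D93807
theorem N51260 : nd 51260 = n93808 := ndS (p := 27088) (l := 6) rfl N27088 D93808
theorem N51261 : nd 51261 = n93809 := ndS (p := 27089) (l := 4) rfl N27089 D93809
theorem N51262 : nd 51262 = n93810 := ndS (p := 27089) (l := 6) rfl N27089 D93810
theorem N51263 : nd 51263 = n93811 := ndS (p := 27091) (l := 3) rfl N27091 D93811
theorem N51264 : nd 51264 = n93812 := ndS (p := 27091) (l := 4) rfl N27091 D93812
theorem N51265 : nd 51265 = n93813 := ndS (p := 27091) (l := 6) rfl N27091 D93813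
theorem N51266 : nd 51266 = n93814 := ndS (p := 27092) (l := 0) rfl N27092 D93814
theorem N51267 : nd 51267 = n93815 := ndS (p := 27092) (l := 3) rfl N27092 D93815
theorem N51268 : nd 51268 = n93816 := ndS (p := 27093) (l := 6) rfl N27093 D93816
theorem N51269 : nd 51269 = n93817 := ndS (p := 27094) (l := 5) rfl N27094 D93817
theorem N51270 : nd 51270 = n93818 := ndS (p := 27095) (l := 1) rfl N27095 D93818
theorem N51271 : nd 51271 = n93819 := ndS (p := 27095) (l := 4) rfl N27095 D93819
theorem N51272 : nd 51272 = n93820 := ndS (p := 27095) (l := 6) rfl N27095 D93820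
theorem N51273 : nd 51273 = n93825 := ndS (p := 27097) (l := 5) rfl N27097 D93825
theorem N51274 : nd 51274 = n93826 := ndS (p := 27097) (l := 6) rfl N27097 D93826
theorem N51275 : nd 51275 = n93827 := ndS (p := 27098) (l := 4) rfl N27098 D93827
theorem N51276 : nd 51276 = n93828 := ndS (p := 27098) (l := 6) rfl N27098 D93828
theorem N51277 : nd 51277 = n93829 := ndS (p := 27100) (l := 5) rfl N27100 D93829
theorem N51278 : nd 51278 = n93830 := ndS (p := 27100) (l := 6) rfl N27100 D93830
theorem N51279 : nd 51279 = n93834 := ndS (p := 27102) (l := 6) rfl N27102 D93834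
theorem N51280 : nd 51280 = n93840 := ndS (p := 27105) (l := 4) rfl N27105 D93840
theorem N51281 : nd 51281 = n93841 := ndS (p := 27105) (l := 5) rfl N27105 D93841
theorem N51282 : nd 51282 = n93842 := ndS (p := 27105) (l := 6) rfl N27105 D93842
theorem N51283 : nd 51283 = n93844 := ndS (p := 27106) (l := 3) rfl N27106 D93844
theorem N51284 : nd 51284 = n93845 := ndS (p := 27106) (l := 4) rfl N27106 D93845
theorem N51285 : nd 51285 = n93846 := ndS (p := 27106) (l := 5) rfl N27106 D93846
theorem N51286 : nd 51286 = n93847 := ndS (p := 27106) (l := 6) rfl N27106 D93847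
theorem N51287 : nd 51287 = n93848 := ndS (p := 27108) (l := 3) rfl N27108 D93848
theorem N51288 : nd 51288 = n93849 := ndS (p := 27108) (l := 6) rfl N27108 D93849
theorem N51289 : nd 51289 = n93850 := ndS (p := 27109) (l := 3) rfl N27109 D93850
theorem N51290 : nd 51290 = n93851 := ndS (p := 27110) (l := 6) rfl N27110 D93851
theorem N51291 : nd 51291 = n93853 := ndS (p := 27111) (l := 3) rfl N27111 D93853
theorem N51292 : nd 51292 = n93854 := ndS (p := 27111) (l := 5) rfl N27111 D93854
theorem N51293 : nd 51293 = n93855 := ndS (p := 27111) (l := 6) rfl N27111 D93855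
theorem N51294 : nd 51294 = n93857 := ndS (p := 27112) (l := 5) rfl N27112 D93857
theorem N51295 : nd 51295 = n93858 := ndS (p := 27112) (l := 6) rfl N27112 D93858
theorem N51296 : nd 51296 = n93859 := ndS (p := 27113) (l := 0) rfl N27113 D93859
theorem N51297 : nd 51297 = n93861 := ndS (p := 27113) (l := 7) rfl N27113 D93861
theorem N51298 : nd 51298 = n93863 := ndS (p := 27115) (l := 3) rfl N27115 D93863
theorem N51299 : nd 51299 = n93864 := ndS (p := 27115) (l := 6) rfl N27115 D93864
theorem N51300 : nd 51300 = n93865 := ndS (p := 27116) (l := 3) rfl N27116 D93865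
theorem N51301 : nd 51301 = n93867 := ndS (p := 27116) (l := 7) rfl N27116 D93867
theorem N51302 : nd 51302 = n93868 := ndS (p := 27117) (l := 6) rfl N27117 D93868
theorem N51303 : nd 51303 = n93869 := ndS (p := 27118) (l := 5) rfl N27118 D93869
theorem N51304 : nd 51304 = n93870 := ndS (p := 27119) (l := 5) rfl N27119 D93870
theorem N51305 : nd 51305 = n93872 := ndS (p := 27120) (l := 7) rfl N27120 D93872
theorem N51306 : nd 51306 = n93873 := ndS (p := 27122) (l := 5) rfl N27122 D93873
theorem N51307 : nd 51307 = n93874 := ndS (p := 27123) (l := 0) rfl N27123 D93874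
theorem N51308 : nd 51308 = n93875 := ndS (p := 27123) (l := 1) rfl N27123 D93875
theorem N51309 : nd 51309 = n93876 := ndS (p := 27123) (l := 4) rfl N27123 D93876
theorem N51310 : nd 51310 = n93877 := ndS (p := 27123) (l := 6) rfl N27123 D93877
theorem N51311 : nd 51311 = n93878 := ndS (p := 27125) (l := 4) rfl N27125 D93878
theorem N51312 : nd 51312 = n93879 := ndS (p := 27125) (l := 6) rfl N27125 D93879
theorem N51313 : nd 51313 = n93880 := ndS (p := 27126) (l := 4) rfl N27126 D93880
theorem N51314 : nd 51314 = n93881 := ndS (p := 27126) (l := 6) rfl N27126 D93881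
theorem N51315 : nd 51315 = n93882 := ndS (p := 27127) (l := 4) rfl N27127 D93882
theorem N51316 : nd 51316 = n93883 := ndS (p := 27127) (l := 6) rfl N27127 D93883
theorem N51317 : nd 51317 = n93884 := ndS (p := 27128) (l := 0) rfl N27128 D93884
theorem N51318 : nd 51318 = n93885 := ndS (p := 27128) (l := 1) rfl N27128 D93885
theorem N51319 : nd 51319 = n93886 := ndS (p := 27128) (l := 3) rfl N27128 D93886
theorem N51320 : nd 51320 = n93887 := ndS (p := 27128) (l := 5) rfl N27128 D93887
theorem N51321 : nd 51321 = n93888 := ndS (p := 27128) (l := 7) rfl N27128 D93888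
theorem N51322 : nd 51322 = n93889 := ndS (p := 27129) (l := 6) rfl N27129 D93889
theorem N51323 : nd 51323 = n93892 := ndS (p := 27130) (l := 4) rfl N27130 D93892
theorem N51324 : nd 51324 = n93893 := ndS (p := 27130) (l := 5) rfl N27130 D93893
theorem N51325 : nd 51325 = n93900 := ndS (p := 27131) (l := 5) rfl N27131 D93900
theorem N51326 : nd 51326 = n93901 := ndS (p := 27131) (l := 6) rfl N27131 D93901
theorem N51327 : nd 51327 = n93903 := ndS (p := 27132) (l := 0) rfl N27132 D93903
theorem N51328 : nd 51328 = n93904 := ndS (p := 27132) (l := 1) rfl N27132 D93904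
theorem N51329 : nd 51329 = n93905 := ndS (p := 27132) (l := 4) rfl N27132 D93905
theorem N51330 : nd 51330 = n93906 := ndS (p := 27132) (l := 6) rfl N27132 D93906
theorem N51331 : nd 51331 = n93907 := ndS (p := 27133) (l := 0) rfl N27133 D93907
theorem N51332 : nd 51332 = n93908 := ndS (p := 27133) (l := 1) rfl N27133 D93908
theorem N51333 : nd 51333 = n93909 := ndS (p := 27134) (l := 3) rfl N27134 D93909
theorem N51334 : nd 51334 = n93910 := ndS (p := 27134) (l := 4) rfl N27134 D93910
theorem N51335 : nd 51335 = n93911 := ndS (p := 27134) (l := 6) rfl N27134 D93911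
theorem N51336 : nd 51336 = n93914 := ndS (p := 27135) (l := 0) rfl N27135 D93914
theorem N51337 : nd 51337 = n93915 := ndS (p := 27135) (l := 1) rfl N27135 D93915
theorem N51338 : nd 51338 = n93916 := ndS (p := 27135) (l := 3) rfl N27135 D93916
theorem N51339 : nd 51339 = n93917 := ndS (p := 27135) (l := 6) rfl N27135 D93917
theorem N51340 : nd 51340 = n93918 := ndS (p := 27136) (l := 0) rfl N27136 D93918
theorem N51341 : nd 51341 = n93919 := ndS (p := 27136) (l := 1) rfl N27136 D93919
theorem N51342 : nd 51342 = n93920 := ndS (p := 27136) (l := 7) rfl N27136 D93920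
theorem N51343 : nd 51343 = n93927 := ndS (p := 27137) (l := 5) rfl N27137 D93927
theorem N51344 : nd 51344 = n93929 := ndS (p := 27138) (l := 4) rfl N27138 D93929
theorem N51345 : nd 51345 = n93930 := ndS (p := 27138) (l := 5) rfl N27138 D93930
theorem N51346 : nd 51346 = n93931 := ndS (p := 27138) (l := 6) rfl N27138 D93931
theorem N51347 : nd 51347 = n93933 := ndS (p := 27139) (l := 1) rfl N27139 D93933
theorem N51348 : nd 51348 = n93934 := ndS (p := 27139) (l := 5) rfl N27139 D93934
theorem N51349 : nd 51349 = n93935 := ndS (p := 27140) (l := 0) rfl N27140 D93935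
theorem N51350 : nd 51350 = n93936 := ndS (p := 27140) (l := 1) rfl N27140 D93936
theorem N51351 : nd 51351 = n93937 := ndS (p := 27140) (l := 4) rfl N27140 D93937
theorem N51352 : nd 51352 = n93938 := ndS (p := 27140) (l := 6) rfl N27140 D93938
theorem N51353 : nd 51353 = n93939 := ndS (p := 27141) (l := 0) rfl N27141 D93939
theorem N51354 : nd 51354 = n93941 := ndS (p := 27141) (l := 5) rfl N27141 D93941
theorem N51355 : nd 51355 = n93942 := ndS (p := 27141) (l := 7) rfl N27141 D93942
theorem N51356 : nd 51356 = n93943 := ndS (p := 27142) (l := 3) rfl N27142 D93943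
theorem N51357 : nd 51357 = n93944 := ndS (p := 27142) (l := 6) rfl N27142 D93944
theorem N51358 : nd 51358 = n93945 := ndS (p := 27143) (l := 0) rfl N27143 D93945
theorem N51359 : nd 51359 = n93946 := ndS (p := 27143) (l := 1) rfl N27143 D93946
theorem N51360 : nd 51360 = n93947 := ndS (p := 27143) (l := 5) rfl N27143 D93947
theorem N51361 : nd 51361 = n93948 := ndS (p := 27143) (l := 7) rfl N27143 D93948
theorem N51362 : nd 51362 = n93949 := ndS (p := 27145) (l := 4) rfl N27145 D93949
theorem N51363 : nd 51363 = n93952 := ndS (p := 27147) (l := 2) rfl N27147 D93952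
theorem N51364 : nd 51364 = n93953 := ndS (p := 27147) (l := 4) rfl N27147 D93953
theorem N51365 : nd 51365 = n93954 := ndS (p := 27147) (l := 6) rfl N27147 D93954
theorem N51366 : nd 51366 = n93955 := ndS (p := 27148) (l := 0) rfl N27148 D93955
theorem N51367 : nd 51367 = n93956 := ndS (p := 27148) (l := 3) rfl N27148 D93956
theorem N51368 : nd 51368 = n93957 := ndS (p := 27148) (l := 6) rfl N27148 D93957
theorem N51369 : nd 51369 = n93958 := ndS (p := 27149) (l := 0) rfl N27149 D93958
theorem N51370 : nd 51370 = n93959 := ndS (p := 27149) (l := 1) rfl N27149 D93959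
theorem N51371 : nd 51371 = n93960 := ndS (p := 27149) (l := 5) rfl N27149 D93960
theorem N51372 : nd 51372 = n93961 := ndS (p := 27149) (l := 7) rfl N27149 D93961
theorem N51373 : nd 51373 = n93964 := ndS (p := 27150) (l := 2) rfl N27150 D93964
theorem N51374 : nd 51374 = n93965 := ndS (p := 27150) (l := 4) rfl N27150 D93965
theorem N51375 : nd 51375 = n93966 := ndS (p := 27150) (l := 6) rfl N27150 D93966
theorem N51376 : nd 51376 = n93967 := ndS (p := 27151) (l := 3) rfl N27151 D93967
theorem N51377 : nd 51377 = n93968 := ndS (p := 27151) (l := 6) rfl N27151 D93968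
theorem N51378 : nd 51378 = n93969 := ndS (p := 27152) (l := 0) rfl N27152 D93969
theorem N51379 : nd 51379 = n93970 := ndS (p := 27152) (l := 1) rfl N27152 D93970
theorem N51380 : nd 51380 = n93971 := ndS (p := 27152) (l := 7) rfl N27152 D93971
theorem N51381 : nd 51381 = n93972 := ndS (p := 27153) (l := 3) rfl N27153 D93972
theorem N51382 : nd 51382 = n93973 := ndS (p := 27153) (l := 6) rfl N27153 D93973
theorem N51383 : nd 51383 = n93974 := ndS (p := 27154) (l := 3) rfl N27154 D93974
theorem N51384 : nd 51384 = n93975 := ndS (p := 27154) (l := 6) rfl N27154 D93975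
theorem N51385 : nd 51385 = n93976 := ndS (p := 27155) (l := 0) rfl N27155 D93976
theorem N51386 : nd 51386 = n93977 := ndS (p := 27155) (l := 1) rfl N27155 D93977
theorem N51387 : nd 51387 = n93978 := ndS (p := 27155) (l := 2) rfl N27155 D93978
theorem N51388 : nd 51388 = n93979 := ndS (p := 27155) (l := 5) rfl N27155 D93979
theorem N51389 : nd 51389 = n93980 := ndS (p := 27155) (l := 7) rfl N27155 D93980
theorem N51390 : nd 51390 = n93981 := ndS (p := 27156) (l := 6) rfl N27156 D93981
theorem N51391 : nd 51391 = n93982 := ndS (p := 27157) (l := 6) rfl N27157 D93982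
theorem N51392 : nd 51392 = n93983 := ndS (p := 27158) (l := 0) rfl N27158 D93983
theorem N51393 : nd 51393 = n93984 := ndS (p := 27158) (l := 1) rfl N27158 D93984
theorem N51394 : nd 51394 = n93985 := ndS (p := 27160) (l := 0) rfl N27160 D93985
theorem N51395 : nd 51395 = n93991 := ndS (p := 27161) (l := 4) rfl N27161 D93991
theorem N51396 : nd 51396 = n93994 := ndS (p := 27162) (l := 0) rfl N27162 D93994
theorem N51397 : nd 51397 = n93995 := ndS (p := 27162) (l := 1) rfl N27162 D93995
theorem N51398 : nd 51398 = n93997 := ndS (p := 27162) (l := 5) rfl N27162 D93997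
theorem N51399 : nd 51399 = n93998 := ndS (p := 27163) (l := 4) rfl N27163 D93998
theorem N51400 : nd 51400 = n93999 := ndS (p := 27163) (l := 6) rfl N27163 D93999
theorem N51401 : nd 51401 = n94002 := ndS (p := 27164) (l := 5) rfl N27164 D94002
theorem N51402 : nd 51402 = n94009 := ndS (p := 27165) (l := 5) rfl N27165 D94009
theorem N51403 : nd 51403 = n94011 := ndS (p := 27166) (l := 0) rfl N27166 D94011
theorem N51404 : nd 51404 = n94012 := ndS (p := 27166) (l := 1) rfl N27166 D94012
theorem N51405 : nd 51405 = n94013 := ndS (p := 27166) (l := 4) rfl N27166 D94013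
theorem N51406 : nd 51406 = n94014 := ndS (p := 27166) (l := 6) rfl N27166 D94014
theorem N51407 : nd 51407 = n94015 := ndS (p := 27167) (l := 0) rfl N27167 D94015
theorem N51408 : nd 51408 = n94016 := ndS (p := 27167) (l := 1) rfl N27167 D94016
theorem N51409 : nd 51409 = n94017 := ndS (p := 27167) (l := 5) rfl N27167 D94017
theorem N51410 : nd 51410 = n94018 := ndS (p := 27168) (l := 3) rfl N27168 D94018
theorem N51411 : nd 51411 = n94019 := ndS (p := 27168) (l := 4) rfl N27168 D94019
theorem N51412 : nd 51412 = n94020 := ndS (p := 27168) (l := 6) rfl N27168 D94020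
theorem N51413 : nd 51413 = n94022 := ndS (p := 27169) (l := 4) rfl N27169 D94022
theorem N51414 : nd 51414 = n94023 := ndS (p := 27169) (l := 6) rfl N27169 D94023
theorem N51415 : nd 51415 = n94024 := ndS (p := 27170) (l := 3) rfl N27170 D94024
theorem N51416 : nd 51416 = n94025 := ndS (p := 27170) (l := 6) rfl N27170 D94025
theorem N51417 : nd 51417 = n94026 := ndS (p := 27171) (l := 0) rfl N27171 D94026
theorem N51418 : nd 51418 = n94027 := ndS (p := 27171) (l := 1) rfl N27171 D94027
theorem N51419 : nd 51419 = n94028 := ndS (p := 27171) (l := 5) rfl N27171 D94028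
theorem N51420 : nd 51420 = n94029 := ndS (p := 27171) (l := 7) rfl N27171 D94029
theorem N51421 : nd 51421 = n94032 := ndS (p := 27174) (l := 3) rfl N27174 D94032
theorem N51422 : nd 51422 = n94033 := ndS (p := 27175) (l := 0) rfl N27175 D94033
theorem N51423 : nd 51423 = n94035 := ndS (p := 27175) (l := 2) rfl N27175 D94035
theorem N51424 : nd 51424 = n94036 := ndS (p := 27175) (l := 5) rfl N27175 D94036
theorem N51425 : nd 51425 = n94038 := ndS (p := 27176) (l := 6) rfl N27176 D94038
theorem N51426 : nd 51426 = n94041 := ndS (p := 27178) (l := 5) rfl N27178 D94041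
theorem N51427 : nd 51427 = n94042 := ndS (p := 27178) (l := 6) rfl N27178 D94042
theorem N51428 : nd 51428 = n94043 := ndS (p := 27179) (l := 0) rfl N27179 D94043
theorem N51429 : nd 51429 = n94045 := ndS (p := 27179) (l := 4) rfl N27179 D94045
theorem N51430 : nd 51430 = n94046 := ndS (p := 27179) (l := 6) rfl N27179 D94046
theorem N51431 : nd 51431 = n94047 := ndS (p := 27180) (l := 0) rfl N27180 D94047
theorem N51432 : nd 51432 = n94049 := ndS (p := 27180) (l := 7) rfl N27180 D94049
theorem N51433 : nd 51433 = n94050 := ndS (p := 27181) (l := 3) rfl N27181 D94050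
theorem N51434 : nd 51434 = n94051 := ndS (p := 27181) (l := 6) rfl N27181 D94051
theorem N51435 : nd 51435 = n94052 := ndS (p := 27182) (l := 0) rfl N27182 D94052
theorem N51436 : nd 51436 = n94053 := ndS (p := 27182) (l := 1) rfl N27182 D94053
theorem N51437 : nd 51437 = n94054 := ndS (p := 27182) (l := 5) rfl N27182 D94054
theorem N51438 : nd 51438 = n94055 := ndS (p := 27182) (l := 7) rfl N27182 D94055
theorem N51439 : nd 51439 = n94056 := ndS (p := 27183) (l := 3) rfl N27183 D94056
theorem N51440 : nd 51440 = n94057 := ndS (p := 27184) (l := 4) rfl N27184 D94057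
theorem N51441 : nd 51441 = n94058 := ndS (p := 27186) (l := 0) rfl N27186 D94058
theorem N51442 : nd 51442 = n94059 := ndS (p := 27186) (l := 2) rfl N27186 D94059
theorem N51443 : nd 51443 = n94060 := ndS (p := 27186) (l := 5) rfl N27186 D94060
theorem N51444 : nd 51444 = n94061 := ndS (p := 27187) (l := 6) rfl N27187 D94061
theorem N51445 : nd 51445 = n94097 := ndS (p := 27188) (l := 5) rfl N27188 D94097
theorem N51446 : nd 51446 = n94098 := ndS (p := 27189) (l := 6) rfl N27189 D94098
theorem N51447 : nd 51447 = n94100 := ndS (p := 27190) (l := 6) rfl N27190 D94100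
theorem N51448 : nd 51448 = n94101 := ndS (p := 27191) (l := 4) rfl N27191 D94101
theorem N51449 : nd 51449 = n94102 := ndS (p := 27191) (l := 6) rfl N27191 D94102
theorem N51450 : nd 51450 = n94104 := ndS (p := 27193) (l := 0) rfl N27193 D94104
theorem N51451 : nd 51451 = n94105 := ndS (p := 27193) (l := 2) rfl N27193 D94105
theorem N51452 : nd 51452 = n94109 := ndS (p := 27194) (l := 3) rfl N27194 D94109
theorem N51453 : nd 51453 = n94110 := ndS (p := 27194) (l := 4) rfl N27194 D94110
theorem N51454 : nd 51454 = n94111 := ndS (p := 27194) (l := 6) rfl N27194 D94111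
theorem N51455 : nd 51455 = n94112 := ndS (p := 27195) (l := 0) rfl N27195 D94112
theorem N51456 : nd 51456 = n94114 := ndS (p := 27195) (l := 6) rfl N27195 D94114
theorem N51457 : nd 51457 = n94115 := ndS (p := 27196) (l := 0) rfl N27196 D94115
theorem N51458 : nd 51458 = n94116 := ndS (p := 27196) (l := 1) rfl N27196 D94116
theorem N51459 : nd 51459 = n94117 := ndS (p := 27196) (l := 5) rfl N27196 D94117
theorem N51460 : nd 51460 = n94118 := ndS (p := 27196) (l := 7) rfl N27196 D94118
theorem N51461 : nd 51461 = n94119 := ndS (p := 27197) (l := 3) rfl N27197 D94119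
theorem N51462 : nd 51462 = n94120 := ndS (p := 27198) (l := 4) rfl N27198 D94120
theorem N51463 : nd 51463 = n94121 := ndS (p := 27200) (l := 3) rfl N27200 D94121
theorem N51464 : nd 51464 = n94122 := ndS (p := 27200) (l := 5) rfl N27200 D94122
theorem N51465 : nd 51465 = n94123 := ndS (p := 27201) (l := 3) rfl N27201 D94123
theorem N51466 : nd 51466 = n94124 := ndS (p := 27201) (l := 5) rfl N27201 D94124
theorem N51467 : nd 51467 = n94126 := ndS (p := 27204) (l := 6) rfl N27204 D94126
theorem N51468 : nd 51468 = n94131 := ndS (p := 27206) (l := 3) rfl N27206 D94131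
theorem N51469 : nd 51469 = n94132 := ndS (p := 27206) (l := 4) rfl N27206 D94132
theorem N51470 : nd 51470 = n94133 := ndS (p := 27206) (l := 5) rfl N27206 D94133
theorem N51471 : nd 51471 = n94134 := ndS (p := 27206) (l := 6) rfl N27206 D94134
theorem N51472 : nd 51472 = n94136 := ndS (p := 27207) (l := 3) rfl N27207 D94136
theorem N51473 : nd 51473 = n94137 := ndS (p := 27207) (l := 4) rfl N27207 D94137
theorem N51474 : nd 51474 = n94138 := ndS (p := 27207) (l := 5) rfl N27207 D94138
theorem N51475 : nd 51475 = n94139 := ndS (p := 27207) (l := 6) rfl N27207 D94139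
theorem N51476 : nd 51476 = n94140 := ndS (p := 27208) (l := 0) rfl N27208 D94140
theorem N51477 : nd 51477 = n94141 := ndS (p := 27208) (l := 1) rfl N27208 D94141
theorem N51478 : nd 51478 = n94142 := ndS (p := 27208) (l := 4) rfl N27208 D94142
theorem N51479 : nd 51479 = n94218 := ndS (p := 27209) (l := 6) rfl N27209 D94218
theorem N51480 : nd 51480 = n94221 := ndS (p := 27210) (l := 5) rfl N27210 D94221
theorem N51481 : nd 51481 = n94223 := ndS (p := 27211) (l := 6) rfl N27211 D94223
theorem N51482 : nd 51482 = n94226 := ndS (p := 27212) (l := 5) rfl N27212 D94226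
theorem N51483 : nd 51483 = n94228 := ndS (p := 27213) (l := 0) rfl N27213 D94228
theorem N51484 : nd 51484 = n94229 := ndS (p := 27213) (l := 1) rfl N27213 D94229
theorem N51485 : nd 51485 = n94230 := ndS (p := 27213) (l := 7) rfl N27213 D94230
theorem N51486 : nd 51486 = n94232 := ndS (p := 27214) (l := 4) rfl N27214 D94232
theorem N51487 : nd 51487 = n94234 := ndS (p := 27214) (l := 6) rfl N27214 D94234
theorem N51488 : nd 51488 = n94236 := ndS (p := 27215) (l := 3) rfl N27215 D94236
theorem N51489 : nd 51489 = n94238 := ndS (p := 27215) (l := 6) rfl N27215 D94238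
theorem N51490 : nd 51490 = n94240 := ndS (p := 27216) (l := 4) rfl N27216 D94240
theorem N51491 : nd 51491 = n94241 := ndS (p := 27216) (l := 7) rfl N27216 D94241
theorem N51492 : nd 51492 = n94242 := ndS (p := 27218) (l := 3) rfl N27218 D94242
theorem N51493 : nd 51493 = n94243 := ndS (p := 27218) (l := 6) rfl N27218 D94243
theorem N51494 : nd 51494 = n94244 := ndS (p := 27219) (l := 6) rfl N27219 D94244
theorem N51495 : nd 51495 = n94245 := ndS (p := 27220) (l := 3) rfl N27220 D94245
theorem N51496 : nd 51496 = n94246 := ndS (p := 27220) (l := 5) rfl N27220 D94246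
theorem N51497 : nd 51497 = n94247 := ndS (p := 27220) (l := 7) rfl N27220 D94247
theorem N51498 : nd 51498 = n94248 := ndS (p := 27221) (l := 6) rfl N27221 D94248
theorem N51499 : nd 51499 = n94249 := ndS (p := 27222) (l := 6) rfl N27222 D94249
theorem N51500 : nd 51500 = n94257 := ndS (p := 27225) (l := 3) rfl N27225 D94257
theorem N51501 : nd 51501 = n94258 := ndS (p := 27225) (l := 5) rfl N27225 D94258
theorem N51502 : nd 51502 = n94259 := ndS (p := 27225) (l := 6) rfl N27225 D94259
theorem N51503 : nd 51503 = n94260 := ndS (p := 27226) (l := 6) rfl N27226 D94260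
theorem N51504 : nd 51504 = n94261 := ndS (p := 27228) (l := 3) rfl N27228 D94261
theorem N51505 : nd 51505 = n94263 := ndS (p := 27231) (l := 5) rfl N27231 D94263
theorem N51506 : nd 51506 = n94264 := ndS (p := 27232) (l := 1) rfl N27232 D94264
theorem N51507 : nd 51507 = n94265 := ndS (p := 27232) (l := 4) rfl N27232 D94265
theorem N51508 : nd 51508 = n94266 := ndS (p := 27232) (l := 6) rfl N27232 D94266
theorem N51509 : nd 51509 = n94267 := ndS (p := 27234) (l := 4) rfl N27234 D94267
theorem N51510 : nd 51510 = n94268 := ndS (p := 27234) (l := 6) rfl N27234 D94268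
theorem N51511 : nd 51511 = n94269 := ndS (p := 27236) (l := 4) rfl N27236 D94269
theorem N51512 : nd 51512 = n94270 := ndS (p := 27236) (l := 6) rfl N27236 D94270
theorem N51513 : nd 51513 = n94271 := ndS (p := 27237) (l := 4) rfl N27237 D94271
theorem N51514 : nd 51514 = n94272 := ndS (p := 27237) (l := 6) rfl N27237 D94272
theorem N51515 : nd 51515 = n94273 := ndS (p := 27238) (l := 0) rfl N27238 D94273
theorem N51516 : nd 51516 = n94274 := ndS (p := 27238) (l := 1) rfl N27238 D94274
theorem N51517 : nd 51517 = n94275 := ndS (p := 27238) (l := 3) rfl N27238 D94275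
theorem N51518 : nd 51518 = n94276 := ndS (p := 27238) (l := 5) rfl N27238 D94276
theorem N51519 : nd 51519 = n94277 := ndS (p := 27238) (l := 7) rfl N27238 D94277
theorem N51520 : nd 51520 = n94280 := ndS (p := 27240) (l := 4) rfl N27240 D94280
theorem N51521 : nd 51521 = n94281 := ndS (p := 27240) (l := 5) rfl N27240 D94281
theorem N51522 : nd 51522 = n94288 := ndS (p := 27241) (l := 5) rfl N27241 D94288
theorem N51523 : nd 51523 = n94289 := ndS (p := 27241) (l := 6) rfl N27241 D94289
theorem N51524 : nd 51524 = n94290 := ndS (p := 27242) (l := 0) rfl N27242 D94290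
theorem N51525 : nd 51525 = n94291 := ndS (p := 27242) (l := 1) rfl N27242 D94291
theorem N51526 : nd 51526 = n94292 := ndS (p := 27242) (l := 4) rfl N27242 D94292
theorem N51527 : nd 51527 = n94293 := ndS (p := 27242) (l := 6) rfl N27242 D94293
theorem N51528 : nd 51528 = n94294 := ndS (p := 27243) (l := 0) rfl N27243 D94294
theorem N51529 : nd 51529 = n94295 := ndS (p := 27243) (l := 1) rfl N27243 D94295
theorem N51530 : nd 51530 = n94306 := ndS (p := 27244) (l := 0) rfl N27244 D94306
theorem N51531 : nd 51531 = n94307 := ndS (p := 27244) (l := 1) rfl N27244 D94307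
theorem N51532 : nd 51532 = n94308 := ndS (p := 27244) (l := 7) rfl N27244 D94308
theorem N51533 : nd 51533 = n94314 := ndS (p := 27245) (l := 5) rfl N27245 D94314
theorem N51534 : nd 51534 = n94317 := ndS (p := 27246) (l := 5) rfl N27246 D94317
theorem N51535 : nd 51535 = n94318 := ndS (p := 27246) (l := 6) rfl N27246 D94318
theorem N51536 : nd 51536 = n94320 := ndS (p := 27247) (l := 0) rfl N27247 D94320
theorem N51537 : nd 51537 = n94321 := ndS (p := 27247) (l := 1) rfl N27247 D94321
theorem N51538 : nd 51538 = n94322 := ndS (p := 27247) (l := 4) rfl N27247 D94322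
theorem N51539 : nd 51539 = n94323 := ndS (p := 27247) (l := 6) rfl N27247 D94323
theorem N51540 : nd 51540 = n94324 := ndS (p := 27248) (l := 0) rfl N27248 D94324
theorem N51541 : nd 51541 = n94325 := ndS (p := 27248) (l := 1) rfl N27248 D94325
theorem N51542 : nd 51542 = n94326 := ndS (p := 27248) (l := 7) rfl N27248 D94326
theorem N51543 : nd 51543 = n94330 := ndS (p := 27249) (l := 0) rfl N27249 D94330
theorem N51544 : nd 51544 = n94331 := ndS (p := 27249) (l := 1) rfl N27249 D94331
theorem N51545 : nd 51545 = n94332 := ndS (p := 27249) (l := 7) rfl N27249 D94332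
theorem N51546 : nd 51546 = n94335 := ndS (p := 27251) (l := 2) rfl N27251 D94335
theorem N51547 : nd 51547 = n94336 := ndS (p := 27251) (l := 4) rfl N27251 D94336
theorem N51548 : nd 51548 = n94337 := ndS (p := 27251) (l := 6) rfl N27251 D94337
theorem N51549 : nd 51549 = n94339 := ndS (p := 27252) (l := 3) rfl N27252 D94339
theorem N51550 : nd 51550 = n94341 := ndS (p := 27252) (l := 6) rfl N27252 D94341
theorem N51551 : nd 51551 = n94342 := ndS (p := 27253) (l := 0) rfl N27253 D94342
theorem N51552 : nd 51552 = n94343 := ndS (p := 27253) (l := 1) rfl N27253 D94343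
theorem N51553 : nd 51553 = n94344 := ndS (p := 27253) (l := 5) rfl N27253 D94344
theorem N51554 : nd 51554 = n94345 := ndS (p := 27253) (l := 7) rfl N27253 D94345
theorem N51555 : nd 51555 = n94348 := ndS (p := 27254) (l := 2) rfl N27254 D94348
theorem N51556 : nd 51556 = n94349 := ndS (p := 27254) (l := 4) rfl N27254 D94349
theorem N51557 : nd 51557 = n94350 := ndS (p := 27254) (l := 6) rfl N27254 D94350
theorem N51558 : nd 51558 = n94351 := ndS (p := 27255) (l := 3) rfl N27255 D94351
theorem N51559 : nd 51559 = n94353 := ndS (p := 27255) (l := 6) rfl N27255 D94353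
theorem N51560 : nd 51560 = n94354 := ndS (p := 27256) (l := 0) rfl N27256 D94354
theorem N51561 : nd 51561 = n94355 := ndS (p := 27256) (l := 1) rfl N27256 D94355
theorem N51562 : nd 51562 = n94356 := ndS (p := 27256) (l := 7) rfl N27256 D94356
theorem N51563 : nd 51563 = n94357 := ndS (p := 27257) (l := 3) rfl N27257 D94357
theorem N51564 : nd 51564 = n94359 := ndS (p := 27257) (l := 6) rfl N27257 D94359
theorem N51565 : nd 51565 = n94360 := ndS (p := 27258) (l := 3) rfl N27258 D94360
theorem N51566 : nd 51566 = n94362 := ndS (p := 27258) (l := 6) rfl N27258 D94362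
theorem N51567 : nd 51567 = n94363 := ndS (p := 27259) (l := 0) rfl N27259 D94363
theorem N51568 : nd 51568 = n94364 := ndS (p := 27259) (l := 1) rfl N27259 D94364
theorem N51569 : nd 51569 = n94365 := ndS (p := 27259) (l := 2) rfl N27259 D94365
theorem N51570 : nd 51570 = n94393 := ndS (p := 27261) (l := 5) rfl N27261 D94393
theorem N51571 : nd 51571 = n94399 := ndS (p := 27262) (l := 5) rfl N27262 D94399
theorem N51572 : nd 51572 = n94400 := ndS (p := 27262) (l := 6) rfl N27262 D94400
theorem N51573 : nd 51573 = n94403 := ndS (p := 27263) (l := 4) rfl N27263 D94403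
theorem N51574 : nd 51574 = n94404 := ndS (p := 27263) (l := 6) rfl N27263 D94404
theorem N51575 : nd 51575 = n94405 := ndS (p := 27264) (l := 0) rfl N27264 D94405
theorem N51576 : nd 51576 = n94406 := ndS (p := 27264) (l := 1) rfl N27264 D94406
theorem N51577 : nd 51577 = n94407 := ndS (p := 27264) (l := 5) rfl N27264 D94407
theorem N51578 : nd 51578 = n94416 := ndS (p := 27265) (l := 0) rfl N27265 D94416
theorem N51579 : nd 51579 = n94417 := ndS (p := 27265) (l := 1) rfl N27265 D94417
theorem N51580 : nd 51580 = n94418 := ndS (p := 27265) (l := 5) rfl N27265 D94418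
theorem N51581 : nd 51581 = n94419 := ndS (p := 27265) (l := 7) rfl N27265 D94419
theorem N51582 : nd 51582 = n94420 := ndS (p := 27266) (l := 3) rfl N27266 D94420
theorem N51583 : nd 51583 = n94442 := ndS (p := 27268) (l := 5) rfl N27268 D94442
theorem N51584 : nd 51584 = n94443 := ndS (p := 27269) (l := 5) rfl N27269 D94443
theorem N51585 : nd 51585 = n94444 := ndS (p := 27269) (l := 6) rfl N27269 D94444
theorem N51586 : nd 51586 = n94445 := ndS (p := 27270) (l := 0) rfl N27270 D94445
theorem N51587 : nd 51587 = n94446 := ndS (p := 27270) (l := 1) rfl N27270 D94446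
theorem N51588 : nd 51588 = n94447 := ndS (p := 27270) (l := 4) rfl N27270 D94447
theorem N51589 : nd 51589 = n94448 := ndS (p := 27270) (l := 6) rfl N27270 D94448
theorem N51590 : nd 51590 = n94449 := ndS (p := 27271) (l := 0) rfl N27271 D94449
theorem N51591 : nd 51591 = n94450 := ndS (p := 27271) (l := 5) rfl N27271 D94450
theorem N51592 : nd 51592 = n94453 := ndS (p := 27272) (l := 0) rfl N27272 D94453
theorem N51593 : nd 51593 = n94454 := ndS (p := 27272) (l := 1) rfl N27272 D94454
theorem N51594 : nd 51594 = n94455 := ndS (p := 27272) (l := 5) rfl N27272 D94455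
theorem N51595 : nd 51595 = n94456 := ndS (p := 27272) (l := 7) rfl N27272 D94456
theorem N51596 : nd 51596 = n94457 := ndS (p := 27273) (l := 3) rfl N27273 D94457
theorem N51597 : nd 51597 = n94801 := ndS (p := 27275) (l := 3) rfl N27275 D94801
theorem N51598 : nd 51598 = n94809 := ndS (p := 27276) (l := 3) rfl N27276 D94809
theorem N51599 : nd 51599 = n94811 := ndS (p := 27276) (l := 6) rfl N27276 D94811
theorem N51600 : nd 51600 = n94812 := ndS (p := 27277) (l := 0) rfl N27277 D94812
theorem N51601 : nd 51601 = n94813 := ndS (p := 27277) (l := 1) rfl N27277 D94813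
theorem N51602 : nd 51602 = n94814 := ndS (p := 27277) (l := 5) rfl N27277 D94814
theorem N51603 : nd 51603 = n94815 := ndS (p := 27277) (l := 7) rfl N27277 D94815
theorem N51604 : nd 51604 = n94816 := ndS (p := 27278) (l := 4) rfl N27278 D94816
theorem N51605 : nd 51605 = n95241 := ndS (p := 27282) (l := 5) rfl N27282 D95241
theorem N51606 : nd 51606 = n95261 := ndS (p := 27283) (l := 4) rfl N27283 D95261
theorem N51607 : nd 51607 = n95263 := ndS (p := 27283) (l := 6) rfl N27283 D95263
theorem N51608 : nd 51608 = n95264 := ndS (p := 27284) (l := 4) rfl N27284 D95264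
theorem N51609 : nd 51609 = n95266 := ndS (p := 27285) (l := 3) rfl N27285 D95266
theorem N51610 : nd 51610 = n95267 := ndS (p := 27285) (l := 5) rfl N27285 D95267
theorem N51611 : nd 51611 = n95268 := ndS (p := 27286) (l := 3) rfl N27286 D95268
theorem N51612 : nd 51612 = n95269 := ndS (p := 27286) (l := 5) rfl N27286 D95269
theorem N51613 : nd 51613 = n95270 := ndS (p := 27287) (l := 3) rfl N27287 D95270
theorem N51614 : nd 51614 = n95271 := ndS (p := 27287) (l := 5) rfl N27287 D95271
theorem N51615 : nd 51615 = n95272 := ndS (p := 27287) (l := 6) rfl N27287 D95272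
theorem N51616 : nd 51616 = n95273 := ndS (p := 27288) (l := 0) rfl N27288 D95273
theorem N51617 : nd 51617 = n95276 := ndS (p := 27289) (l := 3) rfl N27289 D95276
theorem N51618 : nd 51618 = n95280 := ndS (p := 27291) (l := 3) rfl N27291 D95280
theorem N51619 : nd 51619 = n95286 := ndS (p := 27293) (l := 0) rfl N27293 D95286
theorem N51620 : nd 51620 = n95287 := ndS (p := 27293) (l := 1) rfl N27293 D95287
theorem N51621 : nd 51621 = n95288 := ndS (p := 27293) (l := 2) rfl N27293 D95288
theorem N51622 : nd 51622 = n95289 := ndS (p := 27293) (l := 5) rfl N27293 D95289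
theorem N51623 : nd 51623 = n95290 := ndS (p := 27294) (l := 6) rfl N27294 D95290
theorem N51624 : nd 51624 = n95291 := ndS (p := 27295) (l := 0) rfl N27295 D95291
theorem N51625 : nd 51625 = n95293 := ndS (p := 27295) (l := 5) rfl N27295 D95293
theorem N51626 : nd 51626 = n95294 := ndS (p := 27295) (l := 7) rfl N27295 D95294
theorem N51627 : nd 51627 = n95296 := ndS (p := 27296) (l := 7) rfl N27296 D95296
theorem N51628 : nd 51628 = n95301 := ndS (p := 27299) (l := 6) rfl N27299 D95301
theorem N51629 : nd 51629 = n95302 := ndS (p := 27300) (l := 6) rfl N27300 D95302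
theorem N51630 : nd 51630 = n95307 := ndS (p := 27302) (l := 6) rfl N27302 D95307
theorem N51631 : nd 51631 = n95309 := ndS (p := 27303) (l := 5) rfl N27303 D95309
theorem N51632 : nd 51632 = n95310 := ndS (p := 27303) (l := 7) rfl N27303 D95310
theorem N51633 : nd 51633 = n95311 := ndS (p := 27304) (l := 0) rfl N27304 D95311
theorem N51634 : nd 51634 = n95312 := ndS (p := 27304) (l := 1) rfl N27304 D95312
theorem N51635 : nd 51635 = n95313 := ndS (p := 27304) (l := 5) rfl N27304 D95313
theorem N51636 : nd 51636 = n95314 := ndS (p := 27304) (l := 7) rfl N27304 D95314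
theorem N51637 : nd 51637 = n95316 := ndS (p := 27305) (l := 5) rfl N27305 D95316
theorem N51638 : nd 51638 = n95317 := ndS (p := 27305) (l := 6) rfl N27305 D95317
theorem N51639 : nd 51639 = n95319 := ndS (p := 27306) (l := 3) rfl N27306 D95319
theorem N51640 : nd 51640 = n95320 := ndS (p := 27306) (l := 5) rfl N27306 D95320
theorem N51641 : nd 51641 = n95322 := ndS (p := 27307) (l := 0) rfl N27307 D95322
theorem N51642 : nd 51642 = n95323 := ndS (p := 27307) (l := 1) rfl N27307 D95323
theorem N51643 : nd 51643 = n95324 := ndS (p := 27307) (l := 4) rfl N27307 D95324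
theorem N51644 : nd 51644 = n95325 := ndS (p := 27307) (l := 7) rfl N27307 D95325
theorem N51645 : nd 51645 = n95326 := ndS (p := 27309) (l := 4) rfl N27309 D95326
theorem N51646 : nd 51646 = n95327 := ndS (p := 27309) (l := 6) rfl N27309 D95327
theorem N51647 : nd 51647 = n95328 := ndS (p := 27310) (l := 0) rfl N27310 D95328
theorem N51648 : nd 51648 = n95329 := ndS (p := 27310) (l := 1) rfl N27310 D95329
theorem N51649 : nd 51649 = n95330 := ndS (p := 27310) (l := 5) rfl N27310 D95330
theorem N51650 : nd 51650 = n95331 := ndS (p := 27310) (l := 7) rfl N27310 D95331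
theorem N51651 : nd 51651 = n95333 := ndS (p := 27311) (l := 3) rfl N27311 D95333
theorem N51652 : nd 51652 = n95335 := ndS (p := 27311) (l := 5) rfl N27311 D95335
theorem N51653 : nd 51653 = n95336 := ndS (p := 27311) (l := 6) rfl N27311 D95336
theorem N51654 : nd 51654 = n95338 := ndS (p := 27312) (l := 3) rfl N27312 D95338
theorem N51655 : nd 51655 = n95340 := ndS (p := 27312) (l := 5) rfl N27312 D95340
theorem N51656 : nd 51656 = n95341 := ndS (p := 27312) (l := 6) rfl N27312 D95341
theorem N51657 : nd 51657 = n95343 := ndS (p := 27313) (l := 1) rfl N27313 D95343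
theorem N51658 : nd 51658 = n95345 := ndS (p := 27313) (l := 7) rfl N27313 D95345
theorem N51659 : nd 51659 = n95346 := ndS (p := 27315) (l := 0) rfl N27315 D95346
theorem N51660 : nd 51660 = n95348 := ndS (p := 27315) (l := 2) rfl N27315 D95348
theorem N51661 : nd 51661 = n95349 := ndS (p := 27315) (l := 5) rfl N27315 D95349
theorem N51662 : nd 51662 = n95350 := ndS (p := 27315) (l := 6) rfl N27315 D95350
theorem N51663 : nd 51663 = n95352 := ndS (p := 27316) (l := 4) rfl N27316 D95352
theorem N51664 : nd 51664 = n95353 := ndS (p := 27316) (l := 6) rfl N27316 D95353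
theorem N51665 : nd 51665 = n95355 := ndS (p := 27318) (l := 5) rfl N27318 D95355
theorem N51666 : nd 51666 = n95357 := ndS (p := 27319) (l := 4) rfl N27319 D95357
theorem N51667 : nd 51667 = n95358 := ndS (p := 27319) (l := 6) rfl N27319 D95358
theorem N51668 : nd 51668 = n95360 := ndS (p := 27320) (l := 3) rfl N27320 D95360
theorem N51669 : nd 51669 = n95361 := ndS (p := 27320) (l := 4) rfl N27320 D95361
theorem N51670 : nd 51670 = n95362 := ndS (p := 27320) (l := 6) rfl N27320 D95362
theorem N51671 : nd 51671 = n95363 := ndS (p := 27321) (l := 3) rfl N27321 D95363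
theorem N51672 : nd 51672 = n95364 := ndS (p := 27321) (l := 4) rfl N27321 D95364
theorem N51673 : nd 51673 = n95370 := ndS (p := 27323) (l := 6) rfl N27323 D95370
theorem N51674 : nd 51674 = n95371 := ndS (p := 27324) (l := 5) rfl N27324 D95371
theorem N51675 : nd 51675 = n95372 := ndS (p := 27324) (l := 6) rfl N27324 D95372
theorem N51676 : nd 51676 = n95374 := ndS (p := 27325) (l := 6) rfl N27325 D95374
theorem N51677 : nd 51677 = n95378 := ndS (p := 27327) (l := 3) rfl N27327 D95378
theorem N51678 : nd 51678 = n95379 := ndS (p := 27327) (l := 5) rfl N27327 D95379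
theorem N51679 : nd 51679 = n95381 := ndS (p := 27328) (l := 3) rfl N27328 D95381
theorem N51680 : nd 51680 = n95382 := ndS (p := 27328) (l := 5) rfl N27328 D95382
theorem N51681 : nd 51681 = n95386 := ndS (p := 27329) (l := 0) rfl N27329 D95386
theorem N51682 : nd 51682 = n95388 := ndS (p := 27329) (l := 2) rfl N27329 D95388
theorem N51683 : nd 51683 = n95389 := ndS (p := 27329) (l := 5) rfl N27329 D95389
theorem N51684 : nd 51684 = n95394 := ndS (p := 27330) (l := 6) rfl N27330 D95394
theorem N51685 : nd 51685 = n95396 := ndS (p := 27331) (l := 0) rfl N27331 D95396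
theorem N51686 : nd 51686 = n95397 := ndS (p := 27331) (l := 1) rfl N27331 D95397
theorem N51687 : nd 51687 = n95398 := ndS (p := 27331) (l := 2) rfl N27331 D95398
theorem N51688 : nd 51688 = n95411 := ndS (p := 27333) (l := 5) rfl N27333 D95411
theorem N51689 : nd 51689 = n95414 := ndS (p := 27334) (l := 3) rfl N27334 D95414
theorem N51690 : nd 51690 = n95415 := ndS (p := 27334) (l := 5) rfl N27334 D95415
theorem N51691 : nd 51691 = n95420 := ndS (p := 27336) (l := 4) rfl N27336 D95420
theorem N51692 : nd 51692 = n95422 := ndS (p := 27337) (l := 3) rfl N27337 D95422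
theorem N51693 : nd 51693 = n95423 := ndS (p := 27337) (l := 6) rfl N27337 D95423
theorem N51694 : nd 51694 = n95425 := ndS (p := 27338) (l := 6) rfl N27338 D95425
theorem N51695 : nd 51695 = n95426 := ndS (p := 27339) (l := 3) rfl N27339 D95426
theorem N51696 : nd 51696 = n95427 := ndS (p := 27339) (l := 6) rfl N27339 D95427
theorem N51697 : nd 51697 = n95429 := ndS (p := 27340) (l := 1) rfl N27340 D95429
theorem N51698 : nd 51698 = n95431 := ndS (p := 27341) (l := 6) rfl N27341 D95431
theorem N51699 : nd 51699 = n95432 := ndS (p := 27342) (l := 6) rfl N27342 D95432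
theorem N51700 : nd 51700 = n95433 := ndS (p := 27343) (l := 6) rfl N27343 D95433
theorem N51701 : nd 51701 = n95435 := ndS (p := 27345) (l := 0) rfl N27345 D95435
theorem N51702 : nd 51702 = n95436 := ndS (p := 27345) (l := 1) rfl N27345 D95436
theorem N51703 : nd 51703 = n95437 := ndS (p := 27345) (l := 5) rfl N27345 D95437
theorem N51704 : nd 51704 = n95442 := ndS (p := 27346) (l := 0) rfl N27346 D95442
theorem N51705 : nd 51705 = n95450 := ndS (p := 27349) (l := 0) rfl N27349 D95450
theorem N51706 : nd 51706 = n95451 := ndS (p := 27349) (l := 5) rfl N27349 D95451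
theorem N51707 : nd 51707 = n95452 := ndS (p := 27349) (l := 7) rfl N27349 D95452
theorem N51708 : nd 51708 = n95453 := ndS (p := 27350) (l := 6) rfl N27350 D95453
theorem N51709 : nd 51709 = n95454 := ndS (p := 27351) (l := 5) rfl N27351 D95454
theorem N51710 : nd 51710 = n95455 := ndS (p := 27352) (l := 4) rfl N27352 D95455
theorem N51711 : nd 51711 = n95456 := ndS (p := 27352) (l := 6) rfl N27352 D95456
theorem N51712 : nd 51712 = n95459 := ndS (p := 27353) (l := 0) rfl N27353 D95459
theorem N51713 : nd 51713 = n95461 := ndS (p := 27353) (l := 5) rfl N27353 D95461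
theorem N51714 : nd 51714 = n95462 := ndS (p := 27353) (l := 7) rfl N27353 D95462
theorem N51715 : nd 51715 = n95463 := ndS (p := 27354) (l := 5) rfl N27354 D95463
theorem N51716 : nd 51716 = n95464 := ndS (p := 27354) (l := 6) rfl N27354 D95464
theorem N51717 : nd 51717 = n95465 := ndS (p := 27355) (l := 0) rfl N27355 D95465
theorem N51718 : nd 51718 = n95466 := ndS (p := 27355) (l := 4) rfl N27355 D95466
theorem N51719 : nd 51719 = n95468 := ndS (p := 27356) (l := 3) rfl N27356 D95468
theorem N51720 : nd 51720 = n95469 := ndS (p := 27356) (l := 4) rfl N27356 D95469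
theorem N51721 : nd 51721 = n95470 := ndS (p := 27356) (l := 5) rfl N27356 D95470
theorem N51722 : nd 51722 = n95471 := ndS (p := 27356) (l := 6) rfl N27356 D95471
theorem N51723 : nd 51723 = n95474 := ndS (p := 27357) (l := 4) rfl N27357 D95474
theorem N51724 : nd 51724 = n95476 := ndS (p := 27357) (l := 6) rfl N27357 D95476
theorem N51725 : nd 51725 = n95477 := ndS (p := 27358) (l := 0) rfl N27358 D95477
theorem N51726 : nd 51726 = n95479 := ndS (p := 27358) (l := 4) rfl N27358 D95479
theorem N51727 : nd 51727 = n95480 := ndS (p := 27358) (l := 7) rfl N27358 D95480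
theorem N51728 : nd 51728 = n95481 := ndS (p := 27360) (l := 4) rfl N27360 D95481
theorem N51729 : nd 51729 = n95484 := ndS (p := 27362) (l := 4) rfl N27362 D95484
theorem N51730 : nd 51730 = n95485 := ndS (p := 27362) (l := 6) rfl N27362 D95485
theorem N51731 : nd 51731 = n95486 := ndS (p := 27363) (l := 3) rfl N27363 D95486
theorem N51732 : nd 51732 = n95487 := ndS (p := 27363) (l := 4) rfl N27363 D95487
theorem N51733 : nd 51733 = n95488 := ndS (p := 27363) (l := 6) rfl N27363 D95488
theorem N51734 : nd 51734 = n95489 := ndS (p := 27364) (l := 3) rfl N27364 D95489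
theorem N51735 : nd 51735 = n95490 := ndS (p := 27365) (l := 6) rfl N27365 D95490
theorem N51736 : nd 51736 = n95491 := ndS (p := 27366) (l := 6) rfl N27366 D95491
theorem N51737 : nd 51737 = n95494 := ndS (p := 27367) (l := 5) rfl N27367 D95494
theorem N51738 : nd 51738 = n95496 := ndS (p := 27368) (l := 3) rfl N27368 D95496
theorem N51739 : nd 51739 = n95497 := ndS (p := 27368) (l := 6) rfl N27368 D95497
theorem N51740 : nd 51740 = n95498 := ndS (p := 27369) (l := 0) rfl N27369 D95498
theorem N51741 : nd 51741 = n95499 := ndS (p := 27369) (l := 1) rfl N27369 D95499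
theorem N51742 : nd 51742 = n95500 := ndS (p := 27369) (l := 5) rfl N27369 D95500
theorem N51743 : nd 51743 = n95501 := ndS (p := 27369) (l := 7) rfl N27369 D95501
theorem N51744 : nd 51744 = n95503 := ndS (p := 27370) (l := 3) rfl N27370 D95503
theorem N51745 : nd 51745 = n95504 := ndS (p := 27370) (l := 4) rfl N27370 D95504
theorem N51746 : nd 51746 = n95505 := ndS (p := 27370) (l := 5) rfl N27370 D95505
theorem N51747 : nd 51747 = n95506 := ndS (p := 27370) (l := 6) rfl N27370 D95506
theorem N51748 : nd 51748 = n95508 := ndS (p := 27371) (l := 4) rfl N27371 D95508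
theorem N51749 : nd 51749 = n95511 := ndS (p := 27372) (l := 0) rfl N27372 D95511
theorem N51750 : nd 51750 = n95512 := ndS (p := 27372) (l := 1) rfl N27372 D95512
theorem N51751 : nd 51751 = n95513 := ndS (p := 27372) (l := 4) rfl N27372 D95513
theorem N51752 : nd 51752 = n95514 := ndS (p := 27372) (l := 7) rfl N27372 D95514
theorem N51753 : nd 51753 = n95516 := ndS (p := 27374) (l := 3) rfl N27374 D95516
theorem N51754 : nd 51754 = n95517 := ndS (p := 27374) (l := 4) rfl N27374 D95517
theorem N51755 : nd 51755 = n95518 := ndS (p := 27374) (l := 5) rfl N27374 D95518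
theorem N51756 : nd 51756 = n95519 := ndS (p := 27374) (l := 6) rfl N27374 D95519
theorem N51757 : nd 51757 = n95521 := ndS (p := 27375) (l := 3) rfl N27375 D95521
theorem N51758 : nd 51758 = n95523 := ndS (p := 27375) (l := 5) rfl N27375 D95523
theorem N51759 : nd 51759 = n95525 := ndS (p := 27376) (l := 0) rfl N27376 D95525
theorem N51760 : nd 51760 = n95526 := ndS (p := 27376) (l := 1) rfl N27376 D95526
theorem N51761 : nd 51761 = n95527 := ndS (p := 27376) (l := 4) rfl N27376 D95527
theorem N51762 : nd 51762 = n95528 := ndS (p := 27376) (l := 7) rfl N27376 D95528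
theorem N51763 : nd 51763 = n95530 := ndS (p := 27378) (l := 1) rfl N27378 D95530
theorem N51764 : nd 51764 = n95531 := ndS (p := 27378) (l := 2) rfl N27378 D95531
theorem N51765 : nd 51765 = n95532 := ndS (p := 27378) (l := 5) rfl N27378 D95532
theorem N51766 : nd 51766 = n95533 := ndS (p := 27379) (l := 4) rfl N27379 D95533
theorem N51767 : nd 51767 = n95534 := ndS (p := 27379) (l := 6) rfl N27379 D95534
theorem N51768 : nd 51768 = n95535 := ndS (p := 27380) (l := 3) rfl N27380 D95535
theorem N51769 : nd 51769 = n95536 := ndS (p := 27380) (l := 4) rfl N27380 D95536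
theorem N51770 : nd 51770 = n95537 := ndS (p := 27380) (l := 6) rfl N27380 D95537
theorem N51771 : nd 51771 = n95538 := ndS (p := 27381) (l := 3) rfl N27381 D95538
theorem N51772 : nd 51772 = n95539 := ndS (p := 27381) (l := 4) rfl N27381 D95539
theorem N51773 : nd 51773 = n95540 := ndS (p := 27381) (l := 6) rfl N27381 D95540
theorem N51774 : nd 51774 = n95541 := ndS (p := 27382) (l := 0) rfl N27382 D95541
theorem N51775 : nd 51775 = n95542 := ndS (p := 27382) (l := 1) rfl N27382 D95542
theorem N51776 : nd 51776 = n95543 := ndS (p := 27382) (l := 3) rfl N27382 D95543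
theorem N51777 : nd 51777 = n95544 := ndS (p := 27383) (l := 6) rfl N27383 D95544
theorem N51778 : nd 51778 = n95545 := ndS (p := 27384) (l := 5) rfl N27384 D95545
theorem N51779 : nd 51779 = n95548 := ndS (p := 27385) (l := 5) rfl N27385 D95548
theorem N51780 : nd 51780 = n95550 := ndS (p := 27386) (l := 0) rfl N27386 D95550
theorem N51781 : nd 51781 = n95552 := ndS (p := 27386) (l := 4) rfl N27386 D95552
theorem N51782 : nd 51782 = n95553 := ndS (p := 27386) (l := 6) rfl N27386 D95553
theorem N51783 : nd 51783 = n95557 := ndS (p := 27387) (l := 4) rfl N27387 D95557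
theorem N51784 : nd 51784 = n95558 := ndS (p := 27387) (l := 6) rfl N27387 D95558
theorem N51785 : nd 51785 = n95559 := ndS (p := 27388) (l := 5) rfl N27388 D95559
theorem N51786 : nd 51786 = n95560 := ndS (p := 27389) (l := 4) rfl N27389 D95560
theorem N51787 : nd 51787 = n95563 := ndS (p := 27390) (l := 5) rfl N27390 D95563
theorem N51788 : nd 51788 = n95565 := ndS (p := 27391) (l := 6) rfl N27391 D95565
theorem N51789 : nd 51789 = n95568 := ndS (p := 27392) (l := 5) rfl N27392 D95568
theorem N51790 : nd 51790 = n95570 := ndS (p := 27393) (l := 0) rfl N27393 D95570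
theorem N51791 : nd 51791 = n95571 := ndS (p := 27393) (l := 1) rfl N27393 D95571
theorem N51792 : nd 51792 = n95572 := ndS (p := 27393) (l := 5) rfl N27393 D95572
theorem N51793 : nd 51793 = n95573 := ndS (p := 27393) (l := 7) rfl N27393 D95573
theorem N51794 : nd 51794 = n95575 := ndS (p := 27394) (l := 5) rfl N27394 D95575
theorem N51795 : nd 51795 = n95576 := ndS (p := 27394) (l := 6) rfl N27394 D95576
theorem N51796 : nd 51796 = n95578 := ndS (p := 27395) (l := 3) rfl N27395 D95578
theorem N51797 : nd 51797 = n95579 := ndS (p := 27395) (l := 5) rfl N27395 D95579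
theorem N51798 : nd 51798 = n95580 := ndS (p := 27395) (l := 6) rfl N27395 D95580
theorem N51799 : nd 51799 = n95581 := ndS (p := 27396) (l := 0) rfl N27396 D95581
theorem N51800 : nd 51800 = n95582 := ndS (p := 27396) (l := 1) rfl N27396 D95582
theorem N51801 : nd 51801 = n95583 := ndS (p := 27396) (l := 4) rfl N27396 D95583
theorem N51802 : nd 51802 = n95584 := ndS (p := 27397) (l := 2) rfl N27397 D95584
theorem N51803 : nd 51803 = n95585 := ndS (p := 27397) (l := 4) rfl N27397 D95585
theorem N51804 : nd 51804 = n95586 := ndS (p := 27397) (l := 6) rfl N27397 D95586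
theorem N51805 : nd 51805 = n95587 := ndS (p := 27398) (l := 0) rfl N27398 D95587
theorem N51806 : nd 51806 = n95588 := ndS (p := 27398) (l := 1) rfl N27398 D95588
theorem N51807 : nd 51807 = n95589 := ndS (p := 27398) (l := 5) rfl N27398 D95589
theorem N51808 : nd 51808 = n95590 := ndS (p := 27398) (l := 7) rfl N27398 D95590
theorem N51809 : nd 51809 = n95593 := ndS (p := 27400) (l := 0) rfl N27400 D95593
theorem N51810 : nd 51810 = n95594 := ndS (p := 27400) (l := 1) rfl N27400 D95594
theorem N51811 : nd 51811 = n95595 := ndS (p := 27400) (l := 5) rfl N27400 D95595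
theorem N51812 : nd 51812 = n95596 := ndS (p := 27400) (l := 7) rfl N27400 D95596
theorem N51813 : nd 51813 = n95598 := ndS (p := 27401) (l := 3) rfl N27401 D95598
theorem N51814 : nd 51814 = n95599 := ndS (p := 27401) (l := 4) rfl N27401 D95599
theorem N51815 : nd 51815 = n95600 := ndS (p := 27401) (l := 5) rfl N27401 D95600
theorem N51816 : nd 51816 = n95601 := ndS (p := 27401) (l := 6) rfl N27401 D95601
theorem N51817 : nd 51817 = n95603 := ndS (p := 27402) (l := 3) rfl N27402 D95603
theorem N51818 : nd 51818 = n95604 := ndS (p := 27402) (l := 4) rfl N27402 D95604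
theorem N51819 : nd 51819 = n95605 := ndS (p := 27402) (l := 5) rfl N27402 D95605
theorem N51820 : nd 51820 = n95606 := ndS (p := 27402) (l := 6) rfl N27402 D95606
theorem N51821 : nd 51821 = n95607 := ndS (p := 27403) (l := 0) rfl N27403 D95607
theorem N51822 : nd 51822 = n95608 := ndS (p := 27403) (l := 1) rfl N27403 D95608
theorem N51823 : nd 51823 = n95609 := ndS (p := 27403) (l := 4) rfl N27403 D95609
theorem N51824 : nd 51824 = n95610 := ndS (p := 27403) (l := 7) rfl N27403 D95610
theorem N51825 : nd 51825 = n95611 := ndS (p := 27405) (l := 0) rfl N27405 D95611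
theorem N51826 : nd 51826 = n95613 := ndS (p := 27405) (l := 2) rfl N27405 D95613
theorem N51827 : nd 51827 = n95614 := ndS (p := 27405) (l := 5) rfl N27405 D95614
theorem N51828 : nd 51828 = n95615 := ndS (p := 27405) (l := 6) rfl N27405 D95615
theorem N51829 : nd 51829 = n95616 := ndS (p := 27406) (l := 4) rfl N27406 D95616
theorem N51830 : nd 51830 = n95617 := ndS (p := 27406) (l := 6) rfl N27406 D95617
theorem N51831 : nd 51831 = n95618 := ndS (p := 27408) (l := 1) rfl N27408 D95618
theorem N51832 : nd 51832 = n95619 := ndS (p := 27408) (l := 2) rfl N27408 D95619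
theorem N51833 : nd 51833 = n95620 := ndS (p := 27408) (l := 5) rfl N27408 D95620
theorem N51834 : nd 51834 = n95622 := ndS (p := 27409) (l := 4) rfl N27409 D95622
theorem N51835 : nd 51835 = n95623 := ndS (p := 27409) (l := 6) rfl N27409 D95623
theorem N51836 : nd 51836 = n95625 := ndS (p := 27410) (l := 3) rfl N27410 D95625
theorem N51837 : nd 51837 = n95626 := ndS (p := 27410) (l := 4) rfl N27410 D95626
theorem N51838 : nd 51838 = n95627 := ndS (p := 27410) (l := 6) rfl N27410 D95627
theorem N51839 : nd 51839 = n95628 := ndS (p := 27411) (l := 3) rfl N27411 D95628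
theorem N51840 : nd 51840 = n95629 := ndS (p := 27411) (l := 4) rfl N27411 D95629
theorem N51841 : nd 51841 = n95630 := ndS (p := 27411) (l := 6) rfl N27411 D95630
theorem N51842 : nd 51842 = n95631 := ndS (p := 27412) (l := 3) rfl N27412 D95631
theorem N51843 : nd 51843 = n95632 := ndS (p := 27413) (l := 6) rfl N27413 D95632
theorem N51844 : nd 51844 = n95633 := ndS (p := 27414) (l := 6) rfl N27414 D95633
theorem N51845 : nd 51845 = n95634 := ndS (p := 27415) (l := 0) rfl N27415 D95634
theorem N51846 : nd 51846 = n95635 := ndS (p := 27415) (l := 1) rfl N27415 D95635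
theorem N51847 : nd 51847 = n95643 := ndS (p := 27418) (l := 5) rfl N27418 D95643
theorem N51848 : nd 51848 = n95644 := ndS (p := 27419) (l := 6) rfl N27419 D95644
theorem N51849 : nd 51849 = n95645 := ndS (p := 27420) (l := 5) rfl N27420 D95645
theorem N51850 : nd 51850 = n95646 := ndS (p := 27421) (l := 4) rfl N27421 D95646
theorem N51851 : nd 51851 = n95647 := ndS (p := 27421) (l := 6) rfl N27421 D95647
theorem N51852 : nd 51852 = n95648 := ndS (p := 27422) (l := 6) rfl N27422 D95648
theorem N51853 : nd 51853 = n95649 := ndS (p := 27423) (l := 0) rfl N27423 D95649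
theorem N51854 : nd 51854 = n95651 := ndS (p := 27423) (l := 5) rfl N27423 D95651
theorem N51855 : nd 51855 = n95652 := ndS (p := 27423) (l := 7) rfl N27423 D95652
theorem N51856 : nd 51856 = n95653 := ndS (p := 27424) (l := 5) rfl N27424 D95653
theorem N51857 : nd 51857 = n95654 := ndS (p := 27424) (l := 6) rfl N27424 D95654
theorem N51858 : nd 51858 = n95655 := ndS (p := 27425) (l := 0) rfl N27425 D95655
theorem N51859 : nd 51859 = n95656 := ndS (p := 27425) (l := 4) rfl N27425 D95656
theorem N51860 : nd 51860 = n95657 := ndS (p := 27425) (l := 7) rfl N27425 D95657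
theorem N51861 : nd 51861 = n95659 := ndS (p := 27427) (l := 3) rfl N27427 D95659
theorem N51862 : nd 51862 = n95661 := ndS (p := 27427) (l := 5) rfl N27427 D95661
theorem N51863 : nd 51863 = n95664 := ndS (p := 27428) (l := 3) rfl N27428 D95664
theorem N51864 : nd 51864 = n95665 := ndS (p := 27428) (l := 4) rfl N27428 D95665
theorem N51865 : nd 51865 = n95666 := ndS (p := 27428) (l := 5) rfl N27428 D95666
theorem N51866 : nd 51866 = n95667 := ndS (p := 27428) (l := 6) rfl N27428 D95667
theorem N51867 : nd 51867 = n95668 := ndS (p := 27429) (l := 0) rfl N27429 D95668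
theorem N51868 : nd 51868 = n95669 := ndS (p := 27429) (l := 1) rfl N27429 D95669
theorem N51869 : nd 51869 = n95670 := ndS (p := 27429) (l := 4) rfl N27429 D95670
theorem N51870 : nd 51870 = n95671 := ndS (p := 27429) (l := 7) rfl N27429 D95671
theorem N51871 : nd 51871 = n95672 := ndS (p := 27431) (l := 5) rfl N27431 D95672
theorem N51872 : nd 51872 = n95673 := ndS (p := 27431) (l := 6) rfl N27431 D95673
theorem N51873 : nd 51873 = n95674 := ndS (p := 27432) (l := 0) rfl N27432 D95674
theorem N51874 : nd 51874 = n95675 := ndS (p := 27432) (l := 1) rfl N27432 D95675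
theorem N51875 : nd 51875 = n95676 := ndS (p := 27432) (l := 4) rfl N27432 D95676
theorem N51876 : nd 51876 = n95677 := ndS (p := 27432) (l := 6) rfl N27432 D95677
theorem N51877 : nd 51877 = n95679 := ndS (p := 27434) (l := 1) rfl N27434 D95679
theorem N51878 : nd 51878 = n95680 := ndS (p := 27434) (l := 2) rfl N27434 D95680
theorem N51879 : nd 51879 = n95681 := ndS (p := 27434) (l := 5) rfl N27434 D95681
theorem N51880 : nd 51880 = n95682 := ndS (p := 27434) (l := 6) rfl N27434 D95682
theorem N51881 : nd 51881 = n95683 := ndS (p := 27435) (l := 4) rfl N27435 D95683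
theorem N51882 : nd 51882 = n95684 := ndS (p := 27435) (l := 6) rfl N27435 D95684
theorem N51883 : nd 51883 = n95685 := ndS (p := 27437) (l := 3) rfl N27437 D95685
theorem N51884 : nd 51884 = n95686 := ndS (p := 27437) (l := 4) rfl N27437 D95686
theorem N51885 : nd 51885 = n95687 := ndS (p := 27437) (l := 6) rfl N27437 D95687
theorem N51886 : nd 51886 = n95688 := ndS (p := 27438) (l := 3) rfl N27438 D95688
theorem N51887 : nd 51887 = n95689 := ndS (p := 27438) (l := 4) rfl N27438 D95689
theorem N51888 : nd 51888 = n95690 := ndS (p := 27438) (l := 6) rfl N27438 D95690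
theorem N51889 : nd 51889 = n95693 := ndS (p := 27439) (l := 3) rfl N27439 D95693
theorem N51890 : nd 51890 = n95695 := ndS (p := 27439) (l := 7) rfl N27439 D95695
theorem N51891 : nd 51891 = n95696 := ndS (p := 27440) (l := 6) rfl N27440 D95696
theorem N51892 : nd 51892 = n95697 := ndS (p := 27441) (l := 5) rfl N27441 D95697
theorem N51893 : nd 51893 = n95699 := ndS (p := 27442) (l := 4) rfl N27442 D95699
theorem N51894 : nd 51894 = n95700 := ndS (p := 27442) (l := 6) rfl N27442 D95700
theorem N51895 : nd 51895 = n95724 := ndS (p := 27443) (l := 6) rfl N27443 D95724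
theorem N51896 : nd 51896 = n95725 := ndS (p := 27444) (l := 6) rfl N27444 D95725
theorem N51897 : nd 51897 = n95728 := ndS (p := 27445) (l := 5) rfl N27445 D95728
theorem N51898 : nd 51898 = n95730 := ndS (p := 27446) (l := 6) rfl N27446 D95730
theorem N51899 : nd 51899 = n95731 := ndS (p := 27447) (l := 6) rfl N27447 D95731
theorem N51900 : nd 51900 = n95732 := ndS (p := 27448) (l := 6) rfl N27448 D95732
theorem N51901 : nd 51901 = n95735 := ndS (p := 27449) (l := 5) rfl N27449 D95735
theorem N51902 : nd 51902 = n95737 := ndS (p := 27450) (l := 4) rfl N27450 D95737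
theorem N51903 : nd 51903 = n95738 := ndS (p := 27450) (l := 6) rfl N27450 D95738
theorem N51904 : nd 51904 = n95739 := ndS (p := 27451) (l := 5) rfl N27451 D95739
theorem N51905 : nd 51905 = n95740 := ndS (p := 27452) (l := 4) rfl N27452 D95740
theorem N51906 : nd 51906 = n95741 := ndS (p := 27452) (l := 6) rfl N27452 D95741
theorem N51907 : nd 51907 = n95743 := ndS (p := 27454) (l := 1) rfl N27454 D95743
theorem N51908 : nd 51908 = n95746 := ndS (p := 27455) (l := 0) rfl N27455 D95746
theorem N51909 : nd 51909 = n95747 := ndS (p := 27455) (l := 1) rfl N27455 D95747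
theorem N51910 : nd 51910 = n95748 := ndS (p := 27455) (l := 5) rfl N27455 D95748
theorem N51911 : nd 51911 = n95749 := ndS (p := 27455) (l := 7) rfl N27455 D95749
theorem N51912 : nd 51912 = n95750 := ndS (p := 27456) (l := 4) rfl N27456 D95750
theorem N51913 : nd 51913 = n95751 := ndS (p := 27456) (l := 5) rfl N27456 D95751
theorem N51914 : nd 51914 = n95752 := ndS (p := 27456) (l := 6) rfl N27456 D95752
theorem N51915 : nd 51915 = n95753 := ndS (p := 27457) (l := 3) rfl N27457 D95753
theorem N51916 : nd 51916 = n95754 := ndS (p := 27457) (l := 4) rfl N27457 D95754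
theorem N51917 : nd 51917 = n95755 := ndS (p := 27457) (l := 5) rfl N27457 D95755
theorem N51918 : nd 51918 = n95756 := ndS (p := 27457) (l := 6) rfl N27457 D95756
theorem N51919 : nd 51919 = n95757 := ndS (p := 27458) (l := 0) rfl N27458 D95757
theorem N51920 : nd 51920 = n95758 := ndS (p := 27458) (l := 1) rfl N27458 D95758
theorem N51921 : nd 51921 = n95759 := ndS (p := 27458) (l := 4) rfl N27458 D95759
theorem N51922 : nd 51922 = n95761 := ndS (p := 27459) (l := 3) rfl N27459 D95761
theorem N51923 : nd 51923 = n95763 := ndS (p := 27459) (l := 5) rfl N27459 D95763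
theorem N51924 : nd 51924 = n95764 := ndS (p := 27459) (l := 6) rfl N27459 D95764
theorem N51925 : nd 51925 = n95768 := ndS (p := 27460) (l := 5) rfl N27460 D95768
theorem N51926 : nd 51926 = n95769 := ndS (p := 27460) (l := 6) rfl N27460 D95769
theorem N51927 : nd 51927 = n95770 := ndS (p := 27461) (l := 0) rfl N27461 D95770
theorem N51928 : nd 51928 = n95771 := ndS (p := 27461) (l := 1) rfl N27461 D95771
theorem N51929 : nd 51929 = n95772 := ndS (p := 27461) (l := 4) rfl N27461 D95772
theorem N51930 : nd 51930 = n95773 := ndS (p := 27461) (l := 7) rfl N27461 D95773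
theorem N51931 : nd 51931 = n95774 := ndS (p := 27463) (l := 3) rfl N27463 D95774
theorem N51932 : nd 51932 = n95775 := ndS (p := 27463) (l := 6) rfl N27463 D95775
theorem N51933 : nd 51933 = n95776 := ndS (p := 27464) (l := 0) rfl N27464 D95776
theorem N51934 : nd 51934 = n95778 := ndS (p := 27464) (l := 3) rfl N27464 D95778
theorem N51935 : nd 51935 = n95779 := ndS (p := 27465) (l := 6) rfl N27465 D95779
theorem N51936 : nd 51936 = n95782 := ndS (p := 27466) (l := 5) rfl N27466 D95782
theorem N51937 : nd 51937 = n95784 := ndS (p := 27467) (l := 6) rfl N27467 D95784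
theorem N51938 : nd 51938 = n95787 := ndS (p := 27468) (l := 5) rfl N27468 D95787
theorem N51939 : nd 51939 = n95789 := ndS (p := 27470) (l := 5) rfl N27470 D95789
theorem N51940 : nd 51940 = n95790 := ndS (p := 27470) (l := 7) rfl N27470 D95790
theorem N51941 : nd 51941 = n95791 := ndS (p := 27471) (l := 3) rfl N27471 D95791
theorem N51942 : nd 51942 = n95792 := ndS (p := 27471) (l := 6) rfl N27471 D95792
theorem N51943 : nd 51943 = n95793 := ndS (p := 27472) (l := 6) rfl N27472 D95793
theorem N51944 : nd 51944 = n95794 := ndS (p := 27473) (l := 0) rfl N27473 D95794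
theorem N51945 : nd 51945 = n95795 := ndS (p := 27473) (l := 1) rfl N27473 D95795
theorem N51946 : nd 51946 = n95796 := ndS (p := 27473) (l := 5) rfl N27473 D95796
theorem N51947 : nd 51947 = n95797 := ndS (p := 27473) (l := 7) rfl N27473 D95797
theorem N51948 : nd 51948 = n95798 := ndS (p := 27474) (l := 3) rfl N27474 D95798
theorem N51949 : nd 51949 = n95799 := ndS (p := 27474) (l := 5) rfl N27474 D95799
theorem N51950 : nd 51950 = n95800 := ndS (p := 27474) (l := 6) rfl N27474 D95800
theorem N51951 : nd 51951 = n95801 := ndS (p := 27475) (l := 5) rfl N27475 D95801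
theorem N51952 : nd 51952 = n95803 := ndS (p := 27476) (l := 0) rfl N27476 D95803
theorem N51953 : nd 51953 = n95804 := ndS (p := 27476) (l := 1) rfl N27476 D95804
theorem N51954 : nd 51954 = n95805 := ndS (p := 27476) (l := 4) rfl N27476 D95805
theorem N51955 : nd 51955 = n95806 := ndS (p := 27476) (l := 7) rfl N27476 D95806
theorem N51956 : nd 51956 = n95810 := ndS (p := 27478) (l := 5) rfl N27478 D95810
theorem N51957 : nd 51957 = n95813 := ndS (p := 27479) (l := 3) rfl N27479 D95813
theorem N51958 : nd 51958 = n95815 := ndS (p := 27479) (l := 5) rfl N27479 D95815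
theorem N51959 : nd 51959 = n95816 := ndS (p := 27479) (l := 6) rfl N27479 D95816
theorem N51960 : nd 51960 = n95817 := ndS (p := 27480) (l := 0) rfl N27480 D95817
theorem N51961 : nd 51961 = n95818 := ndS (p := 27480) (l := 1) rfl N27480 D95818
theorem N51962 : nd 51962 = n95819 := ndS (p := 27480) (l := 4) rfl N27480 D95819
theorem N51963 : nd 51963 = n95820 := ndS (p := 27480) (l := 7) rfl N27480 D95820
theorem N51964 : nd 51964 = n95822 := ndS (p := 27482) (l := 3) rfl N27482 D95822
theorem N51965 : nd 51965 = n95823 := ndS (p := 27482) (l := 6) rfl N27482 D95823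
theorem N51966 : nd 51966 = n95824 := ndS (p := 27483) (l := 0) rfl N27483 D95824
theorem N51967 : nd 51967 = n95825 := ndS (p := 27483) (l := 1) rfl N27483 D95825
theorem N51968 : nd 51968 = n95826 := ndS (p := 27483) (l := 3) rfl N27483 D95826
theorem N51969 : nd 51969 = n95828 := ndS (p := 27483) (l := 7) rfl N27483 D95828
theorem N51970 : nd 51970 = n95829 := ndS (p := 27484) (l := 6) rfl N27484 D95829
theorem N51971 : nd 51971 = n95830 := ndS (p := 27485) (l := 4) rfl N27485 D95830
theorem N51972 : nd 51972 = n95832 := ndS (p := 27486) (l := 0) rfl N27486 D95832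
theorem N51973 : nd 51973 = n95833 := ndS (p := 27486) (l := 1) rfl N27486 D95833
theorem N51974 : nd 51974 = n95834 := ndS (p := 27486) (l := 5) rfl N27486 D95834
theorem N51975 : nd 51975 = n95849 := ndS (p := 27488) (l := 6) rfl N27488 D95849
theorem N51976 : nd 51976 = n95851 := ndS (p := 27489) (l := 1) rfl N27489 D95851
theorem N51977 : nd 51977 = n95854 := ndS (p := 27490) (l := 6) rfl N27490 D95854
theorem N51978 : nd 51978 = n95855 := ndS (p := 27491) (l := 0) rfl N27491 D95855
theorem N51979 : nd 51979 = n95856 := ndS (p := 27491) (l := 1) rfl N27491 D95856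
theorem N51980 : nd 51980 = n95857 := ndS (p := 27491) (l := 5) rfl N27491 D95857
theorem N51981 : nd 51981 = n95858 := ndS (p := 27491) (l := 7) rfl N27491 D95858
theorem N51982 : nd 51982 = n95862 := ndS (p := 27492) (l := 5) rfl N27492 D95862
theorem N51983 : nd 51983 = n95863 := ndS (p := 27492) (l := 6) rfl N27492 D95863
theorem N51984 : nd 51984 = n95865 := ndS (p := 27493) (l := 3) rfl N27493 D95865
theorem N51985 : nd 51985 = n95867 := ndS (p := 27493) (l := 5) rfl N27493 D95867
theorem N51986 : nd 51986 = n95868 := ndS (p := 27493) (l := 6) rfl N27493 D95868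
theorem N51987 : nd 51987 = n95869 := ndS (p := 27494) (l := 0) rfl N27494 D95869
theorem N51988 : nd 51988 = n95870 := ndS (p := 27494) (l := 1) rfl N27494 D95870
theorem N51989 : nd 51989 = n95871 := ndS (p := 27494) (l := 4) rfl N27494 D95871
theorem N51990 : nd 51990 = n95872 := ndS (p := 27494) (l := 7) rfl N27494 D95872
theorem N51991 : nd 51991 = n95873 := ndS (p := 27496) (l := 3) rfl N27496 D95873
theorem N51992 : nd 51992 = n95874 := ndS (p := 27496) (l := 4) rfl N27496 D95874
theorem N51993 : nd 51993 = n95876 := ndS (p := 27497) (l := 3) rfl N27497 D95876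
theorem N51994 : nd 51994 = n95879 := ndS (p := 27498) (l := 6) rfl N27498 D95879
theorem N51995 : nd 51995 = n95880 := ndS (p := 27499) (l := 0) rfl N27499 D95880
theorem N51996 : nd 51996 = n95881 := ndS (p := 27499) (l := 1) rfl N27499 D95881
theorem N51997 : nd 51997 = n95883 := ndS (p := 27499) (l := 7) rfl N27499 D95883
theorem N51998 : nd 51998 = n95888 := ndS (p := 27500) (l := 6) rfl N27500 D95888
theorem N51999 : nd 51999 = n95890 := ndS (p := 27501) (l := 3) rfl N27501 D95890
theorem N52000 : nd 52000 = n95892 := ndS (p := 27501) (l := 5) rfl N27501 D95892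
theorem N52001 : nd 52001 = n95904 := ndS (p := 27503) (l := 0) rfl N27503 D95904
theorem N52002 : nd 52002 = n95906 := ndS (p := 27503) (l := 2) rfl N27503 D95906
theorem N52003 : nd 52003 = n95907 := ndS (p := 27503) (l := 4) rfl N27503 D95907
theorem N52004 : nd 52004 = n95908 := ndS (p := 27503) (l := 5) rfl N27503 D95908
theorem N52005 : nd 52005 = n95909 := ndS (p := 27503) (l := 6) rfl N27503 D95909
theorem N52006 : nd 52006 = n95911 := ndS (p := 27504) (l := 0) rfl N27504 D95911
theorem N52007 : nd 52007 = n95915 := ndS (p := 27504) (l := 6) rfl N27504 D95915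
theorem N52008 : nd 52008 = n95917 := ndS (p := 27505) (l := 0) rfl N27505 D95917
theorem N52009 : nd 52009 = n95918 := ndS (p := 27505) (l := 1) rfl N27505 D95918
theorem N52010 : nd 52010 = n95919 := ndS (p := 27505) (l := 4) rfl N27505 D95919
theorem N52011 : nd 52011 = n95920 := ndS (p := 27505) (l := 6) rfl N27505 D95920
theorem N52012 : nd 52012 = n95923 := ndS (p := 27506) (l := 1) rfl N27506 D95923
theorem N52013 : nd 52013 = n95924 := ndS (p := 27506) (l := 5) rfl N27506 D95924
theorem N52014 : nd 52014 = n95925 := ndS (p := 27506) (l := 7) rfl N27506 D95925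
theorem N52015 : nd 52015 = n95928 := ndS (p := 27507) (l := 1) rfl N27507 D95928
theorem N52016 : nd 52016 = n95929 := ndS (p := 27507) (l := 2) rfl N27507 D95929
theorem N52017 : nd 52017 = n95930 := ndS (p := 27507) (l := 4) rfl N27507 D95930
theorem N52018 : nd 52018 = n95931 := ndS (p := 27507) (l := 5) rfl N27507 D95931
theorem N52019 : nd 52019 = n95932 := ndS (p := 27507) (l := 6) rfl N27507 D95932
theorem N52020 : nd 52020 = n95933 := ndS (p := 27508) (l := 3) rfl N27508 D95933
theorem N52021 : nd 52021 = n95936 := ndS (p := 27509) (l := 4) rfl N27509 D95936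
theorem N52022 : nd 52022 = n95937 := ndS (p := 27509) (l := 6) rfl N27509 D95937
theorem N52023 : nd 52023 = n95938 := ndS (p := 27510) (l := 0) rfl N27510 D95938
theorem N52024 : nd 52024 = n95940 := ndS (p := 27510) (l := 5) rfl N27510 D95940
theorem N52025 : nd 52025 = n95941 := ndS (p := 27510) (l := 7) rfl N27510 D95941
theorem N52026 : nd 52026 = n95943 := ndS (p := 27511) (l := 3) rfl N27511 D95943
theorem N52027 : nd 52027 = n95944 := ndS (p := 27511) (l := 4) rfl N27511 D95944
theorem N52028 : nd 52028 = n95945 := ndS (p := 27511) (l := 5) rfl N27511 D95945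
theorem N52029 : nd 52029 = n95946 := ndS (p := 27511) (l := 6) rfl N27511 D95946
theorem N52030 : nd 52030 = n95948 := ndS (p := 27512) (l := 3) rfl N27512 D95948
theorem N52031 : nd 52031 = n95949 := ndS (p := 27512) (l := 4) rfl N27512 D95949
theorem N52032 : nd 52032 = n95950 := ndS (p := 27512) (l := 5) rfl N27512 D95950
theorem N52033 : nd 52033 = n95951 := ndS (p := 27512) (l := 6) rfl N27512 D95951
theorem N52034 : nd 52034 = n95952 := ndS (p := 27513) (l := 0) rfl N27513 D95952
theorem N52035 : nd 52035 = n95953 := ndS (p := 27513) (l := 1) rfl N27513 D95953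
theorem N52036 : nd 52036 = n95954 := ndS (p := 27513) (l := 3) rfl N27513 D95954
theorem N52037 : nd 52037 = n95955 := ndS (p := 27513) (l := 5) rfl N27513 D95955
theorem N52038 : nd 52038 = n95956 := ndS (p := 27513) (l := 7) rfl N27513 D95956
theorem N52039 : nd 52039 = n95957 := ndS (p := 27514) (l := 6) rfl N27514 D95957
theorem N52040 : nd 52040 = n95959 := ndS (p := 27515) (l := 4) rfl N27515 D95959
theorem N52041 : nd 52041 = n95960 := ndS (p := 27515) (l := 5) rfl N27515 D95960
theorem N52042 : nd 52042 = n95969 := ndS (p := 27517) (l := 0) rfl N27517 D95969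
theorem N52043 : nd 52043 = n95970 := ndS (p := 27517) (l := 1) rfl N27517 D95970
theorem N52044 : nd 52044 = n95971 := ndS (p := 27517) (l := 4) rfl N27517 D95971
theorem N52045 : nd 52045 = n95973 := ndS (p := 27518) (l := 0) rfl N27518 D95973
theorem N52046 : nd 52046 = n95974 := ndS (p := 27518) (l := 1) rfl N27518 D95974
theorem N52047 : nd 52047 = n95977 := ndS (p := 27519) (l := 3) rfl N27519 D95977
theorem N52048 : nd 52048 = n95978 := ndS (p := 27519) (l := 4) rfl N27519 D95978
theorem N52049 : nd 52049 = n95979 := ndS (p := 27519) (l := 6) rfl N27519 D95979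
theorem N52050 : nd 52050 = n95982 := ndS (p := 27520) (l := 0) rfl N27520 D95982
theorem N52051 : nd 52051 = n95983 := ndS (p := 27520) (l := 1) rfl N27520 D95983
theorem N52052 : nd 52052 = n95984 := ndS (p := 27520) (l := 3) rfl N27520 D95984
theorem N52053 : nd 52053 = n95985 := ndS (p := 27520) (l := 6) rfl N27520 D95985
theorem N52054 : nd 52054 = n95986 := ndS (p := 27521) (l := 0) rfl N27521 D95986
theorem N52055 : nd 52055 = n95987 := ndS (p := 27521) (l := 1) rfl N27521 D95987
theorem N52056 : nd 52056 = n95989 := ndS (p := 27521) (l := 7) rfl N27521 D95989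
theorem N52057 : nd 52057 = n95996 := ndS (p := 27523) (l := 5) rfl N27523 D95996
theorem N52058 : nd 52058 = n95999 := ndS (p := 27524) (l := 6) rfl N27524 D95999
theorem N52059 : nd 52059 = n96002 := ndS (p := 27525) (l := 4) rfl N27525 D96002
theorem N52060 : nd 52060 = n96003 := ndS (p := 27525) (l := 6) rfl N27525 D96003
theorem N52061 : nd 52061 = n96004 := ndS (p := 27526) (l := 0) rfl N27526 D96004
theorem N52062 : nd 52062 = n96005 := ndS (p := 27526) (l := 1) rfl N27526 D96005
theorem N52063 : nd 52063 = n96006 := ndS (p := 27526) (l := 5) rfl N27526 D96006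
theorem N52064 : nd 52064 = n96007 := ndS (p := 27527) (l := 3) rfl N27527 D96007
theorem N52065 : nd 52065 = n96008 := ndS (p := 27527) (l := 6) rfl N27527 D96008
theorem N52066 : nd 52066 = n96009 := ndS (p := 27528) (l := 0) rfl N27528 D96009
theorem N52067 : nd 52067 = n96010 := ndS (p := 27528) (l := 1) rfl N27528 D96010
theorem N52068 : nd 52068 = n96011 := ndS (p := 27528) (l := 5) rfl N27528 D96011
theorem N52069 : nd 52069 = n96012 := ndS (p := 27528) (l := 7) rfl N27528 D96012
theorem N52070 : nd 52070 = n96013 := ndS (p := 27529) (l := 4) rfl N27529 D96013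
theorem N52071 : nd 52071 = n96016 := ndS (p := 27530) (l := 2) rfl N27530 D96016
theorem N52072 : nd 52072 = n96017 := ndS (p := 27530) (l := 4) rfl N27530 D96017
theorem N52073 : nd 52073 = n96018 := ndS (p := 27530) (l := 6) rfl N27530 D96018
theorem N52074 : nd 52074 = n96019 := ndS (p := 27531) (l := 0) rfl N27531 D96019
theorem N52075 : nd 52075 = n96020 := ndS (p := 27531) (l := 1) rfl N27531 D96020
theorem N52076 : nd 52076 = n96021 := ndS (p := 27531) (l := 3) rfl N27531 D96021
theorem N52077 : nd 52077 = n96022 := ndS (p := 27531) (l := 6) rfl N27531 D96022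
theorem N52078 : nd 52078 = n96023 := ndS (p := 27532) (l := 0) rfl N27532 D96023
theorem N52079 : nd 52079 = n96024 := ndS (p := 27532) (l := 1) rfl N27532 D96024
theorem N52080 : nd 52080 = n96025 := ndS (p := 27532) (l := 5) rfl N27532 D96025
theorem N52081 : nd 52081 = n96026 := ndS (p := 27532) (l := 7) rfl N27532 D96026
theorem N52082 : nd 52082 = n96029 := ndS (p := 27533) (l := 2) rfl N27533 D96029
theorem N52083 : nd 52083 = n96030 := ndS (p := 27533) (l := 4) rfl N27533 D96030
theorem N52084 : nd 52084 = n96031 := ndS (p := 27533) (l := 6) rfl N27533 D96031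
theorem N52085 : nd 52085 = n96032 := ndS (p := 27534) (l := 3) rfl N27534 D96032
theorem N52086 : nd 52086 = n96033 := ndS (p := 27534) (l := 6) rfl N27534 D96033
theorem N52087 : nd 52087 = n96034 := ndS (p := 27535) (l := 0) rfl N27535 D96034
theorem N52088 : nd 52088 = n96035 := ndS (p := 27535) (l := 1) rfl N27535 D96035
theorem N52089 : nd 52089 = n96036 := ndS (p := 27535) (l := 7) rfl N27535 D96036
theorem N52090 : nd 52090 = n96037 := ndS (p := 27536) (l := 3) rfl N27536 D96037
theorem N52091 : nd 52091 = n96038 := ndS (p := 27536) (l := 6) rfl N27536 D96038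
theorem N52092 : nd 52092 = n96039 := ndS (p := 27537) (l := 3) rfl N27537 D96039
theorem N52093 : nd 52093 = n96040 := ndS (p := 27537) (l := 6) rfl N27537 D96040
theorem N52094 : nd 52094 = n96041 := ndS (p := 27538) (l := 0) rfl N27538 D96041
theorem N52095 : nd 52095 = n96042 := ndS (p := 27538) (l := 1) rfl N27538 D96042
theorem N52096 : nd 52096 = n96043 := ndS (p := 27538) (l := 2) rfl N27538 D96043
theorem N52097 : nd 52097 = n96044 := ndS (p := 27538) (l := 5) rfl N27538 D96044
theorem N52098 : nd 52098 = n96045 := ndS (p := 27538) (l := 7) rfl N27538 D96045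
theorem N52099 : nd 52099 = n96046 := ndS (p := 27539) (l := 6) rfl N27539 D96046
theorem N52100 : nd 52100 = n96047 := ndS (p := 27540) (l := 6) rfl N27540 D96047
theorem N52101 : nd 52101 = n96048 := ndS (p := 27541) (l := 0) rfl N27541 D96048
theorem N52102 : nd 52102 = n96049 := ndS (p := 27541) (l := 1) rfl N27541 D96049
theorem N52103 : nd 52103 = n96051 := ndS (p := 27542) (l := 0) rfl N27542 D96051
theorem N52104 : nd 52104 = n96052 := ndS (p := 27542) (l := 1) rfl N27542 D96052
theorem N52105 : nd 52105 = n96053 := ndS (p := 27542) (l := 2) rfl N27542 D96053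
theorem N52106 : nd 52106 = n96054 := ndS (p := 27542) (l := 5) rfl N27542 D96054
theorem N52107 : nd 52107 = n96055 := ndS (p := 27543) (l := 4) rfl N27543 D96055
theorem N52108 : nd 52108 = n96056 := ndS (p := 27543) (l := 6) rfl N27543 D96056
theorem N52109 : nd 52109 = n96064 := ndS (p := 27545) (l := 5) rfl N27545 D96064
theorem N52110 : nd 52110 = n96065 := ndS (p := 27545) (l := 6) rfl N27545 D96065
theorem N52111 : nd 52111 = n96067 := ndS (p := 27546) (l := 1) rfl N27546 D96067
theorem N52112 : nd 52112 = n96068 := ndS (p := 27546) (l := 4) rfl N27546 D96068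
theorem N52113 : nd 52113 = n96069 := ndS (p := 27546) (l := 6) rfl N27546 D96069
theorem N52114 : nd 52114 = n96070 := ndS (p := 27547) (l := 0) rfl N27547 D96070
theorem N52115 : nd 52115 = n96071 := ndS (p := 27547) (l := 1) rfl N27547 D96071
theorem N52116 : nd 52116 = n96072 := ndS (p := 27547) (l := 5) rfl N27547 D96072
theorem N52117 : nd 52117 = n96074 := ndS (p := 27548) (l := 3) rfl N27548 D96074
theorem N52118 : nd 52118 = n96075 := ndS (p := 27548) (l := 4) rfl N27548 D96075
theorem N52119 : nd 52119 = n96076 := ndS (p := 27548) (l := 6) rfl N27548 D96076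
theorem N52120 : nd 52120 = n96077 := ndS (p := 27549) (l := 3) rfl N27549 D96077
theorem N52121 : nd 52121 = n96078 := ndS (p := 27549) (l := 4) rfl N27549 D96078
theorem N52122 : nd 52122 = n96079 := ndS (p := 27549) (l := 6) rfl N27549 D96079
theorem N52123 : nd 52123 = n96080 := ndS (p := 27550) (l := 3) rfl N27550 D96080
theorem N52124 : nd 52124 = n96081 := ndS (p := 27550) (l := 6) rfl N27550 D96081
theorem N52125 : nd 52125 = n96082 := ndS (p := 27551) (l := 0) rfl N27551 D96082
theorem N52126 : nd 52126 = n96083 := ndS (p := 27551) (l := 1) rfl N27551 D96083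
theorem N52127 : nd 52127 = n96084 := ndS (p := 27551) (l := 5) rfl N27551 D96084
theorem N52128 : nd 52128 = n96085 := ndS (p := 27551) (l := 7) rfl N27551 D96085
theorem N52129 : nd 52129 = n96087 := ndS (p := 27553) (l := 1) rfl N27553 D96087
theorem N52130 : nd 52130 = n96088 := ndS (p := 27553) (l := 4) rfl N27553 D96088
theorem N52131 : nd 52131 = n96095 := ndS (p := 27555) (l := 2) rfl N27555 D96095
theorem N52132 : nd 52132 = n96096 := ndS (p := 27555) (l := 5) rfl N27555 D96096
theorem N52133 : nd 52133 = n96098 := ndS (p := 27556) (l := 6) rfl N27556 D96098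
theorem N52134 : nd 52134 = n96103 := ndS (p := 27558) (l := 1) rfl N27558 D96103
theorem N52135 : nd 52135 = n96105 := ndS (p := 27558) (l := 5) rfl N27558 D96105
theorem N52136 : nd 52136 = n96106 := ndS (p := 27558) (l := 6) rfl N27558 D96106
theorem N52137 : nd 52137 = n96107 := ndS (p := 27559) (l := 4) rfl N27559 D96107
theorem N52138 : nd 52138 = n96108 := ndS (p := 27559) (l := 6) rfl N27559 D96108
theorem N52139 : nd 52139 = n96111 := ndS (p := 27562) (l := 5) rfl N27562 D96111
theorem N52140 : nd 52140 = n96112 := ndS (p := 27562) (l := 6) rfl N27562 D96112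
theorem N52141 : nd 52141 = n96113 := ndS (p := 27563) (l := 0) rfl N27563 D96113
theorem N52142 : nd 52142 = n96117 := ndS (p := 27564) (l := 0) rfl N27564 D96117
theorem N52143 : nd 52143 = n96119 := ndS (p := 27565) (l := 3) rfl N27565 D96119
theorem N52144 : nd 52144 = n96120 := ndS (p := 27565) (l := 6) rfl N27565 D96120
theorem N52145 : nd 52145 = n96121 := ndS (p := 27566) (l := 0) rfl N27566 D96121
theorem N52146 : nd 52146 = n96122 := ndS (p := 27566) (l := 1) rfl N27566 D96122
theorem N52147 : nd 52147 = n96124 := ndS (p := 27566) (l := 7) rfl N27566 D96124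
theorem N52148 : nd 52148 = n96125 := ndS (p := 27567) (l := 3) rfl N27567 D96125
theorem N52149 : nd 52149 = n96130 := ndS (p := 27569) (l := 5) rfl N27569 D96130
theorem N52150 : nd 52150 = n96131 := ndS (p := 27570) (l := 6) rfl N27570 D96131
theorem N52151 : nd 52151 = n96139 := ndS (p := 27571) (l := 3) rfl N27571 D96139
theorem N52152 : nd 52152 = n96140 := ndS (p := 27571) (l := 4) rfl N27571 D96140
theorem N52153 : nd 52153 = n96143 := ndS (p := 27572) (l := 4) rfl N27572 D96143
theorem N52154 : nd 52154 = n96144 := ndS (p := 27572) (l := 6) rfl N27572 D96144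
theorem N52155 : nd 52155 = n96145 := ndS (p := 27573) (l := 0) rfl N27573 D96145
theorem N52156 : nd 52156 = n96146 := ndS (p := 27573) (l := 1) rfl N27573 D96146
theorem N52157 : nd 52157 = n96147 := ndS (p := 27573) (l := 3) rfl N27573 D96147
theorem N52158 : nd 52158 = n96148 := ndS (p := 27573) (l := 6) rfl N27573 D96148
theorem N52159 : nd 52159 = n96149 := ndS (p := 27574) (l := 0) rfl N27574 D96149
theorem N52160 : nd 52160 = n96150 := ndS (p := 27574) (l := 1) rfl N27574 D96150
theorem N52161 : nd 52161 = n96151 := ndS (p := 27574) (l := 5) rfl N27574 D96151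
theorem N52162 : nd 52162 = n96152 := ndS (p := 27574) (l := 7) rfl N27574 D96152
theorem N52163 : nd 52163 = n96153 := ndS (p := 27575) (l := 3) rfl N27575 D96153
theorem N52164 : nd 52164 = n96154 := ndS (p := 27576) (l := 3) rfl N27576 D96154
theorem N52165 : nd 52165 = n96155 := ndS (p := 27577) (l := 4) rfl N27577 D96155
theorem N52166 : nd 52166 = n96156 := ndS (p := 27578) (l := 3) rfl N27578 D96156
theorem N52167 : nd 52167 = n96159 := ndS (p := 27579) (l := 3) rfl N27579 D96159
theorem N52168 : nd 52168 = n96160 := ndS (p := 27579) (l := 4) rfl N27579 D96160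
theorem N52169 : nd 52169 = n96162 := ndS (p := 27580) (l := 3) rfl N27580 D96162
theorem N52170 : nd 52170 = n96163 := ndS (p := 27580) (l := 6) rfl N27580 D96163
theorem N52171 : nd 52171 = n96164 := ndS (p := 27581) (l := 0) rfl N27581 D96164
theorem N52172 : nd 52172 = n96165 := ndS (p := 27581) (l := 1) rfl N27581 D96165
theorem N52173 : nd 52173 = n96166 := ndS (p := 27581) (l := 5) rfl N27581 D96166
theorem N52174 : nd 52174 = n96167 := ndS (p := 27581) (l := 7) rfl N27581 D96167
theorem N52175 : nd 52175 = n96168 := ndS (p := 27582) (l := 4) rfl N27582 D96168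
theorem N52176 : nd 52176 = n96180 := ndS (p := 27583) (l := 4) rfl N27583 D96180
theorem N52177 : nd 52177 = n96181 := ndS (p := 27584) (l := 6) rfl N27584 D96181
theorem N52178 : nd 52178 = n96182 := ndS (p := 27585) (l := 3) rfl N27585 D96182
theorem N52179 : nd 52179 = n96183 := ndS (p := 27585) (l := 6) rfl N27585 D96183
theorem N52180 : nd 52180 = n96184 := ndS (p := 27586) (l := 5) rfl N27586 D96184
theorem N52181 : nd 52181 = n96186 := ndS (p := 27587) (l := 0) rfl N27587 D96186
theorem N52182 : nd 52182 = n96187 := ndS (p := 27587) (l := 1) rfl N27587 D96187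
theorem N52183 : nd 52183 = n96200 := ndS (p := 27589) (l := 5) rfl N27589 D96200
theorem N52184 : nd 52184 = n96201 := ndS (p := 27589) (l := 6) rfl N27589 D96201
theorem N52185 : nd 52185 = n96202 := ndS (p := 27590) (l := 5) rfl N27590 D96202
theorem N52186 : nd 52186 = n96203 := ndS (p := 27590) (l := 6) rfl N27590 D96203
theorem N52187 : nd 52187 = n96204 := ndS (p := 27591) (l := 6) rfl N27591 D96204
theorem N52188 : nd 52188 = n96205 := ndS (p := 27592) (l := 0) rfl N27592 D96205
theorem N52189 : nd 52189 = n96206 := ndS (p := 27592) (l := 1) rfl N27592 D96206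
theorem N52190 : nd 52190 = n96210 := ndS (p := 27594) (l := 5) rfl N27594 D96210
theorem N52191 : nd 52191 = n96211 := ndS (p := 27595) (l := 4) rfl N27595 D96211
theorem N52192 : nd 52192 = n96216 := ndS (p := 27598) (l := 6) rfl N27598 D96216
theorem N52193 : nd 52193 = n96219 := ndS (p := 27599) (l := 5) rfl N27599 D96219
theorem N52194 : nd 52194 = n96221 := ndS (p := 27600) (l := 6) rfl N27600 D96221
theorem N52195 : nd 52195 = n96222 := ndS (p := 27601) (l := 5) rfl N27601 D96222
theorem N52196 : nd 52196 = n96223 := ndS (p := 27602) (l := 6) rfl N27602 D96223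
theorem N52197 : nd 52197 = n96224 := ndS (p := 27603) (l := 3) rfl N27603 D96224
theorem N52198 : nd 52198 = n96225 := ndS (p := 27603) (l := 6) rfl N27603 D96225
theorem N52199 : nd 52199 = n96226 := ndS (p := 27604) (l := 0) rfl N27604 D96226
theorem N52200 : nd 52200 = n96227 := ndS (p := 27604) (l := 1) rfl N27604 D96227
theorem N52201 : nd 52201 = n96228 := ndS (p := 27604) (l := 5) rfl N27604 D96228
theorem N52202 : nd 52202 = n96229 := ndS (p := 27604) (l := 7) rfl N27604 D96229
theorem N52203 : nd 52203 = n96231 := ndS (p := 27605) (l := 5) rfl N27605 D96231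
theorem N52204 : nd 52204 = n96232 := ndS (p := 27605) (l := 6) rfl N27605 D96232
theorem N52205 : nd 52205 = n96234 := ndS (p := 27606) (l := 3) rfl N27606 D96234
theorem N52206 : nd 52206 = n96235 := ndS (p := 27606) (l := 5) rfl N27606 D96235
theorem N52207 : nd 52207 = n96237 := ndS (p := 27607) (l := 0) rfl N27607 D96237
theorem N52208 : nd 52208 = n96238 := ndS (p := 27607) (l := 1) rfl N27607 D96238
theorem N52209 : nd 52209 = n96239 := ndS (p := 27607) (l := 4) rfl N27607 D96239
theorem N52210 : nd 52210 = n96240 := ndS (p := 27608) (l := 2) rfl N27608 D96240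
theorem N52211 : nd 52211 = n96241 := ndS (p := 27608) (l := 6) rfl N27608 D96241
theorem N52212 : nd 52212 = n96242 := ndS (p := 27609) (l := 0) rfl N27609 D96242
theorem N52213 : nd 52213 = n96243 := ndS (p := 27609) (l := 1) rfl N27609 D96243
theorem N52214 : nd 52214 = n96244 := ndS (p := 27609) (l := 5) rfl N27609 D96244
theorem N52215 : nd 52215 = n96245 := ndS (p := 27609) (l := 7) rfl N27609 D96245
theorem N52216 : nd 52216 = n96246 := ndS (p := 27610) (l := 0) rfl N27610 D96246
theorem N52217 : nd 52217 = n96247 := ndS (p := 27610) (l := 1) rfl N27610 D96247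
theorem N52218 : nd 52218 = n96248 := ndS (p := 27610) (l := 5) rfl N27610 D96248
theorem N52219 : nd 52219 = n96249 := ndS (p := 27610) (l := 7) rfl N27610 D96249
theorem N52220 : nd 52220 = n96251 := ndS (p := 27611) (l := 6) rfl N27611 D96251
theorem N52221 : nd 52221 = n96260 := ndS (p := 27613) (l := 6) rfl N27613 D96260
theorem N52222 : nd 52222 = n96262 := ndS (p := 27614) (l := 3) rfl N27614 D96262
theorem N52223 : nd 52223 = n96264 := ndS (p := 27614) (l := 5) rfl N27614 D96264
theorem N52224 : nd 52224 = n96265 := ndS (p := 27614) (l := 6) rfl N27614 D96265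
theorem N52225 : nd 52225 = n96267 := ndS (p := 27615) (l := 1) rfl N27615 D96267
theorem N52226 : nd 52226 = n96268 := ndS (p := 27615) (l := 4) rfl N27615 D96268
theorem N52227 : nd 52227 = n96269 := ndS (p := 27615) (l := 7) rfl N27615 D96269
theorem N52228 : nd 52228 = n96270 := ndS (p := 27617) (l := 0) rfl N27617 D96270
theorem N52229 : nd 52229 = n96272 := ndS (p := 27617) (l := 2) rfl N27617 D96272
theorem N52230 : nd 52230 = n96273 := ndS (p := 27617) (l := 5) rfl N27617 D96273
theorem N52231 : nd 52231 = n96274 := ndS (p := 27618) (l := 4) rfl N27618 D96274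
theorem N52232 : nd 52232 = n96276 := ndS (p := 27619) (l := 1) rfl N27619 D96276
theorem N52233 : nd 52233 = n96277 := ndS (p := 27619) (l := 2) rfl N27619 D96277
theorem N52234 : nd 52234 = n96279 := ndS (p := 27620) (l := 4) rfl N27620 D96279
theorem N52235 : nd 52235 = n96280 := ndS (p := 27620) (l := 6) rfl N27620 D96280
theorem N52236 : nd 52236 = n96282 := ndS (p := 27621) (l := 4) rfl N27621 D96282
theorem N52237 : nd 52237 = n96287 := ndS (p := 27623) (l := 3) rfl N27623 D96287
theorem N52238 : nd 52238 = n96292 := ndS (p := 27626) (l := 3) rfl N27626 D96292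
theorem N52239 : nd 52239 = n96294 := ndS (p := 27627) (l := 0) rfl N27627 D96294
theorem N52240 : nd 52240 = n96295 := ndS (p := 27627) (l := 1) rfl N27627 D96295
theorem N52241 : nd 52241 = n96296 := ndS (p := 27627) (l := 2) rfl N27627 D96296
theorem N52242 : nd 52242 = n96297 := ndS (p := 27627) (l := 5) rfl N27627 D96297
theorem N52243 : nd 52243 = n96298 := ndS (p := 27628) (l := 4) rfl N27628 D96298
theorem N52244 : nd 52244 = n96299 := ndS (p := 27628) (l := 6) rfl N27628 D96299
theorem N52245 : nd 52245 = n96300 := ndS (p := 27629) (l := 3) rfl N27629 D96300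
theorem N52246 : nd 52246 = n96301 := ndS (p := 27629) (l := 6) rfl N27629 D96301
theorem N52247 : nd 52247 = n96303 := ndS (p := 27630) (l := 6) rfl N27630 D96303
theorem N52248 : nd 52248 = n96334 := ndS (p := 27632) (l := 3) rfl N27632 D96334
theorem N52249 : nd 52249 = n96335 := ndS (p := 27633) (l := 3) rfl N27633 D96335
theorem N52250 : nd 52250 = n96340 := ndS (p := 27635) (l := 1) rfl N27635 D96340
theorem N52251 : nd 52251 = n96342 := ndS (p := 27636) (l := 3) rfl N27636 D96342
theorem N52252 : nd 52252 = n96344 := ndS (p := 27637) (l := 0) rfl N27637 D96344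
theorem N52253 : nd 52253 = n96345 := ndS (p := 27637) (l := 1) rfl N27637 D96345
theorem N52254 : nd 52254 = n96346 := ndS (p := 27637) (l := 2) rfl N27637 D96346
theorem N52255 : nd 52255 = n96347 := ndS (p := 27637) (l := 5) rfl N27637 D96347
theorem N52256 : nd 52256 = n96348 := ndS (p := 27638) (l := 6) rfl N27638 D96348
theorem N52257 : nd 52257 = n96349 := ndS (p := 27639) (l := 0) rfl N27639 D96349
theorem N52258 : nd 52258 = n96350 := ndS (p := 27639) (l := 5) rfl N27639 D96350
theorem N52259 : nd 52259 = n96351 := ndS (p := 27639) (l := 7) rfl N27639 D96351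
theorem N52260 : nd 52260 = n96353 := ndS (p := 27640) (l := 6) rfl N27640 D96353
theorem N52261 : nd 52261 = n96355 := ndS (p := 27642) (l := 4) rfl N27642 D96355
theorem N52262 : nd 52262 = n96356 := ndS (p := 27642) (l := 6) rfl N27642 D96356
theorem N52263 : nd 52263 = n96363 := ndS (p := 27645) (l := 6) rfl N27645 D96363
theorem N52264 : nd 52264 = n96368 := ndS (p := 27648) (l := 3) rfl N27648 D96368
theorem N52265 : nd 52265 = n96370 := ndS (p := 27648) (l := 5) rfl N27648 D96370
theorem N52266 : nd 52266 = n96371 := ndS (p := 27648) (l := 6) rfl N27648 D96371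
theorem N52267 : nd 52267 = n96373 := ndS (p := 27649) (l := 3) rfl N27649 D96373
theorem N52268 : nd 52268 = n96375 := ndS (p := 27649) (l := 5) rfl N27649 D96375
theorem N52269 : nd 52269 = n96376 := ndS (p := 27649) (l := 6) rfl N27649 D96376
theorem N52270 : nd 52270 = n96377 := ndS (p := 27650) (l := 0) rfl N27650 D96377
theorem N52271 : nd 52271 = n96378 := ndS (p := 27650) (l := 1) rfl N27650 D96378
theorem N52272 : nd 52272 = n96381 := ndS (p := 27651) (l := 5) rfl N27651 D96381
theorem N52273 : nd 52273 = n96382 := ndS (p := 27651) (l := 6) rfl N27651 D96382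
theorem N52274 : nd 52274 = n96383 := ndS (p := 27652) (l := 4) rfl N27652 D96383
theorem N52275 : nd 52275 = n96384 := ndS (p := 27652) (l := 6) rfl N27652 D96384
theorem N52276 : nd 52276 = n96386 := ndS (p := 27654) (l := 1) rfl N27654 D96386
theorem N52277 : nd 52277 = n96387 := ndS (p := 27654) (l := 2) rfl N27654 D96387
theorem N52278 : nd 52278 = n96388 := ndS (p := 27654) (l := 5) rfl N27654 D96388
theorem N52279 : nd 52279 = n96390 := ndS (p := 27655) (l := 4) rfl N27655 D96390
theorem N52280 : nd 52280 = n96391 := ndS (p := 27655) (l := 6) rfl N27655 D96391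
theorem N52281 : nd 52281 = n96392 := ndS (p := 27656) (l := 3) rfl N27656 D96392
theorem N52282 : nd 52282 = n96393 := ndS (p := 27656) (l := 4) rfl N27656 D96393
theorem N52283 : nd 52283 = n96394 := ndS (p := 27656) (l := 6) rfl N27656 D96394
theorem N52284 : nd 52284 = n96395 := ndS (p := 27657) (l := 3) rfl N27657 D96395
theorem N52285 : nd 52285 = n96396 := ndS (p := 27657) (l := 4) rfl N27657 D96396
theorem N52286 : nd 52286 = n96397 := ndS (p := 27657) (l := 6) rfl N27657 D96397
theorem N52287 : nd 52287 = n96403 := ndS (p := 27658) (l := 6) rfl N27658 D96403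
theorem N52288 : nd 52288 = n96407 := ndS (p := 27660) (l := 6) rfl N27660 D96407
theorem N52289 : nd 52289 = n96415 := ndS (p := 27662) (l := 3) rfl N27662 D96415
theorem N52290 : nd 52290 = n96417 := ndS (p := 27663) (l := 0) rfl N27663 D96417
theorem N52291 : nd 52291 = n96419 := ndS (p := 27663) (l := 2) rfl N27663 D96419
theorem N52292 : nd 52292 = n96420 := ndS (p := 27663) (l := 5) rfl N27663 D96420
theorem N52293 : nd 52293 = n96424 := ndS (p := 27664) (l := 4) rfl N27664 D96424
theorem N52294 : nd 52294 = n96425 := ndS (p := 27664) (l := 6) rfl N27664 D96425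
theorem N52295 : nd 52295 = n96427 := ndS (p := 27665) (l := 3) rfl N27665 D96427
theorem N52296 : nd 52296 = n96428 := ndS (p := 27665) (l := 6) rfl N27665 D96428
theorem N52297 : nd 52297 = n96441 := ndS (p := 27667) (l := 0) rfl N27667 D96441
theorem N52298 : nd 52298 = n96442 := ndS (p := 27667) (l := 1) rfl N27667 D96442
theorem N52299 : nd 52299 = n96444 := ndS (p := 27667) (l := 5) rfl N27667 D96444
theorem N52300 : nd 52300 = n96446 := ndS (p := 27668) (l := 6) rfl N27668 D96446
theorem N52301 : nd 52301 = n96455 := ndS (p := 27669) (l := 1) rfl N27669 D96455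
theorem N52302 : nd 52302 = n96456 := ndS (p := 27669) (l := 2) rfl N27669 D96456
theorem N52303 : nd 52303 = n96459 := ndS (p := 27670) (l := 6) rfl N27670 D96459
theorem N52304 : nd 52304 = n96462 := ndS (p := 27671) (l := 0) rfl N27671 D96462
theorem N52305 : nd 52305 = n96463 := ndS (p := 27671) (l := 1) rfl N27671 D96463
theorem N52306 : nd 52306 = n96464 := ndS (p := 27671) (l := 2) rfl N27671 D96464
theorem N52307 : nd 52307 = n96465 := ndS (p := 27671) (l := 5) rfl N27671 D96465
theorem N52308 : nd 52308 = n96467 := ndS (p := 27672) (l := 6) rfl N27672 D96467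
theorem N52309 : nd 52309 = n96471 := ndS (p := 27673) (l := 3) rfl N27673 D96471
theorem N52310 : nd 52310 = n96472 := ndS (p := 27673) (l := 4) rfl N27673 D96472
theorem N52311 : nd 52311 = n96473 := ndS (p := 27673) (l := 5) rfl N27673 D96473
theorem N52312 : nd 52312 = n96478 := ndS (p := 27675) (l := 5) rfl N27675 D96478
theorem N52313 : nd 52313 = n96481 := ndS (p := 27676) (l := 4) rfl N27676 D96481
theorem N52314 : nd 52314 = n96482 := ndS (p := 27676) (l := 6) rfl N27676 D96482
theorem N52315 : nd 52315 = n96487 := ndS (p := 27677) (l := 3) rfl N27677 D96487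
theorem N52316 : nd 52316 = n96488 := ndS (p := 27677) (l := 6) rfl N27677 D96488
theorem N52317 : nd 52317 = n96489 := ndS (p := 27678) (l := 0) rfl N27678 D96489
theorem N52318 : nd 52318 = n96490 := ndS (p := 27678) (l := 1) rfl N27678 D96490
theorem N52319 : nd 52319 = n96491 := ndS (p := 27678) (l := 7) rfl N27678 D96491
theorem N52320 : nd 52320 = n96492 := ndS (p := 27679) (l := 3) rfl N27679 D96492
theorem N52321 : nd 52321 = n96524 := ndS (p := 27682) (l := 6) rfl N27682 D96524
theorem N52322 : nd 52322 = n96525 := ndS (p := 27683) (l := 6) rfl N27683 D96525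
theorem N52323 : nd 52323 = n96528 := ndS (p := 27684) (l := 5) rfl N27684 D96528
theorem N52324 : nd 52324 = n96531 := ndS (p := 27686) (l := 0) rfl N27686 D96531
theorem N52325 : nd 52325 = n96532 := ndS (p := 27686) (l := 1) rfl N27686 D96532
theorem N52326 : nd 52326 = n96533 := ndS (p := 27686) (l := 5) rfl N27686 D96533
theorem N52327 : nd 52327 = n96534 := ndS (p := 27686) (l := 7) rfl N27686 D96534
theorem N52328 : nd 52328 = n96537 := ndS (p := 27687) (l := 4) rfl N27687 D96537
theorem N52329 : nd 52329 = n96538 := ndS (p := 27687) (l := 5) rfl N27687 D96538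
theorem N52330 : nd 52330 = n96539 := ndS (p := 27687) (l := 6) rfl N27687 D96539
theorem N52331 : nd 52331 = n96541 := ndS (p := 27688) (l := 3) rfl N27688 D96541
theorem N52332 : nd 52332 = n96542 := ndS (p := 27688) (l := 4) rfl N27688 D96542
theorem N52333 : nd 52333 = n96543 := ndS (p := 27688) (l := 5) rfl N27688 D96543
theorem N52334 : nd 52334 = n96544 := ndS (p := 27688) (l := 6) rfl N27688 D96544
theorem N52335 : nd 52335 = n96545 := ndS (p := 27689) (l := 0) rfl N27689 D96545
theorem N52336 : nd 52336 = n96546 := ndS (p := 27689) (l := 1) rfl N27689 D96546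
theorem N52337 : nd 52337 = n96547 := ndS (p := 27689) (l := 4) rfl N27689 D96547
theorem N52338 : nd 52338 = n96550 := ndS (p := 27690) (l := 3) rfl N27690 D96550
theorem N52339 : nd 52339 = n96551 := ndS (p := 27690) (l := 4) rfl N27690 D96551
theorem N52340 : nd 52340 = n96552 := ndS (p := 27690) (l := 5) rfl N27690 D96552
theorem N52341 : nd 52341 = n96553 := ndS (p := 27690) (l := 6) rfl N27690 D96553
theorem N52342 : nd 52342 = n96555 := ndS (p := 27691) (l := 3) rfl N27691 D96555
theorem N52343 : nd 52343 = n96556 := ndS (p := 27691) (l := 4) rfl N27691 D96556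
theorem N52344 : nd 52344 = n96557 := ndS (p := 27691) (l := 5) rfl N27691 D96557
theorem N52345 : nd 52345 = n96558 := ndS (p := 27691) (l := 6) rfl N27691 D96558
theorem N52346 : nd 52346 = n96559 := ndS (p := 27692) (l := 0) rfl N27692 D96559
theorem N52347 : nd 52347 = n96560 := ndS (p := 27692) (l := 1) rfl N27692 D96560
theorem N52348 : nd 52348 = n96562 := ndS (p := 27692) (l := 7) rfl N27692 D96562
theorem N52349 : nd 52349 = n96631 := ndS (p := 27694) (l := 6) rfl N27694 D96631
theorem N52350 : nd 52350 = n96650 := ndS (p := 27698) (l := 4) rfl N27698 D96650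
theorem N52351 : nd 52351 = n96652 := ndS (p := 27699) (l := 3) rfl N27699 D96652
theorem N52352 : nd 52352 = n96653 := ndS (p := 27699) (l := 5) rfl N27699 D96653
theorem N52353 : nd 52353 = n96654 := ndS (p := 27700) (l := 6) rfl N27700 D96654
theorem N52354 : nd 52354 = n96662 := ndS (p := 27703) (l := 5) rfl N27703 D96662
theorem N52355 : nd 52355 = n96666 := ndS (p := 27704) (l := 5) rfl N27704 D96666
theorem N52356 : nd 52356 = n96668 := ndS (p := 27705) (l := 0) rfl N27705 D96668
theorem N52357 : nd 52357 = n96669 := ndS (p := 27705) (l := 1) rfl N27705 D96669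
theorem N52358 : nd 52358 = n96670 := ndS (p := 27705) (l := 4) rfl N27705 D96670
theorem N52359 : nd 52359 = n96673 := ndS (p := 27707) (l := 3) rfl N27707 D96673
theorem N52360 : nd 52360 = n96674 := ndS (p := 27707) (l := 5) rfl N27707 D96674
theorem N52361 : nd 52361 = n96675 := ndS (p := 27707) (l := 7) rfl N27707 D96675
theorem N52362 : nd 52362 = n96676 := ndS (p := 27709) (l := 0) rfl N27709 D96676
theorem N52363 : nd 52363 = n96677 := ndS (p := 27709) (l := 1) rfl N27709 D96677
theorem N52364 : nd 52364 = n96678 := ndS (p := 27709) (l := 2) rfl N27709 D96678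
theorem N52365 : nd 52365 = n96679 := ndS (p := 27709) (l := 5) rfl N27709 D96679
theorem N52366 : nd 52366 = n96680 := ndS (p := 27710) (l := 6) rfl N27710 D96680
theorem N52367 : nd 52367 = n96681 := ndS (p := 27711) (l := 6) rfl N27711 D96681
theorem N52368 : nd 52368 = n96684 := ndS (p := 27713) (l := 1) rfl N27713 D96684
theorem N52369 : nd 52369 = n96685 := ndS (p := 27713) (l := 5) rfl N27713 D96685
theorem N52370 : nd 52370 = n96686 := ndS (p := 27713) (l := 7) rfl N27713 D96686
theorem N52371 : nd 52371 = n96690 := ndS (p := 27714) (l := 7) rfl N27714 D96690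
theorem N52372 : nd 52372 = n96700 := ndS (p := 27716) (l := 7) rfl N27716 D96700
theorem N52373 : nd 52373 = n96709 := ndS (p := 27720) (l := 5) rfl N27720 D96709
theorem N52374 : nd 52374 = n96710 := ndS (p := 27720) (l := 7) rfl N27720 D96710
theorem N52375 : nd 52375 = n96715 := ndS (p := 27723) (l := 6) rfl N27723 D96715
theorem N52376 : nd 52376 = n96717 := ndS (p := 27725) (l := 4) rfl N27725 D96717
theorem N52377 : nd 52377 = n96726 := ndS (p := 27726) (l := 7) rfl N27726 D96726
theorem N52378 : nd 52378 = n96727 := ndS (p := 27727) (l := 3) rfl N27727 D96727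
theorem N52379 : nd 52379 = n96729 := ndS (p := 27727) (l := 6) rfl N27727 D96729
theorem N52380 : nd 52380 = n96740 := ndS (p := 27732) (l := 4) rfl N27732 D96740
theorem N52381 : nd 52381 = n96741 := ndS (p := 27732) (l := 6) rfl N27732 D96741
theorem N52382 : nd 52382 = n96742 := ndS (p := 27733) (l := 3) rfl N27733 D96742
theorem N52383 : nd 52383 = n96744 := ndS (p := 27734) (l := 6) rfl N27734 D96744
theorem N52384 : nd 52384 = n96746 := ndS (p := 27735) (l := 1) rfl N27735 D96746
theorem N52385 : nd 52385 = n96748 := ndS (p := 27735) (l := 7) rfl N27735 D96748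
theorem N52386 : nd 52386 = n96752 := ndS (p := 27737) (l := 3) rfl N27737 D96752
theorem N52387 : nd 52387 = n96778 := ndS (p := 27744) (l := 3) rfl N27744 D96778
theorem N52388 : nd 52388 = n96781 := ndS (p := 27744) (l := 6) rfl N27744 D96781
theorem N52389 : nd 52389 = n96787 := ndS (p := 27746) (l := 0) rfl N27746 D96787
theorem N52390 : nd 52390 = n96788 := ndS (p := 27746) (l := 1) rfl N27746 D96788
theorem N52391 : nd 52391 = n96946 := ndS (p := 27749) (l := 6) rfl N27749 D96946
theorem N52392 : nd 52392 = n96947 := ndS (p := 27750) (l := 6) rfl N27750 D96947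
theorem N52393 : nd 52393 = n96948 := ndS (p := 27751) (l := 6) rfl N27751 D96948
theorem N52394 : nd 52394 = n96949 := ndS (p := 27752) (l := 0) rfl N27752 D96949
theorem N52395 : nd 52395 = n96950 := ndS (p := 27752) (l := 1) rfl N27752 D96950
theorem N52396 : nd 52396 = n96951 := ndS (p := 27752) (l := 5) rfl N27752 D96951
theorem N52397 : nd 52397 = n96954 := ndS (p := 27754) (l := 4) rfl N27754 D96954
theorem N52398 : nd 52398 = n96957 := ndS (p := 27755) (l := 5) rfl N27755 D96957
theorem N52399 : nd 52399 = n96959 := ndS (p := 27756) (l := 6) rfl N27756 D96959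
theorem N52400 : nd 52400 = n96962 := ndS (p := 27757) (l := 5) rfl N27757 D96962
theorem N52401 : nd 52401 = n96964 := ndS (p := 27759) (l := 5) rfl N27759 D96964
theorem N52402 : nd 52402 = n96965 := ndS (p := 27759) (l := 7) rfl N27759 D96965
theorem N52403 : nd 52403 = n96966 := ndS (p := 27760) (l := 0) rfl N27760 D96966
theorem N52404 : nd 52404 = n96967 := ndS (p := 27760) (l := 1) rfl N27760 D96967
theorem N52405 : nd 52405 = n96968 := ndS (p := 27760) (l := 5) rfl N27760 D96968
theorem N52406 : nd 52406 = n96969 := ndS (p := 27760) (l := 7) rfl N27760 D96969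
theorem N52407 : nd 52407 = n96971 := ndS (p := 27761) (l := 5) rfl N27761 D96971
theorem N52408 : nd 52408 = n96972 := ndS (p := 27761) (l := 6) rfl N27761 D96972
theorem N52409 : nd 52409 = n96974 := ndS (p := 27762) (l := 3) rfl N27762 D96974
theorem N52410 : nd 52410 = n96975 := ndS (p := 27762) (l := 5) rfl N27762 D96975
theorem N52411 : nd 52411 = n96976 := ndS (p := 27762) (l := 6) rfl N27762 D96976
theorem N52412 : nd 52412 = n96977 := ndS (p := 27763) (l := 0) rfl N27763 D96977
theorem N52413 : nd 52413 = n96978 := ndS (p := 27763) (l := 1) rfl N27763 D96978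
theorem N52414 : nd 52414 = n96979 := ndS (p := 27763) (l := 4) rfl N27763 D96979
theorem N52415 : nd 52415 = n96980 := ndS (p := 27763) (l := 7) rfl N27763 D96980
theorem N52416 : nd 52416 = n96982 := ndS (p := 27765) (l := 3) rfl N27765 D96982
theorem N52417 : nd 52417 = n96984 := ndS (p := 27765) (l := 5) rfl N27765 D96984
theorem N52418 : nd 52418 = n96987 := ndS (p := 27766) (l := 3) rfl N27766 D96987
theorem N52419 : nd 52419 = n96989 := ndS (p := 27766) (l := 5) rfl N27766 D96989
theorem N52420 : nd 52420 = n96990 := ndS (p := 27766) (l := 6) rfl N27766 D96990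
theorem N52421 : nd 52421 = n96991 := ndS (p := 27767) (l := 0) rfl N27767 D96991
theorem N52422 : nd 52422 = n96992 := ndS (p := 27767) (l := 1) rfl N27767 D96992
theorem N52423 : nd 52423 = n96993 := ndS (p := 27767) (l := 4) rfl N27767 D96993
theorem N52424 : nd 52424 = n96994 := ndS (p := 27767) (l := 7) rfl N27767 D96994
theorem N52425 : nd 52425 = n96995 := ndS (p := 27769) (l := 0) rfl N27769 D96995
theorem N52426 : nd 52426 = n96997 := ndS (p := 27769) (l := 2) rfl N27769 D96997
theorem N52427 : nd 52427 = n96998 := ndS (p := 27769) (l := 5) rfl N27769 D96998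
theorem N52428 : nd 52428 = n96999 := ndS (p := 27769) (l := 6) rfl N27769 D96999
theorem N52429 : nd 52429 = n97000 := ndS (p := 27770) (l := 4) rfl N27770 D97000
theorem N52430 : nd 52430 = n97001 := ndS (p := 27770) (l := 6) rfl N27770 D97001
theorem N52431 : nd 52431 = n97002 := ndS (p := 27772) (l := 5) rfl N27772 D97002
theorem N52432 : nd 52432 = n97003 := ndS (p := 27772) (l := 6) rfl N27772 D97003
theorem N52433 : nd 52433 = n97004 := ndS (p := 27773) (l := 4) rfl N27773 D97004
theorem N52434 : nd 52434 = n97005 := ndS (p := 27773) (l := 6) rfl N27773 D97005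
theorem N52435 : nd 52435 = n97006 := ndS (p := 27774) (l := 5) rfl N27774 D97006
theorem N52436 : nd 52436 = n97007 := ndS (p := 27775) (l := 3) rfl N27775 D97007
theorem N52437 : nd 52437 = n97008 := ndS (p := 27775) (l := 6) rfl N27775 D97008
theorem N52438 : nd 52438 = n97009 := ndS (p := 27776) (l := 3) rfl N27776 D97009
theorem N52439 : nd 52439 = n97010 := ndS (p := 27776) (l := 6) rfl N27776 D97010
theorem N52440 : nd 52440 = n97011 := ndS (p := 27777) (l := 0) rfl N27777 D97011
theorem N52441 : nd 52441 = n97012 := ndS (p := 27777) (l := 1) rfl N27777 D97012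
theorem N52442 : nd 52442 = n97013 := ndS (p := 27777) (l := 3) rfl N27777 D97013
theorem N52443 : nd 52443 = n97014 := ndS (p := 27777) (l := 5) rfl N27777 D97014
theorem N52444 : nd 52444 = n97015 := ndS (p := 27777) (l := 7) rfl N27777 D97015
theorem N52445 : nd 52445 = n97016 := ndS (p := 27778) (l := 6) rfl N27778 D97016
theorem N52446 : nd 52446 = n97017 := ndS (p := 27779) (l := 5) rfl N27779 D97017
theorem N52447 : nd 52447 = n97018 := ndS (p := 27780) (l := 4) rfl N27780 D97018
theorem N52448 : nd 52448 = n97019 := ndS (p := 27780) (l := 6) rfl N27780 D97019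
theorem N52449 : nd 52449 = n97020 := ndS (p := 27781) (l := 3) rfl N27781 D97020
theorem N52450 : nd 52450 = n97021 := ndS (p := 27781) (l := 5) rfl N27781 D97021
theorem N52451 : nd 52451 = n97029 := ndS (p := 27782) (l := 5) rfl N27782 D97029
theorem N52452 : nd 52452 = n97036 := ndS (p := 27784) (l := 0) rfl N27784 D97036
theorem N52453 : nd 52453 = n97038 := ndS (p := 27784) (l := 4) rfl N27784 D97038
theorem N52454 : nd 52454 = n97041 := ndS (p := 27785) (l := 5) rfl N27785 D97041
theorem N52455 : nd 52455 = n97043 := ndS (p := 27786) (l := 6) rfl N27786 D97043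
theorem N52456 : nd 52456 = n97044 := ndS (p := 27787) (l := 5) rfl N27787 D97044
theorem N52457 : nd 52457 = n97047 := ndS (p := 27788) (l := 0) rfl N27788 D97047
theorem N52458 : nd 52458 = n97049 := ndS (p := 27788) (l := 5) rfl N27788 D97049
theorem N52459 : nd 52459 = n97050 := ndS (p := 27788) (l := 7) rfl N27788 D97050
theorem N52460 : nd 52460 = n97051 := ndS (p := 27789) (l := 5) rfl N27789 D97051
theorem N52461 : nd 52461 = n97053 := ndS (p := 27790) (l := 0) rfl N27790 D97053
theorem N52462 : nd 52462 = n97054 := ndS (p := 27790) (l := 4) rfl N27790 D97054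
theorem N52463 : nd 52463 = n97056 := ndS (p := 27791) (l := 3) rfl N27791 D97056
theorem N52464 : nd 52464 = n97058 := ndS (p := 27791) (l := 5) rfl N27791 D97058
theorem N52465 : nd 52465 = n97059 := ndS (p := 27791) (l := 6) rfl N27791 D97059
theorem N52466 : nd 52466 = n97061 := ndS (p := 27792) (l := 3) rfl N27792 D97061
theorem N52467 : nd 52467 = n97063 := ndS (p := 27792) (l := 5) rfl N27792 D97063
theorem N52468 : nd 52468 = n97064 := ndS (p := 27792) (l := 6) rfl N27792 D97064
theorem N52469 : nd 52469 = n97065 := ndS (p := 27793) (l := 0) rfl N27793 D97065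
theorem N52470 : nd 52470 = n97066 := ndS (p := 27793) (l := 1) rfl N27793 D97066
theorem N52471 : nd 52471 = n97067 := ndS (p := 27793) (l := 4) rfl N27793 D97067
theorem N52472 : nd 52472 = n97068 := ndS (p := 27793) (l := 7) rfl N27793 D97068
theorem N52473 : nd 52473 = n97069 := ndS (p := 27795) (l := 4) rfl N27795 D97069
theorem N52474 : nd 52474 = n97070 := ndS (p := 27795) (l := 6) rfl N27795 D97070
theorem N52475 : nd 52475 = n97072 := ndS (p := 27797) (l := 1) rfl N27797 D97072
theorem N52476 : nd 52476 = n97073 := ndS (p := 27797) (l := 2) rfl N27797 D97073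
theorem N52477 : nd 52477 = n97074 := ndS (p := 27797) (l := 5) rfl N27797 D97074
theorem N52478 : nd 52478 = n97075 := ndS (p := 27797) (l := 6) rfl N27797 D97075
theorem N52479 : nd 52479 = n97076 := ndS (p := 27798) (l := 4) rfl N27798 D97076
theorem N52480 : nd 52480 = n97077 := ndS (p := 27798) (l := 6) rfl N27798 D97077
theorem N52481 : nd 52481 = n97078 := ndS (p := 27800) (l := 3) rfl N27800 D97078
theorem N52482 : nd 52482 = n97079 := ndS (p := 27800) (l := 6) rfl N27800 D97079
theorem N52483 : nd 52483 = n97080 := ndS (p := 27801) (l := 3) rfl N27801 D97080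
theorem N52484 : nd 52484 = n97082 := ndS (p := 27802) (l := 3) rfl N27802 D97082
theorem N52485 : nd 52485 = n97083 := ndS (p := 27803) (l := 6) rfl N27803 D97083
theorem N52486 : nd 52486 = n97084 := ndS (p := 27804) (l := 6) rfl N27804 D97084
theorem N52487 : nd 52487 = n97087 := ndS (p := 27805) (l := 5) rfl N27805 D97087
theorem N52488 : nd 52488 = n97089 := ndS (p := 27806) (l := 5) rfl N27806 D97089
theorem N52489 : nd 52489 = n97090 := ndS (p := 27806) (l := 6) rfl N27806 D97090
theorem N52490 : nd 52490 = n97091 := ndS (p := 27807) (l := 4) rfl N27807 D97091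
theorem N52491 : nd 52491 = n97092 := ndS (p := 27807) (l := 6) rfl N27807 D97092
theorem N52492 : nd 52492 = n97095 := ndS (p := 27808) (l := 5) rfl N27808 D97095
theorem N52493 : nd 52493 = n97097 := ndS (p := 27809) (l := 4) rfl N27809 D97097
theorem N52494 : nd 52494 = n97098 := ndS (p := 27809) (l := 6) rfl N27809 D97098
theorem N52495 : nd 52495 = n97099 := ndS (p := 27810) (l := 0) rfl N27810 D97099
theorem N52496 : nd 52496 = n97100 := ndS (p := 27810) (l := 1) rfl N27810 D97100
theorem N52497 : nd 52497 = n97101 := ndS (p := 27810) (l := 5) rfl N27810 D97101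
theorem N52498 : nd 52498 = n97102 := ndS (p := 27810) (l := 7) rfl N27810 D97102
theorem N52499 : nd 52499 = n97106 := ndS (p := 27812) (l := 6) rfl N27812 D97106
theorem N52500 : nd 52500 = n97107 := ndS (p := 27813) (l := 1) rfl N27813 D97107
theorem N52501 : nd 52501 = n97108 := ndS (p := 27813) (l := 5) rfl N27813 D97108
theorem N52502 : nd 52502 = n97109 := ndS (p := 27813) (l := 6) rfl N27813 D97109
theorem N52503 : nd 52503 = n97110 := ndS (p := 27814) (l := 0) rfl N27814 D97110
theorem N52504 : nd 52504 = n97111 := ndS (p := 27814) (l := 1) rfl N27814 D97111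
theorem N52505 : nd 52505 = n97112 := ndS (p := 27814) (l := 5) rfl N27814 D97112
theorem N52506 : nd 52506 = n97113 := ndS (p := 27814) (l := 7) rfl N27814 D97113
theorem N52507 : nd 52507 = n97115 := ndS (p := 27815) (l := 4) rfl N27815 D97115
theorem N52508 : nd 52508 = n97116 := ndS (p := 27815) (l := 5) rfl N27815 D97116
theorem N52509 : nd 52509 = n97117 := ndS (p := 27815) (l := 6) rfl N27815 D97117
theorem N52510 : nd 52510 = n97119 := ndS (p := 27816) (l := 3) rfl N27816 D97119
theorem N52511 : nd 52511 = n97120 := ndS (p := 27816) (l := 4) rfl N27816 D97120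
theorem N52512 : nd 52512 = n97121 := ndS (p := 27816) (l := 5) rfl N27816 D97121
theorem N52513 : nd 52513 = n97122 := ndS (p := 27816) (l := 6) rfl N27816 D97122
theorem N52514 : nd 52514 = n97123 := ndS (p := 27817) (l := 0) rfl N27817 D97123
theorem N52515 : nd 52515 = n97124 := ndS (p := 27817) (l := 1) rfl N27817 D97124
theorem N52516 : nd 52516 = n97125 := ndS (p := 27817) (l := 4) rfl N27817 D97125
theorem N52517 : nd 52517 = n97126 := ndS (p := 27817) (l := 7) rfl N27817 D97126
theorem N52518 : nd 52518 = n97128 := ndS (p := 27819) (l := 3) rfl N27819 D97128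
theorem N52519 : nd 52519 = n97130 := ndS (p := 27819) (l := 5) rfl N27819 D97130
theorem N52520 : nd 52520 = n97135 := ndS (p := 27820) (l := 5) rfl N27820 D97135
theorem N52521 : nd 52521 = n97136 := ndS (p := 27820) (l := 6) rfl N27820 D97136
theorem N52522 : nd 52522 = n97137 := ndS (p := 27821) (l := 0) rfl N27821 D97137
theorem N52523 : nd 52523 = n97138 := ndS (p := 27821) (l := 1) rfl N27821 D97138
theorem N52524 : nd 52524 = n97139 := ndS (p := 27821) (l := 4) rfl N27821 D97139
theorem N52525 : nd 52525 = n97140 := ndS (p := 27821) (l := 7) rfl N27821 D97140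
theorem N52526 : nd 52526 = n97141 := ndS (p := 27823) (l := 3) rfl N27823 D97141
theorem N52527 : nd 52527 = n97142 := ndS (p := 27823) (l := 6) rfl N27823 D97142
theorem N52528 : nd 52528 = n97143 := ndS (p := 27824) (l := 6) rfl N27824 D97143
theorem N52529 : nd 52529 = n97144 := ndS (p := 27825) (l := 3) rfl N27825 D97144
theorem N52530 : nd 52530 = n97145 := ndS (p := 27825) (l := 5) rfl N27825 D97145
theorem N52531 : nd 52531 = n97146 := ndS (p := 27825) (l := 7) rfl N27825 D97146
theorem N52532 : nd 52532 = n97147 := ndS (p := 27826) (l := 6) rfl N27826 D97147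
theorem N52533 : nd 52533 = n97148 := ndS (p := 27827) (l := 6) rfl N27827 D97148
theorem N52534 : nd 52534 = n97151 := ndS (p := 27828) (l := 5) rfl N27828 D97151
theorem N52535 : nd 52535 = n97155 := ndS (p := 27829) (l := 5) rfl N27829 D97155
theorem N52536 : nd 52536 = n97157 := ndS (p := 27830) (l := 5) rfl N27830 D97157
theorem N52537 : nd 52537 = n97159 := ndS (p := 27831) (l := 3) rfl N27831 D97159
theorem N52538 : nd 52538 = n97160 := ndS (p := 27831) (l := 5) rfl N27831 D97160
theorem N52539 : nd 52539 = n97161 := ndS (p := 27831) (l := 6) rfl N27831 D97161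
theorem N52540 : nd 52540 = n97163 := ndS (p := 27832) (l := 5) rfl N27832 D97163
theorem N52541 : nd 52541 = n97164 := ndS (p := 27832) (l := 6) rfl N27832 D97164
theorem N52542 : nd 52542 = n97165 := ndS (p := 27833) (l := 0) rfl N27833 D97165
theorem N52543 : nd 52543 = n97166 := ndS (p := 27833) (l := 1) rfl N27833 D97166
theorem N52544 : nd 52544 = n97167 := ndS (p := 27833) (l := 4) rfl N27833 D97167
theorem N52545 : nd 52545 = n97172 := ndS (p := 27834) (l := 6) rfl N27834 D97172
theorem N52546 : nd 52546 = n97174 := ndS (p := 27835) (l := 3) rfl N27835 D97174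
theorem N52547 : nd 52547 = n97176 := ndS (p := 27835) (l := 5) rfl N27835 D97176
theorem N52548 : nd 52548 = n97178 := ndS (p := 27836) (l := 0) rfl N27836 D97178
theorem N52549 : nd 52549 = n97180 := ndS (p := 27836) (l := 4) rfl N27836 D97180
theorem N52550 : nd 52550 = n97181 := ndS (p := 27836) (l := 7) rfl N27836 D97181
theorem N52551 : nd 52551 = n97182 := ndS (p := 27838) (l := 3) rfl N27838 D97182
theorem N52552 : nd 52552 = n97184 := ndS (p := 27839) (l := 3) rfl N27839 D97184
theorem N52553 : nd 52553 = n97185 := ndS (p := 27840) (l := 4) rfl N27840 D97185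
theorem N52554 : nd 52554 = n97186 := ndS (p := 27840) (l := 6) rfl N27840 D97186
theorem N52555 : nd 52555 = n97187 := ndS (p := 27841) (l := 1) rfl N27841 D97187
theorem N52556 : nd 52556 = n97189 := ndS (p := 27841) (l := 6) rfl N27841 D97189
theorem N52557 : nd 52557 = n97190 := ndS (p := 27842) (l := 0) rfl N27842 D97190
theorem N52558 : nd 52558 = n97191 := ndS (p := 27842) (l := 1) rfl N27842 D97191
theorem N52559 : nd 52559 = n97192 := ndS (p := 27842) (l := 5) rfl N27842 D97192
theorem N52560 : nd 52560 = n97193 := ndS (p := 27842) (l := 7) rfl N27842 D97193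
theorem N52561 : nd 52561 = n97197 := ndS (p := 27843) (l := 5) rfl N27843 D97197
theorem N52562 : nd 52562 = n97198 := ndS (p := 27843) (l := 6) rfl N27843 D97198
theorem N52563 : nd 52563 = n97203 := ndS (p := 27844) (l := 6) rfl N27844 D97203
theorem N52564 : nd 52564 = n97204 := ndS (p := 27845) (l := 0) rfl N27845 D97204
theorem N52565 : nd 52565 = n97205 := ndS (p := 27845) (l := 1) rfl N27845 D97205
theorem N52566 : nd 52566 = n97206 := ndS (p := 27845) (l := 4) rfl N27845 D97206
theorem N52567 : nd 52567 = n97207 := ndS (p := 27845) (l := 7) rfl N27845 D97207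
theorem N52568 : nd 52568 = n97208 := ndS (p := 27847) (l := 6) rfl N27847 D97208
theorem N52569 : nd 52569 = n97209 := ndS (p := 27848) (l := 0) rfl N27848 D97209
theorem N52570 : nd 52570 = n97210 := ndS (p := 27848) (l := 1) rfl N27848 D97210
theorem N52571 : nd 52571 = n97211 := ndS (p := 27848) (l := 5) rfl N27848 D97211
theorem N52572 : nd 52572 = n97223 := ndS (p := 27849) (l := 0) rfl N27849 D97223
theorem N52573 : nd 52573 = n97227 := ndS (p := 27850) (l := 3) rfl N27850 D97227
theorem N52574 : nd 52574 = n97228 := ndS (p := 27850) (l := 4) rfl N27850 D97228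
theorem N52575 : nd 52575 = n97231 := ndS (p := 27851) (l := 4) rfl N27851 D97231
theorem N52576 : nd 52576 = n97233 := ndS (p := 27852) (l := 0) rfl N27852 D97233
theorem N52577 : nd 52577 = n97235 := ndS (p := 27852) (l := 5) rfl N27852 D97235
theorem N52578 : nd 52578 = n97236 := ndS (p := 27852) (l := 7) rfl N27852 D97236
theorem N52579 : nd 52579 = n97238 := ndS (p := 27853) (l := 3) rfl N27853 D97238
theorem N52580 : nd 52580 = n97240 := ndS (p := 27853) (l := 5) rfl N27853 D97240
theorem N52581 : nd 52581 = n97243 := ndS (p := 27854) (l := 3) rfl N27854 D97243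
theorem N52582 : nd 52582 = n97245 := ndS (p := 27854) (l := 5) rfl N27854 D97245
theorem N52583 : nd 52583 = n97246 := ndS (p := 27854) (l := 6) rfl N27854 D97246
theorem N52584 : nd 52584 = n97248 := ndS (p := 27855) (l := 1) rfl N27855 D97248
theorem N52585 : nd 52585 = n97249 := ndS (p := 27855) (l := 4) rfl N27855 D97249
theorem N52586 : nd 52586 = n97250 := ndS (p := 27855) (l := 7) rfl N27855 D97250
theorem N52587 : nd 52587 = n97257 := ndS (p := 27857) (l := 0) rfl N27857 D97257
theorem N52588 : nd 52588 = n97259 := ndS (p := 27857) (l := 2) rfl N27857 D97259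
theorem N52589 : nd 52589 = n97261 := ndS (p := 27857) (l := 5) rfl N27857 D97261
theorem N52590 : nd 52590 = n97262 := ndS (p := 27857) (l := 6) rfl N27857 D97262
theorem N52591 : nd 52591 = n97264 := ndS (p := 27858) (l := 0) rfl N27858 D97264
theorem N52592 : nd 52592 = n97266 := ndS (p := 27858) (l := 3) rfl N27858 D97266
theorem N52593 : nd 52593 = n97268 := ndS (p := 27858) (l := 6) rfl N27858 D97268
theorem N52594 : nd 52594 = n97270 := ndS (p := 27859) (l := 0) rfl N27859 D97270
theorem N52595 : nd 52595 = n97271 := ndS (p := 27859) (l := 1) rfl N27859 D97271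
theorem N52596 : nd 52596 = n97272 := ndS (p := 27859) (l := 4) rfl N27859 D97272
theorem N52597 : nd 52597 = n97273 := ndS (p := 27859) (l := 6) rfl N27859 D97273
theorem N52598 : nd 52598 = n97276 := ndS (p := 27860) (l := 1) rfl N27860 D97276
theorem N52599 : nd 52599 = n97277 := ndS (p := 27860) (l := 5) rfl N27860 D97277
theorem N52600 : nd 52600 = n97278 := ndS (p := 27860) (l := 7) rfl N27860 D97278
theorem N52601 : nd 52601 = n97281 := ndS (p := 27861) (l := 1) rfl N27861 D97281
theorem N52602 : nd 52602 = n97282 := ndS (p := 27861) (l := 2) rfl N27861 D97282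
theorem N52603 : nd 52603 = n97284 := ndS (p := 27861) (l := 5) rfl N27861 D97284
theorem N52604 : nd 52604 = n97285 := ndS (p := 27861) (l := 6) rfl N27861 D97285
theorem N52605 : nd 52605 = n97286 := ndS (p := 27862) (l := 3) rfl N27862 D97286
theorem N52606 : nd 52606 = n97287 := ndS (p := 27862) (l := 5) rfl N27862 D97287
theorem N52607 : nd 52607 = n97288 := ndS (p := 27862) (l := 6) rfl N27862 D97288
theorem N52608 : nd 52608 = n97289 := ndS (p := 27863) (l := 4) rfl N27863 D97289
theorem N52609 : nd 52609 = n97290 := ndS (p := 27863) (l := 6) rfl N27863 D97290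
theorem N52610 : nd 52610 = n97291 := ndS (p := 27864) (l := 0) rfl N27864 D97291
theorem N52611 : nd 52611 = n97293 := ndS (p := 27864) (l := 5) rfl N27864 D97293
theorem N52612 : nd 52612 = n97294 := ndS (p := 27864) (l := 7) rfl N27864 D97294
theorem N52613 : nd 52613 = n97296 := ndS (p := 27865) (l := 3) rfl N27865 D97296
theorem N52614 : nd 52614 = n97297 := ndS (p := 27865) (l := 4) rfl N27865 D97297
theorem N52615 : nd 52615 = n97299 := ndS (p := 27865) (l := 6) rfl N27865 D97299
theorem N52616 : nd 52616 = n97301 := ndS (p := 27866) (l := 3) rfl N27866 D97301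
theorem N52617 : nd 52617 = n97302 := ndS (p := 27866) (l := 4) rfl N27866 D97302
theorem N52618 : nd 52618 = n97303 := ndS (p := 27866) (l := 5) rfl N27866 D97303
theorem N52619 : nd 52619 = n97304 := ndS (p := 27866) (l := 6) rfl N27866 D97304
theorem N52620 : nd 52620 = n97305 := ndS (p := 27867) (l := 0) rfl N27867 D97305
theorem N52621 : nd 52621 = n97306 := ndS (p := 27867) (l := 1) rfl N27867 D97306
theorem N52622 : nd 52622 = n97307 := ndS (p := 27867) (l := 3) rfl N27867 D97307
theorem N52623 : nd 52623 = n97308 := ndS (p := 27867) (l := 5) rfl N27867 D97308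
theorem N52624 : nd 52624 = n97309 := ndS (p := 27867) (l := 7) rfl N27867 D97309
theorem N52625 : nd 52625 = n97312 := ndS (p := 27869) (l := 4) rfl N27869 D97312
theorem N52626 : nd 52626 = n97313 := ndS (p := 27869) (l := 5) rfl N27869 D97313
theorem N52627 : nd 52627 = n97320 := ndS (p := 27870) (l := 5) rfl N27870 D97320
theorem N52628 : nd 52628 = n97321 := ndS (p := 27870) (l := 6) rfl N27870 D97321
theorem N52629 : nd 52629 = n97322 := ndS (p := 27871) (l := 0) rfl N27871 D97322
theorem N52630 : nd 52630 = n97323 := ndS (p := 27871) (l := 1) rfl N27871 D97323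
theorem N52631 : nd 52631 = n97324 := ndS (p := 27871) (l := 4) rfl N27871 D97324
theorem N52632 : nd 52632 = n97325 := ndS (p := 27871) (l := 6) rfl N27871 D97325
theorem N52633 : nd 52633 = n97326 := ndS (p := 27872) (l := 0) rfl N27872 D97326
theorem N52634 : nd 52634 = n97327 := ndS (p := 27872) (l := 1) rfl N27872 D97327
theorem N52635 : nd 52635 = n97328 := ndS (p := 27872) (l := 5) rfl N27872 D97328
theorem N52636 : nd 52636 = n97336 := ndS (p := 27873) (l := 3) rfl N27873 D97336
theorem N52637 : nd 52637 = n97338 := ndS (p := 27873) (l := 6) rfl N27873 D97338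
theorem N52638 : nd 52638 = n97339 := ndS (p := 27874) (l := 0) rfl N27874 D97339
theorem N52639 : nd 52639 = n97340 := ndS (p := 27874) (l := 1) rfl N27874 D97340
theorem N52640 : nd 52640 = n97341 := ndS (p := 27874) (l := 5) rfl N27874 D97341
theorem N52641 : nd 52641 = n97342 := ndS (p := 27874) (l := 7) rfl N27874 D97342
theorem N52642 : nd 52642 = n97343 := ndS (p := 27875) (l := 4) rfl N27875 D97343
theorem N52643 : nd 52643 = n97349 := ndS (p := 27876) (l := 5) rfl N27876 D97349
theorem N52644 : nd 52644 = n97351 := ndS (p := 27877) (l := 5) rfl N27877 D97351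
theorem N52645 : nd 52645 = n97352 := ndS (p := 27877) (l := 6) rfl N27877 D97352
theorem N52646 : nd 52646 = n97354 := ndS (p := 27878) (l := 1) rfl N27878 D97354
theorem N52647 : nd 52647 = n97356 := ndS (p := 27878) (l := 6) rfl N27878 D97356
theorem N52648 : nd 52648 = n97357 := ndS (p := 27879) (l := 0) rfl N27879 D97357
theorem N52649 : nd 52649 = n97358 := ndS (p := 27879) (l := 1) rfl N27879 D97358
theorem N52650 : nd 52650 = n97359 := ndS (p := 27880) (l := 3) rfl N27880 D97359
theorem N52651 : nd 52651 = n97361 := ndS (p := 27880) (l := 6) rfl N27880 D97361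
theorem N52652 : nd 52652 = n97362 := ndS (p := 27881) (l := 0) rfl N27881 D97362
theorem N52653 : nd 52653 = n97363 := ndS (p := 27881) (l := 1) rfl N27881 D97363
theorem N52654 : nd 52654 = n97364 := ndS (p := 27881) (l := 7) rfl N27881 D97364
theorem N52655 : nd 52655 = n97367 := ndS (p := 27882) (l := 2) rfl N27882 D97367
theorem N52656 : nd 52656 = n97368 := ndS (p := 27882) (l := 4) rfl N27882 D97368
theorem N52657 : nd 52657 = n97370 := ndS (p := 27882) (l := 6) rfl N27882 D97370
theorem N52658 : nd 52658 = n97371 := ndS (p := 27883) (l := 0) rfl N27883 D97371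
theorem N52659 : nd 52659 = n97375 := ndS (p := 27884) (l := 0) rfl N27884 D97375
theorem N52660 : nd 52660 = n97376 := ndS (p := 27884) (l := 1) rfl N27884 D97376
theorem N52661 : nd 52661 = n97377 := ndS (p := 27884) (l := 7) rfl N27884 D97377
theorem N52662 : nd 52662 = n97380 := ndS (p := 27885) (l := 2) rfl N27885 D97380
theorem N52663 : nd 52663 = n97383 := ndS (p := 27886) (l := 3) rfl N27886 D97383
theorem N52664 : nd 52664 = n97385 := ndS (p := 27886) (l := 6) rfl N27886 D97385
theorem N52665 : nd 52665 = n97386 := ndS (p := 27887) (l := 0) rfl N27887 D97386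
theorem N52666 : nd 52666 = n97387 := ndS (p := 27887) (l := 1) rfl N27887 D97387
theorem N52667 : nd 52667 = n97388 := ndS (p := 27887) (l := 7) rfl N27887 D97388
theorem N52668 : nd 52668 = n97389 := ndS (p := 27888) (l := 3) rfl N27888 D97389
theorem N52669 : nd 52669 = n97391 := ndS (p := 27888) (l := 6) rfl N27888 D97391
theorem N52670 : nd 52670 = n97392 := ndS (p := 27889) (l := 3) rfl N27889 D97392
theorem N52671 : nd 52671 = n97394 := ndS (p := 27889) (l := 6) rfl N27889 D97394
theorem N52672 : nd 52672 = n97395 := ndS (p := 27890) (l := 0) rfl N27890 D97395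
theorem N52673 : nd 52673 = n97396 := ndS (p := 27890) (l := 1) rfl N27890 D97396
theorem N52674 : nd 52674 = n97397 := ndS (p := 27890) (l := 2) rfl N27890 D97397
theorem N52675 : nd 52675 = n97408 := ndS (p := 27891) (l := 0) rfl N27891 D97408
theorem N52676 : nd 52676 = n97409 := ndS (p := 27891) (l := 1) rfl N27891 D97409
theorem N52677 : nd 52677 = n97410 := ndS (p := 27891) (l := 2) rfl N27891 D97410
theorem N52678 : nd 52678 = n97411 := ndS (p := 27891) (l := 5) rfl N27891 D97411
theorem N52679 : nd 52679 = n97412 := ndS (p := 27892) (l := 4) rfl N27892 D97412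
theorem N52680 : nd 52680 = n97413 := ndS (p := 27892) (l := 6) rfl N27892 D97413
theorem N52681 : nd 52681 = n97415 := ndS (p := 27893) (l := 5) rfl N27893 D97415
theorem N52682 : nd 52682 = n97421 := ndS (p := 27894) (l := 5) rfl N27894 D97421
theorem N52683 : nd 52683 = n97422 := ndS (p := 27894) (l := 6) rfl N27894 D97422
theorem N52684 : nd 52684 = n97423 := ndS (p := 27895) (l := 0) rfl N27895 D97423
theorem N52685 : nd 52685 = n97424 := ndS (p := 27895) (l := 1) rfl N27895 D97424
theorem N52686 : nd 52686 = n97425 := ndS (p := 27895) (l := 4) rfl N27895 D97425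
theorem N52687 : nd 52687 = n97427 := ndS (p := 27896) (l := 0) rfl N27896 D97427
theorem N52688 : nd 52688 = n97428 := ndS (p := 27896) (l := 1) rfl N27896 D97428
theorem N52689 : nd 52689 = n97430 := ndS (p := 27897) (l := 3) rfl N27897 D97430
theorem N52690 : nd 52690 = n97432 := ndS (p := 27897) (l := 6) rfl N27897 D97432
theorem N52691 : nd 52691 = n97433 := ndS (p := 27898) (l := 3) rfl N27898 D97433
theorem N52692 : nd 52692 = n97434 := ndS (p := 27898) (l := 4) rfl N27898 D97434
theorem N52693 : nd 52693 = n97435 := ndS (p := 27898) (l := 6) rfl N27898 D97435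
theorem N52694 : nd 52694 = n97436 := ndS (p := 27899) (l := 3) rfl N27899 D97436
theorem N52695 : nd 52695 = n97437 := ndS (p := 27899) (l := 6) rfl N27899 D97437
theorem N52696 : nd 52696 = n97438 := ndS (p := 27900) (l := 0) rfl N27900 D97438
theorem N52697 : nd 52697 = n97439 := ndS (p := 27900) (l := 1) rfl N27900 D97439
theorem N52698 : nd 52698 = n97441 := ndS (p := 27900) (l := 7) rfl N27900 D97441
theorem N52699 : nd 52699 = n97442 := ndS (p := 27901) (l := 3) rfl N27901 D97442
theorem N52700 : nd 52700 = n97469 := ndS (p := 27903) (l := 5) rfl N27903 D97469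
theorem N52701 : nd 52701 = n97470 := ndS (p := 27904) (l := 5) rfl N27904 D97470
theorem N52702 : nd 52702 = n97471 := ndS (p := 27904) (l := 6) rfl N27904 D97471
theorem N52703 : nd 52703 = n97472 := ndS (p := 27905) (l := 0) rfl N27905 D97472
theorem N52704 : nd 52704 = n97473 := ndS (p := 27905) (l := 1) rfl N27905 D97473
theorem N52705 : nd 52705 = n97474 := ndS (p := 27905) (l := 4) rfl N27905 D97474
theorem N52706 : nd 52706 = n97475 := ndS (p := 27905) (l := 6) rfl N27905 D97475
theorem N52707 : nd 52707 = n97476 := ndS (p := 27906) (l := 0) rfl N27906 D97476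
theorem N52708 : nd 52708 = n97477 := ndS (p := 27906) (l := 5) rfl N27906 D97477
theorem N52709 : nd 52709 = n97478 := ndS (p := 27907) (l := 3) rfl N27907 D97478
theorem N52710 : nd 52710 = n97479 := ndS (p := 27907) (l := 6) rfl N27907 D97479
theorem N52711 : nd 52711 = n97481 := ndS (p := 27908) (l := 1) rfl N27908 D97481
theorem N52712 : nd 52712 = n97483 := ndS (p := 27908) (l := 7) rfl N27908 D97483
theorem N52713 : nd 52713 = n97942 := ndS (p := 27911) (l := 6) rfl N27911 D97942
theorem N52714 : nd 52714 = n97943 := ndS (p := 27912) (l := 6) rfl N27912 D97943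
theorem N52715 : nd 52715 = n97944 := ndS (p := 27913) (l := 6) rfl N27913 D97944
theorem N52716 : nd 52716 = n97947 := ndS (p := 27914) (l := 5) rfl N27914 D97947
theorem N52717 : nd 52717 = n97949 := ndS (p := 27915) (l := 6) rfl N27915 D97949
theorem N52718 : nd 52718 = n97950 := ndS (p := 27916) (l := 6) rfl N27916 D97950
theorem N52719 : nd 52719 = n97953 := ndS (p := 27917) (l := 5) rfl N27917 D97953
theorem N52720 : nd 52720 = n97956 := ndS (p := 27918) (l := 3) rfl N27918 D97956
theorem N52721 : nd 52721 = n97957 := ndS (p := 27918) (l := 4) rfl N27918 D97957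
theorem N52722 : nd 52722 = n97958 := ndS (p := 27918) (l := 5) rfl N27918 D97958
theorem N52723 : nd 52723 = n97959 := ndS (p := 27918) (l := 6) rfl N27918 D97959
theorem N52724 : nd 52724 = n97961 := ndS (p := 27919) (l := 4) rfl N27919 D97961
theorem N52725 : nd 52725 = n97962 := ndS (p := 27919) (l := 5) rfl N27919 D97962
theorem N52726 : nd 52726 = n97964 := ndS (p := 27920) (l := 0) rfl N27920 D97964
theorem N52727 : nd 52727 = n97965 := ndS (p := 27920) (l := 1) rfl N27920 D97965
theorem N52728 : nd 52728 = n97966 := ndS (p := 27920) (l := 4) rfl N27920 D97966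
theorem N52729 : nd 52729 = n97967 := ndS (p := 27920) (l := 7) rfl N27920 D97967
theorem N52730 : nd 52730 = n97968 := ndS (p := 27922) (l := 0) rfl N27922 D97968
theorem N52731 : nd 52731 = n97970 := ndS (p := 27922) (l := 2) rfl N27922 D97970
theorem N52732 : nd 52732 = n97971 := ndS (p := 27922) (l := 5) rfl N27922 D97971
theorem N52733 : nd 52733 = n97975 := ndS (p := 27923) (l := 6) rfl N27923 D97975
theorem N52734 : nd 52734 = n97983 := ndS (p := 27924) (l := 3) rfl N27924 D97983
theorem N52735 : nd 52735 = n97984 := ndS (p := 27924) (l := 4) rfl N27924 D97984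
theorem N52736 : nd 52736 = n97985 := ndS (p := 27924) (l := 6) rfl N27924 D97985
theorem N52737 : nd 52737 = n97986 := ndS (p := 27925) (l := 0) rfl N27925 D97986
theorem N52738 : nd 52738 = n97987 := ndS (p := 27925) (l := 3) rfl N27925 D97987
theorem N52739 : nd 52739 = n97989 := ndS (p := 27925) (l := 7) rfl N27925 D97989
theorem N52740 : nd 52740 = n97990 := ndS (p := 27926) (l := 6) rfl N27926 D97990
theorem N52741 : nd 52741 = n97991 := ndS (p := 27927) (l := 0) rfl N27927 D97991
theorem N52742 : nd 52742 = n97993 := ndS (p := 27927) (l := 5) rfl N27927 D97993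
theorem N52743 : nd 52743 = n97997 := ndS (p := 27928) (l := 6) rfl N27928 D97997
theorem N52744 : nd 52744 = n98018 := ndS (p := 27929) (l := 0) rfl N27929 D98018
theorem N52745 : nd 52745 = n98029 := ndS (p := 27930) (l := 3) rfl N27930 D98029
theorem N52746 : nd 52746 = n98030 := ndS (p := 27930) (l := 4) rfl N27930 D98030
theorem N52747 : nd 52747 = n98034 := ndS (p := 27931) (l := 3) rfl N27931 D98034
theorem N52748 : nd 52748 = n98035 := ndS (p := 27931) (l := 4) rfl N27931 D98035
theorem N52749 : nd 52749 = n98038 := ndS (p := 27932) (l := 5) rfl N27932 D98038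
theorem N52750 : nd 52750 = n98041 := ndS (p := 27933) (l := 4) rfl N27933 D98041
theorem N52751 : nd 52751 = n98042 := ndS (p := 27933) (l := 6) rfl N27933 D98042
theorem N52752 : nd 52752 = n98044 := ndS (p := 27934) (l := 1) rfl N27934 D98044
theorem N52753 : nd 52753 = n98045 := ndS (p := 27934) (l := 7) rfl N27934 D98045
theorem N52754 : nd 52754 = n98050 := ndS (p := 27937) (l := 6) rfl N27937 D98050
theorem N52755 : nd 52755 = n98054 := ndS (p := 27940) (l := 1) rfl N27940 D98054
theorem N52756 : nd 52756 = n98062 := ndS (p := 27941) (l := 4) rfl N27941 D98062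
theorem N52757 : nd 52757 = n98066 := ndS (p := 27943) (l := 6) rfl N27943 D98066
theorem N52758 : nd 52758 = n98069 := ndS (p := 27944) (l := 5) rfl N27944 D98069
theorem N52759 : nd 52759 = n98075 := ndS (p := 27946) (l := 5) rfl N27946 D98075
theorem N52760 : nd 52760 = n98077 := ndS (p := 27947) (l := 3) rfl N27947 D98077
theorem N52761 : nd 52761 = n98078 := ndS (p := 27947) (l := 5) rfl N27947 D98078
theorem N52762 : nd 52762 = n98079 := ndS (p := 27947) (l := 6) rfl N27947 D98079
theorem N52763 : nd 52763 = n98081 := ndS (p := 27948) (l := 5) rfl N27948 D98081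
theorem N52764 : nd 52764 = n98082 := ndS (p := 27948) (l := 6) rfl N27948 D98082
theorem N52765 : nd 52765 = n98083 := ndS (p := 27949) (l := 0) rfl N27949 D98083
theorem N52766 : nd 52766 = n98084 := ndS (p := 27949) (l := 1) rfl N27949 D98084
theorem N52767 : nd 52767 = n98085 := ndS (p := 27949) (l := 4) rfl N27949 D98085
theorem N52768 : nd 52768 = n98091 := ndS (p := 27950) (l := 5) rfl N27950 D98091
theorem N52769 : nd 52769 = n98096 := ndS (p := 27951) (l := 5) rfl N27951 D98096
theorem N52770 : nd 52770 = n98097 := ndS (p := 27951) (l := 6) rfl N27951 D98097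
theorem N52771 : nd 52771 = n98098 := ndS (p := 27952) (l := 0) rfl N27952 D98098
theorem N52772 : nd 52772 = n98099 := ndS (p := 27952) (l := 1) rfl N27952 D98099
theorem N52773 : nd 52773 = n98100 := ndS (p := 27952) (l := 4) rfl N27952 D98100
theorem N52774 : nd 52774 = n98101 := ndS (p := 27952) (l := 7) rfl N27952 D98101
theorem N52775 : nd 52775 = n98104 := ndS (p := 27954) (l := 3) rfl N27954 D98104
theorem N52776 : nd 52776 = n98107 := ndS (p := 27957) (l := 6) rfl N27957 D98107
theorem N52777 : nd 52777 = n98109 := ndS (p := 27958) (l := 6) rfl N27958 D98109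
theorem N52778 : nd 52778 = n98110 := ndS (p := 27959) (l := 0) rfl N27959 D98110
theorem N52779 : nd 52779 = n98111 := ndS (p := 27959) (l := 1) rfl N27959 D98111
theorem N52780 : nd 52780 = n98112 := ndS (p := 27959) (l := 5) rfl N27959 D98112
theorem N52781 : nd 52781 = n98116 := ndS (p := 27960) (l := 5) rfl N27960 D98116
theorem N52782 : nd 52782 = n98120 := ndS (p := 27961) (l := 4) rfl N27961 D98120
theorem N52783 : nd 52783 = n98129 := ndS (p := 27962) (l := 3) rfl N27962 D98129
theorem N52784 : nd 52784 = n98132 := ndS (p := 27963) (l := 0) rfl N27963 D98132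
theorem N52785 : nd 52785 = n98133 := ndS (p := 27963) (l := 1) rfl N27963 D98133
theorem N52786 : nd 52786 = n98134 := ndS (p := 27963) (l := 2) rfl N27963 D98134
theorem N52787 : nd 52787 = n98135 := ndS (p := 27963) (l := 5) rfl N27963 D98135
theorem N52788 : nd 52788 = n98137 := ndS (p := 27965) (l := 4) rfl N27965 D98137
theorem N52789 : nd 52789 = n98138 := ndS (p := 27965) (l := 6) rfl N27965 D98138
theorem N52790 : nd 52790 = n98140 := ndS (p := 27967) (l := 5) rfl N27967 D98140
theorem N52791 : nd 52791 = n98141 := ndS (p := 27967) (l := 6) rfl N27967 D98141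
theorem N52792 : nd 52792 = n98142 := ndS (p := 27968) (l := 0) rfl N27968 D98142
theorem N52793 : nd 52793 = n98144 := ndS (p := 27968) (l := 4) rfl N27968 D98144
theorem N52794 : nd 52794 = n98145 := ndS (p := 27968) (l := 6) rfl N27968 D98145
theorem N52795 : nd 52795 = n98146 := ndS (p := 27969) (l := 0) rfl N27969 D98146
theorem N52796 : nd 52796 = n98147 := ndS (p := 27969) (l := 1) rfl N27969 D98147
theorem N52797 : nd 52797 = n98148 := ndS (p := 27969) (l := 5) rfl N27969 D98148
theorem N52798 : nd 52798 = n98151 := ndS (p := 27970) (l := 5) rfl N27970 D98151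
theorem N52799 : nd 52799 = n98152 := ndS (p := 27970) (l := 7) rfl N27970 D98152
theorem N52800 : nd 52800 = n98157 := ndS (p := 27973) (l := 7) rfl N27973 D98157
theorem N52801 : nd 52801 = n98158 := ndS (p := 27975) (l := 6) rfl N27975 D98158
theorem N52802 : nd 52802 = n98159 := ndS (p := 27976) (l := 0) rfl N27976 D98159
theorem N52803 : nd 52803 = n98160 := ndS (p := 27976) (l := 1) rfl N27976 D98160
theorem N52804 : nd 52804 = n98161 := ndS (p := 27976) (l := 5) rfl N27976 D98161
theorem N52805 : nd 52805 = n98165 := ndS (p := 27977) (l := 5) rfl N27977 D98165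
theorem N52806 : nd 52806 = n98167 := ndS (p := 27978) (l := 4) rfl N27978 D98167
theorem N52807 : nd 52807 = n98169 := ndS (p := 27979) (l := 3) rfl N27979 D98169
theorem N52808 : nd 52808 = n98170 := ndS (p := 27979) (l := 6) rfl N27979 D98170
theorem N52809 : nd 52809 = n98173 := ndS (p := 27981) (l := 5) rfl N27981 D98173
theorem N52810 : nd 52810 = n98174 := ndS (p := 27981) (l := 7) rfl N27981 D98174
theorem N52811 : nd 52811 = n98189 := ndS (p := 27988) (l := 3) rfl N27988 D98189
theorem N52812 : nd 52812 = n98193 := ndS (p := 27989) (l := 6) rfl N27989 D98193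
theorem N52813 : nd 52813 = n98194 := ndS (p := 27990) (l := 0) rfl N27990 D98194
theorem N52814 : nd 52814 = n98195 := ndS (p := 27990) (l := 1) rfl N27990 D98195
theorem N52815 : nd 52815 = n98197 := ndS (p := 27990) (l := 7) rfl N27990 D98197
theorem N52816 : nd 52816 = n98200 := ndS (p := 27992) (l := 3) rfl N27992 D98200
theorem N52817 : nd 52817 = n98202 := ndS (p := 27992) (l := 6) rfl N27992 D98202
theorem N52818 : nd 52818 = n98213 := ndS (p := 27997) (l := 5) rfl N27997 D98213
theorem N52819 : nd 52819 = n98215 := ndS (p := 27998) (l := 6) rfl N27998 D98215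
theorem N52820 : nd 52820 = n98216 := ndS (p := 27999) (l := 6) rfl N27999 D98216
theorem N52821 : nd 52821 = n98221 := ndS (p := 28001) (l := 2) rfl N28001 D98221
theorem N52822 : nd 52822 = n98222 := ndS (p := 28001) (l := 4) rfl N28001 D98222
theorem N52823 : nd 52823 = n98229 := ndS (p := 28003) (l := 0) rfl N28003 D98229
theorem N52824 : nd 52824 = n98230 := ndS (p := 28003) (l := 1) rfl N28003 D98230
theorem N52825 : nd 52825 = n98235 := ndS (p := 28004) (l := 4) rfl N28004 D98235
theorem N52826 : nd 52826 = n98236 := ndS (p := 28004) (l := 5) rfl N28004 D98236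
theorem N52827 : nd 52827 = n98237 := ndS (p := 28004) (l := 6) rfl N28004 D98237
theorem N52828 : nd 52828 = n98239 := ndS (p := 28005) (l := 3) rfl N28005 D98239
theorem N52829 : nd 52829 = n98240 := ndS (p := 28005) (l := 4) rfl N28005 D98240
theorem N52830 : nd 52830 = n98241 := ndS (p := 28005) (l := 5) rfl N28005 D98241
theorem N52831 : nd 52831 = n98242 := ndS (p := 28005) (l := 6) rfl N28005 D98242
theorem N52832 : nd 52832 = n98245 := ndS (p := 28006) (l := 4) rfl N28006 D98245
theorem N52833 : nd 52833 = n98247 := ndS (p := 28008) (l := 3) rfl N28008 D98247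
theorem N52834 : nd 52834 = n98248 := ndS (p := 28008) (l := 6) rfl N28008 D98248
theorem N52835 : nd 52835 = n98249 := ndS (p := 28009) (l := 3) rfl N28009 D98249
theorem N52836 : nd 52836 = n98251 := ndS (p := 28010) (l := 0) rfl N28010 D98251
theorem N52837 : nd 52837 = n98252 := ndS (p := 28010) (l := 1) rfl N28010 D98252
theorem N52838 : nd 52838 = n98253 := ndS (p := 28010) (l := 3) rfl N28010 D98253
theorem N52839 : nd 52839 = n98254 := ndS (p := 28010) (l := 5) rfl N28010 D98254
theorem N52840 : nd 52840 = n98255 := ndS (p := 28010) (l := 7) rfl N28010 D98255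
theorem N52841 : nd 52841 = n98256 := ndS (p := 28011) (l := 6) rfl N28011 D98256
theorem N52842 : nd 52842 = n98258 := ndS (p := 28012) (l := 0) rfl N28012 D98258
theorem N52843 : nd 52843 = n98259 := ndS (p := 28012) (l := 2) rfl N28012 D98259
theorem N52844 : nd 52844 = n98261 := ndS (p := 28012) (l := 6) rfl N28012 D98261
theorem N52845 : nd 52845 = n98262 := ndS (p := 28013) (l := 4) rfl N28013 D98262
theorem N52846 : nd 52846 = n98284 := ndS (p := 28017) (l := 4) rfl N28017 D98284
theorem N52847 : nd 52847 = n98285 := ndS (p := 28017) (l := 6) rfl N28017 D98285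
theorem N52848 : nd 52848 = n98288 := ndS (p := 28018) (l := 5) rfl N28018 D98288
theorem N52849 : nd 52849 = n98290 := ndS (p := 28019) (l := 4) rfl N28019 D98290
theorem N52850 : nd 52850 = n98291 := ndS (p := 28019) (l := 6) rfl N28019 D98291
theorem N52851 : nd 52851 = n98294 := ndS (p := 28020) (l := 5) rfl N28020 D98294
theorem N52852 : nd 52852 = n98297 := ndS (p := 28022) (l := 5) rfl N28022 D98297
theorem N52853 : nd 52853 = n98298 := ndS (p := 28023) (l := 4) rfl N28023 D98298
theorem N52854 : nd 52854 = n98299 := ndS (p := 28023) (l := 6) rfl N28023 D98299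
theorem N52855 : nd 52855 = n98300 := ndS (p := 28024) (l := 4) rfl N28024 D98300
theorem N52856 : nd 52856 = n98301 := ndS (p := 28024) (l := 6) rfl N28024 D98301
theorem N52857 : nd 52857 = n98305 := ndS (p := 28026) (l := 5) rfl N28026 D98305
theorem N52858 : nd 52858 = n98307 := ndS (p := 28027) (l := 3) rfl N28027 D98307
theorem N52859 : nd 52859 = n98308 := ndS (p := 28027) (l := 4) rfl N28027 D98308
theorem N52860 : nd 52860 = n98309 := ndS (p := 28027) (l := 5) rfl N28027 D98309
theorem N52861 : nd 52861 = n98310 := ndS (p := 28027) (l := 6) rfl N28027 D98310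
theorem N52862 : nd 52862 = n98312 := ndS (p := 28028) (l := 5) rfl N28028 D98312
theorem N52863 : nd 52863 = n98313 := ndS (p := 28028) (l := 6) rfl N28028 D98313
theorem N52864 : nd 52864 = n98314 := ndS (p := 28029) (l := 0) rfl N28029 D98314
theorem N52865 : nd 52865 = n98315 := ndS (p := 28029) (l := 1) rfl N28029 D98315
theorem N52866 : nd 52866 = n98316 := ndS (p := 28029) (l := 4) rfl N28029 D98316
theorem N52867 : nd 52867 = n98321 := ndS (p := 28030) (l := 6) rfl N28030 D98321
theorem N52868 : nd 52868 = n98332 := ndS (p := 28033) (l := 6) rfl N28033 D98332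
theorem N52869 : nd 52869 = n98333 := ndS (p := 28034) (l := 3) rfl N28034 D98333
theorem N52870 : nd 52870 = n98334 := ndS (p := 28035) (l := 5) rfl N28035 D98334
theorem N52871 : nd 52871 = n98335 := ndS (p := 28036) (l := 0) rfl N28036 D98335
theorem N52872 : nd 52872 = n98336 := ndS (p := 28036) (l := 5) rfl N28036 D98336
theorem N52873 : nd 52873 = n98337 := ndS (p := 28036) (l := 7) rfl N28036 D98337
theorem N52874 : nd 52874 = n98338 := ndS (p := 28037) (l := 0) rfl N28037 D98338
theorem N52875 : nd 52875 = n98339 := ndS (p := 28037) (l := 1) rfl N28037 D98339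
theorem N52876 : nd 52876 = n98340 := ndS (p := 28037) (l := 5) rfl N28037 D98340
theorem N52877 : nd 52877 = n98341 := ndS (p := 28037) (l := 6) rfl N28037 D98341
theorem N52878 : nd 52878 = n98343 := ndS (p := 28038) (l := 1) rfl N28038 D98343
theorem N52879 : nd 52879 = n98344 := ndS (p := 28038) (l := 5) rfl N28038 D98344
theorem N52880 : nd 52880 = n98345 := ndS (p := 28038) (l := 7) rfl N28038 D98345
theorem N52881 : nd 52881 = n98346 := ndS (p := 28039) (l := 5) rfl N28039 D98346
theorem N52882 : nd 52882 = n98347 := ndS (p := 28040) (l := 5) rfl N28040 D98347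
theorem N52883 : nd 52883 = n98348 := ndS (p := 28040) (l := 6) rfl N28040 D98348
theorem N52884 : nd 52884 = n98349 := ndS (p := 28041) (l := 0) rfl N28041 D98349
theorem N52885 : nd 52885 = n98350 := ndS (p := 28041) (l := 1) rfl N28041 D98350
theorem N52886 : nd 52886 = n98351 := ndS (p := 28041) (l := 4) rfl N28041 D98351
theorem N52887 : nd 52887 = n98352 := ndS (p := 28041) (l := 7) rfl N28041 D98352
theorem N52888 : nd 52888 = n98356 := ndS (p := 28043) (l := 5) rfl N28043 D98356
theorem N52889 : nd 52889 = n98357 := ndS (p := 28043) (l := 6) rfl N28043 D98357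
theorem N52890 : nd 52890 = n98361 := ndS (p := 28044) (l := 5) rfl N28044 D98361
theorem N52891 : nd 52891 = n98362 := ndS (p := 28044) (l := 6) rfl N28044 D98362
theorem N52892 : nd 52892 = n98363 := ndS (p := 28045) (l := 0) rfl N28045 D98363
theorem N52893 : nd 52893 = n98364 := ndS (p := 28045) (l := 1) rfl N28045 D98364
theorem N52894 : nd 52894 = n98365 := ndS (p := 28045) (l := 4) rfl N28045 D98365
theorem N52895 : nd 52895 = n98366 := ndS (p := 28045) (l := 7) rfl N28045 D98366
theorem N52896 : nd 52896 = n98369 := ndS (p := 28047) (l := 3) rfl N28047 D98369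
theorem N52897 : nd 52897 = n98370 := ndS (p := 28047) (l := 6) rfl N28047 D98370
theorem N52898 : nd 52898 = n98373 := ndS (p := 28048) (l := 3) rfl N28048 D98373
theorem N52899 : nd 52899 = n98375 := ndS (p := 28048) (l := 7) rfl N28048 D98375
theorem N52900 : nd 52900 = n98376 := ndS (p := 28049) (l := 6) rfl N28049 D98376
theorem N52901 : nd 52901 = n98377 := ndS (p := 28050) (l := 6) rfl N28050 D98377
theorem N52902 : nd 52902 = n98378 := ndS (p := 28051) (l := 6) rfl N28051 D98378
theorem N52903 : nd 52903 = n98379 := ndS (p := 28052) (l := 0) rfl N28052 D98379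
theorem N52904 : nd 52904 = n98380 := ndS (p := 28052) (l := 1) rfl N28052 D98380
theorem N52905 : nd 52905 = n98381 := ndS (p := 28052) (l := 5) rfl N28052 D98381
theorem N52906 : nd 52906 = n98382 := ndS (p := 28052) (l := 7) rfl N28052 D98382
theorem N52907 : nd 52907 = n98391 := ndS (p := 28053) (l := 5) rfl N28053 D98391
theorem N52908 : nd 52908 = n98394 := ndS (p := 28054) (l := 1) rfl N28054 D98394
theorem N52909 : nd 52909 = n98395 := ndS (p := 28054) (l := 4) rfl N28054 D98395
theorem N52910 : nd 52910 = n98396 := ndS (p := 28054) (l := 7) rfl N28054 D98396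
theorem N52911 : nd 52911 = n98398 := ndS (p := 28056) (l := 3) rfl N28056 D98398
theorem N52912 : nd 52912 = n98406 := ndS (p := 28058) (l := 4) rfl N28058 D98406
theorem N52913 : nd 52913 = n98416 := ndS (p := 28060) (l := 6) rfl N28060 D98416
theorem N52914 : nd 52914 = n98422 := ndS (p := 28061) (l := 0) rfl N28061 D98422
theorem N52915 : nd 52915 = n98429 := ndS (p := 28062) (l := 5) rfl N28062 D98429
theorem N52916 : nd 52916 = n98433 := ndS (p := 28063) (l := 1) rfl N28063 D98433
theorem N52917 : nd 52917 = n98434 := ndS (p := 28063) (l := 2) rfl N28063 D98434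
theorem N52918 : nd 52918 = n98435 := ndS (p := 28063) (l := 5) rfl N28063 D98435
theorem N52919 : nd 52919 = n98436 := ndS (p := 28063) (l := 6) rfl N28063 D98436
theorem N52920 : nd 52920 = n98440 := ndS (p := 28064) (l := 6) rfl N28064 D98440
theorem N52921 : nd 52921 = n98443 := ndS (p := 28065) (l := 5) rfl N28065 D98443
theorem N52922 : nd 52922 = n98446 := ndS (p := 28066) (l := 3) rfl N28066 D98446
theorem N52923 : nd 52923 = n98451 := ndS (p := 28067) (l := 3) rfl N28067 D98451
theorem N52924 : nd 52924 = n98456 := ndS (p := 28068) (l := 1) rfl N28068 D98456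
theorem N52925 : nd 52925 = n98461 := ndS (p := 28069) (l := 6) rfl N28069 D98461
theorem N52926 : nd 52926 = n98463 := ndS (p := 28071) (l := 0) rfl N28071 D98463
theorem N52927 : nd 52927 = n98464 := ndS (p := 28071) (l := 1) rfl N28071 D98464
theorem N52928 : nd 52928 = n98465 := ndS (p := 28071) (l := 5) rfl N28071 D98465
theorem N52929 : nd 52929 = n98466 := ndS (p := 28071) (l := 7) rfl N28071 D98466
theorem N52930 : nd 52930 = n98477 := ndS (p := 28072) (l := 0) rfl N28072 D98477
theorem N52931 : nd 52931 = n98479 := ndS (p := 28072) (l := 4) rfl N28072 D98479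
theorem N52932 : nd 52932 = n98480 := ndS (p := 28072) (l := 7) rfl N28072 D98480
theorem N52933 : nd 52933 = n98481 := ndS (p := 28074) (l := 4) rfl N28074 D98481
theorem N52934 : nd 52934 = n98482 := ndS (p := 28074) (l := 6) rfl N28074 D98482
theorem N52935 : nd 52935 = n98483 := ndS (p := 28075) (l := 0) rfl N28075 D98483
theorem N52936 : nd 52936 = n98484 := ndS (p := 28075) (l := 1) rfl N28075 D98484
theorem N52937 : nd 52937 = n98486 := ndS (p := 28075) (l := 6) rfl N28075 D98486
theorem N52938 : nd 52938 = n98488 := ndS (p := 28076) (l := 1) rfl N28076 D98488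
theorem N52939 : nd 52939 = n98489 := ndS (p := 28076) (l := 5) rfl N28076 D98489
theorem N52940 : nd 52940 = n98490 := ndS (p := 28076) (l := 7) rfl N28076 D98490
theorem N52941 : nd 52941 = n98494 := ndS (p := 28077) (l := 5) rfl N28077 D98494
theorem N52942 : nd 52942 = n98497 := ndS (p := 28078) (l := 3) rfl N28078 D98497
theorem N52943 : nd 52943 = n98499 := ndS (p := 28078) (l := 5) rfl N28078 D98499
theorem N52944 : nd 52944 = n98500 := ndS (p := 28078) (l := 6) rfl N28078 D98500
theorem N52945 : nd 52945 = n98501 := ndS (p := 28079) (l := 0) rfl N28079 D98501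
theorem N52946 : nd 52946 = n98502 := ndS (p := 28079) (l := 1) rfl N28079 D98502
theorem N52947 : nd 52947 = n98503 := ndS (p := 28079) (l := 4) rfl N28079 D98503
theorem N52948 : nd 52948 = n98504 := ndS (p := 28079) (l := 7) rfl N28079 D98504
theorem N52949 : nd 52949 = n98511 := ndS (p := 28081) (l := 0) rfl N28081 D98511
theorem N52950 : nd 52950 = n98513 := ndS (p := 28081) (l := 2) rfl N28081 D98513
theorem N52951 : nd 52951 = n98515 := ndS (p := 28081) (l := 5) rfl N28081 D98515
theorem N52952 : nd 52952 = n98516 := ndS (p := 28081) (l := 6) rfl N28081 D98516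
theorem N52953 : nd 52953 = n98520 := ndS (p := 28082) (l := 3) rfl N28082 D98520
theorem N52954 : nd 52954 = n98521 := ndS (p := 28082) (l := 5) rfl N28082 D98521
theorem N52955 : nd 52955 = n98522 := ndS (p := 28082) (l := 6) rfl N28082 D98522
theorem N52956 : nd 52956 = n98524 := ndS (p := 28083) (l := 0) rfl N28083 D98524
theorem N52957 : nd 52957 = n98525 := ndS (p := 28083) (l := 1) rfl N28083 D98525
theorem N52958 : nd 52958 = n98526 := ndS (p := 28083) (l := 4) rfl N28083 D98526
theorem N52959 : nd 52959 = n98527 := ndS (p := 28083) (l := 6) rfl N28083 D98527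
theorem N52960 : nd 52960 = n98531 := ndS (p := 28084) (l := 5) rfl N28084 D98531
theorem N52961 : nd 52961 = n98532 := ndS (p := 28084) (l := 7) rfl N28084 D98532
theorem N52962 : nd 52962 = n98535 := ndS (p := 28085) (l := 1) rfl N28085 D98535
theorem N52963 : nd 52963 = n98536 := ndS (p := 28085) (l := 2) rfl N28085 D98536
theorem N52964 : nd 52964 = n98537 := ndS (p := 28085) (l := 4) rfl N28085 D98537
theorem N52965 : nd 52965 = n98538 := ndS (p := 28085) (l := 5) rfl N28085 D98538
theorem N52966 : nd 52966 = n98540 := ndS (p := 28086) (l := 3) rfl N28086 D98540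
theorem N52967 : nd 52967 = n98541 := ndS (p := 28086) (l := 5) rfl N28086 D98541
theorem N52968 : nd 52968 = n98542 := ndS (p := 28086) (l := 6) rfl N28086 D98542
theorem N52969 : nd 52969 = n98543 := ndS (p := 28087) (l := 4) rfl N28087 D98543
theorem N52970 : nd 52970 = n98544 := ndS (p := 28087) (l := 6) rfl N28087 D98544
theorem N52971 : nd 52971 = n98550 := ndS (p := 28089) (l := 3) rfl N28089 D98550
theorem N52972 : nd 52972 = n98551 := ndS (p := 28089) (l := 4) rfl N28089 D98551
theorem N52973 : nd 52973 = n98552 := ndS (p := 28089) (l := 5) rfl N28089 D98552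
theorem N52974 : nd 52974 = n98553 := ndS (p := 28089) (l := 6) rfl N28089 D98553
theorem N52975 : nd 52975 = n98555 := ndS (p := 28090) (l := 3) rfl N28090 D98555
theorem N52976 : nd 52976 = n98556 := ndS (p := 28090) (l := 4) rfl N28090 D98556
theorem N52977 : nd 52977 = n98557 := ndS (p := 28090) (l := 6) rfl N28090 D98557
theorem N52978 : nd 52978 = n98558 := ndS (p := 28091) (l := 0) rfl N28091 D98558
theorem N52979 : nd 52979 = n98559 := ndS (p := 28091) (l := 1) rfl N28091 D98559
theorem N52980 : nd 52980 = n98561 := ndS (p := 28091) (l := 5) rfl N28091 D98561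
theorem N52981 : nd 52981 = n98564 := ndS (p := 28093) (l := 4) rfl N28093 D98564
theorem N52982 : nd 52982 = n98565 := ndS (p := 28093) (l := 5) rfl N28093 D98565
theorem N52983 : nd 52983 = n98570 := ndS (p := 28094) (l := 5) rfl N28094 D98570
theorem N52984 : nd 52984 = n98571 := ndS (p := 28094) (l := 6) rfl N28094 D98571
theorem N52985 : nd 52985 = n98572 := ndS (p := 28095) (l := 0) rfl N28095 D98572
theorem N52986 : nd 52986 = n98573 := ndS (p := 28095) (l := 1) rfl N28095 D98573
theorem N52987 : nd 52987 = n98574 := ndS (p := 28095) (l := 4) rfl N28095 D98574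
theorem N52988 : nd 52988 = n98575 := ndS (p := 28095) (l := 6) rfl N28095 D98575
theorem N52989 : nd 52989 = n98576 := ndS (p := 28096) (l := 0) rfl N28096 D98576
theorem N52990 : nd 52990 = n98577 := ndS (p := 28096) (l := 1) rfl N28096 D98577
theorem N52991 : nd 52991 = n98581 := ndS (p := 28098) (l := 3) rfl N28098 D98581
theorem N52992 : nd 52992 = n98582 := ndS (p := 28098) (l := 6) rfl N28098 D98582
theorem N52993 : nd 52993 = n98583 := ndS (p := 28099) (l := 0) rfl N28099 D98583
theorem N52994 : nd 52994 = n98584 := ndS (p := 28099) (l := 1) rfl N28099 D98584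
theorem N52995 : nd 52995 = n98585 := ndS (p := 28099) (l := 7) rfl N28099 D98585
theorem N52996 : nd 52996 = n98586 := ndS (p := 28100) (l := 5) rfl N28100 D98586
theorem N52997 : nd 52997 = n98587 := ndS (p := 28101) (l := 5) rfl N28101 D98587
theorem N52998 : nd 52998 = n98588 := ndS (p := 28101) (l := 6) rfl N28101 D98588
theorem N52999 : nd 52999 = n98591 := ndS (p := 28102) (l := 4) rfl N28102 D98591
theorem N53000 : nd 53000 = n98592 := ndS (p := 28102) (l := 6) rfl N28102 D98592
theorem N53001 : nd 53001 = n98593 := ndS (p := 28103) (l := 0) rfl N28103 D98593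
theorem N53002 : nd 53002 = n98594 := ndS (p := 28103) (l := 1) rfl N28103 D98594
theorem N53003 : nd 53003 = n98596 := ndS (p := 28104) (l := 3) rfl N28104 D98596
theorem N53004 : nd 53004 = n98597 := ndS (p := 28104) (l := 6) rfl N28104 D98597
theorem N53005 : nd 53005 = n98598 := ndS (p := 28105) (l := 0) rfl N28105 D98598
theorem N53006 : nd 53006 = n98599 := ndS (p := 28105) (l := 1) rfl N28105 D98599
theorem N53007 : nd 53007 = n98600 := ndS (p := 28105) (l := 5) rfl N28105 D98600
theorem N53008 : nd 53008 = n98601 := ndS (p := 28105) (l := 7) rfl N28105 D98601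
theorem N53009 : nd 53009 = n98602 := ndS (p := 28106) (l := 4) rfl N28106 D98602
theorem N53010 : nd 53010 = n98605 := ndS (p := 28107) (l := 2) rfl N28107 D98605
theorem N53011 : nd 53011 = n98606 := ndS (p := 28107) (l := 4) rfl N28107 D98606
theorem N53012 : nd 53012 = n98607 := ndS (p := 28107) (l := 5) rfl N28107 D98607
theorem N53013 : nd 53013 = n98608 := ndS (p := 28107) (l := 6) rfl N28107 D98608
theorem N53014 : nd 53014 = n98609 := ndS (p := 28108) (l := 3) rfl N28108 D98609
theorem N53015 : nd 53015 = n98610 := ndS (p := 28108) (l := 6) rfl N28108 D98610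
theorem N53016 : nd 53016 = n98611 := ndS (p := 28110) (l := 0) rfl N28110 D98611
theorem N53017 : nd 53017 = n98612 := ndS (p := 28110) (l := 1) rfl N28110 D98612
theorem N53018 : nd 53018 = n98613 := ndS (p := 28110) (l := 5) rfl N28110 D98613
theorem N53019 : nd 53019 = n98614 := ndS (p := 28110) (l := 7) rfl N28110 D98614
theorem N53020 : nd 53020 = n98616 := ndS (p := 28111) (l := 4) rfl N28111 D98616
theorem N53021 : nd 53021 = n98618 := ndS (p := 28111) (l := 6) rfl N28111 D98618
theorem N53022 : nd 53022 = n98619 := ndS (p := 28112) (l := 3) rfl N28112 D98619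
theorem N53023 : nd 53023 = n98620 := ndS (p := 28112) (l := 6) rfl N28112 D98620
theorem N53024 : nd 53024 = n98621 := ndS (p := 28114) (l := 0) rfl N28114 D98621
theorem N53025 : nd 53025 = n98623 := ndS (p := 28114) (l := 5) rfl N28114 D98623
theorem N53026 : nd 53026 = n98624 := ndS (p := 28114) (l := 7) rfl N28114 D98624
theorem N53027 : nd 53027 = n98625 := ndS (p := 28115) (l := 3) rfl N28115 D98625
theorem N53028 : nd 53028 = n98626 := ndS (p := 28115) (l := 6) rfl N28115 D98626
theorem N53029 : nd 53029 = n98627 := ndS (p := 28116) (l := 3) rfl N28116 D98627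
theorem N53030 : nd 53030 = n98632 := ndS (p := 28117) (l := 5) rfl N28117 D98632
theorem N53031 : nd 53031 = n98634 := ndS (p := 28118) (l := 6) rfl N28118 D98634
theorem N53032 : nd 53032 = n98639 := ndS (p := 28120) (l := 3) rfl N28120 D98639
theorem N53033 : nd 53033 = n98640 := ndS (p := 28120) (l := 4) rfl N28120 D98640
theorem N53034 : nd 53034 = n98641 := ndS (p := 28120) (l := 5) rfl N28120 D98641
theorem N53035 : nd 53035 = n98646 := ndS (p := 28121) (l := 0) rfl N28121 D98646
theorem N53036 : nd 53036 = n98647 := ndS (p := 28121) (l := 1) rfl N28121 D98647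
theorem N53037 : nd 53037 = n98648 := ndS (p := 28121) (l := 4) rfl N28121 D98648
theorem N53038 : nd 53038 = n98649 := ndS (p := 28121) (l := 6) rfl N28121 D98649
theorem N53039 : nd 53039 = n98650 := ndS (p := 28122) (l := 0) rfl N28122 D98650
theorem N53040 : nd 53040 = n98651 := ndS (p := 28122) (l := 1) rfl N28122 D98651
theorem N53041 : nd 53041 = n98653 := ndS (p := 28123) (l := 3) rfl N28123 D98653
theorem N53042 : nd 53042 = n98654 := ndS (p := 28123) (l := 6) rfl N28123 D98654
theorem N53043 : nd 53043 = n98655 := ndS (p := 28124) (l := 0) rfl N28124 D98655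
theorem N53044 : nd 53044 = n98656 := ndS (p := 28124) (l := 1) rfl N28124 D98656
theorem N53045 : nd 53045 = n98657 := ndS (p := 28124) (l := 7) rfl N28124 D98657
theorem N53046 : nd 53046 = n98658 := ndS (p := 28125) (l := 3) rfl N28125 D98658
theorem N53047 : nd 53047 = n98662 := ndS (p := 28126) (l := 5) rfl N28126 D98662
theorem N53048 : nd 53048 = n98664 := ndS (p := 28127) (l := 6) rfl N28127 D98664
theorem N53049 : nd 53049 = n98684 := ndS (p := 28128) (l := 6) rfl N28128 D98684
theorem N53050 : nd 53050 = n98692 := ndS (p := 28134) (l := 4) rfl N28134 D98692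
theorem N53051 : nd 53051 = n98693 := ndS (p := 28134) (l := 5) rfl N28134 D98693
theorem N53052 : nd 53052 = n98694 := ndS (p := 28134) (l := 6) rfl N28134 D98694
theorem N53053 : nd 53053 = n98697 := ndS (p := 28135) (l := 4) rfl N28135 D98697
theorem N53054 : nd 53054 = n98698 := ndS (p := 28135) (l := 5) rfl N28135 D98698
theorem N53055 : nd 53055 = n98699 := ndS (p := 28135) (l := 6) rfl N28135 D98699
theorem N53056 : nd 53056 = n98700 := ndS (p := 28136) (l := 0) rfl N28136 D98700
theorem N53057 : nd 53057 = n98701 := ndS (p := 28136) (l := 1) rfl N28136 D98701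
theorem N53058 : nd 53058 = n98702 := ndS (p := 28136) (l := 4) rfl N28136 D98702
theorem N53059 : nd 53059 = n98703 := ndS (p := 28137) (l := 0) rfl N28137 D98703
theorem N53060 : nd 53060 = n98704 := ndS (p := 28137) (l := 4) rfl N28137 D98704
theorem N53061 : nd 53061 = n98707 := ndS (p := 28138) (l := 3) rfl N28138 D98707
theorem N53062 : nd 53062 = n98758 := ndS (p := 28139) (l := 5) rfl N28139 D98758
theorem N53063 : nd 53063 = n98769 := ndS (p := 28141) (l := 6) rfl N28141 D98769
theorem N53064 : nd 53064 = n98770 := ndS (p := 28142) (l := 0) rfl N28142 D98770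
theorem N53065 : nd 53065 = n98771 := ndS (p := 28142) (l := 1) rfl N28142 D98771
theorem N53066 : nd 53066 = n98772 := ndS (p := 28142) (l := 4) rfl N28142 D98772
theorem N53067 : nd 53067 = n98847 := ndS (p := 28143) (l := 4) rfl N28143 D98847
theorem N53068 : nd 53068 = n98848 := ndS (p := 28143) (l := 6) rfl N28143 D98848
theorem N53069 : nd 53069 = n98849 := ndS (p := 28144) (l := 0) rfl N28144 D98849
theorem N53070 : nd 53070 = n98850 := ndS (p := 28144) (l := 1) rfl N28144 D98850
theorem N53071 : nd 53071 = n98851 := ndS (p := 28144) (l := 5) rfl N28144 D98851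
theorem N53072 : nd 53072 = n98852 := ndS (p := 28144) (l := 7) rfl N28144 D98852
theorem N53073 : nd 53073 = n98853 := ndS (p := 28145) (l := 6) rfl N28145 D98853
theorem N53074 : nd 53074 = n98856 := ndS (p := 28146) (l := 5) rfl N28146 D98856
theorem N53075 : nd 53075 = n98858 := ndS (p := 28147) (l := 5) rfl N28147 D98858
theorem N53076 : nd 53076 = n98859 := ndS (p := 28148) (l := 0) rfl N28148 D98859
theorem N53077 : nd 53077 = n98860 := ndS (p := 28148) (l := 4) rfl N28148 D98860
theorem N53078 : nd 53078 = n98861 := ndS (p := 28148) (l := 7) rfl N28148 D98861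
theorem N53079 : nd 53079 = n98872 := ndS (p := 28151) (l := 4) rfl N28151 D98872
theorem N53080 : nd 53080 = n98874 := ndS (p := 28152) (l := 6) rfl N28152 D98874
theorem N53081 : nd 53081 = n98875 := ndS (p := 28153) (l := 6) rfl N28153 D98875
theorem N53082 : nd 53082 = n98878 := ndS (p := 28154) (l := 5) rfl N28154 D98878
theorem N53083 : nd 53083 = n98879 := ndS (p := 28154) (l := 7) rfl N28154 D98879
theorem N53084 : nd 53084 = n98886 := ndS (p := 28156) (l := 0) rfl N28156 D98886
theorem N53085 : nd 53085 = n98887 := ndS (p := 28156) (l := 5) rfl N28156 D98887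
theorem N53086 : nd 53086 = n98888 := ndS (p := 28156) (l := 7) rfl N28156 D98888
theorem N53087 : nd 53087 = n98890 := ndS (p := 28157) (l := 3) rfl N28157 D98890
theorem N53088 : nd 53088 = n98891 := ndS (p := 28157) (l := 4) rfl N28157 D98891
theorem N53089 : nd 53089 = n98892 := ndS (p := 28157) (l := 5) rfl N28157 D98892
theorem N53090 : nd 53090 = n98896 := ndS (p := 28158) (l := 4) rfl N28158 D98896
theorem N53091 : nd 53091 = n98897 := ndS (p := 28158) (l := 5) rfl N28158 D98897
theorem N53092 : nd 53092 = n98898 := ndS (p := 28158) (l := 6) rfl N28158 D98898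
theorem N53093 : nd 53093 = n98899 := ndS (p := 28159) (l := 0) rfl N28159 D98899
theorem N53094 : nd 53094 = n98900 := ndS (p := 28159) (l := 1) rfl N28159 D98900
theorem N53095 : nd 53095 = n98901 := ndS (p := 28159) (l := 4) rfl N28159 D98901
theorem N53096 : nd 53096 = n98902 := ndS (p := 28159) (l := 7) rfl N28159 D98902
theorem N53097 : nd 53097 = n98903 := ndS (p := 28161) (l := 5) rfl N28161 D98903
theorem N53098 : nd 53098 = n98904 := ndS (p := 28161) (l := 6) rfl N28161 D98904
theorem N53099 : nd 53099 = n98907 := ndS (p := 28162) (l := 4) rfl N28162 D98907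
theorem N53100 : nd 53100 = n98908 := ndS (p := 28162) (l := 6) rfl N28162 D98908
theorem N53101 : nd 53101 = n98913 := ndS (p := 28164) (l := 4) rfl N28164 D98913
theorem N53102 : nd 53102 = n98914 := ndS (p := 28164) (l := 6) rfl N28164 D98914
theorem N53103 : nd 53103 = n98917 := ndS (p := 28166) (l := 3) rfl N28166 D98917
theorem N53104 : nd 53104 = n98918 := ndS (p := 28166) (l := 4) rfl N28166 D98918
theorem N53105 : nd 53105 = n98920 := ndS (p := 28166) (l := 6) rfl N28166 D98920
theorem N53106 : nd 53106 = n98921 := ndS (p := 28167) (l := 4) rfl N28167 D98921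
theorem N53107 : nd 53107 = n98922 := ndS (p := 28167) (l := 6) rfl N28167 D98922
theorem N53108 : nd 53108 = n98923 := ndS (p := 28168) (l := 0) rfl N28168 D98923
theorem N53109 : nd 53109 = n98924 := ndS (p := 28168) (l := 1) rfl N28168 D98924
theorem N53110 : nd 53110 = n98926 := ndS (p := 28168) (l := 5) rfl N28168 D98926
theorem N53111 : nd 53111 = n98935 := ndS (p := 28169) (l := 0) rfl N28169 D98935
theorem N53112 : nd 53112 = n98937 := ndS (p := 28169) (l := 2) rfl N28169 D98937
theorem N53113 : nd 53113 = n98939 := ndS (p := 28169) (l := 5) rfl N28169 D98939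
theorem N53114 : nd 53114 = n98945 := ndS (p := 28170) (l := 5) rfl N28170 D98945
theorem N53115 : nd 53115 = n98949 := ndS (p := 28171) (l := 1) rfl N28171 D98949
theorem N53116 : nd 53116 = n98950 := ndS (p := 28171) (l := 4) rfl N28171 D98950
theorem N53117 : nd 53117 = n98951 := ndS (p := 28171) (l := 6) rfl N28171 D98951
theorem N53118 : nd 53118 = n98955 := ndS (p := 28172) (l := 5) rfl N28172 D98955
theorem N53119 : nd 53119 = n98956 := ndS (p := 28172) (l := 7) rfl N28172 D98956
theorem N53120 : nd 53120 = n98959 := ndS (p := 28173) (l := 1) rfl N28173 D98959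
theorem N53121 : nd 53121 = n98960 := ndS (p := 28173) (l := 2) rfl N28173 D98960
theorem N53122 : nd 53122 = n98961 := ndS (p := 28173) (l := 4) rfl N28173 D98961
theorem N53123 : nd 53123 = n98962 := ndS (p := 28173) (l := 5) rfl N28173 D98962
theorem N53124 : nd 53124 = n98963 := ndS (p := 28173) (l := 6) rfl N28173 D98963
theorem N53125 : nd 53125 = n98964 := ndS (p := 28174) (l := 3) rfl N28174 D98964
theorem N53126 : nd 53126 = n98965 := ndS (p := 28174) (l := 5) rfl N28174 D98965
theorem N53127 : nd 53127 = n98966 := ndS (p := 28174) (l := 6) rfl N28174 D98966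
theorem N53128 : nd 53128 = n98967 := ndS (p := 28175) (l := 4) rfl N28175 D98967
theorem N53129 : nd 53129 = n98969 := ndS (p := 28176) (l := 0) rfl N28176 D98969
theorem N53130 : nd 53130 = n98971 := ndS (p := 28176) (l := 5) rfl N28176 D98971
theorem N53131 : nd 53131 = n98972 := ndS (p := 28176) (l := 7) rfl N28176 D98972
theorem N53132 : nd 53132 = n98974 := ndS (p := 28177) (l := 3) rfl N28177 D98974
theorem N53133 : nd 53133 = n98976 := ndS (p := 28177) (l := 5) rfl N28177 D98976
theorem N53134 : nd 53134 = n98977 := ndS (p := 28177) (l := 6) rfl N28177 D98977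
theorem N53135 : nd 53135 = n98979 := ndS (p := 28178) (l := 3) rfl N28178 D98979
theorem N53136 : nd 53136 = n98981 := ndS (p := 28178) (l := 6) rfl N28178 D98981
theorem N53137 : nd 53137 = n98988 := ndS (p := 28180) (l := 5) rfl N28180 D98988
theorem N53138 : nd 53138 = n98989 := ndS (p := 28180) (l := 6) rfl N28180 D98989
theorem N53139 : nd 53139 = n98990 := ndS (p := 28181) (l := 1) rfl N28181 D98990
theorem N53140 : nd 53140 = n98991 := ndS (p := 28181) (l := 4) rfl N28181 D98991
theorem N53141 : nd 53141 = n98992 := ndS (p := 28181) (l := 6) rfl N28181 D98992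
theorem N53142 : nd 53142 = n98993 := ndS (p := 28182) (l := 1) rfl N28182 D98993
theorem N53143 : nd 53143 = n99001 := ndS (p := 28183) (l := 0) rfl N28183 D99001
theorem N53144 : nd 53144 = n99002 := ndS (p := 28183) (l := 1) rfl N28183 D99002
theorem N53145 : nd 53145 = n99003 := ndS (p := 28183) (l := 7) rfl N28183 D99003
theorem N53146 : nd 53146 = n99007 := ndS (p := 28184) (l := 4) rfl N28184 D99007
theorem N53147 : nd 53147 = n99008 := ndS (p := 28184) (l := 5) rfl N28184 D99008
theorem N53148 : nd 53148 = n99010 := ndS (p := 28185) (l := 5) rfl N28185 D99010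
theorem N53149 : nd 53149 = n99011 := ndS (p := 28185) (l := 6) rfl N28185 D99011
theorem N53150 : nd 53150 = n99012 := ndS (p := 28186) (l := 0) rfl N28186 D99012
theorem N53151 : nd 53151 = n99013 := ndS (p := 28186) (l := 1) rfl N28186 D99013
theorem N53152 : nd 53152 = n99014 := ndS (p := 28186) (l := 4) rfl N28186 D99014
theorem N53153 : nd 53153 = n99015 := ndS (p := 28186) (l := 6) rfl N28186 D99015
theorem N53154 : nd 53154 = n99016 := ndS (p := 28187) (l := 0) rfl N28187 D99016
theorem N53155 : nd 53155 = n99017 := ndS (p := 28187) (l := 1) rfl N28187 D99017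
theorem N53156 : nd 53156 = n99023 := ndS (p := 28188) (l := 7) rfl N28188 D99023
theorem N53157 : nd 53157 = n99025 := ndS (p := 28189) (l := 2) rfl N28189 D99025
theorem N53158 : nd 53158 = n99026 := ndS (p := 28189) (l := 4) rfl N28189 D99026
theorem N53159 : nd 53159 = n99032 := ndS (p := 28190) (l := 0) rfl N28190 D99032
theorem N53160 : nd 53160 = n99033 := ndS (p := 28190) (l := 1) rfl N28190 D99033
theorem N53161 : nd 53161 = n99034 := ndS (p := 28190) (l := 7) rfl N28190 D99034
theorem N53162 : nd 53162 = n99037 := ndS (p := 28191) (l := 2) rfl N28191 D99037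
theorem N53163 : nd 53163 = n99038 := ndS (p := 28191) (l := 4) rfl N28191 D99038
theorem N53164 : nd 53164 = n99040 := ndS (p := 28191) (l := 6) rfl N28191 D99040
theorem N53165 : nd 53165 = n99044 := ndS (p := 28192) (l := 0) rfl N28192 D99044
theorem N53166 : nd 53166 = n99045 := ndS (p := 28192) (l := 1) rfl N28192 D99045
theorem N53167 : nd 53167 = n99046 := ndS (p := 28192) (l := 5) rfl N28192 D99046
theorem N53168 : nd 53168 = n99047 := ndS (p := 28192) (l := 7) rfl N28192 D99047
theorem N53169 : nd 53169 = n99066 := ndS (p := 28193) (l := 3) rfl N28193 D99066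
theorem N53170 : nd 53170 = n99067 := ndS (p := 28193) (l := 4) rfl N28193 D99067
theorem N53171 : nd 53171 = n99074 := ndS (p := 28194) (l := 0) rfl N28194 D99074
theorem N53172 : nd 53172 = n99075 := ndS (p := 28194) (l := 1) rfl N28194 D99075
theorem N53173 : nd 53173 = n99081 := ndS (p := 28195) (l := 3) rfl N28195 D99081
theorem N53174 : nd 53174 = n99284 := ndS (p := 28196) (l := 5) rfl N28196 D99284
theorem N53175 : nd 53175 = n99285 := ndS (p := 28197) (l := 4) rfl N28197 D99285
theorem N53176 : nd 53176 = n99286 := ndS (p := 28198) (l := 5) rfl N28198 D99286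
theorem N53177 : nd 53177 = n99290 := ndS (p := 28200) (l := 6) rfl N28200 D99290
theorem N53178 : nd 53178 = n99291 := ndS (p := 28201) (l := 0) rfl N28201 D99291
theorem N53179 : nd 53179 = n99292 := ndS (p := 28201) (l := 1) rfl N28201 D99292
theorem N53180 : nd 53180 = n99293 := ndS (p := 28201) (l := 5) rfl N28201 D99293
theorem N53181 : nd 53181 = n99294 := ndS (p := 28201) (l := 7) rfl N28201 D99294
theorem N53182 : nd 53182 = n99295 := ndS (p := 28202) (l := 3) rfl N28202 D99295
theorem N53183 : nd 53183 = n99304 := ndS (p := 28205) (l := 3) rfl N28205 D99304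
theorem N53184 : nd 53184 = n99306 := ndS (p := 28205) (l := 5) rfl N28205 D99306
theorem N53185 : nd 53185 = n99307 := ndS (p := 28205) (l := 6) rfl N28205 D99307
theorem N53186 : nd 53186 = n99309 := ndS (p := 28206) (l := 3) rfl N28206 D99309
theorem N53187 : nd 53187 = n99311 := ndS (p := 28206) (l := 5) rfl N28206 D99311
theorem N53188 : nd 53188 = n99312 := ndS (p := 28206) (l := 6) rfl N28206 D99312
theorem N53189 : nd 53189 = n99313 := ndS (p := 28207) (l := 0) rfl N28207 D99313
theorem N53190 : nd 53190 = n99314 := ndS (p := 28207) (l := 4) rfl N28207 D99314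
theorem N53191 : nd 53191 = n99315 := ndS (p := 28207) (l := 7) rfl N28207 D99315
theorem N53192 : nd 53192 = n99316 := ndS (p := 28209) (l := 5) rfl N28209 D99316
theorem N53193 : nd 53193 = n99317 := ndS (p := 28210) (l := 4) rfl N28210 D99317
theorem N53194 : nd 53194 = n99318 := ndS (p := 28211) (l := 3) rfl N28211 D99318
theorem N53195 : nd 53195 = n99319 := ndS (p := 28211) (l := 6) rfl N28211 D99319
theorem N53196 : nd 53196 = n99320 := ndS (p := 28212) (l := 3) rfl N28212 D99320
theorem N53197 : nd 53197 = n99321 := ndS (p := 28212) (l := 6) rfl N28212 D99321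
theorem N53198 : nd 53198 = n99328 := ndS (p := 28214) (l := 5) rfl N28214 D99328
theorem N53199 : nd 53199 = n99330 := ndS (p := 28215) (l := 4) rfl N28215 D99330
theorem N53200 : nd 53200 = n99331 := ndS (p := 28215) (l := 6) rfl N28215 D99331
theorem N53201 : nd 53201 = n99332 := ndS (p := 28216) (l := 3) rfl N28216 D99332
theorem N53202 : nd 53202 = n99350 := ndS (p := 28217) (l := 5) rfl N28217 D99350
theorem N53203 : nd 53203 = n99353 := ndS (p := 28218) (l := 3) rfl N28218 D99353
theorem N53204 : nd 53204 = n99354 := ndS (p := 28218) (l := 5) rfl N28218 D99354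
theorem N53205 : nd 53205 = n99358 := ndS (p := 28219) (l := 4) rfl N28219 D99358
theorem N53206 : nd 53206 = n99361 := ndS (p := 28220) (l := 3) rfl N28220 D99361
theorem N53207 : nd 53207 = n99363 := ndS (p := 28220) (l := 5) rfl N28220 D99363
theorem N53208 : nd 53208 = n99364 := ndS (p := 28220) (l := 6) rfl N28220 D99364
theorem N53209 : nd 53209 = n99368 := ndS (p := 28221) (l := 5) rfl N28221 D99368
theorem N53210 : nd 53210 = n99369 := ndS (p := 28221) (l := 6) rfl N28221 D99369
theorem N53211 : nd 53211 = n99370 := ndS (p := 28222) (l := 0) rfl N28222 D99370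
theorem N53212 : nd 53212 = n99371 := ndS (p := 28222) (l := 4) rfl N28222 D99371
theorem N53213 : nd 53213 = n99372 := ndS (p := 28222) (l := 7) rfl N28222 D99372
theorem N53214 : nd 53214 = n99373 := ndS (p := 28224) (l := 0) rfl N28224 D99373
theorem N53215 : nd 53215 = n99375 := ndS (p := 28224) (l := 2) rfl N28224 D99375
theorem N53216 : nd 53216 = n99376 := ndS (p := 28224) (l := 5) rfl N28224 D99376
theorem N53217 : nd 53217 = n99377 := ndS (p := 28225) (l := 4) rfl N28225 D99377
theorem N53218 : nd 53218 = n99378 := ndS (p := 28226) (l := 5) rfl N28226 D99378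
theorem N53219 : nd 53219 = n99379 := ndS (p := 28227) (l := 4) rfl N28227 D99379
theorem N53220 : nd 53220 = n99380 := ndS (p := 28227) (l := 6) rfl N28227 D99380
theorem N53221 : nd 53221 = n99381 := ndS (p := 28228) (l := 3) rfl N28228 D99381
theorem N53222 : nd 53222 = n99382 := ndS (p := 28228) (l := 6) rfl N28228 D99382
theorem N53223 : nd 53223 = n99383 := ndS (p := 28229) (l := 3) rfl N28229 D99383
theorem N53224 : nd 53224 = n99384 := ndS (p := 28229) (l := 6) rfl N28229 D99384
theorem N53225 : nd 53225 = n99385 := ndS (p := 28230) (l := 0) rfl N28230 D99385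
theorem N53226 : nd 53226 = n99386 := ndS (p := 28230) (l := 3) rfl N28230 D99386
theorem N53227 : nd 53227 = n99413 := ndS (p := 28231) (l := 6) rfl N28231 D99413
theorem N53228 : nd 53228 = n99416 := ndS (p := 28232) (l := 5) rfl N28232 D99416
theorem N53229 : nd 53229 = n99420 := ndS (p := 28233) (l := 5) rfl N28233 D99420
theorem N53230 : nd 53230 = n99422 := ndS (p := 28234) (l := 0) rfl N28234 D99422
theorem N53231 : nd 53231 = n99423 := ndS (p := 28234) (l := 1) rfl N28234 D99423
theorem N53232 : nd 53232 = n99424 := ndS (p := 28234) (l := 5) rfl N28234 D99424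
theorem N53233 : nd 53233 = n99425 := ndS (p := 28234) (l := 7) rfl N28234 D99425
theorem N53234 : nd 53234 = n99427 := ndS (p := 28235) (l := 3) rfl N28235 D99427
theorem N53235 : nd 53235 = n99428 := ndS (p := 28235) (l := 5) rfl N28235 D99428
theorem N53236 : nd 53236 = n99431 := ndS (p := 28236) (l := 5) rfl N28236 D99431
theorem N53237 : nd 53237 = n99433 := ndS (p := 28237) (l := 0) rfl N28237 D99433
theorem N53238 : nd 53238 = n99434 := ndS (p := 28237) (l := 1) rfl N28237 D99434
theorem N53239 : nd 53239 = n99435 := ndS (p := 28237) (l := 4) rfl N28237 D99435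
theorem N53240 : nd 53240 = n99440 := ndS (p := 28239) (l := 5) rfl N28239 D99440
theorem N53241 : nd 53241 = n99441 := ndS (p := 28239) (l := 6) rfl N28239 D99441
theorem N53242 : nd 53242 = n99443 := ndS (p := 28240) (l := 3) rfl N28240 D99443
theorem N53243 : nd 53243 = n99445 := ndS (p := 28240) (l := 5) rfl N28240 D99445
theorem N53244 : nd 53244 = n99446 := ndS (p := 28240) (l := 6) rfl N28240 D99446
theorem N53245 : nd 53245 = n99447 := ndS (p := 28241) (l := 0) rfl N28241 D99447
theorem N53246 : nd 53246 = n99448 := ndS (p := 28241) (l := 1) rfl N28241 D99448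
theorem N53247 : nd 53247 = n99449 := ndS (p := 28241) (l := 4) rfl N28241 D99449
theorem N53248 : nd 53248 = n99450 := ndS (p := 28241) (l := 7) rfl N28241 D99450
theorem N53249 : nd 53249 = n99454 := ndS (p := 28243) (l := 3) rfl N28243 D99454
theorem N53250 : nd 53250 = n99458 := ndS (p := 28244) (l := 5) rfl N28244 D99458
theorem N53251 : nd 53251 = n99459 := ndS (p := 28244) (l := 6) rfl N28244 D99459
theorem N53252 : nd 53252 = n99462 := ndS (p := 28245) (l := 5) rfl N28245 D99462
theorem N53253 : nd 53253 = n99464 := ndS (p := 28246) (l := 6) rfl N28246 D99464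
theorem N53254 : nd 53254 = n99465 := ndS (p := 28247) (l := 6) rfl N28247 D99465
theorem N53255 : nd 53255 = n99468 := ndS (p := 28248) (l := 5) rfl N28248 D99468
theorem N53256 : nd 53256 = n99472 := ndS (p := 28249) (l := 5) rfl N28249 D99472
theorem N53257 : nd 53257 = n99474 := ndS (p := 28250) (l := 6) rfl N28250 D99474
theorem N53258 : nd 53258 = n99477 := ndS (p := 28251) (l := 5) rfl N28251 D99477
theorem N53259 : nd 53259 = n99478 := ndS (p := 28251) (l := 7) rfl N28251 D99478
theorem N53260 : nd 53260 = n99480 := ndS (p := 28252) (l := 4) rfl N28252 D99480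
theorem N53261 : nd 53261 = n99481 := ndS (p := 28252) (l := 5) rfl N28252 D99481
theorem N53262 : nd 53262 = n99484 := ndS (p := 28253) (l := 3) rfl N28253 D99484
theorem N53263 : nd 53263 = n99485 := ndS (p := 28253) (l := 4) rfl N28253 D99485
theorem N53264 : nd 53264 = n99486 := ndS (p := 28253) (l := 5) rfl N28253 D99486
theorem N53265 : nd 53265 = n99487 := ndS (p := 28253) (l := 6) rfl N28253 D99487
theorem N53266 : nd 53266 = n99488 := ndS (p := 28254) (l := 0) rfl N28254 D99488
theorem N53267 : nd 53267 = n99489 := ndS (p := 28254) (l := 1) rfl N28254 D99489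
theorem N53268 : nd 53268 = n99490 := ndS (p := 28254) (l := 4) rfl N28254 D99490
theorem N53269 : nd 53269 = n99493 := ndS (p := 28255) (l := 3) rfl N28255 D99493
theorem N53270 : nd 53270 = n99495 := ndS (p := 28255) (l := 5) rfl N28255 D99495
theorem N53271 : nd 53271 = n99496 := ndS (p := 28255) (l := 6) rfl N28255 D99496
theorem N53272 : nd 53272 = n99500 := ndS (p := 28256) (l := 5) rfl N28256 D99500
theorem N53273 : nd 53273 = n99502 := ndS (p := 28257) (l := 0) rfl N28257 D99502
theorem N53274 : nd 53274 = n99503 := ndS (p := 28257) (l := 1) rfl N28257 D99503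
theorem N53275 : nd 53275 = n99505 := ndS (p := 28257) (l := 7) rfl N28257 D99505
theorem N53276 : nd 53276 = n99506 := ndS (p := 28259) (l := 3) rfl N28259 D99506
theorem N53277 : nd 53277 = n99507 := ndS (p := 28259) (l := 6) rfl N28259 D99507
theorem N53278 : nd 53278 = n99512 := ndS (p := 28261) (l := 6) rfl N28261 D99512
theorem N53279 : nd 53279 = n99513 := ndS (p := 28262) (l := 6) rfl N28262 D99513
theorem N53280 : nd 53280 = n99514 := ndS (p := 28263) (l := 6) rfl N28263 D99514
theorem N53281 : nd 53281 = n99515 := ndS (p := 28264) (l := 0) rfl N28264 D99515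
theorem N53282 : nd 53282 = n99516 := ndS (p := 28264) (l := 1) rfl N28264 D99516
theorem N53283 : nd 53283 = n99517 := ndS (p := 28264) (l := 5) rfl N28264 D99517
theorem N53284 : nd 53284 = n99518 := ndS (p := 28264) (l := 7) rfl N28264 D99518
theorem N53285 : nd 53285 = n99519 := ndS (p := 28265) (l := 0) rfl N28265 D99519
theorem N53286 : nd 53286 = n99521 := ndS (p := 28265) (l := 5) rfl N28265 D99521
theorem N53287 : nd 53287 = n99522 := ndS (p := 28265) (l := 7) rfl N28265 D99522
theorem N53288 : nd 53288 = n99525 := ndS (p := 28266) (l := 5) rfl N28266 D99525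
theorem N53289 : nd 53289 = n99526 := ndS (p := 28266) (l := 7) rfl N28266 D99526
theorem N53290 : nd 53290 = n99537 := ndS (p := 28267) (l := 0) rfl N28267 D99537
theorem N53291 : nd 53291 = n99539 := ndS (p := 28267) (l := 4) rfl N28267 D99539
theorem N53292 : nd 53292 = n99540 := ndS (p := 28267) (l := 7) rfl N28267 D99540
theorem N53293 : nd 53293 = n99541 := ndS (p := 28269) (l := 6) rfl N28269 D99541
theorem N53294 : nd 53294 = n99542 := ndS (p := 28270) (l := 6) rfl N28270 D99542
theorem N53295 : nd 53295 = n99543 := ndS (p := 28271) (l := 0) rfl N28271 D99543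
theorem N53296 : nd 53296 = n99544 := ndS (p := 28271) (l := 1) rfl N28271 D99544
theorem N53297 : nd 53297 = n99545 := ndS (p := 28271) (l := 5) rfl N28271 D99545
theorem N53298 : nd 53298 = n99546 := ndS (p := 28271) (l := 7) rfl N28271 D99546
theorem N53299 : nd 53299 = n99547 := ndS (p := 28272) (l := 0) rfl N28272 D99547
theorem N53300 : nd 53300 = n99549 := ndS (p := 28272) (l := 5) rfl N28272 D99549
theorem N53301 : nd 53301 = n99550 := ndS (p := 28272) (l := 7) rfl N28272 D99550
theorem N53302 : nd 53302 = n99552 := ndS (p := 28273) (l := 1) rfl N28273 D99552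
theorem N53303 : nd 53303 = n99553 := ndS (p := 28273) (l := 5) rfl N28273 D99553
theorem N53304 : nd 53304 = n99554 := ndS (p := 28273) (l := 7) rfl N28273 D99554
theorem N53305 : nd 53305 = n99566 := ndS (p := 28274) (l := 1) rfl N28274 D99566
theorem N53306 : nd 53306 = n99567 := ndS (p := 28274) (l := 4) rfl N28274 D99567
theorem N53307 : nd 53307 = n99568 := ndS (p := 28274) (l := 7) rfl N28274 D99568
theorem N53308 : nd 53308 = n99569 := ndS (p := 28276) (l := 5) rfl N28276 D99569
theorem N53309 : nd 53309 = n99571 := ndS (p := 28277) (l := 0) rfl N28277 D99571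
theorem N53310 : nd 53310 = n99572 := ndS (p := 28277) (l := 1) rfl N28277 D99572
theorem N53311 : nd 53311 = n99573 := ndS (p := 28277) (l := 5) rfl N28277 D99573
theorem N53312 : nd 53312 = n99574 := ndS (p := 28277) (l := 7) rfl N28277 D99574
theorem N53313 : nd 53313 = n99576 := ndS (p := 28278) (l := 3) rfl N28278 D99576
theorem N53314 : nd 53314 = n99577 := ndS (p := 28278) (l := 4) rfl N28278 D99577
theorem N53315 : nd 53315 = n99579 := ndS (p := 28278) (l := 6) rfl N28278 D99579
theorem N53316 : nd 53316 = n99581 := ndS (p := 28279) (l := 3) rfl N28279 D99581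
theorem N53317 : nd 53317 = n99585 := ndS (p := 28280) (l := 0) rfl N28280 D99585
theorem N53318 : nd 53318 = n99586 := ndS (p := 28280) (l := 1) rfl N28280 D99586
theorem N53319 : nd 53319 = n99587 := ndS (p := 28280) (l := 4) rfl N28280 D99587
theorem N53320 : nd 53320 = n99588 := ndS (p := 28280) (l := 7) rfl N28280 D99588
theorem N53321 : nd 53321 = n99589 := ndS (p := 28282) (l := 4) rfl N28282 D99589
theorem N53322 : nd 53322 = n99590 := ndS (p := 28282) (l := 6) rfl N28282 D99590
theorem N53323 : nd 53323 = n99591 := ndS (p := 28283) (l := 3) rfl N28283 D99591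
theorem N53324 : nd 53324 = n99592 := ndS (p := 28283) (l := 6) rfl N28283 D99592
theorem N53325 : nd 53325 = n99593 := ndS (p := 28284) (l := 0) rfl N28284 D99593
theorem N53326 : nd 53326 = n99595 := ndS (p := 28284) (l := 5) rfl N28284 D99595
theorem N53327 : nd 53327 = n99596 := ndS (p := 28284) (l := 7) rfl N28284 D99596
theorem N53328 : nd 53328 = n99597 := ndS (p := 28285) (l := 6) rfl N28285 D99597
theorem N53329 : nd 53329 = n99601 := ndS (p := 28287) (l := 5) rfl N28287 D99601
theorem N53330 : nd 53330 = n99603 := ndS (p := 28288) (l := 6) rfl N28288 D99603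
theorem N53331 : nd 53331 = n99605 := ndS (p := 28290) (l := 0) rfl N28290 D99605
theorem N53332 : nd 53332 = n99606 := ndS (p := 28290) (l := 1) rfl N28290 D99606
theorem N53333 : nd 53333 = n99607 := ndS (p := 28290) (l := 6) rfl N28290 D99607
theorem N53334 : nd 53334 = n99610 := ndS (p := 28291) (l := 5) rfl N28291 D99610
theorem N53335 : nd 53335 = n99613 := ndS (p := 28292) (l := 3) rfl N28292 D99613
theorem N53336 : nd 53336 = n99614 := ndS (p := 28292) (l := 4) rfl N28292 D99614
theorem N53337 : nd 53337 = n99616 := ndS (p := 28292) (l := 6) rfl N28292 D99616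
theorem N53338 : nd 53338 = n99618 := ndS (p := 28293) (l := 3) rfl N28293 D99618
theorem N53339 : nd 53339 = n99619 := ndS (p := 28293) (l := 4) rfl N28293 D99619
theorem N53340 : nd 53340 = n99621 := ndS (p := 28293) (l := 6) rfl N28293 D99621
theorem N53341 : nd 53341 = n99622 := ndS (p := 28294) (l := 0) rfl N28294 D99622
theorem N53342 : nd 53342 = n99623 := ndS (p := 28294) (l := 1) rfl N28294 D99623
theorem N53343 : nd 53343 = n99624 := ndS (p := 28294) (l := 4) rfl N28294 D99624
theorem N53344 : nd 53344 = n99625 := ndS (p := 28294) (l := 7) rfl N28294 D99625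
theorem N53345 : nd 53345 = n99632 := ndS (p := 28296) (l := 0) rfl N28296 D99632
theorem N53346 : nd 53346 = n99634 := ndS (p := 28296) (l := 2) rfl N28296 D99634
theorem N53347 : nd 53347 = n99635 := ndS (p := 28296) (l := 5) rfl N28296 D99635
theorem N53348 : nd 53348 = n99636 := ndS (p := 28296) (l := 6) rfl N28296 D99636
theorem N53349 : nd 53349 = n99638 := ndS (p := 28297) (l := 0) rfl N28297 D99638
theorem N53350 : nd 53350 = n99640 := ndS (p := 28297) (l := 6) rfl N28297 D99640
theorem N53351 : nd 53351 = n99649 := ndS (p := 28299) (l := 5) rfl N28299 D99649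
theorem N53352 : nd 53352 = n99650 := ndS (p := 28299) (l := 7) rfl N28299 D99650
theorem N53353 : nd 53353 = n99653 := ndS (p := 28300) (l := 1) rfl N28300 D99653
theorem N53354 : nd 53354 = n99654 := ndS (p := 28300) (l := 2) rfl N28300 D99654
theorem N53355 : nd 53355 = n99656 := ndS (p := 28300) (l := 6) rfl N28300 D99656
theorem N53356 : nd 53356 = n99658 := ndS (p := 28301) (l := 6) rfl N28301 D99658
theorem N53357 : nd 53357 = n99666 := ndS (p := 28303) (l := 3) rfl N28303 D99666
theorem N53358 : nd 53358 = n99667 := ndS (p := 28303) (l := 4) rfl N28303 D99667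
theorem N53359 : nd 53359 = n99669 := ndS (p := 28303) (l := 6) rfl N28303 D99669
theorem N53360 : nd 53360 = n99671 := ndS (p := 28304) (l := 3) rfl N28304 D99671
theorem N53361 : nd 53361 = n99672 := ndS (p := 28304) (l := 4) rfl N28304 D99672
theorem N53362 : nd 53362 = n99674 := ndS (p := 28304) (l := 6) rfl N28304 D99674
theorem N53363 : nd 53363 = n99675 := ndS (p := 28305) (l := 0) rfl N28305 D99675
theorem N53364 : nd 53364 = n99676 := ndS (p := 28305) (l := 1) rfl N28305 D99676
theorem N53365 : nd 53365 = n99677 := ndS (p := 28305) (l := 3) rfl N28305 D99677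
theorem N53366 : nd 53366 = n99692 := ndS (p := 28307) (l := 6) rfl N28307 D99692
theorem N53367 : nd 53367 = n99698 := ndS (p := 28308) (l := 6) rfl N28308 D99698
theorem N53368 : nd 53368 = n99700 := ndS (p := 28309) (l := 0) rfl N28309 D99700
theorem N53369 : nd 53369 = n99702 := ndS (p := 28309) (l := 4) rfl N28309 D99702
theorem N53370 : nd 53370 = n99703 := ndS (p := 28309) (l := 6) rfl N28309 D99703
theorem N53371 : nd 53371 = n99706 := ndS (p := 28310) (l := 1) rfl N28310 D99706
theorem N53372 : nd 53372 = n99707 := ndS (p := 28310) (l := 7) rfl N28310 D99707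
theorem N53373 : nd 53373 = n99710 := ndS (p := 28311) (l := 1) rfl N28311 D99710
theorem N53374 : nd 53374 = n99711 := ndS (p := 28311) (l := 2) rfl N28311 D99711
theorem N53375 : nd 53375 = n99713 := ndS (p := 28311) (l := 5) rfl N28311 D99713
theorem N53376 : nd 53376 = n99715 := ndS (p := 28312) (l := 3) rfl N28312 D99715
theorem N53377 : nd 53377 = n99716 := ndS (p := 28312) (l := 5) rfl N28312 D99716
theorem N53378 : nd 53378 = n99717 := ndS (p := 28312) (l := 6) rfl N28312 D99717
theorem N53379 : nd 53379 = n99718 := ndS (p := 28313) (l := 4) rfl N28313 D99718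
theorem N53380 : nd 53380 = n99719 := ndS (p := 28313) (l := 6) rfl N28313 D99719
theorem N53381 : nd 53381 = n99720 := ndS (p := 28314) (l := 0) rfl N28314 D99720
theorem N53382 : nd 53382 = n99722 := ndS (p := 28314) (l := 5) rfl N28314 D99722
theorem N53383 : nd 53383 = n99723 := ndS (p := 28314) (l := 7) rfl N28314 D99723
theorem N53384 : nd 53384 = n99726 := ndS (p := 28315) (l := 4) rfl N28315 D99726
theorem N53385 : nd 53385 = n99727 := ndS (p := 28315) (l := 5) rfl N28315 D99727
theorem N53386 : nd 53386 = n99728 := ndS (p := 28315) (l := 6) rfl N28315 D99728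
theorem N53387 : nd 53387 = n99730 := ndS (p := 28316) (l := 3) rfl N28316 D99730
theorem N53388 : nd 53388 = n99731 := ndS (p := 28316) (l := 4) rfl N28316 D99731
theorem N53389 : nd 53389 = n99732 := ndS (p := 28316) (l := 6) rfl N28316 D99732
theorem N53390 : nd 53390 = n99733 := ndS (p := 28317) (l := 0) rfl N28317 D99733
theorem N53391 : nd 53391 = n99734 := ndS (p := 28317) (l := 1) rfl N28317 D99734
theorem N53392 : nd 53392 = n99735 := ndS (p := 28317) (l := 3) rfl N28317 D99735
theorem N53393 : nd 53393 = n99736 := ndS (p := 28317) (l := 5) rfl N28317 D99736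
theorem N53394 : nd 53394 = n99737 := ndS (p := 28317) (l := 7) rfl N28317 D99737
theorem N53395 : nd 53395 = n99738 := ndS (p := 28318) (l := 6) rfl N28318 D99738
theorem N53396 : nd 53396 = n99740 := ndS (p := 28319) (l := 5) rfl N28319 D99740
theorem N53397 : nd 53397 = n99747 := ndS (p := 28320) (l := 6) rfl N28320 D99747
theorem N53398 : nd 53398 = n99752 := ndS (p := 28321) (l := 0) rfl N28321 D99752
theorem N53399 : nd 53399 = n99755 := ndS (p := 28322) (l := 4) rfl N28322 D99755
theorem N53400 : nd 53400 = n99756 := ndS (p := 28322) (l := 6) rfl N28322 D99756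
theorem N53401 : nd 53401 = n99758 := ndS (p := 28323) (l := 6) rfl N28323 D99758
theorem N53402 : nd 53402 = n99759 := ndS (p := 28324) (l := 0) rfl N28324 D99759
theorem N53403 : nd 53403 = n99760 := ndS (p := 28324) (l := 1) rfl N28324 D99760
theorem N53404 : nd 53404 = n99769 := ndS (p := 28325) (l := 4) rfl N28325 D99769
theorem N53405 : nd 53405 = n99770 := ndS (p := 28325) (l := 5) rfl N28325 D99770
theorem N53406 : nd 53406 = n99773 := ndS (p := 28326) (l := 6) rfl N28326 D99773
theorem N53407 : nd 53407 = n99775 := ndS (p := 28327) (l := 1) rfl N28327 D99775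
theorem N53408 : nd 53408 = n99778 := ndS (p := 28328) (l := 0) rfl N28328 D99778
theorem N53409 : nd 53409 = n99779 := ndS (p := 28328) (l := 1) rfl N28328 D99779
theorem N53410 : nd 53410 = n99780 := ndS (p := 28329) (l := 3) rfl N28329 D99780
theorem N53411 : nd 53411 = n99792 := ndS (p := 28332) (l := 0) rfl N28332 D99792
theorem N53412 : nd 53412 = n99793 := ndS (p := 28332) (l := 1) rfl N28332 D99793
theorem N53413 : nd 53413 = n99800 := ndS (p := 28333) (l := 6) rfl N28333 D99800
theorem N53414 : nd 53414 = n99801 := ndS (p := 28334) (l := 3) rfl N28334 D99801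
theorem N53415 : nd 53415 = n99802 := ndS (p := 28334) (l := 6) rfl N28334 D99802
theorem N53416 : nd 53416 = n99803 := ndS (p := 28335) (l := 0) rfl N28335 D99803
theorem N53417 : nd 53417 = n99804 := ndS (p := 28335) (l := 1) rfl N28335 D99804
theorem N53418 : nd 53418 = n99805 := ndS (p := 28335) (l := 7) rfl N28335 D99805
theorem N53419 : nd 53419 = n99806 := ndS (p := 28336) (l := 3) rfl N28336 D99806
theorem N53420 : nd 53420 = n99807 := ndS (p := 28336) (l := 6) rfl N28336 D99807
theorem N53421 : nd 53421 = n99808 := ndS (p := 28337) (l := 3) rfl N28337 D99808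
theorem N53422 : nd 53422 = n99809 := ndS (p := 28337) (l := 6) rfl N28337 D99809
theorem N53423 : nd 53423 = n99810 := ndS (p := 28338) (l := 0) rfl N28338 D99810
theorem N53424 : nd 53424 = n99811 := ndS (p := 28338) (l := 1) rfl N28338 D99811
theorem N53425 : nd 53425 = n99812 := ndS (p := 28338) (l := 2) rfl N28338 D99812
theorem N53426 : nd 53426 = n99813 := ndS (p := 28339) (l := 0) rfl N28339 D99813
theorem N53427 : nd 53427 = n99814 := ndS (p := 28339) (l := 1) rfl N28339 D99814
theorem N53428 : nd 53428 = n99815 := ndS (p := 28340) (l := 3) rfl N28340 D99815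
theorem N53429 : nd 53429 = n99816 := ndS (p := 28341) (l := 1) rfl N28341 D99816
theorem N53430 : nd 53430 = n99817 := ndS (p := 28341) (l := 2) rfl N28341 D99817
theorem N53431 : nd 53431 = n99818 := ndS (p := 28341) (l := 5) rfl N28341 D99818
theorem N53432 : nd 53432 = n99819 := ndS (p := 28342) (l := 6) rfl N28342 D99819
theorem N53433 : nd 53433 = n99820 := ndS (p := 28343) (l := 3) rfl N28343 D99820
theorem N53434 : nd 53434 = n99821 := ndS (p := 28343) (l := 5) rfl N28343 D99821
theorem N53435 : nd 53435 = n99822 := ndS (p := 28344) (l := 5) rfl N28344 D99822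
theorem N53436 : nd 53436 = n99823 := ndS (p := 28345) (l := 0) rfl N28345 D99823
theorem N53437 : nd 53437 = n99824 := ndS (p := 28345) (l := 1) rfl N28345 D99824
theorem N53438 : nd 53438 = n99825 := ndS (p := 28345) (l := 4) rfl N28345 D99825
theorem N53439 : nd 53439 = n99826 := ndS (p := 28345) (l := 6) rfl N28345 D99826
theorem N53440 : nd 53440 = n99827 := ndS (p := 28346) (l := 3) rfl N28346 D99827
theorem N53441 : nd 53441 = n99828 := ndS (p := 28346) (l := 6) rfl N28346 D99828
theorem N53442 : nd 53442 = n99829 := ndS (p := 28347) (l := 3) rfl N28347 D99829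
theorem N53443 : nd 53443 = n99830 := ndS (p := 28347) (l := 6) rfl N28347 D99830
theorem N53444 : nd 53444 = n99831 := ndS (p := 28348) (l := 3) rfl N28348 D99831
theorem N53445 : nd 53445 = n99832 := ndS (p := 28348) (l := 6) rfl N28348 D99832
theorem N53446 : nd 53446 = n99833 := ndS (p := 28349) (l := 0) rfl N28349 D99833
theorem N53447 : nd 53447 = n99834 := ndS (p := 28349) (l := 1) rfl N28349 D99834
theorem N53448 : nd 53448 = n99835 := ndS (p := 28349) (l := 7) rfl N28349 D99835
theorem N53449 : nd 53449 = n99837 := ndS (p := 28350) (l := 2) rfl N28350 D99837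
theorem N53450 : nd 53450 = n99842 := ndS (p := 28351) (l := 3) rfl N28351 D99842
theorem N53451 : nd 53451 = n99843 := ndS (p := 28351) (l := 5) rfl N28351 D99843
theorem N53452 : nd 53452 = n99845 := ndS (p := 28352) (l := 5) rfl N28352 D99845
theorem N53453 : nd 53453 = n99846 := ndS (p := 28352) (l := 6) rfl N28352 D99846
theorem N53454 : nd 53454 = n99847 := ndS (p := 28353) (l := 0) rfl N28353 D99847
theorem N53455 : nd 53455 = n99848 := ndS (p := 28353) (l := 1) rfl N28353 D99848
theorem N53456 : nd 53456 = n99849 := ndS (p := 28353) (l := 4) rfl N28353 D99849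
theorem N53457 : nd 53457 = n99853 := ndS (p := 28354) (l := 5) rfl N28354 D99853
theorem N53458 : nd 53458 = n99854 := ndS (p := 28355) (l := 3) rfl N28355 D99854
theorem N53459 : nd 53459 = n99855 := ndS (p := 28355) (l := 6) rfl N28355 D99855
theorem N53460 : nd 53460 = n99856 := ndS (p := 28356) (l := 0) rfl N28356 D99856
theorem N53461 : nd 53461 = n99857 := ndS (p := 28356) (l := 1) rfl N28356 D99857
theorem N53462 : nd 53462 = n99858 := ndS (p := 28356) (l := 5) rfl N28356 D99858
theorem N53463 : nd 53463 = n99859 := ndS (p := 28356) (l := 7) rfl N28356 D99859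
theorem N53464 : nd 53464 = n99863 := ndS (p := 28358) (l := 5) rfl N28358 D99863
theorem N53465 : nd 53465 = n99864 := ndS (p := 28358) (l := 7) rfl N28358 D99864
theorem N53466 : nd 53466 = n99867 := ndS (p := 28359) (l := 5) rfl N28359 D99867
theorem N53467 : nd 53467 = n99870 := ndS (p := 28360) (l := 3) rfl N28360 D99870
theorem N53468 : nd 53468 = n99871 := ndS (p := 28360) (l := 5) rfl N28360 D99871
theorem N53469 : nd 53469 = n99874 := ndS (p := 28361) (l := 5) rfl N28361 D99874
theorem N53470 : nd 53470 = n99875 := ndS (p := 28361) (l := 6) rfl N28361 D99875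
theorem N53471 : nd 53471 = n99876 := ndS (p := 28362) (l := 0) rfl N28362 D99876
theorem N53472 : nd 53472 = n99877 := ndS (p := 28362) (l := 1) rfl N28362 D99877
theorem N53473 : nd 53473 = n99882 := ndS (p := 28363) (l := 6) rfl N28363 D99882
theorem N53474 : nd 53474 = n99888 := ndS (p := 28365) (l := 0) rfl N28365 D99888
theorem N53475 : nd 53475 = n99889 := ndS (p := 28365) (l := 1) rfl N28365 D99889
theorem N53476 : nd 53476 = n99890 := ndS (p := 28365) (l := 4) rfl N28365 D99890
theorem N53477 : nd 53477 = n99891 := ndS (p := 28365) (l := 7) rfl N28365 D99891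
theorem N53478 : nd 53478 = n99892 := ndS (p := 28367) (l := 4) rfl N28367 D99892
theorem N53479 : nd 53479 = n99893 := ndS (p := 28367) (l := 6) rfl N28367 D99893
theorem N53480 : nd 53480 = n99895 := ndS (p := 28368) (l := 4) rfl N28368 D99895
theorem N53481 : nd 53481 = n99896 := ndS (p := 28368) (l := 6) rfl N28368 D99896
theorem N53482 : nd 53482 = n99911 := ndS (p := 28376) (l := 6) rfl N28376 D99911
theorem N53483 : nd 53483 = n99914 := ndS (p := 28377) (l := 5) rfl N28377 D99914
theorem N53484 : nd 53484 = n99916 := ndS (p := 28378) (l := 6) rfl N28378 D99916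
theorem N53485 : nd 53485 = n99919 := ndS (p := 28379) (l := 5) rfl N28379 D99919
theorem N53486 : nd 53486 = n99921 := ndS (p := 28380) (l := 0) rfl N28380 D99921
theorem N53487 : nd 53487 = n99922 := ndS (p := 28380) (l := 1) rfl N28380 D99922
theorem N53488 : nd 53488 = n99923 := ndS (p := 28380) (l := 5) rfl N28380 D99923
theorem N53489 : nd 53489 = n99924 := ndS (p := 28380) (l := 7) rfl N28380 D99924
theorem N53490 : nd 53490 = n99926 := ndS (p := 28381) (l := 4) rfl N28381 D99926
theorem N53491 : nd 53491 = n99927 := ndS (p := 28381) (l := 5) rfl N28381 D99927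
theorem N53492 : nd 53492 = n99928 := ndS (p := 28381) (l := 6) rfl N28381 D99928
theorem N53493 : nd 53493 = n99931 := ndS (p := 28382) (l := 4) rfl N28382 D99931
theorem N53494 : nd 53494 = n99932 := ndS (p := 28382) (l := 5) rfl N28382 D99932
theorem N53495 : nd 53495 = n99934 := ndS (p := 28383) (l := 0) rfl N28383 D99934
theorem N53496 : nd 53496 = n99935 := ndS (p := 28383) (l := 1) rfl N28383 D99935
theorem N53497 : nd 53497 = n99936 := ndS (p := 28383) (l := 4) rfl N28383 D99936
theorem N53498 : nd 53498 = n99937 := ndS (p := 28383) (l := 7) rfl N28383 D99937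
theorem N53499 : nd 53499 = n99938 := ndS (p := 28385) (l := 3) rfl N28385 D99938
theorem N53500 : nd 53500 = n99939 := ndS (p := 28385) (l := 6) rfl N28385 D99939
theorem N53501 : nd 53501 = n99940 := ndS (p := 28386) (l := 3) rfl N28386 D99940
theorem N53502 : nd 53502 = n99942 := ndS (p := 28386) (l := 7) rfl N28386 D99942
theorem N53503 : nd 53503 = n99943 := ndS (p := 28387) (l := 6) rfl N28387 D99943
theorem N53504 : nd 53504 = n99945 := ndS (p := 28389) (l := 5) rfl N28389 D99945
theorem N53505 : nd 53505 = n99946 := ndS (p := 28390) (l := 5) rfl N28390 D99946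
theorem N53506 : nd 53506 = n99947 := ndS (p := 28391) (l := 5) rfl N28391 D99947
theorem N53507 : nd 53507 = n99951 := ndS (p := 28393) (l := 0) rfl N28393 D99951
theorem N53508 : nd 53508 = n99952 := ndS (p := 28393) (l := 1) rfl N28393 D99952
theorem N53509 : nd 53509 = n99953 := ndS (p := 28393) (l := 4) rfl N28393 D99953
theorem N53510 : nd 53510 = n99954 := ndS (p := 28394) (l := 3) rfl N28394 D99954
theorem N53511 : nd 53511 = n99955 := ndS (p := 28395) (l := 6) rfl N28395 D99955
theorem N53512 : nd 53512 = n99958 := ndS (p := 28396) (l := 5) rfl N28396 D99958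
theorem N53513 : nd 53513 = n99971 := ndS (p := 28397) (l := 1) rfl N28397 D99971
theorem N53514 : nd 53514 = n99972 := ndS (p := 28397) (l := 4) rfl N28397 D99972
theorem N53515 : nd 53515 = n99975 := ndS (p := 28398) (l := 3) rfl N28398 D99975
theorem N53516 : nd 53516 = n99978 := ndS (p := 28399) (l := 5) rfl N28399 D99978
theorem N53517 : nd 53517 = n99979 := ndS (p := 28399) (l := 6) rfl N28399 D99979
theorem N53518 : nd 53518 = n99984 := ndS (p := 28400) (l := 3) rfl N28400 D99984
theorem N53519 : nd 53519 = n99985 := ndS (p := 28400) (l := 5) rfl N28400 D99985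
theorem N53520 : nd 53520 = n99986 := ndS (p := 28400) (l := 6) rfl N28400 D99986
theorem N53521 : nd 53521 = n99998 := ndS (p := 28403) (l := 5) rfl N28403 D99998
theorem N53522 : nd 53522 = n100002 := ndS (p := 28404) (l := 5) rfl N28404 D100002
theorem N53523 : nd 53523 = n100006 := ndS (p := 28405) (l := 1) rfl N28405 D100006
theorem N53524 : nd 53524 = n100007 := ndS (p := 28405) (l := 4) rfl N28405 D100007
theorem N53525 : nd 53525 = n100015 := ndS (p := 28407) (l := 1) rfl N28407 D100015
theorem N53526 : nd 53526 = n100016 := ndS (p := 28407) (l := 2) rfl N28407 D100016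
theorem N53527 : nd 53527 = n100017 := ndS (p := 28407) (l := 5) rfl N28407 D100017
theorem N53528 : nd 53528 = n100018 := ndS (p := 28407) (l := 6) rfl N28407 D100018
theorem N53529 : nd 53529 = n100019 := ndS (p := 28408) (l := 5) rfl N28408 D100019
theorem N53530 : nd 53530 = n100021 := ndS (p := 28409) (l := 4) rfl N28409 D100021
theorem N53531 : nd 53531 = n100022 := ndS (p := 28409) (l := 6) rfl N28409 D100022
theorem N53532 : nd 53532 = n100025 := ndS (p := 28410) (l := 5) rfl N28410 D100025
theorem N53533 : nd 53533 = n100026 := ndS (p := 28410) (l := 7) rfl N28410 D100026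
theorem N53534 : nd 53534 = n100040 := ndS (p := 28411) (l := 6) rfl N28411 D100040
theorem N53535 : nd 53535 = n100041 := ndS (p := 28412) (l := 6) rfl N28412 D100041
theorem N53536 : nd 53536 = n100042 := ndS (p := 28413) (l := 0) rfl N28413 D100042
theorem N53537 : nd 53537 = n100043 := ndS (p := 28413) (l := 1) rfl N28413 D100043
theorem N53538 : nd 53538 = n100044 := ndS (p := 28413) (l := 5) rfl N28413 D100044
theorem N53539 : nd 53539 = n100045 := ndS (p := 28413) (l := 7) rfl N28413 D100045
theorem N53540 : nd 53540 = n100047 := ndS (p := 28414) (l := 3) rfl N28414 D100047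
theorem N53541 : nd 53541 = n100049 := ndS (p := 28414) (l := 5) rfl N28414 D100049
theorem N53542 : nd 53542 = n100050 := ndS (p := 28414) (l := 6) rfl N28414 D100050
theorem N53543 : nd 53543 = n100054 := ndS (p := 28415) (l := 5) rfl N28415 D100054
theorem N53544 : nd 53544 = n100055 := ndS (p := 28415) (l := 6) rfl N28415 D100055
theorem N53545 : nd 53545 = n100056 := ndS (p := 28416) (l := 0) rfl N28416 D100056
theorem N53546 : nd 53546 = n100057 := ndS (p := 28416) (l := 1) rfl N28416 D100057
theorem N53547 : nd 53547 = n100058 := ndS (p := 28416) (l := 4) rfl N28416 D100058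
theorem N53548 : nd 53548 = n100059 := ndS (p := 28416) (l := 7) rfl N28416 D100059
theorem N53549 : nd 53549 = n100061 := ndS (p := 28418) (l := 5) rfl N28418 D100061
theorem N53550 : nd 53550 = n100062 := ndS (p := 28418) (l := 6) rfl N28418 D100062
theorem N53551 : nd 53551 = n100064 := ndS (p := 28419) (l := 1) rfl N28419 D100064
theorem N53552 : nd 53552 = n100065 := ndS (p := 28419) (l := 5) rfl N28419 D100065
theorem N53553 : nd 53553 = n100066 := ndS (p := 28419) (l := 7) rfl N28419 D100066
theorem N53554 : nd 53554 = n100078 := ndS (p := 28420) (l := 1) rfl N28420 D100078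
theorem N53555 : nd 53555 = n100087 := ndS (p := 28422) (l := 0) rfl N28422 D100087
theorem N53556 : nd 53556 = n100089 := ndS (p := 28422) (l := 2) rfl N28422 D100089
theorem N53557 : nd 53557 = n100090 := ndS (p := 28422) (l := 4) rfl N28422 D100090
theorem N53558 : nd 53558 = n100091 := ndS (p := 28422) (l := 5) rfl N28422 D100091
theorem N53559 : nd 53559 = n100096 := ndS (p := 28423) (l := 3) rfl N28423 D100096
theorem N53560 : nd 53560 = n100097 := ndS (p := 28423) (l := 5) rfl N28423 D100097
theorem N53561 : nd 53561 = n100098 := ndS (p := 28423) (l := 6) rfl N28423 D100098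
theorem N53562 : nd 53562 = n100100 := ndS (p := 28424) (l := 0) rfl N28424 D100100
theorem N53563 : nd 53563 = n100101 := ndS (p := 28424) (l := 1) rfl N28424 D100101
theorem N53564 : nd 53564 = n100102 := ndS (p := 28424) (l := 4) rfl N28424 D100102
theorem N53565 : nd 53565 = n100103 := ndS (p := 28424) (l := 6) rfl N28424 D100103
theorem N53566 : nd 53566 = n100106 := ndS (p := 28425) (l := 1) rfl N28425 D100106
theorem N53567 : nd 53567 = n100107 := ndS (p := 28425) (l := 7) rfl N28425 D100107
theorem N53568 : nd 53568 = n100110 := ndS (p := 28426) (l := 1) rfl N28426 D100110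
theorem N53569 : nd 53569 = n100111 := ndS (p := 28426) (l := 2) rfl N28426 D100111
theorem N53570 : nd 53570 = n100112 := ndS (p := 28426) (l := 4) rfl N28426 D100112
theorem N53571 : nd 53571 = n100113 := ndS (p := 28426) (l := 5) rfl N28426 D100113
theorem N53572 : nd 53572 = n100114 := ndS (p := 28426) (l := 6) rfl N28426 D100114
theorem N53573 : nd 53573 = n100115 := ndS (p := 28427) (l := 3) rfl N28427 D100115
theorem N53574 : nd 53574 = n100116 := ndS (p := 28427) (l := 5) rfl N28427 D100116
theorem N53575 : nd 53575 = n100117 := ndS (p := 28427) (l := 6) rfl N28427 D100117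
theorem N53576 : nd 53576 = n100118 := ndS (p := 28428) (l := 4) rfl N28428 D100118
theorem N53577 : nd 53577 = n100119 := ndS (p := 28428) (l := 6) rfl N28428 D100119
theorem N53578 : nd 53578 = n100120 := ndS (p := 28429) (l := 0) rfl N28429 D100120
theorem N53579 : nd 53579 = n100122 := ndS (p := 28429) (l := 5) rfl N28429 D100122
theorem N53580 : nd 53580 = n100123 := ndS (p := 28429) (l := 7) rfl N28429 D100123
theorem N53581 : nd 53581 = n100125 := ndS (p := 28430) (l := 3) rfl N28430 D100125
theorem N53582 : nd 53582 = n100126 := ndS (p := 28430) (l := 4) rfl N28430 D100126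
theorem N53583 : nd 53583 = n100128 := ndS (p := 28430) (l := 6) rfl N28430 D100128
theorem N53584 : nd 53584 = n100130 := ndS (p := 28431) (l := 3) rfl N28431 D100130
theorem N53585 : nd 53585 = n100131 := ndS (p := 28431) (l := 4) rfl N28431 D100131
theorem N53586 : nd 53586 = n100132 := ndS (p := 28431) (l := 6) rfl N28431 D100132
theorem N53587 : nd 53587 = n100133 := ndS (p := 28432) (l := 0) rfl N28432 D100133
theorem N53588 : nd 53588 = n100134 := ndS (p := 28432) (l := 1) rfl N28432 D100134
theorem N53589 : nd 53589 = n100136 := ndS (p := 28432) (l := 5) rfl N28432 D100136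
theorem N53590 : nd 53590 = n100139 := ndS (p := 28434) (l := 4) rfl N28434 D100139
theorem N53591 : nd 53591 = n100140 := ndS (p := 28434) (l := 5) rfl N28434 D100140
theorem N53592 : nd 53592 = n100145 := ndS (p := 28435) (l := 5) rfl N28435 D100145
theorem N53593 : nd 53593 = n100147 := ndS (p := 28436) (l := 0) rfl N28436 D100147
theorem N53594 : nd 53594 = n100148 := ndS (p := 28436) (l := 1) rfl N28436 D100148
theorem N53595 : nd 53595 = n100149 := ndS (p := 28436) (l := 4) rfl N28436 D100149
theorem N53596 : nd 53596 = n100150 := ndS (p := 28436) (l := 6) rfl N28436 D100150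
theorem N53597 : nd 53597 = n100151 := ndS (p := 28437) (l := 0) rfl N28437 D100151
theorem N53598 : nd 53598 = n100152 := ndS (p := 28437) (l := 1) rfl N28437 D100152
theorem N53599 : nd 53599 = n100154 := ndS (p := 28438) (l := 4) rfl N28438 D100154
theorem N53600 : nd 53600 = n100155 := ndS (p := 28438) (l := 6) rfl N28438 D100155
theorem N53601 : nd 53601 = n100158 := ndS (p := 28439) (l := 3) rfl N28439 D100158
theorem N53602 : nd 53602 = n100160 := ndS (p := 28439) (l := 6) rfl N28439 D100160
theorem N53603 : nd 53603 = n100161 := ndS (p := 28440) (l := 0) rfl N28440 D100161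
theorem N53604 : nd 53604 = n100163 := ndS (p := 28440) (l := 7) rfl N28440 D100163
theorem N53605 : nd 53605 = n100164 := ndS (p := 28441) (l := 4) rfl N28441 D100164
theorem N53606 : nd 53606 = n100165 := ndS (p := 28441) (l := 5) rfl N28441 D100165
theorem N53607 : nd 53607 = n100166 := ndS (p := 28442) (l := 4) rfl N28442 D100166
theorem N53608 : nd 53608 = n100167 := ndS (p := 28442) (l := 5) rfl N28442 D100167
theorem N53609 : nd 53609 = n100169 := ndS (p := 28443) (l := 1) rfl N28443 D100169
theorem N53610 : nd 53610 = n100170 := ndS (p := 28443) (l := 5) rfl N28443 D100170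
theorem N53611 : nd 53611 = n100171 := ndS (p := 28443) (l := 6) rfl N28443 D100171
theorem N53612 : nd 53612 = n100172 := ndS (p := 28444) (l := 0) rfl N28444 D100172
theorem N53613 : nd 53613 = n100173 := ndS (p := 28444) (l := 1) rfl N28444 D100173
theorem N53614 : nd 53614 = n100174 := ndS (p := 28444) (l := 4) rfl N28444 D100174
theorem N53615 : nd 53615 = n100175 := ndS (p := 28444) (l := 6) rfl N28444 D100175
theorem N53616 : nd 53616 = n100177 := ndS (p := 28445) (l := 5) rfl N28445 D100177
theorem N53617 : nd 53617 = n100178 := ndS (p := 28446) (l := 3) rfl N28446 D100178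
theorem N53618 : nd 53618 = n100180 := ndS (p := 28446) (l := 6) rfl N28446 D100180
theorem N53619 : nd 53619 = n100181 := ndS (p := 28447) (l := 0) rfl N28447 D100181
theorem N53620 : nd 53620 = n100182 := ndS (p := 28447) (l := 1) rfl N28447 D100182
theorem N53621 : nd 53621 = n100183 := ndS (p := 28447) (l := 5) rfl N28447 D100183
theorem N53622 : nd 53622 = n100184 := ndS (p := 28447) (l := 7) rfl N28447 D100184
theorem N53623 : nd 53623 = n100186 := ndS (p := 28448) (l := 4) rfl N28448 D100186
theorem N53624 : nd 53624 = n100189 := ndS (p := 28449) (l := 2) rfl N28449 D100189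
theorem N53625 : nd 53625 = n100190 := ndS (p := 28449) (l := 4) rfl N28449 D100190
theorem N53626 : nd 53626 = n100192 := ndS (p := 28449) (l := 6) rfl N28449 D100192
theorem N53627 : nd 53627 = n100193 := ndS (p := 28450) (l := 3) rfl N28450 D100193
theorem N53628 : nd 53628 = n100195 := ndS (p := 28450) (l := 6) rfl N28450 D100195
theorem N53629 : nd 53629 = n100196 := ndS (p := 28451) (l := 0) rfl N28451 D100196
theorem N53630 : nd 53630 = n100197 := ndS (p := 28451) (l := 1) rfl N28451 D100197
theorem N53631 : nd 53631 = n100198 := ndS (p := 28451) (l := 7) rfl N28451 D100198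
theorem N53632 : nd 53632 = n100199 := ndS (p := 28452) (l := 2) rfl N28452 D100199
theorem N53633 : nd 53633 = n100200 := ndS (p := 28452) (l := 4) rfl N28452 D100200
theorem N53634 : nd 53634 = n100201 := ndS (p := 28452) (l := 6) rfl N28452 D100201
theorem N53635 : nd 53635 = n100202 := ndS (p := 28453) (l := 3) rfl N28453 D100202
theorem N53636 : nd 53636 = n100204 := ndS (p := 28453) (l := 6) rfl N28453 D100204
theorem N53637 : nd 53637 = n100205 := ndS (p := 28454) (l := 0) rfl N28454 D100205
theorem N53638 : nd 53638 = n100206 := ndS (p := 28454) (l := 1) rfl N28454 D100206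
theorem N53639 : nd 53639 = n100207 := ndS (p := 28454) (l := 7) rfl N28454 D100207
theorem N53640 : nd 53640 = n100234 := ndS (p := 28457) (l := 0) rfl N28457 D100234
theorem N53641 : nd 53641 = n100235 := ndS (p := 28457) (l := 1) rfl N28457 D100235
theorem N53642 : nd 53642 = n100236 := ndS (p := 28457) (l := 4) rfl N28457 D100236
theorem N53643 : nd 53643 = n100237 := ndS (p := 28457) (l := 6) rfl N28457 D100237
theorem N53644 : nd 53644 = n100240 := ndS (p := 28459) (l := 3) rfl N28459 D100240
theorem N53645 : nd 53645 = n100241 := ndS (p := 28459) (l := 4) rfl N28459 D100241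
theorem N53646 : nd 53646 = n100242 := ndS (p := 28459) (l := 6) rfl N28459 D100242
theorem N53647 : nd 53647 = n100243 := ndS (p := 28460) (l := 3) rfl N28460 D100243
theorem N53648 : nd 53648 = n100244 := ndS (p := 28460) (l := 6) rfl N28460 D100244
theorem N53649 : nd 53649 = n100245 := ndS (p := 28461) (l := 0) rfl N28461 D100245
theorem N53650 : nd 53650 = n100246 := ndS (p := 28461) (l := 1) rfl N28461 D100246
theorem N53651 : nd 53651 = n100247 := ndS (p := 28461) (l := 7) rfl N28461 D100247
theorem N53652 : nd 53652 = n100250 := ndS (p := 28462) (l := 3) rfl N28462 D100250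
theorem N53653 : nd 53653 = n100254 := ndS (p := 28463) (l := 0) rfl N28463 D100254
theorem N53654 : nd 53654 = n100262 := ndS (p := 28464) (l := 3) rfl N28464 D100262
theorem N53655 : nd 53655 = n100263 := ndS (p := 28464) (l := 6) rfl N28464 D100263
theorem N53656 : nd 53656 = n100264 := ndS (p := 28465) (l := 0) rfl N28465 D100264
theorem N53657 : nd 53657 = n100265 := ndS (p := 28465) (l := 1) rfl N28465 D100265
theorem N53658 : nd 53658 = n100266 := ndS (p := 28465) (l := 5) rfl N28465 D100266
theorem N53659 : nd 53659 = n100267 := ndS (p := 28465) (l := 7) rfl N28465 D100267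
theorem N53660 : nd 53660 = n100269 := ndS (p := 28466) (l := 4) rfl N28466 D100269
theorem N53661 : nd 53661 = n100341 := ndS (p := 28469) (l := 5) rfl N28469 D100341
theorem N53662 : nd 53662 = n100345 := ndS (p := 28470) (l := 5) rfl N28470 D100345
theorem N53663 : nd 53663 = n100347 := ndS (p := 28471) (l := 5) rfl N28471 D100347
theorem N53664 : nd 53664 = n100348 := ndS (p := 28472) (l := 0) rfl N28472 D100348
theorem N53665 : nd 53665 = n100349 := ndS (p := 28472) (l := 5) rfl N28472 D100349
theorem N53666 : nd 53666 = n100352 := ndS (p := 28473) (l := 5) rfl N28473 D100352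
theorem N53667 : nd 53667 = n100357 := ndS (p := 28474) (l := 5) rfl N28474 D100357
theorem N53668 : nd 53668 = n100358 := ndS (p := 28474) (l := 6) rfl N28474 D100358
theorem N53669 : nd 53669 = n100359 := ndS (p := 28475) (l := 0) rfl N28475 D100359
theorem N53670 : nd 53670 = n100360 := ndS (p := 28475) (l := 1) rfl N28475 D100360
theorem N53671 : nd 53671 = n100361 := ndS (p := 28475) (l := 4) rfl N28475 D100361
theorem N53672 : nd 53672 = n100362 := ndS (p := 28476) (l := 4) rfl N28476 D100362
theorem N53673 : nd 53673 = n100364 := ndS (p := 28478) (l := 3) rfl N28478 D100364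
theorem N53674 : nd 53674 = n100365 := ndS (p := 28478) (l := 6) rfl N28478 D100365
theorem N53675 : nd 53675 = n100366 := ndS (p := 28479) (l := 3) rfl N28479 D100366
theorem N53676 : nd 53676 = n100375 := ndS (p := 28481) (l := 0) rfl N28481 D100375
theorem N53677 : nd 53677 = n100376 := ndS (p := 28481) (l := 1) rfl N28481 D100376
theorem N53678 : nd 53678 = n100377 := ndS (p := 28481) (l := 2) rfl N28481 D100377
theorem N53679 : nd 53679 = n100381 := ndS (p := 28482) (l := 0) rfl N28482 D100381
theorem N53680 : nd 53680 = n100382 := ndS (p := 28482) (l := 1) rfl N28482 D100382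
theorem N53681 : nd 53681 = n100383 := ndS (p := 28482) (l := 5) rfl N28482 D100383
theorem N53682 : nd 53682 = n100384 := ndS (p := 28483) (l := 0) rfl N28483 D100384
theorem N53683 : nd 53683 = n100385 := ndS (p := 28483) (l := 4) rfl N28483 D100385
theorem N53684 : nd 53684 = n100386 := ndS (p := 28484) (l := 5) rfl N28484 D100386
theorem N53685 : nd 53685 = n100388 := ndS (p := 28485) (l := 1) rfl N28485 D100388
theorem N53686 : nd 53686 = n100389 := ndS (p := 28485) (l := 4) rfl N28485 D100389
theorem N53687 : nd 53687 = n100390 := ndS (p := 28485) (l := 7) rfl N28485 D100390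
theorem N53688 : nd 53688 = n100391 := ndS (p := 28487) (l := 6) rfl N28487 D100391
theorem N53689 : nd 53689 = n100392 := ndS (p := 28488) (l := 0) rfl N28488 D100392
theorem N53690 : nd 53690 = n100393 := ndS (p := 28488) (l := 1) rfl N28488 D100393
theorem N53691 : nd 53691 = n100394 := ndS (p := 28488) (l := 5) rfl N28488 D100394
theorem N53692 : nd 53692 = n100395 := ndS (p := 28488) (l := 7) rfl N28488 D100395
theorem N53693 : nd 53693 = n100396 := ndS (p := 28489) (l := 3) rfl N28489 D100396
theorem N53694 : nd 53694 = n100397 := ndS (p := 28489) (l := 5) rfl N28489 D100397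
theorem N53695 : nd 53695 = n100398 := ndS (p := 28490) (l := 0) rfl N28490 D100398
theorem N53696 : nd 53696 = n100399 := ndS (p := 28490) (l := 1) rfl N28490 D100399
theorem N53697 : nd 53697 = n100400 := ndS (p := 28490) (l := 4) rfl N28490 D100400
theorem N53698 : nd 53698 = n100403 := ndS (p := 28493) (l := 1) rfl N28493 D100403
theorem N53699 : nd 53699 = n100410 := ndS (p := 28495) (l := 6) rfl N28495 D100410
theorem N53700 : nd 53700 = n100413 := ndS (p := 28496) (l := 5) rfl N28496 D100413
theorem N53701 : nd 53701 = n100416 := ndS (p := 28497) (l := 6) rfl N28497 D100416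
theorem N53702 : nd 53702 = n100417 := ndS (p := 28498) (l := 0) rfl N28498 D100417
theorem N53703 : nd 53703 = n100418 := ndS (p := 28498) (l := 1) rfl N28498 D100418
theorem N53704 : nd 53704 = n100419 := ndS (p := 28498) (l := 5) rfl N28498 D100419
theorem N53705 : nd 53705 = n100420 := ndS (p := 28498) (l := 7) rfl N28498 D100420
theorem N53706 : nd 53706 = n100422 := ndS (p := 28499) (l := 3) rfl N28499 D100422
theorem N53707 : nd 53707 = n100423 := ndS (p := 28499) (l := 4) rfl N28499 D100423
theorem N53708 : nd 53708 = n100425 := ndS (p := 28499) (l := 6) rfl N28499 D100425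
theorem N53709 : nd 53709 = n100428 := ndS (p := 28500) (l := 4) rfl N28500 D100428
theorem N53710 : nd 53710 = n100429 := ndS (p := 28500) (l := 5) rfl N28500 D100429
theorem N53711 : nd 53711 = n100430 := ndS (p := 28500) (l := 6) rfl N28500 D100430
theorem N53712 : nd 53712 = n100431 := ndS (p := 28501) (l := 0) rfl N28501 D100431
theorem N53713 : nd 53713 = n100432 := ndS (p := 28501) (l := 1) rfl N28501 D100432
theorem N53714 : nd 53714 = n100433 := ndS (p := 28501) (l := 4) rfl N28501 D100433
theorem N53715 : nd 53715 = n100434 := ndS (p := 28501) (l := 7) rfl N28501 D100434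
theorem N53716 : nd 53716 = n100435 := ndS (p := 28503) (l := 0) rfl N28503 D100435
theorem N53717 : nd 53717 = n100437 := ndS (p := 28503) (l := 5) rfl N28503 D100437
theorem N53718 : nd 53718 = n100439 := ndS (p := 28504) (l := 0) rfl N28504 D100439
theorem N53719 : nd 53719 = n100441 := ndS (p := 28504) (l := 4) rfl N28504 D100441
theorem N53720 : nd 53720 = n100442 := ndS (p := 28504) (l := 6) rfl N28504 D100442
theorem N53721 : nd 53721 = n100445 := ndS (p := 28505) (l := 4) rfl N28505 D100445
theorem N53722 : nd 53722 = n100446 := ndS (p := 28505) (l := 6) rfl N28505 D100446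
theorem N53723 : nd 53723 = n100448 := ndS (p := 28507) (l := 3) rfl N28507 D100448
theorem N53724 : nd 53724 = n100449 := ndS (p := 28507) (l := 4) rfl N28507 D100449
theorem N53725 : nd 53725 = n100450 := ndS (p := 28507) (l := 5) rfl N28507 D100450
theorem N53726 : nd 53726 = n100451 := ndS (p := 28507) (l := 6) rfl N28507 D100451
theorem N53727 : nd 53727 = n100452 := ndS (p := 28508) (l := 4) rfl N28508 D100452
theorem N53728 : nd 53728 = n100453 := ndS (p := 28508) (l := 6) rfl N28508 D100453
theorem N53729 : nd 53729 = n100454 := ndS (p := 28509) (l := 0) rfl N28509 D100454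
theorem N53730 : nd 53730 = n100455 := ndS (p := 28509) (l := 1) rfl N28509 D100455
theorem N53731 : nd 53731 = n100456 := ndS (p := 28509) (l := 3) rfl N28509 D100456
theorem N53732 : nd 53732 = n100457 := ndS (p := 28509) (l := 5) rfl N28509 D100457
theorem N53733 : nd 53733 = n100458 := ndS (p := 28509) (l := 7) rfl N28509 D100458
theorem N53734 : nd 53734 = n100468 := ndS (p := 28511) (l := 2) rfl N28511 D100468
theorem N53735 : nd 53735 = n100470 := ndS (p := 28511) (l := 5) rfl N28511 D100470
theorem N53736 : nd 53736 = n100471 := ndS (p := 28511) (l := 6) rfl N28511 D100471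
theorem N53737 : nd 53737 = n100475 := ndS (p := 28512) (l := 5) rfl N28512 D100475
theorem N53738 : nd 53738 = n100476 := ndS (p := 28512) (l := 6) rfl N28512 D100476
theorem N53739 : nd 53739 = n100478 := ndS (p := 28513) (l := 0) rfl N28513 D100478
theorem N53740 : nd 53740 = n100479 := ndS (p := 28513) (l := 1) rfl N28513 D100479
theorem N53741 : nd 53741 = n100480 := ndS (p := 28513) (l := 4) rfl N28513 D100480
theorem N53742 : nd 53742 = n100481 := ndS (p := 28513) (l := 6) rfl N28513 D100481
theorem N53743 : nd 53743 = n100484 := ndS (p := 28514) (l := 1) rfl N28514 D100484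
theorem N53744 : nd 53744 = n100485 := ndS (p := 28514) (l := 7) rfl N28514 D100485
theorem N53745 : nd 53745 = n100488 := ndS (p := 28515) (l := 1) rfl N28515 D100488
theorem N53746 : nd 53746 = n100489 := ndS (p := 28515) (l := 2) rfl N28515 D100489
theorem N53747 : nd 53747 = n100490 := ndS (p := 28515) (l := 4) rfl N28515 D100490
theorem N53748 : nd 53748 = n100491 := ndS (p := 28515) (l := 5) rfl N28515 D100491
theorem N53749 : nd 53749 = n100492 := ndS (p := 28515) (l := 6) rfl N28515 D100492
theorem N53750 : nd 53750 = n100493 := ndS (p := 28516) (l := 3) rfl N28516 D100493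
theorem N53751 : nd 53751 = n100494 := ndS (p := 28516) (l := 5) rfl N28516 D100494
theorem N53752 : nd 53752 = n100495 := ndS (p := 28516) (l := 6) rfl N28516 D100495
theorem N53753 : nd 53753 = n100496 := ndS (p := 28517) (l := 4) rfl N28517 D100496
theorem N53754 : nd 53754 = n100497 := ndS (p := 28517) (l := 6) rfl N28517 D100497
theorem N53755 : nd 53755 = n100498 := ndS (p := 28518) (l := 0) rfl N28518 D100498
theorem N53756 : nd 53756 = n100500 := ndS (p := 28518) (l := 5) rfl N28518 D100500
theorem N53757 : nd 53757 = n100501 := ndS (p := 28518) (l := 7) rfl N28518 D100501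
theorem N53758 : nd 53758 = n100503 := ndS (p := 28519) (l := 3) rfl N28519 D100503
theorem N53759 : nd 53759 = n100504 := ndS (p := 28519) (l := 4) rfl N28519 D100504
theorem N53760 : nd 53760 = n100506 := ndS (p := 28519) (l := 6) rfl N28519 D100506
theorem N53761 : nd 53761 = n100508 := ndS (p := 28520) (l := 3) rfl N28520 D100508
theorem N53762 : nd 53762 = n100509 := ndS (p := 28520) (l := 4) rfl N28520 D100509
theorem N53763 : nd 53763 = n100510 := ndS (p := 28520) (l := 6) rfl N28520 D100510
theorem N53764 : nd 53764 = n100511 := ndS (p := 28521) (l := 0) rfl N28521 D100511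
theorem N53765 : nd 53765 = n100512 := ndS (p := 28521) (l := 1) rfl N28521 D100512
theorem N53766 : nd 53766 = n100513 := ndS (p := 28521) (l := 3) rfl N28521 D100513
theorem N53767 : nd 53767 = n100514 := ndS (p := 28521) (l := 5) rfl N28521 D100514
theorem N53768 : nd 53768 = n100515 := ndS (p := 28521) (l := 7) rfl N28521 D100515
theorem N53769 : nd 53769 = n100516 := ndS (p := 28522) (l := 6) rfl N28522 D100516
theorem N53770 : nd 53770 = n100517 := ndS (p := 28523) (l := 5) rfl N28523 D100517
theorem N53771 : nd 53771 = n100519 := ndS (p := 28524) (l := 0) rfl N28524 D100519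
theorem N53772 : nd 53772 = n100520 := ndS (p := 28524) (l := 1) rfl N28524 D100520
theorem N53773 : nd 53773 = n100522 := ndS (p := 28524) (l := 6) rfl N28524 D100522
theorem N53774 : nd 53774 = n100531 := ndS (p := 28525) (l := 0) rfl N28525 D100531
theorem N53775 : nd 53775 = n100532 := ndS (p := 28525) (l := 1) rfl N28525 D100532
theorem N53776 : nd 53776 = n100535 := ndS (p := 28525) (l := 6) rfl N28525 D100535
theorem N53777 : nd 53777 = n100536 := ndS (p := 28526) (l := 0) rfl N28526 D100536
theorem N53778 : nd 53778 = n100537 := ndS (p := 28526) (l := 1) rfl N28526 D100537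
theorem N53779 : nd 53779 = n100538 := ndS (p := 28526) (l := 7) rfl N28526 D100538
theorem N53780 : nd 53780 = n100543 := ndS (p := 28527) (l := 4) rfl N28527 D100543
theorem N53781 : nd 53781 = n100544 := ndS (p := 28527) (l := 5) rfl N28527 D100544
theorem N53782 : nd 53782 = n100546 := ndS (p := 28528) (l := 5) rfl N28528 D100546
theorem N53783 : nd 53783 = n100547 := ndS (p := 28528) (l := 6) rfl N28528 D100547
theorem N53784 : nd 53784 = n100548 := ndS (p := 28529) (l := 0) rfl N28529 D100548
theorem N53785 : nd 53785 = n100549 := ndS (p := 28529) (l := 1) rfl N28529 D100549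
theorem N53786 : nd 53786 = n100551 := ndS (p := 28529) (l := 6) rfl N28529 D100551
theorem N53787 : nd 53787 = n100552 := ndS (p := 28530) (l := 0) rfl N28530 D100552
theorem N53788 : nd 53788 = n100553 := ndS (p := 28530) (l := 1) rfl N28530 D100553
theorem N53789 : nd 53789 = n100556 := ndS (p := 28531) (l := 6) rfl N28531 D100556
theorem N53790 : nd 53790 = n100557 := ndS (p := 28532) (l := 0) rfl N28532 D100557
theorem N53791 : nd 53791 = n100558 := ndS (p := 28532) (l := 1) rfl N28532 D100558
theorem N53792 : nd 53792 = n100559 := ndS (p := 28532) (l := 7) rfl N28532 D100559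
theorem N53793 : nd 53793 = n100561 := ndS (p := 28533) (l := 2) rfl N28533 D100561
theorem N53794 : nd 53794 = n100563 := ndS (p := 28533) (l := 5) rfl N28533 D100563
theorem N53795 : nd 53795 = n100564 := ndS (p := 28533) (l := 6) rfl N28533 D100564
theorem N53796 : nd 53796 = n100567 := ndS (p := 28534) (l := 6) rfl N28534 D100567
theorem N53797 : nd 53797 = n100568 := ndS (p := 28536) (l := 0) rfl N28536 D100568
theorem N53798 : nd 53798 = n100569 := ndS (p := 28536) (l := 1) rfl N28536 D100569
theorem N53799 : nd 53799 = n100570 := ndS (p := 28536) (l := 5) rfl N28536 D100570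
theorem N53800 : nd 53800 = n100571 := ndS (p := 28536) (l := 7) rfl N28536 D100571
theorem N53801 : nd 53801 = n100574 := ndS (p := 28537) (l := 2) rfl N28537 D100574
theorem N53802 : nd 53802 = n100576 := ndS (p := 28537) (l := 6) rfl N28537 D100576
theorem N53803 : nd 53803 = n100579 := ndS (p := 28538) (l := 6) rfl N28538 D100579
theorem N53804 : nd 53804 = n100580 := ndS (p := 28539) (l := 0) rfl N28539 D100580
theorem N53805 : nd 53805 = n100581 := ndS (p := 28539) (l := 1) rfl N28539 D100581
theorem N53806 : nd 53806 = n100582 := ndS (p := 28539) (l := 7) rfl N28539 D100582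
theorem N53807 : nd 53807 = n100583 := ndS (p := 28540) (l := 3) rfl N28540 D100583
theorem N53808 : nd 53808 = n100584 := ndS (p := 28540) (l := 5) rfl N28540 D100584
theorem N53809 : nd 53809 = n100585 := ndS (p := 28540) (l := 6) rfl N28540 D100585
theorem N53810 : nd 53810 = n100586 := ndS (p := 28541) (l := 3) rfl N28541 D100586
theorem N53811 : nd 53811 = n100587 := ndS (p := 28541) (l := 5) rfl N28541 D100587
theorem N53812 : nd 53812 = n100588 := ndS (p := 28541) (l := 6) rfl N28541 D100588
theorem N53813 : nd 53813 = n100589 := ndS (p := 28542) (l := 0) rfl N28542 D100589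
theorem N53814 : nd 53814 = n100590 := ndS (p := 28542) (l := 1) rfl N28542 D100590
theorem N53815 : nd 53815 = n100591 := ndS (p := 28542) (l := 2) rfl N28542 D100591
theorem N53816 : nd 53816 = n100593 := ndS (p := 28542) (l := 7) rfl N28542 D100593
theorem N53817 : nd 53817 = n100597 := ndS (p := 28543) (l := 6) rfl N28543 D100597
theorem N53818 : nd 53818 = n100598 := ndS (p := 28544) (l := 0) rfl N28544 D100598
theorem N53819 : nd 53819 = n100599 := ndS (p := 28544) (l := 1) rfl N28544 D100599
theorem N53820 : nd 53820 = n100639 := ndS (p := 28545) (l := 0) rfl N28545 D100639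
theorem N53821 : nd 53821 = n100640 := ndS (p := 28545) (l := 1) rfl N28545 D100640
theorem N53822 : nd 53822 = n100641 := ndS (p := 28545) (l := 4) rfl N28545 D100641
theorem N53823 : nd 53823 = n100642 := ndS (p := 28545) (l := 6) rfl N28545 D100642
theorem N53824 : nd 53824 = n100647 := ndS (p := 28547) (l := 0) rfl N28547 D100647
theorem N53825 : nd 53825 = n100648 := ndS (p := 28547) (l := 1) rfl N28547 D100648
theorem N53826 : nd 53826 = n100649 := ndS (p := 28547) (l := 7) rfl N28547 D100649
theorem N53827 : nd 53827 = n100658 := ndS (p := 28548) (l := 6) rfl N28548 D100658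
theorem N53828 : nd 53828 = n100667 := ndS (p := 28549) (l := 5) rfl N28549 D100667
theorem N53829 : nd 53829 = n100668 := ndS (p := 28549) (l := 6) rfl N28549 D100668
theorem N53830 : nd 53830 = n100669 := ndS (p := 28550) (l := 6) rfl N28550 D100669
theorem N53831 : nd 53831 = n100672 := ndS (p := 28552) (l := 1) rfl N28552 D100672
theorem N53832 : nd 53832 = n100673 := ndS (p := 28552) (l := 2) rfl N28552 D100673
theorem N53833 : nd 53833 = n100679 := ndS (p := 28553) (l := 6) rfl N28553 D100679
theorem N53834 : nd 53834 = n100683 := ndS (p := 28554) (l := 1) rfl N28554 D100683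
theorem N53835 : nd 53835 = n100684 := ndS (p := 28554) (l := 2) rfl N28554 D100684
theorem N53836 : nd 53836 = n100686 := ndS (p := 28554) (l := 6) rfl N28554 D100686
theorem N53837 : nd 53837 = n100687 := ndS (p := 28555) (l := 6) rfl N28555 D100687
theorem N53838 : nd 53838 = n100689 := ndS (p := 28557) (l := 0) rfl N28557 D100689
theorem N53839 : nd 53839 = n100691 := ndS (p := 28557) (l := 3) rfl N28557 D100691
theorem N53840 : nd 53840 = n100692 := ndS (p := 28557) (l := 4) rfl N28557 D100692
theorem N53841 : nd 53841 = n100693 := ndS (p := 28557) (l := 5) rfl N28557 D100693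
theorem N53842 : nd 53842 = n100695 := ndS (p := 28557) (l := 7) rfl N28557 D100695
theorem N53843 : nd 53843 = n100697 := ndS (p := 28558) (l := 4) rfl N28558 D100697
theorem N53844 : nd 53844 = n100702 := ndS (p := 28559) (l := 5) rfl N28559 D100702
theorem N53845 : nd 53845 = n100705 := ndS (p := 28560) (l := 4) rfl N28560 D100705
theorem N53846 : nd 53846 = n100706 := ndS (p := 28560) (l := 6) rfl N28560 D100706
theorem N53847 : nd 53847 = n100707 := ndS (p := 28560) (l := 7) rfl N28560 D100707
theorem N53848 : nd 53848 = n100715 := ndS (p := 28562) (l := 0) rfl N28562 D100715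
theorem N53849 : nd 53849 = n100716 := ndS (p := 28562) (l := 1) rfl N28562 D100716
theorem N53850 : nd 53850 = n100717 := ndS (p := 28562) (l := 7) rfl N28562 D100717
theorem N53851 : nd 53851 = n100718 := ndS (p := 28563) (l := 6) rfl N28563 D100718
theorem N53852 : nd 53852 = n100720 := ndS (p := 28564) (l := 6) rfl N28564 D100720
theorem N53853 : nd 53853 = n100721 := ndS (p := 28565) (l := 6) rfl N28565 D100721
theorem N53854 : nd 53854 = n100722 := ndS (p := 28566) (l := 6) rfl N28566 D100722
theorem N53855 : nd 53855 = n100723 := ndS (p := 28567) (l := 0) rfl N28567 D100723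
theorem N53856 : nd 53856 = n100724 := ndS (p := 28567) (l := 1) rfl N28567 D100724
theorem N53857 : nd 53857 = n100725 := ndS (p := 28567) (l := 5) rfl N28567 D100725
theorem N53858 : nd 53858 = n100726 := ndS (p := 28567) (l := 7) rfl N28567 D100726
theorem N53859 : nd 53859 = n100727 := ndS (p := 28568) (l := 0) rfl N28568 D100727
theorem N53860 : nd 53860 = n100729 := ndS (p := 28568) (l := 5) rfl N28568 D100729
theorem N53861 : nd 53861 = n100730 := ndS (p := 28568) (l := 7) rfl N28568 D100730
theorem N53862 : nd 53862 = n100734 := ndS (p := 28569) (l := 5) rfl N28569 D100734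
theorem N53863 : nd 53863 = n100735 := ndS (p := 28569) (l := 6) rfl N28569 D100735
theorem N53864 : nd 53864 = n100741 := ndS (p := 28570) (l := 0) rfl N28570 D100741
theorem N53865 : nd 53865 = n100743 := ndS (p := 28570) (l := 4) rfl N28570 D100743
theorem N53866 : nd 53866 = n100744 := ndS (p := 28570) (l := 7) rfl N28570 D100744
theorem N53867 : nd 53867 = n100745 := ndS (p := 28572) (l := 6) rfl N28572 D100745
theorem N53868 : nd 53868 = n100748 := ndS (p := 28573) (l := 5) rfl N28573 D100748
theorem N53869 : nd 53869 = n100750 := ndS (p := 28574) (l := 6) rfl N28574 D100750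
theorem N53870 : nd 53870 = n100751 := ndS (p := 28575) (l := 0) rfl N28575 D100751
theorem N53871 : nd 53871 = n100752 := ndS (p := 28575) (l := 1) rfl N28575 D100752
theorem N53872 : nd 53872 = n100757 := ndS (p := 28576) (l := 5) rfl N28576 D100757
theorem N53873 : nd 53873 = n100774 := ndS (p := 28579) (l := 0) rfl N28579 D100774
theorem N53874 : nd 53874 = n100776 := ndS (p := 28579) (l := 5) rfl N28579 D100776
theorem N53875 : nd 53875 = n100777 := ndS (p := 28579) (l := 7) rfl N28579 D100777
theorem N53876 : nd 53876 = n100780 := ndS (p := 28580) (l := 4) rfl N28580 D100780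
theorem N53877 : nd 53877 = n100781 := ndS (p := 28580) (l := 5) rfl N28580 D100781
theorem N53878 : nd 53878 = n100784 := ndS (p := 28581) (l := 4) rfl N28581 D100784
theorem N53879 : nd 53879 = n100785 := ndS (p := 28581) (l := 5) rfl N28581 D100785
theorem N53880 : nd 53880 = n100786 := ndS (p := 28581) (l := 6) rfl N28581 D100786
theorem N53881 : nd 53881 = n100787 := ndS (p := 28582) (l := 0) rfl N28582 D100787
theorem N53882 : nd 53882 = n100789 := ndS (p := 28582) (l := 4) rfl N28582 D100789
theorem N53883 : nd 53883 = n100790 := ndS (p := 28582) (l := 7) rfl N28582 D100790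
theorem N53884 : nd 53884 = n100791 := ndS (p := 28584) (l := 3) rfl N28584 D100791
theorem N53885 : nd 53885 = n100792 := ndS (p := 28584) (l := 6) rfl N28584 D100792
theorem N53886 : nd 53886 = n100793 := ndS (p := 28585) (l := 0) rfl N28585 D100793
theorem N53887 : nd 53887 = n100794 := ndS (p := 28585) (l := 1) rfl N28585 D100794
theorem N53888 : nd 53888 = n100795 := ndS (p := 28585) (l := 5) rfl N28585 D100795
theorem N53889 : nd 53889 = n100796 := ndS (p := 28585) (l := 7) rfl N28585 D100796
theorem N53890 : nd 53890 = n100797 := ndS (p := 28586) (l := 5) rfl N28586 D100797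
theorem N53891 : nd 53891 = n100798 := ndS (p := 28587) (l := 5) rfl N28587 D100798
theorem N53892 : nd 53892 = n100799 := ndS (p := 28587) (l := 6) rfl N28587 D100799
theorem N53893 : nd 53893 = n100801 := ndS (p := 28588) (l := 1) rfl N28588 D100801
theorem N53894 : nd 53894 = n100803 := ndS (p := 28588) (l := 7) rfl N28588 D100803
theorem N53895 : nd 53895 = n100809 := ndS (p := 28592) (l := 6) rfl N28592 D100809
theorem N53896 : nd 53896 = n100810 := ndS (p := 28593) (l := 3) rfl N28593 D100810
theorem N53897 : nd 53897 = n100822 := ndS (p := 28594) (l := 5) rfl N28594 D100822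
theorem N53898 : nd 53898 = n100825 := ndS (p := 28595) (l := 3) rfl N28595 D100825
theorem N53899 : nd 53899 = n100827 := ndS (p := 28595) (l := 5) rfl N28595 D100827
theorem N53900 : nd 53900 = n100828 := ndS (p := 28595) (l := 6) rfl N28595 D100828
theorem N53901 : nd 53901 = n100829 := ndS (p := 28596) (l := 0) rfl N28596 D100829
theorem N53902 : nd 53902 = n100830 := ndS (p := 28596) (l := 1) rfl N28596 D100830
theorem N53903 : nd 53903 = n100831 := ndS (p := 28596) (l := 4) rfl N28596 D100831
theorem N53904 : nd 53904 = n100832 := ndS (p := 28596) (l := 7) rfl N28596 D100832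
theorem N53905 : nd 53905 = n100843 := ndS (p := 28599) (l := 0) rfl N28599 D100843
theorem N53906 : nd 53906 = n100845 := ndS (p := 28599) (l := 5) rfl N28599 D100845
theorem N53907 : nd 53907 = n100846 := ndS (p := 28599) (l := 6) rfl N28599 D100846
theorem N53908 : nd 53908 = n100848 := ndS (p := 28600) (l := 0) rfl N28600 D100848
theorem N53909 : nd 53909 = n100850 := ndS (p := 28600) (l := 4) rfl N28600 D100850
theorem N53910 : nd 53910 = n100855 := ndS (p := 28601) (l := 5) rfl N28601 D100855
theorem N53911 : nd 53911 = n100861 := ndS (p := 28602) (l := 4) rfl N28602 D100861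
theorem N53912 : nd 53912 = n100862 := ndS (p := 28602) (l := 5) rfl N28602 D100862
theorem N53913 : nd 53913 = n100863 := ndS (p := 28602) (l := 6) rfl N28602 D100863
theorem N53914 : nd 53914 = n100864 := ndS (p := 28603) (l := 5) rfl N28603 D100864
theorem N53915 : nd 53915 = n100865 := ndS (p := 28603) (l := 6) rfl N28603 D100865
theorem N53916 : nd 53916 = n100866 := ndS (p := 28604) (l := 4) rfl N28604 D100866
theorem N53917 : nd 53917 = n100867 := ndS (p := 28604) (l := 6) rfl N28604 D100867
theorem N53918 : nd 53918 = n100870 := ndS (p := 28605) (l := 5) rfl N28605 D100870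
theorem N53919 : nd 53919 = n100871 := ndS (p := 28605) (l := 7) rfl N28605 D100871
theorem N53920 : nd 53920 = n100876 := ndS (p := 28606) (l := 6) rfl N28606 D100876
theorem N53921 : nd 53921 = n100878 := ndS (p := 28607) (l := 3) rfl N28607 D100878
theorem N53922 : nd 53922 = n100879 := ndS (p := 28607) (l := 4) rfl N28607 D100879
theorem N53923 : nd 53923 = n100881 := ndS (p := 28607) (l := 6) rfl N28607 D100881
theorem N53924 : nd 53924 = n100884 := ndS (p := 28608) (l := 3) rfl N28608 D100884
theorem N53925 : nd 53925 = n100885 := ndS (p := 28608) (l := 5) rfl N28608 D100885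
theorem N53926 : nd 53926 = n100889 := ndS (p := 28610) (l := 0) rfl N28610 D100889
theorem N53927 : nd 53927 = n100890 := ndS (p := 28610) (l := 1) rfl N28610 D100890
theorem N53928 : nd 53928 = n100891 := ndS (p := 28610) (l := 5) rfl N28610 D100891
theorem N53929 : nd 53929 = n100892 := ndS (p := 28610) (l := 6) rfl N28610 D100892
theorem N53930 : nd 53930 = n100893 := ndS (p := 28611) (l := 0) rfl N28611 D100893
theorem N53931 : nd 53931 = n100894 := ndS (p := 28611) (l := 1) rfl N28611 D100894
theorem N53932 : nd 53932 = n100895 := ndS (p := 28611) (l := 5) rfl N28611 D100895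
theorem N53933 : nd 53933 = n100896 := ndS (p := 28611) (l := 7) rfl N28611 D100896
theorem N53934 : nd 53934 = n100900 := ndS (p := 28612) (l := 5) rfl N28612 D100900
theorem N53935 : nd 53935 = n100901 := ndS (p := 28612) (l := 6) rfl N28612 D100901
theorem N53936 : nd 53936 = n100905 := ndS (p := 28613) (l := 5) rfl N28613 D100905
theorem N53937 : nd 53937 = n100906 := ndS (p := 28613) (l := 6) rfl N28613 D100906
theorem N53938 : nd 53938 = n100907 := ndS (p := 28614) (l := 0) rfl N28614 D100907
theorem N53939 : nd 53939 = n100908 := ndS (p := 28614) (l := 4) rfl N28614 D100908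
theorem N53940 : nd 53940 = n100909 := ndS (p := 28614) (l := 7) rfl N28614 D100909
theorem N53941 : nd 53941 = n100920 := ndS (p := 28616) (l := 5) rfl N28616 D100920
theorem N53942 : nd 53942 = n100929 := ndS (p := 28617) (l := 1) rfl N28617 D100929
theorem N53943 : nd 53943 = n100930 := ndS (p := 28617) (l := 4) rfl N28617 D100930
theorem N53944 : nd 53944 = n100931 := ndS (p := 28617) (l := 6) rfl N28617 D100931
theorem N53945 : nd 53945 = n100934 := ndS (p := 28618) (l := 1) rfl N28618 D100934
theorem N53946 : nd 53946 = n100941 := ndS (p := 28619) (l := 5) rfl N28619 D100941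
theorem N53947 : nd 53947 = n100946 := ndS (p := 28620) (l := 4) rfl N28620 D100946
theorem N53948 : nd 53948 = n100947 := ndS (p := 28620) (l := 6) rfl N28620 D100947
theorem N53949 : nd 53949 = n100948 := ndS (p := 28621) (l := 0) rfl N28621 D100948
theorem N53950 : nd 53950 = n100951 := ndS (p := 28621) (l := 7) rfl N28621 D100951
theorem N53951 : nd 53951 = n100953 := ndS (p := 28622) (l := 3) rfl N28622 D100953
theorem N53952 : nd 53952 = n100955 := ndS (p := 28622) (l := 6) rfl N28622 D100955
theorem N53953 : nd 53953 = n100957 := ndS (p := 28623) (l := 3) rfl N28623 D100957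
theorem N53954 : nd 53954 = n100958 := ndS (p := 28623) (l := 6) rfl N28623 D100958
theorem N53955 : nd 53955 = n100959 := ndS (p := 28624) (l := 0) rfl N28624 D100959
theorem N53956 : nd 53956 = n100960 := ndS (p := 28624) (l := 1) rfl N28624 D100960
theorem N53957 : nd 53957 = n100961 := ndS (p := 28624) (l := 3) rfl N28624 D100961
theorem N53958 : nd 53958 = n100962 := ndS (p := 28624) (l := 5) rfl N28624 D100962
theorem N53959 : nd 53959 = n100963 := ndS (p := 28624) (l := 7) rfl N28624 D100963
theorem N53960 : nd 53960 = n100964 := ndS (p := 28625) (l := 6) rfl N28625 D100964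
theorem N53961 : nd 53961 = n100968 := ndS (p := 28626) (l := 4) rfl N28626 D100968
theorem N53962 : nd 53962 = n100969 := ndS (p := 28626) (l := 6) rfl N28626 D100969
theorem N53963 : nd 53963 = n100971 := ndS (p := 28627) (l := 1) rfl N28627 D100971
theorem N53964 : nd 53964 = n100972 := ndS (p := 28627) (l := 7) rfl N28627 D100972
theorem N53965 : nd 53965 = n100976 := ndS (p := 28628) (l := 3) rfl N28628 D100976
theorem N53966 : nd 53966 = n100978 := ndS (p := 28628) (l := 6) rfl N28628 D100978
theorem N53967 : nd 53967 = n100979 := ndS (p := 28629) (l := 3) rfl N28629 D100979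
theorem N53968 : nd 53968 = n100981 := ndS (p := 28629) (l := 6) rfl N28629 D100981
theorem N53969 : nd 53969 = n100982 := ndS (p := 28630) (l := 0) rfl N28630 D100982
theorem N53970 : nd 53970 = n100983 := ndS (p := 28630) (l := 1) rfl N28630 D100983
theorem N53971 : nd 53971 = n100984 := ndS (p := 28630) (l := 2) rfl N28630 D100984
theorem N53972 : nd 53972 = n100986 := ndS (p := 28630) (l := 7) rfl N28630 D100986
theorem N53973 : nd 53973 = n100991 := ndS (p := 28631) (l := 6) rfl N28631 D100991
theorem N53974 : nd 53974 = n100992 := ndS (p := 28632) (l := 0) rfl N28632 D100992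
theorem N53975 : nd 53975 = n100993 := ndS (p := 28632) (l := 1) rfl N28632 D100993
theorem N53976 : nd 53976 = n100996 := ndS (p := 28633) (l := 5) rfl N28633 D100996
theorem N53977 : nd 53977 = n101010 := ndS (p := 28634) (l := 4) rfl N28634 D101010
theorem N53978 : nd 53978 = n101012 := ndS (p := 28635) (l := 6) rfl N28635 D101012
theorem N53979 : nd 53979 = n101013 := ndS (p := 28636) (l := 6) rfl N28636 D101013
theorem N53980 : nd 53980 = n101016 := ndS (p := 28637) (l := 5) rfl N28637 D101016
theorem N53981 : nd 53981 = n101020 := ndS (p := 28638) (l := 5) rfl N28638 D101020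
theorem N53982 : nd 53982 = n101021 := ndS (p := 28638) (l := 7) rfl N28638 D101021
theorem N53983 : nd 53983 = n101030 := ndS (p := 28639) (l := 5) rfl N28639 D101030
theorem N53984 : nd 53984 = n101033 := ndS (p := 28640) (l := 1) rfl N28640 D101033
theorem N53985 : nd 53985 = n101034 := ndS (p := 28640) (l := 4) rfl N28640 D101034
theorem N53986 : nd 53986 = n101035 := ndS (p := 28640) (l := 7) rfl N28640 D101035
theorem N53987 : nd 53987 = n101036 := ndS (p := 28642) (l := 5) rfl N28642 D101036
theorem N53988 : nd 53988 = n101038 := ndS (p := 28643) (l := 5) rfl N28643 D101038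
theorem N53989 : nd 53989 = n101041 := ndS (p := 28644) (l := 5) rfl N28644 D101041
theorem N53990 : nd 53990 = n101043 := ndS (p := 28645) (l := 0) rfl N28645 D101043
theorem N53991 : nd 53991 = n101044 := ndS (p := 28645) (l := 1) rfl N28645 D101044
theorem N53992 : nd 53992 = n101045 := ndS (p := 28645) (l := 4) rfl N28645 D101045
theorem N53993 : nd 53993 = n101046 := ndS (p := 28645) (l := 7) rfl N28645 D101046
theorem N53994 : nd 53994 = n101053 := ndS (p := 28648) (l := 5) rfl N28648 D101053
theorem N53995 : nd 53995 = n101054 := ndS (p := 28648) (l := 7) rfl N28648 D101054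
theorem N53996 : nd 53996 = n101055 := ndS (p := 28649) (l := 5) rfl N28649 D101055
theorem N53997 : nd 53997 = n101058 := ndS (p := 28650) (l := 1) rfl N28650 D101058
theorem N53998 : nd 53998 = n101059 := ndS (p := 28650) (l := 4) rfl N28650 D101059
theorem N53999 : nd 53999 = n101067 := ndS (p := 28653) (l := 5) rfl N28653 D101067
theorem N54000 : nd 54000 = n101068 := ndS (p := 28653) (l := 7) rfl N28653 D101068
theorem N54001 : nd 54001 = n101070 := ndS (p := 28654) (l := 3) rfl N28654 D101070
theorem N54002 : nd 54002 = n101072 := ndS (p := 28654) (l := 5) rfl N28654 D101072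
theorem N54003 : nd 54003 = n101073 := ndS (p := 28654) (l := 6) rfl N28654 D101073
theorem N54004 : nd 54004 = n101077 := ndS (p := 28655) (l := 5) rfl N28655 D101077
theorem N54005 : nd 54005 = n101078 := ndS (p := 28655) (l := 6) rfl N28655 D101078
theorem N54006 : nd 54006 = n101079 := ndS (p := 28656) (l := 0) rfl N28656 D101079
theorem N54007 : nd 54007 = n101080 := ndS (p := 28656) (l := 1) rfl N28656 D101080
theorem N54008 : nd 54008 = n101081 := ndS (p := 28656) (l := 4) rfl N28656 D101081
theorem N54009 : nd 54009 = n101082 := ndS (p := 28656) (l := 7) rfl N28656 D101082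
theorem N54010 : nd 54010 = n101084 := ndS (p := 28658) (l := 5) rfl N28658 D101084
theorem N54011 : nd 54011 = n101086 := ndS (p := 28659) (l := 0) rfl N28659 D101086
theorem N54012 : nd 54012 = n101088 := ndS (p := 28659) (l := 4) rfl N28659 D101088
theorem N54013 : nd 54013 = n101089 := ndS (p := 28659) (l := 6) rfl N28659 D101089
theorem N54014 : nd 54014 = n101094 := ndS (p := 28660) (l := 4) rfl N28660 D101094
theorem N54015 : nd 54015 = n101095 := ndS (p := 28660) (l := 5) rfl N28660 D101095
theorem N54016 : nd 54016 = n101096 := ndS (p := 28660) (l := 6) rfl N28660 D101096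
theorem N54017 : nd 54017 = n101097 := ndS (p := 28661) (l := 4) rfl N28661 D101097
theorem N54018 : nd 54018 = n101098 := ndS (p := 28661) (l := 6) rfl N28661 D101098
theorem N54019 : nd 54019 = n101104 := ndS (p := 28663) (l := 3) rfl N28663 D101104
theorem N54020 : nd 54020 = n101105 := ndS (p := 28663) (l := 4) rfl N28663 D101105
theorem N54021 : nd 54021 = n101106 := ndS (p := 28663) (l := 5) rfl N28663 D101106
theorem N54022 : nd 54022 = n101107 := ndS (p := 28663) (l := 6) rfl N28663 D101107
theorem N54023 : nd 54023 = n101109 := ndS (p := 28664) (l := 3) rfl N28664 D101109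
theorem N54024 : nd 54024 = n101110 := ndS (p := 28664) (l := 4) rfl N28664 D101110
theorem N54025 : nd 54025 = n101111 := ndS (p := 28664) (l := 5) rfl N28664 D101111
theorem N54026 : nd 54026 = n101112 := ndS (p := 28664) (l := 6) rfl N28664 D101112
theorem N54027 : nd 54027 = n101113 := ndS (p := 28665) (l := 0) rfl N28665 D101113
theorem N54028 : nd 54028 = n101114 := ndS (p := 28665) (l := 1) rfl N28665 D101114
theorem N54029 : nd 54029 = n101115 := ndS (p := 28665) (l := 3) rfl N28665 D101115
theorem N54030 : nd 54030 = n101116 := ndS (p := 28665) (l := 5) rfl N28665 D101116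
theorem N54031 : nd 54031 = n101117 := ndS (p := 28665) (l := 7) rfl N28665 D101117
theorem N54032 : nd 54032 = n101118 := ndS (p := 28666) (l := 6) rfl N28666 D101118
theorem N54033 : nd 54033 = n101124 := ndS (p := 28667) (l := 0) rfl N28667 D101124
theorem N54034 : nd 54034 = n101125 := ndS (p := 28667) (l := 1) rfl N28667 D101125
theorem N54035 : nd 54035 = n101126 := ndS (p := 28667) (l := 4) rfl N28667 D101126
theorem N54036 : nd 54036 = n101127 := ndS (p := 28667) (l := 6) rfl N28667 D101127
theorem N54037 : nd 54037 = n101130 := ndS (p := 28668) (l := 1) rfl N28668 D101130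
theorem N54038 : nd 54038 = n101131 := ndS (p := 28668) (l := 7) rfl N28668 D101131
theorem N54039 : nd 54039 = n101135 := ndS (p := 28669) (l := 4) rfl N28669 D101135
theorem N54040 : nd 54040 = n101136 := ndS (p := 28669) (l := 5) rfl N28669 D101136
theorem N54041 : nd 54041 = n101137 := ndS (p := 28669) (l := 6) rfl N28669 D101137
theorem N54042 : nd 54042 = n101138 := ndS (p := 28670) (l := 4) rfl N28670 D101138
theorem N54043 : nd 54043 = n101139 := ndS (p := 28670) (l := 6) rfl N28670 D101139
theorem N54044 : nd 54044 = n101140 := ndS (p := 28671) (l := 7) rfl N28671 D101140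
theorem N54045 : nd 54045 = n101144 := ndS (p := 28672) (l := 5) rfl N28672 D101144
theorem N54046 : nd 54046 = n101145 := ndS (p := 28672) (l := 6) rfl N28672 D101145
theorem N54047 : nd 54047 = n101147 := ndS (p := 28673) (l := 3) rfl N28673 D101147
theorem N54048 : nd 54048 = n101148 := ndS (p := 28673) (l := 6) rfl N28673 D101148
theorem N54049 : nd 54049 = n101149 := ndS (p := 28674) (l := 0) rfl N28674 D101149
theorem N54050 : nd 54050 = n101150 := ndS (p := 28674) (l := 1) rfl N28674 D101150
theorem N54051 : nd 54051 = n101151 := ndS (p := 28674) (l := 3) rfl N28674 D101151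
theorem N54052 : nd 54052 = n101153 := ndS (p := 28674) (l := 7) rfl N28674 D101153
theorem N54053 : nd 54053 = n101154 := ndS (p := 28675) (l := 6) rfl N28675 D101154
theorem N54054 : nd 54054 = n101155 := ndS (p := 28676) (l := 0) rfl N28676 D101155
theorem N54055 : nd 54055 = n101156 := ndS (p := 28676) (l := 1) rfl N28676 D101156
theorem N54056 : nd 54056 = n101157 := ndS (p := 28676) (l := 5) rfl N28676 D101157
theorem N54057 : nd 54057 = n101158 := ndS (p := 28676) (l := 7) rfl N28676 D101158
theorem N54058 : nd 54058 = n101161 := ndS (p := 28677) (l := 4) rfl N28677 D101161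
theorem N54059 : nd 54059 = n101162 := ndS (p := 28677) (l := 6) rfl N28677 D101162
theorem N54060 : nd 54060 = n101163 := ndS (p := 28678) (l := 0) rfl N28678 D101163
theorem N54061 : nd 54061 = n101164 := ndS (p := 28678) (l := 1) rfl N28678 D101164
theorem N54062 : nd 54062 = n101165 := ndS (p := 28678) (l := 7) rfl N28678 D101165
theorem N54063 : nd 54063 = n101168 := ndS (p := 28679) (l := 6) rfl N28679 D101168
theorem N54064 : nd 54064 = n101171 := ndS (p := 28680) (l := 6) rfl N28680 D101171
theorem N54065 : nd 54065 = n101172 := ndS (p := 28681) (l := 0) rfl N28681 D101172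
theorem N54066 : nd 54066 = n101173 := ndS (p := 28681) (l := 1) rfl N28681 D101173
theorem N54067 : nd 54067 = n101174 := ndS (p := 28681) (l := 2) rfl N28681 D101174
theorem N54068 : nd 54068 = n101176 := ndS (p := 28681) (l := 7) rfl N28681 D101176
theorem N54069 : nd 54069 = n101181 := ndS (p := 28682) (l := 6) rfl N28682 D101181
theorem N54070 : nd 54070 = n101182 := ndS (p := 28683) (l := 0) rfl N28683 D101182
theorem N54071 : nd 54071 = n101183 := ndS (p := 28683) (l := 1) rfl N28683 D101183
theorem N54072 : nd 54072 = n101184 := ndS (p := 28684) (l := 4) rfl N28684 D101184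
theorem N54073 : nd 54073 = n101185 := ndS (p := 28684) (l := 6) rfl N28684 D101185
theorem N54074 : nd 54074 = n101187 := ndS (p := 28685) (l := 1) rfl N28685 D101187
theorem N54075 : nd 54075 = n101188 := ndS (p := 28685) (l := 5) rfl N28685 D101188
theorem N54076 : nd 54076 = n101189 := ndS (p := 28685) (l := 7) rfl N28685 D101189
theorem N54077 : nd 54077 = n101190 := ndS (p := 28686) (l := 5) rfl N28686 D101190
theorem N54078 : nd 54078 = n101191 := ndS (p := 28687) (l := 6) rfl N28687 D101191
theorem N54079 : nd 54079 = n101192 := ndS (p := 28688) (l := 0) rfl N28688 D101192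
theorem N54080 : nd 54080 = n101193 := ndS (p := 28688) (l := 1) rfl N28688 D101193
theorem N54081 : nd 54081 = n101194 := ndS (p := 28688) (l := 5) rfl N28688 D101194
theorem N54082 : nd 54082 = n101195 := ndS (p := 28688) (l := 7) rfl N28688 D101195
theorem N54083 : nd 54083 = n101196 := ndS (p := 28689) (l := 4) rfl N28689 D101196
theorem N54084 : nd 54084 = n101197 := ndS (p := 28689) (l := 5) rfl N28689 D101197
theorem N54085 : nd 54085 = n101198 := ndS (p := 28689) (l := 6) rfl N28689 D101198
theorem N54086 : nd 54086 = n101199 := ndS (p := 28690) (l := 3) rfl N28690 D101199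
theorem N54087 : nd 54087 = n101200 := ndS (p := 28690) (l := 5) rfl N28690 D101200
theorem N54088 : nd 54088 = n101201 := ndS (p := 28690) (l := 6) rfl N28690 D101201
theorem N54089 : nd 54089 = n101202 := ndS (p := 28691) (l := 0) rfl N28691 D101202
theorem N54090 : nd 54090 = n101203 := ndS (p := 28691) (l := 1) rfl N28691 D101203
theorem N54091 : nd 54091 = n101204 := ndS (p := 28691) (l := 4) rfl N28691 D101204
theorem N54092 : nd 54092 = n101210 := ndS (p := 28692) (l := 5) rfl N28692 D101210
theorem N54093 : nd 54093 = n101214 := ndS (p := 28693) (l := 4) rfl N28693 D101214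
theorem N54094 : nd 54094 = n101215 := ndS (p := 28693) (l := 7) rfl N28693 D101215
theorem N54095 : nd 54095 = n101216 := ndS (p := 28695) (l := 4) rfl N28695 D101216
theorem N54096 : nd 54096 = n101217 := ndS (p := 28695) (l := 6) rfl N28695 D101217
theorem N54097 : nd 54097 = n101218 := ndS (p := 28696) (l := 3) rfl N28696 D101218
theorem N54098 : nd 54098 = n101219 := ndS (p := 28696) (l := 5) rfl N28696 D101219
theorem N54099 : nd 54099 = n101223 := ndS (p := 28697) (l := 5) rfl N28697 D101223
theorem N54100 : nd 54100 = n101226 := ndS (p := 28698) (l := 3) rfl N28698 D101226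
theorem N54101 : nd 54101 = n101228 := ndS (p := 28698) (l := 5) rfl N28698 D101228
theorem N54102 : nd 54102 = n101232 := ndS (p := 28699) (l := 4) rfl N28699 D101232
theorem N54103 : nd 54103 = n101236 := ndS (p := 28701) (l := 5) rfl N28701 D101236
theorem N54104 : nd 54104 = n101239 := ndS (p := 28702) (l := 6) rfl N28702 D101239
theorem N54105 : nd 54105 = n101242 := ndS (p := 28703) (l := 5) rfl N28703 D101242
theorem N54106 : nd 54106 = n101243 := ndS (p := 28704) (l := 4) rfl N28704 D101243
theorem N54107 : nd 54107 = n101244 := ndS (p := 28704) (l := 6) rfl N28704 D101244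
theorem N54108 : nd 54108 = n101245 := ndS (p := 28705) (l := 3) rfl N28705 D101245
theorem N54109 : nd 54109 = n101246 := ndS (p := 28705) (l := 4) rfl N28705 D101246
theorem N54110 : nd 54110 = n101247 := ndS (p := 28705) (l := 6) rfl N28705 D101247
theorem N54111 : nd 54111 = n101248 := ndS (p := 28706) (l := 3) rfl N28706 D101248
theorem N54112 : nd 54112 = n101249 := ndS (p := 28706) (l := 4) rfl N28706 D101249
theorem N54113 : nd 54113 = n101250 := ndS (p := 28706) (l := 6) rfl N28706 D101250
theorem N54114 : nd 54114 = n101251 := ndS (p := 28707) (l := 0) rfl N28707 D101251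
theorem N54115 : nd 54115 = n101252 := ndS (p := 28707) (l := 1) rfl N28707 D101252
theorem N54116 : nd 54116 = n101253 := ndS (p := 28707) (l := 3) rfl N28707 D101253
theorem N54117 : nd 54117 = n101255 := ndS (p := 28707) (l := 7) rfl N28707 D101255
theorem N54118 : nd 54118 = n101256 := ndS (p := 28708) (l := 6) rfl N28708 D101256
theorem N54119 : nd 54119 = n101257 := ndS (p := 28709) (l := 1) rfl N28709 D101257
theorem N54120 : nd 54120 = n101258 := ndS (p := 28709) (l := 6) rfl N28709 D101258
theorem N54121 : nd 54121 = n101259 := ndS (p := 28710) (l := 0) rfl N28710 D101259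
theorem N54122 : nd 54122 = n101260 := ndS (p := 28710) (l := 1) rfl N28710 D101260
theorem N54123 : nd 54123 = n101261 := ndS (p := 28710) (l := 5) rfl N28710 D101261
theorem N54124 : nd 54124 = n101262 := ndS (p := 28710) (l := 7) rfl N28710 D101262
theorem N54125 : nd 54125 = n101266 := ndS (p := 28711) (l := 5) rfl N28711 D101266
theorem N54126 : nd 54126 = n101272 := ndS (p := 28712) (l := 0) rfl N28712 D101272
theorem N54127 : nd 54127 = n101273 := ndS (p := 28712) (l := 1) rfl N28712 D101273
theorem N54128 : nd 54128 = n101274 := ndS (p := 28712) (l := 4) rfl N28712 D101274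
theorem N54129 : nd 54129 = n101275 := ndS (p := 28712) (l := 7) rfl N28712 D101275
theorem N54130 : nd 54130 = n101278 := ndS (p := 28714) (l := 5) rfl N28714 D101278
theorem N54131 : nd 54131 = n101286 := ndS (p := 28716) (l := 3) rfl N28716 D101286
theorem N54132 : nd 54132 = n101287 := ndS (p := 28716) (l := 6) rfl N28716 D101287
theorem N54133 : nd 54133 = n101288 := ndS (p := 28717) (l := 6) rfl N28717 D101288
theorem N54134 : nd 54134 = n101289 := ndS (p := 28718) (l := 0) rfl N28718 D101289
theorem N54135 : nd 54135 = n101290 := ndS (p := 28718) (l := 1) rfl N28718 D101290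
theorem N54136 : nd 54136 = n101291 := ndS (p := 28718) (l := 5) rfl N28718 D101291
theorem N54137 : nd 54137 = n101292 := ndS (p := 28718) (l := 7) rfl N28718 D101292
theorem N54138 : nd 54138 = n101296 := ndS (p := 28719) (l := 5) rfl N28719 D101296
theorem N54139 : nd 54139 = n101297 := ndS (p := 28719) (l := 6) rfl N28719 D101297
theorem N54140 : nd 54140 = n101303 := ndS (p := 28721) (l := 0) rfl N28721 D101303
theorem N54141 : nd 54141 = n101306 := ndS (p := 28721) (l := 7) rfl N28721 D101306
theorem N54142 : nd 54142 = n101313 := ndS (p := 28723) (l := 0) rfl N28723 D101313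
theorem N54143 : nd 54143 = n101315 := ndS (p := 28723) (l := 2) rfl N28723 D101315
theorem N54144 : nd 54144 = n101316 := ndS (p := 28723) (l := 4) rfl N28723 D101316
theorem N54145 : nd 54145 = n101317 := ndS (p := 28723) (l := 5) rfl N28723 D101317
theorem N54146 : nd 54146 = n101318 := ndS (p := 28723) (l := 6) rfl N28723 D101318
theorem N54147 : nd 54147 = n101322 := ndS (p := 28724) (l := 3) rfl N28724 D101322
theorem N54148 : nd 54148 = n101323 := ndS (p := 28724) (l := 5) rfl N28724 D101323
theorem N54149 : nd 54149 = n101326 := ndS (p := 28725) (l := 0) rfl N28725 D101326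
theorem N54150 : nd 54150 = n101327 := ndS (p := 28725) (l := 1) rfl N28725 D101327
theorem N54151 : nd 54151 = n101328 := ndS (p := 28725) (l := 4) rfl N28725 D101328
theorem N54152 : nd 54152 = n101329 := ndS (p := 28725) (l := 6) rfl N28725 D101329
theorem N54153 : nd 54153 = n101332 := ndS (p := 28726) (l := 1) rfl N28726 D101332
theorem N54154 : nd 54154 = n101333 := ndS (p := 28726) (l := 5) rfl N28726 D101333
theorem N54155 : nd 54155 = n101334 := ndS (p := 28726) (l := 7) rfl N28726 D101334
theorem N54156 : nd 54156 = n101340 := ndS (p := 28727) (l := 5) rfl N28727 D101340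
theorem N54157 : nd 54157 = n101343 := ndS (p := 28728) (l := 5) rfl N28728 D101343
theorem N54158 : nd 54158 = n101345 := ndS (p := 28729) (l := 4) rfl N28729 D101345
theorem N54159 : nd 54159 = n101346 := ndS (p := 28729) (l := 6) rfl N28729 D101346
theorem N54160 : nd 54160 = n101349 := ndS (p := 28730) (l := 5) rfl N28730 D101349
theorem N54161 : nd 54161 = n101352 := ndS (p := 28731) (l := 3) rfl N28731 D101352
theorem N54162 : nd 54162 = n101353 := ndS (p := 28731) (l := 4) rfl N28731 D101353
theorem N54163 : nd 54163 = n101355 := ndS (p := 28731) (l := 6) rfl N28731 D101355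
theorem N54164 : nd 54164 = n101361 := ndS (p := 28732) (l := 0) rfl N28732 D101361
theorem N54165 : nd 54165 = n101362 := ndS (p := 28732) (l := 1) rfl N28732 D101362
theorem N54166 : nd 54166 = n101363 := ndS (p := 28732) (l := 3) rfl N28732 D101363
theorem N54167 : nd 54167 = n101364 := ndS (p := 28732) (l := 5) rfl N28732 D101364
theorem N54168 : nd 54168 = n101365 := ndS (p := 28732) (l := 7) rfl N28732 D101365
theorem N54169 : nd 54169 = n101366 := ndS (p := 28733) (l := 6) rfl N28733 D101366
theorem N54170 : nd 54170 = n101368 := ndS (p := 28734) (l := 4) rfl N28734 D101368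
theorem N54171 : nd 54171 = n101369 := ndS (p := 28734) (l := 5) rfl N28734 D101369
theorem N54172 : nd 54172 = n101375 := ndS (p := 28735) (l := 5) rfl N28735 D101375
theorem N54173 : nd 54173 = n101376 := ndS (p := 28735) (l := 6) rfl N28735 D101376
theorem N54174 : nd 54174 = n101378 := ndS (p := 28736) (l := 1) rfl N28736 D101378
theorem N54175 : nd 54175 = n101379 := ndS (p := 28736) (l := 4) rfl N28736 D101379
theorem N54176 : nd 54176 = n101380 := ndS (p := 28736) (l := 6) rfl N28736 D101380
theorem N54177 : nd 54177 = n101382 := ndS (p := 28737) (l := 1) rfl N28737 D101382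
theorem N54178 : nd 54178 = n101383 := ndS (p := 28737) (l := 5) rfl N28737 D101383
theorem N54179 : nd 54179 = n101385 := ndS (p := 28738) (l := 4) rfl N28738 D101385
theorem N54180 : nd 54180 = n101386 := ndS (p := 28738) (l := 6) rfl N28738 D101386
theorem N54181 : nd 54181 = n101387 := ndS (p := 28739) (l := 4) rfl N28739 D101387
theorem N54182 : nd 54182 = n101388 := ndS (p := 28739) (l := 6) rfl N28739 D101388
theorem N54183 : nd 54183 = n101389 := ndS (p := 28740) (l := 0) rfl N28740 D101389
theorem N54184 : nd 54184 = n101390 := ndS (p := 28740) (l := 1) rfl N28740 D101390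
theorem N54185 : nd 54185 = n101391 := ndS (p := 28740) (l := 3) rfl N28740 D101391
theorem N54186 : nd 54186 = n101393 := ndS (p := 28740) (l := 6) rfl N28740 D101393
theorem N54187 : nd 54187 = n101394 := ndS (p := 28741) (l := 0) rfl N28741 D101394
theorem N54188 : nd 54188 = n101395 := ndS (p := 28741) (l := 1) rfl N28741 D101395
theorem N54189 : nd 54189 = n101396 := ndS (p := 28741) (l := 5) rfl N28741 D101396
theorem N54190 : nd 54190 = n101397 := ndS (p := 28741) (l := 7) rfl N28741 D101397
theorem N54191 : nd 54191 = n101398 := ndS (p := 28742) (l := 4) rfl N28742 D101398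
theorem N54192 : nd 54192 = n101402 := ndS (p := 28743) (l := 5) rfl N28743 D101402
theorem N54193 : nd 54193 = n101404 := ndS (p := 28744) (l := 5) rfl N28744 D101404
theorem N54194 : nd 54194 = n101406 := ndS (p := 28745) (l := 0) rfl N28745 D101406
theorem N54195 : nd 54195 = n101407 := ndS (p := 28745) (l := 1) rfl N28745 D101407
theorem N54196 : nd 54196 = n101408 := ndS (p := 28745) (l := 4) rfl N28745 D101408
theorem N54197 : nd 54197 = n101409 := ndS (p := 28745) (l := 6) rfl N28745 D101409
theorem N54198 : nd 54198 = n101412 := ndS (p := 28746) (l := 3) rfl N28746 D101412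
theorem N54199 : nd 54199 = n101414 := ndS (p := 28746) (l := 6) rfl N28746 D101414
theorem N54200 : nd 54200 = n101417 := ndS (p := 28747) (l := 7) rfl N28747 D101417
theorem N54201 : nd 54201 = n101419 := ndS (p := 28748) (l := 2) rfl N28748 D101419
theorem N54202 : nd 54202 = n101420 := ndS (p := 28748) (l := 4) rfl N28748 D101420
theorem N54203 : nd 54203 = n101421 := ndS (p := 28748) (l := 6) rfl N28748 D101421
theorem N54204 : nd 54204 = n101422 := ndS (p := 28749) (l := 0) rfl N28749 D101422
theorem N54205 : nd 54205 = n101423 := ndS (p := 28749) (l := 3) rfl N28749 D101423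
theorem N54206 : nd 54206 = n101424 := ndS (p := 28749) (l := 5) rfl N28749 D101424
theorem N54207 : nd 54207 = n101425 := ndS (p := 28749) (l := 6) rfl N28749 D101425
theorem N54208 : nd 54208 = n101426 := ndS (p := 28750) (l := 0) rfl N28750 D101426
theorem N54209 : nd 54209 = n101427 := ndS (p := 28750) (l := 1) rfl N28750 D101427
theorem N54210 : nd 54210 = n101428 := ndS (p := 28750) (l := 7) rfl N28750 D101428
theorem N54211 : nd 54211 = n101431 := ndS (p := 28751) (l := 2) rfl N28751 D101431
theorem N54212 : nd 54212 = n101432 := ndS (p := 28751) (l := 4) rfl N28751 D101432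
theorem N54213 : nd 54213 = n101433 := ndS (p := 28751) (l := 6) rfl N28751 D101433
theorem N54214 : nd 54214 = n101434 := ndS (p := 28752) (l := 3) rfl N28752 D101434
theorem N54215 : nd 54215 = n101435 := ndS (p := 28752) (l := 5) rfl N28752 D101435
theorem N54216 : nd 54216 = n101436 := ndS (p := 28752) (l := 6) rfl N28752 D101436
theorem N54217 : nd 54217 = n101437 := ndS (p := 28753) (l := 0) rfl N28753 D101437
theorem N54218 : nd 54218 = n101438 := ndS (p := 28753) (l := 1) rfl N28753 D101438
theorem N54219 : nd 54219 = n101439 := ndS (p := 28753) (l := 7) rfl N28753 D101439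
theorem N54220 : nd 54220 = n101440 := ndS (p := 28754) (l := 3) rfl N28754 D101440
theorem N54221 : nd 54221 = n101441 := ndS (p := 28754) (l := 5) rfl N28754 D101441
theorem N54222 : nd 54222 = n101442 := ndS (p := 28754) (l := 6) rfl N28754 D101442
theorem N54223 : nd 54223 = n101443 := ndS (p := 28755) (l := 3) rfl N28755 D101443
theorem N54224 : nd 54224 = n101444 := ndS (p := 28755) (l := 5) rfl N28755 D101444
theorem N54225 : nd 54225 = n101445 := ndS (p := 28755) (l := 6) rfl N28755 D101445
theorem N54226 : nd 54226 = n101446 := ndS (p := 28756) (l := 0) rfl N28756 D101446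
theorem N54227 : nd 54227 = n101447 := ndS (p := 28756) (l := 1) rfl N28756 D101447
theorem N54228 : nd 54228 = n101448 := ndS (p := 28756) (l := 2) rfl N28756 D101448
theorem N54229 : nd 54229 = n101449 := ndS (p := 28756) (l := 5) rfl N28756 D101449
theorem N54230 : nd 54230 = n101450 := ndS (p := 28756) (l := 7) rfl N28756 D101450
theorem N54231 : nd 54231 = n101454 := ndS (p := 28757) (l := 6) rfl N28757 D101454
theorem N54232 : nd 54232 = n101456 := ndS (p := 28758) (l := 6) rfl N28758 D101456
theorem N54233 : nd 54233 = n101457 := ndS (p := 28759) (l := 0) rfl N28759 D101457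
theorem N54234 : nd 54234 = n101458 := ndS (p := 28759) (l := 1) rfl N28759 D101458
theorem N54235 : nd 54235 = n101459 := ndS (p := 28760) (l := 0) rfl N28760 D101459
theorem N54236 : nd 54236 = n101461 := ndS (p := 28760) (l := 5) rfl N28760 D101461
theorem N54237 : nd 54237 = n101462 := ndS (p := 28760) (l := 7) rfl N28760 D101462
theorem N54238 : nd 54238 = n101464 := ndS (p := 28762) (l := 6) rfl N28762 D101464
theorem N54239 : nd 54239 = n101465 := ndS (p := 28763) (l := 0) rfl N28763 D101465
theorem N54240 : nd 54240 = n101466 := ndS (p := 28763) (l := 6) rfl N28763 D101466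
theorem N54241 : nd 54241 = n101467 := ndS (p := 28764) (l := 0) rfl N28764 D101467
theorem N54242 : nd 54242 = n101468 := ndS (p := 28764) (l := 1) rfl N28764 D101468
theorem N54243 : nd 54243 = n101469 := ndS (p := 28764) (l := 5) rfl N28764 D101469
theorem N54244 : nd 54244 = n101470 := ndS (p := 28764) (l := 7) rfl N28764 D101470
theorem N54245 : nd 54245 = n101474 := ndS (p := 28765) (l := 5) rfl N28765 D101474
theorem N54246 : nd 54246 = n101475 := ndS (p := 28765) (l := 6) rfl N28765 D101475
theorem N54247 : nd 54247 = n101477 := ndS (p := 28766) (l := 3) rfl N28766 D101477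
theorem N54248 : nd 54248 = n101478 := ndS (p := 28766) (l := 4) rfl N28766 D101478
theorem N54249 : nd 54249 = n101479 := ndS (p := 28766) (l := 5) rfl N28766 D101479
theorem N54250 : nd 54250 = n101481 := ndS (p := 28767) (l := 0) rfl N28767 D101481
theorem N54251 : nd 54251 = n101482 := ndS (p := 28767) (l := 1) rfl N28767 D101482
theorem N54252 : nd 54252 = n101483 := ndS (p := 28767) (l := 4) rfl N28767 D101483
theorem N54253 : nd 54253 = n101484 := ndS (p := 28767) (l := 7) rfl N28767 D101484
theorem N54254 : nd 54254 = n101494 := ndS (p := 28769) (l := 4) rfl N28769 D101494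
theorem N54255 : nd 54255 = n101495 := ndS (p := 28769) (l := 5) rfl N28769 D101495
theorem N54256 : nd 54256 = n101496 := ndS (p := 28769) (l := 6) rfl N28769 D101496
theorem N54257 : nd 54257 = n101504 := ndS (p := 28770) (l := 0) rfl N28770 D101504
theorem N54258 : nd 54258 = n101505 := ndS (p := 28770) (l := 1) rfl N28770 D101505
theorem N54259 : nd 54259 = n101506 := ndS (p := 28770) (l := 4) rfl N28770 D101506
theorem N54260 : nd 54260 = n101507 := ndS (p := 28770) (l := 6) rfl N28770 D101507
theorem N54261 : nd 54261 = n101522 := ndS (p := 28772) (l := 4) rfl N28772 D101522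
theorem N54262 : nd 54262 = n101523 := ndS (p := 28772) (l := 6) rfl N28772 D101523
theorem N54263 : nd 54263 = n101527 := ndS (p := 28773) (l := 3) rfl N28773 D101527
theorem N54264 : nd 54264 = n101529 := ndS (p := 28773) (l := 5) rfl N28773 D101529
theorem N54265 : nd 54265 = n101532 := ndS (p := 28774) (l := 6) rfl N28774 D101532
theorem N54266 : nd 54266 = n101533 := ndS (p := 28775) (l := 0) rfl N28775 D101533
theorem N54267 : nd 54267 = n101534 := ndS (p := 28775) (l := 1) rfl N28775 D101534
theorem N54268 : nd 54268 = n101535 := ndS (p := 28775) (l := 3) rfl N28775 D101535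
theorem N54269 : nd 54269 = n101536 := ndS (p := 28775) (l := 5) rfl N28775 D101536
theorem N54270 : nd 54270 = n101537 := ndS (p := 28775) (l := 7) rfl N28775 D101537
theorem N54271 : nd 54271 = n101538 := ndS (p := 28776) (l := 6) rfl N28776 D101538
theorem N54272 : nd 54272 = n101539 := ndS (p := 28777) (l := 0) rfl N28777 D101539
theorem N54273 : nd 54273 = n101540 := ndS (p := 28777) (l := 5) rfl N28777 D101540
theorem N54274 : nd 54274 = n101542 := ndS (p := 28778) (l := 3) rfl N28778 D101542
theorem N54275 : nd 54275 = n101543 := ndS (p := 28778) (l := 5) rfl N28778 D101543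
theorem N54276 : nd 54276 = n101544 := ndS (p := 28778) (l := 6) rfl N28778 D101544
theorem N54277 : nd 54277 = n101546 := ndS (p := 28779) (l := 3) rfl N28779 D101546
theorem N54278 : nd 54278 = n101548 := ndS (p := 28779) (l := 5) rfl N28779 D101548
theorem N54279 : nd 54279 = n101549 := ndS (p := 28779) (l := 6) rfl N28779 D101549
theorem N54280 : nd 54280 = n101550 := ndS (p := 28780) (l := 0) rfl N28780 D101550
theorem N54281 : nd 54281 = n101551 := ndS (p := 28780) (l := 1) rfl N28780 D101551
theorem N54282 : nd 54282 = n101552 := ndS (p := 28780) (l := 4) rfl N28780 D101552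
theorem N54283 : nd 54283 = n101553 := ndS (p := 28780) (l := 7) rfl N28780 D101553
theorem N54284 : nd 54284 = n101559 := ndS (p := 28782) (l := 0) rfl N28782 D101559
theorem N54285 : nd 54285 = n101560 := ndS (p := 28782) (l := 1) rfl N28782 D101560
theorem N54286 : nd 54286 = n101561 := ndS (p := 28782) (l := 4) rfl N28782 D101561
theorem N54287 : nd 54287 = n101562 := ndS (p := 28782) (l := 6) rfl N28782 D101562
theorem N54288 : nd 54288 = n101564 := ndS (p := 28783) (l := 1) rfl N28783 D101564
theorem N54289 : nd 54289 = n101572 := ndS (p := 28784) (l := 4) rfl N28784 D101572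
theorem N54290 : nd 54290 = n101573 := ndS (p := 28784) (l := 6) rfl N28784 D101573
theorem N54291 : nd 54291 = n101575 := ndS (p := 28785) (l := 5) rfl N28785 D101575
theorem N54292 : nd 54292 = n101580 := ndS (p := 28786) (l := 6) rfl N28786 D101580
theorem N54293 : nd 54293 = n101582 := ndS (p := 28787) (l := 3) rfl N28787 D101582
theorem N54294 : nd 54294 = n101583 := ndS (p := 28787) (l := 6) rfl N28787 D101583
theorem N54295 : nd 54295 = n101590 := ndS (p := 28789) (l := 1) rfl N28789 D101590
theorem N54296 : nd 54296 = n101594 := ndS (p := 28790) (l := 5) rfl N28790 D101594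
theorem N54297 : nd 54297 = n101596 := ndS (p := 28791) (l := 0) rfl N28791 D101596
theorem N54298 : nd 54298 = n101598 := ndS (p := 28791) (l := 5) rfl N28791 D101598
theorem N54299 : nd 54299 = n101600 := ndS (p := 28792) (l := 5) rfl N28792 D101600
theorem N54300 : nd 54300 = n101603 := ndS (p := 28793) (l := 1) rfl N28793 D101603
theorem N54301 : nd 54301 = n101604 := ndS (p := 28793) (l := 5) rfl N28793 D101604
theorem N54302 : nd 54302 = n101605 := ndS (p := 28793) (l := 7) rfl N28793 D101605
theorem N54303 : nd 54303 = n101606 := ndS (p := 28794) (l := 0) rfl N28794 D101606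
theorem N54304 : nd 54304 = n101607 := ndS (p := 28794) (l := 1) rfl N28794 D101607
theorem N54305 : nd 54305 = n101608 := ndS (p := 28794) (l := 5) rfl N28794 D101608
theorem N54306 : nd 54306 = n101609 := ndS (p := 28794) (l := 7) rfl N28794 D101609
theorem N54307 : nd 54307 = n101611 := ndS (p := 28795) (l := 3) rfl N28795 D101611
theorem N54308 : nd 54308 = n101612 := ndS (p := 28795) (l := 4) rfl N28795 D101612
theorem N54309 : nd 54309 = n101613 := ndS (p := 28795) (l := 5) rfl N28795 D101613
theorem N54310 : nd 54310 = n101614 := ndS (p := 28795) (l := 6) rfl N28795 D101614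
theorem N54311 : nd 54311 = n101616 := ndS (p := 28796) (l := 3) rfl N28796 D101616
theorem N54312 : nd 54312 = n101618 := ndS (p := 28796) (l := 5) rfl N28796 D101618
theorem N54313 : nd 54313 = n101620 := ndS (p := 28797) (l := 0) rfl N28797 D101620
theorem N54314 : nd 54314 = n101622 := ndS (p := 28797) (l := 4) rfl N28797 D101622
theorem N54315 : nd 54315 = n101623 := ndS (p := 28797) (l := 7) rfl N28797 D101623
theorem N54316 : nd 54316 = n101643 := ndS (p := 28799) (l := 0) rfl N28799 D101643
theorem N54317 : nd 54317 = n101644 := ndS (p := 28799) (l := 1) rfl N28799 D101644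
theorem N54318 : nd 54318 = n101645 := ndS (p := 28799) (l := 4) rfl N28799 D101645
theorem N54319 : nd 54319 = n101646 := ndS (p := 28799) (l := 6) rfl N28799 D101646
theorem N54320 : nd 54320 = n101649 := ndS (p := 28800) (l := 1) rfl N28800 D101649
theorem N54321 : nd 54321 = n101656 := ndS (p := 28801) (l := 5) rfl N28801 D101656
theorem N54322 : nd 54322 = n101661 := ndS (p := 28802) (l := 4) rfl N28802 D101661
theorem N54323 : nd 54323 = n101662 := ndS (p := 28802) (l := 6) rfl N28802 D101662
theorem N54324 : nd 54324 = n101669 := ndS (p := 28803) (l := 4) rfl N28803 D101669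
theorem N54325 : nd 54325 = n101671 := ndS (p := 28803) (l := 6) rfl N28803 D101671
theorem N54326 : nd 54326 = n101674 := ndS (p := 28804) (l := 4) rfl N28804 D101674
theorem N54327 : nd 54327 = n101677 := ndS (p := 28805) (l := 0) rfl N28805 D101677
theorem N54328 : nd 54328 = n101678 := ndS (p := 28805) (l := 1) rfl N28805 D101678
theorem N54329 : nd 54329 = n101679 := ndS (p := 28805) (l := 3) rfl N28805 D101679
theorem N54330 : nd 54330 = n101680 := ndS (p := 28805) (l := 5) rfl N28805 D101680
theorem N54331 : nd 54331 = n101681 := ndS (p := 28805) (l := 7) rfl N28805 D101681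
theorem N54332 : nd 54332 = n101682 := ndS (p := 28806) (l := 6) rfl N28806 D101682
theorem N54333 : nd 54333 = n101715 := ndS (p := 28807) (l := 5) rfl N28807 D101715
theorem N54334 : nd 54334 = n101726 := ndS (p := 28808) (l := 6) rfl N28808 D101726
theorem N54335 : nd 54335 = n101727 := ndS (p := 28809) (l := 0) rfl N28809 D101727
theorem N54336 : nd 54336 = n101730 := ndS (p := 28809) (l := 5) rfl N28809 D101730
theorem N54337 : nd 54337 = n101731 := ndS (p := 28809) (l := 6) rfl N28809 D101731
theorem N54338 : nd 54338 = n101733 := ndS (p := 28810) (l := 0) rfl N28810 D101733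
theorem N54339 : nd 54339 = n101735 := ndS (p := 28810) (l := 4) rfl N28810 D101735
theorem N54340 : nd 54340 = n101736 := ndS (p := 28810) (l := 6) rfl N28810 D101736
theorem N54341 : nd 54341 = n101738 := ndS (p := 28811) (l := 0) rfl N28811 D101738
theorem N54342 : nd 54342 = n101739 := ndS (p := 28811) (l := 1) rfl N28811 D101739
theorem N54343 : nd 54343 = n101740 := ndS (p := 28811) (l := 5) rfl N28811 D101740
theorem N54344 : nd 54344 = n101741 := ndS (p := 28811) (l := 7) rfl N28811 D101741
theorem N54345 : nd 54345 = n101746 := ndS (p := 28812) (l := 5) rfl N28812 D101746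
theorem N54346 : nd 54346 = n101753 := ndS (p := 28813) (l := 0) rfl N28813 D101753
theorem N54347 : nd 54347 = n101756 := ndS (p := 28813) (l := 5) rfl N28813 D101756
theorem N54348 : nd 54348 = n101757 := ndS (p := 28813) (l := 6) rfl N28813 D101757
theorem N54349 : nd 54349 = n101759 := ndS (p := 28814) (l := 0) rfl N28814 D101759
theorem N54350 : nd 54350 = n101760 := ndS (p := 28814) (l := 1) rfl N28814 D101760
theorem N54351 : nd 54351 = n101761 := ndS (p := 28814) (l := 4) rfl N28814 D101761
theorem N54352 : nd 54352 = n101765 := ndS (p := 28815) (l := 1) rfl N28815 D101765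
theorem N54353 : nd 54353 = n101766 := ndS (p := 28815) (l := 5) rfl N28815 D101766
theorem N54354 : nd 54354 = n101767 := ndS (p := 28815) (l := 7) rfl N28815 D101767
theorem N54355 : nd 54355 = n101769 := ndS (p := 28816) (l := 3) rfl N28816 D101769
theorem N54356 : nd 54356 = n101770 := ndS (p := 28816) (l := 4) rfl N28816 D101770
theorem N54357 : nd 54357 = n101773 := ndS (p := 28817) (l := 4) rfl N28817 D101773
theorem N54358 : nd 54358 = n101774 := ndS (p := 28818) (l := 0) rfl N28818 D101774
theorem N54359 : nd 54359 = n101775 := ndS (p := 28818) (l := 1) rfl N28818 D101775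
theorem N54360 : nd 54360 = n101776 := ndS (p := 28818) (l := 3) rfl N28818 D101776
theorem N54361 : nd 54361 = n101777 := ndS (p := 28818) (l := 5) rfl N28818 D101777
theorem N54362 : nd 54362 = n101778 := ndS (p := 28818) (l := 6) rfl N28818 D101778
theorem N54363 : nd 54363 = n101780 := ndS (p := 28819) (l := 0) rfl N28819 D101780
theorem N54364 : nd 54364 = n101781 := ndS (p := 28819) (l := 1) rfl N28819 D101781
theorem N54365 : nd 54365 = n101782 := ndS (p := 28819) (l := 5) rfl N28819 D101782
theorem N54366 : nd 54366 = n101783 := ndS (p := 28819) (l := 7) rfl N28819 D101783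
theorem N54367 : nd 54367 = n101785 := ndS (p := 28820) (l := 5) rfl N28820 D101785
theorem N54368 : nd 54368 = n101786 := ndS (p := 28821) (l := 4) rfl N28821 D101786
theorem N54369 : nd 54369 = n101799 := ndS (p := 28823) (l := 5) rfl N28823 D101799
theorem N54370 : nd 54370 = n101803 := ndS (p := 28824) (l := 6) rfl N28824 D101803
theorem N54371 : nd 54371 = n101808 := ndS (p := 28825) (l := 6) rfl N28825 D101808
theorem N54372 : nd 54372 = n101813 := ndS (p := 28826) (l := 0) rfl N28826 D101813
theorem N54373 : nd 54373 = n101814 := ndS (p := 28826) (l := 1) rfl N28826 D101814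
theorem N54374 : nd 54374 = n101815 := ndS (p := 28826) (l := 5) rfl N28826 D101815
theorem N54375 : nd 54375 = n101816 := ndS (p := 28826) (l := 7) rfl N28826 D101816
theorem N54376 : nd 54376 = n101822 := ndS (p := 28827) (l := 4) rfl N28827 D101822
theorem N54377 : nd 54377 = n101823 := ndS (p := 28827) (l := 6) rfl N28827 D101823
theorem N54378 : nd 54378 = n101826 := ndS (p := 28828) (l := 5) rfl N28828 D101826
theorem N54379 : nd 54379 = n101827 := ndS (p := 28828) (l := 7) rfl N28828 D101827
theorem N54380 : nd 54380 = n101829 := ndS (p := 28829) (l := 5) rfl N28829 D101829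
theorem N54381 : nd 54381 = n101830 := ndS (p := 28829) (l := 6) rfl N28829 D101830
theorem N54382 : nd 54382 = n101831 := ndS (p := 28830) (l := 0) rfl N28830 D101831
theorem N54383 : nd 54383 = n101832 := ndS (p := 28830) (l := 5) rfl N28830 D101832
theorem N54384 : nd 54384 = n101833 := ndS (p := 28830) (l := 7) rfl N28830 D101833
theorem N54385 : nd 54385 = n101836 := ndS (p := 28832) (l := 4) rfl N28832 D101836
theorem N54386 : nd 54386 = n101837 := ndS (p := 28832) (l := 7) rfl N28832 D101837
theorem N54387 : nd 54387 = n101840 := ndS (p := 28834) (l := 2) rfl N28834 D101840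
theorem N54388 : nd 54388 = n101841 := ndS (p := 28834) (l := 4) rfl N28834 D101841
theorem N54389 : nd 54389 = n101842 := ndS (p := 28834) (l := 5) rfl N28834 D101842
theorem N54390 : nd 54390 = n101843 := ndS (p := 28834) (l := 6) rfl N28834 D101843
theorem N54391 : nd 54391 = n101844 := ndS (p := 28835) (l := 0) rfl N28835 D101844
theorem N54392 : nd 54392 = n101845 := ndS (p := 28835) (l := 1) rfl N28835 D101845
theorem N54393 : nd 54393 = n101846 := ndS (p := 28835) (l := 3) rfl N28835 D101846
theorem N54394 : nd 54394 = n101847 := ndS (p := 28835) (l := 5) rfl N28835 D101847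
theorem N54395 : nd 54395 = n101848 := ndS (p := 28835) (l := 6) rfl N28835 D101848
theorem N54396 : nd 54396 = n101849 := ndS (p := 28836) (l := 4) rfl N28836 D101849
theorem N54397 : nd 54397 = n101850 := ndS (p := 28837) (l := 0) rfl N28837 D101850
theorem N54398 : nd 54398 = n101851 := ndS (p := 28837) (l := 1) rfl N28837 D101851
theorem N54399 : nd 54399 = n101852 := ndS (p := 28837) (l := 7) rfl N28837 D101852
theorem N54400 : nd 54400 = n101859 := ndS (p := 28839) (l := 3) rfl N28839 D101859
theorem N54401 : nd 54401 = n101860 := ndS (p := 28839) (l := 5) rfl N28839 D101860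
theorem N54402 : nd 54402 = n101861 := ndS (p := 28839) (l := 6) rfl N28839 D101861
theorem N54403 : nd 54403 = n101862 := ndS (p := 28840) (l := 4) rfl N28840 D101862
theorem N54404 : nd 54404 = n101863 := ndS (p := 28841) (l := 0) rfl N28841 D101863
theorem N54405 : nd 54405 = n101864 := ndS (p := 28841) (l := 1) rfl N28841 D101864
theorem N54406 : nd 54406 = n101866 := ndS (p := 28841) (l := 7) rfl N28841 D101866
theorem N54407 : nd 54407 = n101868 := ndS (p := 28842) (l := 3) rfl N28842 D101868
theorem N54408 : nd 54408 = n101869 := ndS (p := 28842) (l := 5) rfl N28842 D101869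
theorem N54409 : nd 54409 = n101870 := ndS (p := 28842) (l := 6) rfl N28842 D101870
theorem N54410 : nd 54410 = n101872 := ndS (p := 28843) (l := 3) rfl N28843 D101872
theorem N54411 : nd 54411 = n101874 := ndS (p := 28843) (l := 5) rfl N28843 D101874
theorem N54412 : nd 54412 = n101875 := ndS (p := 28843) (l := 6) rfl N28843 D101875
theorem N54413 : nd 54413 = n101876 := ndS (p := 28844) (l := 0) rfl N28844 D101876
theorem N54414 : nd 54414 = n101877 := ndS (p := 28844) (l := 1) rfl N28844 D101877
theorem N54415 : nd 54415 = n101878 := ndS (p := 28844) (l := 2) rfl N28844 D101878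
theorem N54416 : nd 54416 = n101879 := ndS (p := 28844) (l := 5) rfl N28844 D101879
theorem N54417 : nd 54417 = n101880 := ndS (p := 28844) (l := 7) rfl N28844 D101880
theorem N54418 : nd 54418 = n101881 := ndS (p := 28845) (l := 0) rfl N28845 D101881
theorem N54419 : nd 54419 = n101883 := ndS (p := 28845) (l := 4) rfl N28845 D101883
theorem N54420 : nd 54420 = n101884 := ndS (p := 28845) (l := 6) rfl N28845 D101884
theorem N54421 : nd 54421 = n101885 := ndS (p := 28845) (l := 7) rfl N28845 D101885
theorem N54422 : nd 54422 = n101886 := ndS (p := 28846) (l := 6) rfl N28846 D101886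
theorem N54423 : nd 54423 = n101887 := ndS (p := 28847) (l := 5) rfl N28847 D101887
theorem N54424 : nd 54424 = n101888 := ndS (p := 28848) (l := 4) rfl N28848 D101888
theorem N54425 : nd 54425 = n101899 := ndS (p := 28849) (l := 5) rfl N28849 D101899
theorem N54426 : nd 54426 = n101905 := ndS (p := 28850) (l := 5) rfl N28850 D101905
theorem N54427 : nd 54427 = n101908 := ndS (p := 28851) (l := 0) rfl N28851 D101908
theorem N54428 : nd 54428 = n101909 := ndS (p := 28851) (l := 1) rfl N28851 D101909
theorem N54429 : nd 54429 = n101910 := ndS (p := 28851) (l := 4) rfl N28851 D101910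
theorem N54430 : nd 54430 = n101911 := ndS (p := 28851) (l := 6) rfl N28851 D101911
theorem N54431 : nd 54431 = n101919 := ndS (p := 28853) (l := 5) rfl N28853 D101919
theorem N54432 : nd 54432 = n101922 := ndS (p := 28854) (l := 5) rfl N28854 D101922
theorem N54433 : nd 54433 = n101923 := ndS (p := 28854) (l := 6) rfl N28854 D101923
theorem N54434 : nd 54434 = n101924 := ndS (p := 28855) (l := 4) rfl N28855 D101924
theorem N54435 : nd 54435 = n101925 := ndS (p := 28855) (l := 6) rfl N28855 D101925
theorem N54436 : nd 54436 = n101927 := ndS (p := 28856) (l := 5) rfl N28856 D101927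
theorem N54437 : nd 54437 = n101930 := ndS (p := 28857) (l := 3) rfl N28857 D101930
theorem N54438 : nd 54438 = n101931 := ndS (p := 28857) (l := 4) rfl N28857 D101931
theorem N54439 : nd 54439 = n101932 := ndS (p := 28857) (l := 6) rfl N28857 D101932
theorem N54440 : nd 54440 = n101934 := ndS (p := 28858) (l := 3) rfl N28858 D101934
theorem N54441 : nd 54441 = n101935 := ndS (p := 28858) (l := 4) rfl N28858 D101935
theorem N54442 : nd 54442 = n101936 := ndS (p := 28858) (l := 6) rfl N28858 D101936
theorem N54443 : nd 54443 = n101937 := ndS (p := 28859) (l := 0) rfl N28859 D101937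
theorem N54444 : nd 54444 = n101938 := ndS (p := 28859) (l := 1) rfl N28859 D101938
theorem N54445 : nd 54445 = n101939 := ndS (p := 28859) (l := 3) rfl N28859 D101939
theorem N54446 : nd 54446 = n101940 := ndS (p := 28859) (l := 5) rfl N28859 D101940
theorem N54447 : nd 54447 = n101949 := ndS (p := 28861) (l := 6) rfl N28861 D101949
theorem N54448 : nd 54448 = n101968 := ndS (p := 28863) (l := 5) rfl N28863 D101968
theorem N54449 : nd 54449 = n101969 := ndS (p := 28863) (l := 7) rfl N28863 D101969
theorem N54450 : nd 54450 = n101973 := ndS (p := 28865) (l := 1) rfl N28865 D101973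
theorem N54451 : nd 54451 = n101974 := ndS (p := 28865) (l := 7) rfl N28865 D101974
theorem N54452 : nd 54452 = n101979 := ndS (p := 28866) (l := 6) rfl N28866 D101979
theorem N54453 : nd 54453 = n101981 := ndS (p := 28867) (l := 3) rfl N28867 D101981
theorem N54454 : nd 54454 = n101983 := ndS (p := 28867) (l := 5) rfl N28867 D101983
theorem N54455 : nd 54455 = n101987 := ndS (p := 28868) (l := 3) rfl N28868 D101987
theorem N54456 : nd 54456 = n101989 := ndS (p := 28868) (l := 6) rfl N28868 D101989
theorem N54457 : nd 54457 = n101992 := ndS (p := 28869) (l := 5) rfl N28869 D101992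
theorem N54458 : nd 54458 = n101996 := ndS (p := 28870) (l := 4) rfl N28870 D101996
theorem N54459 : nd 54459 = n102000 := ndS (p := 28871) (l := 3) rfl N28871 D102000
theorem N54460 : nd 54460 = n102001 := ndS (p := 28871) (l := 4) rfl N28871 D102001
theorem N54461 : nd 54461 = n102005 := ndS (p := 28872) (l := 1) rfl N28872 D102005
theorem N54462 : nd 54462 = n102006 := ndS (p := 28872) (l := 4) rfl N28872 D102006
theorem N54463 : nd 54463 = n102009 := ndS (p := 28876) (l := 4) rfl N28876 D102009
theorem N54464 : nd 54464 = n102010 := ndS (p := 28876) (l := 6) rfl N28876 D102010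
theorem N54465 : nd 54465 = n102011 := ndS (p := 28877) (l := 3) rfl N28877 D102011
theorem N54466 : nd 54466 = n102012 := ndS (p := 28877) (l := 5) rfl N28877 D102012
theorem N54467 : nd 54467 = n102013 := ndS (p := 28877) (l := 6) rfl N28877 D102013
theorem N54468 : nd 54468 = n102014 := ndS (p := 28878) (l := 0) rfl N28878 D102014
theorem N54469 : nd 54469 = n102015 := ndS (p := 28878) (l := 1) rfl N28878 D102015
theorem N54470 : nd 54470 = n102016 := ndS (p := 28878) (l := 7) rfl N28878 D102016
theorem N54471 : nd 54471 = n102017 := ndS (p := 28879) (l := 3) rfl N28879 D102017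
theorem N54472 : nd 54472 = n102018 := ndS (p := 28879) (l := 5) rfl N28879 D102018
theorem N54473 : nd 54473 = n102019 := ndS (p := 28879) (l := 6) rfl N28879 D102019
theorem N54474 : nd 54474 = n102021 := ndS (p := 28881) (l := 3) rfl N28881 D102021
theorem N54475 : nd 54475 = n102022 := ndS (p := 28881) (l := 6) rfl N28881 D102022
theorem N54476 : nd 54476 = n102023 := ndS (p := 28882) (l := 3) rfl N28882 D102023
theorem N54477 : nd 54477 = n102024 := ndS (p := 28882) (l := 6) rfl N28882 D102024
theorem N54478 : nd 54478 = n102025 := ndS (p := 28883) (l := 0) rfl N28883 D102025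
theorem N54479 : nd 54479 = n102026 := ndS (p := 28883) (l := 1) rfl N28883 D102026
theorem N54480 : nd 54480 = n102027 := ndS (p := 28883) (l := 2) rfl N28883 D102027
theorem N54481 : nd 54481 = n102028 := ndS (p := 28883) (l := 6) rfl N28883 D102028
theorem N54482 : nd 54482 = n102030 := ndS (p := 28884) (l := 1) rfl N28884 D102030
theorem N54483 : nd 54483 = n102032 := ndS (p := 28884) (l := 7) rfl N28884 D102032
theorem N54484 : nd 54484 = n102035 := ndS (p := 28885) (l := 4) rfl N28885 D102035
theorem N54485 : nd 54485 = n102036 := ndS (p := 28885) (l := 5) rfl N28885 D102036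
theorem N54486 : nd 54486 = n102039 := ndS (p := 28886) (l := 4) rfl N28886 D102039
theorem N54487 : nd 54487 = n102040 := ndS (p := 28886) (l := 5) rfl N28886 D102040
theorem N54488 : nd 54488 = n102041 := ndS (p := 28886) (l := 6) rfl N28886 D102041
theorem N54489 : nd 54489 = n102042 := ndS (p := 28887) (l := 0) rfl N28887 D102042
theorem N54490 : nd 54490 = n102043 := ndS (p := 28887) (l := 1) rfl N28887 D102043
theorem N54491 : nd 54491 = n102044 := ndS (p := 28887) (l := 4) rfl N28887 D102044
theorem N54492 : nd 54492 = n102045 := ndS (p := 28887) (l := 7) rfl N28887 D102045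
theorem N54493 : nd 54493 = n102046 := ndS (p := 28889) (l := 3) rfl N28889 D102046
theorem N54494 : nd 54494 = n102062 := ndS (p := 28890) (l := 4) rfl N28890 D102062
theorem N54495 : nd 54495 = n102068 := ndS (p := 28891) (l := 5) rfl N28891 D102068
theorem N54496 : nd 54496 = n102075 := ndS (p := 28892) (l := 7) rfl N28892 D102075
theorem N54497 : nd 54497 = n102080 := ndS (p := 28893) (l := 3) rfl N28893 D102080
theorem N54498 : nd 54498 = n102081 := ndS (p := 28893) (l := 5) rfl N28893 D102081
theorem N54499 : nd 54499 = n102083 := ndS (p := 28894) (l := 0) rfl N28894 D102083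
theorem N54500 : nd 54500 = n102084 := ndS (p := 28894) (l := 1) rfl N28894 D102084
theorem N54501 : nd 54501 = n102085 := ndS (p := 28894) (l := 4) rfl N28894 D102085
theorem N54502 : nd 54502 = n102086 := ndS (p := 28894) (l := 6) rfl N28894 D102086
theorem N54503 : nd 54503 = n102110 := ndS (p := 28895) (l := 3) rfl N28895 D102110
theorem N54504 : nd 54504 = n102140 := ndS (p := 28898) (l := 3) rfl N28898 D102140
theorem N54505 : nd 54505 = n102152 := ndS (p := 28899) (l := 5) rfl N28899 D102152
theorem N54506 : nd 54506 = n102161 := ndS (p := 28901) (l := 0) rfl N28901 D102161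
theorem N54507 : nd 54507 = n102162 := ndS (p := 28901) (l := 1) rfl N28901 D102162
theorem N54508 : nd 54508 = n102163 := ndS (p := 28901) (l := 5) rfl N28901 D102163
theorem N54509 : nd 54509 = n102164 := ndS (p := 28901) (l := 7) rfl N28901 D102164
theorem N54510 : nd 54510 = n102165 := ndS (p := 28902) (l := 3) rfl N28902 D102165
theorem N54511 : nd 54511 = n102167 := ndS (p := 28903) (l := 3) rfl N28903 D102167
theorem N54512 : nd 54512 = n102169 := ndS (p := 28904) (l := 1) rfl N28904 D102169
theorem N54513 : nd 54513 = n102172 := ndS (p := 28905) (l := 0) rfl N28905 D102172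
theorem N54514 : nd 54514 = n102173 := ndS (p := 28905) (l := 1) rfl N28905 D102173
theorem N54515 : nd 54515 = n102174 := ndS (p := 28905) (l := 5) rfl N28905 D102174
theorem N54516 : nd 54516 = n102175 := ndS (p := 28905) (l := 7) rfl N28905 D102175
theorem N54517 : nd 54517 = n102177 := ndS (p := 28906) (l := 3) rfl N28906 D102177
theorem N54518 : nd 54518 = n102178 := ndS (p := 28906) (l := 4) rfl N28906 D102178
theorem N54519 : nd 54519 = n102179 := ndS (p := 28906) (l := 5) rfl N28906 D102179
theorem N54520 : nd 54520 = n102183 := ndS (p := 28907) (l := 4) rfl N28907 D102183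
theorem N54521 : nd 54521 = n102184 := ndS (p := 28907) (l := 5) rfl N28907 D102184
theorem N54522 : nd 54522 = n102185 := ndS (p := 28907) (l := 6) rfl N28907 D102185
theorem N54523 : nd 54523 = n102186 := ndS (p := 28908) (l := 1) rfl N28908 D102186
theorem N54524 : nd 54524 = n102187 := ndS (p := 28908) (l := 4) rfl N28908 D102187
theorem N54525 : nd 54525 = n102188 := ndS (p := 28908) (l := 7) rfl N28908 D102188
theorem N54526 : nd 54526 = n102200 := ndS (p := 28910) (l := 5) rfl N28910 D102200
theorem N54527 : nd 54527 = n102201 := ndS (p := 28910) (l := 6) rfl N28910 D102201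
theorem N54528 : nd 54528 = n102207 := ndS (p := 28912) (l := 0) rfl N28912 D102207
theorem N54529 : nd 54529 = n102208 := ndS (p := 28912) (l := 1) rfl N28912 D102208
theorem N54530 : nd 54530 = n102210 := ndS (p := 28913) (l := 1) rfl N28913 D102210
theorem N54531 : nd 54531 = n102211 := ndS (p := 28913) (l := 5) rfl N28913 D102211
theorem N54532 : nd 54532 = n102217 := ndS (p := 28915) (l := 0) rfl N28915 D102217
theorem N54533 : nd 54533 = n102218 := ndS (p := 28915) (l := 1) rfl N28915 D102218
theorem N54534 : nd 54534 = n102219 := ndS (p := 28915) (l := 5) rfl N28915 D102219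
theorem N54535 : nd 54535 = n102220 := ndS (p := 28915) (l := 7) rfl N28915 D102220
theorem N54536 : nd 54536 = n102223 := ndS (p := 28916) (l := 4) rfl N28916 D102223
theorem N54537 : nd 54537 = n102224 := ndS (p := 28916) (l := 5) rfl N28916 D102224
theorem N54538 : nd 54538 = n102227 := ndS (p := 28917) (l := 3) rfl N28917 D102227
theorem N54539 : nd 54539 = n102228 := ndS (p := 28917) (l := 4) rfl N28917 D102228
theorem N54540 : nd 54540 = n102229 := ndS (p := 28917) (l := 5) rfl N28917 D102229
theorem N54541 : nd 54541 = n102231 := ndS (p := 28918) (l := 0) rfl N28918 D102231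
theorem N54542 : nd 54542 = n102232 := ndS (p := 28918) (l := 1) rfl N28918 D102232
theorem N54543 : nd 54543 = n102233 := ndS (p := 28918) (l := 4) rfl N28918 D102233
theorem N54544 : nd 54544 = n102234 := ndS (p := 28918) (l := 7) rfl N28918 D102234
theorem N54545 : nd 54545 = n102236 := ndS (p := 28920) (l := 1) rfl N28920 D102236
theorem N54546 : nd 54546 = n102237 := ndS (p := 28920) (l := 2) rfl N28920 D102237
theorem N54547 : nd 54547 = n102238 := ndS (p := 28920) (l := 4) rfl N28920 D102238
theorem N54548 : nd 54548 = n102239 := ndS (p := 28920) (l := 6) rfl N28920 D102239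
theorem N54549 : nd 54549 = n102242 := ndS (p := 28921) (l := 5) rfl N28921 D102242
theorem N54550 : nd 54550 = n102243 := ndS (p := 28921) (l := 7) rfl N28921 D102243
theorem N54551 : nd 54551 = n102245 := ndS (p := 28922) (l := 1) rfl N28922 D102245
theorem N54552 : nd 54552 = n102246 := ndS (p := 28922) (l := 2) rfl N28922 D102246
theorem N54553 : nd 54553 = n102247 := ndS (p := 28922) (l := 4) rfl N28922 D102247
theorem N54554 : nd 54554 = n102248 := ndS (p := 28922) (l := 6) rfl N28922 D102248
theorem N54555 : nd 54555 = n102251 := ndS (p := 28923) (l := 5) rfl N28923 D102251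
theorem N54556 : nd 54556 = n102252 := ndS (p := 28923) (l := 7) rfl N28923 D102252
theorem N54557 : nd 54557 = n102253 := ndS (p := 28924) (l := 0) rfl N28924 D102253
theorem N54558 : nd 54558 = n102254 := ndS (p := 28924) (l := 2) rfl N28924 D102254
theorem N54559 : nd 54559 = n102255 := ndS (p := 28924) (l := 3) rfl N28924 D102255
theorem N54560 : nd 54560 = n102256 := ndS (p := 28924) (l := 4) rfl N28924 D102256
theorem N54561 : nd 54561 = n102257 := ndS (p := 28924) (l := 5) rfl N28924 D102257
theorem N54562 : nd 54562 = n102258 := ndS (p := 28924) (l := 6) rfl N28924 D102258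
theorem N54563 : nd 54563 = n102259 := ndS (p := 28924) (l := 7) rfl N28924 D102259
theorem N54564 : nd 54564 = n102260 := ndS (p := 28925) (l := 3) rfl N28925 D102260
theorem N54565 : nd 54565 = n102261 := ndS (p := 28925) (l := 4) rfl N28925 D102261
theorem N54566 : nd 54566 = n102262 := ndS (p := 28925) (l := 5) rfl N28925 D102262
theorem N54567 : nd 54567 = n102263 := ndS (p := 28925) (l := 6) rfl N28925 D102263
theorem N54568 : nd 54568 = n102266 := ndS (p := 28926) (l := 5) rfl N28926 D102266
theorem N54569 : nd 54569 = n102267 := ndS (p := 28927) (l := 0) rfl N28927 D102267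
theorem N54570 : nd 54570 = n102268 := ndS (p := 28927) (l := 1) rfl N28927 D102268
theorem N54571 : nd 54571 = n102269 := ndS (p := 28927) (l := 4) rfl N28927 D102269
theorem N54572 : nd 54572 = n102270 := ndS (p := 28927) (l := 6) rfl N28927 D102270
theorem N54573 : nd 54573 = n102271 := ndS (p := 28928) (l := 6) rfl N28928 D102271
theorem N54574 : nd 54574 = n102272 := ndS (p := 28929) (l := 0) rfl N28929 D102272
theorem N54575 : nd 54575 = n102274 := ndS (p := 28929) (l := 7) rfl N28929 D102274
theorem N54576 : nd 54576 = n102275 := ndS (p := 28930) (l := 0) rfl N28930 D102275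
theorem N54577 : nd 54577 = n102276 := ndS (p := 28930) (l := 1) rfl N28930 D102276
theorem N54578 : nd 54578 = n102279 := ndS (p := 28931) (l := 3) rfl N28931 D102279
theorem N54579 : nd 54579 = n102280 := ndS (p := 28931) (l := 4) rfl N28931 D102280
theorem N54580 : nd 54580 = n102281 := ndS (p := 28931) (l := 5) rfl N28931 D102281
theorem N54581 : nd 54581 = n102282 := ndS (p := 28931) (l := 6) rfl N28931 D102282
theorem N54582 : nd 54582 = n102285 := ndS (p := 28932) (l := 4) rfl N28932 D102285
theorem N54583 : nd 54583 = n102286 := ndS (p := 28932) (l := 5) rfl N28932 D102286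
theorem N54584 : nd 54584 = n102288 := ndS (p := 28933) (l := 0) rfl N28933 D102288
theorem N54585 : nd 54585 = n102289 := ndS (p := 28933) (l := 1) rfl N28933 D102289
theorem N54586 : nd 54586 = n102290 := ndS (p := 28933) (l := 4) rfl N28933 D102290
theorem N54587 : nd 54587 = n102291 := ndS (p := 28934) (l := 3) rfl N28934 D102291
theorem N54588 : nd 54588 = n102300 := ndS (p := 28935) (l := 0) rfl N28935 D102300
theorem N54589 : nd 54589 = n102301 := ndS (p := 28935) (l := 1) rfl N28935 D102301
theorem N54590 : nd 54590 = n102302 := ndS (p := 28935) (l := 4) rfl N28935 D102302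
theorem N54591 : nd 54591 = n102303 := ndS (p := 28935) (l := 6) rfl N28935 D102303
theorem N54592 : nd 54592 = n102306 := ndS (p := 28936) (l := 5) rfl N28936 D102306
theorem N54593 : nd 54593 = n102307 := ndS (p := 28937) (l := 3) rfl N28937 D102307
theorem N54594 : nd 54594 = n102308 := ndS (p := 28937) (l := 4) rfl N28937 D102308
theorem N54595 : nd 54595 = n102309 := ndS (p := 28937) (l := 6) rfl N28937 D102309
theorem N54596 : nd 54596 = n102310 := ndS (p := 28938) (l := 4) rfl N28938 D102310
theorem N54597 : nd 54597 = n102311 := ndS (p := 28939) (l := 1) rfl N28939 D102311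
theorem N54598 : nd 54598 = n102315 := ndS (p := 28940) (l := 0) rfl N28940 D102315
theorem N54599 : nd 54599 = n102316 := ndS (p := 28940) (l := 1) rfl N28940 D102316
theorem N54600 : nd 54600 = n102317 := ndS (p := 28940) (l := 5) rfl N28940 D102317
theorem N54601 : nd 54601 = n102318 := ndS (p := 28940) (l := 7) rfl N28940 D102318
theorem N54602 : nd 54602 = n102322 := ndS (p := 28942) (l := 0) rfl N28942 D102322
theorem N54603 : nd 54603 = n102323 := ndS (p := 28942) (l := 1) rfl N28942 D102323
theorem N54604 : nd 54604 = n102324 := ndS (p := 28942) (l := 4) rfl N28942 D102324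
theorem N54605 : nd 54605 = n102325 := ndS (p := 28942) (l := 6) rfl N28942 D102325
theorem N54606 : nd 54606 = n102328 := ndS (p := 28943) (l := 3) rfl N28943 D102328
theorem N54607 : nd 54607 = n102330 := ndS (p := 28943) (l := 6) rfl N28943 D102330
theorem N54608 : nd 54608 = n102331 := ndS (p := 28944) (l := 0) rfl N28944 D102331
theorem N54609 : nd 54609 = n102332 := ndS (p := 28944) (l := 1) rfl N28944 D102332
theorem N54610 : nd 54610 = n102333 := ndS (p := 28944) (l := 7) rfl N28944 D102333
theorem N54611 : nd 54611 = n102337 := ndS (p := 28945) (l := 4) rfl N28945 D102337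
theorem N54612 : nd 54612 = n102338 := ndS (p := 28945) (l := 6) rfl N28945 D102338
theorem N54613 : nd 54613 = n102339 := ndS (p := 28946) (l := 0) rfl N28946 D102339
theorem N54614 : nd 54614 = n102343 := ndS (p := 28947) (l := 0) rfl N28947 D102343
theorem N54615 : nd 54615 = n102344 := ndS (p := 28947) (l := 1) rfl N28947 D102344
theorem N54616 : nd 54616 = n102350 := ndS (p := 28948) (l := 6) rfl N28948 D102350
theorem N54617 : nd 54617 = n102351 := ndS (p := 28949) (l := 3) rfl N28949 D102351
theorem N54618 : nd 54618 = n102352 := ndS (p := 28949) (l := 5) rfl N28949 D102352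
theorem N54619 : nd 54619 = n102353 := ndS (p := 28949) (l := 6) rfl N28949 D102353
theorem N54620 : nd 54620 = n102354 := ndS (p := 28950) (l := 0) rfl N28950 D102354
theorem N54621 : nd 54621 = n102355 := ndS (p := 28950) (l := 1) rfl N28950 D102355
theorem N54622 : nd 54622 = n102356 := ndS (p := 28950) (l := 7) rfl N28950 D102356
theorem N54623 : nd 54623 = n102357 := ndS (p := 28951) (l := 3) rfl N28951 D102357
theorem N54624 : nd 54624 = n102359 := ndS (p := 28951) (l := 6) rfl N28951 D102359
theorem N54625 : nd 54625 = n102360 := ndS (p := 28952) (l := 3) rfl N28952 D102360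
theorem N54626 : nd 54626 = n102361 := ndS (p := 28952) (l := 5) rfl N28952 D102361
theorem N54627 : nd 54627 = n102362 := ndS (p := 28952) (l := 6) rfl N28952 D102362
theorem N54628 : nd 54628 = n102363 := ndS (p := 28953) (l := 0) rfl N28953 D102363
theorem N54629 : nd 54629 = n102364 := ndS (p := 28953) (l := 1) rfl N28953 D102364
theorem N54630 : nd 54630 = n102365 := ndS (p := 28953) (l := 2) rfl N28953 D102365
theorem N54631 : nd 54631 = n102366 := ndS (p := 28953) (l := 5) rfl N28953 D102366
theorem N54632 : nd 54632 = n102369 := ndS (p := 28954) (l := 6) rfl N28954 D102369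
theorem N54633 : nd 54633 = n102370 := ndS (p := 28955) (l := 3) rfl N28955 D102370
theorem N54634 : nd 54634 = n102371 := ndS (p := 28955) (l := 5) rfl N28955 D102371
theorem N54635 : nd 54635 = n102375 := ndS (p := 28956) (l := 5) rfl N28956 D102375
theorem N54636 : nd 54636 = n102376 := ndS (p := 28956) (l := 6) rfl N28956 D102376
theorem N54637 : nd 54637 = n102377 := ndS (p := 28957) (l := 0) rfl N28957 D102377
theorem N54638 : nd 54638 = n102378 := ndS (p := 28957) (l := 1) rfl N28957 D102378
theorem N54639 : nd 54639 = n102379 := ndS (p := 28957) (l := 4) rfl N28957 D102379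
theorem N54640 : nd 54640 = n102381 := ndS (p := 28958) (l := 0) rfl N28958 D102381
theorem N54641 : nd 54641 = n102382 := ndS (p := 28958) (l := 1) rfl N28958 D102382
theorem N54642 : nd 54642 = n102383 := ndS (p := 28959) (l := 3) rfl N28959 D102383
theorem N54643 : nd 54643 = n102384 := ndS (p := 28959) (l := 4) rfl N28959 D102384
theorem N54644 : nd 54644 = n102385 := ndS (p := 28959) (l := 6) rfl N28959 D102385
theorem N54645 : nd 54645 = n102391 := ndS (p := 28961) (l := 0) rfl N28961 D102391
theorem N54646 : nd 54646 = n102393 := ndS (p := 28961) (l := 2) rfl N28961 D102393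
theorem N54647 : nd 54647 = n102394 := ndS (p := 28961) (l := 5) rfl N28961 D102394
theorem N54648 : nd 54648 = n102395 := ndS (p := 28962) (l := 4) rfl N28962 D102395
theorem N54649 : nd 54649 = n102396 := ndS (p := 28962) (l := 6) rfl N28962 D102396
theorem N54650 : nd 54650 = n102397 := ndS (p := 28963) (l := 5) rfl N28963 D102397
theorem N54651 : nd 54651 = n102399 := ndS (p := 28964) (l := 5) rfl N28964 D102399
theorem N54652 : nd 54652 = n102401 := ndS (p := 28965) (l := 5) rfl N28965 D102401
theorem N54653 : nd 54653 = n102402 := ndS (p := 28966) (l := 0) rfl N28966 D102402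
theorem N54654 : nd 54654 = n102403 := ndS (p := 28966) (l := 1) rfl N28966 D102403
theorem N54655 : nd 54655 = n102404 := ndS (p := 28966) (l := 4) rfl N28966 D102404
theorem N54656 : nd 54656 = n102405 := ndS (p := 28966) (l := 6) rfl N28966 D102405
theorem N54657 : nd 54657 = n102408 := ndS (p := 28968) (l := 0) rfl N28968 D102408
theorem N54658 : nd 54658 = n102409 := ndS (p := 28968) (l := 1) rfl N28968 D102409
theorem N54659 : nd 54659 = n102410 := ndS (p := 28968) (l := 7) rfl N28968 D102410
theorem N54660 : nd 54660 = n102416 := ndS (p := 28970) (l := 3) rfl N28970 D102416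
theorem N54661 : nd 54661 = n102417 := ndS (p := 28970) (l := 5) rfl N28970 D102417
theorem N54662 : nd 54662 = n102421 := ndS (p := 28971) (l := 4) rfl N28971 D102421
theorem N54663 : nd 54663 = n102438 := ndS (p := 28972) (l := 4) rfl N28972 D102438
theorem N54664 : nd 54664 = n102439 := ndS (p := 28972) (l := 6) rfl N28972 D102439
theorem N54665 : nd 54665 = n102440 := ndS (p := 28973) (l := 5) rfl N28973 D102440
theorem N54666 : nd 54666 = n102443 := ndS (p := 28974) (l := 4) rfl N28974 D102443
theorem N54667 : nd 54667 = n102445 := ndS (p := 28974) (l := 6) rfl N28974 D102445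
theorem N54668 : nd 54668 = n102447 := ndS (p := 28975) (l := 3) rfl N28975 D102447
theorem N54669 : nd 54669 = n102448 := ndS (p := 28975) (l := 4) rfl N28975 D102448
theorem N54670 : nd 54670 = n102449 := ndS (p := 28975) (l := 5) rfl N28975 D102449
theorem N54671 : nd 54671 = n102450 := ndS (p := 28975) (l := 6) rfl N28975 D102450
theorem N54672 : nd 54672 = n102451 := ndS (p := 28976) (l := 0) rfl N28976 D102451
theorem N54673 : nd 54673 = n102452 := ndS (p := 28976) (l := 1) rfl N28976 D102452
theorem N54674 : nd 54674 = n102453 := ndS (p := 28976) (l := 3) rfl N28976 D102453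
theorem N54675 : nd 54675 = n102454 := ndS (p := 28976) (l := 5) rfl N28976 D102454
theorem N54676 : nd 54676 = n102455 := ndS (p := 28976) (l := 6) rfl N28976 D102455
theorem N54677 : nd 54677 = n102456 := ndS (p := 28977) (l := 0) rfl N28977 D102456
theorem N54678 : nd 54678 = n102457 := ndS (p := 28977) (l := 1) rfl N28977 D102457
theorem N54679 : nd 54679 = n102458 := ndS (p := 28977) (l := 5) rfl N28977 D102458
theorem N54680 : nd 54680 = n102459 := ndS (p := 28977) (l := 7) rfl N28977 D102459
theorem N54681 : nd 54681 = n102461 := ndS (p := 28978) (l := 3) rfl N28978 D102461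
theorem N54682 : nd 54682 = n102466 := ndS (p := 28979) (l := 3) rfl N28979 D102466
theorem N54683 : nd 54683 = n102471 := ndS (p := 28980) (l := 1) rfl N28980 D102471
theorem N54684 : nd 54684 = n102472 := ndS (p := 28980) (l := 4) rfl N28980 D102472
theorem N54685 : nd 54685 = n102474 := ndS (p := 28981) (l := 2) rfl N28981 D102474
theorem N54686 : nd 54686 = n102475 := ndS (p := 28981) (l := 4) rfl N28981 D102475
theorem N54687 : nd 54687 = n102476 := ndS (p := 28981) (l := 6) rfl N28981 D102476
theorem N54688 : nd 54688 = n102477 := ndS (p := 28982) (l := 3) rfl N28982 D102477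
theorem N54689 : nd 54689 = n102478 := ndS (p := 28982) (l := 6) rfl N28982 D102478
theorem N54690 : nd 54690 = n102479 := ndS (p := 28983) (l := 0) rfl N28983 D102479
theorem N54691 : nd 54691 = n102480 := ndS (p := 28983) (l := 1) rfl N28983 D102480
theorem N54692 : nd 54692 = n102481 := ndS (p := 28983) (l := 7) rfl N28983 D102481
theorem N54693 : nd 54693 = n102484 := ndS (p := 28984) (l := 2) rfl N28984 D102484
theorem N54694 : nd 54694 = n102485 := ndS (p := 28984) (l := 4) rfl N28984 D102485
theorem N54695 : nd 54695 = n102486 := ndS (p := 28984) (l := 5) rfl N28984 D102486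
theorem N54696 : nd 54696 = n102487 := ndS (p := 28984) (l := 6) rfl N28984 D102487
theorem N54697 : nd 54697 = n102488 := ndS (p := 28985) (l := 3) rfl N28985 D102488
theorem N54698 : nd 54698 = n102489 := ndS (p := 28985) (l := 6) rfl N28985 D102489
theorem N54699 : nd 54699 = n102490 := ndS (p := 28987) (l := 0) rfl N28987 D102490
theorem N54700 : nd 54700 = n102491 := ndS (p := 28987) (l := 1) rfl N28987 D102491
theorem N54701 : nd 54701 = n102492 := ndS (p := 28987) (l := 7) rfl N28987 D102492
theorem N54702 : nd 54702 = n102493 := ndS (p := 28988) (l := 0) rfl N28988 D102493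
theorem N54703 : nd 54703 = n102494 := ndS (p := 28988) (l := 1) rfl N28988 D102494
theorem N54704 : nd 54704 = n102495 := ndS (p := 28988) (l := 2) rfl N28988 D102495
theorem N54705 : nd 54705 = n102496 := ndS (p := 28988) (l := 6) rfl N28988 D102496
theorem N54706 : nd 54706 = n102500 := ndS (p := 28989) (l := 7) rfl N28989 D102500
theorem N54707 : nd 54707 = n102502 := ndS (p := 28990) (l := 3) rfl N28990 D102502
theorem N54708 : nd 54708 = n102503 := ndS (p := 28990) (l := 4) rfl N28990 D102503
theorem N54709 : nd 54709 = n102504 := ndS (p := 28990) (l := 5) rfl N28990 D102504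
theorem N54710 : nd 54710 = n102505 := ndS (p := 28990) (l := 6) rfl N28990 D102505
theorem N54711 : nd 54711 = n102507 := ndS (p := 28991) (l := 3) rfl N28991 D102507
theorem N54712 : nd 54712 = n102509 := ndS (p := 28991) (l := 5) rfl N28991 D102509
theorem N54713 : nd 54713 = n102510 := ndS (p := 28991) (l := 6) rfl N28991 D102510
theorem N54714 : nd 54714 = n102511 := ndS (p := 28992) (l := 0) rfl N28992 D102511
theorem N54715 : nd 54715 = n102512 := ndS (p := 28992) (l := 1) rfl N28992 D102512
theorem N54716 : nd 54716 = n102513 := ndS (p := 28992) (l := 4) rfl N28992 D102513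
theorem N54717 : nd 54717 = n102514 := ndS (p := 28992) (l := 7) rfl N28992 D102514
theorem N54718 : nd 54718 = n102517 := ndS (p := 28995) (l := 3) rfl N28995 D102517
theorem N54719 : nd 54719 = n102518 := ndS (p := 28995) (l := 6) rfl N28995 D102518
theorem N54720 : nd 54720 = n102519 := ndS (p := 28996) (l := 3) rfl N28996 D102519
theorem N54721 : nd 54721 = n102521 := ndS (p := 28997) (l := 1) rfl N28997 D102521
theorem N54722 : nd 54722 = n102523 := ndS (p := 28997) (l := 5) rfl N28997 D102523
theorem N54723 : nd 54723 = n102526 := ndS (p := 28999) (l := 6) rfl N28999 D102526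
theorem N54724 : nd 54724 = n102527 := ndS (p := 29000) (l := 0) rfl N29000 D102527
theorem N54725 : nd 54725 = n102528 := ndS (p := 29000) (l := 1) rfl N29000 D102528
theorem N54726 : nd 54726 = n102529 := ndS (p := 29000) (l := 2) rfl N29000 D102529
theorem N54727 : nd 54727 = n102530 := ndS (p := 29000) (l := 5) rfl N29000 D102530
theorem N54728 : nd 54728 = n102532 := ndS (p := 29001) (l := 6) rfl N29001 D102532
theorem N54729 : nd 54729 = n102534 := ndS (p := 29002) (l := 1) rfl N29002 D102534
theorem N54730 : nd 54730 = n102535 := ndS (p := 29002) (l := 2) rfl N29002 D102535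
theorem N54731 : nd 54731 = n102536 := ndS (p := 29002) (l := 5) rfl N29002 D102536
theorem N54732 : nd 54732 = n102537 := ndS (p := 29003) (l := 6) rfl N29003 D102537
theorem N54733 : nd 54733 = n102541 := ndS (p := 29004) (l := 5) rfl N29004 D102541
theorem N54734 : nd 54734 = n102544 := ndS (p := 29005) (l := 3) rfl N29005 D102544
theorem N54735 : nd 54735 = n102546 := ndS (p := 29005) (l := 5) rfl N29005 D102546
theorem N54736 : nd 54736 = n102549 := ndS (p := 29006) (l := 6) rfl N29006 D102549
theorem N54737 : nd 54737 = n102556 := ndS (p := 29009) (l := 0) rfl N29009 D102556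
theorem N54738 : nd 54738 = n102557 := ndS (p := 29009) (l := 1) rfl N29009 D102557
theorem N54739 : nd 54739 = n102562 := ndS (p := 29011) (l := 5) rfl N29011 D102562
theorem N54740 : nd 54740 = n102564 := ndS (p := 29012) (l := 5) rfl N29012 D102564
theorem N54741 : nd 54741 = n102565 := ndS (p := 29012) (l := 6) rfl N29012 D102565
theorem N54742 : nd 54742 = n102566 := ndS (p := 29013) (l := 0) rfl N29013 D102566
theorem N54743 : nd 54743 = n102567 := ndS (p := 29013) (l := 1) rfl N29013 D102567
theorem N54744 : nd 54744 = n102568 := ndS (p := 29013) (l := 4) rfl N29013 D102568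
theorem N54745 : nd 54745 = n102569 := ndS (p := 29013) (l := 6) rfl N29013 D102569
theorem N54746 : nd 54746 = n102570 := ndS (p := 29014) (l := 0) rfl N29014 D102570
theorem N54747 : nd 54747 = n102571 := ndS (p := 29014) (l := 1) rfl N29014 D102571
theorem N54748 : nd 54748 = n102572 := ndS (p := 29015) (l := 3) rfl N29015 D102572
theorem N54749 : nd 54749 = n102573 := ndS (p := 29015) (l := 6) rfl N29015 D102573
theorem N54750 : nd 54750 = n102574 := ndS (p := 29016) (l := 3) rfl N29016 D102574
theorem N54751 : nd 54751 = n102575 := ndS (p := 29016) (l := 6) rfl N29016 D102575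
theorem N54752 : nd 54752 = n102576 := ndS (p := 29017) (l := 3) rfl N29017 D102576
theorem N54753 : nd 54753 = n102577 := ndS (p := 29017) (l := 6) rfl N29017 D102577
theorem N54754 : nd 54754 = n102578 := ndS (p := 29018) (l := 0) rfl N29018 D102578
theorem N54755 : nd 54755 = n102579 := ndS (p := 29018) (l := 7) rfl N29018 D102579
theorem N54756 : nd 54756 = n102580 := ndS (p := 29020) (l := 0) rfl N29020 D102580
theorem N54757 : nd 54757 = n102581 := ndS (p := 29020) (l := 1) rfl N29020 D102581
theorem N54758 : nd 54758 = n102582 := ndS (p := 29020) (l := 2) rfl N29020 D102582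
theorem N54759 : nd 54759 = n102584 := ndS (p := 29021) (l := 4) rfl N29021 D102584
theorem N54760 : nd 54760 = n102585 := ndS (p := 29021) (l := 6) rfl N29021 D102585
theorem N54761 : nd 54761 = n102586 := ndS (p := 29022) (l := 4) rfl N29022 D102586
theorem N54762 : nd 54762 = n102587 := ndS (p := 29022) (l := 6) rfl N29022 D102587
theorem N54763 : nd 54763 = n102589 := ndS (p := 29023) (l := 5) rfl N29023 D102589
theorem N54764 : nd 54764 = n102592 := ndS (p := 29024) (l := 4) rfl N29024 D102592
theorem N54765 : nd 54765 = n102593 := ndS (p := 29024) (l := 5) rfl N29024 D102593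
theorem N54766 : nd 54766 = n102594 := ndS (p := 29024) (l := 6) rfl N29024 D102594
theorem N54767 : nd 54767 = n102595 := ndS (p := 29025) (l := 4) rfl N29025 D102595
theorem N54768 : nd 54768 = n102596 := ndS (p := 29025) (l := 6) rfl N29025 D102596
theorem N54769 : nd 54769 = n102597 := ndS (p := 29026) (l := 0) rfl N29026 D102597
theorem N54770 : nd 54770 = n102598 := ndS (p := 29026) (l := 1) rfl N29026 D102598
theorem N54771 : nd 54771 = n102599 := ndS (p := 29026) (l := 3) rfl N29026 D102599
theorem N54772 : nd 54772 = n102600 := ndS (p := 29026) (l := 5) rfl N29026 D102600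
theorem N54773 : nd 54773 = n102602 := ndS (p := 29027) (l := 0) rfl N29027 D102602
theorem N54774 : nd 54774 = n102603 := ndS (p := 29027) (l := 1) rfl N29027 D102603
theorem N54775 : nd 54775 = n102604 := ndS (p := 29027) (l := 5) rfl N29027 D102604
theorem N54776 : nd 54776 = n102605 := ndS (p := 29027) (l := 7) rfl N29027 D102605
theorem N54777 : nd 54777 = n102609 := ndS (p := 29029) (l := 0) rfl N29029 D102609
theorem N54778 : nd 54778 = n102610 := ndS (p := 29029) (l := 4) rfl N29029 D102610
theorem N54779 : nd 54779 = n102611 := ndS (p := 29029) (l := 7) rfl N29029 D102611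
theorem N54780 : nd 54780 = n102612 := ndS (p := 29031) (l := 0) rfl N29031 D102612
theorem N54781 : nd 54781 = n102613 := ndS (p := 29031) (l := 1) rfl N29031 D102613
theorem N54782 : nd 54782 = n102614 := ndS (p := 29031) (l := 2) rfl N29031 D102614
theorem N54783 : nd 54783 = n102615 := ndS (p := 29031) (l := 6) rfl N29031 D102615
theorem N54784 : nd 54784 = n102618 := ndS (p := 29032) (l := 5) rfl N29032 D102618
theorem N54785 : nd 54785 = n102619 := ndS (p := 29032) (l := 7) rfl N29032 D102619
theorem N54786 : nd 54786 = n102622 := ndS (p := 29033) (l := 4) rfl N29033 D102622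
theorem N54787 : nd 54787 = n102623 := ndS (p := 29033) (l := 5) rfl N29033 D102623
theorem N54788 : nd 54788 = n102624 := ndS (p := 29033) (l := 6) rfl N29033 D102624
theorem N54789 : nd 54789 = n102626 := ndS (p := 29034) (l := 3) rfl N29034 D102626
theorem N54790 : nd 54790 = n102627 := ndS (p := 29034) (l := 4) rfl N29034 D102627
theorem N54791 : nd 54791 = n102628 := ndS (p := 29034) (l := 6) rfl N29034 D102628
theorem N54792 : nd 54792 = n102629 := ndS (p := 29035) (l := 0) rfl N29035 D102629
theorem N54793 : nd 54793 = n102630 := ndS (p := 29035) (l := 1) rfl N29035 D102630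
theorem N54794 : nd 54794 = n102631 := ndS (p := 29035) (l := 4) rfl N29035 D102631
theorem N54795 : nd 54795 = n102632 := ndS (p := 29035) (l := 7) rfl N29035 D102632
theorem N54796 : nd 54796 = n102635 := ndS (p := 29037) (l := 3) rfl N29037 D102635
theorem N54797 : nd 54797 = n102636 := ndS (p := 29038) (l := 6) rfl N29038 D102636
theorem N54798 : nd 54798 = n102637 := ndS (p := 29039) (l := 3) rfl N29039 D102637
theorem N54799 : nd 54799 = n102638 := ndS (p := 29039) (l := 4) rfl N29039 D102638
theorem N54800 : nd 54800 = n102639 := ndS (p := 29039) (l := 5) rfl N29039 D102639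
theorem N54801 : nd 54801 = n102641 := ndS (p := 29040) (l := 5) rfl N29040 D102641
theorem N54802 : nd 54802 = n102644 := ndS (p := 29043) (l := 0) rfl N29043 D102644
theorem N54803 : nd 54803 = n102645 := ndS (p := 29043) (l := 1) rfl N29043 D102645
theorem N54804 : nd 54804 = n102662 := ndS (p := 29044) (l := 0) rfl N29044 D102662
theorem N54805 : nd 54805 = n102663 := ndS (p := 29044) (l := 1) rfl N29044 D102663
theorem N54806 : nd 54806 = n102664 := ndS (p := 29044) (l := 4) rfl N29044 D102664
theorem N54807 : nd 54807 = n102665 := ndS (p := 29044) (l := 6) rfl N29044 D102665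
theorem N54808 : nd 54808 = n102666 := ndS (p := 29045) (l := 5) rfl N29045 D102666
theorem N54809 : nd 54809 = n102667 := ndS (p := 29046) (l := 3) rfl N29046 D102667
theorem N54810 : nd 54810 = n102668 := ndS (p := 29046) (l := 4) rfl N29046 D102668
theorem N54811 : nd 54811 = n102669 := ndS (p := 29046) (l := 6) rfl N29046 D102669
theorem N54812 : nd 54812 = n102670 := ndS (p := 29047) (l := 3) rfl N29047 D102670
theorem N54813 : nd 54813 = n102671 := ndS (p := 29047) (l := 4) rfl N29047 D102671
theorem N54814 : nd 54814 = n102672 := ndS (p := 29048) (l := 3) rfl N29048 D102672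
theorem N54815 : nd 54815 = n102673 := ndS (p := 29048) (l := 6) rfl N29048 D102673
theorem N54816 : nd 54816 = n102674 := ndS (p := 29049) (l := 0) rfl N29049 D102674
theorem N54817 : nd 54817 = n102675 := ndS (p := 29049) (l := 1) rfl N29049 D102675
theorem N54818 : nd 54818 = n102676 := ndS (p := 29049) (l := 5) rfl N29049 D102676
theorem N54819 : nd 54819 = n102677 := ndS (p := 29049) (l := 7) rfl N29049 D102677
theorem N54820 : nd 54820 = n102698 := ndS (p := 29051) (l := 0) rfl N29051 D102698
theorem N54821 : nd 54821 = n102699 := ndS (p := 29051) (l := 1) rfl N29051 D102699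
theorem N54822 : nd 54822 = n102700 := ndS (p := 29051) (l := 4) rfl N29051 D102700
theorem N54823 : nd 54823 = n102701 := ndS (p := 29051) (l := 6) rfl N29051 D102701
theorem N54824 : nd 54824 = n102703 := ndS (p := 29052) (l := 3) rfl N29052 D102703
theorem N54825 : nd 54825 = n102704 := ndS (p := 29052) (l := 6) rfl N29052 D102704
theorem N54826 : nd 54826 = n102705 := ndS (p := 29053) (l := 0) rfl N29053 D102705
theorem N54827 : nd 54827 = n102706 := ndS (p := 29053) (l := 1) rfl N29053 D102706
theorem N54828 : nd 54828 = n102708 := ndS (p := 29053) (l := 7) rfl N29053 D102708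
theorem N54829 : nd 54829 = n102717 := ndS (p := 29054) (l := 3) rfl N29054 D102717
theorem N54830 : nd 54830 = n102725 := ndS (p := 29055) (l := 2) rfl N29055 D102725
theorem N54831 : nd 54831 = n102726 := ndS (p := 29055) (l := 5) rfl N29055 D102726
theorem N54832 : nd 54832 = n102730 := ndS (p := 29056) (l := 6) rfl N29056 D102730
theorem N54833 : nd 54833 = n102742 := ndS (p := 29057) (l := 1) rfl N29057 D102742
theorem N54834 : nd 54834 = n102743 := ndS (p := 29057) (l := 2) rfl N29057 D102743
theorem N54835 : nd 54835 = n102744 := ndS (p := 29057) (l := 5) rfl N29057 D102744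
theorem N54836 : nd 54836 = n102775 := ndS (p := 29059) (l := 3) rfl N29059 D102775
theorem N54837 : nd 54837 = n102776 := ndS (p := 29059) (l := 6) rfl N29059 D102776
theorem N54838 : nd 54838 = n102777 := ndS (p := 29060) (l := 0) rfl N29060 D102777
theorem N54839 : nd 54839 = n102778 := ndS (p := 29060) (l := 1) rfl N29060 D102778
theorem N54840 : nd 54840 = n102779 := ndS (p := 29060) (l := 7) rfl N29060 D102779
theorem N54841 : nd 54841 = n102780 := ndS (p := 29061) (l := 3) rfl N29061 D102780
theorem N54842 : nd 54842 = n102781 := ndS (p := 29062) (l := 1) rfl N29062 D102781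
theorem N54843 : nd 54843 = n102783 := ndS (p := 29063) (l := 0) rfl N29063 D102783
theorem N54844 : nd 54844 = n102784 := ndS (p := 29063) (l := 1) rfl N29063 D102784
theorem N54845 : nd 54845 = n102785 := ndS (p := 29063) (l := 2) rfl N29063 D102785
theorem N54846 : nd 54846 = n102786 := ndS (p := 29063) (l := 6) rfl N29063 D102786
theorem N54847 : nd 54847 = n102787 := ndS (p := 29064) (l := 5) rfl N29064 D102787
theorem N54848 : nd 54848 = n102813 := ndS (p := 29066) (l := 0) rfl N29066 D102813
theorem N54849 : nd 54849 = n102814 := ndS (p := 29066) (l := 1) rfl N29066 D102814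
theorem N54850 : nd 54850 = n102815 := ndS (p := 29066) (l := 2) rfl N29066 D102815
theorem N54851 : nd 54851 = n102818 := ndS (p := 29067) (l := 5) rfl N29067 D102818
theorem N54852 : nd 54852 = n102819 := ndS (p := 29067) (l := 7) rfl N29067 D102819
theorem N54853 : nd 54853 = n102856 := ndS (p := 29071) (l := 3) rfl N29071 D102856
theorem N54854 : nd 54854 = n102857 := ndS (p := 29071) (l := 4) rfl N29071 D102857
theorem N54855 : nd 54855 = n102862 := ndS (p := 29073) (l := 5) rfl N29073 D102862
theorem N54856 : nd 54856 = n102863 := ndS (p := 29073) (l := 6) rfl N29073 D102863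
theorem N54857 : nd 54857 = n102866 := ndS (p := 29074) (l := 4) rfl N29074 D102866
theorem N54858 : nd 54858 = n102867 := ndS (p := 29074) (l := 6) rfl N29074 D102867
theorem N54859 : nd 54859 = n102870 := ndS (p := 29075) (l := 5) rfl N29075 D102870
theorem N54860 : nd 54860 = n102872 := ndS (p := 29076) (l := 0) rfl N29076 D102872
theorem N54861 : nd 54861 = n102873 := ndS (p := 29076) (l := 1) rfl N29076 D102873
theorem N54862 : nd 54862 = n102874 := ndS (p := 29076) (l := 5) rfl N29076 D102874
theorem N54863 : nd 54863 = n102875 := ndS (p := 29076) (l := 7) rfl N29076 D102875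
theorem N54864 : nd 54864 = n102883 := ndS (p := 29077) (l := 4) rfl N29077 D102883
theorem N54865 : nd 54865 = n102893 := ndS (p := 29078) (l := 4) rfl N29078 D102893
theorem N54866 : nd 54866 = n102897 := ndS (p := 29079) (l := 3) rfl N29079 D102897
theorem N54867 : nd 54867 = n102898 := ndS (p := 29079) (l := 4) rfl N29079 D102898
theorem N54868 : nd 54868 = n102901 := ndS (p := 29080) (l := 5) rfl N29080 D102901
theorem N54869 : nd 54869 = n102904 := ndS (p := 29081) (l := 1) rfl N29081 D102904
theorem N54870 : nd 54870 = n102905 := ndS (p := 29081) (l := 4) rfl N29081 D102905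
theorem N54871 : nd 54871 = n102906 := ndS (p := 29081) (l := 6) rfl N29081 D102906
theorem N54872 : nd 54872 = n102911 := ndS (p := 29082) (l := 0) rfl N29082 D102911
theorem N54873 : nd 54873 = n102912 := ndS (p := 29082) (l := 1) rfl N29082 D102912
theorem N54874 : nd 54874 = n102914 := ndS (p := 29082) (l := 7) rfl N29082 D102914
theorem N54875 : nd 54875 = n102918 := ndS (p := 29083) (l := 3) rfl N29083 D102918
theorem N54876 : nd 54876 = n102919 := ndS (p := 29083) (l := 4) rfl N29083 D102919
theorem N54877 : nd 54877 = n102924 := ndS (p := 29084) (l := 4) rfl N29084 D102924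
theorem N54878 : nd 54878 = n102927 := ndS (p := 29085) (l := 5) rfl N29085 D102927
theorem N54879 : nd 54879 = n102928 := ndS (p := 29085) (l := 6) rfl N29085 D102928
theorem N54880 : nd 54880 = n102929 := ndS (p := 29086) (l := 0) rfl N29086 D102929
theorem N54881 : nd 54881 = n102931 := ndS (p := 29086) (l := 4) rfl N29086 D102931
theorem N54882 : nd 54882 = n102937 := ndS (p := 29088) (l := 0) rfl N29088 D102937
theorem N54883 : nd 54883 = n102938 := ndS (p := 29088) (l := 1) rfl N29088 D102938
theorem N54884 : nd 54884 = n102940 := ndS (p := 29088) (l := 7) rfl N29088 D102940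
theorem N54885 : nd 54885 = n102943 := ndS (p := 29089) (l := 4) rfl N29089 D102943
theorem N54886 : nd 54886 = n102956 := ndS (p := 29090) (l := 0) rfl N29090 D102956
theorem N54887 : nd 54887 = n102957 := ndS (p := 29090) (l := 2) rfl N29090 D102957
theorem N54888 : nd 54888 = n102966 := ndS (p := 29091) (l := 4) rfl N29091 D102966
theorem N54889 : nd 54889 = n102967 := ndS (p := 29091) (l := 6) rfl N29091 D102967
theorem N54890 : nd 54890 = n102976 := ndS (p := 29092) (l := 3) rfl N29092 D102976
theorem N54891 : nd 54891 = n102977 := ndS (p := 29092) (l := 6) rfl N29092 D102977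
theorem N54892 : nd 54892 = n102978 := ndS (p := 29093) (l := 0) rfl N29093 D102978
theorem N54893 : nd 54893 = n102979 := ndS (p := 29093) (l := 1) rfl N29093 D102979
theorem N54894 : nd 54894 = n102980 := ndS (p := 29093) (l := 7) rfl N29093 D102980
theorem N54895 : nd 54895 = n102999 := ndS (p := 29094) (l := 0) rfl N29094 D102999
theorem N54896 : nd 54896 = n103000 := ndS (p := 29094) (l := 1) rfl N29094 D103000
theorem N54897 : nd 54897 = n103001 := ndS (p := 29094) (l := 2) rfl N29094 D103001
theorem N54898 : nd 54898 = n103002 := ndS (p := 29094) (l := 6) rfl N29094 D103002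
theorem N54899 : nd 54899 = n103004 := ndS (p := 29095) (l := 1) rfl N29095 D103004
theorem N54900 : nd 54900 = n103006 := ndS (p := 29095) (l := 7) rfl N29095 D103006
theorem N54901 : nd 54901 = n103008 := ndS (p := 29096) (l := 3) rfl N29096 D103008
theorem N54902 : nd 54902 = n103009 := ndS (p := 29096) (l := 4) rfl N29096 D103009
theorem N54903 : nd 54903 = n103010 := ndS (p := 29096) (l := 5) rfl N29096 D103010
theorem N54904 : nd 54904 = n103013 := ndS (p := 29097) (l := 3) rfl N29097 D103013
theorem N54905 : nd 54905 = n103014 := ndS (p := 29097) (l := 4) rfl N29097 D103014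
theorem N54906 : nd 54906 = n103015 := ndS (p := 29097) (l := 5) rfl N29097 D103015
theorem N54907 : nd 54907 = n103016 := ndS (p := 29097) (l := 6) rfl N29097 D103016
theorem N54908 : nd 54908 = n103017 := ndS (p := 29099) (l := 6) rfl N29099 D103017
theorem N54909 : nd 54909 = n103020 := ndS (p := 29100) (l := 5) rfl N29100 D103020
theorem N54910 : nd 54910 = n103022 := ndS (p := 29101) (l := 4) rfl N29101 D103022
theorem N54911 : nd 54911 = n103023 := ndS (p := 29101) (l := 5) rfl N29101 D103023
theorem N54912 : nd 54912 = n103025 := ndS (p := 29102) (l := 4) rfl N29102 D103025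
theorem N54913 : nd 54913 = n103026 := ndS (p := 29102) (l := 5) rfl N29102 D103026
theorem N54914 : nd 54914 = n103027 := ndS (p := 29102) (l := 6) rfl N29102 D103027
theorem N54915 : nd 54915 = n103028 := ndS (p := 29103) (l := 0) rfl N29103 D103028
theorem N54916 : nd 54916 = n103029 := ndS (p := 29103) (l := 1) rfl N29103 D103029
theorem N54917 : nd 54917 = n103030 := ndS (p := 29103) (l := 4) rfl N29103 D103030
theorem N54918 : nd 54918 = n103031 := ndS (p := 29103) (l := 7) rfl N29103 D103031
theorem N54919 : nd 54919 = n103035 := ndS (p := 29105) (l := 5) rfl N29105 D103035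
theorem N54920 : nd 54920 = n103039 := ndS (p := 29106) (l := 5) rfl N29106 D103039
theorem N54921 : nd 54921 = n103042 := ndS (p := 29107) (l := 4) rfl N29107 D103042
theorem N54922 : nd 54922 = n103043 := ndS (p := 29107) (l := 7) rfl N29107 D103043
theorem N54923 : nd 54923 = n103044 := ndS (p := 29109) (l := 4) rfl N29109 D103044
theorem N54924 : nd 54924 = n103045 := ndS (p := 29109) (l := 6) rfl N29109 D103045
theorem N54925 : nd 54925 = n103046 := ndS (p := 29111) (l := 3) rfl N29111 D103046
theorem N54926 : nd 54926 = n103048 := ndS (p := 29111) (l := 6) rfl N29111 D103048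
theorem N54927 : nd 54927 = n103049 := ndS (p := 29112) (l := 0) rfl N29112 D103049
theorem N54928 : nd 54928 = n103050 := ndS (p := 29112) (l := 3) rfl N29112 D103050
theorem N54929 : nd 54929 = n103053 := ndS (p := 29113) (l := 6) rfl N29113 D103053
theorem N54930 : nd 54930 = n103054 := ndS (p := 29114) (l := 5) rfl N29114 D103054
theorem N54931 : nd 54931 = n103056 := ndS (p := 29115) (l := 4) rfl N29115 D103056
theorem N54932 : nd 54932 = n103057 := ndS (p := 29115) (l := 6) rfl N29115 D103057
theorem N54933 : nd 54933 = n103061 := ndS (p := 29116) (l := 4) rfl N29116 D103061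
theorem N54934 : nd 54934 = n103062 := ndS (p := 29116) (l := 6) rfl N29116 D103062
theorem N54935 : nd 54935 = n103063 := ndS (p := 29118) (l := 3) rfl N29118 D103063
theorem N54936 : nd 54936 = n103064 := ndS (p := 29118) (l := 5) rfl N29118 D103064
theorem N54937 : nd 54937 = n103078 := ndS (p := 29119) (l := 6) rfl N29119 D103078
theorem N54938 : nd 54938 = n103081 := ndS (p := 29120) (l := 5) rfl N29120 D103081
theorem N54939 : nd 54939 = n103083 := ndS (p := 29121) (l := 5) rfl N29121 D103083
theorem N54940 : nd 54940 = n103084 := ndS (p := 29122) (l := 0) rfl N29122 D103084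
theorem N54941 : nd 54941 = n103085 := ndS (p := 29122) (l := 1) rfl N29122 D103085
theorem N54942 : nd 54942 = n103087 := ndS (p := 29122) (l := 7) rfl N29122 D103087
theorem N54943 : nd 54943 = n103089 := ndS (p := 29123) (l := 4) rfl N29123 D103089
theorem N54944 : nd 54944 = n103090 := ndS (p := 29123) (l := 5) rfl N29123 D103090
theorem N54945 : nd 54945 = n103091 := ndS (p := 29123) (l := 6) rfl N29123 D103091
theorem N54946 : nd 54946 = n103094 := ndS (p := 29124) (l := 5) rfl N29124 D103094
theorem N54947 : nd 54947 = n103097 := ndS (p := 29125) (l := 1) rfl N29125 D103097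
theorem N54948 : nd 54948 = n103100 := ndS (p := 29127) (l := 3) rfl N29127 D103100
theorem N54949 : nd 54949 = n103101 := ndS (p := 29127) (l := 6) rfl N29127 D103101
theorem N54950 : nd 54950 = n103104 := ndS (p := 29128) (l := 7) rfl N29128 D103104
theorem N54951 : nd 54951 = n103105 := ndS (p := 29129) (l := 6) rfl N29129 D103105
theorem N54952 : nd 54952 = n103111 := ndS (p := 29132) (l := 5) rfl N29132 D103111
theorem N54953 : nd 54953 = n103114 := ndS (p := 29133) (l := 5) rfl N29133 D103114
theorem N54954 : nd 54954 = n103115 := ndS (p := 29133) (l := 6) rfl N29133 D103115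
theorem N54955 : nd 54955 = n103117 := ndS (p := 29134) (l := 5) rfl N29134 D103117
theorem N54956 : nd 54956 = n103119 := ndS (p := 29135) (l := 0) rfl N29135 D103119
theorem N54957 : nd 54957 = n103120 := ndS (p := 29135) (l := 1) rfl N29135 D103120
theorem N54958 : nd 54958 = n103121 := ndS (p := 29135) (l := 4) rfl N29135 D103121
theorem N54959 : nd 54959 = n103122 := ndS (p := 29136) (l := 3) rfl N29136 D103122
theorem N54960 : nd 54960 = n103123 := ndS (p := 29136) (l := 6) rfl N29136 D103123
theorem N54961 : nd 54961 = n103124 := ndS (p := 29137) (l := 3) rfl N29137 D103124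
theorem N54962 : nd 54962 = n103125 := ndS (p := 29138) (l := 3) rfl N29138 D103125
theorem N54963 : nd 54963 = n103127 := ndS (p := 29139) (l := 3) rfl N29139 D103127
theorem N54964 : nd 54964 = n103131 := ndS (p := 29140) (l := 5) rfl N29140 D103131
theorem N54965 : nd 54965 = n103134 := ndS (p := 29141) (l := 3) rfl N29141 D103134
theorem N54966 : nd 54966 = n103136 := ndS (p := 29141) (l := 5) rfl N29141 D103136
theorem N54967 : nd 54967 = n103143 := ndS (p := 29142) (l := 0) rfl N29142 D103143
theorem N54968 : nd 54968 = n103144 := ndS (p := 29142) (l := 1) rfl N29142 D103144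
theorem N54969 : nd 54969 = n103145 := ndS (p := 29142) (l := 4) rfl N29142 D103145
theorem N54970 : nd 54970 = n103146 := ndS (p := 29142) (l := 7) rfl N29142 D103146
theorem N54971 : nd 54971 = n103153 := ndS (p := 29144) (l := 0) rfl N29144 D103153
theorem N54972 : nd 54972 = n103155 := ndS (p := 29144) (l := 2) rfl N29144 D103155
theorem N54973 : nd 54973 = n103156 := ndS (p := 29144) (l := 4) rfl N29144 D103156
theorem N54974 : nd 54974 = n103157 := ndS (p := 29144) (l := 5) rfl N29144 D103157
theorem N54975 : nd 54975 = n103158 := ndS (p := 29144) (l := 6) rfl N29144 D103158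
theorem N54976 : nd 54976 = n103166 := ndS (p := 29146) (l := 0) rfl N29146 D103166
theorem N54977 : nd 54977 = n103167 := ndS (p := 29146) (l := 1) rfl N29146 D103167
theorem N54978 : nd 54978 = n103168 := ndS (p := 29146) (l := 4) rfl N29146 D103168
theorem N54979 : nd 54979 = n103169 := ndS (p := 29146) (l := 6) rfl N29146 D103169
theorem N54980 : nd 54980 = n103172 := ndS (p := 29147) (l := 1) rfl N29147 D103172
theorem N54981 : nd 54981 = n103179 := ndS (p := 29148) (l := 5) rfl N29148 D103179
theorem N54982 : nd 54982 = n103184 := ndS (p := 29149) (l := 4) rfl N29149 D103184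
theorem N54983 : nd 54983 = n103185 := ndS (p := 29149) (l := 6) rfl N29149 D103185
theorem N54984 : nd 54984 = n103191 := ndS (p := 29150) (l := 3) rfl N29150 D103191
theorem N54985 : nd 54985 = n103192 := ndS (p := 29150) (l := 4) rfl N29150 D103192
theorem N54986 : nd 54986 = n103194 := ndS (p := 29150) (l := 6) rfl N29150 D103194
theorem N54987 : nd 54987 = n103197 := ndS (p := 29151) (l := 4) rfl N29151 D103197
theorem N54988 : nd 54988 = n103198 := ndS (p := 29151) (l := 6) rfl N29151 D103198
theorem N54989 : nd 54989 = n103199 := ndS (p := 29152) (l := 0) rfl N29152 D103199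
theorem N54990 : nd 54990 = n103201 := ndS (p := 29152) (l := 3) rfl N29152 D103201
theorem N54991 : nd 54991 = n103202 := ndS (p := 29152) (l := 5) rfl N29152 D103202
theorem N54992 : nd 54992 = n103203 := ndS (p := 29152) (l := 7) rfl N29152 D103203
theorem N54993 : nd 54993 = n103204 := ndS (p := 29153) (l := 6) rfl N29153 D103204
theorem N54994 : nd 54994 = n103205 := ndS (p := 29154) (l := 4) rfl N29154 D103205
theorem N54995 : nd 54995 = n103206 := ndS (p := 29154) (l := 5) rfl N29154 D103206
theorem N54996 : nd 54996 = n103207 := ndS (p := 29155) (l := 5) rfl N29155 D103207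
theorem N54997 : nd 54997 = n103209 := ndS (p := 29156) (l := 0) rfl N29156 D103209
theorem N54998 : nd 54998 = n103210 := ndS (p := 29156) (l := 1) rfl N29156 D103210
theorem N54999 : nd 54999 = n103211 := ndS (p := 29156) (l := 4) rfl N29156 D103211
theorem N55000 : nd 55000 = n103213 := ndS (p := 29157) (l := 0) rfl N29157 D103213
theorem N55001 : nd 55001 = n103214 := ndS (p := 29157) (l := 1) rfl N29157 D103214
theorem N55002 : nd 55002 = n103215 := ndS (p := 29158) (l := 3) rfl N29158 D103215
theorem N55003 : nd 55003 = n103216 := ndS (p := 29158) (l := 4) rfl N29158 D103216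
theorem N55004 : nd 55004 = n103217 := ndS (p := 29158) (l := 6) rfl N29158 D103217
theorem N55005 : nd 55005 = n103220 := ndS (p := 29159) (l := 0) rfl N29159 D103220
theorem N55006 : nd 55006 = n103222 := ndS (p := 29159) (l := 3) rfl N29159 D103222
theorem N55007 : nd 55007 = n103224 := ndS (p := 29159) (l := 6) rfl N29159 D103224
theorem N55008 : nd 55008 = n103225 := ndS (p := 29160) (l := 0) rfl N29160 D103225
theorem N55009 : nd 55009 = n103226 := ndS (p := 29160) (l := 1) rfl N29160 D103226
theorem N55010 : nd 55010 = n103227 := ndS (p := 29160) (l := 7) rfl N29160 D103227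
theorem N55011 : nd 55011 = n103231 := ndS (p := 29161) (l := 5) rfl N29161 D103231
theorem N55012 : nd 55012 = n103233 := ndS (p := 29162) (l := 5) rfl N29162 D103233
theorem N55013 : nd 55013 = n103234 := ndS (p := 29162) (l := 6) rfl N29162 D103234
theorem N55014 : nd 55014 = n103235 := ndS (p := 29163) (l := 0) rfl N29163 D103235
theorem N55015 : nd 55015 = n103236 := ndS (p := 29163) (l := 1) rfl N29163 D103236
theorem N55016 : nd 55016 = n103237 := ndS (p := 29163) (l := 4) rfl N29163 D103237
theorem N55017 : nd 55017 = n103238 := ndS (p := 29163) (l := 6) rfl N29163 D103238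
theorem N55018 : nd 55018 = n103239 := ndS (p := 29164) (l := 0) rfl N29164 D103239
theorem N55019 : nd 55019 = n103240 := ndS (p := 29164) (l := 1) rfl N29164 D103240
theorem N55020 : nd 55020 = n103241 := ndS (p := 29164) (l := 5) rfl N29164 D103241
theorem N55021 : nd 55021 = n103243 := ndS (p := 29165) (l := 3) rfl N29165 D103243
theorem N55022 : nd 55022 = n103245 := ndS (p := 29165) (l := 6) rfl N29165 D103245
theorem N55023 : nd 55023 = n103246 := ndS (p := 29166) (l := 0) rfl N29166 D103246
theorem N55024 : nd 55024 = n103247 := ndS (p := 29166) (l := 1) rfl N29166 D103247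
theorem N55025 : nd 55025 = n103248 := ndS (p := 29166) (l := 5) rfl N29166 D103248
theorem N55026 : nd 55026 = n103249 := ndS (p := 29166) (l := 7) rfl N29166 D103249
theorem N55027 : nd 55027 = n103252 := ndS (p := 29168) (l := 2) rfl N29168 D103252
theorem N55028 : nd 55028 = n103253 := ndS (p := 29168) (l := 4) rfl N29168 D103253
theorem N55029 : nd 55029 = n103254 := ndS (p := 29168) (l := 6) rfl N29168 D103254
theorem N55030 : nd 55030 = n103255 := ndS (p := 29169) (l := 0) rfl N29169 D103255
theorem N55031 : nd 55031 = n103256 := ndS (p := 29169) (l := 3) rfl N29169 D103256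
theorem N55032 : nd 55032 = n103258 := ndS (p := 29169) (l := 6) rfl N29169 D103258
theorem N55033 : nd 55033 = n103259 := ndS (p := 29170) (l := 0) rfl N29170 D103259
theorem N55034 : nd 55034 = n103260 := ndS (p := 29170) (l := 1) rfl N29170 D103260
theorem N55035 : nd 55035 = n103261 := ndS (p := 29170) (l := 7) rfl N29170 D103261
theorem N55036 : nd 55036 = n103263 := ndS (p := 29171) (l := 2) rfl N29171 D103263
theorem N55037 : nd 55037 = n103264 := ndS (p := 29171) (l := 4) rfl N29171 D103264
theorem N55038 : nd 55038 = n103265 := ndS (p := 29171) (l := 6) rfl N29171 D103265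
theorem N55039 : nd 55039 = n103266 := ndS (p := 29172) (l := 3) rfl N29172 D103266
theorem N55040 : nd 55040 = n103268 := ndS (p := 29172) (l := 6) rfl N29172 D103268
theorem N55041 : nd 55041 = n103269 := ndS (p := 29173) (l := 0) rfl N29173 D103269
theorem N55042 : nd 55042 = n103270 := ndS (p := 29173) (l := 1) rfl N29173 D103270
theorem N55043 : nd 55043 = n103271 := ndS (p := 29173) (l := 7) rfl N29173 D103271
theorem N55044 : nd 55044 = n103274 := ndS (p := 29174) (l := 6) rfl N29174 D103274
theorem N55045 : nd 55045 = n103275 := ndS (p := 29175) (l := 3) rfl N29175 D103275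
theorem N55046 : nd 55046 = n103278 := ndS (p := 29176) (l := 0) rfl N29176 D103278
theorem N55047 : nd 55047 = n103279 := ndS (p := 29176) (l := 1) rfl N29176 D103279
theorem N55048 : nd 55048 = n103280 := ndS (p := 29176) (l := 2) rfl N29176 D103280
theorem N55049 : nd 55049 = n103281 := ndS (p := 29176) (l := 5) rfl N29176 D103281
theorem N55050 : nd 55050 = n103282 := ndS (p := 29176) (l := 7) rfl N29176 D103282
theorem N55051 : nd 55051 = n103286 := ndS (p := 29178) (l := 6) rfl N29178 D103286
theorem N55052 : nd 55052 = n103287 := ndS (p := 29179) (l := 0) rfl N29179 D103287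
theorem N55053 : nd 55053 = n103288 := ndS (p := 29179) (l := 1) rfl N29179 D103288
theorem N55054 : nd 55054 = n103290 := ndS (p := 29180) (l := 0) rfl N29180 D103290
theorem N55055 : nd 55055 = n103291 := ndS (p := 29180) (l := 1) rfl N29180 D103291
theorem N55056 : nd 55056 = n103292 := ndS (p := 29180) (l := 2) rfl N29180 D103292
theorem N55057 : nd 55057 = n103295 := ndS (p := 29181) (l := 6) rfl N29181 D103295
theorem N55058 : nd 55058 = n103304 := ndS (p := 29183) (l := 6) rfl N29183 D103304
theorem N55059 : nd 55059 = n103305 := ndS (p := 29184) (l := 0) rfl N29184 D103305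
theorem N55060 : nd 55060 = n103306 := ndS (p := 29184) (l := 1) rfl N29184 D103306
theorem N55061 : nd 55061 = n103309 := ndS (p := 29185) (l := 0) rfl N29185 D103309
theorem N55062 : nd 55062 = n103310 := ndS (p := 29185) (l := 1) rfl N29185 D103310
theorem N55063 : nd 55063 = n103311 := ndS (p := 29185) (l := 5) rfl N29185 D103311
theorem N55064 : nd 55064 = n103314 := ndS (p := 29186) (l := 6) rfl N29186 D103314
theorem N55065 : nd 55065 = n103315 := ndS (p := 29187) (l := 3) rfl N29187 D103315
theorem N55066 : nd 55066 = n103317 := ndS (p := 29187) (l := 6) rfl N29187 D103317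
theorem N55067 : nd 55067 = n103319 := ndS (p := 29188) (l := 6) rfl N29188 D103319
theorem N55068 : nd 55068 = n103321 := ndS (p := 29189) (l := 1) rfl N29189 D103321
theorem N55069 : nd 55069 = n103322 := ndS (p := 29189) (l := 5) rfl N29189 D103322
theorem N55070 : nd 55070 = n103325 := ndS (p := 29192) (l := 3) rfl N29192 D103325
theorem N55071 : nd 55071 = n103328 := ndS (p := 29193) (l := 3) rfl N29193 D103328
theorem N55072 : nd 55072 = n103332 := ndS (p := 29195) (l := 0) rfl N29195 D103332
theorem N55073 : nd 55073 = n103333 := ndS (p := 29195) (l := 1) rfl N29195 D103333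
theorem N55074 : nd 55074 = n103334 := ndS (p := 29195) (l := 2) rfl N29195 D103334
theorem N55075 : nd 55075 = n103335 := ndS (p := 29195) (l := 5) rfl N29195 D103335
theorem N55076 : nd 55076 = n103338 := ndS (p := 29196) (l := 6) rfl N29196 D103338
theorem N55077 : nd 55077 = n103341 := ndS (p := 29197) (l := 5) rfl N29197 D103341
theorem N55078 : nd 55078 = n103343 := ndS (p := 29198) (l := 4) rfl N29198 D103343
theorem N55079 : nd 55079 = n103344 := ndS (p := 29198) (l := 6) rfl N29198 D103344
theorem N55080 : nd 55080 = n103345 := ndS (p := 29199) (l := 3) rfl N29199 D103345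
theorem N55081 : nd 55081 = n103346 := ndS (p := 29199) (l := 5) rfl N29199 D103346
theorem N55082 : nd 55082 = n103349 := ndS (p := 29200) (l := 5) rfl N29200 D103349
theorem N55083 : nd 55083 = n103350 := ndS (p := 29201) (l := 5) rfl N29201 D103350
theorem N55084 : nd 55084 = n103351 := ndS (p := 29201) (l := 6) rfl N29201 D103351
theorem N55085 : nd 55085 = n103352 := ndS (p := 29202) (l := 0) rfl N29202 D103352
theorem N55086 : nd 55086 = n103353 := ndS (p := 29202) (l := 1) rfl N29202 D103353
theorem N55087 : nd 55087 = n103354 := ndS (p := 29202) (l := 4) rfl N29202 D103354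
theorem N55088 : nd 55088 = n103355 := ndS (p := 29202) (l := 6) rfl N29202 D103355
theorem N55089 : nd 55089 = n103356 := ndS (p := 29203) (l := 0) rfl N29203 D103356
theorem N55090 : nd 55090 = n103357 := ndS (p := 29203) (l := 5) rfl N29203 D103357
theorem N55091 : nd 55091 = n103358 := ndS (p := 29203) (l := 7) rfl N29203 D103358
theorem N55092 : nd 55092 = n103359 := ndS (p := 29204) (l := 3) rfl N29204 D103359
theorem N55093 : nd 55093 = n103360 := ndS (p := 29204) (l := 6) rfl N29204 D103360
theorem N55094 : nd 55094 = n103361 := ndS (p := 29205) (l := 0) rfl N29205 D103361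
theorem N55095 : nd 55095 = n103362 := ndS (p := 29205) (l := 1) rfl N29205 D103362
theorem N55096 : nd 55096 = n103363 := ndS (p := 29205) (l := 5) rfl N29205 D103363
theorem N55097 : nd 55097 = n103364 := ndS (p := 29205) (l := 7) rfl N29205 D103364
theorem N55098 : nd 55098 = n103365 := ndS (p := 29206) (l := 3) rfl N29206 D103365
theorem N55099 : nd 55099 = n103372 := ndS (p := 29210) (l := 6) rfl N29210 D103372
theorem N55100 : nd 55100 = n103451 := ndS (p := 29212) (l := 5) rfl N29212 D103451
theorem N55101 : nd 55101 = n103452 := ndS (p := 29212) (l := 6) rfl N29212 D103452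
theorem N55102 : nd 55102 = n103453 := ndS (p := 29213) (l := 0) rfl N29213 D103453
theorem N55103 : nd 55103 = n103454 := ndS (p := 29213) (l := 1) rfl N29213 D103454
theorem N55104 : nd 55104 = n103455 := ndS (p := 29213) (l := 7) rfl N29213 D103455
theorem N55105 : nd 55105 = n103464 := ndS (p := 29214) (l := 4) rfl N29214 D103464
theorem N55106 : nd 55106 = n103465 := ndS (p := 29214) (l := 6) rfl N29214 D103465
theorem N55107 : nd 55107 = n103579 := ndS (p := 29215) (l := 6) rfl N29215 D103579
theorem N55108 : nd 55108 = n103582 := ndS (p := 29216) (l := 5) rfl N29216 D103582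
theorem N55109 : nd 55109 = n103584 := ndS (p := 29217) (l := 0) rfl N29217 D103584
theorem N55110 : nd 55110 = n103585 := ndS (p := 29217) (l := 1) rfl N29217 D103585
theorem N55111 : nd 55111 = n103586 := ndS (p := 29217) (l := 5) rfl N29217 D103586
theorem N55112 : nd 55112 = n103587 := ndS (p := 29217) (l := 7) rfl N29217 D103587
theorem N55113 : nd 55113 = n103588 := ndS (p := 29218) (l := 3) rfl N29218 D103588
theorem N55114 : nd 55114 = n103589 := ndS (p := 29218) (l := 4) rfl N29218 D103589
theorem N55115 : nd 55115 = n103590 := ndS (p := 29218) (l := 5) rfl N29218 D103590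
theorem N55116 : nd 55116 = n103592 := ndS (p := 29219) (l := 4) rfl N29219 D103592
theorem N55117 : nd 55117 = n103593 := ndS (p := 29219) (l := 5) rfl N29219 D103593
theorem N55118 : nd 55118 = n103594 := ndS (p := 29219) (l := 6) rfl N29219 D103594
theorem N55119 : nd 55119 = n103595 := ndS (p := 29220) (l := 0) rfl N29220 D103595
theorem N55120 : nd 55120 = n103596 := ndS (p := 29220) (l := 1) rfl N29220 D103596
theorem N55121 : nd 55121 = n103597 := ndS (p := 29220) (l := 4) rfl N29220 D103597
theorem N55122 : nd 55122 = n103598 := ndS (p := 29220) (l := 7) rfl N29220 D103598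
theorem N55123 : nd 55123 = n103600 := ndS (p := 29222) (l := 3) rfl N29222 D103600
theorem N55124 : nd 55124 = n103601 := ndS (p := 29222) (l := 4) rfl N29222 D103601
theorem N55125 : nd 55125 = n103602 := ndS (p := 29222) (l := 5) rfl N29222 D103602
theorem N55126 : nd 55126 = n103604 := ndS (p := 29223) (l := 3) rfl N29223 D103604
theorem N55127 : nd 55127 = n103605 := ndS (p := 29223) (l := 4) rfl N29223 D103605
theorem N55128 : nd 55128 = n103606 := ndS (p := 29223) (l := 5) rfl N29223 D103606
theorem N55129 : nd 55129 = n103607 := ndS (p := 29223) (l := 6) rfl N29223 D103607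
theorem N55130 : nd 55130 = n103608 := ndS (p := 29224) (l := 0) rfl N29224 D103608
theorem N55131 : nd 55131 = n103609 := ndS (p := 29224) (l := 4) rfl N29224 D103609
theorem N55132 : nd 55132 = n103610 := ndS (p := 29224) (l := 7) rfl N29224 D103610
theorem N55133 : nd 55133 = n103612 := ndS (p := 29226) (l := 1) rfl N29226 D103612
theorem N55134 : nd 55134 = n103616 := ndS (p := 29227) (l := 6) rfl N29227 D103616
theorem N55135 : nd 55135 = n103618 := ndS (p := 29228) (l := 4) rfl N29228 D103618
theorem N55136 : nd 55136 = n103619 := ndS (p := 29228) (l := 6) rfl N29228 D103619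
theorem N55137 : nd 55137 = n103620 := ndS (p := 29229) (l := 0) rfl N29229 D103620
theorem N55138 : nd 55138 = n103621 := ndS (p := 29229) (l := 3) rfl N29229 D103621
theorem N55139 : nd 55139 = n103623 := ndS (p := 29229) (l := 7) rfl N29229 D103623
theorem N55140 : nd 55140 = n103624 := ndS (p := 29230) (l := 6) rfl N29230 D103624
theorem N55141 : nd 55141 = n103626 := ndS (p := 29231) (l := 4) rfl N29231 D103626
theorem N55142 : nd 55142 = n103627 := ndS (p := 29231) (l := 6) rfl N29231 D103627
theorem N55143 : nd 55143 = n103630 := ndS (p := 29232) (l := 4) rfl N29232 D103630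
theorem N55144 : nd 55144 = n103631 := ndS (p := 29232) (l := 6) rfl N29232 D103631
theorem N55145 : nd 55145 = n103635 := ndS (p := 29233) (l := 3) rfl N29233 D103635
theorem N55146 : nd 55146 = n103637 := ndS (p := 29234) (l := 0) rfl N29234 D103637
theorem N55147 : nd 55147 = n103638 := ndS (p := 29234) (l := 1) rfl N29234 D103638
theorem N55148 : nd 55148 = n103641 := ndS (p := 29234) (l := 7) rfl N29234 D103641
theorem N55149 : nd 55149 = n103646 := ndS (p := 29237) (l := 6) rfl N29237 D103646
theorem N55150 : nd 55150 = n103651 := ndS (p := 29239) (l := 5) rfl N29239 D103651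
theorem N55151 : nd 55151 = n103652 := ndS (p := 29240) (l := 3) rfl N29240 D103652
theorem N55152 : nd 55152 = n103653 := ndS (p := 29240) (l := 5) rfl N29240 D103653
theorem N55153 : nd 55153 = n103654 := ndS (p := 29240) (l := 6) rfl N29240 D103654
theorem N55154 : nd 55154 = n103657 := ndS (p := 29241) (l := 6) rfl N29241 D103657
theorem N55155 : nd 55155 = n103658 := ndS (p := 29242) (l := 0) rfl N29242 D103658
theorem N55156 : nd 55156 = n103659 := ndS (p := 29242) (l := 1) rfl N29242 D103659
theorem N55157 : nd 55157 = n103660 := ndS (p := 29242) (l := 4) rfl N29242 D103660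
theorem N55158 : nd 55158 = n103661 := ndS (p := 29243) (l := 3) rfl N29243 D103661
theorem N55159 : nd 55159 = n103662 := ndS (p := 29243) (l := 6) rfl N29243 D103662
theorem N55160 : nd 55160 = n103663 := ndS (p := 29244) (l := 3) rfl N29244 D103663
theorem N55161 : nd 55161 = n103664 := ndS (p := 29245) (l := 6) rfl N29245 D103664
theorem N55162 : nd 55162 = n103668 := ndS (p := 29247) (l := 5) rfl N29247 D103668
theorem N55163 : nd 55163 = n103670 := ndS (p := 29248) (l := 1) rfl N29248 D103670
theorem N55164 : nd 55164 = n103671 := ndS (p := 29248) (l := 5) rfl N29248 D103671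
theorem N55165 : nd 55165 = n103672 := ndS (p := 29248) (l := 7) rfl N29248 D103672
theorem N55166 : nd 55166 = n103675 := ndS (p := 29250) (l := 5) rfl N29250 D103675
theorem N55167 : nd 55167 = n103677 := ndS (p := 29251) (l := 0) rfl N29251 D103677
theorem N55168 : nd 55168 = n103678 := ndS (p := 29251) (l := 1) rfl N29251 D103678
theorem N55169 : nd 55169 = n103679 := ndS (p := 29251) (l := 4) rfl N29251 D103679
theorem N55170 : nd 55170 = n103680 := ndS (p := 29251) (l := 7) rfl N29251 D103680
theorem N55171 : nd 55171 = n103681 := ndS (p := 29253) (l := 6) rfl N29253 D103681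
theorem N55172 : nd 55172 = n103682 := ndS (p := 29254) (l := 3) rfl N29254 D103682
theorem N55173 : nd 55173 = n103683 := ndS (p := 29254) (l := 6) rfl N29254 D103683
theorem N55174 : nd 55174 = n103684 := ndS (p := 29255) (l := 3) rfl N29255 D103684
theorem N55175 : nd 55175 = n103686 := ndS (p := 29255) (l := 7) rfl N29255 D103686
theorem N55176 : nd 55176 = n103687 := ndS (p := 29256) (l := 6) rfl N29256 D103687
theorem N55177 : nd 55177 = n103688 := ndS (p := 29257) (l := 3) rfl N29257 D103688
theorem N55178 : nd 55178 = n103689 := ndS (p := 29257) (l := 6) rfl N29257 D103689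
theorem N55179 : nd 55179 = n103690 := ndS (p := 29258) (l := 3) rfl N29258 D103690
theorem N55180 : nd 55180 = n103691 := ndS (p := 29258) (l := 4) rfl N29258 D103691
theorem N55181 : nd 55181 = n103692 := ndS (p := 29258) (l := 6) rfl N29258 D103692
theorem N55182 : nd 55182 = n103693 := ndS (p := 29259) (l := 6) rfl N29259 D103693
theorem N55183 : nd 55183 = n103694 := ndS (p := 29260) (l := 0) rfl N29260 D103694
theorem N55184 : nd 55184 = n103696 := ndS (p := 29260) (l := 5) rfl N29260 D103696
theorem N55185 : nd 55185 = n103697 := ndS (p := 29260) (l := 7) rfl N29260 D103697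
theorem N55186 : nd 55186 = n103699 := ndS (p := 29261) (l := 3) rfl N29261 D103699
theorem N55187 : nd 55187 = n103701 := ndS (p := 29261) (l := 5) rfl N29261 D103701
theorem N55188 : nd 55188 = n103702 := ndS (p := 29261) (l := 6) rfl N29261 D103702
theorem N55189 : nd 55189 = n103704 := ndS (p := 29262) (l := 3) rfl N29262 D103704
theorem N55190 : nd 55190 = n103706 := ndS (p := 29262) (l := 5) rfl N29262 D103706
theorem N55191 : nd 55191 = n103707 := ndS (p := 29262) (l := 6) rfl N29262 D103707
theorem N55192 : nd 55192 = n103708 := ndS (p := 29263) (l := 0) rfl N29263 D103708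
theorem N55193 : nd 55193 = n103709 := ndS (p := 29263) (l := 1) rfl N29263 D103709
theorem N55194 : nd 55194 = n103710 := ndS (p := 29263) (l := 4) rfl N29263 D103710
theorem N55195 : nd 55195 = n103711 := ndS (p := 29263) (l := 7) rfl N29263 D103711
theorem N55196 : nd 55196 = n103718 := ndS (p := 29265) (l := 0) rfl N29265 D103718
theorem N55197 : nd 55197 = n103720 := ndS (p := 29265) (l := 2) rfl N29265 D103720
theorem N55198 : nd 55198 = n103722 := ndS (p := 29265) (l := 5) rfl N29265 D103722
theorem N55199 : nd 55199 = n103723 := ndS (p := 29265) (l := 6) rfl N29265 D103723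
theorem N55200 : nd 55200 = n103725 := ndS (p := 29266) (l := 0) rfl N29266 D103725
theorem N55201 : nd 55201 = n103727 := ndS (p := 29266) (l := 3) rfl N29266 D103727
theorem N55202 : nd 55202 = n103731 := ndS (p := 29267) (l := 0) rfl N29267 D103731
theorem N55203 : nd 55203 = n103732 := ndS (p := 29267) (l := 1) rfl N29267 D103732
theorem N55204 : nd 55204 = n103733 := ndS (p := 29267) (l := 4) rfl N29267 D103733
theorem N55205 : nd 55205 = n103734 := ndS (p := 29267) (l := 6) rfl N29267 D103734
theorem N55206 : nd 55206 = n103737 := ndS (p := 29268) (l := 1) rfl N29268 D103737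
theorem N55207 : nd 55207 = n103741 := ndS (p := 29269) (l := 1) rfl N29269 D103741
theorem N55208 : nd 55208 = n103742 := ndS (p := 29269) (l := 2) rfl N29269 D103742
theorem N55209 : nd 55209 = n103743 := ndS (p := 29269) (l := 4) rfl N29269 D103743
theorem N55210 : nd 55210 = n103744 := ndS (p := 29269) (l := 5) rfl N29269 D103744
theorem N55211 : nd 55211 = n103745 := ndS (p := 29269) (l := 6) rfl N29269 D103745
theorem N55212 : nd 55212 = n103746 := ndS (p := 29270) (l := 3) rfl N29270 D103746
theorem N55213 : nd 55213 = n103748 := ndS (p := 29270) (l := 6) rfl N29270 D103748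
theorem N55214 : nd 55214 = n103749 := ndS (p := 29271) (l := 4) rfl N29271 D103749
theorem N55215 : nd 55215 = n103750 := ndS (p := 29271) (l := 6) rfl N29271 D103750
theorem N55216 : nd 55216 = n103751 := ndS (p := 29272) (l := 0) rfl N29272 D103751
theorem N55217 : nd 55217 = n103753 := ndS (p := 29272) (l := 5) rfl N29272 D103753
theorem N55218 : nd 55218 = n103754 := ndS (p := 29272) (l := 7) rfl N29272 D103754
theorem N55219 : nd 55219 = n103756 := ndS (p := 29273) (l := 3) rfl N29273 D103756
theorem N55220 : nd 55220 = n103757 := ndS (p := 29273) (l := 4) rfl N29273 D103757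
theorem N55221 : nd 55221 = n103759 := ndS (p := 29273) (l := 6) rfl N29273 D103759
theorem N55222 : nd 55222 = n103762 := ndS (p := 29274) (l := 4) rfl N29274 D103762
theorem N55223 : nd 55223 = n103764 := ndS (p := 29275) (l := 0) rfl N29275 D103764
theorem N55224 : nd 55224 = n103765 := ndS (p := 29275) (l := 1) rfl N29275 D103765
theorem N55225 : nd 55225 = n103766 := ndS (p := 29275) (l := 3) rfl N29275 D103766
theorem N55226 : nd 55226 = n103767 := ndS (p := 29275) (l := 5) rfl N29275 D103767
theorem N55227 : nd 55227 = n103768 := ndS (p := 29275) (l := 7) rfl N29275 D103768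
theorem N55228 : nd 55228 = n103769 := ndS (p := 29276) (l := 6) rfl N29276 D103769
theorem N55229 : nd 55229 = n103770 := ndS (p := 29277) (l := 4) rfl N29277 D103770
theorem N55230 : nd 55230 = n103784 := ndS (p := 29279) (l := 3) rfl N29279 D103784
theorem N55231 : nd 55231 = n103786 := ndS (p := 29279) (l := 6) rfl N29279 D103786
theorem N55232 : nd 55232 = n103789 := ndS (p := 29280) (l := 0) rfl N29280 D103789
theorem N55233 : nd 55233 = n103790 := ndS (p := 29280) (l := 1) rfl N29280 D103790
theorem N55234 : nd 55234 = n103793 := ndS (p := 29280) (l := 6) rfl N29280 D103793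
theorem N55235 : nd 55235 = n103794 := ndS (p := 29281) (l := 0) rfl N29281 D103794
theorem N55236 : nd 55236 = n103795 := ndS (p := 29281) (l := 1) rfl N29281 D103795
theorem N55237 : nd 55237 = n103796 := ndS (p := 29281) (l := 7) rfl N29281 D103796
theorem N55238 : nd 55238 = n103799 := ndS (p := 29283) (l := 6) rfl N29283 D103799
theorem N55239 : nd 55239 = n103800 := ndS (p := 29284) (l := 0) rfl N29284 D103800
theorem N55240 : nd 55240 = n103801 := ndS (p := 29284) (l := 1) rfl N29284 D103801
theorem N55241 : nd 55241 = n103803 := ndS (p := 29284) (l := 6) rfl N29284 D103803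
theorem N55242 : nd 55242 = n103804 := ndS (p := 29285) (l := 0) rfl N29285 D103804
theorem N55243 : nd 55243 = n103805 := ndS (p := 29285) (l := 1) rfl N29285 D103805
theorem N55244 : nd 55244 = n103806 := ndS (p := 29286) (l := 3) rfl N29286 D103806
theorem N55245 : nd 55245 = n103808 := ndS (p := 29286) (l := 6) rfl N29286 D103808
theorem N55246 : nd 55246 = n103809 := ndS (p := 29287) (l := 0) rfl N29287 D103809
theorem N55247 : nd 55247 = n103810 := ndS (p := 29287) (l := 1) rfl N29287 D103810
theorem N55248 : nd 55248 = n103811 := ndS (p := 29287) (l := 7) rfl N29287 D103811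
theorem N55249 : nd 55249 = n103816 := ndS (p := 29288) (l := 6) rfl N29288 D103816
theorem N55250 : nd 55250 = n103817 := ndS (p := 29289) (l := 0) rfl N29289 D103817
theorem N55251 : nd 55251 = n103820 := ndS (p := 29289) (l := 6) rfl N29289 D103820
theorem N55252 : nd 55252 = n103821 := ndS (p := 29290) (l := 0) rfl N29290 D103821
theorem N55253 : nd 55253 = n103822 := ndS (p := 29290) (l := 1) rfl N29290 D103822
theorem N55254 : nd 55254 = n103823 := ndS (p := 29290) (l := 5) rfl N29290 D103823
theorem N55255 : nd 55255 = n103824 := ndS (p := 29290) (l := 7) rfl N29290 D103824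
theorem N55256 : nd 55256 = n103834 := ndS (p := 29292) (l := 3) rfl N29292 D103834
theorem N55257 : nd 55257 = n103836 := ndS (p := 29292) (l := 6) rfl N29292 D103836
theorem N55258 : nd 55258 = n103837 := ndS (p := 29293) (l := 3) rfl N29293 D103837
theorem N55259 : nd 55259 = n103839 := ndS (p := 29293) (l := 6) rfl N29293 D103839
theorem N55260 : nd 55260 = n103840 := ndS (p := 29294) (l := 0) rfl N29294 D103840
theorem N55261 : nd 55261 = n103842 := ndS (p := 29294) (l := 2) rfl N29294 D103842
theorem N55262 : nd 55262 = n103843 := ndS (p := 29294) (l := 5) rfl N29294 D103843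
theorem N55263 : nd 55263 = n103844 := ndS (p := 29294) (l := 7) rfl N29294 D103844
theorem N55264 : nd 55264 = n103847 := ndS (p := 29295) (l := 6) rfl N29295 D103847
theorem N55265 : nd 55265 = n103848 := ndS (p := 29296) (l := 6) rfl N29296 D103848
theorem N55266 : nd 55266 = n103849 := ndS (p := 29297) (l := 0) rfl N29297 D103849
theorem N55267 : nd 55267 = n103850 := ndS (p := 29297) (l := 1) rfl N29297 D103850
theorem N55268 : nd 55268 = n103852 := ndS (p := 29298) (l := 1) rfl N29298 D103852
theorem N55269 : nd 55269 = n103853 := ndS (p := 29298) (l := 5) rfl N29298 D103853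
theorem N55270 : nd 55270 = n103854 := ndS (p := 29299) (l := 4) rfl N29299 D103854
theorem N55271 : nd 55271 = n103855 := ndS (p := 29299) (l := 6) rfl N29299 D103855
theorem N55272 : nd 55272 = n103857 := ndS (p := 29300) (l := 5) rfl N29300 D103857
theorem N55273 : nd 55273 = n103863 := ndS (p := 29301) (l := 5) rfl N29301 D103863
theorem N55274 : nd 55274 = n103865 := ndS (p := 29302) (l := 0) rfl N29302 D103865
theorem N55275 : nd 55275 = n103866 := ndS (p := 29302) (l := 1) rfl N29302 D103866
theorem N55276 : nd 55276 = n103867 := ndS (p := 29302) (l := 4) rfl N29302 D103867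
theorem N55277 : nd 55277 = n103872 := ndS (p := 29303) (l := 3) rfl N29303 D103872
theorem N55278 : nd 55278 = n103873 := ndS (p := 29303) (l := 4) rfl N29303 D103873
theorem N55279 : nd 55279 = n103874 := ndS (p := 29303) (l := 6) rfl N29303 D103874
theorem N55280 : nd 55280 = n103875 := ndS (p := 29304) (l := 3) rfl N29304 D103875
theorem N55281 : nd 55281 = n103876 := ndS (p := 29304) (l := 4) rfl N29304 D103876
theorem N55282 : nd 55282 = n103877 := ndS (p := 29304) (l := 6) rfl N29304 D103877
theorem N55283 : nd 55283 = n103878 := ndS (p := 29305) (l := 3) rfl N29305 D103878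
theorem N55284 : nd 55284 = n103879 := ndS (p := 29305) (l := 6) rfl N29305 D103879
theorem N55285 : nd 55285 = n103880 := ndS (p := 29306) (l := 0) rfl N29306 D103880
theorem N55286 : nd 55286 = n103881 := ndS (p := 29306) (l := 1) rfl N29306 D103881
theorem N55287 : nd 55287 = n103883 := ndS (p := 29306) (l := 7) rfl N29306 D103883
theorem N55288 : nd 55288 = n103903 := ndS (p := 29307) (l := 0) rfl N29307 D103903
theorem N55289 : nd 55289 = n103904 := ndS (p := 29307) (l := 1) rfl N29307 D103904
theorem N55290 : nd 55290 = n103905 := ndS (p := 29307) (l := 4) rfl N29307 D103905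
theorem N55291 : nd 55291 = n103906 := ndS (p := 29307) (l := 6) rfl N29307 D103906
theorem N55292 : nd 55292 = n103907 := ndS (p := 29308) (l := 0) rfl N29308 D103907
theorem N55293 : nd 55293 = n103908 := ndS (p := 29308) (l := 5) rfl N29308 D103908
theorem N55294 : nd 55294 = n103909 := ndS (p := 29309) (l := 3) rfl N29309 D103909
theorem N55295 : nd 55295 = n103910 := ndS (p := 29309) (l := 6) rfl N29309 D103910
theorem N55296 : nd 55296 = n103911 := ndS (p := 29310) (l := 0) rfl N29310 D103911
theorem N55297 : nd 55297 = n103912 := ndS (p := 29310) (l := 1) rfl N29310 D103912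
theorem N55298 : nd 55298 = n103913 := ndS (p := 29310) (l := 5) rfl N29310 D103913
theorem N55299 : nd 55299 = n103914 := ndS (p := 29310) (l := 7) rfl N29310 D103914
theorem N55300 : nd 55300 = n103921 := ndS (p := 29313) (l := 3) rfl N29313 D103921
theorem N55301 : nd 55301 = n103924 := ndS (p := 29314) (l := 0) rfl N29314 D103924
theorem N55302 : nd 55302 = n103925 := ndS (p := 29314) (l := 1) rfl N29314 D103925
theorem N55303 : nd 55303 = n103926 := ndS (p := 29314) (l := 2) rfl N29314 D103926
theorem N55304 : nd 55304 = n103927 := ndS (p := 29314) (l := 5) rfl N29314 D103927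
theorem N55305 : nd 55305 = n103931 := ndS (p := 29315) (l := 6) rfl N29315 D103931
theorem N55306 : nd 55306 = n103939 := ndS (p := 29317) (l := 2) rfl N29317 D103939
theorem N55307 : nd 55307 = n103940 := ndS (p := 29317) (l := 5) rfl N29317 D103940
theorem N55308 : nd 55308 = n103941 := ndS (p := 29317) (l := 6) rfl N29317 D103941
theorem N55309 : nd 55309 = n103942 := ndS (p := 29318) (l := 6) rfl N29318 D103942
theorem N55310 : nd 55310 = n103945 := ndS (p := 29320) (l := 0) rfl N29320 D103945
theorem N55311 : nd 55311 = n103946 := ndS (p := 29320) (l := 1) rfl N29320 D103946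
theorem N55312 : nd 55312 = n103947 := ndS (p := 29320) (l := 2) rfl N29320 D103947
theorem N55313 : nd 55313 = n103955 := ndS (p := 29321) (l := 0) rfl N29321 D103955
theorem N55314 : nd 55314 = n103956 := ndS (p := 29321) (l := 1) rfl N29321 D103956
theorem N55315 : nd 55315 = n103957 := ndS (p := 29321) (l := 2) rfl N29321 D103957
theorem N55316 : nd 55316 = n103959 := ndS (p := 29321) (l := 6) rfl N29321 D103959
theorem N55317 : nd 55317 = n103984 := ndS (p := 29323) (l := 3) rfl N29323 D103984
theorem N55318 : nd 55318 = n103985 := ndS (p := 29323) (l := 6) rfl N29323 D103985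
theorem N55319 : nd 55319 = n103986 := ndS (p := 29324) (l := 0) rfl N29324 D103986
theorem N55320 : nd 55320 = n103987 := ndS (p := 29324) (l := 1) rfl N29324 D103987
theorem N55321 : nd 55321 = n103988 := ndS (p := 29324) (l := 7) rfl N29324 D103988
theorem N55322 : nd 55322 = n104006 := ndS (p := 29325) (l := 3) rfl N29325 D104006
theorem N55323 : nd 55323 = n104007 := ndS (p := 29326) (l := 3) rfl N29326 D104007
theorem N55324 : nd 55324 = n104008 := ndS (p := 29326) (l := 6) rfl N29326 D104008
theorem N55325 : nd 55325 = n104009 := ndS (p := 29327) (l := 0) rfl N29327 D104009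
theorem N55326 : nd 55326 = n104010 := ndS (p := 29327) (l := 1) rfl N29327 D104010
theorem N55327 : nd 55327 = n104011 := ndS (p := 29327) (l := 3) rfl N29327 D104011
theorem N55328 : nd 55328 = n104013 := ndS (p := 29327) (l := 6) rfl N29327 D104013
theorem N55329 : nd 55329 = n104014 := ndS (p := 29328) (l := 0) rfl N29328 D104014
theorem N55330 : nd 55330 = n104015 := ndS (p := 29328) (l := 1) rfl N29328 D104015
theorem N55331 : nd 55331 = n104016 := ndS (p := 29328) (l := 7) rfl N29328 D104016
theorem N55332 : nd 55332 = n104040 := ndS (p := 29329) (l := 3) rfl N29329 D104040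
theorem N55333 : nd 55333 = n104118 := ndS (p := 29330) (l := 5) rfl N29330 D104118
theorem N55334 : nd 55334 = n104120 := ndS (p := 29331) (l := 4) rfl N29331 D104120
theorem N55335 : nd 55335 = n104126 := ndS (p := 29333) (l := 3) rfl N29333 D104126
theorem N55336 : nd 55336 = n104128 := ndS (p := 29333) (l := 5) rfl N29333 D104128
theorem N55337 : nd 55337 = n104129 := ndS (p := 29333) (l := 6) rfl N29333 D104129
theorem N55338 : nd 55338 = n104133 := ndS (p := 29334) (l := 5) rfl N29334 D104133
theorem N55339 : nd 55339 = n104134 := ndS (p := 29334) (l := 6) rfl N29334 D104134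
theorem N55340 : nd 55340 = n104137 := ndS (p := 29335) (l := 4) rfl N29335 D104137
theorem N55341 : nd 55341 = n104139 := ndS (p := 29337) (l := 0) rfl N29337 D104139
theorem N55342 : nd 55342 = n104140 := ndS (p := 29337) (l := 5) rfl N29337 D104140
theorem N55343 : nd 55343 = n104143 := ndS (p := 29338) (l := 4) rfl N29338 D104143
theorem N55344 : nd 55344 = n104144 := ndS (p := 29338) (l := 6) rfl N29338 D104144
theorem N55345 : nd 55345 = n104146 := ndS (p := 29339) (l := 6) rfl N29339 D104146
theorem N55346 : nd 55346 = n104147 := ndS (p := 29340) (l := 3) rfl N29340 D104147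
theorem N55347 : nd 55347 = n104148 := ndS (p := 29340) (l := 6) rfl N29340 D104148
theorem N55348 : nd 55348 = n104149 := ndS (p := 29341) (l := 6) rfl N29341 D104149
theorem N55349 : nd 55349 = n104167 := ndS (p := 29343) (l := 5) rfl N29343 D104167
theorem N55350 : nd 55350 = n104169 := ndS (p := 29344) (l := 4) rfl N29344 D104169
theorem N55351 : nd 55351 = n104178 := ndS (p := 29345) (l := 5) rfl N29345 D104178
theorem N55352 : nd 55352 = n104179 := ndS (p := 29345) (l := 6) rfl N29345 D104179
theorem N55353 : nd 55353 = n104181 := ndS (p := 29346) (l := 3) rfl N29346 D104181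
theorem N55354 : nd 55354 = n104183 := ndS (p := 29346) (l := 5) rfl N29346 D104183
theorem N55355 : nd 55355 = n104187 := ndS (p := 29347) (l := 4) rfl N29347 D104187
theorem N55356 : nd 55356 = n104188 := ndS (p := 29347) (l := 7) rfl N29347 D104188
theorem N55357 : nd 55357 = n104189 := ndS (p := 29349) (l := 4) rfl N29349 D104189
theorem N55358 : nd 55358 = n104190 := ndS (p := 29349) (l := 6) rfl N29349 D104190
theorem N55359 : nd 55359 = n104191 := ndS (p := 29350) (l := 6) rfl N29350 D104191
theorem N55360 : nd 55360 = n104192 := ndS (p := 29351) (l := 3) rfl N29351 D104192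
theorem N55361 : nd 55361 = n104193 := ndS (p := 29351) (l := 6) rfl N29351 D104193
theorem N55362 : nd 55362 = n104206 := ndS (p := 29353) (l := 6) rfl N29353 D104206
theorem N55363 : nd 55363 = n104220 := ndS (p := 29354) (l := 0) rfl N29354 D104220
theorem N55364 : nd 55364 = n104229 := ndS (p := 29355) (l := 5) rfl N29355 D104229
theorem N55365 : nd 55365 = n104230 := ndS (p := 29356) (l := 4) rfl N29356 D104230
theorem N55366 : nd 55366 = n104231 := ndS (p := 29356) (l := 6) rfl N29356 D104231
theorem N55367 : nd 55367 = n104235 := ndS (p := 29357) (l := 6) rfl N29357 D104235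
theorem N55368 : nd 55368 = n104237 := ndS (p := 29358) (l := 4) rfl N29358 D104237
theorem N55369 : nd 55369 = n104239 := ndS (p := 29359) (l := 1) rfl N29359 D104239
theorem N55370 : nd 55370 = n104240 := ndS (p := 29359) (l := 5) rfl N29359 D104240
theorem N55371 : nd 55371 = n104241 := ndS (p := 29360) (l := 3) rfl N29360 D104241
theorem N55372 : nd 55372 = n104242 := ndS (p := 29360) (l := 4) rfl N29360 D104242
theorem N55373 : nd 55373 = n104243 := ndS (p := 29360) (l := 6) rfl N29360 D104243
theorem N55374 : nd 55374 = n104244 := ndS (p := 29361) (l := 4) rfl N29361 D104244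
theorem N55375 : nd 55375 = n104245 := ndS (p := 29361) (l := 6) rfl N29361 D104245
theorem N55376 : nd 55376 = n104246 := ndS (p := 29362) (l := 3) rfl N29362 D104246
theorem N55377 : nd 55377 = n104247 := ndS (p := 29362) (l := 6) rfl N29362 D104247
theorem N55378 : nd 55378 = n104248 := ndS (p := 29363) (l := 0) rfl N29363 D104248
theorem N55379 : nd 55379 = n104249 := ndS (p := 29363) (l := 1) rfl N29363 D104249
theorem N55380 : nd 55380 = n104250 := ndS (p := 29363) (l := 5) rfl N29363 D104250
theorem N55381 : nd 55381 = n104276 := ndS (p := 29365) (l := 4) rfl N29365 D104276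
theorem N55382 : nd 55382 = n104279 := ndS (p := 29366) (l := 3) rfl N29366 D104279
theorem N55383 : nd 55383 = n104280 := ndS (p := 29366) (l := 6) rfl N29366 D104280
theorem N55384 : nd 55384 = n104297 := ndS (p := 29368) (l := 1) rfl N29368 D104297
theorem N55385 : nd 55385 = n104298 := ndS (p := 29368) (l := 2) rfl N29368 D104298
theorem N55386 : nd 55386 = n104299 := ndS (p := 29368) (l := 5) rfl N29368 D104299
theorem N55387 : nd 55387 = n104303 := ndS (p := 29369) (l := 6) rfl N29369 D104303
theorem N55388 : nd 55388 = n104315 := ndS (p := 29370) (l := 1) rfl N29370 D104315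
theorem N55389 : nd 55389 = n104316 := ndS (p := 29370) (l := 2) rfl N29370 D104316
theorem N55390 : nd 55390 = n104317 := ndS (p := 29370) (l := 5) rfl N29370 D104317
theorem N55391 : nd 55391 = n104350 := ndS (p := 29372) (l := 3) rfl N29372 D104350
theorem N55392 : nd 55392 = n104351 := ndS (p := 29372) (l := 6) rfl N29372 D104351
theorem N55393 : nd 55393 = n104352 := ndS (p := 29373) (l := 0) rfl N29373 D104352
theorem N55394 : nd 55394 = n104353 := ndS (p := 29373) (l := 1) rfl N29373 D104353
theorem N55395 : nd 55395 = n104354 := ndS (p := 29373) (l := 7) rfl N29373 D104354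
theorem N55396 : nd 55396 = n104356 := ndS (p := 29374) (l := 3) rfl N29374 D104356
theorem N55397 : nd 55397 = n104357 := ndS (p := 29374) (l := 4) rfl N29374 D104357
theorem N55398 : nd 55398 = n104358 := ndS (p := 29374) (l := 6) rfl N29374 D104358
theorem N55399 : nd 55399 = n104359 := ndS (p := 29375) (l := 3) rfl N29375 D104359
theorem N55400 : nd 55400 = n104360 := ndS (p := 29375) (l := 4) rfl N29375 D104360
theorem N55401 : nd 55401 = n104361 := ndS (p := 29375) (l := 6) rfl N29375 D104361
theorem N55402 : nd 55402 = n104362 := ndS (p := 29376) (l := 0) rfl N29376 D104362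
theorem N55403 : nd 55403 = n104363 := ndS (p := 29376) (l := 1) rfl N29376 D104363
theorem N55404 : nd 55404 = n104364 := ndS (p := 29376) (l := 3) rfl N29376 D104364
theorem N55405 : nd 55405 = n104366 := ndS (p := 29376) (l := 6) rfl N29376 D104366
theorem N55406 : nd 55406 = n104367 := ndS (p := 29377) (l := 0) rfl N29377 D104367
theorem N55407 : nd 55407 = n104368 := ndS (p := 29377) (l := 1) rfl N29377 D104368
theorem N55408 : nd 55408 = n104369 := ndS (p := 29377) (l := 7) rfl N29377 D104369
theorem N55409 : nd 55409 = n104407 := ndS (p := 29378) (l := 3) rfl N29378 D104407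
theorem N55410 : nd 55410 = n104408 := ndS (p := 29378) (l := 4) rfl N29378 D104408
theorem N55411 : nd 55411 = n104409 := ndS (p := 29379) (l := 0) rfl N29379 D104409
theorem N55412 : nd 55412 = n104410 := ndS (p := 29379) (l := 3) rfl N29379 D104410
theorem N55413 : nd 55413 = n104411 := ndS (p := 29379) (l := 5) rfl N29379 D104411
theorem N55414 : nd 55414 = n104412 := ndS (p := 29379) (l := 6) rfl N29379 D104412
theorem N55415 : nd 55415 = n104413 := ndS (p := 29380) (l := 0) rfl N29380 D104413
theorem N55416 : nd 55416 = n104415 := ndS (p := 29380) (l := 7) rfl N29380 D104415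
theorem N55417 : nd 55417 = n104445 := ndS (p := 29381) (l := 4) rfl N29381 D104445
theorem N55418 : nd 55418 = n104446 := ndS (p := 29381) (l := 6) rfl N29381 D104446
theorem N55419 : nd 55419 = n104582 := ndS (p := 29382) (l := 5) rfl N29382 D104582
theorem N55420 : nd 55420 = n104585 := ndS (p := 29383) (l := 3) rfl N29383 D104585
theorem N55421 : nd 55421 = n104586 := ndS (p := 29383) (l := 5) rfl N29383 D104586
theorem N55422 : nd 55422 = n104587 := ndS (p := 29383) (l := 6) rfl N29383 D104587
theorem N55423 : nd 55423 = n104588 := ndS (p := 29384) (l := 5) rfl N29384 D104588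
theorem N55424 : nd 55424 = n104589 := ndS (p := 29385) (l := 0) rfl N29385 D104589
theorem N55425 : nd 55425 = n104590 := ndS (p := 29385) (l := 1) rfl N29385 D104590
theorem N55426 : nd 55426 = n104591 := ndS (p := 29385) (l := 4) rfl N29385 D104591
theorem N55427 : nd 55427 = n104592 := ndS (p := 29385) (l := 6) rfl N29385 D104592
theorem N55428 : nd 55428 = n104593 := ndS (p := 29386) (l := 3) rfl N29386 D104593
theorem N55429 : nd 55429 = n104594 := ndS (p := 29386) (l := 6) rfl N29386 D104594
theorem N55430 : nd 55430 = n104595 := ndS (p := 29387) (l := 0) rfl N29387 D104595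
theorem N55431 : nd 55431 = n104596 := ndS (p := 29387) (l := 1) rfl N29387 D104596
theorem N55432 : nd 55432 = n104597 := ndS (p := 29387) (l := 7) rfl N29387 D104597
theorem N55433 : nd 55433 = n104598 := ndS (p := 29388) (l := 4) rfl N29388 D104598
theorem N55434 : nd 55434 = n104599 := ndS (p := 29388) (l := 5) rfl N29388 D104599
theorem N55435 : nd 55435 = n104605 := ndS (p := 29389) (l := 1) rfl N29389 D104605
theorem N55436 : nd 55436 = n104606 := ndS (p := 29389) (l := 4) rfl N29389 D104606
theorem N55437 : nd 55437 = n104615 := ndS (p := 29391) (l := 0) rfl N29391 D104615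
theorem N55438 : nd 55438 = n104618 := ndS (p := 29392) (l := 4) rfl N29392 D104618
theorem N55439 : nd 55439 = n104619 := ndS (p := 29392) (l := 5) rfl N29392 D104619
theorem N55440 : nd 55440 = n104621 := ndS (p := 29393) (l := 5) rfl N29393 D104621
theorem N55441 : nd 55441 = n104622 := ndS (p := 29393) (l := 6) rfl N29393 D104622
theorem N55442 : nd 55442 = n104623 := ndS (p := 29394) (l := 5) rfl N29394 D104623
theorem N55443 : nd 55443 = n104624 := ndS (p := 29395) (l := 0) rfl N29395 D104624
theorem N55444 : nd 55444 = n104625 := ndS (p := 29395) (l := 1) rfl N29395 D104625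
theorem N55445 : nd 55445 = n104626 := ndS (p := 29395) (l := 4) rfl N29395 D104626
theorem N55446 : nd 55446 = n104627 := ndS (p := 29395) (l := 6) rfl N29395 D104627
theorem N55447 : nd 55447 = n104628 := ndS (p := 29396) (l := 3) rfl N29396 D104628
theorem N55448 : nd 55448 = n104629 := ndS (p := 29396) (l := 6) rfl N29396 D104629
theorem N55449 : nd 55449 = n104630 := ndS (p := 29397) (l := 0) rfl N29397 D104630
theorem N55450 : nd 55450 = n104631 := ndS (p := 29397) (l := 1) rfl N29397 D104631
theorem N55451 : nd 55451 = n104632 := ndS (p := 29397) (l := 7) rfl N29397 D104632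
theorem N55452 : nd 55452 = n104633 := ndS (p := 29398) (l := 3) rfl N29398 D104633
theorem N55453 : nd 55453 = n104634 := ndS (p := 29398) (l := 4) rfl N29398 D104634
theorem N55454 : nd 55454 = n104635 := ndS (p := 29398) (l := 6) rfl N29398 D104635
theorem N55455 : nd 55455 = n104636 := ndS (p := 29399) (l := 3) rfl N29399 D104636
theorem N55456 : nd 55456 = n104637 := ndS (p := 29399) (l := 4) rfl N29399 D104637
theorem N55457 : nd 55457 = n104638 := ndS (p := 29399) (l := 6) rfl N29399 D104638
theorem N55458 : nd 55458 = n104639 := ndS (p := 29400) (l := 0) rfl N29400 D104639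
theorem N55459 : nd 55459 = n104641 := ndS (p := 29400) (l := 3) rfl N29400 D104641
theorem N55460 : nd 55460 = n104643 := ndS (p := 29400) (l := 6) rfl N29400 D104643
theorem N55461 : nd 55461 = n104644 := ndS (p := 29401) (l := 0) rfl N29401 D104644
theorem N55462 : nd 55462 = n104645 := ndS (p := 29401) (l := 1) rfl N29401 D104645
theorem N55463 : nd 55463 = n104646 := ndS (p := 29401) (l := 7) rfl N29401 D104646
theorem N55464 : nd 55464 = n104647 := ndS (p := 29402) (l := 2) rfl N29402 D104647
theorem N55465 : nd 55465 = n104648 := ndS (p := 29402) (l := 4) rfl N29402 D104648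
theorem N55466 : nd 55466 = n104649 := ndS (p := 29402) (l := 6) rfl N29402 D104649
theorem N55467 : nd 55467 = n104650 := ndS (p := 29403) (l := 3) rfl N29403 D104650
theorem N55468 : nd 55468 = n104651 := ndS (p := 29403) (l := 6) rfl N29403 D104651
theorem N55469 : nd 55469 = n104652 := ndS (p := 29404) (l := 0) rfl N29404 D104652
theorem N55470 : nd 55470 = n104653 := ndS (p := 29404) (l := 1) rfl N29404 D104653
theorem N55471 : nd 55471 = n104654 := ndS (p := 29404) (l := 7) rfl N29404 D104654
theorem N55472 : nd 55472 = n104657 := ndS (p := 29405) (l := 2) rfl N29405 D104657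
theorem N55473 : nd 55473 = n104658 := ndS (p := 29405) (l := 4) rfl N29405 D104658
theorem N55474 : nd 55474 = n104659 := ndS (p := 29405) (l := 6) rfl N29405 D104659
theorem N55475 : nd 55475 = n104660 := ndS (p := 29406) (l := 3) rfl N29406 D104660
theorem N55476 : nd 55476 = n104662 := ndS (p := 29407) (l := 0) rfl N29407 D104662
theorem N55477 : nd 55477 = n104663 := ndS (p := 29407) (l := 1) rfl N29407 D104663
theorem N55478 : nd 55478 = n104664 := ndS (p := 29407) (l := 7) rfl N29407 D104664
theorem N55479 : nd 55479 = n104665 := ndS (p := 29408) (l := 3) rfl N29408 D104665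
theorem N55480 : nd 55480 = n104666 := ndS (p := 29408) (l := 6) rfl N29408 D104666
theorem N55481 : nd 55481 = n104667 := ndS (p := 29409) (l := 3) rfl N29409 D104667
theorem N55482 : nd 55482 = n104668 := ndS (p := 29409) (l := 6) rfl N29409 D104668
theorem N55483 : nd 55483 = n104670 := ndS (p := 29410) (l := 1) rfl N29410 D104670
theorem N55484 : nd 55484 = n104671 := ndS (p := 29410) (l := 2) rfl N29410 D104671
theorem N55485 : nd 55485 = n104672 := ndS (p := 29410) (l := 5) rfl N29410 D104672
theorem N55486 : nd 55486 = n104680 := ndS (p := 29412) (l := 3) rfl N29412 D104680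
theorem N55487 : nd 55487 = n104683 := ndS (p := 29412) (l := 6) rfl N29412 D104683
theorem N55488 : nd 55488 = n104685 := ndS (p := 29413) (l := 3) rfl N29413 D104685
theorem N55489 : nd 55489 = n104688 := ndS (p := 29413) (l := 6) rfl N29413 D104688
theorem N55490 : nd 55490 = n104693 := ndS (p := 29416) (l := 0) rfl N29416 D104693
theorem N55491 : nd 55491 = n104695 := ndS (p := 29416) (l := 2) rfl N29416 D104695
theorem N55492 : nd 55492 = n104697 := ndS (p := 29417) (l := 1) rfl N29417 D104697
theorem N55493 : nd 55493 = n104698 := ndS (p := 29417) (l := 2) rfl N29417 D104698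
theorem N55494 : nd 55494 = n104702 := ndS (p := 29418) (l := 1) rfl N29418 D104702
theorem N55495 : nd 55495 = n104703 := ndS (p := 29418) (l := 2) rfl N29418 D104703
theorem N55496 : nd 55496 = n104704 := ndS (p := 29418) (l := 5) rfl N29418 D104704
theorem N55497 : nd 55497 = n104705 := ndS (p := 29419) (l := 6) rfl N29419 D104705
theorem N55498 : nd 55498 = n104707 := ndS (p := 29420) (l := 1) rfl N29420 D104707
theorem N55499 : nd 55499 = n104708 := ndS (p := 29420) (l := 2) rfl N29420 D104708
theorem N55500 : nd 55500 = n104710 := ndS (p := 29422) (l := 3) rfl N29422 D104710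
theorem N55501 : nd 55501 = n104711 := ndS (p := 29422) (l := 6) rfl N29422 D104711
theorem N55502 : nd 55502 = n104712 := ndS (p := 29423) (l := 0) rfl N29423 D104712
theorem N55503 : nd 55503 = n104713 := ndS (p := 29423) (l := 1) rfl N29423 D104713
theorem N55504 : nd 55504 = n104715 := ndS (p := 29424) (l := 3) rfl N29424 D104715
theorem N55505 : nd 55505 = n104716 := ndS (p := 29425) (l := 0) rfl N29425 D104716
theorem N55506 : nd 55506 = n104718 := ndS (p := 29425) (l := 2) rfl N29425 D104718
theorem N55507 : nd 55507 = n104719 := ndS (p := 29425) (l := 5) rfl N29425 D104719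
theorem N55508 : nd 55508 = n104720 := ndS (p := 29426) (l := 6) rfl N29426 D104720
theorem N55509 : nd 55509 = n104721 := ndS (p := 29427) (l := 2) rfl N29427 D104721
theorem N55510 : nd 55510 = n104722 := ndS (p := 29427) (l := 5) rfl N29427 D104722
theorem N55511 : nd 55511 = n104724 := ndS (p := 29428) (l := 6) rfl N29428 D104724
theorem N55512 : nd 55512 = n104756 := ndS (p := 29429) (l := 5) rfl N29429 D104756
theorem N55513 : nd 55513 = n104757 := ndS (p := 29430) (l := 5) rfl N29430 D104757
theorem N55514 : nd 55514 = n104758 := ndS (p := 29431) (l := 0) rfl N29431 D104758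
theorem N55515 : nd 55515 = n104759 := ndS (p := 29431) (l := 4) rfl N29431 D104759
theorem N55516 : nd 55516 = n104761 := ndS (p := 29432) (l := 3) rfl N29432 D104761
theorem N55517 : nd 55517 = n104762 := ndS (p := 29432) (l := 6) rfl N29432 D104762
theorem N55518 : nd 55518 = n104763 := ndS (p := 29433) (l := 0) rfl N29433 D104763
theorem N55519 : nd 55519 = n104764 := ndS (p := 29433) (l := 1) rfl N29433 D104764
theorem N55520 : nd 55520 = n104765 := ndS (p := 29433) (l := 7) rfl N29433 D104765
theorem N55521 : nd 55521 = n104769 := ndS (p := 29434) (l := 3) rfl N29434 D104769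
theorem N55522 : nd 55522 = n104770 := ndS (p := 29434) (l := 4) rfl N29434 D104770
theorem N55523 : nd 55523 = n104771 := ndS (p := 29434) (l := 5) rfl N29434 D104771
theorem N55524 : nd 55524 = n104775 := ndS (p := 29435) (l := 4) rfl N29435 D104775
theorem N55525 : nd 55525 = n104776 := ndS (p := 29435) (l := 6) rfl N29435 D104776
theorem N55526 : nd 55526 = n104781 := ndS (p := 29437) (l := 0) rfl N29437 D104781
theorem N55527 : nd 55527 = n104782 := ndS (p := 29437) (l := 1) rfl N29437 D104782
theorem N55528 : nd 55528 = n104785 := ndS (p := 29438) (l := 3) rfl N29438 D104785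
theorem N55529 : nd 55529 = n104786 := ndS (p := 29438) (l := 5) rfl N29438 D104786
theorem N55530 : nd 55530 = n104787 := ndS (p := 29438) (l := 6) rfl N29438 D104787
theorem N55531 : nd 55531 = n104788 := ndS (p := 29439) (l := 5) rfl N29439 D104788
theorem N55532 : nd 55532 = n104790 := ndS (p := 29440) (l := 5) rfl N29440 D104790
theorem N55533 : nd 55533 = n104791 := ndS (p := 29441) (l := 0) rfl N29441 D104791
theorem N55534 : nd 55534 = n104792 := ndS (p := 29441) (l := 1) rfl N29441 D104792
theorem N55535 : nd 55535 = n104793 := ndS (p := 29441) (l := 4) rfl N29441 D104793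
theorem N55536 : nd 55536 = n104794 := ndS (p := 29441) (l := 6) rfl N29441 D104794
theorem N55537 : nd 55537 = n104795 := ndS (p := 29442) (l := 3) rfl N29442 D104795
theorem N55538 : nd 55538 = n104796 := ndS (p := 29442) (l := 6) rfl N29442 D104796
theorem N55539 : nd 55539 = n104797 := ndS (p := 29443) (l := 0) rfl N29443 D104797
theorem N55540 : nd 55540 = n104798 := ndS (p := 29443) (l := 1) rfl N29443 D104798
theorem N55541 : nd 55541 = n104799 := ndS (p := 29443) (l := 7) rfl N29443 D104799
theorem N55542 : nd 55542 = n104800 := ndS (p := 29444) (l := 3) rfl N29444 D104800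
theorem N55543 : nd 55543 = n104801 := ndS (p := 29444) (l := 4) rfl N29444 D104801
theorem N55544 : nd 55544 = n104803 := ndS (p := 29445) (l := 3) rfl N29445 D104803
theorem N55545 : nd 55545 = n104804 := ndS (p := 29445) (l := 5) rfl N29445 D104804
theorem N55546 : nd 55546 = n104805 := ndS (p := 29445) (l := 6) rfl N29445 D104805
theorem N55547 : nd 55547 = n104806 := ndS (p := 29446) (l := 0) rfl N29446 D104806
theorem N55548 : nd 55548 = n104807 := ndS (p := 29446) (l := 1) rfl N29446 D104807
theorem N55549 : nd 55549 = n104809 := ndS (p := 29446) (l := 7) rfl N29446 D104809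
theorem N55550 : nd 55550 = n104811 := ndS (p := 29447) (l := 2) rfl N29447 D104811
theorem N55551 : nd 55551 = n104812 := ndS (p := 29447) (l := 4) rfl N29447 D104812
theorem N55552 : nd 55552 = n104813 := ndS (p := 29447) (l := 6) rfl N29447 D104813
theorem N55553 : nd 55553 = n104814 := ndS (p := 29448) (l := 3) rfl N29448 D104814
theorem N55554 : nd 55554 = n104815 := ndS (p := 29448) (l := 6) rfl N29448 D104815
theorem N55555 : nd 55555 = n104816 := ndS (p := 29449) (l := 0) rfl N29449 D104816
theorem N55556 : nd 55556 = n104817 := ndS (p := 29449) (l := 1) rfl N29449 D104817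
theorem N55557 : nd 55557 = n104818 := ndS (p := 29449) (l := 7) rfl N29449 D104818
theorem N55558 : nd 55558 = n104819 := ndS (p := 29450) (l := 2) rfl N29450 D104819
theorem N55559 : nd 55559 = n104820 := ndS (p := 29450) (l := 4) rfl N29450 D104820
theorem N55560 : nd 55560 = n104821 := ndS (p := 29450) (l := 6) rfl N29450 D104821
theorem N55561 : nd 55561 = n104822 := ndS (p := 29451) (l := 3) rfl N29451 D104822
theorem N55562 : nd 55562 = n104823 := ndS (p := 29451) (l := 6) rfl N29451 D104823
theorem N55563 : nd 55563 = n104824 := ndS (p := 29452) (l := 0) rfl N29452 D104824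
theorem N55564 : nd 55564 = n104826 := ndS (p := 29452) (l := 7) rfl N29452 D104826
theorem N55565 : nd 55565 = n104831 := ndS (p := 29453) (l := 0) rfl N29453 D104831
theorem N55566 : nd 55566 = n104832 := ndS (p := 29453) (l := 1) rfl N29453 D104832
theorem N55567 : nd 55567 = n104833 := ndS (p := 29453) (l := 2) rfl N29453 D104833
theorem N55568 : nd 55568 = n104834 := ndS (p := 29453) (l := 5) rfl N29453 D104834
theorem N55569 : nd 55569 = n104835 := ndS (p := 29453) (l := 6) rfl N29453 D104835
theorem N55570 : nd 55570 = n104836 := ndS (p := 29454) (l := 6) rfl N29454 D104836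
theorem N55571 : nd 55571 = n104839 := ndS (p := 29455) (l := 5) rfl N29455 D104839
theorem N55572 : nd 55572 = n104842 := ndS (p := 29456) (l := 3) rfl N29456 D104842
theorem N55573 : nd 55573 = n104843 := ndS (p := 29456) (l := 4) rfl N29456 D104843
theorem N55574 : nd 55574 = n104844 := ndS (p := 29456) (l := 5) rfl N29456 D104844
theorem N55575 : nd 55575 = n104845 := ndS (p := 29456) (l := 6) rfl N29456 D104845
theorem N55576 : nd 55576 = n104847 := ndS (p := 29457) (l := 3) rfl N29457 D104847
theorem N55577 : nd 55577 = n104848 := ndS (p := 29457) (l := 4) rfl N29457 D104848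
theorem N55578 : nd 55578 = n104849 := ndS (p := 29457) (l := 5) rfl N29457 D104849
theorem N55579 : nd 55579 = n104850 := ndS (p := 29457) (l := 6) rfl N29457 D104850
theorem N55580 : nd 55580 = n104851 := ndS (p := 29458) (l := 0) rfl N29458 D104851
theorem N55581 : nd 55581 = n104852 := ndS (p := 29458) (l := 1) rfl N29458 D104852
theorem N55582 : nd 55582 = n104853 := ndS (p := 29458) (l := 4) rfl N29458 D104853
theorem N55583 : nd 55583 = n104854 := ndS (p := 29458) (l := 7) rfl N29458 D104854
theorem N55584 : nd 55584 = n104855 := ndS (p := 29460) (l := 0) rfl N29460 D104855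
theorem N55585 : nd 55585 = n104857 := ndS (p := 29460) (l := 2) rfl N29460 D104857
theorem N55586 : nd 55586 = n104859 := ndS (p := 29461) (l := 1) rfl N29461 D104859
theorem N55587 : nd 55587 = n104860 := ndS (p := 29461) (l := 2) rfl N29461 D104860
theorem N55588 : nd 55588 = n104861 := ndS (p := 29462) (l := 3) rfl N29462 D104861
theorem N55589 : nd 55589 = n104896 := ndS (p := 29463) (l := 4) rfl N29463 D104896
theorem N55590 : nd 55590 = n104897 := ndS (p := 29463) (l := 6) rfl N29463 D104897
theorem N55591 : nd 55591 = n104965 := ndS (p := 29464) (l := 0) rfl N29464 D104965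
theorem N55592 : nd 55592 = n104966 := ndS (p := 29464) (l := 1) rfl N29464 D104966
theorem N55593 : nd 55593 = n104967 := ndS (p := 29464) (l := 2) rfl N29464 D104967
theorem N55594 : nd 55594 = n104969 := ndS (p := 29464) (l := 6) rfl N29464 D104969
theorem N55595 : nd 55595 = n104971 := ndS (p := 29466) (l := 0) rfl N29466 D104971
theorem N55596 : nd 55596 = n104973 := ndS (p := 29466) (l := 5) rfl N29466 D104973
theorem N55597 : nd 55597 = n104974 := ndS (p := 29466) (l := 7) rfl N29466 D104974
theorem N55598 : nd 55598 = n104978 := ndS (p := 29467) (l := 4) rfl N29467 D104978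
theorem N55599 : nd 55599 = n105041 := ndS (p := 29469) (l := 1) rfl N29469 D105041
theorem N55600 : nd 55600 = n105042 := ndS (p := 29469) (l := 2) rfl N29469 D105042
theorem N55601 : nd 55601 = n105052 := ndS (p := 29470) (l := 3) rfl N29470 D105052
theorem N55602 : nd 55602 = n105053 := ndS (p := 29470) (l := 6) rfl N29470 D105053
theorem N55603 : nd 55603 = n105054 := ndS (p := 29471) (l := 0) rfl N29471 D105054
theorem N55604 : nd 55604 = n105056 := ndS (p := 29471) (l := 5) rfl N29471 D105056
theorem N55605 : nd 55605 = n105057 := ndS (p := 29471) (l := 7) rfl N29471 D105057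
theorem N55606 : nd 55606 = n105066 := ndS (p := 29472) (l := 4) rfl N29472 D105066
theorem N55607 : nd 55607 = n105147 := ndS (p := 29473) (l := 5) rfl N29473 D105147
theorem N55608 : nd 55608 = n105150 := ndS (p := 29474) (l := 6) rfl N29474 D105150
theorem N55609 : nd 55609 = n105169 := ndS (p := 29475) (l := 0) rfl N29475 D105169
theorem N55610 : nd 55610 = n105171 := ndS (p := 29476) (l := 0) rfl N29476 D105171
theorem N55611 : nd 55611 = n105173 := ndS (p := 29476) (l := 7) rfl N29476 D105173
theorem N55612 : nd 55612 = n105174 := ndS (p := 29477) (l := 0) rfl N29477 D105174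
theorem N55613 : nd 55613 = n105175 := ndS (p := 29477) (l := 1) rfl N29477 D105175
theorem N55614 : nd 55614 = n105176 := ndS (p := 29477) (l := 2) rfl N29477 D105176
theorem N55615 : nd 55615 = n105177 := ndS (p := 29477) (l := 5) rfl N29477 D105177
theorem N55616 : nd 55616 = n105178 := ndS (p := 29478) (l := 6) rfl N29478 D105178
theorem N55617 : nd 55617 = n105179 := ndS (p := 29480) (l := 3) rfl N29480 D105179
theorem N55618 : nd 55618 = n105180 := ndS (p := 29480) (l := 5) rfl N29480 D105180
theorem N55619 : nd 55619 = n105181 := ndS (p := 29480) (l := 6) rfl N29480 D105181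
theorem N55620 : nd 55620 = n105183 := ndS (p := 29481) (l := 1) rfl N29481 D105183
theorem N55621 : nd 55621 = n105184 := ndS (p := 29481) (l := 7) rfl N29481 D105184
theorem N55622 : nd 55622 = n105185 := ndS (p := 29483) (l := 0) rfl N29483 D105185
theorem N55623 : nd 55623 = n105186 := ndS (p := 29483) (l := 1) rfl N29483 D105186
theorem N55624 : nd 55624 = n105187 := ndS (p := 29483) (l := 2) rfl N29483 D105187
theorem N55625 : nd 55625 = n105188 := ndS (p := 29483) (l := 6) rfl N29483 D105188
theorem N55626 : nd 55626 = n105192 := ndS (p := 29484) (l := 7) rfl N29484 D105192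
theorem N55627 : nd 55627 = n105194 := ndS (p := 29485) (l := 3) rfl N29485 D105194
theorem N55628 : nd 55628 = n105195 := ndS (p := 29485) (l := 4) rfl N29485 D105195
theorem N55629 : nd 55629 = n105198 := ndS (p := 29486) (l := 4) rfl N29486 D105198
theorem N55630 : nd 55630 = n105199 := ndS (p := 29486) (l := 6) rfl N29486 D105199
theorem N55631 : nd 55631 = n105200 := ndS (p := 29488) (l := 0) rfl N29488 D105200
theorem N55632 : nd 55632 = n105201 := ndS (p := 29488) (l := 1) rfl N29488 D105201
theorem N55633 : nd 55633 = n105202 := ndS (p := 29488) (l := 2) rfl N29488 D105202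
theorem N55634 : nd 55634 = n105203 := ndS (p := 29488) (l := 6) rfl N29488 D105203
theorem N55635 : nd 55635 = n105204 := ndS (p := 29489) (l := 5) rfl N29489 D105204
theorem N55636 : nd 55636 = n105205 := ndS (p := 29489) (l := 7) rfl N29489 D105205
theorem N55637 : nd 55637 = n105206 := ndS (p := 29493) (l := 5) rfl N29493 D105206
theorem N55638 : nd 55638 = n105207 := ndS (p := 29493) (l := 6) rfl N29493 D105207
theorem N55639 : nd 55639 = n105210 := ndS (p := 29494) (l := 7) rfl N29494 D105210
theorem N55640 : nd 55640 = n105213 := ndS (p := 29495) (l := 4) rfl N29495 D105213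
theorem N55641 : nd 55641 = n105214 := ndS (p := 29495) (l := 5) rfl N29495 D105214
theorem N55642 : nd 55642 = n105217 := ndS (p := 29496) (l := 4) rfl N29496 D105217
theorem N55643 : nd 55643 = n105219 := ndS (p := 29496) (l := 6) rfl N29496 D105219
theorem N55644 : nd 55644 = n105222 := ndS (p := 29498) (l := 4) rfl N29498 D105222
theorem N55645 : nd 55645 = n105223 := ndS (p := 29498) (l := 6) rfl N29498 D105223
theorem N55646 : nd 55646 = n105225 := ndS (p := 29499) (l := 3) rfl N29499 D105225
theorem N55647 : nd 55647 = n105226 := ndS (p := 29499) (l := 4) rfl N29499 D105226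
theorem N55648 : nd 55648 = n105227 := ndS (p := 29501) (l := 0) rfl N29501 D105227
theorem N55649 : nd 55649 = n105228 := ndS (p := 29501) (l := 1) rfl N29501 D105228
theorem N55650 : nd 55650 = n105229 := ndS (p := 29501) (l := 2) rfl N29501 D105229
theorem N55651 : nd 55651 = n105230 := ndS (p := 29501) (l := 6) rfl N29501 D105230
theorem N55652 : nd 55652 = n105232 := ndS (p := 29502) (l := 5) rfl N29502 D105232
theorem N55653 : nd 55653 = n105233 := ndS (p := 29502) (l := 7) rfl N29502 D105233
theorem N55654 : nd 55654 = n105234 := ndS (p := 29503) (l := 0) rfl N29503 D105234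
theorem N55655 : nd 55655 = n105235 := ndS (p := 29503) (l := 1) rfl N29503 D105235
theorem N55656 : nd 55656 = n105236 := ndS (p := 29503) (l := 2) rfl N29503 D105236
theorem N55657 : nd 55657 = n105237 := ndS (p := 29503) (l := 5) rfl N29503 D105237
theorem N55658 : nd 55658 = n105238 := ndS (p := 29503) (l := 6) rfl N29503 D105238
theorem N55659 : nd 55659 = n105239 := ndS (p := 29504) (l := 6) rfl N29504 D105239
theorem N55660 : nd 55660 = n105242 := ndS (p := 29505) (l := 5) rfl N29505 D105242
theorem N55661 : nd 55661 = n105243 := ndS (p := 29505) (l := 7) rfl N29505 D105243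
theorem N55662 : nd 55662 = n105244 := ndS (p := 29506) (l := 0) rfl N29506 D105244
theorem N55663 : nd 55663 = n105245 := ndS (p := 29506) (l := 2) rfl N29506 D105245
theorem N55664 : nd 55664 = n105246 := ndS (p := 29506) (l := 3) rfl N29506 D105246
theorem N55665 : nd 55665 = n105247 := ndS (p := 29506) (l := 4) rfl N29506 D105247
theorem N55666 : nd 55666 = n105249 := ndS (p := 29506) (l := 6) rfl N29506 D105249
theorem N55667 : nd 55667 = n105250 := ndS (p := 29506) (l := 7) rfl N29506 D105250
theorem N55668 : nd 55668 = n105251 := ndS (p := 29507) (l := 3) rfl N29507 D105251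
theorem N55669 : nd 55669 = n105252 := ndS (p := 29507) (l := 4) rfl N29507 D105252
theorem N55670 : nd 55670 = n105254 := ndS (p := 29507) (l := 6) rfl N29507 D105254
theorem N55671 : nd 55671 = n105257 := ndS (p := 29508) (l := 5) rfl N29508 D105257
theorem N55672 : nd 55672 = n105258 := ndS (p := 29509) (l := 0) rfl N29509 D105258
theorem N55673 : nd 55673 = n105259 := ndS (p := 29509) (l := 1) rfl N29509 D105259
theorem N55674 : nd 55674 = n105261 := ndS (p := 29509) (l := 6) rfl N29509 D105261
theorem N55675 : nd 55675 = n105262 := ndS (p := 29510) (l := 6) rfl N29510 D105262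
theorem N55676 : nd 55676 = n105263 := ndS (p := 29511) (l := 0) rfl N29511 D105263
theorem N55677 : nd 55677 = n105264 := ndS (p := 29511) (l := 1) rfl N29511 D105264
theorem N55678 : nd 55678 = n105265 := ndS (p := 29511) (l := 7) rfl N29511 D105265
theorem N55679 : nd 55679 = n105268 := ndS (p := 29512) (l := 5) rfl N29512 D105268
theorem N55680 : nd 55680 = n105270 := ndS (p := 29513) (l := 3) rfl N29513 D105270
theorem N55681 : nd 55681 = n105272 := ndS (p := 29513) (l := 5) rfl N29513 D105272
theorem N55682 : nd 55682 = n105273 := ndS (p := 29513) (l := 6) rfl N29513 D105273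
theorem N55683 : nd 55683 = n105277 := ndS (p := 29514) (l := 5) rfl N29514 D105277
theorem N55684 : nd 55684 = n105278 := ndS (p := 29514) (l := 6) rfl N29514 D105278
theorem N55685 : nd 55685 = n105279 := ndS (p := 29515) (l := 6) rfl N29515 D105279
theorem N55686 : nd 55686 = n105280 := ndS (p := 29517) (l := 6) rfl N29517 D105280
theorem N55687 : nd 55687 = n105281 := ndS (p := 29518) (l := 0) rfl N29518 D105281
theorem N55688 : nd 55688 = n105282 := ndS (p := 29518) (l := 1) rfl N29518 D105282
theorem N55689 : nd 55689 = n105283 := ndS (p := 29518) (l := 7) rfl N29518 D105283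
theorem N55690 : nd 55690 = n105284 := ndS (p := 29520) (l := 0) rfl N29520 D105284
theorem N55691 : nd 55691 = n105285 := ndS (p := 29520) (l := 1) rfl N29520 D105285
theorem N55692 : nd 55692 = n105286 := ndS (p := 29520) (l := 2) rfl N29520 D105286
theorem N55693 : nd 55693 = n105287 := ndS (p := 29520) (l := 6) rfl N29520 D105287
theorem N55694 : nd 55694 = n105290 := ndS (p := 29521) (l := 5) rfl N29521 D105290
theorem N55695 : nd 55695 = n105291 := ndS (p := 29521) (l := 7) rfl N29521 D105291
theorem N55696 : nd 55696 = n105298 := ndS (p := 29522) (l := 6) rfl N29522 D105298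
theorem N55697 : nd 55697 = n105299 := ndS (p := 29526) (l := 5) rfl N29526 D105299
theorem N55698 : nd 55698 = n105300 := ndS (p := 29527) (l := 4) rfl N29527 D105300
theorem N55699 : nd 55699 = n105301 := ndS (p := 29527) (l := 6) rfl N29527 D105301
theorem N55700 : nd 55700 = n105302 := ndS (p := 29528) (l := 0) rfl N29528 D105302
theorem N55701 : nd 55701 = n105303 := ndS (p := 29528) (l := 1) rfl N29528 D105303
theorem N55702 : nd 55702 = n105304 := ndS (p := 29528) (l := 5) rfl N29528 D105304
theorem N55703 : nd 55703 = n105305 := ndS (p := 29528) (l := 7) rfl N29528 D105305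
theorem N55704 : nd 55704 = n105306 := ndS (p := 29529) (l := 4) rfl N29529 D105306
theorem N55705 : nd 55705 = n105307 := ndS (p := 29530) (l := 4) rfl N29530 D105307
theorem N55706 : nd 55706 = n105309 := ndS (p := 29531) (l := 0) rfl N29531 D105309
theorem N55707 : nd 55707 = n105310 := ndS (p := 29531) (l := 1) rfl N29531 D105310
theorem N55708 : nd 55708 = n105311 := ndS (p := 29531) (l := 7) rfl N29531 D105311
theorem N55709 : nd 55709 = n105312 := ndS (p := 29532) (l := 4) rfl N29532 D105312
theorem N55710 : nd 55710 = n105313 := ndS (p := 29532) (l := 6) rfl N29532 D105313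
theorem N55711 : nd 55711 = n105314 := ndS (p := 29533) (l := 0) rfl N29533 D105314
theorem N55712 : nd 55712 = n105315 := ndS (p := 29533) (l := 1) rfl N29533 D105315
theorem N55713 : nd 55713 = n105316 := ndS (p := 29533) (l := 7) rfl N29533 D105316
theorem N55714 : nd 55714 = n105317 := ndS (p := 29534) (l := 0) rfl N29534 D105317
theorem N55715 : nd 55715 = n105318 := ndS (p := 29534) (l := 1) rfl N29534 D105318
theorem N55716 : nd 55716 = n105319 := ndS (p := 29534) (l := 7) rfl N29534 D105319
theorem N55717 : nd 55717 = n105320 := ndS (p := 29535) (l := 4) rfl N29535 D105320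
theorem N55718 : nd 55718 = n105321 := ndS (p := 29536) (l := 4) rfl N29536 D105321
theorem N55719 : nd 55719 = n105322 := ndS (p := 29536) (l := 6) rfl N29536 D105322
theorem N55720 : nd 55720 = n105323 := ndS (p := 29537) (l := 4) rfl N29537 D105323
theorem N55721 : nd 55721 = n105324 := ndS (p := 29537) (l := 6) rfl N29537 D105324
theorem N55722 : nd 55722 = n105325 := ndS (p := 29538) (l := 3) rfl N29538 D105325
theorem N55723 : nd 55723 = n105326 := ndS (p := 29538) (l := 4) rfl N29538 D105326
theorem N55724 : nd 55724 = n105327 := ndS (p := 29538) (l := 6) rfl N29538 D105327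
theorem N55725 : nd 55725 = n105328 := ndS (p := 29539) (l := 0) rfl N29539 D105328
theorem N55726 : nd 55726 = n105329 := ndS (p := 29539) (l := 1) rfl N29539 D105329
theorem N55727 : nd 55727 = n105330 := ndS (p := 29539) (l := 3) rfl N29539 D105330
theorem N55728 : nd 55728 = n105331 := ndS (p := 29539) (l := 5) rfl N29539 D105331
theorem N55729 : nd 55729 = n105332 := ndS (p := 29539) (l := 6) rfl N29539 D105332
theorem N55730 : nd 55730 = n105333 := ndS (p := 29539) (l := 7) rfl N29539 D105333
theorem N55731 : nd 55731 = n105334 := ndS (p := 29540) (l := 0) rfl N29540 D105334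
theorem N55732 : nd 55732 = n105335 := ndS (p := 29540) (l := 1) rfl N29540 D105335
theorem N55733 : nd 55733 = n105336 := ndS (p := 29540) (l := 7) rfl N29540 D105336
theorem N55734 : nd 55734 = n105337 := ndS (p := 29541) (l := 6) rfl N29541 D105337
theorem N55735 : nd 55735 = n105338 := ndS (p := 29542) (l := 2) rfl N29542 D105338
theorem N55736 : nd 55736 = n105339 := ndS (p := 29542) (l := 4) rfl N29542 D105339
theorem N55737 : nd 55737 = n105340 := ndS (p := 29542) (l := 6) rfl N29542 D105340
theorem N55738 : nd 55738 = n105342 := ndS (p := 29543) (l := 1) rfl N29543 D105342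
theorem N55739 : nd 55739 = n105343 := ndS (p := 29543) (l := 5) rfl N29543 D105343
theorem N55740 : nd 55740 = n105344 := ndS (p := 29543) (l := 7) rfl N29543 D105344
theorem N55741 : nd 55741 = n105345 := ndS (p := 29544) (l := 4) rfl N29544 D105345
theorem N55742 : nd 55742 = n105346 := ndS (p := 29544) (l := 6) rfl N29544 D105346
theorem N55743 : nd 55743 = n105347 := ndS (p := 29545) (l := 0) rfl N29545 D105347
theorem N55744 : nd 55744 = n105348 := ndS (p := 29545) (l := 1) rfl N29545 D105348
theorem N55745 : nd 55745 = n105349 := ndS (p := 29545) (l := 7) rfl N29545 D105349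
theorem N55746 : nd 55746 = n105350 := ndS (p := 29546) (l := 0) rfl N29546 D105350
theorem N55747 : nd 55747 = n105351 := ndS (p := 29546) (l := 1) rfl N29546 D105351
theorem N55748 : nd 55748 = n105352 := ndS (p := 29546) (l := 2) rfl N29546 D105352
theorem N55749 : nd 55749 = n105353 := ndS (p := 29546) (l := 6) rfl N29546 D105353
theorem N55750 : nd 55750 = n105354 := ndS (p := 29547) (l := 0) rfl N29547 D105354
theorem N55751 : nd 55751 = n105355 := ndS (p := 29547) (l := 1) rfl N29547 D105355
theorem N55752 : nd 55752 = n105356 := ndS (p := 29547) (l := 5) rfl N29547 D105356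
theorem N55753 : nd 55753 = n105357 := ndS (p := 29547) (l := 7) rfl N29547 D105357
theorem N55754 : nd 55754 = n105359 := ndS (p := 29548) (l := 3) rfl N29548 D105359
theorem N55755 : nd 55755 = n105360 := ndS (p := 29548) (l := 4) rfl N29548 D105360
theorem N55756 : nd 55756 = n105361 := ndS (p := 29548) (l := 5) rfl N29548 D105361
theorem N55757 : nd 55757 = n105362 := ndS (p := 29548) (l := 6) rfl N29548 D105362
theorem N55758 : nd 55758 = n105364 := ndS (p := 29549) (l := 3) rfl N29549 D105364
theorem N55759 : nd 55759 = n105365 := ndS (p := 29549) (l := 4) rfl N29549 D105365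
theorem N55760 : nd 55760 = n105367 := ndS (p := 29550) (l := 6) rfl N29550 D105367
theorem N55761 : nd 55761 = n105368 := ndS (p := 29551) (l := 0) rfl N29551 D105368
theorem N55762 : nd 55762 = n105369 := ndS (p := 29551) (l := 1) rfl N29551 D105369
theorem N55763 : nd 55763 = n105370 := ndS (p := 29553) (l := 5) rfl N29553 D105370
theorem N55764 : nd 55764 = n105371 := ndS (p := 29554) (l := 6) rfl N29554 D105371
theorem N55765 : nd 55765 = n105372 := ndS (p := 29555) (l := 4) rfl N29555 D105372
theorem N55766 : nd 55766 = n105373 := ndS (p := 29555) (l := 6) rfl N29555 D105373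
theorem N55767 : nd 55767 = n105375 := ndS (p := 29557) (l := 5) rfl N29557 D105375
theorem N55768 : nd 55768 = n105376 := ndS (p := 29557) (l := 6) rfl N29557 D105376
theorem N55769 : nd 55769 = n105378 := ndS (p := 29558) (l := 3) rfl N29558 D105378
theorem N55770 : nd 55770 = n105379 := ndS (p := 29558) (l := 5) rfl N29558 D105379
theorem N55771 : nd 55771 = n105380 := ndS (p := 29558) (l := 6) rfl N29558 D105380
theorem N55772 : nd 55772 = n105381 := ndS (p := 29561) (l := 5) rfl N29561 D105381
theorem N55773 : nd 55773 = n105382 := ndS (p := 29562) (l := 6) rfl N29562 D105382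
theorem N55774 : nd 55774 = n105383 := ndS (p := 29563) (l := 0) rfl N29563 D105383
theorem N55775 : nd 55775 = n105384 := ndS (p := 29563) (l := 6) rfl N29563 D105384
theorem N55776 : nd 55776 = n105385 := ndS (p := 29564) (l := 0) rfl N29564 D105385
theorem N55777 : nd 55777 = n105387 := ndS (p := 29564) (l := 7) rfl N29564 D105387
theorem N55778 : nd 55778 = n105390 := ndS (p := 29565) (l := 5) rfl N29565 D105390
theorem N55779 : nd 55779 = n105393 := ndS (p := 29566) (l := 5) rfl N29566 D105393
theorem N55780 : nd 55780 = n105394 := ndS (p := 29566) (l := 6) rfl N29566 D105394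
theorem N55781 : nd 55781 = n105395 := ndS (p := 29571) (l := 6) rfl N29571 D105395
theorem N55782 : nd 55782 = n105396 := ndS (p := 29572) (l := 4) rfl N29572 D105396
theorem N55783 : nd 55783 = n105398 := ndS (p := 29573) (l := 0) rfl N29573 D105398
theorem N55784 : nd 55784 = n105399 := ndS (p := 29573) (l := 1) rfl N29573 D105399
theorem N55785 : nd 55785 = n105400 := ndS (p := 29573) (l := 7) rfl N29573 D105400
theorem N55786 : nd 55786 = n105402 := ndS (p := 29574) (l := 5) rfl N29574 D105402
theorem N55787 : nd 55787 = n105403 := ndS (p := 29574) (l := 6) rfl N29574 D105403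
theorem N55788 : nd 55788 = n105405 := ndS (p := 29575) (l := 5) rfl N29575 D105405
theorem N55789 : nd 55789 = n105406 := ndS (p := 29575) (l := 6) rfl N29575 D105406
theorem N55790 : nd 55790 = n105407 := ndS (p := 29576) (l := 0) rfl N29576 D105407
theorem N55791 : nd 55791 = n105408 := ndS (p := 29576) (l := 4) rfl N29576 D105408
theorem N55792 : nd 55792 = n105409 := ndS (p := 29576) (l := 7) rfl N29576 D105409
theorem N55793 : nd 55793 = n105410 := ndS (p := 29578) (l := 3) rfl N29578 D105410
theorem N55794 : nd 55794 = n105413 := ndS (p := 29579) (l := 5) rfl N29579 D105413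
theorem N55795 : nd 55795 = n105414 := ndS (p := 29579) (l := 7) rfl N29579 D105414
theorem N55796 : nd 55796 = n105415 := ndS (p := 29580) (l := 4) rfl N29580 D105415
theorem N55797 : nd 55797 = n105416 := ndS (p := 29582) (l := 4) rfl N29582 D105416
theorem N55798 : nd 55798 = n105417 := ndS (p := 29582) (l := 6) rfl N29582 D105417
theorem N55799 : nd 55799 = n105421 := ndS (p := 29585) (l := 5) rfl N29585 D105421
theorem N55800 : nd 55800 = n105424 := ndS (p := 29587) (l := 6) rfl N29587 D105424
theorem N55801 : nd 55801 = n105425 := ndS (p := 29588) (l := 0) rfl N29588 D105425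
theorem N55802 : nd 55802 = n105426 := ndS (p := 29588) (l := 1) rfl N29588 D105426
theorem N55803 : nd 55803 = n105427 := ndS (p := 29588) (l := 7) rfl N29588 D105427
theorem N55804 : nd 55804 = n105428 := ndS (p := 29590) (l := 6) rfl N29590 D105428
theorem N55805 : nd 55805 = n105429 := ndS (p := 29591) (l := 6) rfl N29591 D105429
theorem N55806 : nd 55806 = n105431 := ndS (p := 29592) (l := 1) rfl N29592 D105431
theorem N55807 : nd 55807 = n105432 := ndS (p := 29592) (l := 7) rfl N29592 D105432
theorem N55808 : nd 55808 = n105434 := ndS (p := 29594) (l := 6) rfl N29594 D105434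
theorem N55809 : nd 55809 = n105435 := ndS (p := 29595) (l := 0) rfl N29595 D105435
theorem N55810 : nd 55810 = n105436 := ndS (p := 29595) (l := 1) rfl N29595 D105436
theorem N55811 : nd 55811 = n105437 := ndS (p := 29595) (l := 5) rfl N29595 D105437
theorem N55812 : nd 55812 = n105438 := ndS (p := 29595) (l := 7) rfl N29595 D105438
theorem N55813 : nd 55813 = n105440 := ndS (p := 29596) (l := 3) rfl N29596 D105440
theorem N55814 : nd 55814 = n105442 := ndS (p := 29596) (l := 5) rfl N29596 D105442
theorem N55815 : nd 55815 = n105443 := ndS (p := 29596) (l := 6) rfl N29596 D105443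
theorem N55816 : nd 55816 = n105445 := ndS (p := 29597) (l := 3) rfl N29597 D105445
theorem N55817 : nd 55817 = n105446 := ndS (p := 29597) (l := 4) rfl N29597 D105446
theorem N55818 : nd 55818 = n105447 := ndS (p := 29597) (l := 5) rfl N29597 D105447
theorem N55819 : nd 55819 = n105448 := ndS (p := 29597) (l := 6) rfl N29597 D105448
theorem N55820 : nd 55820 = n105449 := ndS (p := 29599) (l := 0) rfl N29599 D105449
theorem N55821 : nd 55821 = n105451 := ndS (p := 29599) (l := 2) rfl N29599 D105451
theorem N55822 : nd 55822 = n105453 := ndS (p := 29599) (l := 5) rfl N29599 D105453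
theorem N55823 : nd 55823 = n105454 := ndS (p := 29599) (l := 6) rfl N29599 D105454
theorem N55824 : nd 55824 = n105460 := ndS (p := 29600) (l := 0) rfl N29600 D105460
theorem N55825 : nd 55825 = n105461 := ndS (p := 29600) (l := 1) rfl N29600 D105461
theorem N55826 : nd 55826 = n105462 := ndS (p := 29600) (l := 4) rfl N29600 D105462
theorem N55827 : nd 55827 = n105463 := ndS (p := 29600) (l := 6) rfl N29600 D105463
theorem N55828 : nd 55828 = n105465 := ndS (p := 29601) (l := 1) rfl N29601 D105465
theorem N55829 : nd 55829 = n105466 := ndS (p := 29601) (l := 7) rfl N29601 D105466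
theorem N55830 : nd 55830 = n105470 := ndS (p := 29602) (l := 4) rfl N29602 D105470
theorem N55831 : nd 55831 = n105471 := ndS (p := 29602) (l := 5) rfl N29602 D105471
theorem N55832 : nd 55832 = n105472 := ndS (p := 29602) (l := 6) rfl N29602 D105472
theorem N55833 : nd 55833 = n105475 := ndS (p := 29603) (l := 4) rfl N29603 D105475
theorem N55834 : nd 55834 = n105476 := ndS (p := 29604) (l := 5) rfl N29604 D105476
theorem N55835 : nd 55835 = n105477 := ndS (p := 29605) (l := 3) rfl N29605 D105477
theorem N55836 : nd 55836 = n105478 := ndS (p := 29605) (l := 5) rfl N29605 D105478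
theorem N55837 : nd 55837 = n105479 := ndS (p := 29605) (l := 6) rfl N29605 D105479
theorem N55838 : nd 55838 = n105480 := ndS (p := 29606) (l := 3) rfl N29606 D105480
theorem N55839 : nd 55839 = n105481 := ndS (p := 29606) (l := 5) rfl N29606 D105481
theorem N55840 : nd 55840 = n105482 := ndS (p := 29606) (l := 6) rfl N29606 D105482
theorem N55841 : nd 55841 = n105483 := ndS (p := 29607) (l := 0) rfl N29607 D105483
theorem N55842 : nd 55842 = n105484 := ndS (p := 29607) (l := 1) rfl N29607 D105484
theorem N55843 : nd 55843 = n105485 := ndS (p := 29607) (l := 2) rfl N29607 D105485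
theorem N55844 : nd 55844 = n105486 := ndS (p := 29607) (l := 5) rfl N29607 D105486
theorem N55845 : nd 55845 = n105487 := ndS (p := 29608) (l := 0) rfl N29608 D105487
theorem N55846 : nd 55846 = n105488 := ndS (p := 29608) (l := 1) rfl N29608 D105488
theorem N55847 : nd 55847 = n105489 := ndS (p := 29608) (l := 6) rfl N29608 D105489
theorem N55848 : nd 55848 = n105490 := ndS (p := 29609) (l := 0) rfl N29609 D105490
theorem N55849 : nd 55849 = n105491 := ndS (p := 29609) (l := 1) rfl N29609 D105491
theorem N55850 : nd 55850 = n105492 := ndS (p := 29609) (l := 2) rfl N29609 D105492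
theorem N55851 : nd 55851 = n105493 := ndS (p := 29609) (l := 5) rfl N29609 D105493
theorem N55852 : nd 55852 = n105494 := ndS (p := 29610) (l := 4) rfl N29610 D105494
theorem N55853 : nd 55853 = n105495 := ndS (p := 29610) (l := 6) rfl N29610 D105495
theorem N55854 : nd 55854 = n105496 := ndS (p := 29611) (l := 3) rfl N29611 D105496
theorem N55855 : nd 55855 = n105497 := ndS (p := 29611) (l := 5) rfl N29611 D105497
theorem N55856 : nd 55856 = n105498 := ndS (p := 29611) (l := 6) rfl N29611 D105498
theorem N55857 : nd 55857 = n105499 := ndS (p := 29613) (l := 3) rfl N29613 D105499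
theorem N55858 : nd 55858 = n105500 := ndS (p := 29613) (l := 5) rfl N29613 D105500
theorem N55859 : nd 55859 = n105501 := ndS (p := 29613) (l := 6) rfl N29613 D105501
theorem N55860 : nd 55860 = n105502 := ndS (p := 29615) (l := 3) rfl N29615 D105502
theorem N55861 : nd 55861 = n105503 := ndS (p := 29615) (l := 5) rfl N29615 D105503
theorem N55862 : nd 55862 = n105504 := ndS (p := 29615) (l := 6) rfl N29615 D105504
theorem N55863 : nd 55863 = n105506 := ndS (p := 29616) (l := 1) rfl N29616 D105506
theorem N55864 : nd 55864 = n105507 := ndS (p := 29616) (l := 7) rfl N29616 D105507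
theorem N55865 : nd 55865 = n105508 := ndS (p := 29617) (l := 5) rfl N29617 D105508
theorem N55866 : nd 55866 = n105509 := ndS (p := 29617) (l := 6) rfl N29617 D105509
theorem N55867 : nd 55867 = n105510 := ndS (p := 29618) (l := 0) rfl N29618 D105510
theorem N55868 : nd 55868 = n105512 := ndS (p := 29618) (l := 7) rfl N29618 D105512
theorem N55869 : nd 55869 = n105513 := ndS (p := 29619) (l := 0) rfl N29619 D105513
theorem N55870 : nd 55870 = n105514 := ndS (p := 29619) (l := 1) rfl N29619 D105514
theorem N55871 : nd 55871 = n105515 := ndS (p := 29619) (l := 2) rfl N29619 D105515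
theorem N55872 : nd 55872 = n105516 := ndS (p := 29619) (l := 5) rfl N29619 D105516
theorem N55873 : nd 55873 = n105517 := ndS (p := 29619) (l := 7) rfl N29619 D105517
theorem N55874 : nd 55874 = n105518 := ndS (p := 29620) (l := 6) rfl N29620 D105518
theorem N55875 : nd 55875 = n105519 := ndS (p := 29621) (l := 6) rfl N29621 D105519
theorem N55876 : nd 55876 = n105520 := ndS (p := 29623) (l := 3) rfl N29623 D105520
theorem N55877 : nd 55877 = n105521 := ndS (p := 29623) (l := 6) rfl N29623 D105521
theorem N55878 : nd 55878 = n105522 := ndS (p := 29624) (l := 7) rfl N29624 D105522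
theorem N55879 : nd 55879 = n105523 := ndS (p := 29625) (l := 3) rfl N29625 D105523
theorem N55880 : nd 55880 = n105524 := ndS (p := 29625) (l := 6) rfl N29625 D105524
theorem N55881 : nd 55881 = n105526 := ndS (p := 29626) (l := 1) rfl N29626 D105526
theorem N55882 : nd 55882 = n105527 := ndS (p := 29626) (l := 7) rfl N29626 D105527
theorem N55883 : nd 55883 = n105528 := ndS (p := 29628) (l := 3) rfl N29628 D105528
theorem N55884 : nd 55884 = n105529 := ndS (p := 29628) (l := 5) rfl N29628 D105529
theorem N55885 : nd 55885 = n105530 := ndS (p := 29628) (l := 6) rfl N29628 D105530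
theorem N55886 : nd 55886 = n105531 := ndS (p := 29629) (l := 0) rfl N29629 D105531
theorem N55887 : nd 55887 = n105532 := ndS (p := 29629) (l := 1) rfl N29629 D105532
theorem N55888 : nd 55888 = n105533 := ndS (p := 29629) (l := 7) rfl N29629 D105533
theorem N55889 : nd 55889 = n105534 := ndS (p := 29630) (l := 3) rfl N29630 D105534
theorem N55890 : nd 55890 = n105535 := ndS (p := 29630) (l := 5) rfl N29630 D105535
theorem N55891 : nd 55891 = n105536 := ndS (p := 29630) (l := 6) rfl N29630 D105536
theorem N55892 : nd 55892 = n105537 := ndS (p := 29631) (l := 3) rfl N29631 D105537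
theorem N55893 : nd 55893 = n105538 := ndS (p := 29631) (l := 5) rfl N29631 D105538
theorem N55894 : nd 55894 = n105539 := ndS (p := 29631) (l := 6) rfl N29631 D105539
theorem N55895 : nd 55895 = n105540 := ndS (p := 29632) (l := 0) rfl N29632 D105540
theorem N55896 : nd 55896 = n105541 := ndS (p := 29632) (l := 1) rfl N29632 D105541
theorem N55897 : nd 55897 = n105542 := ndS (p := 29632) (l := 2) rfl N29632 D105542
theorem N55898 : nd 55898 = n105543 := ndS (p := 29632) (l := 5) rfl N29632 D105543
theorem N55899 : nd 55899 = n105544 := ndS (p := 29632) (l := 6) rfl N29632 D105544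
theorem N55900 : nd 55900 = n105545 := ndS (p := 29633) (l := 0) rfl N29633 D105545
theorem N55901 : nd 55901 = n105546 := ndS (p := 29633) (l := 6) rfl N29633 D105546
theorem N55902 : nd 55902 = n105547 := ndS (p := 29634) (l := 0) rfl N29634 D105547
theorem N55903 : nd 55903 = n105548 := ndS (p := 29634) (l := 1) rfl N29634 D105548
theorem N55904 : nd 55904 = n105549 := ndS (p := 29634) (l := 5) rfl N29634 D105549
theorem N55905 : nd 55905 = n105550 := ndS (p := 29634) (l := 7) rfl N29634 D105550
theorem N55906 : nd 55906 = n105551 := ndS (p := 29635) (l := 4) rfl N29635 D105551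
theorem N55907 : nd 55907 = n105552 := ndS (p := 29636) (l := 0) rfl N29636 D105552
theorem N55908 : nd 55908 = n105553 := ndS (p := 29636) (l := 4) rfl N29636 D105553
theorem N55909 : nd 55909 = n105554 := ndS (p := 29636) (l := 7) rfl N29636 D105554
theorem N55910 : nd 55910 = n105555 := ndS (p := 29638) (l := 5) rfl N29638 D105555
theorem N55911 : nd 55911 = n105556 := ndS (p := 29639) (l := 3) rfl N29639 D105556
theorem N55912 : nd 55912 = n105557 := ndS (p := 29639) (l := 6) rfl N29639 D105557
theorem N55913 : nd 55913 = n105558 := ndS (p := 29640) (l := 7) rfl N29640 D105558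
theorem N55914 : nd 55914 = n105559 := ndS (p := 29641) (l := 0) rfl N29641 D105559
theorem N55915 : nd 55915 = n105560 := ndS (p := 29641) (l := 1) rfl N29641 D105560
theorem N55916 : nd 55916 = n105561 := ndS (p := 29641) (l := 2) rfl N29641 D105561
theorem N55917 : nd 55917 = n105562 := ndS (p := 29641) (l := 5) rfl N29641 D105562
theorem N55918 : nd 55918 = n105563 := ndS (p := 29641) (l := 6) rfl N29641 D105563
theorem N55919 : nd 55919 = n105564 := ndS (p := 29642) (l := 6) rfl N29642 D105564
theorem N55920 : nd 55920 = n105565 := ndS (p := 29643) (l := 0) rfl N29643 D105565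
theorem N55921 : nd 55921 = n105566 := ndS (p := 29643) (l := 1) rfl N29643 D105566
theorem N55922 : nd 55922 = n105567 := ndS (p := 29643) (l := 5) rfl N29643 D105567
theorem N55923 : nd 55923 = n105568 := ndS (p := 29643) (l := 7) rfl N29643 D105568
theorem N55924 : nd 55924 = n105569 := ndS (p := 29644) (l := 4) rfl N29644 D105569
theorem N55925 : nd 55925 = n105570 := ndS (p := 29646) (l := 7) rfl N29646 D105570
theorem N55926 : nd 55926 = n105571 := ndS (p := 29647) (l := 3) rfl N29647 D105571
theorem N55927 : nd 55927 = n105572 := ndS (p := 29647) (l := 6) rfl N29647 D105572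
theorem N55928 : nd 55928 = n105573 := ndS (p := 29648) (l := 0) rfl N29648 D105573
theorem N55929 : nd 55929 = n105574 := ndS (p := 29648) (l := 1) rfl N29648 D105574
theorem N55930 : nd 55930 = n105575 := ndS (p := 29648) (l := 2) rfl N29648 D105575
theorem N55931 : nd 55931 = n105576 := ndS (p := 29648) (l := 5) rfl N29648 D105576
theorem N55932 : nd 55932 = n105577 := ndS (p := 29648) (l := 6) rfl N29648 D105577
theorem N55933 : nd 55933 = n105578 := ndS (p := 29649) (l := 1) rfl N29649 D105578
theorem N55934 : nd 55934 = n105579 := ndS (p := 29649) (l := 6) rfl N29649 D105579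
theorem N55935 : nd 55935 = n105580 := ndS (p := 29650) (l := 0) rfl N29650 D105580
theorem N55936 : nd 55936 = n105581 := ndS (p := 29650) (l := 1) rfl N29650 D105581
theorem N55937 : nd 55937 = n105583 := ndS (p := 29650) (l := 7) rfl N29650 D105583
theorem N55938 : nd 55938 = n105584 := ndS (p := 29651) (l := 4) rfl N29651 D105584
theorem N55939 : nd 55939 = n105585 := ndS (p := 29651) (l := 5) rfl N29651 D105585
theorem N55940 : nd 55940 = n105586 := ndS (p := 29652) (l := 4) rfl N29652 D105586
theorem N55941 : nd 55941 = n105587 := ndS (p := 29652) (l := 6) rfl N29652 D105587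
theorem N55942 : nd 55942 = n105590 := ndS (p := 29654) (l := 7) rfl N29654 D105590
theorem N55943 : nd 55943 = n105591 := ndS (p := 29655) (l := 0) rfl N29655 D105591
theorem N55944 : nd 55944 = n105592 := ndS (p := 29655) (l := 1) rfl N29655 D105592
theorem N55945 : nd 55945 = n105593 := ndS (p := 29655) (l := 2) rfl N29655 D105593
theorem N55946 : nd 55946 = n105594 := ndS (p := 29655) (l := 5) rfl N29655 D105594
theorem N55947 : nd 55947 = n105595 := ndS (p := 29655) (l := 6) rfl N29655 D105595
theorem N55948 : nd 55948 = n105596 := ndS (p := 29656) (l := 6) rfl N29656 D105596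
theorem N55949 : nd 55949 = n105597 := ndS (p := 29657) (l := 0) rfl N29657 D105597
theorem N55950 : nd 55950 = n105598 := ndS (p := 29657) (l := 1) rfl N29657 D105598
theorem N55951 : nd 55951 = n105599 := ndS (p := 29657) (l := 5) rfl N29657 D105599
theorem N55952 : nd 55952 = n105600 := ndS (p := 29657) (l := 7) rfl N29657 D105600
theorem N55953 : nd 55953 = n105603 := ndS (p := 29658) (l := 4) rfl N29658 D105603
theorem N55954 : nd 55954 = n105604 := ndS (p := 29658) (l := 6) rfl N29658 D105604
theorem N55955 : nd 55955 = n105607 := ndS (p := 29659) (l := 4) rfl N29659 D105607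
theorem N55956 : nd 55956 = n105608 := ndS (p := 29660) (l := 4) rfl N29660 D105608
theorem N55957 : nd 55957 = n105609 := ndS (p := 29662) (l := 0) rfl N29662 D105609
theorem N55958 : nd 55958 = n105610 := ndS (p := 29662) (l := 1) rfl N29662 D105610
theorem N55959 : nd 55959 = n105611 := ndS (p := 29662) (l := 2) rfl N29662 D105611
theorem N55960 : nd 55960 = n105612 := ndS (p := 29662) (l := 5) rfl N29662 D105612
theorem N55961 : nd 55961 = n105613 := ndS (p := 29662) (l := 6) rfl N29662 D105613
theorem N55962 : nd 55962 = n105614 := ndS (p := 29663) (l := 6) rfl N29663 D105614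
theorem N55963 : nd 55963 = n105615 := ndS (p := 29664) (l := 5) rfl N29664 D105615
theorem N55964 : nd 55964 = n105616 := ndS (p := 29664) (l := 7) rfl N29664 D105616
theorem N55965 : nd 55965 = n105617 := ndS (p := 29665) (l := 0) rfl N29665 D105617
theorem N55966 : nd 55966 = n105618 := ndS (p := 29665) (l := 1) rfl N29665 D105618
theorem N55967 : nd 55967 = n105619 := ndS (p := 29665) (l := 2) rfl N29665 D105619
theorem N55968 : nd 55968 = n105620 := ndS (p := 29665) (l := 5) rfl N29665 D105620
theorem N55969 : nd 55969 = n105621 := ndS (p := 29665) (l := 6) rfl N29665 D105621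
theorem N55970 : nd 55970 = n105622 := ndS (p := 29666) (l := 6) rfl N29666 D105622
theorem N55971 : nd 55971 = n105625 := ndS (p := 29667) (l := 5) rfl N29667 D105625
theorem N55972 : nd 55972 = n105626 := ndS (p := 29667) (l := 7) rfl N29667 D105626
theorem N55973 : nd 55973 = n105627 := ndS (p := 29668) (l := 3) rfl N29668 D105627
theorem N55974 : nd 55974 = n105628 := ndS (p := 29668) (l := 5) rfl N29668 D105628
theorem N55975 : nd 55975 = n105629 := ndS (p := 29668) (l := 6) rfl N29668 D105629
theorem N55976 : nd 55976 = n105630 := ndS (p := 29669) (l := 3) rfl N29669 D105630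
theorem N55977 : nd 55977 = n105631 := ndS (p := 29669) (l := 5) rfl N29669 D105631
theorem N55978 : nd 55978 = n105632 := ndS (p := 29669) (l := 6) rfl N29669 D105632
theorem N55979 : nd 55979 = n105633 := ndS (p := 29670) (l := 5) rfl N29670 D105633
theorem N55980 : nd 55980 = n105634 := ndS (p := 29671) (l := 0) rfl N29671 D105634
theorem N55981 : nd 55981 = n105635 := ndS (p := 29671) (l := 1) rfl N29671 D105635
theorem N55982 : nd 55982 = n105636 := ndS (p := 29671) (l := 4) rfl N29671 D105636
theorem N55983 : nd 55983 = n105638 := ndS (p := 29672) (l := 3) rfl N29672 D105638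
theorem N55984 : nd 55984 = n105639 := ndS (p := 29672) (l := 6) rfl N29672 D105639
theorem N55985 : nd 55985 = n105640 := ndS (p := 29673) (l := 3) rfl N29673 D105640
theorem N55986 : nd 55986 = n105641 := ndS (p := 29673) (l := 6) rfl N29673 D105641
theorem N55987 : nd 55987 = n105642 := ndS (p := 29674) (l := 3) rfl N29674 D105642
theorem N55988 : nd 55988 = n105643 := ndS (p := 29674) (l := 6) rfl N29674 D105643
theorem N55989 : nd 55989 = n105644 := ndS (p := 29675) (l := 0) rfl N29675 D105644
theorem N55990 : nd 55990 = n105645 := ndS (p := 29675) (l := 1) rfl N29675 D105645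
theorem N55991 : nd 55991 = n105646 := ndS (p := 29675) (l := 7) rfl N29675 D105646
theorem N55992 : nd 55992 = n105647 := ndS (p := 29676) (l := 6) rfl N29676 D105647
theorem N55993 : nd 55993 = n105648 := ndS (p := 29677) (l := 0) rfl N29677 D105648
theorem N55994 : nd 55994 = n105649 := ndS (p := 29677) (l := 1) rfl N29677 D105649
theorem N55995 : nd 55995 = n105650 := ndS (p := 29677) (l := 5) rfl N29677 D105650
theorem N55996 : nd 55996 = n105652 := ndS (p := 29678) (l := 3) rfl N29678 D105652
theorem N55997 : nd 55997 = n105653 := ndS (p := 29678) (l := 4) rfl N29678 D105653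
theorem N55998 : nd 55998 = n105654 := ndS (p := 29678) (l := 6) rfl N29678 D105654
theorem N55999 : nd 55999 = n105657 := ndS (p := 29679) (l := 4) rfl N29679 D105657
theorem N56000 : nd 56000 = n105658 := ndS (p := 29680) (l := 6) rfl N29680 D105658
theorem N56001 : nd 56001 = n105659 := ndS (p := 29681) (l := 0) rfl N29681 D105659
theorem N56002 : nd 56002 = n105660 := ndS (p := 29681) (l := 1) rfl N29681 D105660
theorem N56003 : nd 56003 = n105661 := ndS (p := 29681) (l := 5) rfl N29681 D105661
theorem N56004 : nd 56004 = n105662 := ndS (p := 29681) (l := 7) rfl N29681 D105662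
theorem N56005 : nd 56005 = n105663 := ndS (p := 29682) (l := 3) rfl N29682 D105663
theorem N56006 : nd 56006 = n105664 := ndS (p := 29682) (l := 4) rfl N29682 D105664
theorem N56007 : nd 56007 = n105665 := ndS (p := 29682) (l := 5) rfl N29682 D105665
theorem N56008 : nd 56008 = n105666 := ndS (p := 29683) (l := 3) rfl N29683 D105666
theorem N56009 : nd 56009 = n105667 := ndS (p := 29683) (l := 4) rfl N29683 D105667
theorem N56010 : nd 56010 = n105668 := ndS (p := 29683) (l := 6) rfl N29683 D105668
theorem N56011 : nd 56011 = n105669 := ndS (p := 29685) (l := 5) rfl N29685 D105669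
theorem N56012 : nd 56012 = n105678 := ndS (p := 29689) (l := 4) rfl N29689 D105678
theorem N56013 : nd 56013 = n105687 := ndS (p := 29690) (l := 5) rfl N29690 D105687
theorem N56014 : nd 56014 = n105688 := ndS (p := 29690) (l := 6) rfl N29690 D105688
theorem N56015 : nd 56015 = n105691 := ndS (p := 29691) (l := 3) rfl N29691 D105691
theorem N56016 : nd 56016 = n105692 := ndS (p := 29691) (l := 5) rfl N29691 D105692
theorem N56017 : nd 56017 = n105693 := ndS (p := 29691) (l := 6) rfl N29691 D105693
theorem N56018 : nd 56018 = n105697 := ndS (p := 29692) (l := 4) rfl N29692 D105697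
theorem N56019 : nd 56019 = n105698 := ndS (p := 29692) (l := 6) rfl N29692 D105698
theorem N56020 : nd 56020 = n105702 := ndS (p := 29693) (l := 5) rfl N29693 D105702
theorem N56021 : nd 56021 = n105706 := ndS (p := 29694) (l := 5) rfl N29694 D105706
theorem N56022 : nd 56022 = n105707 := ndS (p := 29694) (l := 6) rfl N29694 D105707
theorem N56023 : nd 56023 = n105708 := ndS (p := 29695) (l := 3) rfl N29695 D105708
theorem N56024 : nd 56024 = n105709 := ndS (p := 29695) (l := 5) rfl N29695 D105709
theorem N56025 : nd 56025 = n105710 := ndS (p := 29695) (l := 6) rfl N29695 D105710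
theorem N56026 : nd 56026 = n105711 := ndS (p := 29696) (l := 4) rfl N29696 D105711
theorem N56027 : nd 56027 = n105721 := ndS (p := 29699) (l := 3) rfl N29699 D105721
theorem N56028 : nd 56028 = n105722 := ndS (p := 29699) (l := 4) rfl N29699 D105722
theorem N56029 : nd 56029 = n105725 := ndS (p := 29700) (l := 1) rfl N29700 D105725
theorem N56030 : nd 56030 = n105726 := ndS (p := 29700) (l := 5) rfl N29700 D105726
theorem N56031 : nd 56031 = n105727 := ndS (p := 29700) (l := 6) rfl N29700 D105727
theorem N56032 : nd 56032 = n105743 := ndS (p := 29703) (l := 4) rfl N29703 D105743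
theorem N56033 : nd 56033 = n105744 := ndS (p := 29704) (l := 4) rfl N29704 D105744
theorem N56034 : nd 56034 = n105745 := ndS (p := 29705) (l := 5) rfl N29705 D105745
theorem N56035 : nd 56035 = n105746 := ndS (p := 29706) (l := 4) rfl N29706 D105746
theorem N56036 : nd 56036 = n105747 := ndS (p := 29706) (l := 6) rfl N29706 D105747
theorem N56037 : nd 56037 = n105748 := ndS (p := 29710) (l := 5) rfl N29710 D105748
theorem N56038 : nd 56038 = n105749 := ndS (p := 29711) (l := 5) rfl N29711 D105749
theorem N56039 : nd 56039 = n105750 := ndS (p := 29712) (l := 5) rfl N29712 D105750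
theorem N56040 : nd 56040 = n105751 := ndS (p := 29713) (l := 4) rfl N29713 D105751
theorem N56041 : nd 56041 = n105752 := ndS (p := 29713) (l := 6) rfl N29713 D105752
theorem N56042 : nd 56042 = n105754 := ndS (p := 29715) (l := 5) rfl N29715 D105754
theorem N56043 : nd 56043 = n105755 := ndS (p := 29715) (l := 6) rfl N29715 D105755
theorem N56044 : nd 56044 = n105758 := ndS (p := 29716) (l := 5) rfl N29716 D105758
theorem N56045 : nd 56045 = n105759 := ndS (p := 29716) (l := 7) rfl N29716 D105759
theorem N56046 : nd 56046 = n105760 := ndS (p := 29717) (l := 4) rfl N29717 D105760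
theorem N56047 : nd 56047 = n105761 := ndS (p := 29720) (l := 6) rfl N29720 D105761
theorem N56048 : nd 56048 = n105762 := ndS (p := 29722) (l := 5) rfl N29722 D105762
theorem N56049 : nd 56049 = n105763 := ndS (p := 29723) (l := 4) rfl N29723 D105763
theorem N56050 : nd 56050 = n105764 := ndS (p := 29723) (l := 6) rfl N29723 D105764
theorem N56051 : nd 56051 = n105766 := ndS (p := 29725) (l := 5) rfl N29725 D105766
theorem N56052 : nd 56052 = n105769 := ndS (p := 29726) (l := 1) rfl N29726 D105769
theorem N56053 : nd 56053 = n105770 := ndS (p := 29726) (l := 7) rfl N29726 D105770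
theorem N56054 : nd 56054 = n105771 := ndS (p := 29727) (l := 3) rfl N29727 D105771
theorem N56055 : nd 56055 = n105774 := ndS (p := 29728) (l := 4) rfl N29728 D105774
theorem N56056 : nd 56056 = n105777 := ndS (p := 29729) (l := 5) rfl N29729 D105777
theorem N56057 : nd 56057 = n105778 := ndS (p := 29729) (l := 6) rfl N29729 D105778
theorem N56058 : nd 56058 = n105779 := ndS (p := 29730) (l := 0) rfl N29730 D105779
theorem N56059 : nd 56059 = n105780 := ndS (p := 29730) (l := 1) rfl N29730 D105780
theorem N56060 : nd 56060 = n105781 := ndS (p := 29730) (l := 7) rfl N29730 D105781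
theorem N56061 : nd 56061 = n105782 := ndS (p := 29731) (l := 6) rfl N29731 D105782
theorem N56062 : nd 56062 = n105783 := ndS (p := 29732) (l := 0) rfl N29732 D105783
theorem N56063 : nd 56063 = n105792 := ndS (p := 29734) (l := 2) rfl N29734 D105792
theorem N56064 : nd 56064 = n105793 := ndS (p := 29734) (l := 4) rfl N29734 D105793
theorem N56065 : nd 56065 = n105796 := ndS (p := 29735) (l := 5) rfl N29735 D105796
theorem N56066 : nd 56066 = n105805 := ndS (p := 29736) (l := 3) rfl N29736 D105805
theorem N56067 : nd 56067 = n105814 := ndS (p := 29737) (l := 4) rfl N29737 D105814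
theorem N56068 : nd 56068 = n105816 := ndS (p := 29737) (l := 7) rfl N29737 D105816
theorem N56069 : nd 56069 = n105817 := ndS (p := 29738) (l := 0) rfl N29738 D105817
theorem N56070 : nd 56070 = n105818 := ndS (p := 29738) (l := 1) rfl N29738 D105818
theorem N56071 : nd 56071 = n105820 := ndS (p := 29738) (l := 7) rfl N29738 D105820
theorem N56072 : nd 56072 = n105821 := ndS (p := 29739) (l := 6) rfl N29739 D105821
theorem N56073 : nd 56073 = n105823 := ndS (p := 29740) (l := 3) rfl N29740 D105823
theorem N56074 : nd 56074 = n105824 := ndS (p := 29740) (l := 4) rfl N29740 D105824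
theorem N56075 : nd 56075 = n105828 := ndS (p := 29741) (l := 3) rfl N29741 D105828
theorem N56076 : nd 56076 = n105829 := ndS (p := 29741) (l := 4) rfl N29741 D105829
theorem N56077 : nd 56077 = n105831 := ndS (p := 29741) (l := 6) rfl N29741 D105831
theorem N56078 : nd 56078 = n105832 := ndS (p := 29742) (l := 6) rfl N29742 D105832
theorem N56079 : nd 56079 = n105833 := ndS (p := 29743) (l := 0) rfl N29743 D105833
theorem N56080 : nd 56080 = n105834 := ndS (p := 29743) (l := 1) rfl N29743 D105834
theorem N56081 : nd 56081 = n105848 := ndS (p := 29745) (l := 0) rfl N29745 D105848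
theorem N56082 : nd 56082 = n105849 := ndS (p := 29745) (l := 4) rfl N29745 D105849
theorem N56083 : nd 56083 = n105853 := ndS (p := 29749) (l := 3) rfl N29749 D105853
theorem N56084 : nd 56084 = n105854 := ndS (p := 29749) (l := 5) rfl N29749 D105854
theorem N56085 : nd 56085 = n105863 := ndS (p := 29751) (l := 6) rfl N29751 D105863
theorem N56086 : nd 56086 = n105864 := ndS (p := 29752) (l := 5) rfl N29752 D105864
theorem N56087 : nd 56087 = n105865 := ndS (p := 29753) (l := 6) rfl N29753 D105865
theorem N56088 : nd 56088 = n105866 := ndS (p := 29754) (l := 5) rfl N29754 D105866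
theorem N56089 : nd 56089 = n105870 := ndS (p := 29756) (l := 5) rfl N29756 D105870
theorem N56090 : nd 56090 = n105872 := ndS (p := 29757) (l := 5) rfl N29757 D105872
theorem N56091 : nd 56091 = n105873 := ndS (p := 29758) (l := 5) rfl N29758 D105873
theorem N56092 : nd 56092 = n105874 := ndS (p := 29759) (l := 4) rfl N29759 D105874
theorem N56093 : nd 56093 = n105898 := ndS (p := 29764) (l := 5) rfl N29764 D105898
theorem N56094 : nd 56094 = n105899 := ndS (p := 29765) (l := 6) rfl N29765 D105899
theorem N56095 : nd 56095 = n105900 := ndS (p := 29766) (l := 5) rfl N29766 D105900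
theorem N56096 : nd 56096 = n105903 := ndS (p := 29767) (l := 5) rfl N29767 D105903
theorem N56097 : nd 56097 = n105905 := ndS (p := 29768) (l := 4) rfl N29768 D105905
theorem N56098 : nd 56098 = n105907 := ndS (p := 29770) (l := 5) rfl N29770 D105907
theorem N56099 : nd 56099 = n105912 := ndS (p := 29771) (l := 5) rfl N29771 D105912
theorem N56100 : nd 56100 = n105913 := ndS (p := 29772) (l := 0) rfl N29772 D105913
theorem N56101 : nd 56101 = n105914 := ndS (p := 29772) (l := 4) rfl N29772 D105914
theorem N56102 : nd 56102 = n105915 := ndS (p := 29772) (l := 7) rfl N29772 D105915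
theorem N56103 : nd 56103 = n105916 := ndS (p := 29774) (l := 5) rfl N29774 D105916
theorem N56104 : nd 56104 = n105919 := ndS (p := 29776) (l := 0) rfl N29776 D105919
theorem N56105 : nd 56105 = n105935 := ndS (p := 29777) (l := 4) rfl N29777 D105935
theorem N56106 : nd 56106 = n105937 := ndS (p := 29778) (l := 6) rfl N29778 D105937
theorem N56107 : nd 56107 = n105939 := ndS (p := 29779) (l := 0) rfl N29779 D105939
theorem N56108 : nd 56108 = n105941 := ndS (p := 29779) (l := 5) rfl N29779 D105941
theorem N56109 : nd 56109 = n105944 := ndS (p := 29780) (l := 6) rfl N29780 D105944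
theorem N56110 : nd 56110 = n105946 := ndS (p := 29781) (l := 5) rfl N29781 D105946
theorem N56111 : nd 56111 = n105947 := ndS (p := 29781) (l := 7) rfl N29781 D105947
theorem N56112 : nd 56112 = n105949 := ndS (p := 29782) (l := 3) rfl N29782 D105949
theorem N56113 : nd 56113 = n105950 := ndS (p := 29782) (l := 4) rfl N29782 D105950
theorem N56114 : nd 56114 = n105954 := ndS (p := 29783) (l := 4) rfl N29783 D105954
theorem N56115 : nd 56115 = n105955 := ndS (p := 29783) (l := 5) rfl N29783 D105955
theorem N56116 : nd 56116 = n105960 := ndS (p := 29786) (l := 3) rfl N29786 D105960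
theorem N56117 : nd 56117 = n105962 := ndS (p := 29787) (l := 6) rfl N29787 D105962
theorem N56118 : nd 56118 = n105965 := ndS (p := 29788) (l := 5) rfl N29788 D105965
theorem N56119 : nd 56119 = n105977 := ndS (p := 29789) (l := 0) rfl N29789 D105977
theorem N56120 : nd 56120 = n105979 := ndS (p := 29789) (l := 4) rfl N29789 D105979
theorem N56121 : nd 56121 = n105981 := ndS (p := 29790) (l := 6) rfl N29790 D105981
theorem N56122 : nd 56122 = n105982 := ndS (p := 29791) (l := 6) rfl N29791 D105982
theorem N56123 : nd 56123 = n105986 := ndS (p := 29793) (l := 6) rfl N29793 D105986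
theorem N56124 : nd 56124 = n105987 := ndS (p := 29794) (l := 6) rfl N29794 D105987
theorem N56125 : nd 56125 = n106004 := ndS (p := 29796) (l := 4) rfl N29796 D106004
theorem N56126 : nd 56126 = n106006 := ndS (p := 29797) (l := 6) rfl N29797 D106006
theorem N56127 : nd 56127 = n106007 := ndS (p := 29798) (l := 5) rfl N29798 D106007
theorem N56128 : nd 56128 = n106013 := ndS (p := 29800) (l := 3) rfl N29800 D106013
theorem N56129 : nd 56129 = n106015 := ndS (p := 29800) (l := 6) rfl N29800 D106015
theorem N56130 : nd 56130 = n106019 := ndS (p := 29802) (l := 0) rfl N29802 D106019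
theorem N56131 : nd 56131 = n106021 := ndS (p := 29802) (l := 4) rfl N29802 D106021
theorem N56132 : nd 56132 = n106030 := ndS (p := 29804) (l := 5) rfl N29804 D106030
theorem N56133 : nd 56133 = n106033 := ndS (p := 29805) (l := 0) rfl N29805 D106033
theorem N56134 : nd 56134 = n106035 := ndS (p := 29805) (l := 3) rfl N29805 D106035
theorem N56135 : nd 56135 = n106036 := ndS (p := 29805) (l := 5) rfl N29805 D106036
theorem N56136 : nd 56136 = n106037 := ndS (p := 29805) (l := 6) rfl N29805 D106037
theorem N56137 : nd 56137 = n106039 := ndS (p := 29806) (l := 0) rfl N29806 D106039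
theorem N56138 : nd 56138 = n106040 := ndS (p := 29806) (l := 1) rfl N29806 D106040
theorem N56139 : nd 56139 = n106041 := ndS (p := 29806) (l := 4) rfl N29806 D106041
theorem N56140 : nd 56140 = n106052 := ndS (p := 29808) (l := 5) rfl N29808 D106052
theorem N56141 : nd 56141 = n106055 := ndS (p := 29809) (l := 5) rfl N29809 D106055
theorem N56142 : nd 56142 = n106057 := ndS (p := 29810) (l := 4) rfl N29810 D106057
theorem N56143 : nd 56143 = n106071 := ndS (p := 29812) (l := 4) rfl N29812 D106071
theorem N56144 : nd 56144 = n106073 := ndS (p := 29812) (l := 6) rfl N29812 D106073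
theorem N56145 : nd 56145 = n106074 := ndS (p := 29813) (l := 0) rfl N29813 D106074
theorem N56146 : nd 56146 = n106076 := ndS (p := 29813) (l := 5) rfl N29813 D106076
theorem N56147 : nd 56147 = n106077 := ndS (p := 29813) (l := 6) rfl N29813 D106077
theorem N56148 : nd 56148 = n106078 := ndS (p := 29814) (l := 0) rfl N29814 D106078
theorem N56149 : nd 56149 = n106079 := ndS (p := 29814) (l := 1) rfl N29814 D106079
theorem N56150 : nd 56150 = n106083 := ndS (p := 29815) (l := 1) rfl N29815 D106083
theorem N56151 : nd 56151 = n106088 := ndS (p := 29817) (l := 5) rfl N29817 D106088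
theorem N56152 : nd 56152 = n106095 := ndS (p := 29819) (l := 3) rfl N29819 D106095
theorem N56153 : nd 56153 = n106096 := ndS (p := 29822) (l := 3) rfl N29822 D106096
theorem N56154 : nd 56154 = n106097 := ndS (p := 29824) (l := 4) rfl N29824 D106097
theorem N56155 : nd 56155 = n106098 := ndS (p := 29826) (l := 4) rfl N29826 D106098
theorem N56156 : nd 56156 = n106099 := ndS (p := 29827) (l := 3) rfl N29827 D106099
theorem N56157 : nd 56157 = n106100 := ndS (p := 29827) (l := 6) rfl N29827 D106100
theorem N56158 : nd 56158 = n106101 := ndS (p := 29827) (l := 7) rfl N29827 D106101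
theorem N56159 : nd 56159 = n106102 := ndS (p := 29828) (l := 0) rfl N29828 D106102
theorem N56160 : nd 56160 = n106103 := ndS (p := 29828) (l := 1) rfl N29828 D106103
theorem N56161 : nd 56161 = n106104 := ndS (p := 29828) (l := 7) rfl N29828 D106104
theorem N56162 : nd 56162 = n106105 := ndS (p := 29829) (l := 6) rfl N29829 D106105
theorem N56163 : nd 56163 = n106106 := ndS (p := 29830) (l := 0) rfl N29830 D106106
theorem N56164 : nd 56164 = n106107 := ndS (p := 29830) (l := 1) rfl N29830 D106107
theorem N56165 : nd 56165 = n106108 := ndS (p := 29830) (l := 2) rfl N29830 D106108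
theorem N56166 : nd 56166 = n106109 := ndS (p := 29830) (l := 6) rfl N29830 D106109
theorem N56167 : nd 56167 = n106112 := ndS (p := 29831) (l := 5) rfl N29831 D106112
theorem N56168 : nd 56168 = n106113 := ndS (p := 29831) (l := 7) rfl N29831 D106113
theorem N56169 : nd 56169 = n106115 := ndS (p := 29832) (l := 3) rfl N29832 D106115
theorem N56170 : nd 56170 = n106117 := ndS (p := 29832) (l := 5) rfl N29832 D106117
theorem N56171 : nd 56171 = n106118 := ndS (p := 29832) (l := 6) rfl N29832 D106118
theorem N56172 : nd 56172 = n106120 := ndS (p := 29833) (l := 3) rfl N29833 D106120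
theorem N56173 : nd 56173 = n106122 := ndS (p := 29833) (l := 5) rfl N29833 D106122
theorem N56174 : nd 56174 = n106123 := ndS (p := 29833) (l := 6) rfl N29833 D106123
theorem N56175 : nd 56175 = n106124 := ndS (p := 29834) (l := 6) rfl N29834 D106124
theorem N56176 : nd 56176 = n106125 := ndS (p := 29835) (l := 0) rfl N29835 D106125
theorem N56177 : nd 56177 = n106126 := ndS (p := 29835) (l := 1) rfl N29835 D106126
theorem N56178 : nd 56178 = n106127 := ndS (p := 29836) (l := 0) rfl N29836 D106127
theorem N56179 : nd 56179 = n106129 := ndS (p := 29836) (l := 7) rfl N29836 D106129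
theorem N56180 : nd 56180 = n106130 := ndS (p := 29837) (l := 4) rfl N29837 D106130
theorem N56181 : nd 56181 = n106131 := ndS (p := 29837) (l := 6) rfl N29837 D106131
theorem N56182 : nd 56182 = n106133 := ndS (p := 29838) (l := 1) rfl N29838 D106133
theorem N56183 : nd 56183 = n106134 := ndS (p := 29838) (l := 7) rfl N29838 D106134
theorem N56184 : nd 56184 = n106135 := ndS (p := 29839) (l := 0) rfl N29839 D106135
theorem N56185 : nd 56185 = n106136 := ndS (p := 29839) (l := 1) rfl N29839 D106136
theorem N56186 : nd 56186 = n106137 := ndS (p := 29839) (l := 5) rfl N29839 D106137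
theorem N56187 : nd 56187 = n106138 := ndS (p := 29839) (l := 7) rfl N29839 D106138
theorem N56188 : nd 56188 = n106140 := ndS (p := 29840) (l := 3) rfl N29840 D106140
theorem N56189 : nd 56189 = n106142 := ndS (p := 29840) (l := 5) rfl N29840 D106142
theorem N56190 : nd 56190 = n106143 := ndS (p := 29840) (l := 6) rfl N29840 D106143
theorem N56191 : nd 56191 = n106145 := ndS (p := 29841) (l := 3) rfl N29841 D106145
theorem N56192 : nd 56192 = n106147 := ndS (p := 29841) (l := 5) rfl N29841 D106147
theorem N56193 : nd 56193 = n106148 := ndS (p := 29841) (l := 6) rfl N29841 D106148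
theorem N56194 : nd 56194 = n106158 := ndS (p := 29843) (l := 4) rfl N29843 D106158
theorem N56195 : nd 56195 = n106159 := ndS (p := 29843) (l := 5) rfl N29843 D106159
theorem N56196 : nd 56196 = n106160 := ndS (p := 29843) (l := 6) rfl N29843 D106160
theorem N56197 : nd 56197 = n106168 := ndS (p := 29844) (l := 0) rfl N29844 D106168
theorem N56198 : nd 56198 = n106169 := ndS (p := 29844) (l := 1) rfl N29844 D106169
theorem N56199 : nd 56199 = n106170 := ndS (p := 29844) (l := 4) rfl N29844 D106170
theorem N56200 : nd 56200 = n106171 := ndS (p := 29844) (l := 6) rfl N29844 D106171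
theorem N56201 : nd 56201 = n106178 := ndS (p := 29846) (l := 1) rfl N29846 D106178
theorem N56202 : nd 56202 = n106179 := ndS (p := 29846) (l := 2) rfl N29846 D106179
theorem N56203 : nd 56203 = n106180 := ndS (p := 29846) (l := 4) rfl N29846 D106180
theorem N56204 : nd 56204 = n106181 := ndS (p := 29846) (l := 5) rfl N29846 D106181
theorem N56205 : nd 56205 = n106182 := ndS (p := 29846) (l := 6) rfl N29846 D106182
theorem N56206 : nd 56206 = n106186 := ndS (p := 29847) (l := 4) rfl N29847 D106186
theorem N56207 : nd 56207 = n106187 := ndS (p := 29847) (l := 6) rfl N29847 D106187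
theorem N56208 : nd 56208 = n106188 := ndS (p := 29848) (l := 0) rfl N29848 D106188
theorem N56209 : nd 56209 = n106190 := ndS (p := 29848) (l := 5) rfl N29848 D106190
theorem N56210 : nd 56210 = n106191 := ndS (p := 29848) (l := 7) rfl N29848 D106191
theorem N56211 : nd 56211 = n106192 := ndS (p := 29849) (l := 6) rfl N29849 D106192
theorem N56212 : nd 56212 = n106193 := ndS (p := 29850) (l := 0) rfl N29850 D106193
theorem N56213 : nd 56213 = n106194 := ndS (p := 29850) (l := 1) rfl N29850 D106194
theorem N56214 : nd 56214 = n106195 := ndS (p := 29850) (l := 7) rfl N29850 D106195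
theorem N56215 : nd 56215 = n106201 := ndS (p := 29851) (l := 5) rfl N29851 D106201
theorem N56216 : nd 56216 = n106203 := ndS (p := 29853) (l := 1) rfl N29853 D106203
theorem N56217 : nd 56217 = n106204 := ndS (p := 29853) (l := 7) rfl N29853 D106204
theorem N56218 : nd 56218 = n106206 := ndS (p := 29856) (l := 0) rfl N29856 D106206
theorem N56219 : nd 56219 = n106207 := ndS (p := 29856) (l := 2) rfl N29856 D106207
theorem N56220 : nd 56220 = n106208 := ndS (p := 29856) (l := 3) rfl N29856 D106208
theorem N56221 : nd 56221 = n106209 := ndS (p := 29856) (l := 4) rfl N29856 D106209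
theorem N56222 : nd 56222 = n106210 := ndS (p := 29856) (l := 5) rfl N29856 D106210
theorem N56223 : nd 56223 = n106211 := ndS (p := 29856) (l := 6) rfl N29856 D106211
theorem N56224 : nd 56224 = n106212 := ndS (p := 29856) (l := 7) rfl N29856 D106212
theorem N56225 : nd 56225 = n106213 := ndS (p := 29857) (l := 3) rfl N29857 D106213
theorem N56226 : nd 56226 = n106214 := ndS (p := 29857) (l := 4) rfl N29857 D106214
theorem N56227 : nd 56227 = n106215 := ndS (p := 29857) (l := 5) rfl N29857 D106215
theorem N56228 : nd 56228 = n106216 := ndS (p := 29857) (l := 6) rfl N29857 D106216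
theorem N56229 : nd 56229 = n106219 := ndS (p := 29858) (l := 5) rfl N29858 D106219
theorem N56230 : nd 56230 = n106220 := ndS (p := 29859) (l := 0) rfl N29859 D106220
theorem N56231 : nd 56231 = n106221 := ndS (p := 29859) (l := 1) rfl N29859 D106221
theorem N56232 : nd 56232 = n106222 := ndS (p := 29859) (l := 4) rfl N29859 D106222
theorem N56233 : nd 56233 = n106223 := ndS (p := 29859) (l := 6) rfl N29859 D106223
theorem N56234 : nd 56234 = n106225 := ndS (p := 29861) (l := 0) rfl N29861 D106225
theorem N56235 : nd 56235 = n106226 := ndS (p := 29861) (l := 1) rfl N29861 D106226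
theorem N56236 : nd 56236 = n106227 := ndS (p := 29861) (l := 7) rfl N29861 D106227
theorem N56237 : nd 56237 = n106228 := ndS (p := 29862) (l := 5) rfl N29862 D106228
theorem N56238 : nd 56238 = n106229 := ndS (p := 29864) (l := 3) rfl N29864 D106229
theorem N56239 : nd 56239 = n106230 := ndS (p := 29866) (l := 5) rfl N29866 D106230
theorem N56240 : nd 56240 = n106231 := ndS (p := 29867) (l := 5) rfl N29867 D106231
theorem N56241 : nd 56241 = n106232 := ndS (p := 29868) (l := 5) rfl N29868 D106232
theorem N56242 : nd 56242 = n106233 := ndS (p := 29869) (l := 4) rfl N29869 D106233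
theorem N56243 : nd 56243 = n106234 := ndS (p := 29869) (l := 6) rfl N29869 D106234
theorem N56244 : nd 56244 = n106235 := ndS (p := 29870) (l := 5) rfl N29870 D106235
theorem N56245 : nd 56245 = n106236 := ndS (p := 29871) (l := 5) rfl N29871 D106236
theorem N56246 : nd 56246 = n106237 := ndS (p := 29872) (l := 4) rfl N29872 D106237
theorem N56247 : nd 56247 = n106238 := ndS (p := 29872) (l := 6) rfl N29872 D106238
theorem N56248 : nd 56248 = n106239 := ndS (p := 29874) (l := 0) rfl N29874 D106239
theorem N56249 : nd 56249 = n106240 := ndS (p := 29874) (l := 1) rfl N29874 D106240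
theorem N56250 : nd 56250 = n106241 := ndS (p := 29874) (l := 4) rfl N29874 D106241
theorem N56251 : nd 56251 = n106242 := ndS (p := 29874) (l := 6) rfl N29874 D106242
theorem N56252 : nd 56252 = n106243 := ndS (p := 29875) (l := 3) rfl N29875 D106243
theorem N56253 : nd 56253 = n106244 := ndS (p := 29875) (l := 4) rfl N29875 D106244
theorem N56254 : nd 56254 = n106245 := ndS (p := 29875) (l := 6) rfl N29875 D106245
theorem N56255 : nd 56255 = n106246 := ndS (p := 29876) (l := 4) rfl N29876 D106246
theorem N56256 : nd 56256 = n106247 := ndS (p := 29876) (l := 6) rfl N29876 D106247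
theorem N56257 : nd 56257 = n106248 := ndS (p := 29877) (l := 0) rfl N29877 D106248
theorem N56258 : nd 56258 = n106249 := ndS (p := 29877) (l := 1) rfl N29877 D106249
theorem N56259 : nd 56259 = n106250 := ndS (p := 29877) (l := 3) rfl N29877 D106250
theorem N56260 : nd 56260 = n106251 := ndS (p := 29877) (l := 5) rfl N29877 D106251
theorem N56261 : nd 56261 = n106252 := ndS (p := 29877) (l := 6) rfl N29877 D106252
theorem N56262 : nd 56262 = n106253 := ndS (p := 29877) (l := 7) rfl N29877 D106253
theorem N56263 : nd 56263 = n106254 := ndS (p := 29878) (l := 0) rfl N29878 D106254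
theorem N56264 : nd 56264 = n106255 := ndS (p := 29878) (l := 1) rfl N29878 D106255
theorem N56265 : nd 56265 = n106256 := ndS (p := 29878) (l := 7) rfl N29878 D106256
theorem N56266 : nd 56266 = n106257 := ndS (p := 29879) (l := 6) rfl N29879 D106257
theorem N56267 : nd 56267 = n106258 := ndS (p := 29880) (l := 5) rfl N29880 D106258
theorem N56268 : nd 56268 = n106259 := ndS (p := 29881) (l := 0) rfl N29881 D106259
theorem N56269 : nd 56269 = n106260 := ndS (p := 29881) (l := 1) rfl N29881 D106260
theorem N56270 : nd 56270 = n106261 := ndS (p := 29881) (l := 2) rfl N29881 D106261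
theorem N56271 : nd 56271 = n106262 := ndS (p := 29881) (l := 6) rfl N29881 D106262
theorem N56272 : nd 56272 = n106265 := ndS (p := 29882) (l := 5) rfl N29882 D106265
theorem N56273 : nd 56273 = n106266 := ndS (p := 29882) (l := 7) rfl N29882 D106266
theorem N56274 : nd 56274 = n106268 := ndS (p := 29883) (l := 3) rfl N29883 D106268
theorem N56275 : nd 56275 = n106270 := ndS (p := 29883) (l := 5) rfl N29883 D106270
theorem N56276 : nd 56276 = n106271 := ndS (p := 29883) (l := 6) rfl N29883 D106271
theorem N56277 : nd 56277 = n106273 := ndS (p := 29884) (l := 3) rfl N29884 D106273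
theorem N56278 : nd 56278 = n106275 := ndS (p := 29884) (l := 6) rfl N29884 D106275
theorem N56279 : nd 56279 = n106276 := ndS (p := 29885) (l := 6) rfl N29885 D106276
theorem N56280 : nd 56280 = n106277 := ndS (p := 29886) (l := 0) rfl N29886 D106277
theorem N56281 : nd 56281 = n106278 := ndS (p := 29886) (l := 1) rfl N29886 D106278
theorem N56282 : nd 56282 = n106279 := ndS (p := 29886) (l := 5) rfl N29886 D106279
theorem N56283 : nd 56283 = n106280 := ndS (p := 29888) (l := 5) rfl N29888 D106280
theorem N56284 : nd 56284 = n106281 := ndS (p := 29889) (l := 6) rfl N29889 D106281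
theorem N56285 : nd 56285 = n106283 := ndS (p := 29892) (l := 6) rfl N29892 D106283
theorem N56286 : nd 56286 = n106284 := ndS (p := 29893) (l := 6) rfl N29893 D106284
theorem N56287 : nd 56287 = n106285 := ndS (p := 29895) (l := 6) rfl N29895 D106285
theorem N56288 : nd 56288 = n106286 := ndS (p := 29896) (l := 6) rfl N29896 D106286
theorem N56289 : nd 56289 = n106287 := ndS (p := 29897) (l := 5) rfl N29897 D106287
theorem N56290 : nd 56290 = n106290 := ndS (p := 29898) (l := 5) rfl N29898 D106290
theorem N56291 : nd 56291 = n106292 := ndS (p := 29899) (l := 5) rfl N29899 D106292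
theorem N56292 : nd 56292 = n106293 := ndS (p := 29900) (l := 4) rfl N29900 D106293
theorem N56293 : nd 56293 = n106294 := ndS (p := 29902) (l := 1) rfl N29902 D106294
theorem N56294 : nd 56294 = n106295 := ndS (p := 29902) (l := 5) rfl N29902 D106295
theorem N56295 : nd 56295 = n106296 := ndS (p := 29902) (l := 7) rfl N29902 D106296
theorem N56296 : nd 56296 = n106299 := ndS (p := 29903) (l := 5) rfl N29903 D106299
theorem N56297 : nd 56297 = n106302 := ndS (p := 29904) (l := 4) rfl N29904 D106302
theorem N56298 : nd 56298 = n106303 := ndS (p := 29904) (l := 7) rfl N29904 D106303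
theorem N56299 : nd 56299 = n106304 := ndS (p := 29906) (l := 6) rfl N29906 D106304
theorem N56300 : nd 56300 = n106305 := ndS (p := 29907) (l := 0) rfl N29907 D106305
theorem N56301 : nd 56301 = n106306 := ndS (p := 29907) (l := 1) rfl N29907 D106306
theorem N56302 : nd 56302 = n106307 := ndS (p := 29907) (l := 7) rfl N29907 D106307
theorem N56303 : nd 56303 = n106308 := ndS (p := 29908) (l := 0) rfl N29908 D106308
theorem N56304 : nd 56304 = n106310 := ndS (p := 29908) (l := 7) rfl N29908 D106310
theorem N56305 : nd 56305 = n106311 := ndS (p := 29909) (l := 6) rfl N29909 D106311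
theorem N56306 : nd 56306 = n106314 := ndS (p := 29910) (l := 7) rfl N29910 D106314
theorem N56307 : nd 56307 = n106316 := ndS (p := 29911) (l := 3) rfl N29911 D106316
theorem N56308 : nd 56308 = n106318 := ndS (p := 29911) (l := 5) rfl N29911 D106318
theorem N56309 : nd 56309 = n106319 := ndS (p := 29911) (l := 6) rfl N29911 D106319
theorem N56310 : nd 56310 = n106321 := ndS (p := 29912) (l := 3) rfl N29912 D106321
theorem N56311 : nd 56311 = n106322 := ndS (p := 29912) (l := 4) rfl N29912 D106322
theorem N56312 : nd 56312 = n106323 := ndS (p := 29912) (l := 5) rfl N29912 D106323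
theorem N56313 : nd 56313 = n106324 := ndS (p := 29912) (l := 6) rfl N29912 D106324
theorem N56314 : nd 56314 = n106325 := ndS (p := 29913) (l := 6) rfl N29913 D106325
theorem N56315 : nd 56315 = n106327 := ndS (p := 29914) (l := 1) rfl N29914 D106327
theorem N56316 : nd 56316 = n106328 := ndS (p := 29914) (l := 5) rfl N29914 D106328
theorem N56317 : nd 56317 = n106329 := ndS (p := 29915) (l := 0) rfl N29915 D106329
theorem N56318 : nd 56318 = n106330 := ndS (p := 29915) (l := 1) rfl N29915 D106330
theorem N56319 : nd 56319 = n106331 := ndS (p := 29915) (l := 4) rfl N29915 D106331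
theorem N56320 : nd 56320 = n106342 := ndS (p := 29916) (l := 0) rfl N29916 D106342
theorem N56321 : nd 56321 = n106343 := ndS (p := 29916) (l := 1) rfl N29916 D106343
theorem N56322 : nd 56322 = n106344 := ndS (p := 29916) (l := 4) rfl N29916 D106344
theorem N56323 : nd 56323 = n106345 := ndS (p := 29916) (l := 7) rfl N29916 D106345
theorem N56324 : nd 56324 = n106352 := ndS (p := 29918) (l := 0) rfl N29918 D106352
theorem N56325 : nd 56325 = n106354 := ndS (p := 29918) (l := 2) rfl N29918 D106354
theorem N56326 : nd 56326 = n106355 := ndS (p := 29918) (l := 4) rfl N29918 D106355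
theorem N56327 : nd 56327 = n106356 := ndS (p := 29918) (l := 5) rfl N29918 D106356
theorem N56328 : nd 56328 = n106357 := ndS (p := 29918) (l := 6) rfl N29918 D106357
theorem N56329 : nd 56329 = n106365 := ndS (p := 29919) (l := 0) rfl N29919 D106365
theorem N56330 : nd 56330 = n106366 := ndS (p := 29919) (l := 1) rfl N29919 D106366
theorem N56331 : nd 56331 = n106367 := ndS (p := 29919) (l := 4) rfl N29919 D106367
theorem N56332 : nd 56332 = n106368 := ndS (p := 29919) (l := 6) rfl N29919 D106368
theorem N56333 : nd 56333 = n106371 := ndS (p := 29920) (l := 1) rfl N29920 D106371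
theorem N56334 : nd 56334 = n106372 := ndS (p := 29920) (l := 7) rfl N29920 D106372
theorem N56335 : nd 56335 = n106375 := ndS (p := 29921) (l := 1) rfl N29921 D106375
theorem N56336 : nd 56336 = n106376 := ndS (p := 29921) (l := 2) rfl N29921 D106376
theorem N56337 : nd 56337 = n106377 := ndS (p := 29921) (l := 4) rfl N29921 D106377
theorem N56338 : nd 56338 = n106378 := ndS (p := 29921) (l := 5) rfl N29921 D106378
theorem N56339 : nd 56339 = n106379 := ndS (p := 29921) (l := 6) rfl N29921 D106379
theorem N56340 : nd 56340 = n106383 := ndS (p := 29922) (l := 4) rfl N29922 D106383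
theorem N56341 : nd 56341 = n106384 := ndS (p := 29922) (l := 6) rfl N29922 D106384
theorem N56342 : nd 56342 = n106385 := ndS (p := 29923) (l := 0) rfl N29923 D106385
theorem N56343 : nd 56343 = n106386 := ndS (p := 29923) (l := 5) rfl N29923 D106386
theorem N56344 : nd 56344 = n106387 := ndS (p := 29923) (l := 7) rfl N29923 D106387
theorem N56345 : nd 56345 = n106388 := ndS (p := 29924) (l := 3) rfl N29924 D106388
theorem N56346 : nd 56346 = n106389 := ndS (p := 29924) (l := 6) rfl N29924 D106389
theorem N56347 : nd 56347 = n106390 := ndS (p := 29925) (l := 3) rfl N29925 D106390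
theorem N56348 : nd 56348 = n106391 := ndS (p := 29925) (l := 6) rfl N29925 D106391
theorem N56349 : nd 56349 = n106392 := ndS (p := 29926) (l := 3) rfl N29926 D106392
theorem N56350 : nd 56350 = n106393 := ndS (p := 29927) (l := 0) rfl N29927 D106393
theorem N56351 : nd 56351 = n106395 := ndS (p := 29927) (l := 7) rfl N29927 D106395
theorem N56352 : nd 56352 = n106396 := ndS (p := 29928) (l := 0) rfl N29928 D106396
theorem N56353 : nd 56353 = n106397 := ndS (p := 29928) (l := 1) rfl N29928 D106397
theorem N56354 : nd 56354 = n106398 := ndS (p := 29928) (l := 2) rfl N29928 D106398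
theorem N56355 : nd 56355 = n106399 := ndS (p := 29928) (l := 5) rfl N29928 D106399
theorem N56356 : nd 56356 = n106400 := ndS (p := 29929) (l := 6) rfl N29929 D106400
theorem N56357 : nd 56357 = n106401 := ndS (p := 29930) (l := 3) rfl N29930 D106401
theorem N56358 : nd 56358 = n106402 := ndS (p := 29930) (l := 6) rfl N29930 D106402
theorem N56359 : nd 56359 = n106403 := ndS (p := 29931) (l := 1) rfl N29931 D106403
theorem N56360 : nd 56360 = n106404 := ndS (p := 29931) (l := 7) rfl N29931 D106404
theorem N56361 : nd 56361 = n106405 := ndS (p := 29932) (l := 1) rfl N29932 D106405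
theorem N56362 : nd 56362 = n106406 := ndS (p := 29933) (l := 0) rfl N29933 D106406
theorem N56363 : nd 56363 = n106407 := ndS (p := 29933) (l := 1) rfl N29933 D106407
theorem N56364 : nd 56364 = n106408 := ndS (p := 29933) (l := 2) rfl N29933 D106408
theorem N56365 : nd 56365 = n106409 := ndS (p := 29933) (l := 5) rfl N29933 D106409
theorem N56366 : nd 56366 = n106410 := ndS (p := 29933) (l := 7) rfl N29933 D106410
theorem N56367 : nd 56367 = n106411 := ndS (p := 29937) (l := 0) rfl N29937 D106411
theorem N56368 : nd 56368 = n106412 := ndS (p := 29937) (l := 7) rfl N29937 D106412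
theorem N56369 : nd 56369 = n106413 := ndS (p := 29938) (l := 1) rfl N29938 D106413
theorem N56370 : nd 56370 = n106414 := ndS (p := 29938) (l := 2) rfl N29938 D106414
theorem N56371 : nd 56371 = n106415 := ndS (p := 29938) (l := 6) rfl N29938 D106415
theorem N56372 : nd 56372 = n106416 := ndS (p := 29939) (l := 5) rfl N29939 D106416
theorem N56373 : nd 56373 = n106417 := ndS (p := 29939) (l := 7) rfl N29939 D106417
theorem N56374 : nd 56374 = n106418 := ndS (p := 29940) (l := 5) rfl N29940 D106418
theorem N56375 : nd 56375 = n106419 := ndS (p := 29941) (l := 5) rfl N29941 D106419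
theorem N56376 : nd 56376 = n106420 := ndS (p := 29941) (l := 6) rfl N29941 D106420
theorem N56377 : nd 56377 = n106421 := ndS (p := 29942) (l := 1) rfl N29942 D106421
theorem N56378 : nd 56378 = n106422 := ndS (p := 29942) (l := 7) rfl N29942 D106422
theorem N56379 : nd 56379 = n106423 := ndS (p := 29944) (l := 0) rfl N29944 D106423
theorem N56380 : nd 56380 = n106424 := ndS (p := 29944) (l := 1) rfl N29944 D106424
theorem N56381 : nd 56381 = n106425 := ndS (p := 29944) (l := 2) rfl N29944 D106425
theorem N56382 : nd 56382 = n106426 := ndS (p := 29944) (l := 6) rfl N29944 D106426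
theorem N56383 : nd 56383 = n106427 := ndS (p := 29945) (l := 0) rfl N29945 D106427
theorem N56384 : nd 56384 = n106428 := ndS (p := 29945) (l := 1) rfl N29945 D106428
theorem N56385 : nd 56385 = n106429 := ndS (p := 29945) (l := 5) rfl N29945 D106429
theorem N56386 : nd 56386 = n106430 := ndS (p := 29945) (l := 7) rfl N29945 D106430
theorem N56387 : nd 56387 = n106431 := ndS (p := 29946) (l := 6) rfl N29946 D106431
theorem N56388 : nd 56388 = n106433 := ndS (p := 29949) (l := 3) rfl N29949 D106433
theorem N56389 : nd 56389 = n106434 := ndS (p := 29949) (l := 4) rfl N29949 D106434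
theorem N56390 : nd 56390 = n106436 := ndS (p := 29949) (l := 6) rfl N29949 D106436
theorem N56391 : nd 56391 = n106438 := ndS (p := 29950) (l := 3) rfl N29950 D106438
theorem N56392 : nd 56392 = n106439 := ndS (p := 29950) (l := 4) rfl N29950 D106439
theorem N56393 : nd 56393 = n106441 := ndS (p := 29950) (l := 6) rfl N29950 D106441
theorem N56394 : nd 56394 = n106443 := ndS (p := 29952) (l := 3) rfl N29952 D106443
theorem N56395 : nd 56395 = n106445 := ndS (p := 29952) (l := 5) rfl N29952 D106445
theorem N56396 : nd 56396 = n106446 := ndS (p := 29952) (l := 6) rfl N29952 D106446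
theorem N56397 : nd 56397 = n106450 := ndS (p := 29953) (l := 5) rfl N29953 D106450
theorem N56398 : nd 56398 = n106451 := ndS (p := 29953) (l := 6) rfl N29953 D106451
theorem N56399 : nd 56399 = n106452 := ndS (p := 29954) (l := 3) rfl N29954 D106452
theorem N56400 : nd 56400 = n106453 := ndS (p := 29955) (l := 0) rfl N29955 D106453
theorem N56401 : nd 56401 = n106454 := ndS (p := 29955) (l := 1) rfl N29955 D106454
theorem N56402 : nd 56402 = n106455 := ndS (p := 29955) (l := 2) rfl N29955 D106455
theorem N56403 : nd 56403 = n106456 := ndS (p := 29955) (l := 6) rfl N29955 D106456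
theorem N56404 : nd 56404 = n106459 := ndS (p := 29956) (l := 5) rfl N29956 D106459
theorem N56405 : nd 56405 = n106460 := ndS (p := 29956) (l := 7) rfl N29956 D106460
theorem N56406 : nd 56406 = n106462 := ndS (p := 29957) (l := 3) rfl N29957 D106462
theorem N56407 : nd 56407 = n106463 := ndS (p := 29957) (l := 4) rfl N29957 D106463
theorem N56408 : nd 56408 = n106466 := ndS (p := 29958) (l := 4) rfl N29958 D106466
theorem N56409 : nd 56409 = n106467 := ndS (p := 29958) (l := 6) rfl N29958 D106467
theorem N56410 : nd 56410 = n106468 := ndS (p := 29961) (l := 6) rfl N29961 D106468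
theorem N56411 : nd 56411 = n106469 := ndS (p := 29962) (l := 6) rfl N29962 D106469
theorem N56412 : nd 56412 = n106470 := ndS (p := 29963) (l := 0) rfl N29963 D106470
theorem N56413 : nd 56413 = n106471 := ndS (p := 29963) (l := 1) rfl N29963 D106471
theorem N56414 : nd 56414 = n106473 := ndS (p := 29964) (l := 0) rfl N29964 D106473
theorem N56415 : nd 56415 = n106474 := ndS (p := 29964) (l := 1) rfl N29964 D106474
theorem N56416 : nd 56416 = n106475 := ndS (p := 29964) (l := 2) rfl N29964 D106475
theorem N56417 : nd 56417 = n106476 := ndS (p := 29964) (l := 6) rfl N29964 D106476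
theorem N56418 : nd 56418 = n106477 := ndS (p := 29965) (l := 5) rfl N29965 D106477
theorem N56419 : nd 56419 = n106478 := ndS (p := 29965) (l := 7) rfl N29965 D106478
theorem N56420 : nd 56420 = n106479 := ndS (p := 29966) (l := 4) rfl N29966 D106479
theorem N56421 : nd 56421 = n106480 := ndS (p := 29966) (l := 6) rfl N29966 D106480
theorem N56422 : nd 56422 = n106481 := ndS (p := 29969) (l := 4) rfl N29969 D106481
theorem N56423 : nd 56423 = n106482 := ndS (p := 29969) (l := 6) rfl N29969 D106482
theorem N56424 : nd 56424 = n106483 := ndS (p := 29970) (l := 0) rfl N29970 D106483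
theorem N56425 : nd 56425 = n106484 := ndS (p := 29970) (l := 1) rfl N29970 D106484
theorem N56426 : nd 56426 = n106485 := ndS (p := 29970) (l := 7) rfl N29970 D106485
theorem N56427 : nd 56427 = n106486 := ndS (p := 29973) (l := 4) rfl N29973 D106486
theorem N56428 : nd 56428 = n106487 := ndS (p := 29973) (l := 6) rfl N29973 D106487
theorem N56429 : nd 56429 = n106488 := ndS (p := 29975) (l := 0) rfl N29975 D106488
theorem N56430 : nd 56430 = n106489 := ndS (p := 29975) (l := 1) rfl N29975 D106489
theorem N56431 : nd 56431 = n106490 := ndS (p := 29975) (l := 7) rfl N29975 D106490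
theorem N56432 : nd 56432 = n106493 := ndS (p := 29978) (l := 0) rfl N29978 D106493
theorem N56433 : nd 56433 = n106494 := ndS (p := 29978) (l := 1) rfl N29978 D106494
theorem N56434 : nd 56434 = n106495 := ndS (p := 29978) (l := 5) rfl N29978 D106495
theorem N56435 : nd 56435 = n106496 := ndS (p := 29978) (l := 7) rfl N29978 D106496
theorem N56436 : nd 56436 = n106497 := ndS (p := 29979) (l := 4) rfl N29979 D106497
theorem N56437 : nd 56437 = n106498 := ndS (p := 29980) (l := 4) rfl N29980 D106498
theorem N56438 : nd 56438 = n106499 := ndS (p := 29980) (l := 6) rfl N29980 D106499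
theorem N56439 : nd 56439 = n106502 := ndS (p := 29983) (l := 0) rfl N29983 D106502
theorem N56440 : nd 56440 = n106503 := ndS (p := 29983) (l := 1) rfl N29983 D106503
theorem N56441 : nd 56441 = n106504 := ndS (p := 29983) (l := 7) rfl N29983 D106504
theorem N56442 : nd 56442 = n106505 := ndS (p := 29984) (l := 5) rfl N29984 D106505
theorem N56443 : nd 56443 = n106506 := ndS (p := 29985) (l := 5) rfl N29985 D106506
theorem N56444 : nd 56444 = n106507 := ndS (p := 29986) (l := 1) rfl N29986 D106507
theorem N56445 : nd 56445 = n106508 := ndS (p := 29986) (l := 4) rfl N29986 D106508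
theorem N56446 : nd 56446 = n106509 := ndS (p := 29986) (l := 6) rfl N29986 D106509
theorem N56447 : nd 56447 = n106510 := ndS (p := 29987) (l := 5) rfl N29987 D106510
theorem N56448 : nd 56448 = n106511 := ndS (p := 29988) (l := 0) rfl N29988 D106511
theorem N56449 : nd 56449 = n106512 := ndS (p := 29988) (l := 1) rfl N29988 D106512
theorem N56450 : nd 56450 = n106513 := ndS (p := 29988) (l := 5) rfl N29988 D106513
theorem N56451 : nd 56451 = n106514 := ndS (p := 29988) (l := 7) rfl N29988 D106514
theorem N56452 : nd 56452 = n106515 := ndS (p := 29990) (l := 3) rfl N29990 D106515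
theorem N56453 : nd 56453 = n106516 := ndS (p := 29990) (l := 6) rfl N29990 D106516
theorem N56454 : nd 56454 = n106517 := ndS (p := 29991) (l := 0) rfl N29991 D106517
theorem N56455 : nd 56455 = n106518 := ndS (p := 29991) (l := 1) rfl N29991 D106518
theorem N56456 : nd 56456 = n106519 := ndS (p := 29991) (l := 7) rfl N29991 D106519
theorem N56457 : nd 56457 = n106520 := ndS (p := 29992) (l := 4) rfl N29992 D106520
theorem N56458 : nd 56458 = n106521 := ndS (p := 29992) (l := 6) rfl N29992 D106521
theorem N56459 : nd 56459 = n106522 := ndS (p := 29993) (l := 0) rfl N29993 D106522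
theorem N56460 : nd 56460 = n106523 := ndS (p := 29993) (l := 1) rfl N29993 D106523
theorem N56461 : nd 56461 = n106524 := ndS (p := 29993) (l := 7) rfl N29993 D106524
theorem N56462 : nd 56462 = n106525 := ndS (p := 29994) (l := 4) rfl N29994 D106525
theorem N56463 : nd 56463 = n106526 := ndS (p := 29994) (l := 6) rfl N29994 D106526
theorem N56464 : nd 56464 = n106527 := ndS (p := 29995) (l := 0) rfl N29995 D106527
theorem N56465 : nd 56465 = n106529 := ndS (p := 29995) (l := 7) rfl N29995 D106529
theorem N56466 : nd 56466 = n106530 := ndS (p := 29996) (l := 0) rfl N29996 D106530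
theorem N56467 : nd 56467 = n106531 := ndS (p := 29996) (l := 1) rfl N29996 D106531
theorem N56468 : nd 56468 = n106532 := ndS (p := 29996) (l := 2) rfl N29996 D106532
theorem N56469 : nd 56469 = n106533 := ndS (p := 29996) (l := 6) rfl N29996 D106533
theorem N56470 : nd 56470 = n106534 := ndS (p := 29997) (l := 0) rfl N29997 D106534
theorem N56471 : nd 56471 = n106535 := ndS (p := 29997) (l := 1) rfl N29997 D106535
theorem N56472 : nd 56472 = n106536 := ndS (p := 29997) (l := 5) rfl N29997 D106536
theorem N56473 : nd 56473 = n106537 := ndS (p := 29997) (l := 7) rfl N29997 D106537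
theorem N56474 : nd 56474 = n106538 := ndS (p := 29998) (l := 3) rfl N29998 D106538
theorem N56475 : nd 56475 = n106539 := ndS (p := 29998) (l := 4) rfl N29998 D106539
theorem N56476 : nd 56476 = n106541 := ndS (p := 29999) (l := 3) rfl N29999 D106541
theorem N56477 : nd 56477 = n106542 := ndS (p := 29999) (l := 4) rfl N29999 D106542
theorem N56478 : nd 56478 = n106543 := ndS (p := 29999) (l := 6) rfl N29999 D106543
theorem N56479 : nd 56479 = n106544 := ndS (p := 30000) (l := 6) rfl N30000 D106544
theorem N56480 : nd 56480 = n106545 := ndS (p := 30001) (l := 0) rfl N30001 D106545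
theorem N56481 : nd 56481 = n106546 := ndS (p := 30001) (l := 1) rfl N30001 D106546
theorem N56482 : nd 56482 = n106547 := ndS (p := 30002) (l := 6) rfl N30002 D106547
theorem N56483 : nd 56483 = n106549 := ndS (p := 30003) (l := 6) rfl N30003 D106549
theorem N56484 : nd 56484 = n106550 := ndS (p := 30004) (l := 0) rfl N30004 D106550
theorem N56485 : nd 56485 = n106551 := ndS (p := 30004) (l := 1) rfl N30004 D106551
theorem N56486 : nd 56486 = n106552 := ndS (p := 30004) (l := 7) rfl N30004 D106552
theorem N56487 : nd 56487 = n106553 := ndS (p := 30005) (l := 3) rfl N30005 D106553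
theorem N56488 : nd 56488 = n106554 := ndS (p := 30006) (l := 0) rfl N30006 D106554
theorem N56489 : nd 56489 = n106556 := ndS (p := 30006) (l := 2) rfl N30006 D106556
theorem N56490 : nd 56490 = n106557 := ndS (p := 30006) (l := 5) rfl N30006 D106557
theorem N56491 : nd 56491 = n106558 := ndS (p := 30006) (l := 6) rfl N30006 D106558
theorem N56492 : nd 56492 = n106563 := ndS (p := 30008) (l := 7) rfl N30008 D106563
theorem N56493 : nd 56493 = n106567 := ndS (p := 30009) (l := 4) rfl N30009 D106567
theorem N56494 : nd 56494 = n106568 := ndS (p := 30009) (l := 6) rfl N30009 D106568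
theorem N56495 : nd 56495 = n106569 := ndS (p := 30011) (l := 0) rfl N30011 D106569
theorem N56496 : nd 56496 = n106570 := ndS (p := 30011) (l := 1) rfl N30011 D106570
theorem N56497 : nd 56497 = n106571 := ndS (p := 30011) (l := 2) rfl N30011 D106571
theorem N56498 : nd 56498 = n106572 := ndS (p := 30011) (l := 5) rfl N30011 D106572
theorem N56499 : nd 56499 = n106573 := ndS (p := 30011) (l := 6) rfl N30011 D106573
theorem N56500 : nd 56500 = n106574 := ndS (p := 30012) (l := 6) rfl N30012 D106574
theorem N56501 : nd 56501 = n106575 := ndS (p := 30013) (l := 5) rfl N30013 D106575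
theorem N56502 : nd 56502 = n106576 := ndS (p := 30013) (l := 7) rfl N30013 D106576
theorem N56503 : nd 56503 = n106577 := ndS (p := 30014) (l := 4) rfl N30014 D106577
theorem N56504 : nd 56504 = n106578 := ndS (p := 30015) (l := 0) rfl N30015 D106578
theorem N56505 : nd 56505 = n106579 := ndS (p := 30017) (l := 0) rfl N30017 D106579
theorem N56506 : nd 56506 = n106580 := ndS (p := 30017) (l := 1) rfl N30017 D106580
theorem N56507 : nd 56507 = n106581 := ndS (p := 30017) (l := 7) rfl N30017 D106581
theorem N56508 : nd 56508 = n106582 := ndS (p := 30018) (l := 0) rfl N30018 D106582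
theorem N56509 : nd 56509 = n106583 := ndS (p := 30018) (l := 1) rfl N30018 D106583
theorem N56510 : nd 56510 = n106584 := ndS (p := 30018) (l := 2) rfl N30018 D106584
theorem N56511 : nd 56511 = n106585 := ndS (p := 30018) (l := 5) rfl N30018 D106585
theorem N56512 : nd 56512 = n106586 := ndS (p := 30018) (l := 6) rfl N30018 D106586
theorem N56513 : nd 56513 = n106587 := ndS (p := 30019) (l := 6) rfl N30019 D106587
theorem N56514 : nd 56514 = n106588 := ndS (p := 30020) (l := 0) rfl N30020 D106588
theorem N56515 : nd 56515 = n106589 := ndS (p := 30020) (l := 1) rfl N30020 D106589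
theorem N56516 : nd 56516 = n106590 := ndS (p := 30020) (l := 5) rfl N30020 D106590
theorem N56517 : nd 56517 = n106591 := ndS (p := 30020) (l := 7) rfl N30020 D106591
theorem N56518 : nd 56518 = n106592 := ndS (p := 30021) (l := 4) rfl N30021 D106592
theorem N56519 : nd 56519 = n106593 := ndS (p := 30021) (l := 6) rfl N30021 D106593
theorem N56520 : nd 56520 = n106594 := ndS (p := 30023) (l := 0) rfl N30023 D106594
theorem N56521 : nd 56521 = n106595 := ndS (p := 30023) (l := 1) rfl N30023 D106595
theorem N56522 : nd 56522 = n106596 := ndS (p := 30023) (l := 7) rfl N30023 D106596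
theorem N56523 : nd 56523 = n106597 := ndS (p := 30024) (l := 0) rfl N30024 D106597
theorem N56524 : nd 56524 = n106598 := ndS (p := 30024) (l := 1) rfl N30024 D106598
theorem N56525 : nd 56525 = n106599 := ndS (p := 30024) (l := 2) rfl N30024 D106599
theorem N56526 : nd 56526 = n106600 := ndS (p := 30024) (l := 5) rfl N30024 D106600
theorem N56527 : nd 56527 = n106601 := ndS (p := 30024) (l := 6) rfl N30024 D106601
theorem N56528 : nd 56528 = n106602 := ndS (p := 30025) (l := 6) rfl N30025 D106602
theorem N56529 : nd 56529 = n106603 := ndS (p := 30026) (l := 0) rfl N30026 D106603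
theorem N56530 : nd 56530 = n106604 := ndS (p := 30026) (l := 1) rfl N30026 D106604
theorem N56531 : nd 56531 = n106606 := ndS (p := 30026) (l := 7) rfl N30026 D106606
theorem N56532 : nd 56532 = n106609 := ndS (p := 30027) (l := 6) rfl N30027 D106609
theorem N56533 : nd 56533 = n106612 := ndS (p := 30029) (l := 0) rfl N30029 D106612
theorem N56534 : nd 56534 = n106613 := ndS (p := 30029) (l := 1) rfl N30029 D106613
theorem N56535 : nd 56535 = n106614 := ndS (p := 30029) (l := 2) rfl N30029 D106614
theorem N56536 : nd 56536 = n106615 := ndS (p := 30029) (l := 5) rfl N30029 D106615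
theorem N56537 : nd 56537 = n106616 := ndS (p := 30029) (l := 6) rfl N30029 D106616
theorem N56538 : nd 56538 = n106617 := ndS (p := 30030) (l := 6) rfl N30030 D106617
theorem N56539 : nd 56539 = n106618 := ndS (p := 30031) (l := 5) rfl N30031 D106618
theorem N56540 : nd 56540 = n106619 := ndS (p := 30031) (l := 7) rfl N30031 D106619
theorem N56541 : nd 56541 = n106620 := ndS (p := 30032) (l := 0) rfl N30032 D106620
theorem N56542 : nd 56542 = n106621 := ndS (p := 30032) (l := 1) rfl N30032 D106621
theorem N56543 : nd 56543 = n106622 := ndS (p := 30032) (l := 2) rfl N30032 D106622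
theorem N56544 : nd 56544 = n106623 := ndS (p := 30032) (l := 5) rfl N30032 D106623
theorem N56545 : nd 56545 = n106624 := ndS (p := 30032) (l := 6) rfl N30032 D106624
theorem N56546 : nd 56546 = n106625 := ndS (p := 30033) (l := 6) rfl N30033 D106625
theorem N56547 : nd 56547 = n106627 := ndS (p := 30034) (l := 7) rfl N30034 D106627
theorem N56548 : nd 56548 = n106628 := ndS (p := 30035) (l := 0) rfl N30035 D106628
theorem N56549 : nd 56549 = n106629 := ndS (p := 30035) (l := 2) rfl N30035 D106629
theorem N56550 : nd 56550 = n106630 := ndS (p := 30035) (l := 3) rfl N30035 D106630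
theorem N56551 : nd 56551 = n106631 := ndS (p := 30035) (l := 4) rfl N30035 D106631
theorem N56552 : nd 56552 = n106632 := ndS (p := 30035) (l := 5) rfl N30035 D106632
theorem N56553 : nd 56553 = n106633 := ndS (p := 30035) (l := 6) rfl N30035 D106633
theorem N56554 : nd 56554 = n106634 := ndS (p := 30035) (l := 7) rfl N30035 D106634
theorem N56555 : nd 56555 = n106635 := ndS (p := 30036) (l := 3) rfl N30036 D106635
theorem N56556 : nd 56556 = n106636 := ndS (p := 30036) (l := 4) rfl N30036 D106636
theorem N56557 : nd 56557 = n106637 := ndS (p := 30036) (l := 5) rfl N30036 D106637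
theorem N56558 : nd 56558 = n106638 := ndS (p := 30036) (l := 6) rfl N30036 D106638
theorem N56559 : nd 56559 = n106641 := ndS (p := 30037) (l := 5) rfl N30037 D106641
theorem N56560 : nd 56560 = n106642 := ndS (p := 30038) (l := 0) rfl N30038 D106642
theorem N56561 : nd 56561 = n106643 := ndS (p := 30038) (l := 1) rfl N30038 D106643
theorem N56562 : nd 56562 = n106644 := ndS (p := 30038) (l := 4) rfl N30038 D106644
theorem N56563 : nd 56563 = n106645 := ndS (p := 30038) (l := 6) rfl N30038 D106645
theorem N56564 : nd 56564 = n106646 := ndS (p := 30039) (l := 6) rfl N30039 D106646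
theorem N56565 : nd 56565 = n106647 := ndS (p := 30040) (l := 3) rfl N30040 D106647
theorem N56566 : nd 56566 = n106648 := ndS (p := 30040) (l := 6) rfl N30040 D106648
theorem N56567 : nd 56567 = n106649 := ndS (p := 30041) (l := 3) rfl N30041 D106649
theorem N56568 : nd 56568 = n106650 := ndS (p := 30041) (l := 6) rfl N30041 D106650
theorem N56569 : nd 56569 = n106651 := ndS (p := 30042) (l := 0) rfl N30042 D106651
theorem N56570 : nd 56570 = n106652 := ndS (p := 30042) (l := 1) rfl N30042 D106652
theorem N56571 : nd 56571 = n106653 := ndS (p := 30042) (l := 7) rfl N30042 D106653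
theorem N56572 : nd 56572 = n106654 := ndS (p := 30043) (l := 5) rfl N30043 D106654
theorem N56573 : nd 56573 = n106655 := ndS (p := 30044) (l := 0) rfl N30044 D106655
theorem N56574 : nd 56574 = n106656 := ndS (p := 30044) (l := 1) rfl N30044 D106656
theorem N56575 : nd 56575 = n106657 := ndS (p := 30044) (l := 7) rfl N30044 D106657
theorem N56576 : nd 56576 = n106658 := ndS (p := 30045) (l := 0) rfl N30045 D106658
theorem N56577 : nd 56577 = n106659 := ndS (p := 30045) (l := 1) rfl N30045 D106659
theorem N56578 : nd 56578 = n106660 := ndS (p := 30045) (l := 2) rfl N30045 D106660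
theorem N56579 : nd 56579 = n106661 := ndS (p := 30045) (l := 6) rfl N30045 D106661
theorem N56580 : nd 56580 = n106662 := ndS (p := 30046) (l := 5) rfl N30046 D106662
theorem N56581 : nd 56581 = n106663 := ndS (p := 30046) (l := 7) rfl N30046 D106663
theorem N56582 : nd 56582 = n106670 := ndS (p := 30048) (l := 6) rfl N30048 D106670
theorem N56583 : nd 56583 = n106671 := ndS (p := 30051) (l := 0) rfl N30051 D106671
theorem N56584 : nd 56584 = n106672 := ndS (p := 30051) (l := 1) rfl N30051 D106672
theorem N56585 : nd 56585 = n106673 := ndS (p := 30051) (l := 7) rfl N30051 D106673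
theorem N56586 : nd 56586 = n106674 := ndS (p := 30052) (l := 0) rfl N30052 D106674
theorem N56587 : nd 56587 = n106675 := ndS (p := 30052) (l := 1) rfl N30052 D106675
theorem N56588 : nd 56588 = n106676 := ndS (p := 30052) (l := 2) rfl N30052 D106676
theorem N56589 : nd 56589 = n106677 := ndS (p := 30052) (l := 6) rfl N30052 D106677
theorem N56590 : nd 56590 = n106678 := ndS (p := 30053) (l := 5) rfl N30053 D106678
theorem N56591 : nd 56591 = n106679 := ndS (p := 30053) (l := 7) rfl N30053 D106679
theorem N56592 : nd 56592 = n106680 := ndS (p := 30054) (l := 5) rfl N30054 D106680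
theorem N56593 : nd 56593 = n106681 := ndS (p := 30054) (l := 6) rfl N30054 D106681
theorem N56594 : nd 56594 = n106682 := ndS (p := 30057) (l := 1) rfl N30057 D106682
theorem N56595 : nd 56595 = n106683 := ndS (p := 30057) (l := 4) rfl N30057 D106683
theorem N56596 : nd 56596 = n106684 := ndS (p := 30057) (l := 6) rfl N30057 D106684
theorem N56597 : nd 56597 = n106685 := ndS (p := 30058) (l := 0) rfl N30058 D106685
theorem N56598 : nd 56598 = n106686 := ndS (p := 30058) (l := 1) rfl N30058 D106686
theorem N56599 : nd 56599 = n106687 := ndS (p := 30058) (l := 7) rfl N30058 D106687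
theorem N56600 : nd 56600 = n106688 := ndS (p := 30059) (l := 0) rfl N30059 D106688
theorem N56601 : nd 56601 = n106689 := ndS (p := 30059) (l := 1) rfl N30059 D106689
theorem N56602 : nd 56602 = n106690 := ndS (p := 30059) (l := 7) rfl N30059 D106690
theorem N56603 : nd 56603 = n106691 := ndS (p := 30060) (l := 3) rfl N30060 D106691
theorem N56604 : nd 56604 = n106692 := ndS (p := 30061) (l := 0) rfl N30061 D106692
theorem N56605 : nd 56605 = n106693 := ndS (p := 30061) (l := 1) rfl N30061 D106693
theorem N56606 : nd 56606 = n106694 := ndS (p := 30061) (l := 7) rfl N30061 D106694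
theorem N56607 : nd 56607 = n106695 := ndS (p := 30062) (l := 5) rfl N30062 D106695
theorem N56608 : nd 56608 = n106696 := ndS (p := 30063) (l := 5) rfl N30063 D106696
theorem N56609 : nd 56609 = n106697 := ndS (p := 30064) (l := 0) rfl N30064 D106697
theorem N56610 : nd 56610 = n106698 := ndS (p := 30064) (l := 6) rfl N30064 D106698
theorem N56611 : nd 56611 = n106699 := ndS (p := 30065) (l := 0) rfl N30065 D106699
theorem N56612 : nd 56612 = n106700 := ndS (p := 30065) (l := 1) rfl N30065 D106700
theorem N56613 : nd 56613 = n106701 := ndS (p := 30065) (l := 7) rfl N30065 D106701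
theorem N56614 : nd 56614 = n106702 := ndS (p := 30066) (l := 0) rfl N30066 D106702
theorem N56615 : nd 56615 = n106703 := ndS (p := 30066) (l := 1) rfl N30066 D106703
theorem N56616 : nd 56616 = n106704 := ndS (p := 30066) (l := 5) rfl N30066 D106704
theorem N56617 : nd 56617 = n106705 := ndS (p := 30066) (l := 7) rfl N30066 D106705
theorem N56618 : nd 56618 = n106706 := ndS (p := 30067) (l := 4) rfl N30067 D106706
theorem N56619 : nd 56619 = n106707 := ndS (p := 30068) (l := 5) rfl N30068 D106707
theorem N56620 : nd 56620 = n106708 := ndS (p := 30069) (l := 5) rfl N30069 D106708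
theorem N56621 : nd 56621 = n106709 := ndS (p := 30070) (l := 0) rfl N30070 D106709
theorem N56622 : nd 56622 = n106710 := ndS (p := 30070) (l := 5) rfl N30070 D106710
theorem N56623 : nd 56623 = n106711 := ndS (p := 30070) (l := 6) rfl N30070 D106711
theorem N56624 : nd 56624 = n106712 := ndS (p := 30071) (l := 4) rfl N30071 D106712
theorem N56625 : nd 56625 = n106713 := ndS (p := 30071) (l := 6) rfl N30071 D106713
theorem N56626 : nd 56626 = n106714 := ndS (p := 30071) (l := 7) rfl N30071 D106714
theorem N56627 : nd 56627 = n106715 := ndS (p := 30073) (l := 6) rfl N30073 D106715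
theorem N56628 : nd 56628 = n106716 := ndS (p := 30074) (l := 5) rfl N30074 D106716
theorem N56629 : nd 56629 = n106717 := ndS (p := 30075) (l := 5) rfl N30075 D106717
theorem N56630 : nd 56630 = n106718 := ndS (p := 30076) (l := 4) rfl N30076 D106718
theorem N56631 : nd 56631 = n106719 := ndS (p := 30076) (l := 6) rfl N30076 D106719
theorem N56632 : nd 56632 = n106720 := ndS (p := 30077) (l := 7) rfl N30077 D106720
theorem N56633 : nd 56633 = n106721 := ndS (p := 30078) (l := 1) rfl N30078 D106721
theorem N56634 : nd 56634 = n106722 := ndS (p := 30078) (l := 4) rfl N30078 D106722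
theorem N56635 : nd 56635 = n106723 := ndS (p := 30078) (l := 6) rfl N30078 D106723
theorem N56636 : nd 56636 = n106724 := ndS (p := 30079) (l := 4) rfl N30079 D106724
theorem N56637 : nd 56637 = n106725 := ndS (p := 30079) (l := 6) rfl N30079 D106725
theorem N56638 : nd 56638 = n106726 := ndS (p := 30080) (l := 4) rfl N30080 D106726
theorem N56639 : nd 56639 = n106727 := ndS (p := 30080) (l := 6) rfl N30080 D106727
theorem N56640 : nd 56640 = n106730 := ndS (p := 30081) (l := 3) rfl N30081 D106730
theorem N56641 : nd 56641 = n106731 := ndS (p := 30081) (l := 5) rfl N30081 D106731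
theorem N56642 : nd 56642 = n106732 := ndS (p := 30081) (l := 6) rfl N30081 D106732
theorem N56643 : nd 56643 = n106733 := ndS (p := 30081) (l := 7) rfl N30081 D106733
theorem N56644 : nd 56644 = n106734 := ndS (p := 30082) (l := 0) rfl N30082 D106734
theorem N56645 : nd 56645 = n106735 := ndS (p := 30082) (l := 1) rfl N30082 D106735
theorem N56646 : nd 56646 = n106736 := ndS (p := 30082) (l := 7) rfl N30082 D106736
theorem N56647 : nd 56647 = n106737 := ndS (p := 30083) (l := 6) rfl N30083 D106737
theorem N56648 : nd 56648 = n106738 := ndS (p := 30084) (l := 5) rfl N30084 D106738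
theorem N56649 : nd 56649 = n106739 := ndS (p := 30085) (l := 4) rfl N30085 D106739
theorem N56650 : nd 56650 = n106740 := ndS (p := 30085) (l := 6) rfl N30085 D106740
theorem N56651 : nd 56651 = n106741 := ndS (p := 30086) (l := 0) rfl N30086 D106741
theorem N56652 : nd 56652 = n106742 := ndS (p := 30086) (l := 1) rfl N30086 D106742
theorem N56653 : nd 56653 = n106743 := ndS (p := 30086) (l := 7) rfl N30086 D106743
theorem N56654 : nd 56654 = n106744 := ndS (p := 30087) (l := 4) rfl N30087 D106744
theorem N56655 : nd 56655 = n106746 := ndS (p := 30088) (l := 0) rfl N30088 D106746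
theorem N56656 : nd 56656 = n106747 := ndS (p := 30088) (l := 1) rfl N30088 D106747
theorem N56657 : nd 56657 = n106748 := ndS (p := 30088) (l := 7) rfl N30088 D106748
theorem N56658 : nd 56658 = n106749 := ndS (p := 30089) (l := 0) rfl N30089 D106749
theorem N56659 : nd 56659 = n106750 := ndS (p := 30089) (l := 1) rfl N30089 D106750
theorem N56660 : nd 56660 = n106751 := ndS (p := 30089) (l := 2) rfl N30089 D106751
theorem N56661 : nd 56661 = n106752 := ndS (p := 30089) (l := 6) rfl N30089 D106752
theorem N56662 : nd 56662 = n106753 := ndS (p := 30090) (l := 0) rfl N30090 D106753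
theorem N56663 : nd 56663 = n106754 := ndS (p := 30090) (l := 1) rfl N30090 D106754
theorem N56664 : nd 56664 = n106755 := ndS (p := 30090) (l := 5) rfl N30090 D106755
theorem N56665 : nd 56665 = n106756 := ndS (p := 30090) (l := 7) rfl N30090 D106756
theorem N56666 : nd 56666 = n106757 := ndS (p := 30091) (l := 3) rfl N30091 D106757
theorem N56667 : nd 56667 = n106758 := ndS (p := 30091) (l := 4) rfl N30091 D106758
theorem N56668 : nd 56668 = n106759 := ndS (p := 30091) (l := 6) rfl N30091 D106759
theorem N56669 : nd 56669 = n106760 := ndS (p := 30092) (l := 3) rfl N30092 D106760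
theorem N56670 : nd 56670 = n106761 := ndS (p := 30092) (l := 4) rfl N30092 D106761
theorem N56671 : nd 56671 = n106762 := ndS (p := 30092) (l := 6) rfl N30092 D106762
theorem N56672 : nd 56672 = n106763 := ndS (p := 30093) (l := 6) rfl N30093 D106763
theorem N56673 : nd 56673 = n106764 := ndS (p := 30094) (l := 0) rfl N30094 D106764
theorem N56674 : nd 56674 = n106765 := ndS (p := 30094) (l := 1) rfl N30094 D106765
theorem N56675 : nd 56675 = n106766 := ndS (p := 30094) (l := 5) rfl N30094 D106766
theorem N56676 : nd 56676 = n106768 := ndS (p := 30096) (l := 3) rfl N30096 D106768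
theorem N56677 : nd 56677 = n106770 := ndS (p := 30096) (l := 5) rfl N30096 D106770
theorem N56678 : nd 56678 = n106774 := ndS (p := 30097) (l := 6) rfl N30097 D106774
theorem N56679 : nd 56679 = n106778 := ndS (p := 30099) (l := 6) rfl N30099 D106778
theorem N56680 : nd 56680 = n106782 := ndS (p := 30102) (l := 0) rfl N30102 D106782
theorem N56681 : nd 56681 = n106783 := ndS (p := 30102) (l := 2) rfl N30102 D106783
theorem N56682 : nd 56682 = n106784 := ndS (p := 30102) (l := 3) rfl N30102 D106784
theorem N56683 : nd 56683 = n106785 := ndS (p := 30102) (l := 4) rfl N30102 D106785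
theorem N56684 : nd 56684 = n106787 := ndS (p := 30102) (l := 6) rfl N30102 D106787
theorem N56685 : nd 56685 = n106788 := ndS (p := 30102) (l := 7) rfl N30102 D106788
theorem N56686 : nd 56686 = n106789 := ndS (p := 30103) (l := 3) rfl N30103 D106789
theorem N56687 : nd 56687 = n106790 := ndS (p := 30103) (l := 4) rfl N30103 D106790
theorem N56688 : nd 56688 = n106792 := ndS (p := 30103) (l := 6) rfl N30103 D106792
theorem N56689 : nd 56689 = n106795 := ndS (p := 30104) (l := 5) rfl N30104 D106795
theorem N56690 : nd 56690 = n106800 := ndS (p := 30106) (l := 6) rfl N30106 D106800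
theorem N56691 : nd 56691 = n106801 := ndS (p := 30107) (l := 0) rfl N30107 D106801
theorem N56692 : nd 56692 = n106802 := ndS (p := 30107) (l := 1) rfl N30107 D106802
theorem N56693 : nd 56693 = n106803 := ndS (p := 30107) (l := 7) rfl N30107 D106803
theorem N56694 : nd 56694 = n106804 := ndS (p := 30108) (l := 5) rfl N30108 D106804
theorem N56695 : nd 56695 = n106805 := ndS (p := 30109) (l := 5) rfl N30109 D106805
theorem N56696 : nd 56696 = n106806 := ndS (p := 30110) (l := 5) rfl N30110 D106806
theorem N56697 : nd 56697 = n106807 := ndS (p := 30110) (l := 6) rfl N30110 D106807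
theorem N56698 : nd 56698 = n106808 := ndS (p := 30111) (l := 3) rfl N30111 D106808
theorem N56699 : nd 56699 = n106809 := ndS (p := 30111) (l := 6) rfl N30111 D106809
theorem N56700 : nd 56700 = n106810 := ndS (p := 30113) (l := 7) rfl N30113 D106810
theorem N56701 : nd 56701 = n106811 := ndS (p := 30114) (l := 0) rfl N30114 D106811
theorem N56702 : nd 56702 = n106812 := ndS (p := 30114) (l := 1) rfl N30114 D106812
theorem N56703 : nd 56703 = n106813 := ndS (p := 30114) (l := 2) rfl N30114 D106813
theorem N56704 : nd 56704 = n106814 := ndS (p := 30114) (l := 5) rfl N30114 D106814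
theorem N56705 : nd 56705 = n106815 := ndS (p := 30114) (l := 7) rfl N30114 D106815
theorem N56706 : nd 56706 = n106816 := ndS (p := 30115) (l := 4) rfl N30115 D106816
theorem N56707 : nd 56707 = n106817 := ndS (p := 30115) (l := 6) rfl N30115 D106817
theorem N56708 : nd 56708 = n106818 := ndS (p := 30116) (l := 6) rfl N30116 D106818
theorem N56709 : nd 56709 = n106822 := ndS (p := 30118) (l := 5) rfl N30118 D106822
theorem N56710 : nd 56710 = n106825 := ndS (p := 30119) (l := 6) rfl N30119 D106825
theorem N56711 : nd 56711 = n106829 := ndS (p := 30121) (l := 6) rfl N30121 D106829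
theorem N56712 : nd 56712 = n106833 := ndS (p := 30124) (l := 0) rfl N30124 D106833
theorem N56713 : nd 56713 = n106834 := ndS (p := 30124) (l := 2) rfl N30124 D106834
theorem N56714 : nd 56714 = n106835 := ndS (p := 30124) (l := 4) rfl N30124 D106835
theorem N56715 : nd 56715 = n106836 := ndS (p := 30124) (l := 5) rfl N30124 D106836
theorem N56716 : nd 56716 = n106837 := ndS (p := 30124) (l := 6) rfl N30124 D106837
theorem N56717 : nd 56717 = n106839 := ndS (p := 30125) (l := 3) rfl N30125 D106839
theorem N56718 : nd 56718 = n106840 := ndS (p := 30125) (l := 4) rfl N30125 D106840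
theorem N56719 : nd 56719 = n106841 := ndS (p := 30125) (l := 5) rfl N30125 D106841
theorem N56720 : nd 56720 = n106842 := ndS (p := 30125) (l := 6) rfl N30125 D106842
theorem N56721 : nd 56721 = n106844 := ndS (p := 30126) (l := 5) rfl N30126 D106844
theorem N56722 : nd 56722 = n106845 := ndS (p := 30127) (l := 0) rfl N30127 D106845
theorem N56723 : nd 56723 = n106846 := ndS (p := 30127) (l := 1) rfl N30127 D106846
theorem N56724 : nd 56724 = n106848 := ndS (p := 30127) (l := 6) rfl N30127 D106848
theorem N56725 : nd 56725 = n106850 := ndS (p := 30129) (l := 0) rfl N30129 D106850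
theorem N56726 : nd 56726 = n106851 := ndS (p := 30129) (l := 1) rfl N30129 D106851
theorem N56727 : nd 56727 = n106852 := ndS (p := 30129) (l := 7) rfl N30129 D106852
theorem N56728 : nd 56728 = n106854 := ndS (p := 30131) (l := 5) rfl N30131 D106854
theorem N56729 : nd 56729 = n106855 := ndS (p := 30132) (l := 5) rfl N30132 D106855
theorem N56730 : nd 56730 = n106856 := ndS (p := 30132) (l := 6) rfl N30132 D106856
theorem N56731 : nd 56731 = n106857 := ndS (p := 30133) (l := 3) rfl N30133 D106857
theorem N56732 : nd 56732 = n106858 := ndS (p := 30133) (l := 6) rfl N30133 D106858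
theorem N56733 : nd 56733 = n106859 := ndS (p := 30134) (l := 0) rfl N30134 D106859
theorem N56734 : nd 56734 = n106861 := ndS (p := 30134) (l := 7) rfl N30134 D106861
theorem N56735 : nd 56735 = n106862 := ndS (p := 30136) (l := 0) rfl N30136 D106862
theorem N56736 : nd 56736 = n106863 := ndS (p := 30136) (l := 1) rfl N30136 D106863
theorem N56737 : nd 56737 = n106864 := ndS (p := 30136) (l := 2) rfl N30136 D106864
theorem N56738 : nd 56738 = n106865 := ndS (p := 30136) (l := 5) rfl N30136 D106865
theorem N56739 : nd 56739 = n106868 := ndS (p := 30138) (l := 1) rfl N30138 D106868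
theorem N56740 : nd 56740 = n106869 := ndS (p := 30138) (l := 5) rfl N30138 D106869
theorem N56741 : nd 56741 = n106871 := ndS (p := 30140) (l := 0) rfl N30140 D106871
theorem N56742 : nd 56742 = n106872 := ndS (p := 30140) (l := 1) rfl N30140 D106872
theorem N56743 : nd 56743 = n106873 := ndS (p := 30140) (l := 2) rfl N30140 D106873
theorem N56744 : nd 56744 = n106874 := ndS (p := 30140) (l := 5) rfl N30140 D106874
theorem N56745 : nd 56745 = n106875 := ndS (p := 30140) (l := 6) rfl N30140 D106875
theorem N56746 : nd 56746 = n106876 := ndS (p := 30141) (l := 6) rfl N30141 D106876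
theorem N56747 : nd 56747 = n106877 := ndS (p := 30142) (l := 0) rfl N30142 D106877
theorem N56748 : nd 56748 = n106878 := ndS (p := 30142) (l := 1) rfl N30142 D106878
theorem N56749 : nd 56749 = n106879 := ndS (p := 30142) (l := 5) rfl N30142 D106879
theorem N56750 : nd 56750 = n106880 := ndS (p := 30142) (l := 7) rfl N30142 D106880
theorem N56751 : nd 56751 = n106881 := ndS (p := 30143) (l := 4) rfl N30143 D106881
theorem N56752 : nd 56752 = n106882 := ndS (p := 30143) (l := 5) rfl N30143 D106882
theorem N56753 : nd 56753 = n106883 := ndS (p := 30144) (l := 4) rfl N30144 D106883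
theorem N56754 : nd 56754 = n106884 := ndS (p := 30144) (l := 6) rfl N30144 D106884
theorem N56755 : nd 56755 = n106885 := ndS (p := 30146) (l := 0) rfl N30146 D106885
theorem N56756 : nd 56756 = n106886 := ndS (p := 30146) (l := 1) rfl N30146 D106886
theorem N56757 : nd 56757 = n106887 := ndS (p := 30146) (l := 2) rfl N30146 D106887
theorem N56758 : nd 56758 = n106888 := ndS (p := 30146) (l := 5) rfl N30146 D106888
theorem N56759 : nd 56759 = n106889 := ndS (p := 30146) (l := 6) rfl N30146 D106889
theorem N56760 : nd 56760 = n106890 := ndS (p := 30147) (l := 6) rfl N30147 D106890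
theorem N56761 : nd 56761 = n106891 := ndS (p := 30148) (l := 5) rfl N30148 D106891
theorem N56762 : nd 56762 = n106892 := ndS (p := 30148) (l := 7) rfl N30148 D106892
theorem N56763 : nd 56763 = n106893 := ndS (p := 30149) (l := 0) rfl N30149 D106893
theorem N56764 : nd 56764 = n106894 := ndS (p := 30149) (l := 1) rfl N30149 D106894
theorem N56765 : nd 56765 = n106896 := ndS (p := 30149) (l := 5) rfl N30149 D106896
theorem N56766 : nd 56766 = n106898 := ndS (p := 30150) (l := 6) rfl N30150 D106898
theorem N56767 : nd 56767 = n106901 := ndS (p := 30151) (l := 5) rfl N30151 D106901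
theorem N56768 : nd 56768 = n106903 := ndS (p := 30152) (l := 0) rfl N30152 D106903
theorem N56769 : nd 56769 = n106904 := ndS (p := 30152) (l := 2) rfl N30152 D106904
theorem N56770 : nd 56770 = n106905 := ndS (p := 30152) (l := 3) rfl N30152 D106905
theorem N56771 : nd 56771 = n106906 := ndS (p := 30152) (l := 4) rfl N30152 D106906
theorem N56772 : nd 56772 = n106907 := ndS (p := 30152) (l := 5) rfl N30152 D106907
theorem N56773 : nd 56773 = n106908 := ndS (p := 30152) (l := 6) rfl N30152 D106908
theorem N56774 : nd 56774 = n106909 := ndS (p := 30152) (l := 7) rfl N30152 D106909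
theorem N56775 : nd 56775 = n106910 := ndS (p := 30153) (l := 3) rfl N30153 D106910
theorem N56776 : nd 56776 = n106911 := ndS (p := 30153) (l := 4) rfl N30153 D106911
theorem N56777 : nd 56777 = n106912 := ndS (p := 30153) (l := 5) rfl N30153 D106912
theorem N56778 : nd 56778 = n106913 := ndS (p := 30153) (l := 6) rfl N30153 D106913
theorem N56779 : nd 56779 = n106917 := ndS (p := 30155) (l := 0) rfl N30155 D106917
theorem N56780 : nd 56780 = n106918 := ndS (p := 30155) (l := 1) rfl N30155 D106918
theorem N56781 : nd 56781 = n106921 := ndS (p := 30155) (l := 7) rfl N30155 D106921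
theorem N56782 : nd 56782 = n106922 := ndS (p := 30156) (l := 6) rfl N30156 D106922
theorem N56783 : nd 56783 = n106923 := ndS (p := 30157) (l := 3) rfl N30157 D106923
theorem N56784 : nd 56784 = n106924 := ndS (p := 30157) (l := 6) rfl N30157 D106924
theorem N56785 : nd 56785 = n106925 := ndS (p := 30158) (l := 3) rfl N30158 D106925
theorem N56786 : nd 56786 = n106926 := ndS (p := 30158) (l := 6) rfl N30158 D106926
theorem N56787 : nd 56787 = n106927 := ndS (p := 30159) (l := 3) rfl N30159 D106927
theorem N56788 : nd 56788 = n106928 := ndS (p := 30159) (l := 6) rfl N30159 D106928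
theorem N56789 : nd 56789 = n106929 := ndS (p := 30160) (l := 0) rfl N30160 D106929
theorem N56790 : nd 56790 = n106930 := ndS (p := 30160) (l := 1) rfl N30160 D106930
theorem N56791 : nd 56791 = n106932 := ndS (p := 30161) (l := 6) rfl N30161 D106932
theorem N56792 : nd 56792 = n106933 := ndS (p := 30162) (l := 0) rfl N30162 D106933
theorem N56793 : nd 56793 = n106934 := ndS (p := 30162) (l := 1) rfl N30162 D106934
theorem N56794 : nd 56794 = n106935 := ndS (p := 30162) (l := 5) rfl N30162 D106935
theorem N56795 : nd 56795 = n106936 := ndS (p := 30163) (l := 4) rfl N30163 D106936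
theorem N56796 : nd 56796 = n106937 := ndS (p := 30163) (l := 5) rfl N30163 D106937
theorem N56797 : nd 56797 = n106938 := ndS (p := 30163) (l := 6) rfl N30163 D106938
theorem N56798 : nd 56798 = n106939 := ndS (p := 30164) (l := 0) rfl N30164 D106939
theorem N56799 : nd 56799 = n106940 := ndS (p := 30164) (l := 1) rfl N30164 D106940
theorem N56800 : nd 56800 = n106941 := ndS (p := 30165) (l := 3) rfl N30165 D106941
theorem N56801 : nd 56801 = n106942 := ndS (p := 30165) (l := 5) rfl N30165 D106942
theorem N56802 : nd 56802 = n106943 := ndS (p := 30166) (l := 0) rfl N30166 D106943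
theorem N56803 : nd 56803 = n106944 := ndS (p := 30166) (l := 1) rfl N30166 D106944
theorem N56804 : nd 56804 = n106945 := ndS (p := 30166) (l := 2) rfl N30166 D106945
theorem N56805 : nd 56805 = n106946 := ndS (p := 30166) (l := 5) rfl N30166 D106946
theorem N56806 : nd 56806 = n106947 := ndS (p := 30166) (l := 6) rfl N30166 D106947
theorem N56807 : nd 56807 = n106948 := ndS (p := 30167) (l := 6) rfl N30167 D106948
theorem N56808 : nd 56808 = n106949 := ndS (p := 30168) (l := 0) rfl N30168 D106949
theorem N56809 : nd 56809 = n106950 := ndS (p := 30168) (l := 1) rfl N30168 D106950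
theorem N56810 : nd 56810 = n106951 := ndS (p := 30168) (l := 5) rfl N30168 D106951
theorem N56811 : nd 56811 = n106952 := ndS (p := 30168) (l := 7) rfl N30168 D106952
theorem N56812 : nd 56812 = n106954 := ndS (p := 30170) (l := 6) rfl N30170 D106954
theorem N56813 : nd 56813 = n106955 := ndS (p := 30172) (l := 3) rfl N30172 D106955
theorem N56814 : nd 56814 = n106956 := ndS (p := 30172) (l := 5) rfl N30172 D106956
theorem N56815 : nd 56815 = n106957 := ndS (p := 30173) (l := 0) rfl N30173 D106957
theorem N56816 : nd 56816 = n106958 := ndS (p := 30173) (l := 7) rfl N30173 D106958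
theorem N56817 : nd 56817 = n106959 := ndS (p := 30174) (l := 0) rfl N30174 D106959
theorem N56818 : nd 56818 = n106960 := ndS (p := 30174) (l := 1) rfl N30174 D106960
theorem N56819 : nd 56819 = n106961 := ndS (p := 30174) (l := 2) rfl N30174 D106961
theorem N56820 : nd 56820 = n106962 := ndS (p := 30174) (l := 5) rfl N30174 D106962
theorem N56821 : nd 56821 = n106963 := ndS (p := 30174) (l := 6) rfl N30174 D106963
theorem N56822 : nd 56822 = n106964 := ndS (p := 30175) (l := 6) rfl N30175 D106964
theorem N56823 : nd 56823 = n106966 := ndS (p := 30176) (l := 5) rfl N30176 D106966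
theorem N56824 : nd 56824 = n106967 := ndS (p := 30177) (l := 4) rfl N30177 D106967
theorem N56825 : nd 56825 = n106968 := ndS (p := 30178) (l := 0) rfl N30178 D106968
theorem N56826 : nd 56826 = n106969 := ndS (p := 30178) (l := 1) rfl N30178 D106969
theorem N56827 : nd 56827 = n106970 := ndS (p := 30178) (l := 4) rfl N30178 D106970
theorem N56828 : nd 56828 = n106972 := ndS (p := 30181) (l := 0) rfl N30181 D106972
theorem N56829 : nd 56829 = n106973 := ndS (p := 30181) (l := 1) rfl N30181 D106973
theorem N56830 : nd 56830 = n106976 := ndS (p := 30181) (l := 6) rfl N30181 D106976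
theorem N56831 : nd 56831 = n106978 := ndS (p := 30183) (l := 0) rfl N30183 D106978
theorem N56832 : nd 56832 = n106979 := ndS (p := 30183) (l := 1) rfl N30183 D106979
theorem N56833 : nd 56833 = n106980 := ndS (p := 30183) (l := 5) rfl N30183 D106980
theorem N56834 : nd 56834 = n106981 := ndS (p := 30183) (l := 7) rfl N30183 D106981
theorem N56835 : nd 56835 = n106982 := ndS (p := 30184) (l := 3) rfl N30184 D106982
theorem N56836 : nd 56836 = n106983 := ndS (p := 30184) (l := 4) rfl N30184 D106983
theorem N56837 : nd 56837 = n106984 := ndS (p := 30184) (l := 5) rfl N30184 D106984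
theorem N56838 : nd 56838 = n106985 := ndS (p := 30185) (l := 4) rfl N30185 D106985
theorem N56839 : nd 56839 = n106986 := ndS (p := 30185) (l := 6) rfl N30185 D106986
theorem N56840 : nd 56840 = n106987 := ndS (p := 30187) (l := 0) rfl N30187 D106987
theorem N56841 : nd 56841 = n106988 := ndS (p := 30187) (l := 1) rfl N30187 D106988
theorem N56842 : nd 56842 = n106989 := ndS (p := 30187) (l := 2) rfl N30187 D106989
theorem N56843 : nd 56843 = n106990 := ndS (p := 30187) (l := 5) rfl N30187 D106990
theorem N56844 : nd 56844 = n106991 := ndS (p := 30187) (l := 6) rfl N30187 D106991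
theorem N56845 : nd 56845 = n106992 := ndS (p := 30188) (l := 6) rfl N30188 D106992
theorem N56846 : nd 56846 = n106994 := ndS (p := 30189) (l := 5) rfl N30189 D106994
theorem N56847 : nd 56847 = n106995 := ndS (p := 30189) (l := 7) rfl N30189 D106995
theorem N56848 : nd 56848 = n106996 := ndS (p := 30190) (l := 4) rfl N30190 D106996
theorem N56849 : nd 56849 = n106997 := ndS (p := 30190) (l := 6) rfl N30190 D106997
theorem N56850 : nd 56850 = n106998 := ndS (p := 30191) (l := 3) rfl N30191 D106998
theorem N56851 : nd 56851 = n106999 := ndS (p := 30191) (l := 4) rfl N30191 D106999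
theorem N56852 : nd 56852 = n107000 := ndS (p := 30193) (l := 0) rfl N30193 D107000
theorem N56853 : nd 56853 = n107001 := ndS (p := 30193) (l := 1) rfl N30193 D107001
theorem N56854 : nd 56854 = n107002 := ndS (p := 30193) (l := 6) rfl N30193 D107002
theorem N56855 : nd 56855 = n107004 := ndS (p := 30194) (l := 5) rfl N30194 D107004
theorem N56856 : nd 56856 = n107005 := ndS (p := 30194) (l := 7) rfl N30194 D107005
theorem N56857 : nd 56857 = n107006 := ndS (p := 30195) (l := 0) rfl N30195 D107006
theorem N56858 : nd 56858 = n107007 := ndS (p := 30195) (l := 1) rfl N30195 D107007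
theorem N56859 : nd 56859 = n107009 := ndS (p := 30195) (l := 5) rfl N30195 D107009
theorem N56860 : nd 56860 = n107011 := ndS (p := 30196) (l := 6) rfl N30196 D107011
theorem N56861 : nd 56861 = n107012 := ndS (p := 30197) (l := 5) rfl N30197 D107012
theorem N56862 : nd 56862 = n107014 := ndS (p := 30198) (l := 0) rfl N30198 D107014
theorem N56863 : nd 56863 = n107015 := ndS (p := 30198) (l := 2) rfl N30198 D107015
theorem N56864 : nd 56864 = n107016 := ndS (p := 30198) (l := 3) rfl N30198 D107016
theorem N56865 : nd 56865 = n107017 := ndS (p := 30198) (l := 4) rfl N30198 D107017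
theorem N56866 : nd 56866 = n107018 := ndS (p := 30198) (l := 5) rfl N30198 D107018
theorem N56867 : nd 56867 = n107019 := ndS (p := 30198) (l := 6) rfl N30198 D107019
theorem N56868 : nd 56868 = n107020 := ndS (p := 30198) (l := 7) rfl N30198 D107020
theorem N56869 : nd 56869 = n107021 := ndS (p := 30199) (l := 3) rfl N30199 D107021
theorem N56870 : nd 56870 = n107022 := ndS (p := 30199) (l := 4) rfl N30199 D107022
theorem N56871 : nd 56871 = n107023 := ndS (p := 30199) (l := 5) rfl N30199 D107023
theorem N56872 : nd 56872 = n107024 := ndS (p := 30199) (l := 6) rfl N30199 D107024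
theorem N56873 : nd 56873 = n107027 := ndS (p := 30200) (l := 5) rfl N30200 D107027
theorem N56874 : nd 56874 = n107028 := ndS (p := 30201) (l := 0) rfl N30201 D107028
theorem N56875 : nd 56875 = n107029 := ndS (p := 30201) (l := 1) rfl N30201 D107029
theorem N56876 : nd 56876 = n107031 := ndS (p := 30201) (l := 6) rfl N30201 D107031
theorem N56877 : nd 56877 = n107033 := ndS (p := 30202) (l := 6) rfl N30202 D107033
theorem N56878 : nd 56878 = n107034 := ndS (p := 30203) (l := 3) rfl N30203 D107034
theorem N56879 : nd 56879 = n107035 := ndS (p := 30203) (l := 6) rfl N30203 D107035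
theorem N56880 : nd 56880 = n107036 := ndS (p := 30204) (l := 3) rfl N30204 D107036
theorem N56881 : nd 56881 = n107037 := ndS (p := 30204) (l := 6) rfl N30204 D107037
theorem N56882 : nd 56882 = n107038 := ndS (p := 30205) (l := 0) rfl N30205 D107038
theorem N56883 : nd 56883 = n107039 := ndS (p := 30205) (l := 1) rfl N30205 D107039
theorem N56884 : nd 56884 = n107040 := ndS (p := 30205) (l := 7) rfl N30205 D107040
theorem N56885 : nd 56885 = n107042 := ndS (p := 30207) (l := 5) rfl N30207 D107042
theorem N56886 : nd 56886 = n107043 := ndS (p := 30208) (l := 3) rfl N30208 D107043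
theorem N56887 : nd 56887 = n107044 := ndS (p := 30209) (l := 3) rfl N30209 D107044
theorem N56888 : nd 56888 = n107045 := ndS (p := 30209) (l := 6) rfl N30209 D107045
theorem N56889 : nd 56889 = n107046 := ndS (p := 30210) (l := 0) rfl N30210 D107046
theorem N56890 : nd 56890 = n107047 := ndS (p := 30210) (l := 1) rfl N30210 D107047
theorem N56891 : nd 56891 = n107048 := ndS (p := 30210) (l := 2) rfl N30210 D107048
theorem N56892 : nd 56892 = n107049 := ndS (p := 30210) (l := 5) rfl N30210 D107049
theorem N56893 : nd 56893 = n107050 := ndS (p := 30210) (l := 6) rfl N30210 D107050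
theorem N56894 : nd 56894 = n107051 := ndS (p := 30211) (l := 0) rfl N30211 D107051
theorem N56895 : nd 56895 = n107052 := ndS (p := 30211) (l := 6) rfl N30211 D107052
theorem N56896 : nd 56896 = n107053 := ndS (p := 30212) (l := 0) rfl N30212 D107053
theorem N56897 : nd 56897 = n107054 := ndS (p := 30212) (l := 5) rfl N30212 D107054
theorem N56898 : nd 56898 = n107055 := ndS (p := 30212) (l := 7) rfl N30212 D107055
theorem N56899 : nd 56899 = n107058 := ndS (p := 30215) (l := 2) rfl N30215 D107058
theorem N56900 : nd 56900 = n107059 := ndS (p := 30215) (l := 6) rfl N30215 D107059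
theorem N56901 : nd 56901 = n107060 := ndS (p := 30216) (l := 0) rfl N30216 D107060
theorem N56902 : nd 56902 = n107061 := ndS (p := 30216) (l := 1) rfl N30216 D107061
theorem N56903 : nd 56903 = n107062 := ndS (p := 30216) (l := 5) rfl N30216 D107062
theorem N56904 : nd 56904 = n107063 := ndS (p := 30216) (l := 7) rfl N30216 D107063
theorem N56905 : nd 56905 = n107065 := ndS (p := 30217) (l := 3) rfl N30217 D107065
theorem N56906 : nd 56906 = n107067 := ndS (p := 30217) (l := 5) rfl N30217 D107067
theorem N56907 : nd 56907 = n107071 := ndS (p := 30220) (l := 0) rfl N30220 D107071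
theorem N56908 : nd 56908 = n107072 := ndS (p := 30220) (l := 1) rfl N30220 D107072
theorem N56909 : nd 56909 = n107073 := ndS (p := 30220) (l := 2) rfl N30220 D107073
theorem N56910 : nd 56910 = n107074 := ndS (p := 30220) (l := 6) rfl N30220 D107074
theorem N56911 : nd 56911 = n107075 := ndS (p := 30221) (l := 1) rfl N30221 D107075
theorem N56912 : nd 56912 = n107076 := ndS (p := 30221) (l := 5) rfl N30221 D107076
theorem N56913 : nd 56913 = n107079 := ndS (p := 30222) (l := 4) rfl N30222 D107079
theorem N56914 : nd 56914 = n107081 := ndS (p := 30222) (l := 6) rfl N30222 D107081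
theorem N56915 : nd 56915 = n107083 := ndS (p := 30223) (l := 3) rfl N30223 D107083
theorem N56916 : nd 56916 = n107084 := ndS (p := 30223) (l := 4) rfl N30223 D107084
theorem N56917 : nd 56917 = n107086 := ndS (p := 30223) (l := 6) rfl N30223 D107086
theorem N56918 : nd 56918 = n107087 := ndS (p := 30224) (l := 6) rfl N30224 D107087
theorem N56919 : nd 56919 = n107089 := ndS (p := 30225) (l := 1) rfl N30225 D107089
theorem N56920 : nd 56920 = n107090 := ndS (p := 30225) (l := 5) rfl N30225 D107090
theorem N56921 : nd 56921 = n107091 := ndS (p := 30225) (l := 7) rfl N30225 D107091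
theorem N56922 : nd 56922 = n107092 := ndS (p := 30226) (l := 3) rfl N30226 D107092
theorem N56923 : nd 56923 = n107093 := ndS (p := 30226) (l := 5) rfl N30226 D107093
theorem N56924 : nd 56924 = n107094 := ndS (p := 30227) (l := 3) rfl N30227 D107094
theorem N56925 : nd 56925 = n107095 := ndS (p := 30227) (l := 5) rfl N30227 D107095
theorem N56926 : nd 56926 = n107096 := ndS (p := 30227) (l := 6) rfl N30227 D107096
theorem N56927 : nd 56927 = n107097 := ndS (p := 30228) (l := 0) rfl N30228 D107097
theorem N56928 : nd 56928 = n107098 := ndS (p := 30228) (l := 1) rfl N30228 D107098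
theorem N56929 : nd 56929 = n107100 := ndS (p := 30228) (l := 7) rfl N30228 D107100
theorem N56930 : nd 56930 = n107101 := ndS (p := 30230) (l := 3) rfl N30230 D107101
theorem N56931 : nd 56931 = n107102 := ndS (p := 30230) (l := 5) rfl N30230 D107102
theorem N56932 : nd 56932 = n107103 := ndS (p := 30231) (l := 6) rfl N30231 D107103
theorem N56933 : nd 56933 = n107104 := ndS (p := 30232) (l := 3) rfl N30232 D107104
theorem N56934 : nd 56934 = n107105 := ndS (p := 30232) (l := 5) rfl N30232 D107105
theorem N56935 : nd 56935 = n107106 := ndS (p := 30232) (l := 6) rfl N30232 D107106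
theorem N56936 : nd 56936 = n107108 := ndS (p := 30234) (l := 6) rfl N30234 D107108
theorem N56937 : nd 56937 = n107110 := ndS (p := 30236) (l := 0) rfl N30236 D107110
theorem N56938 : nd 56938 = n107111 := ndS (p := 30236) (l := 1) rfl N30236 D107111
theorem N56939 : nd 56939 = n107112 := ndS (p := 30236) (l := 3) rfl N30236 D107112
theorem N56940 : nd 56940 = n107114 := ndS (p := 30236) (l := 7) rfl N30236 D107114
theorem N56941 : nd 56941 = n107115 := ndS (p := 30238) (l := 0) rfl N30238 D107115
theorem N56942 : nd 56942 = n107116 := ndS (p := 30238) (l := 1) rfl N30238 D107116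
theorem N56943 : nd 56943 = n107117 := ndS (p := 30238) (l := 2) rfl N30238 D107117
theorem N56944 : nd 56944 = n107120 := ndS (p := 30240) (l := 0) rfl N30240 D107120
theorem N56945 : nd 56945 = n107121 := ndS (p := 30240) (l := 7) rfl N30240 D107121
theorem N56946 : nd 56946 = n107123 := ndS (p := 30242) (l := 1) rfl N30242 D107123
theorem N56947 : nd 56947 = n107124 := ndS (p := 30242) (l := 7) rfl N30242 D107124
theorem N56948 : nd 56948 = n107125 := ndS (p := 30243) (l := 0) rfl N30243 D107125
theorem N56949 : nd 56949 = n107126 := ndS (p := 30243) (l := 1) rfl N30243 D107126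
theorem N56950 : nd 56950 = n107127 := ndS (p := 30243) (l := 2) rfl N30243 D107127
theorem N56951 : nd 56951 = n107128 := ndS (p := 30243) (l := 5) rfl N30243 D107128
theorem N56952 : nd 56952 = n107129 := ndS (p := 30243) (l := 6) rfl N30243 D107129
theorem N56953 : nd 56953 = n107130 := ndS (p := 30244) (l := 6) rfl N30244 D107130
theorem N56954 : nd 56954 = n107131 := ndS (p := 30245) (l := 5) rfl N30245 D107131
theorem N56955 : nd 56955 = n107132 := ndS (p := 30246) (l := 6) rfl N30246 D107132
theorem N56956 : nd 56956 = n107133 := ndS (p := 30248) (l := 0) rfl N30248 D107133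
theorem N56957 : nd 56957 = n107134 := ndS (p := 30248) (l := 1) rfl N30248 D107134
theorem N56958 : nd 56958 = n107135 := ndS (p := 30248) (l := 7) rfl N30248 D107135
theorem N56959 : nd 56959 = n107137 := ndS (p := 30250) (l := 4) rfl N30250 D107137
theorem N56960 : nd 56960 = n107139 := ndS (p := 30250) (l := 6) rfl N30250 D107139
theorem N56961 : nd 56961 = n107141 := ndS (p := 30251) (l := 3) rfl N30251 D107141
theorem N56962 : nd 56962 = n107142 := ndS (p := 30251) (l := 4) rfl N30251 D107142
theorem N56963 : nd 56963 = n107144 := ndS (p := 30251) (l := 6) rfl N30251 D107144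
theorem N56964 : nd 56964 = n107146 := ndS (p := 30253) (l := 0) rfl N30253 D107146
theorem N56965 : nd 56965 = n107147 := ndS (p := 30253) (l := 1) rfl N30253 D107147
theorem N56966 : nd 56966 = n107150 := ndS (p := 30254) (l := 0) rfl N30254 D107150
theorem N56967 : nd 56967 = n107151 := ndS (p := 30254) (l := 1) rfl N30254 D107151
theorem N56968 : nd 56968 = n107152 := ndS (p := 30254) (l := 4) rfl N30254 D107152
theorem N56969 : nd 56969 = n107154 := ndS (p := 30256) (l := 3) rfl N30256 D107154
theorem N56970 : nd 56970 = n107155 := ndS (p := 30256) (l := 5) rfl N30256 D107155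
theorem N56971 : nd 56971 = n107156 := ndS (p := 30256) (l := 6) rfl N30256 D107156
theorem N56972 : nd 56972 = n107157 := ndS (p := 30257) (l := 4) rfl N30257 D107157
theorem N56973 : nd 56973 = n107158 := ndS (p := 30259) (l := 3) rfl N30259 D107158
theorem N56974 : nd 56974 = n107159 := ndS (p := 30259) (l := 5) rfl N30259 D107159
theorem N56975 : nd 56975 = n107160 := ndS (p := 30260) (l := 4) rfl N30260 D107160
theorem N56976 : nd 56976 = n107162 := ndS (p := 30261) (l := 4) rfl N30261 D107162
theorem N56977 : nd 56977 = n107163 := ndS (p := 30261) (l := 6) rfl N30261 D107163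
theorem N56978 : nd 56978 = n107165 := ndS (p := 30262) (l := 3) rfl N30262 D107165
theorem N56979 : nd 56979 = n107166 := ndS (p := 30262) (l := 5) rfl N30262 D107166
theorem N56980 : nd 56980 = n107167 := ndS (p := 30262) (l := 7) rfl N30262 D107167
theorem N56981 : nd 56981 = n107168 := ndS (p := 30264) (l := 0) rfl N30264 D107168
theorem N56982 : nd 56982 = n107169 := ndS (p := 30264) (l := 1) rfl N30264 D107169
theorem N56983 : nd 56983 = n107170 := ndS (p := 30264) (l := 2) rfl N30264 D107170
theorem N56984 : nd 56984 = n107171 := ndS (p := 30264) (l := 5) rfl N30264 D107171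
theorem N56985 : nd 56985 = n107173 := ndS (p := 30266) (l := 3) rfl N30266 D107173
theorem N56986 : nd 56986 = n107174 := ndS (p := 30266) (l := 6) rfl N30266 D107174
theorem N56987 : nd 56987 = n107175 := ndS (p := 30267) (l := 0) rfl N30267 D107175
theorem N56988 : nd 56988 = n107176 := ndS (p := 30267) (l := 1) rfl N30267 D107176
theorem N56989 : nd 56989 = n107177 := ndS (p := 30267) (l := 2) rfl N30267 D107177
theorem N56990 : nd 56990 = n107178 := ndS (p := 30267) (l := 5) rfl N30267 D107178
theorem N56991 : nd 56991 = n107179 := ndS (p := 30267) (l := 6) rfl N30267 D107179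
theorem N56992 : nd 56992 = n107180 := ndS (p := 30268) (l := 6) rfl N30268 D107180
theorem N56993 : nd 56993 = n107181 := ndS (p := 30269) (l := 0) rfl N30269 D107181
theorem N56994 : nd 56994 = n107182 := ndS (p := 30269) (l := 1) rfl N30269 D107182
theorem N56995 : nd 56995 = n107183 := ndS (p := 30269) (l := 5) rfl N30269 D107183
theorem N56996 : nd 56996 = n107184 := ndS (p := 30269) (l := 7) rfl N30269 D107184
theorem N56997 : nd 56997 = n107185 := ndS (p := 30270) (l := 4) rfl N30270 D107185
theorem N56998 : nd 56998 = n107186 := ndS (p := 30270) (l := 6) rfl N30270 D107186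
theorem N56999 : nd 56999 = n107188 := ndS (p := 30272) (l := 3) rfl N30272 D107188
theorem N57000 : nd 57000 = n107189 := ndS (p := 30272) (l := 4) rfl N30272 D107189
theorem N57001 : nd 57001 = n107191 := ndS (p := 30272) (l := 6) rfl N30272 D107191
theorem N57002 : nd 57002 = n107193 := ndS (p := 30273) (l := 3) rfl N30273 D107193
theorem N57003 : nd 57003 = n107194 := ndS (p := 30273) (l := 4) rfl N30273 D107194
theorem N57004 : nd 57004 = n107197 := ndS (p := 30274) (l := 6) rfl N30274 D107197
theorem N57005 : nd 57005 = n107199 := ndS (p := 30275) (l := 1) rfl N30275 D107199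
theorem N57006 : nd 57006 = n107200 := ndS (p := 30275) (l := 5) rfl N30275 D107200
theorem N57007 : nd 57007 = n107201 := ndS (p := 30275) (l := 7) rfl N30275 D107201
theorem N57008 : nd 57008 = n107202 := ndS (p := 30276) (l := 3) rfl N30276 D107202
theorem N57009 : nd 57009 = n107203 := ndS (p := 30276) (l := 5) rfl N30276 D107203
theorem N57010 : nd 57010 = n107204 := ndS (p := 30277) (l := 3) rfl N30277 D107204
theorem N57011 : nd 57011 = n107205 := ndS (p := 30277) (l := 5) rfl N30277 D107205
theorem N57012 : nd 57012 = n107206 := ndS (p := 30277) (l := 6) rfl N30277 D107206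
theorem N57013 : nd 57013 = n107207 := ndS (p := 30278) (l := 0) rfl N30278 D107207
theorem N57014 : nd 57014 = n107208 := ndS (p := 30278) (l := 1) rfl N30278 D107208
theorem N57015 : nd 57015 = n107209 := ndS (p := 30278) (l := 4) rfl N30278 D107209
theorem N57016 : nd 57016 = n107210 := ndS (p := 30278) (l := 7) rfl N30278 D107210
theorem N57017 : nd 57017 = n107211 := ndS (p := 30280) (l := 4) rfl N30280 D107211
theorem N57018 : nd 57018 = n107212 := ndS (p := 30280) (l := 5) rfl N30280 D107212
theorem N57019 : nd 57019 = n107213 := ndS (p := 30281) (l := 3) rfl N30281 D107213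
theorem N57020 : nd 57020 = n107214 := ndS (p := 30281) (l := 5) rfl N30281 D107214
theorem N57021 : nd 57021 = n107215 := ndS (p := 30282) (l := 0) rfl N30282 D107215
theorem N57022 : nd 57022 = n107217 := ndS (p := 30282) (l := 4) rfl N30282 D107217
theorem N57023 : nd 57023 = n107218 := ndS (p := 30282) (l := 6) rfl N30282 D107218
theorem N57024 : nd 57024 = n107219 := ndS (p := 30283) (l := 3) rfl N30283 D107219
theorem N57025 : nd 57025 = n107220 := ndS (p := 30283) (l := 5) rfl N30283 D107220
theorem N57026 : nd 57026 = n107221 := ndS (p := 30283) (l := 6) rfl N30283 D107221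
theorem N57027 : nd 57027 = n107222 := ndS (p := 30284) (l := 4) rfl N30284 D107222
theorem N57028 : nd 57028 = n107224 := ndS (p := 30286) (l := 4) rfl N30286 D107224
theorem N57029 : nd 57029 = n107225 := ndS (p := 30287) (l := 1) rfl N30287 D107225
theorem N57030 : nd 57030 = n107226 := ndS (p := 30287) (l := 3) rfl N30287 D107226
theorem N57031 : nd 57031 = n107228 := ndS (p := 30287) (l := 7) rfl N30287 D107228
theorem N57032 : nd 57032 = n107229 := ndS (p := 30289) (l := 0) rfl N30289 D107229
theorem N57033 : nd 57033 = n107230 := ndS (p := 30289) (l := 1) rfl N30289 D107230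
theorem N57034 : nd 57034 = n107231 := ndS (p := 30289) (l := 7) rfl N30289 D107231
theorem N57035 : nd 57035 = n107232 := ndS (p := 30290) (l := 0) rfl N30290 D107232
theorem N57036 : nd 57036 = n107233 := ndS (p := 30290) (l := 1) rfl N30290 D107233
theorem N57037 : nd 57037 = n107234 := ndS (p := 30290) (l := 2) rfl N30290 D107234
theorem N57038 : nd 57038 = n107235 := ndS (p := 30290) (l := 5) rfl N30290 D107235
theorem N57039 : nd 57039 = n107236 := ndS (p := 30290) (l := 6) rfl N30290 D107236
theorem N57040 : nd 57040 = n107237 := ndS (p := 30291) (l := 6) rfl N30291 D107237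
theorem N57041 : nd 57041 = n107238 := ndS (p := 30292) (l := 0) rfl N30292 D107238
theorem N57042 : nd 57042 = n107239 := ndS (p := 30292) (l := 5) rfl N30292 D107239
theorem N57043 : nd 57043 = n107240 := ndS (p := 30292) (l := 7) rfl N30292 D107240
theorem N57044 : nd 57044 = n107242 := ndS (p := 30293) (l := 6) rfl N30293 D107242
theorem N57045 : nd 57045 = n107244 := ndS (p := 30296) (l := 4) rfl N30296 D107244
theorem N57046 : nd 57046 = n107247 := ndS (p := 30297) (l := 3) rfl N30297 D107247
theorem N57047 : nd 57047 = n107248 := ndS (p := 30297) (l := 4) rfl N30297 D107248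
theorem N57048 : nd 57048 = n107250 := ndS (p := 30297) (l := 6) rfl N30297 D107250
theorem N57049 : nd 57049 = n107251 := ndS (p := 30298) (l := 6) rfl N30298 D107251
theorem N57050 : nd 57050 = n107253 := ndS (p := 30299) (l := 1) rfl N30299 D107253
theorem N57051 : nd 57051 = n107254 := ndS (p := 30299) (l := 5) rfl N30299 D107254
theorem N57052 : nd 57052 = n107255 := ndS (p := 30299) (l := 7) rfl N30299 D107255
theorem N57053 : nd 57053 = n107257 := ndS (p := 30300) (l := 3) rfl N30300 D107257
theorem N57054 : nd 57054 = n107258 := ndS (p := 30300) (l := 5) rfl N30300 D107258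
theorem N57055 : nd 57055 = n107259 := ndS (p := 30300) (l := 6) rfl N30300 D107259
theorem N57056 : nd 57056 = n107261 := ndS (p := 30301) (l := 3) rfl N30301 D107261
theorem N57057 : nd 57057 = n107262 := ndS (p := 30301) (l := 5) rfl N30301 D107262
theorem N57058 : nd 57058 = n107264 := ndS (p := 30302) (l := 0) rfl N30302 D107264
theorem N57059 : nd 57059 = n107265 := ndS (p := 30302) (l := 1) rfl N30302 D107265
theorem N57060 : nd 57060 = n107267 := ndS (p := 30302) (l := 7) rfl N30302 D107267
theorem N57061 : nd 57061 = n107268 := ndS (p := 30304) (l := 3) rfl N30304 D107268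
theorem N57062 : nd 57062 = n107269 := ndS (p := 30304) (l := 5) rfl N30304 D107269
theorem N57063 : nd 57063 = n107270 := ndS (p := 30304) (l := 6) rfl N30304 D107270
theorem N57064 : nd 57064 = n107271 := ndS (p := 30305) (l := 4) rfl N30305 D107271
theorem N57065 : nd 57065 = n107272 := ndS (p := 30305) (l := 6) rfl N30305 D107272
theorem N57066 : nd 57066 = n107273 := ndS (p := 30306) (l := 1) rfl N30306 D107273
theorem N57067 : nd 57067 = n107274 := ndS (p := 30307) (l := 4) rfl N30307 D107274
theorem N57068 : nd 57068 = n107275 := ndS (p := 30308) (l := 3) rfl N30308 D107275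
theorem N57069 : nd 57069 = n107276 := ndS (p := 30308) (l := 5) rfl N30308 D107276
theorem N57070 : nd 57070 = n107277 := ndS (p := 30309) (l := 4) rfl N30309 D107277
theorem N57071 : nd 57071 = n107278 := ndS (p := 30310) (l := 3) rfl N30310 D107278
theorem N57072 : nd 57072 = n107281 := ndS (p := 30311) (l := 3) rfl N30311 D107281
theorem N57073 : nd 57073 = n107284 := ndS (p := 30312) (l := 6) rfl N30312 D107284
theorem N57074 : nd 57074 = n107285 := ndS (p := 30313) (l := 0) rfl N30313 D107285
theorem N57075 : nd 57075 = n107286 := ndS (p := 30313) (l := 1) rfl N30313 D107286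
theorem N57076 : nd 57076 = n107287 := ndS (p := 30313) (l := 5) rfl N30313 D107287
theorem N57077 : nd 57077 = n107288 := ndS (p := 30313) (l := 7) rfl N30313 D107288
theorem N57078 : nd 57078 = n107289 := ndS (p := 30314) (l := 0) rfl N30314 D107289
theorem N57079 : nd 57079 = n107290 := ndS (p := 30314) (l := 1) rfl N30314 D107290
theorem N57080 : nd 57080 = n107291 := ndS (p := 30314) (l := 4) rfl N30314 D107291
theorem N57081 : nd 57081 = n107292 := ndS (p := 30314) (l := 7) rfl N30314 D107292
theorem N57082 : nd 57082 = n107294 := ndS (p := 30316) (l := 3) rfl N30316 D107294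
theorem N57083 : nd 57083 = n107295 := ndS (p := 30316) (l := 4) rfl N30316 D107295
theorem N57084 : nd 57084 = n107299 := ndS (p := 30317) (l := 3) rfl N30317 D107299
theorem N57085 : nd 57085 = n107300 := ndS (p := 30317) (l := 4) rfl N30317 D107300
theorem N57086 : nd 57086 = n107302 := ndS (p := 30317) (l := 6) rfl N30317 D107302
theorem N57087 : nd 57087 = n107305 := ndS (p := 30319) (l := 0) rfl N30319 D107305
theorem N57088 : nd 57088 = n107306 := ndS (p := 30319) (l := 1) rfl N30319 D107306
theorem N57089 : nd 57089 = n107309 := ndS (p := 30320) (l := 0) rfl N30320 D107309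
theorem N57090 : nd 57090 = n107310 := ndS (p := 30320) (l := 1) rfl N30320 D107310
theorem N57091 : nd 57091 = n107311 := ndS (p := 30320) (l := 5) rfl N30320 D107311
theorem N57092 : nd 57092 = n107313 := ndS (p := 30321) (l := 0) rfl N30321 D107313
theorem N57093 : nd 57093 = n107314 := ndS (p := 30321) (l := 1) rfl N30321 D107314
theorem N57094 : nd 57094 = n107315 := ndS (p := 30321) (l := 4) rfl N30321 D107315
theorem N57095 : nd 57095 = n107316 := ndS (p := 30321) (l := 7) rfl N30321 D107316
theorem N57096 : nd 57096 = n107317 := ndS (p := 30323) (l := 6) rfl N30323 D107317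
theorem N57097 : nd 57097 = n107320 := ndS (p := 30324) (l := 3) rfl N30324 D107320
theorem N57098 : nd 57098 = n107321 := ndS (p := 30324) (l := 4) rfl N30324 D107321
theorem N57099 : nd 57099 = n107323 := ndS (p := 30324) (l := 6) rfl N30324 D107323
theorem N57100 : nd 57100 = n107325 := ndS (p := 30325) (l := 1) rfl N30325 D107325
theorem N57101 : nd 57101 = n107326 := ndS (p := 30325) (l := 2) rfl N30325 D107326
theorem N57102 : nd 57102 = n107327 := ndS (p := 30325) (l := 5) rfl N30325 D107327
theorem N57103 : nd 57103 = n107328 := ndS (p := 30325) (l := 6) rfl N30325 D107328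
theorem N57104 : nd 57104 = n107329 := ndS (p := 30325) (l := 7) rfl N30325 D107329
theorem N57105 : nd 57105 = n107330 := ndS (p := 30326) (l := 0) rfl N30326 D107330
theorem N57106 : nd 57106 = n107331 := ndS (p := 30326) (l := 1) rfl N30326 D107331
theorem N57107 : nd 57107 = n107332 := ndS (p := 30326) (l := 3) rfl N30326 D107332
theorem N57108 : nd 57108 = n107333 := ndS (p := 30326) (l := 5) rfl N30326 D107333
theorem N57109 : nd 57109 = n107334 := ndS (p := 30326) (l := 6) rfl N30326 D107334
theorem N57110 : nd 57110 = n107335 := ndS (p := 30326) (l := 7) rfl N30326 D107335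
theorem N57111 : nd 57111 = n107338 := ndS (p := 30327) (l := 4) rfl N30327 D107338
theorem N57112 : nd 57112 = n107339 := ndS (p := 30327) (l := 6) rfl N30327 D107339
theorem N57113 : nd 57113 = n107341 := ndS (p := 30328) (l := 0) rfl N30328 D107341
theorem N57114 : nd 57114 = n107343 := ndS (p := 30328) (l := 5) rfl N30328 D107343
theorem N57115 : nd 57115 = n107344 := ndS (p := 30328) (l := 7) rfl N30328 D107344
theorem N57116 : nd 57116 = n107345 := ndS (p := 30329) (l := 6) rfl N30329 D107345
theorem N57117 : nd 57117 = n107346 := ndS (p := 30330) (l := 0) rfl N30330 D107346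
theorem N57118 : nd 57118 = n107347 := ndS (p := 30330) (l := 2) rfl N30330 D107347
theorem N57119 : nd 57119 = n107348 := ndS (p := 30330) (l := 4) rfl N30330 D107348
theorem N57120 : nd 57120 = n107349 := ndS (p := 30330) (l := 5) rfl N30330 D107349
theorem N57121 : nd 57121 = n107350 := ndS (p := 30330) (l := 6) rfl N30330 D107350
theorem N57122 : nd 57122 = n107351 := ndS (p := 30331) (l := 3) rfl N30331 D107351
theorem N57123 : nd 57123 = n107352 := ndS (p := 30331) (l := 5) rfl N30331 D107352
theorem N57124 : nd 57124 = n107353 := ndS (p := 30331) (l := 6) rfl N30331 D107353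
theorem N57125 : nd 57125 = n107354 := ndS (p := 30332) (l := 4) rfl N30332 D107354
theorem N57126 : nd 57126 = n107355 := ndS (p := 30332) (l := 6) rfl N30332 D107355
theorem N57127 : nd 57127 = n107357 := ndS (p := 30333) (l := 1) rfl N30333 D107357
theorem N57128 : nd 57128 = n107358 := ndS (p := 30333) (l := 5) rfl N30333 D107358
theorem N57129 : nd 57129 = n107359 := ndS (p := 30333) (l := 7) rfl N30333 D107359
theorem N57130 : nd 57130 = n107370 := ndS (p := 30334) (l := 4) rfl N30334 D107370
theorem N57131 : nd 57131 = n107371 := ndS (p := 30334) (l := 6) rfl N30334 D107371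
theorem N57132 : nd 57132 = n107373 := ndS (p := 30335) (l := 3) rfl N30335 D107373
theorem N57133 : nd 57133 = n107374 := ndS (p := 30335) (l := 4) rfl N30335 D107374
theorem N57134 : nd 57134 = n107376 := ndS (p := 30335) (l := 6) rfl N30335 D107376
theorem N57135 : nd 57135 = n107378 := ndS (p := 30336) (l := 3) rfl N30336 D107378
theorem N57136 : nd 57136 = n107379 := ndS (p := 30336) (l := 4) rfl N30336 D107379
theorem N57137 : nd 57137 = n107381 := ndS (p := 30336) (l := 6) rfl N30336 D107381
theorem N57138 : nd 57138 = n107382 := ndS (p := 30337) (l := 1) rfl N30337 D107382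
theorem N57139 : nd 57139 = n107383 := ndS (p := 30337) (l := 5) rfl N30337 D107383
theorem N57140 : nd 57140 = n107384 := ndS (p := 30337) (l := 6) rfl N30337 D107384
theorem N57141 : nd 57141 = n107385 := ndS (p := 30338) (l := 0) rfl N30338 D107385
theorem N57142 : nd 57142 = n107386 := ndS (p := 30338) (l := 1) rfl N30338 D107386
theorem N57143 : nd 57143 = n107387 := ndS (p := 30338) (l := 7) rfl N30338 D107387
theorem N57144 : nd 57144 = n107388 := ndS (p := 30339) (l := 0) rfl N30339 D107388
theorem N57145 : nd 57145 = n107389 := ndS (p := 30339) (l := 1) rfl N30339 D107389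
theorem N57146 : nd 57146 = n107390 := ndS (p := 30339) (l := 5) rfl N30339 D107390
theorem N57147 : nd 57147 = n107391 := ndS (p := 30340) (l := 3) rfl N30340 D107391
theorem N57148 : nd 57148 = n107392 := ndS (p := 30340) (l := 5) rfl N30340 D107392
theorem N57149 : nd 57149 = n107393 := ndS (p := 30340) (l := 6) rfl N30340 D107393
theorem N57150 : nd 57150 = n107394 := ndS (p := 30341) (l := 5) rfl N30341 D107394
theorem N57151 : nd 57151 = n107395 := ndS (p := 30341) (l := 6) rfl N30341 D107395
theorem N57152 : nd 57152 = n107396 := ndS (p := 30343) (l := 3) rfl N30343 D107396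
theorem N57153 : nd 57153 = n107397 := ndS (p := 30343) (l := 5) rfl N30343 D107397
theorem N57154 : nd 57154 = n107398 := ndS (p := 30343) (l := 6) rfl N30343 D107398
theorem N57155 : nd 57155 = n107399 := ndS (p := 30344) (l := 3) rfl N30344 D107399
theorem N57156 : nd 57156 = n107400 := ndS (p := 30344) (l := 5) rfl N30344 D107400
theorem N57157 : nd 57157 = n107401 := ndS (p := 30344) (l := 6) rfl N30344 D107401
theorem N57158 : nd 57158 = n107402 := ndS (p := 30345) (l := 0) rfl N30345 D107402
theorem N57159 : nd 57159 = n107403 := ndS (p := 30345) (l := 1) rfl N30345 D107403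
theorem N57160 : nd 57160 = n107404 := ndS (p := 30345) (l := 4) rfl N30345 D107404
theorem N57161 : nd 57161 = n107411 := ndS (p := 30346) (l := 3) rfl N30346 D107411
theorem N57162 : nd 57162 = n107412 := ndS (p := 30346) (l := 5) rfl N30346 D107412
theorem N57163 : nd 57163 = n107413 := ndS (p := 30346) (l := 6) rfl N30346 D107413
theorem N57164 : nd 57164 = n107414 := ndS (p := 30347) (l := 0) rfl N30347 D107414
theorem N57165 : nd 57165 = n107415 := ndS (p := 30347) (l := 4) rfl N30347 D107415
theorem N57166 : nd 57166 = n107416 := ndS (p := 30347) (l := 6) rfl N30347 D107416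
theorem N57167 : nd 57167 = n107419 := ndS (p := 30349) (l := 4) rfl N30349 D107419
theorem N57168 : nd 57168 = n107420 := ndS (p := 30349) (l := 5) rfl N30349 D107420
theorem N57169 : nd 57169 = n107421 := ndS (p := 30349) (l := 6) rfl N30349 D107421
theorem N57170 : nd 57170 = n107422 := ndS (p := 30350) (l := 3) rfl N30350 D107422
theorem N57171 : nd 57171 = n107423 := ndS (p := 30350) (l := 5) rfl N30350 D107423
theorem N57172 : nd 57172 = n107424 := ndS (p := 30350) (l := 6) rfl N30350 D107424
theorem N57173 : nd 57173 = n107425 := ndS (p := 30351) (l := 4) rfl N30351 D107425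
theorem N57174 : nd 57174 = n107426 := ndS (p := 30353) (l := 0) rfl N30353 D107426
theorem N57175 : nd 57175 = n107427 := ndS (p := 30353) (l := 1) rfl N30353 D107427
theorem N57176 : nd 57176 = n107428 := ndS (p := 30353) (l := 2) rfl N30353 D107428
theorem N57177 : nd 57177 = n107429 := ndS (p := 30353) (l := 6) rfl N30353 D107429
theorem N57178 : nd 57178 = n107430 := ndS (p := 30354) (l := 0) rfl N30354 D107430
theorem N57179 : nd 57179 = n107431 := ndS (p := 30354) (l := 1) rfl N30354 D107431
theorem N57180 : nd 57180 = n107432 := ndS (p := 30354) (l := 5) rfl N30354 D107432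
theorem N57181 : nd 57181 = n107433 := ndS (p := 30354) (l := 7) rfl N30354 D107433
theorem N57182 : nd 57182 = n107435 := ndS (p := 30355) (l := 5) rfl N30355 D107435
theorem N57183 : nd 57183 = n107436 := ndS (p := 30358) (l := 1) rfl N30358 D107436
theorem N57184 : nd 57184 = n107437 := ndS (p := 30358) (l := 7) rfl N30358 D107437
theorem N57185 : nd 57185 = n107438 := ndS (p := 30359) (l := 0) rfl N30359 D107438
theorem N57186 : nd 57186 = n107439 := ndS (p := 30359) (l := 1) rfl N30359 D107439
theorem N57187 : nd 57187 = n107440 := ndS (p := 30359) (l := 2) rfl N30359 D107440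
theorem N57188 : nd 57188 = n107441 := ndS (p := 30359) (l := 6) rfl N30359 D107441
theorem N57189 : nd 57189 = n107442 := ndS (p := 30360) (l := 1) rfl N30360 D107442
theorem N57190 : nd 57190 = n107443 := ndS (p := 30360) (l := 5) rfl N30360 D107443
theorem N57191 : nd 57191 = n107444 := ndS (p := 30360) (l := 7) rfl N30360 D107444
theorem N57192 : nd 57192 = n107446 := ndS (p := 30363) (l := 3) rfl N30363 D107446
theorem N57193 : nd 57193 = n107449 := ndS (p := 30363) (l := 6) rfl N30363 D107449
theorem N57194 : nd 57194 = n107451 := ndS (p := 30364) (l := 3) rfl N30364 D107451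
theorem N57195 : nd 57195 = n107453 := ndS (p := 30364) (l := 6) rfl N30364 D107453
theorem N57196 : nd 57196 = n107455 := ndS (p := 30366) (l := 0) rfl N30366 D107455
theorem N57197 : nd 57197 = n107456 := ndS (p := 30366) (l := 1) rfl N30366 D107456
theorem N57198 : nd 57198 = n107457 := ndS (p := 30366) (l := 5) rfl N30366 D107457
theorem N57199 : nd 57199 = n107459 := ndS (p := 30367) (l := 0) rfl N30367 D107459
theorem N57200 : nd 57200 = n107460 := ndS (p := 30367) (l := 1) rfl N30367 D107460
theorem N57201 : nd 57201 = n107463 := ndS (p := 30370) (l := 3) rfl N30370 D107463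
theorem N57202 : nd 57202 = n107464 := ndS (p := 30370) (l := 5) rfl N30370 D107464
theorem N57203 : nd 57203 = n107465 := ndS (p := 30371) (l := 6) rfl N30371 D107465
theorem N57204 : nd 57204 = n107466 := ndS (p := 30372) (l := 3) rfl N30372 D107466
theorem N57205 : nd 57205 = n107467 := ndS (p := 30372) (l := 5) rfl N30372 D107467
theorem N57206 : nd 57206 = n107468 := ndS (p := 30372) (l := 6) rfl N30372 D107468
theorem N57207 : nd 57207 = n107471 := ndS (p := 30374) (l := 6) rfl N30374 D107471
theorem N57208 : nd 57208 = n107472 := ndS (p := 30375) (l := 3) rfl N30375 D107472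
theorem N57209 : nd 57209 = n107478 := ndS (p := 30379) (l := 6) rfl N30379 D107478
theorem N57210 : nd 57210 = n107479 := ndS (p := 30380) (l := 0) rfl N30380 D107479
theorem N57211 : nd 57211 = n107480 := ndS (p := 30380) (l := 1) rfl N30380 D107480
theorem N57212 : nd 57212 = n107481 := ndS (p := 30380) (l := 7) rfl N30380 D107481
theorem N57213 : nd 57213 = n107482 := ndS (p := 30381) (l := 0) rfl N30381 D107482
theorem N57214 : nd 57214 = n107483 := ndS (p := 30381) (l := 1) rfl N30381 D107483
theorem N57215 : nd 57215 = n107484 := ndS (p := 30381) (l := 2) rfl N30381 D107484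
theorem N57216 : nd 57216 = n107485 := ndS (p := 30381) (l := 6) rfl N30381 D107485
theorem N57217 : nd 57217 = n107486 := ndS (p := 30382) (l := 0) rfl N30382 D107486
theorem N57218 : nd 57218 = n107487 := ndS (p := 30382) (l := 5) rfl N30382 D107487
theorem N57219 : nd 57219 = n107488 := ndS (p := 30382) (l := 7) rfl N30382 D107488
theorem N57220 : nd 57220 = n107489 := ndS (p := 30383) (l := 3) rfl N30383 D107489
theorem N57221 : nd 57221 = n107491 := ndS (p := 30385) (l := 3) rfl N30385 D107491
theorem N57222 : nd 57222 = n107492 := ndS (p := 30385) (l := 4) rfl N30385 D107492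
theorem N57223 : nd 57223 = n107494 := ndS (p := 30385) (l := 6) rfl N30385 D107494
theorem N57224 : nd 57224 = n107496 := ndS (p := 30386) (l := 3) rfl N30386 D107496
theorem N57225 : nd 57225 = n107497 := ndS (p := 30386) (l := 4) rfl N30386 D107497
theorem N57226 : nd 57226 = n107499 := ndS (p := 30386) (l := 6) rfl N30386 D107499
theorem N57227 : nd 57227 = n107500 := ndS (p := 30387) (l := 6) rfl N30387 D107500
theorem N57228 : nd 57228 = n107501 := ndS (p := 30388) (l := 0) rfl N30388 D107501
theorem N57229 : nd 57229 = n107502 := ndS (p := 30388) (l := 1) rfl N30388 D107502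
theorem N57230 : nd 57230 = n107503 := ndS (p := 30388) (l := 5) rfl N30388 D107503
theorem N57231 : nd 57231 = n107504 := ndS (p := 30388) (l := 7) rfl N30388 D107504
theorem N57232 : nd 57232 = n107506 := ndS (p := 30389) (l := 1) rfl N30389 D107506
theorem N57233 : nd 57233 = n107507 := ndS (p := 30389) (l := 4) rfl N30389 D107507
theorem N57234 : nd 57234 = n107508 := ndS (p := 30389) (l := 7) rfl N30389 D107508
theorem N57235 : nd 57235 = n107509 := ndS (p := 30391) (l := 0) rfl N30391 D107509
theorem N57236 : nd 57236 = n107510 := ndS (p := 30391) (l := 5) rfl N30391 D107510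
theorem N57237 : nd 57237 = n107511 := ndS (p := 30391) (l := 6) rfl N30391 D107511
theorem N57238 : nd 57238 = n107512 := ndS (p := 30392) (l := 3) rfl N30392 D107512
theorem N57239 : nd 57239 = n107513 := ndS (p := 30392) (l := 5) rfl N30392 D107513
theorem N57240 : nd 57240 = n107514 := ndS (p := 30392) (l := 6) rfl N30392 D107514
theorem N57241 : nd 57241 = n107515 := ndS (p := 30393) (l := 4) rfl N30393 D107515
theorem N57242 : nd 57242 = n107516 := ndS (p := 30396) (l := 3) rfl N30396 D107516
theorem N57243 : nd 57243 = n107517 := ndS (p := 30396) (l := 5) rfl N30396 D107517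
theorem N57244 : nd 57244 = n107519 := ndS (p := 30397) (l := 3) rfl N30397 D107519
theorem N57245 : nd 57245 = n107520 := ndS (p := 30397) (l := 4) rfl N30397 D107520
theorem N57246 : nd 57246 = n107521 := ndS (p := 30397) (l := 5) rfl N30397 D107521
theorem N57247 : nd 57247 = n107523 := ndS (p := 30398) (l := 3) rfl N30398 D107523
theorem N57248 : nd 57248 = n107524 := ndS (p := 30398) (l := 4) rfl N30398 D107524
theorem N57249 : nd 57249 = n107525 := ndS (p := 30399) (l := 3) rfl N30399 D107525
theorem N57250 : nd 57250 = n107526 := ndS (p := 30399) (l := 5) rfl N30399 D107526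
theorem N57251 : nd 57251 = n107527 := ndS (p := 30399) (l := 7) rfl N30399 D107527
theorem N57252 : nd 57252 = n107528 := ndS (p := 30401) (l := 0) rfl N30401 D107528
theorem N57253 : nd 57253 = n107529 := ndS (p := 30401) (l := 1) rfl N30401 D107529
theorem N57254 : nd 57254 = n107530 := ndS (p := 30401) (l := 2) rfl N30401 D107530
theorem N57255 : nd 57255 = n107531 := ndS (p := 30401) (l := 5) rfl N30401 D107531
theorem N57256 : nd 57256 = n107532 := ndS (p := 30402) (l := 6) rfl N30402 D107532
theorem N57257 : nd 57257 = n107537 := ndS (p := 30406) (l := 4) rfl N30406 D107537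
theorem N57258 : nd 57258 = n107538 := ndS (p := 30407) (l := 4) rfl N30407 D107538
theorem N57259 : nd 57259 = n107539 := ndS (p := 30407) (l := 6) rfl N30407 D107539
theorem N57260 : nd 57260 = n107540 := ndS (p := 30408) (l := 3) rfl N30408 D107540
theorem N57261 : nd 57261 = n107541 := ndS (p := 30408) (l := 6) rfl N30408 D107541
theorem N57262 : nd 57262 = n107542 := ndS (p := 30409) (l := 1) rfl N30409 D107542
theorem N57263 : nd 57263 = n107543 := ndS (p := 30409) (l := 7) rfl N30409 D107543
theorem N57264 : nd 57264 = n107544 := ndS (p := 30413) (l := 4) rfl N30413 D107544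
theorem N57265 : nd 57265 = n107545 := ndS (p := 30413) (l := 6) rfl N30413 D107545
theorem N57266 : nd 57266 = n107546 := ndS (p := 30414) (l := 4) rfl N30414 D107546
theorem N57267 : nd 57267 = n107547 := ndS (p := 30414) (l := 6) rfl N30414 D107547
theorem N57268 : nd 57268 = n107548 := ndS (p := 30415) (l := 4) rfl N30415 D107548
theorem N57269 : nd 57269 = n107549 := ndS (p := 30415) (l := 6) rfl N30415 D107549
theorem N57270 : nd 57270 = n107550 := ndS (p := 30416) (l := 4) rfl N30416 D107550
theorem N57271 : nd 57271 = n107551 := ndS (p := 30416) (l := 6) rfl N30416 D107551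
theorem N57272 : nd 57272 = n107552 := ndS (p := 30417) (l := 0) rfl N30417 D107552
theorem N57273 : nd 57273 = n107553 := ndS (p := 30417) (l := 1) rfl N30417 D107553
theorem N57274 : nd 57274 = n107555 := ndS (p := 30417) (l := 5) rfl N30417 D107555
theorem N57275 : nd 57275 = n107557 := ndS (p := 30417) (l := 7) rfl N30417 D107557
theorem N57276 : nd 57276 = n107558 := ndS (p := 30418) (l := 0) rfl N30418 D107558
theorem N57277 : nd 57277 = n107559 := ndS (p := 30418) (l := 1) rfl N30418 D107559
theorem N57278 : nd 57278 = n107561 := ndS (p := 30419) (l := 6) rfl N30419 D107561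
theorem N57279 : nd 57279 = n107562 := ndS (p := 30420) (l := 0) rfl N30420 D107562
theorem N57280 : nd 57280 = n107563 := ndS (p := 30420) (l := 1) rfl N30420 D107563
theorem N57281 : nd 57281 = n107570 := ndS (p := 30422) (l := 3) rfl N30422 D107570
theorem N57282 : nd 57282 = n107572 := ndS (p := 30422) (l := 6) rfl N30422 D107572
theorem N57283 : nd 57283 = n107573 := ndS (p := 30423) (l := 3) rfl N30423 D107573
theorem N57284 : nd 57284 = n107575 := ndS (p := 30423) (l := 6) rfl N30423 D107575
theorem N57285 : nd 57285 = n107576 := ndS (p := 30424) (l := 6) rfl N30424 D107576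
theorem N57286 : nd 57286 = n107577 := ndS (p := 30425) (l := 1) rfl N30425 D107577
theorem N57287 : nd 57287 = n107578 := ndS (p := 30426) (l := 3) rfl N30426 D107578
theorem N57288 : nd 57288 = n107579 := ndS (p := 30426) (l := 5) rfl N30426 D107579
theorem N57289 : nd 57289 = n107580 := ndS (p := 30426) (l := 6) rfl N30426 D107580
theorem N57290 : nd 57290 = n107581 := ndS (p := 30427) (l := 3) rfl N30427 D107581
theorem N57291 : nd 57291 = n107582 := ndS (p := 30427) (l := 5) rfl N30427 D107582
theorem N57292 : nd 57292 = n107583 := ndS (p := 30427) (l := 6) rfl N30427 D107583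
theorem N57293 : nd 57293 = n107584 := ndS (p := 30428) (l := 0) rfl N30428 D107584
theorem N57294 : nd 57294 = n107585 := ndS (p := 30428) (l := 1) rfl N30428 D107585
theorem N57295 : nd 57295 = n107586 := ndS (p := 30428) (l := 2) rfl N30428 D107586
theorem N57296 : nd 57296 = n107587 := ndS (p := 30428) (l := 5) rfl N30428 D107587
theorem N57297 : nd 57297 = n107588 := ndS (p := 30429) (l := 0) rfl N30429 D107588
theorem N57298 : nd 57298 = n107589 := ndS (p := 30429) (l := 1) rfl N30429 D107589
theorem N57299 : nd 57299 = n107590 := ndS (p := 30429) (l := 6) rfl N30429 D107590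
theorem N57300 : nd 57300 = n107591 := ndS (p := 30430) (l := 0) rfl N30430 D107591
theorem N57301 : nd 57301 = n107592 := ndS (p := 30430) (l := 1) rfl N30430 D107592
theorem N57302 : nd 57302 = n107593 := ndS (p := 30430) (l := 2) rfl N30430 D107593
theorem N57303 : nd 57303 = n107594 := ndS (p := 30430) (l := 5) rfl N30430 D107594
theorem N57304 : nd 57304 = n107595 := ndS (p := 30431) (l := 6) rfl N30431 D107595
theorem N57305 : nd 57305 = n107598 := ndS (p := 30433) (l := 3) rfl N30433 D107598
theorem N57306 : nd 57306 = n107599 := ndS (p := 30433) (l := 5) rfl N30433 D107599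
theorem N57307 : nd 57307 = n107600 := ndS (p := 30433) (l := 6) rfl N30433 D107600
theorem N57308 : nd 57308 = n107601 := ndS (p := 30435) (l := 3) rfl N30435 D107601
theorem N57309 : nd 57309 = n107602 := ndS (p := 30435) (l := 5) rfl N30435 D107602
theorem N57310 : nd 57310 = n107603 := ndS (p := 30435) (l := 6) rfl N30435 D107603
theorem N57311 : nd 57311 = n107605 := ndS (p := 30436) (l := 1) rfl N30436 D107605
theorem N57312 : nd 57312 = n107606 := ndS (p := 30436) (l := 7) rfl N30436 D107606
theorem N57313 : nd 57313 = n107608 := ndS (p := 30437) (l := 5) rfl N30437 D107608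
theorem N57314 : nd 57314 = n107613 := ndS (p := 30438) (l := 5) rfl N30438 D107613
theorem N57315 : nd 57315 = n107615 := ndS (p := 30439) (l := 6) rfl N30439 D107615
theorem N57316 : nd 57316 = n107616 := ndS (p := 30440) (l := 6) rfl N30440 D107616
theorem N57317 : nd 57317 = n107617 := ndS (p := 30442) (l := 6) rfl N30442 D107617
theorem N57318 : nd 57318 = n107618 := ndS (p := 30443) (l := 3) rfl N30443 D107618
theorem N57319 : nd 57319 = n107619 := ndS (p := 30443) (l := 6) rfl N30443 D107619
theorem N57320 : nd 57320 = n107620 := ndS (p := 30444) (l := 0) rfl N30444 D107620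
theorem N57321 : nd 57321 = n107621 := ndS (p := 30444) (l := 1) rfl N30444 D107621
theorem N57322 : nd 57322 = n107622 := ndS (p := 30444) (l := 7) rfl N30444 D107622
theorem N57323 : nd 57323 = n107623 := ndS (p := 30446) (l := 3) rfl N30446 D107623
theorem N57324 : nd 57324 = n107624 := ndS (p := 30446) (l := 6) rfl N30446 D107624
theorem N57325 : nd 57325 = n107626 := ndS (p := 30447) (l := 1) rfl N30447 D107626
theorem N57326 : nd 57326 = n107627 := ndS (p := 30447) (l := 7) rfl N30447 D107627
theorem N57327 : nd 57327 = n107628 := ndS (p := 30449) (l := 3) rfl N30449 D107628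
theorem N57328 : nd 57328 = n107629 := ndS (p := 30449) (l := 5) rfl N30449 D107629
theorem N57329 : nd 57329 = n107630 := ndS (p := 30449) (l := 6) rfl N30449 D107630
theorem N57330 : nd 57330 = n107631 := ndS (p := 30450) (l := 0) rfl N30450 D107631
theorem N57331 : nd 57331 = n107632 := ndS (p := 30450) (l := 1) rfl N30450 D107632
theorem N57332 : nd 57332 = n107633 := ndS (p := 30450) (l := 7) rfl N30450 D107633
theorem N57333 : nd 57333 = n107634 := ndS (p := 30451) (l := 3) rfl N30451 D107634
theorem N57334 : nd 57334 = n107635 := ndS (p := 30451) (l := 5) rfl N30451 D107635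
theorem N57335 : nd 57335 = n107636 := ndS (p := 30451) (l := 6) rfl N30451 D107636
theorem N57336 : nd 57336 = n107637 := ndS (p := 30452) (l := 3) rfl N30452 D107637
theorem N57337 : nd 57337 = n107638 := ndS (p := 30452) (l := 5) rfl N30452 D107638
theorem N57338 : nd 57338 = n107640 := ndS (p := 30453) (l := 1) rfl N30453 D107640
theorem N57339 : nd 57339 = n107641 := ndS (p := 30453) (l := 2) rfl N30453 D107641
theorem N57340 : nd 57340 = n107642 := ndS (p := 30453) (l := 5) rfl N30453 D107642
theorem N57341 : nd 57341 = n107644 := ndS (p := 30454) (l := 0) rfl N30454 D107644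
theorem N57342 : nd 57342 = n107646 := ndS (p := 30455) (l := 0) rfl N30455 D107646
theorem N57343 : nd 57343 = n107647 := ndS (p := 30455) (l := 1) rfl N30455 D107647
theorem N57344 : nd 57344 = n107649 := ndS (p := 30455) (l := 7) rfl N30455 D107649
theorem N57345 : nd 57345 = n107650 := ndS (p := 30456) (l := 4) rfl N30456 D107650
theorem N57346 : nd 57346 = n107651 := ndS (p := 30459) (l := 3) rfl N30459 D107651
theorem N57347 : nd 57347 = n107652 := ndS (p := 30459) (l := 6) rfl N30459 D107652
theorem N57348 : nd 57348 = n107653 := ndS (p := 30460) (l := 0) rfl N30460 D107653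
theorem N57349 : nd 57349 = n107654 := ndS (p := 30460) (l := 7) rfl N30460 D107654
theorem N57350 : nd 57350 = n107658 := ndS (p := 30461) (l := 5) rfl N30461 D107658
theorem N57351 : nd 57351 = n107659 := ndS (p := 30461) (l := 6) rfl N30461 D107659
theorem N57352 : nd 57352 = n107660 := ndS (p := 30462) (l := 6) rfl N30462 D107660
theorem N57353 : nd 57353 = n107661 := ndS (p := 30463) (l := 0) rfl N30463 D107661
theorem N57354 : nd 57354 = n107662 := ndS (p := 30463) (l := 5) rfl N30463 D107662
theorem N57355 : nd 57355 = n107663 := ndS (p := 30463) (l := 7) rfl N30463 D107663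
theorem N57356 : nd 57356 = n107664 := ndS (p := 30466) (l := 0) rfl N30466 D107664
theorem N57357 : nd 57357 = n107665 := ndS (p := 30466) (l := 1) rfl N30466 D107665
theorem N57358 : nd 57358 = n107666 := ndS (p := 30466) (l := 7) rfl N30466 D107666
theorem N57359 : nd 57359 = n107667 := ndS (p := 30467) (l := 3) rfl N30467 D107667
theorem N57360 : nd 57360 = n107668 := ndS (p := 30467) (l := 6) rfl N30467 D107668
theorem N57361 : nd 57361 = n107669 := ndS (p := 30468) (l := 0) rfl N30468 D107669
theorem N57362 : nd 57362 = n107670 := ndS (p := 30468) (l := 1) rfl N30468 D107670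
theorem N57363 : nd 57363 = n107671 := ndS (p := 30468) (l := 2) rfl N30468 D107671
theorem N57364 : nd 57364 = n107672 := ndS (p := 30468) (l := 5) rfl N30468 D107672
theorem N57365 : nd 57365 = n107673 := ndS (p := 30468) (l := 6) rfl N30468 D107673
theorem N57366 : nd 57366 = n107674 := ndS (p := 30469) (l := 0) rfl N30469 D107674
theorem N57367 : nd 57367 = n107675 := ndS (p := 30469) (l := 1) rfl N30469 D107675
theorem N57368 : nd 57368 = n107676 := ndS (p := 30469) (l := 6) rfl N30469 D107676
theorem N57369 : nd 57369 = n107677 := ndS (p := 30470) (l := 0) rfl N30470 D107677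
theorem N57370 : nd 57370 = n107678 := ndS (p := 30470) (l := 1) rfl N30470 D107678
theorem N57371 : nd 57371 = n107679 := ndS (p := 30470) (l := 5) rfl N30470 D107679
theorem N57372 : nd 57372 = n107680 := ndS (p := 30470) (l := 7) rfl N30470 D107680
theorem N57373 : nd 57373 = n107681 := ndS (p := 30471) (l := 4) rfl N30471 D107681
theorem N57374 : nd 57374 = n107682 := ndS (p := 30471) (l := 5) rfl N30471 D107682
theorem N57375 : nd 57375 = n107683 := ndS (p := 30472) (l := 4) rfl N30472 D107683
theorem N57376 : nd 57376 = n107684 := ndS (p := 30472) (l := 6) rfl N30472 D107684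
theorem N57377 : nd 57377 = n107687 := ndS (p := 30474) (l := 7) rfl N30474 D107687
theorem N57378 : nd 57378 = n107688 := ndS (p := 30475) (l := 0) rfl N30475 D107688
theorem N57379 : nd 57379 = n107690 := ndS (p := 30475) (l := 2) rfl N30475 D107690
theorem N57380 : nd 57380 = n107691 := ndS (p := 30475) (l := 5) rfl N30475 D107691
theorem N57381 : nd 57381 = n107693 := ndS (p := 30476) (l := 6) rfl N30476 D107693
theorem N57382 : nd 57382 = n107694 := ndS (p := 30477) (l := 0) rfl N30477 D107694
theorem N57383 : nd 57383 = n107695 := ndS (p := 30477) (l := 1) rfl N30477 D107695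
theorem N57384 : nd 57384 = n107696 := ndS (p := 30477) (l := 5) rfl N30477 D107696
theorem N57385 : nd 57385 = n107697 := ndS (p := 30477) (l := 7) rfl N30477 D107697
theorem N57386 : nd 57386 = n107699 := ndS (p := 30478) (l := 6) rfl N30478 D107699
theorem N57387 : nd 57387 = n107702 := ndS (p := 30481) (l := 1) rfl N30481 D107702
theorem N57388 : nd 57388 = n107703 := ndS (p := 30481) (l := 2) rfl N30481 D107703
theorem N57389 : nd 57389 = n107705 := ndS (p := 30481) (l := 6) rfl N30481 D107705
theorem N57390 : nd 57390 = n107706 := ndS (p := 30482) (l := 0) rfl N30482 D107706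
theorem N57391 : nd 57391 = n107709 := ndS (p := 30483) (l := 5) rfl N30483 D107709
theorem N57392 : nd 57392 = n107710 := ndS (p := 30483) (l := 7) rfl N30483 D107710
theorem N57393 : nd 57393 = n107711 := ndS (p := 30484) (l := 0) rfl N30484 D107711
theorem N57394 : nd 57394 = n107712 := ndS (p := 30484) (l := 1) rfl N30484 D107712
theorem N57395 : nd 57395 = n107713 := ndS (p := 30484) (l := 2) rfl N30484 D107713
theorem N57396 : nd 57396 = n107715 := ndS (p := 30484) (l := 6) rfl N30484 D107715
theorem N57397 : nd 57397 = n107716 := ndS (p := 30485) (l := 6) rfl N30485 D107716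
theorem N57398 : nd 57398 = n107717 := ndS (p := 30486) (l := 5) rfl N30486 D107717
theorem N57399 : nd 57399 = n107737 := ndS (p := 30487) (l := 3) rfl N30487 D107737
theorem N57400 : nd 57400 = n107740 := ndS (p := 30488) (l := 6) rfl N30488 D107740
theorem N57401 : nd 57401 = n107742 := ndS (p := 30489) (l := 6) rfl N30489 D107742
theorem N57402 : nd 57402 = n107743 := ndS (p := 30490) (l := 0) rfl N30490 D107743
theorem N57403 : nd 57403 = n107744 := ndS (p := 30490) (l := 1) rfl N30490 D107744
theorem N57404 : nd 57404 = n107745 := ndS (p := 30490) (l := 7) rfl N30490 D107745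
theorem N57405 : nd 57405 = n107746 := ndS (p := 30491) (l := 6) rfl N30491 D107746
theorem N57406 : nd 57406 = n107747 := ndS (p := 30492) (l := 0) rfl N30492 D107747
theorem N57407 : nd 57407 = n107750 := ndS (p := 30493) (l := 3) rfl N30493 D107750
theorem N57408 : nd 57408 = n107751 := ndS (p := 30493) (l := 4) rfl N30493 D107751
theorem N57409 : nd 57409 = n107752 := ndS (p := 30493) (l := 6) rfl N30493 D107752
theorem N57410 : nd 57410 = n107755 := ndS (p := 30494) (l := 4) rfl N30494 D107755
theorem N57411 : nd 57411 = n107756 := ndS (p := 30494) (l := 5) rfl N30494 D107756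
theorem N57412 : nd 57412 = n107758 := ndS (p := 30495) (l := 3) rfl N30495 D107758
theorem N57413 : nd 57413 = n107759 := ndS (p := 30495) (l := 4) rfl N30495 D107759
theorem N57414 : nd 57414 = n107760 := ndS (p := 30495) (l := 5) rfl N30495 D107760
theorem N57415 : nd 57415 = n107761 := ndS (p := 30496) (l := 3) rfl N30496 D107761
theorem N57416 : nd 57416 = n107762 := ndS (p := 30496) (l := 4) rfl N30496 D107762
theorem N57417 : nd 57417 = n107763 := ndS (p := 30498) (l := 4) rfl N30498 D107763
theorem N57418 : nd 57418 = n107764 := ndS (p := 30498) (l := 5) rfl N30498 D107764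
theorem N57419 : nd 57419 = n107848 := ndS (p := 30502) (l := 3) rfl N30502 D107848
theorem N57420 : nd 57420 = n107852 := ndS (p := 30504) (l := 4) rfl N30504 D107852
theorem N57421 : nd 57421 = n107859 := ndS (p := 30506) (l := 5) rfl N30506 D107859
theorem N57422 : nd 57422 = n107863 := ndS (p := 30510) (l := 5) rfl N30510 D107863
theorem N57423 : nd 57423 = n107869 := ndS (p := 30512) (l := 3) rfl N30512 D107869
theorem N57424 : nd 57424 = n107873 := ndS (p := 30513) (l := 3) rfl N30513 D107873
theorem N57425 : nd 57425 = n107876 := ndS (p := 30514) (l := 0) rfl N30514 D107876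
theorem N57426 : nd 57426 = n107877 := ndS (p := 30514) (l := 1) rfl N30514 D107877
theorem N57427 : nd 57427 = n107878 := ndS (p := 30514) (l := 5) rfl N30514 D107878
theorem N57428 : nd 57428 = n107889 := ndS (p := 30518) (l := 3) rfl N30518 D107889
theorem N57429 : nd 57429 = n107891 := ndS (p := 30519) (l := 6) rfl N30519 D107891
theorem N57430 : nd 57430 = n107892 := ndS (p := 30520) (l := 5) rfl N30520 D107892
theorem N57431 : nd 57431 = n107894 := ndS (p := 30522) (l := 5) rfl N30522 D107894
theorem N57432 : nd 57432 = n107895 := ndS (p := 30523) (l := 5) rfl N30523 D107895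
theorem N57433 : nd 57433 = n107896 := ndS (p := 30524) (l := 5) rfl N30524 D107896
theorem N57434 : nd 57434 = n107897 := ndS (p := 30525) (l := 4) rfl N30525 D107897
theorem N57435 : nd 57435 = n107898 := ndS (p := 30525) (l := 6) rfl N30525 D107898
theorem N57436 : nd 57436 = n107899 := ndS (p := 30525) (l := 7) rfl N30525 D107899
theorem N57437 : nd 57437 = n107900 := ndS (p := 30526) (l := 5) rfl N30526 D107900
theorem N57438 : nd 57438 = n107903 := ndS (p := 30528) (l := 3) rfl N30528 D107903
theorem N57439 : nd 57439 = n107904 := ndS (p := 30528) (l := 5) rfl N30528 D107904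
theorem N57440 : nd 57440 = n107906 := ndS (p := 30528) (l := 7) rfl N30528 D107906
theorem N57441 : nd 57441 = n107911 := ndS (p := 30531) (l := 0) rfl N30531 D107911
theorem N57442 : nd 57442 = n107912 := ndS (p := 30531) (l := 6) rfl N30531 D107912
theorem N57443 : nd 57443 = n107913 := ndS (p := 30532) (l := 0) rfl N30532 D107913
theorem N57444 : nd 57444 = n107914 := ndS (p := 30532) (l := 5) rfl N30532 D107914
theorem N57445 : nd 57445 = n107915 := ndS (p := 30533) (l := 4) rfl N30533 D107915
theorem N57446 : nd 57446 = n107916 := ndS (p := 30533) (l := 6) rfl N30533 D107916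
theorem N57447 : nd 57447 = n107917 := ndS (p := 30534) (l := 0) rfl N30534 D107917
theorem N57448 : nd 57448 = n107918 := ndS (p := 30534) (l := 5) rfl N30534 D107918
theorem N57449 : nd 57449 = n107919 := ndS (p := 30535) (l := 3) rfl N30535 D107919
theorem N57450 : nd 57450 = n107920 := ndS (p := 30535) (l := 5) rfl N30535 D107920
theorem N57451 : nd 57451 = n107921 := ndS (p := 30535) (l := 6) rfl N30535 D107921
theorem N57452 : nd 57452 = n107924 := ndS (p := 30536) (l := 5) rfl N30536 D107924
theorem N57453 : nd 57453 = n107926 := ndS (p := 30537) (l := 4) rfl N30537 D107926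
theorem N57454 : nd 57454 = n107928 := ndS (p := 30539) (l := 6) rfl N30539 D107928
theorem N57455 : nd 57455 = n107930 := ndS (p := 30540) (l := 5) rfl N30540 D107930
theorem N57456 : nd 57456 = n107932 := ndS (p := 30541) (l := 0) rfl N30541 D107932
theorem N57457 : nd 57457 = n107934 := ndS (p := 30542) (l := 3) rfl N30542 D107934
theorem N57458 : nd 57458 = n107935 := ndS (p := 30542) (l := 5) rfl N30542 D107935
theorem N57459 : nd 57459 = n107940 := ndS (p := 30543) (l := 6) rfl N30543 D107940
theorem N57460 : nd 57460 = n107941 := ndS (p := 30544) (l := 3) rfl N30544 D107941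
theorem N57461 : nd 57461 = n107942 := ndS (p := 30544) (l := 5) rfl N30544 D107942
theorem N57462 : nd 57462 = n107943 := ndS (p := 30544) (l := 6) rfl N30544 D107943
theorem N57463 : nd 57463 = n107945 := ndS (p := 30545) (l := 1) rfl N30545 D107945
theorem N57464 : nd 57464 = n107946 := ndS (p := 30545) (l := 5) rfl N30545 D107946
theorem N57465 : nd 57465 = n107948 := ndS (p := 30546) (l := 3) rfl N30546 D107948
theorem N57466 : nd 57466 = n107949 := ndS (p := 30546) (l := 5) rfl N30546 D107949
theorem N57467 : nd 57467 = n107950 := ndS (p := 30546) (l := 6) rfl N30546 D107950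
theorem N57468 : nd 57468 = n107952 := ndS (p := 30547) (l := 1) rfl N30547 D107952
theorem N57469 : nd 57469 = n107954 := ndS (p := 30547) (l := 5) rfl N30547 D107954
theorem N57470 : nd 57470 = n107956 := ndS (p := 30548) (l := 0) rfl N30548 D107956
theorem N57471 : nd 57471 = n107957 := ndS (p := 30548) (l := 1) rfl N30548 D107957
theorem N57472 : nd 57472 = n107958 := ndS (p := 30548) (l := 4) rfl N30548 D107958
theorem N57473 : nd 57473 = n107959 := ndS (p := 30548) (l := 6) rfl N30548 D107959
theorem N57474 : nd 57474 = n107960 := ndS (p := 30548) (l := 7) rfl N30548 D107960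
theorem N57475 : nd 57475 = n107961 := ndS (p := 30549) (l := 0) rfl N30549 D107961
theorem N57476 : nd 57476 = n107963 := ndS (p := 30549) (l := 5) rfl N30549 D107963
theorem N57477 : nd 57477 = n107964 := ndS (p := 30549) (l := 7) rfl N30549 D107964
theorem N57478 : nd 57478 = n107965 := ndS (p := 30550) (l := 6) rfl N30550 D107965
theorem N57479 : nd 57479 = n107969 := ndS (p := 30552) (l := 3) rfl N30552 D107969
theorem N57480 : nd 57480 = n107972 := ndS (p := 30553) (l := 6) rfl N30553 D107972
theorem N57481 : nd 57481 = n107973 := ndS (p := 30554) (l := 0) rfl N30554 D107973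
theorem N57482 : nd 57482 = n107974 := ndS (p := 30554) (l := 1) rfl N30554 D107974
theorem N57483 : nd 57483 = n107981 := ndS (p := 30555) (l := 3) rfl N30555 D107981
theorem N57484 : nd 57484 = n107982 := ndS (p := 30555) (l := 4) rfl N30555 D107982
theorem N57485 : nd 57485 = n107998 := ndS (p := 30557) (l := 6) rfl N30557 D107998
theorem N57486 : nd 57486 = n108003 := ndS (p := 30560) (l := 5) rfl N30560 D108003
theorem N57487 : nd 57487 = n108006 := ndS (p := 30561) (l := 5) rfl N30561 D108006
theorem N57488 : nd 57488 = n108008 := ndS (p := 30562) (l := 3) rfl N30562 D108008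
theorem N57489 : nd 57489 = n108009 := ndS (p := 30562) (l := 5) rfl N30562 D108009
theorem N57490 : nd 57490 = n108010 := ndS (p := 30562) (l := 6) rfl N30562 D108010
theorem N57491 : nd 57491 = n108011 := ndS (p := 30563) (l := 1) rfl N30563 D108011
theorem N57492 : nd 57492 = n108012 := ndS (p := 30563) (l := 2) rfl N30563 D108012
theorem N57493 : nd 57493 = n108013 := ndS (p := 30563) (l := 5) rfl N30563 D108013
theorem N57494 : nd 57494 = n108014 := ndS (p := 30564) (l := 0) rfl N30564 D108014
theorem N57495 : nd 57495 = n108015 := ndS (p := 30564) (l := 6) rfl N30564 D108015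
theorem N57496 : nd 57496 = n108016 := ndS (p := 30565) (l := 0) rfl N30565 D108016
theorem N57497 : nd 57497 = n108018 := ndS (p := 30565) (l := 2) rfl N30565 D108018
theorem N57498 : nd 57498 = n108019 := ndS (p := 30565) (l := 5) rfl N30565 D108019
theorem N57499 : nd 57499 = n108020 := ndS (p := 30566) (l := 6) rfl N30566 D108020
theorem N57500 : nd 57500 = n108021 := ndS (p := 30568) (l := 3) rfl N30568 D108021
theorem N57501 : nd 57501 = n108022 := ndS (p := 30568) (l := 5) rfl N30568 D108022
theorem N57502 : nd 57502 = n108023 := ndS (p := 30569) (l := 3) rfl N30569 D108023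
theorem N57503 : nd 57503 = n108024 := ndS (p := 30569) (l := 5) rfl N30569 D108024
theorem N57504 : nd 57504 = n108025 := ndS (p := 30570) (l := 3) rfl N30570 D108025
theorem N57505 : nd 57505 = n108026 := ndS (p := 30570) (l := 5) rfl N30570 D108026
theorem N57506 : nd 57506 = n108027 := ndS (p := 30570) (l := 6) rfl N30570 D108027
theorem N57507 : nd 57507 = n108028 := ndS (p := 30571) (l := 1) rfl N30571 D108028
theorem N57508 : nd 57508 = n108029 := ndS (p := 30571) (l := 7) rfl N30571 D108029
theorem N57509 : nd 57509 = n108030 := ndS (p := 30572) (l := 0) rfl N30572 D108030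
theorem N57510 : nd 57510 = n108031 := ndS (p := 30572) (l := 1) rfl N30572 D108031
theorem N57511 : nd 57511 = n108032 := ndS (p := 30572) (l := 2) rfl N30572 D108032
theorem N57512 : nd 57512 = n108033 := ndS (p := 30572) (l := 5) rfl N30572 D108033
theorem N57513 : nd 57513 = n108034 := ndS (p := 30572) (l := 7) rfl N30572 D108034
theorem N57514 : nd 57514 = n108035 := ndS (p := 30573) (l := 6) rfl N30573 D108035
theorem N57515 : nd 57515 = n108036 := ndS (p := 30574) (l := 6) rfl N30574 D108036
theorem N57516 : nd 57516 = n108037 := ndS (p := 30577) (l := 3) rfl N30577 D108037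
theorem N57517 : nd 57517 = n108038 := ndS (p := 30577) (l := 6) rfl N30577 D108038
theorem N57518 : nd 57518 = n108041 := ndS (p := 30578) (l := 7) rfl N30578 D108041
theorem N57519 : nd 57519 = n108042 := ndS (p := 30579) (l := 6) rfl N30579 D108042
theorem N57520 : nd 57520 = n108043 := ndS (p := 30580) (l := 6) rfl N30580 D108043
theorem N57521 : nd 57521 = n108044 := ndS (p := 30581) (l := 3) rfl N30581 D108044
theorem N57522 : nd 57522 = n108045 := ndS (p := 30581) (l := 6) rfl N30581 D108045
theorem N57523 : nd 57523 = n108046 := ndS (p := 30582) (l := 0) rfl N30582 D108046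
theorem N57524 : nd 57524 = n108047 := ndS (p := 30582) (l := 1) rfl N30582 D108047
theorem N57525 : nd 57525 = n108048 := ndS (p := 30582) (l := 7) rfl N30582 D108048
theorem N57526 : nd 57526 = n108049 := ndS (p := 30583) (l := 3) rfl N30583 D108049
theorem N57527 : nd 57527 = n108050 := ndS (p := 30583) (l := 5) rfl N30583 D108050
theorem N57528 : nd 57528 = n108051 := ndS (p := 30583) (l := 6) rfl N30583 D108051
theorem N57529 : nd 57529 = n108052 := ndS (p := 30585) (l := 5) rfl N30585 D108052
theorem N57530 : nd 57530 = n108053 := ndS (p := 30586) (l := 3) rfl N30586 D108053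
theorem N57531 : nd 57531 = n108054 := ndS (p := 30586) (l := 5) rfl N30586 D108054
theorem N57532 : nd 57532 = n108055 := ndS (p := 30586) (l := 6) rfl N30586 D108055
theorem N57533 : nd 57533 = n108056 := ndS (p := 30587) (l := 3) rfl N30587 D108056
theorem N57534 : nd 57534 = n108057 := ndS (p := 30587) (l := 5) rfl N30587 D108057
theorem N57535 : nd 57535 = n108058 := ndS (p := 30587) (l := 6) rfl N30587 D108058
theorem N57536 : nd 57536 = n108059 := ndS (p := 30588) (l := 0) rfl N30588 D108059
theorem N57537 : nd 57537 = n108060 := ndS (p := 30588) (l := 1) rfl N30588 D108060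
theorem N57538 : nd 57538 = n108061 := ndS (p := 30588) (l := 2) rfl N30588 D108061
theorem N57539 : nd 57539 = n108062 := ndS (p := 30588) (l := 5) rfl N30588 D108062
theorem N57540 : nd 57540 = n108063 := ndS (p := 30588) (l := 6) rfl N30588 D108063
theorem N57541 : nd 57541 = n108064 := ndS (p := 30589) (l := 0) rfl N30589 D108064
theorem N57542 : nd 57542 = n108065 := ndS (p := 30589) (l := 6) rfl N30589 D108065
theorem N57543 : nd 57543 = n108066 := ndS (p := 30590) (l := 0) rfl N30590 D108066
theorem N57544 : nd 57544 = n108067 := ndS (p := 30590) (l := 1) rfl N30590 D108067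
theorem N57545 : nd 57545 = n108068 := ndS (p := 30590) (l := 5) rfl N30590 D108068
theorem N57546 : nd 57546 = n108069 := ndS (p := 30590) (l := 7) rfl N30590 D108069
theorem N57547 : nd 57547 = n108070 := ndS (p := 30591) (l := 4) rfl N30591 D108070
theorem N57548 : nd 57548 = n108071 := ndS (p := 30592) (l := 4) rfl N30592 D108071
theorem N57549 : nd 57549 = n108072 := ndS (p := 30595) (l := 3) rfl N30595 D108072
theorem N57550 : nd 57550 = n108073 := ndS (p := 30596) (l := 0) rfl N30596 D108073
theorem N57551 : nd 57551 = n108074 := ndS (p := 30597) (l := 3) rfl N30597 D108074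
theorem N57552 : nd 57552 = n108075 := ndS (p := 30597) (l := 6) rfl N30597 D108075
theorem N57553 : nd 57553 = n108076 := ndS (p := 30599) (l := 0) rfl N30599 D108076
theorem N57554 : nd 57554 = n108077 := ndS (p := 30599) (l := 1) rfl N30599 D108077
theorem N57555 : nd 57555 = n108078 := ndS (p := 30599) (l := 2) rfl N30599 D108078
theorem N57556 : nd 57556 = n108079 := ndS (p := 30599) (l := 5) rfl N30599 D108079
theorem N57557 : nd 57557 = n108080 := ndS (p := 30599) (l := 6) rfl N30599 D108080
theorem N57558 : nd 57558 = n108081 := ndS (p := 30600) (l := 6) rfl N30600 D108081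
theorem N57559 : nd 57559 = n108082 := ndS (p := 30601) (l := 0) rfl N30601 D108082
theorem N57560 : nd 57560 = n108083 := ndS (p := 30601) (l := 5) rfl N30601 D108083
theorem N57561 : nd 57561 = n108084 := ndS (p := 30602) (l := 0) rfl N30602 D108084
theorem N57562 : nd 57562 = n108085 := ndS (p := 30602) (l := 1) rfl N30602 D108085
theorem N57563 : nd 57563 = n108086 := ndS (p := 30602) (l := 7) rfl N30602 D108086
theorem N57564 : nd 57564 = n108087 := ndS (p := 30603) (l := 3) rfl N30603 D108087
theorem N57565 : nd 57565 = n108088 := ndS (p := 30603) (l := 6) rfl N30603 D108088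
theorem N57566 : nd 57566 = n108089 := ndS (p := 30604) (l := 0) rfl N30604 D108089
theorem N57567 : nd 57567 = n108090 := ndS (p := 30604) (l := 1) rfl N30604 D108090
theorem N57568 : nd 57568 = n108091 := ndS (p := 30604) (l := 2) rfl N30604 D108091
theorem N57569 : nd 57569 = n108092 := ndS (p := 30604) (l := 5) rfl N30604 D108092
theorem N57570 : nd 57570 = n108093 := ndS (p := 30604) (l := 6) rfl N30604 D108093
theorem N57571 : nd 57571 = n108094 := ndS (p := 30605) (l := 0) rfl N30605 D108094
theorem N57572 : nd 57572 = n108095 := ndS (p := 30605) (l := 1) rfl N30605 D108095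
theorem N57573 : nd 57573 = n108096 := ndS (p := 30605) (l := 6) rfl N30605 D108096
theorem N57574 : nd 57574 = n108097 := ndS (p := 30606) (l := 0) rfl N30606 D108097
theorem N57575 : nd 57575 = n108098 := ndS (p := 30606) (l := 1) rfl N30606 D108098
theorem N57576 : nd 57576 = n108099 := ndS (p := 30606) (l := 5) rfl N30606 D108099
theorem N57577 : nd 57577 = n108100 := ndS (p := 30606) (l := 7) rfl N30606 D108100
theorem N57578 : nd 57578 = n108101 := ndS (p := 30607) (l := 4) rfl N30607 D108101
theorem N57579 : nd 57579 = n108102 := ndS (p := 30607) (l := 5) rfl N30607 D108102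
theorem N57580 : nd 57580 = n108103 := ndS (p := 30608) (l := 4) rfl N30608 D108103
theorem N57581 : nd 57581 = n108104 := ndS (p := 30610) (l := 0) rfl N30610 D108104
theorem N57582 : nd 57582 = n108105 := ndS (p := 30610) (l := 1) rfl N30610 D108105
theorem N57583 : nd 57583 = n108106 := ndS (p := 30610) (l := 7) rfl N30610 D108106
theorem N57584 : nd 57584 = n108107 := ndS (p := 30611) (l := 0) rfl N30611 D108107
theorem N57585 : nd 57585 = n108108 := ndS (p := 30611) (l := 1) rfl N30611 D108108
theorem N57586 : nd 57586 = n108109 := ndS (p := 30611) (l := 2) rfl N30611 D108109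
theorem N57587 : nd 57587 = n108110 := ndS (p := 30611) (l := 5) rfl N30611 D108110
theorem N57588 : nd 57588 = n108111 := ndS (p := 30611) (l := 6) rfl N30611 D108111
theorem N57589 : nd 57589 = n108112 := ndS (p := 30612) (l := 6) rfl N30612 D108112
theorem N57590 : nd 57590 = n108113 := ndS (p := 30613) (l := 0) rfl N30613 D108113
theorem N57591 : nd 57591 = n108114 := ndS (p := 30613) (l := 1) rfl N30613 D108114
theorem N57592 : nd 57592 = n108115 := ndS (p := 30613) (l := 5) rfl N30613 D108115
theorem N57593 : nd 57593 = n108116 := ndS (p := 30613) (l := 7) rfl N30613 D108116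
theorem N57594 : nd 57594 = n108117 := ndS (p := 30614) (l := 4) rfl N30614 D108117
theorem N57595 : nd 57595 = n108118 := ndS (p := 30616) (l := 0) rfl N30616 D108118
theorem N57596 : nd 57596 = n108119 := ndS (p := 30616) (l := 1) rfl N30616 D108119
theorem N57597 : nd 57597 = n108120 := ndS (p := 30616) (l := 2) rfl N30616 D108120
theorem N57598 : nd 57598 = n108121 := ndS (p := 30616) (l := 6) rfl N30616 D108121
theorem N57599 : nd 57599 = n108122 := ndS (p := 30617) (l := 0) rfl N30617 D108122
theorem N57600 : nd 57600 = n108123 := ndS (p := 30617) (l := 6) rfl N30617 D108123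
theorem N57601 : nd 57601 = n108124 := ndS (p := 30618) (l := 5) rfl N30618 D108124
theorem N57602 : nd 57602 = n108125 := ndS (p := 30618) (l := 7) rfl N30618 D108125
theorem N57603 : nd 57603 = n108126 := ndS (p := 30619) (l := 6) rfl N30619 D108126
theorem N57604 : nd 57604 = n108127 := ndS (p := 30620) (l := 5) rfl N30620 D108127
theorem N57605 : nd 57605 = n108128 := ndS (p := 30620) (l := 7) rfl N30620 D108128
theorem N57606 : nd 57606 = n108129 := ndS (p := 30621) (l := 0) rfl N30621 D108129
theorem N57607 : nd 57607 = n108131 := ndS (p := 30621) (l := 3) rfl N30621 D108131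
theorem N57608 : nd 57608 = n108133 := ndS (p := 30621) (l := 5) rfl N30621 D108133
theorem N57609 : nd 57609 = n108134 := ndS (p := 30621) (l := 6) rfl N30621 D108134
theorem N57610 : nd 57610 = n108135 := ndS (p := 30621) (l := 7) rfl N30621 D108135
theorem N57611 : nd 57611 = n108136 := ndS (p := 30622) (l := 3) rfl N30622 D108136
theorem N57612 : nd 57612 = n108137 := ndS (p := 30622) (l := 5) rfl N30622 D108137
theorem N57613 : nd 57613 = n108140 := ndS (p := 30623) (l := 5) rfl N30623 D108140
theorem N57614 : nd 57614 = n108141 := ndS (p := 30624) (l := 0) rfl N30624 D108141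
theorem N57615 : nd 57615 = n108142 := ndS (p := 30624) (l := 1) rfl N30624 D108142
theorem N57616 : nd 57616 = n108143 := ndS (p := 30624) (l := 4) rfl N30624 D108143
theorem N57617 : nd 57617 = n108144 := ndS (p := 30624) (l := 6) rfl N30624 D108144
theorem N57618 : nd 57618 = n108145 := ndS (p := 30624) (l := 7) rfl N30624 D108145
theorem N57619 : nd 57619 = n108146 := ndS (p := 30625) (l := 6) rfl N30625 D108146
theorem N57620 : nd 57620 = n108147 := ndS (p := 30626) (l := 3) rfl N30626 D108147
theorem N57621 : nd 57621 = n108148 := ndS (p := 30626) (l := 6) rfl N30626 D108148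
theorem N57622 : nd 57622 = n108149 := ndS (p := 30627) (l := 6) rfl N30627 D108149
theorem N57623 : nd 57623 = n108150 := ndS (p := 30628) (l := 3) rfl N30628 D108150
theorem N57624 : nd 57624 = n108151 := ndS (p := 30628) (l := 6) rfl N30628 D108151
theorem N57625 : nd 57625 = n108152 := ndS (p := 30629) (l := 0) rfl N30629 D108152
theorem N57626 : nd 57626 = n108153 := ndS (p := 30629) (l := 1) rfl N30629 D108153
theorem N57627 : nd 57627 = n108154 := ndS (p := 30629) (l := 7) rfl N30629 D108154
theorem N57628 : nd 57628 = n108155 := ndS (p := 30630) (l := 6) rfl N30630 D108155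
theorem N57629 : nd 57629 = n108156 := ndS (p := 30631) (l := 1) rfl N30631 D108156
theorem N57630 : nd 57630 = n108157 := ndS (p := 30631) (l := 5) rfl N30631 D108157
theorem N57631 : nd 57631 = n108159 := ndS (p := 30632) (l := 4) rfl N30632 D108159
theorem N57632 : nd 57632 = n108160 := ndS (p := 30632) (l := 5) rfl N30632 D108160
theorem N57633 : nd 57633 = n108161 := ndS (p := 30632) (l := 6) rfl N30632 D108161
theorem N57634 : nd 57634 = n108164 := ndS (p := 30633) (l := 4) rfl N30633 D108164
theorem N57635 : nd 57635 = n108165 := ndS (p := 30633) (l := 5) rfl N30633 D108165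
theorem N57636 : nd 57636 = n108166 := ndS (p := 30634) (l := 0) rfl N30634 D108166
theorem N57637 : nd 57637 = n108167 := ndS (p := 30634) (l := 1) rfl N30634 D108167
theorem N57638 : nd 57638 = n108169 := ndS (p := 30634) (l := 5) rfl N30634 D108169
theorem N57639 : nd 57639 = n108171 := ndS (p := 30635) (l := 6) rfl N30635 D108171
theorem N57640 : nd 57640 = n108172 := ndS (p := 30636) (l := 1) rfl N30636 D108172
theorem N57641 : nd 57641 = n108173 := ndS (p := 30636) (l := 5) rfl N30636 D108173
theorem N57642 : nd 57642 = n108174 := ndS (p := 30636) (l := 7) rfl N30636 D108174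
theorem N57643 : nd 57643 = n108191 := ndS (p := 30639) (l := 3) rfl N30639 D108191
theorem N57644 : nd 57644 = n108192 := ndS (p := 30640) (l := 3) rfl N30640 D108192
theorem N57645 : nd 57645 = n108193 := ndS (p := 30640) (l := 6) rfl N30640 D108193
theorem N57646 : nd 57646 = n108194 := ndS (p := 30641) (l := 0) rfl N30641 D108194
theorem N57647 : nd 57647 = n108195 := ndS (p := 30641) (l := 1) rfl N30641 D108195
theorem N57648 : nd 57648 = n108196 := ndS (p := 30641) (l := 2) rfl N30641 D108196
theorem N57649 : nd 57649 = n108197 := ndS (p := 30641) (l := 5) rfl N30641 D108197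
theorem N57650 : nd 57650 = n108198 := ndS (p := 30641) (l := 6) rfl N30641 D108198
theorem N57651 : nd 57651 = n108199 := ndS (p := 30642) (l := 6) rfl N30642 D108199
theorem N57652 : nd 57652 = n108200 := ndS (p := 30643) (l := 5) rfl N30643 D108200
theorem N57653 : nd 57653 = n108203 := ndS (p := 30644) (l := 4) rfl N30644 D108203
theorem N57654 : nd 57654 = n108207 := ndS (p := 30645) (l := 3) rfl N30645 D108207
theorem N57655 : nd 57655 = n108208 := ndS (p := 30645) (l := 4) rfl N30645 D108208
theorem N57656 : nd 57656 = n108210 := ndS (p := 30645) (l := 6) rfl N30645 D108210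
theorem N57657 : nd 57657 = n108217 := ndS (p := 30648) (l := 6) rfl N30648 D108217
theorem N57658 : nd 57658 = n108218 := ndS (p := 30649) (l := 0) rfl N30649 D108218
theorem N57659 : nd 57659 = n108219 := ndS (p := 30649) (l := 1) rfl N30649 D108219
theorem N57660 : nd 57660 = n108220 := ndS (p := 30649) (l := 5) rfl N30649 D108220
theorem N57661 : nd 57661 = n108221 := ndS (p := 30649) (l := 7) rfl N30649 D108221
theorem N57662 : nd 57662 = n108222 := ndS (p := 30650) (l := 3) rfl N30650 D108222
theorem N57663 : nd 57663 = n108223 := ndS (p := 30650) (l := 4) rfl N30650 D108223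
theorem N57664 : nd 57664 = n108224 := ndS (p := 30650) (l := 5) rfl N30650 D108224
theorem N57665 : nd 57665 = n108225 := ndS (p := 30651) (l := 3) rfl N30651 D108225
theorem N57666 : nd 57666 = n108226 := ndS (p := 30651) (l := 4) rfl N30651 D108226
theorem N57667 : nd 57667 = n108227 := ndS (p := 30651) (l := 6) rfl N30651 D108227
theorem N57668 : nd 57668 = n108228 := ndS (p := 30653) (l := 4) rfl N30653 D108228
theorem N57669 : nd 57669 = n108229 := ndS (p := 30653) (l := 5) rfl N30653 D108229
theorem N57670 : nd 57670 = n108231 := ndS (p := 30655) (l := 6) rfl N30655 D108231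
theorem N57671 : nd 57671 = n108232 := ndS (p := 30656) (l := 3) rfl N30656 D108232
theorem N57672 : nd 57672 = n108233 := ndS (p := 30656) (l := 4) rfl N30656 D108233
theorem N57673 : nd 57673 = n108235 := ndS (p := 30656) (l := 6) rfl N30656 D108235
theorem N57674 : nd 57674 = n108237 := ndS (p := 30657) (l := 1) rfl N30657 D108237
theorem N57675 : nd 57675 = n108239 := ndS (p := 30657) (l := 6) rfl N30657 D108239
theorem N57676 : nd 57676 = n108240 := ndS (p := 30658) (l := 0) rfl N30658 D108240
theorem N57677 : nd 57677 = n108241 := ndS (p := 30658) (l := 1) rfl N30658 D108241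
theorem N57678 : nd 57678 = n108242 := ndS (p := 30658) (l := 6) rfl N30658 D108242
theorem N57679 : nd 57679 = n108247 := ndS (p := 30659) (l := 0) rfl N30659 D108247
theorem N57680 : nd 57680 = n108249 := ndS (p := 30659) (l := 5) rfl N30659 D108249
theorem N57681 : nd 57681 = n108250 := ndS (p := 30659) (l := 7) rfl N30659 D108250
theorem N57682 : nd 57682 = n108252 := ndS (p := 30661) (l := 0) rfl N30661 D108252
theorem N57683 : nd 57683 = n108254 := ndS (p := 30661) (l := 2) rfl N30661 D108254
theorem N57684 : nd 57684 = n108258 := ndS (p := 30662) (l := 3) rfl N30662 D108258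
theorem N57685 : nd 57685 = n108266 := ndS (p := 30663) (l := 4) rfl N30663 D108266
theorem N57686 : nd 57686 = n108269 := ndS (p := 30664) (l := 3) rfl N30664 D108269
theorem N57687 : nd 57687 = n108270 := ndS (p := 30664) (l := 4) rfl N30664 D108270
theorem N57688 : nd 57688 = n108273 := ndS (p := 30665) (l := 3) rfl N30665 D108273
theorem N57689 : nd 57689 = n108277 := ndS (p := 30666) (l := 0) rfl N30666 D108277
theorem N57690 : nd 57690 = n108278 := ndS (p := 30666) (l := 1) rfl N30666 D108278
theorem N57691 : nd 57691 = n108279 := ndS (p := 30666) (l := 5) rfl N30666 D108279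
theorem N57692 : nd 57692 = n108280 := ndS (p := 30666) (l := 6) rfl N30666 D108280
theorem N57693 : nd 57693 = n108284 := ndS (p := 30668) (l := 0) rfl N30668 D108284
theorem N57694 : nd 57694 = n108285 := ndS (p := 30668) (l := 1) rfl N30668 D108285
theorem N57695 : nd 57695 = n108286 := ndS (p := 30668) (l := 5) rfl N30668 D108286
theorem N57696 : nd 57696 = n108288 := ndS (p := 30669) (l := 3) rfl N30669 D108288
theorem N57697 : nd 57697 = n108293 := ndS (p := 30670) (l := 3) rfl N30670 D108293
theorem N57698 : nd 57698 = n108296 := ndS (p := 30670) (l := 6) rfl N30670 D108296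
theorem N57699 : nd 57699 = n108297 := ndS (p := 30672) (l := 4) rfl N30672 D108297
theorem N57700 : nd 57700 = n108298 := ndS (p := 30673) (l := 5) rfl N30673 D108298
theorem N57701 : nd 57701 = n108300 := ndS (p := 30675) (l := 5) rfl N30675 D108300
theorem N57702 : nd 57702 = n108359 := ndS (p := 30681) (l := 6) rfl N30681 D108359
theorem N57703 : nd 57703 = n108360 := ndS (p := 30682) (l := 0) rfl N30682 D108360
theorem N57704 : nd 57704 = n108361 := ndS (p := 30682) (l := 1) rfl N30682 D108361
theorem N57705 : nd 57705 = n108369 := ndS (p := 30684) (l := 3) rfl N30684 D108369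
theorem N57706 : nd 57706 = n108401 := ndS (p := 30689) (l := 5) rfl N30689 D108401
theorem N57707 : nd 57707 = n108404 := ndS (p := 30690) (l := 3) rfl N30690 D108404
theorem N57708 : nd 57708 = n108405 := ndS (p := 30690) (l := 5) rfl N30690 D108405
theorem N57709 : nd 57709 = n108407 := ndS (p := 30691) (l := 3) rfl N30691 D108407
theorem N57710 : nd 57710 = n108408 := ndS (p := 30691) (l := 6) rfl N30691 D108408
theorem N57711 : nd 57711 = n108409 := ndS (p := 30692) (l := 0) rfl N30692 D108409
theorem N57712 : nd 57712 = n108411 := ndS (p := 30692) (l := 7) rfl N30692 D108411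
theorem N57713 : nd 57713 = n108412 := ndS (p := 30693) (l := 3) rfl N30693 D108412
theorem N57714 : nd 57714 = n108413 := ndS (p := 30693) (l := 6) rfl N30693 D108413
theorem N57715 : nd 57715 = n108414 := ndS (p := 30694) (l := 0) rfl N30694 D108414
theorem N57716 : nd 57716 = n108415 := ndS (p := 30694) (l := 7) rfl N30694 D108415
theorem N57717 : nd 57717 = n108416 := ndS (p := 30695) (l := 6) rfl N30695 D108416
theorem N57718 : nd 57718 = n108417 := ndS (p := 30696) (l := 0) rfl N30696 D108417
theorem N57719 : nd 57719 = n108419 := ndS (p := 30696) (l := 7) rfl N30696 D108419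
theorem N57720 : nd 57720 = n108420 := ndS (p := 30697) (l := 0) rfl N30697 D108420
theorem N57721 : nd 57721 = n108421 := ndS (p := 30697) (l := 1) rfl N30697 D108421
theorem N57722 : nd 57722 = n108423 := ndS (p := 30698) (l := 0) rfl N30698 D108423
theorem N57723 : nd 57723 = n108424 := ndS (p := 30698) (l := 1) rfl N30698 D108424
theorem N57724 : nd 57724 = n108425 := ndS (p := 30698) (l := 2) rfl N30698 D108425
theorem N57725 : nd 57725 = n108426 := ndS (p := 30698) (l := 5) rfl N30698 D108426
theorem N57726 : nd 57726 = n108427 := ndS (p := 30699) (l := 6) rfl N30699 D108427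
theorem N57727 : nd 57727 = n108428 := ndS (p := 30700) (l := 0) rfl N30700 D108428
theorem N57728 : nd 57728 = n108429 := ndS (p := 30701) (l := 0) rfl N30701 D108429
theorem N57729 : nd 57729 = n108430 := ndS (p := 30701) (l := 1) rfl N30701 D108430
theorem N57730 : nd 57730 = n108431 := ndS (p := 30701) (l := 2) rfl N30701 D108431
theorem N57731 : nd 57731 = n108432 := ndS (p := 30701) (l := 5) rfl N30701 D108432
theorem N57732 : nd 57732 = n108433 := ndS (p := 30701) (l := 6) rfl N30701 D108433
theorem N57733 : nd 57733 = n108434 := ndS (p := 30702) (l := 6) rfl N30702 D108434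
theorem N57734 : nd 57734 = n108435 := ndS (p := 30703) (l := 0) rfl N30703 D108435
theorem N57735 : nd 57735 = n108436 := ndS (p := 30703) (l := 1) rfl N30703 D108436
theorem N57736 : nd 57736 = n108437 := ndS (p := 30703) (l := 5) rfl N30703 D108437
theorem N57737 : nd 57737 = n108438 := ndS (p := 30703) (l := 7) rfl N30703 D108438
theorem N57738 : nd 57738 = n108439 := ndS (p := 30704) (l := 4) rfl N30704 D108439
theorem N57739 : nd 57739 = n108440 := ndS (p := 30705) (l := 4) rfl N30705 D108440
theorem N57740 : nd 57740 = n108441 := ndS (p := 30705) (l := 6) rfl N30705 D108441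
theorem N57741 : nd 57741 = n108442 := ndS (p := 30707) (l := 0) rfl N30707 D108442
theorem N57742 : nd 57742 = n108443 := ndS (p := 30707) (l := 1) rfl N30707 D108443
theorem N57743 : nd 57743 = n108444 := ndS (p := 30707) (l := 2) rfl N30707 D108444
theorem N57744 : nd 57744 = n108445 := ndS (p := 30707) (l := 5) rfl N30707 D108445
theorem N57745 : nd 57745 = n108446 := ndS (p := 30707) (l := 6) rfl N30707 D108446
theorem N57746 : nd 57746 = n108447 := ndS (p := 30708) (l := 6) rfl N30708 D108447
theorem N57747 : nd 57747 = n108448 := ndS (p := 30709) (l := 1) rfl N30709 D108448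
theorem N57748 : nd 57748 = n108449 := ndS (p := 30709) (l := 5) rfl N30709 D108449
theorem N57749 : nd 57749 = n108450 := ndS (p := 30709) (l := 7) rfl N30709 D108450
theorem N57750 : nd 57750 = n108451 := ndS (p := 30710) (l := 4) rfl N30710 D108451
theorem N57751 : nd 57751 = n108452 := ndS (p := 30712) (l := 0) rfl N30712 D108452
theorem N57752 : nd 57752 = n108453 := ndS (p := 30712) (l := 1) rfl N30712 D108453
theorem N57753 : nd 57753 = n108454 := ndS (p := 30712) (l := 2) rfl N30712 D108454
theorem N57754 : nd 57754 = n108456 := ndS (p := 30712) (l := 6) rfl N30712 D108456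
theorem N57755 : nd 57755 = n108460 := ndS (p := 30715) (l := 0) rfl N30715 D108460
theorem N57756 : nd 57756 = n108461 := ndS (p := 30715) (l := 1) rfl N30715 D108461
theorem N57757 : nd 57757 = n108462 := ndS (p := 30715) (l := 2) rfl N30715 D108462
theorem N57758 : nd 57758 = n108463 := ndS (p := 30715) (l := 5) rfl N30715 D108463
theorem N57759 : nd 57759 = n108464 := ndS (p := 30715) (l := 6) rfl N30715 D108464
theorem N57760 : nd 57760 = n108465 := ndS (p := 30716) (l := 6) rfl N30716 D108465
theorem N57761 : nd 57761 = n108468 := ndS (p := 30717) (l := 7) rfl N30717 D108468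
theorem N57762 : nd 57762 = n108469 := ndS (p := 30718) (l := 0) rfl N30718 D108469
theorem N57763 : nd 57763 = n108470 := ndS (p := 30718) (l := 2) rfl N30718 D108470
theorem N57764 : nd 57764 = n108471 := ndS (p := 30718) (l := 3) rfl N30718 D108471
theorem N57765 : nd 57765 = n108472 := ndS (p := 30718) (l := 4) rfl N30718 D108472
theorem N57766 : nd 57766 = n108474 := ndS (p := 30718) (l := 6) rfl N30718 D108474
theorem N57767 : nd 57767 = n108475 := ndS (p := 30718) (l := 7) rfl N30718 D108475
theorem N57768 : nd 57768 = n108476 := ndS (p := 30719) (l := 3) rfl N30719 D108476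
theorem N57769 : nd 57769 = n108477 := ndS (p := 30719) (l := 4) rfl N30719 D108477
theorem N57770 : nd 57770 = n108479 := ndS (p := 30719) (l := 6) rfl N30719 D108479
theorem N57771 : nd 57771 = n108487 := ndS (p := 30721) (l := 7) rfl N30721 D108487
theorem N57772 : nd 57772 = n108488 := ndS (p := 30722) (l := 6) rfl N30722 D108488
theorem N57773 : nd 57773 = n108489 := ndS (p := 30723) (l := 3) rfl N30723 D108489
theorem N57774 : nd 57774 = n108490 := ndS (p := 30723) (l := 6) rfl N30723 D108490
theorem N57775 : nd 57775 = n108491 := ndS (p := 30724) (l := 3) rfl N30724 D108491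
theorem N57776 : nd 57776 = n108492 := ndS (p := 30724) (l := 6) rfl N30724 D108492
theorem N57777 : nd 57777 = n108493 := ndS (p := 30725) (l := 3) rfl N30725 D108493
theorem N57778 : nd 57778 = n108494 := ndS (p := 30725) (l := 6) rfl N30725 D108494
theorem N57779 : nd 57779 = n108495 := ndS (p := 30726) (l := 0) rfl N30726 D108495
theorem N57780 : nd 57780 = n108496 := ndS (p := 30726) (l := 1) rfl N30726 D108496
theorem N57781 : nd 57781 = n108497 := ndS (p := 30726) (l := 7) rfl N30726 D108497
theorem N57782 : nd 57782 = n108498 := ndS (p := 30727) (l := 6) rfl N30727 D108498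
theorem N57783 : nd 57783 = n108499 := ndS (p := 30728) (l := 5) rfl N30728 D108499
theorem N57784 : nd 57784 = n108500 := ndS (p := 30729) (l := 3) rfl N30729 D108500
theorem N57785 : nd 57785 = n108501 := ndS (p := 30729) (l := 6) rfl N30729 D108501
theorem N57786 : nd 57786 = n108502 := ndS (p := 30732) (l := 7) rfl N30732 D108502
theorem N57787 : nd 57787 = n108503 := ndS (p := 30733) (l := 0) rfl N30733 D108503
theorem N57788 : nd 57788 = n108504 := ndS (p := 30733) (l := 7) rfl N30733 D108504
theorem N57789 : nd 57789 = n108505 := ndS (p := 30734) (l := 0) rfl N30734 D108505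
theorem N57790 : nd 57790 = n108506 := ndS (p := 30734) (l := 1) rfl N30734 D108506
theorem N57791 : nd 57791 = n108507 := ndS (p := 30734) (l := 2) rfl N30734 D108507
theorem N57792 : nd 57792 = n108508 := ndS (p := 30734) (l := 5) rfl N30734 D108508
theorem N57793 : nd 57793 = n108509 := ndS (p := 30735) (l := 6) rfl N30735 D108509
theorem N57794 : nd 57794 = n108510 := ndS (p := 30737) (l := 3) rfl N30737 D108510
theorem N57795 : nd 57795 = n108511 := ndS (p := 30738) (l := 0) rfl N30738 D108511
theorem N57796 : nd 57796 = n108516 := ndS (p := 30742) (l := 0) rfl N30742 D108516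
theorem N57797 : nd 57797 = n108517 := ndS (p := 30742) (l := 1) rfl N30742 D108517
theorem N57798 : nd 57798 = n108518 := ndS (p := 30742) (l := 2) rfl N30742 D108518
theorem N57799 : nd 57799 = n108519 := ndS (p := 30742) (l := 5) rfl N30742 D108519
theorem N57800 : nd 57800 = n108520 := ndS (p := 30742) (l := 7) rfl N30742 D108520
theorem N57801 : nd 57801 = n108521 := ndS (p := 30743) (l := 6) rfl N30743 D108521
theorem N57802 : nd 57802 = n108522 := ndS (p := 30744) (l := 6) rfl N30744 D108522
theorem N57803 : nd 57803 = n108523 := ndS (p := 30745) (l := 1) rfl N30745 D108523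
theorem N57804 : nd 57804 = n108524 := ndS (p := 30746) (l := 0) rfl N30746 D108524
theorem N57805 : nd 57805 = n108525 := ndS (p := 30746) (l := 1) rfl N30746 D108525
theorem N57806 : nd 57806 = n108526 := ndS (p := 30746) (l := 2) rfl N30746 D108526
theorem N57807 : nd 57807 = n108527 := ndS (p := 30746) (l := 5) rfl N30746 D108527
theorem N57808 : nd 57808 = n108528 := ndS (p := 30746) (l := 6) rfl N30746 D108528
theorem N57809 : nd 57809 = n108529 := ndS (p := 30747) (l := 6) rfl N30747 D108529
theorem N57810 : nd 57810 = n108530 := ndS (p := 30748) (l := 0) rfl N30748 D108530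
theorem N57811 : nd 57811 = n108534 := ndS (p := 30751) (l := 0) rfl N30751 D108534
theorem N57812 : nd 57812 = n108535 := ndS (p := 30751) (l := 1) rfl N30751 D108535
theorem N57813 : nd 57813 = n108536 := ndS (p := 30751) (l := 2) rfl N30751 D108536
theorem N57814 : nd 57814 = n108537 := ndS (p := 30751) (l := 5) rfl N30751 D108537
theorem N57815 : nd 57815 = n108539 := ndS (p := 30752) (l := 6) rfl N30752 D108539
theorem N57816 : nd 57816 = n108540 := ndS (p := 30753) (l := 0) rfl N30753 D108540
theorem N57817 : nd 57817 = n108541 := ndS (p := 30753) (l := 1) rfl N30753 D108541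
theorem N57818 : nd 57818 = n108543 := ndS (p := 30753) (l := 7) rfl N30753 D108543
theorem N57819 : nd 57819 = n108544 := ndS (p := 30754) (l := 4) rfl N30754 D108544
theorem N57820 : nd 57820 = n108545 := ndS (p := 30754) (l := 6) rfl N30754 D108545
theorem N57821 : nd 57821 = n108546 := ndS (p := 30755) (l := 4) rfl N30755 D108546
theorem N57822 : nd 57822 = n108547 := ndS (p := 30757) (l := 0) rfl N30757 D108547
theorem N57823 : nd 57823 = n108548 := ndS (p := 30757) (l := 1) rfl N30757 D108548
theorem N57824 : nd 57824 = n108549 := ndS (p := 30757) (l := 2) rfl N30757 D108549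
theorem N57825 : nd 57825 = n108550 := ndS (p := 30757) (l := 5) rfl N30757 D108550
theorem N57826 : nd 57826 = n108551 := ndS (p := 30757) (l := 6) rfl N30757 D108551
theorem N57827 : nd 57827 = n108552 := ndS (p := 30758) (l := 6) rfl N30758 D108552
theorem N57828 : nd 57828 = n108553 := ndS (p := 30759) (l := 5) rfl N30759 D108553
theorem N57829 : nd 57829 = n108554 := ndS (p := 30759) (l := 7) rfl N30759 D108554
theorem N57830 : nd 57830 = n108555 := ndS (p := 30760) (l := 0) rfl N30760 D108555
theorem N57831 : nd 57831 = n108556 := ndS (p := 30760) (l := 1) rfl N30760 D108556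
theorem N57832 : nd 57832 = n108557 := ndS (p := 30760) (l := 2) rfl N30760 D108557
theorem N57833 : nd 57833 = n108558 := ndS (p := 30760) (l := 5) rfl N30760 D108558
theorem N57834 : nd 57834 = n108559 := ndS (p := 30760) (l := 6) rfl N30760 D108559
theorem N57835 : nd 57835 = n108561 := ndS (p := 30762) (l := 5) rfl N30762 D108561
theorem N57836 : nd 57836 = n108562 := ndS (p := 30762) (l := 7) rfl N30762 D108562
theorem N57837 : nd 57837 = n108563 := ndS (p := 30763) (l := 0) rfl N30763 D108563
theorem N57838 : nd 57838 = n108564 := ndS (p := 30763) (l := 2) rfl N30763 D108564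
theorem N57839 : nd 57839 = n108565 := ndS (p := 30763) (l := 3) rfl N30763 D108565
theorem N57840 : nd 57840 = n108566 := ndS (p := 30763) (l := 4) rfl N30763 D108566
theorem N57841 : nd 57841 = n108567 := ndS (p := 30763) (l := 5) rfl N30763 D108567
theorem N57842 : nd 57842 = n108568 := ndS (p := 30763) (l := 6) rfl N30763 D108568
theorem N57843 : nd 57843 = n108569 := ndS (p := 30763) (l := 7) rfl N30763 D108569
theorem N57844 : nd 57844 = n108572 := ndS (p := 30764) (l := 5) rfl N30764 D108572
theorem N57845 : nd 57845 = n108577 := ndS (p := 30766) (l := 0) rfl N30766 D108577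
theorem N57846 : nd 57846 = n108578 := ndS (p := 30766) (l := 1) rfl N30766 D108578
theorem N57847 : nd 57847 = n108579 := ndS (p := 30766) (l := 4) rfl N30766 D108579
theorem N57848 : nd 57848 = n108581 := ndS (p := 30766) (l := 7) rfl N30766 D108581
theorem N57849 : nd 57849 = n108582 := ndS (p := 30767) (l := 6) rfl N30767 D108582
theorem N57850 : nd 57850 = n108583 := ndS (p := 30768) (l := 3) rfl N30768 D108583
theorem N57851 : nd 57851 = n108584 := ndS (p := 30768) (l := 6) rfl N30768 D108584
theorem N57852 : nd 57852 = n108585 := ndS (p := 30769) (l := 3) rfl N30769 D108585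
theorem N57853 : nd 57853 = n108586 := ndS (p := 30769) (l := 6) rfl N30769 D108586
theorem N57854 : nd 57854 = n108587 := ndS (p := 30770) (l := 3) rfl N30770 D108587
theorem N57855 : nd 57855 = n108588 := ndS (p := 30770) (l := 6) rfl N30770 D108588
theorem N57856 : nd 57856 = n108589 := ndS (p := 30771) (l := 0) rfl N30771 D108589
theorem N57857 : nd 57857 = n108590 := ndS (p := 30771) (l := 1) rfl N30771 D108590
theorem N57858 : nd 57858 = n108591 := ndS (p := 30771) (l := 7) rfl N30771 D108591
theorem N57859 : nd 57859 = n108592 := ndS (p := 30772) (l := 6) rfl N30772 D108592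
theorem N57860 : nd 57860 = n108593 := ndS (p := 30773) (l := 5) rfl N30773 D108593
theorem N57861 : nd 57861 = n108594 := ndS (p := 30774) (l := 3) rfl N30774 D108594
theorem N57862 : nd 57862 = n108595 := ndS (p := 30774) (l := 6) rfl N30774 D108595
theorem N57863 : nd 57863 = n108597 := ndS (p := 30775) (l := 1) rfl N30775 D108597
theorem N57864 : nd 57864 = n108598 := ndS (p := 30775) (l := 7) rfl N30775 D108598
theorem N57865 : nd 57865 = n108599 := ndS (p := 30776) (l := 3) rfl N30776 D108599
theorem N57866 : nd 57866 = n108600 := ndS (p := 30776) (l := 6) rfl N30776 D108600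
theorem N57867 : nd 57867 = n108601 := ndS (p := 30777) (l := 1) rfl N30777 D108601
theorem N57868 : nd 57868 = n108602 := ndS (p := 30777) (l := 7) rfl N30777 D108602
theorem N57869 : nd 57869 = n108603 := ndS (p := 30778) (l := 3) rfl N30778 D108603
theorem N57870 : nd 57870 = n108604 := ndS (p := 30779) (l := 0) rfl N30779 D108604
theorem N57871 : nd 57871 = n108605 := ndS (p := 30779) (l := 1) rfl N30779 D108605
theorem N57872 : nd 57872 = n108606 := ndS (p := 30779) (l := 2) rfl N30779 D108606
theorem N57873 : nd 57873 = n108607 := ndS (p := 30779) (l := 5) rfl N30779 D108607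
theorem N57874 : nd 57874 = n108608 := ndS (p := 30779) (l := 6) rfl N30779 D108608
theorem N57875 : nd 57875 = n108609 := ndS (p := 30780) (l := 6) rfl N30780 D108609
theorem N57876 : nd 57876 = n108610 := ndS (p := 30781) (l := 0) rfl N30781 D108610
theorem N57877 : nd 57877 = n108611 := ndS (p := 30781) (l := 1) rfl N30781 D108611
theorem N57878 : nd 57878 = n108612 := ndS (p := 30781) (l := 5) rfl N30781 D108612
theorem N57879 : nd 57879 = n108613 := ndS (p := 30781) (l := 7) rfl N30781 D108613
theorem N57880 : nd 57880 = n108614 := ndS (p := 30782) (l := 4) rfl N30782 D108614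
theorem N57881 : nd 57881 = n108615 := ndS (p := 30782) (l := 6) rfl N30782 D108615
theorem N57882 : nd 57882 = n108616 := ndS (p := 30784) (l := 0) rfl N30784 D108616
theorem N57883 : nd 57883 = n108617 := ndS (p := 30784) (l := 1) rfl N30784 D108617
theorem N57884 : nd 57884 = n108618 := ndS (p := 30784) (l := 2) rfl N30784 D108618
theorem N57885 : nd 57885 = n108619 := ndS (p := 30784) (l := 5) rfl N30784 D108619
theorem N57886 : nd 57886 = n108620 := ndS (p := 30784) (l := 6) rfl N30784 D108620
theorem N57887 : nd 57887 = n108621 := ndS (p := 30785) (l := 6) rfl N30785 D108621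
theorem N57888 : nd 57888 = n108622 := ndS (p := 30786) (l := 5) rfl N30786 D108622
theorem N57889 : nd 57889 = n108623 := ndS (p := 30786) (l := 7) rfl N30786 D108623
theorem N57890 : nd 57890 = n108624 := ndS (p := 30787) (l := 4) rfl N30787 D108624
theorem N57891 : nd 57891 = n108625 := ndS (p := 30789) (l := 1) rfl N30789 D108625
theorem N57892 : nd 57892 = n108626 := ndS (p := 30790) (l := 0) rfl N30790 D108626
theorem N57893 : nd 57893 = n108627 := ndS (p := 30790) (l := 1) rfl N30790 D108627
theorem N57894 : nd 57894 = n108628 := ndS (p := 30790) (l := 2) rfl N30790 D108628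
theorem N57895 : nd 57895 = n108629 := ndS (p := 30790) (l := 5) rfl N30790 D108629
theorem N57896 : nd 57896 = n108630 := ndS (p := 30790) (l := 6) rfl N30790 D108630
theorem N57897 : nd 57897 = n108631 := ndS (p := 30791) (l := 6) rfl N30791 D108631
theorem N57898 : nd 57898 = n108632 := ndS (p := 30792) (l := 0) rfl N30792 D108632
theorem N57899 : nd 57899 = n108633 := ndS (p := 30792) (l := 1) rfl N30792 D108633
theorem N57900 : nd 57900 = n108634 := ndS (p := 30792) (l := 5) rfl N30792 D108634
theorem N57901 : nd 57901 = n108635 := ndS (p := 30792) (l := 7) rfl N30792 D108635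
theorem N57902 : nd 57902 = n108636 := ndS (p := 30793) (l := 4) rfl N30793 D108636
theorem N57903 : nd 57903 = n108637 := ndS (p := 30793) (l := 6) rfl N30793 D108637
theorem N57904 : nd 57904 = n108638 := ndS (p := 30795) (l := 0) rfl N30795 D108638
theorem N57905 : nd 57905 = n108639 := ndS (p := 30795) (l := 1) rfl N30795 D108639
theorem N57906 : nd 57906 = n108640 := ndS (p := 30795) (l := 2) rfl N30795 D108640
theorem N57907 : nd 57907 = n108641 := ndS (p := 30795) (l := 5) rfl N30795 D108641
theorem N57908 : nd 57908 = n108642 := ndS (p := 30795) (l := 6) rfl N30795 D108642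
theorem N57909 : nd 57909 = n108643 := ndS (p := 30796) (l := 6) rfl N30796 D108643
theorem N57910 : nd 57910 = n108644 := ndS (p := 30797) (l := 0) rfl N30797 D108644
theorem N57911 : nd 57911 = n108645 := ndS (p := 30797) (l := 1) rfl N30797 D108645
theorem N57912 : nd 57912 = n108646 := ndS (p := 30797) (l := 5) rfl N30797 D108646
theorem N57913 : nd 57913 = n108647 := ndS (p := 30797) (l := 7) rfl N30797 D108647
theorem N57914 : nd 57914 = n108648 := ndS (p := 30798) (l := 4) rfl N30798 D108648
theorem N57915 : nd 57915 = n108649 := ndS (p := 30798) (l := 6) rfl N30798 D108649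
theorem N57916 : nd 57916 = n108650 := ndS (p := 30800) (l := 0) rfl N30800 D108650
theorem N57917 : nd 57917 = n108651 := ndS (p := 30800) (l := 1) rfl N30800 D108651
theorem N57918 : nd 57918 = n108652 := ndS (p := 30800) (l := 2) rfl N30800 D108652
theorem N57919 : nd 57919 = n108653 := ndS (p := 30800) (l := 5) rfl N30800 D108653
theorem N57920 : nd 57920 = n108654 := ndS (p := 30800) (l := 6) rfl N30800 D108654
theorem N57921 : nd 57921 = n108655 := ndS (p := 30801) (l := 6) rfl N30801 D108655
theorem N57922 : nd 57922 = n108656 := ndS (p := 30802) (l := 5) rfl N30802 D108656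
theorem N57923 : nd 57923 = n108657 := ndS (p := 30802) (l := 7) rfl N30802 D108657
theorem N57924 : nd 57924 = n108658 := ndS (p := 30803) (l := 0) rfl N30803 D108658
theorem N57925 : nd 57925 = n108659 := ndS (p := 30803) (l := 1) rfl N30803 D108659
theorem N57926 : nd 57926 = n108660 := ndS (p := 30803) (l := 2) rfl N30803 D108660
theorem N57927 : nd 57927 = n108662 := ndS (p := 30803) (l := 6) rfl N30803 D108662
theorem N57928 : nd 57928 = n108664 := ndS (p := 30805) (l := 5) rfl N30805 D108664
theorem N57929 : nd 57929 = n108665 := ndS (p := 30805) (l := 7) rfl N30805 D108665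
theorem N57930 : nd 57930 = n108667 := ndS (p := 30806) (l := 2) rfl N30806 D108667
theorem N57931 : nd 57931 = n108668 := ndS (p := 30806) (l := 3) rfl N30806 D108668
theorem N57932 : nd 57932 = n108669 := ndS (p := 30806) (l := 4) rfl N30806 D108669
theorem N57933 : nd 57933 = n108670 := ndS (p := 30806) (l := 5) rfl N30806 D108670
theorem N57934 : nd 57934 = n108671 := ndS (p := 30806) (l := 6) rfl N30806 D108671
theorem N57935 : nd 57935 = n108672 := ndS (p := 30806) (l := 7) rfl N30806 D108672
theorem N57936 : nd 57936 = n108673 := ndS (p := 30807) (l := 3) rfl N30807 D108673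
theorem N57937 : nd 57937 = n108674 := ndS (p := 30807) (l := 4) rfl N30807 D108674
theorem N57938 : nd 57938 = n108675 := ndS (p := 30807) (l := 5) rfl N30807 D108675
theorem N57939 : nd 57939 = n108676 := ndS (p := 30807) (l := 6) rfl N30807 D108676
theorem N57940 : nd 57940 = n108679 := ndS (p := 30808) (l := 5) rfl N30808 D108679
theorem N57941 : nd 57941 = n108680 := ndS (p := 30809) (l := 0) rfl N30809 D108680
theorem N57942 : nd 57942 = n108681 := ndS (p := 30809) (l := 1) rfl N30809 D108681
theorem N57943 : nd 57943 = n108682 := ndS (p := 30809) (l := 4) rfl N30809 D108682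
theorem N57944 : nd 57944 = n108683 := ndS (p := 30809) (l := 6) rfl N30809 D108683
theorem N57945 : nd 57945 = n108685 := ndS (p := 30811) (l := 3) rfl N30811 D108685
theorem N57946 : nd 57946 = n108686 := ndS (p := 30811) (l := 6) rfl N30811 D108686
theorem N57947 : nd 57947 = n108687 := ndS (p := 30812) (l := 3) rfl N30812 D108687
theorem N57948 : nd 57948 = n108688 := ndS (p := 30812) (l := 6) rfl N30812 D108688
theorem N57949 : nd 57949 = n108690 := ndS (p := 30813) (l := 1) rfl N30813 D108690
theorem N57950 : nd 57950 = n108691 := ndS (p := 30813) (l := 7) rfl N30813 D108691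
theorem N57951 : nd 57951 = n108693 := ndS (p := 30815) (l := 3) rfl N30815 D108693
theorem N57952 : nd 57952 = n108694 := ndS (p := 30816) (l := 0) rfl N30816 D108694
theorem N57953 : nd 57953 = n108695 := ndS (p := 30816) (l := 1) rfl N30816 D108695
theorem N57954 : nd 57954 = n108696 := ndS (p := 30816) (l := 2) rfl N30816 D108696
theorem N57955 : nd 57955 = n108697 := ndS (p := 30816) (l := 5) rfl N30816 D108697
theorem N57956 : nd 57956 = n108698 := ndS (p := 30816) (l := 6) rfl N30816 D108698
theorem N57957 : nd 57957 = n108699 := ndS (p := 30817) (l := 6) rfl N30817 D108699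
theorem N57958 : nd 57958 = n108700 := ndS (p := 30818) (l := 1) rfl N30818 D108700
theorem N57959 : nd 57959 = n108701 := ndS (p := 30818) (l := 5) rfl N30818 D108701
theorem N57960 : nd 57960 = n108702 := ndS (p := 30818) (l := 7) rfl N30818 D108702
theorem N57961 : nd 57961 = n108704 := ndS (p := 30820) (l := 6) rfl N30820 D108704
theorem N57962 : nd 57962 = n108705 := ndS (p := 30823) (l := 6) rfl N30823 D108705
theorem N57963 : nd 57963 = n108706 := ndS (p := 30824) (l := 0) rfl N30824 D108706
theorem N57964 : nd 57964 = n108707 := ndS (p := 30824) (l := 1) rfl N30824 D108707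
theorem N57965 : nd 57965 = n108708 := ndS (p := 30824) (l := 7) rfl N30824 D108708
theorem N57966 : nd 57966 = n108709 := ndS (p := 30826) (l := 0) rfl N30826 D108709
theorem N57967 : nd 57967 = n108710 := ndS (p := 30826) (l := 1) rfl N30826 D108710
theorem N57968 : nd 57968 = n108711 := ndS (p := 30826) (l := 2) rfl N30826 D108711
theorem N57969 : nd 57969 = n108712 := ndS (p := 30826) (l := 6) rfl N30826 D108712
theorem N57970 : nd 57970 = n108713 := ndS (p := 30827) (l := 5) rfl N30827 D108713
theorem N57971 : nd 57971 = n108714 := ndS (p := 30827) (l := 7) rfl N30827 D108714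
theorem N57972 : nd 57972 = n108715 := ndS (p := 30828) (l := 3) rfl N30828 D108715
theorem N57973 : nd 57973 = n108716 := ndS (p := 30828) (l := 5) rfl N30828 D108716
theorem N57974 : nd 57974 = n108717 := ndS (p := 30829) (l := 6) rfl N30829 D108717
theorem N57975 : nd 57975 = n108718 := ndS (p := 30831) (l := 0) rfl N30831 D108718
theorem N57976 : nd 57976 = n108719 := ndS (p := 30831) (l := 1) rfl N30831 D108719
theorem N57977 : nd 57977 = n108720 := ndS (p := 30831) (l := 2) rfl N30831 D108720
theorem N57978 : nd 57978 = n108721 := ndS (p := 30831) (l := 5) rfl N30831 D108721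
theorem N57979 : nd 57979 = n108722 := ndS (p := 30831) (l := 6) rfl N30831 D108722
theorem N57980 : nd 57980 = n108724 := ndS (p := 30833) (l := 0) rfl N30833 D108724
theorem N57981 : nd 57981 = n108725 := ndS (p := 30833) (l := 1) rfl N30833 D108725
theorem N57982 : nd 57982 = n108727 := ndS (p := 30833) (l := 7) rfl N30833 D108727
theorem N57983 : nd 57983 = n108728 := ndS (p := 30834) (l := 3) rfl N30834 D108728
theorem N57984 : nd 57984 = n108729 := ndS (p := 30834) (l := 4) rfl N30834 D108729
theorem N57985 : nd 57985 = n108730 := ndS (p := 30835) (l := 4) rfl N30835 D108730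
theorem N57986 : nd 57986 = n108732 := ndS (p := 30837) (l := 1) rfl N30837 D108732
theorem N57987 : nd 57987 = n108734 := ndS (p := 30837) (l := 5) rfl N30837 D108734
theorem N57988 : nd 57988 = n108739 := ndS (p := 30840) (l := 0) rfl N30840 D108739
theorem N57989 : nd 57989 = n108740 := ndS (p := 30840) (l := 1) rfl N30840 D108740
theorem N57990 : nd 57990 = n108741 := ndS (p := 30840) (l := 2) rfl N30840 D108741
theorem N57991 : nd 57991 = n108742 := ndS (p := 30840) (l := 5) rfl N30840 D108742
theorem N57992 : nd 57992 = n108747 := ndS (p := 30842) (l := 7) rfl N30842 D108747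
theorem N57993 : nd 57993 = n108748 := ndS (p := 30843) (l := 0) rfl N30843 D108748
theorem N57994 : nd 57994 = n108749 := ndS (p := 30843) (l := 1) rfl N30843 D108749
theorem N57995 : nd 57995 = n108750 := ndS (p := 30843) (l := 2) rfl N30843 D108750
theorem N57996 : nd 57996 = n108751 := ndS (p := 30843) (l := 5) rfl N30843 D108751
theorem N57997 : nd 57997 = n108752 := ndS (p := 30843) (l := 6) rfl N30843 D108752
theorem N57998 : nd 57998 = n108757 := ndS (p := 30846) (l := 3) rfl N30846 D108757
theorem N57999 : nd 57999 = n108758 := ndS (p := 30846) (l := 4) rfl N30846 D108758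
theorem N58000 : nd 58000 = n108759 := ndS (p := 30846) (l := 5) rfl N30846 D108759
theorem N58001 : nd 58001 = n108760 := ndS (p := 30846) (l := 6) rfl N30846 D108760
theorem N58002 : nd 58002 = n108762 := ndS (p := 30847) (l := 3) rfl N30847 D108762
theorem N58003 : nd 58003 = n108763 := ndS (p := 30847) (l := 4) rfl N30847 D108763
theorem N58004 : nd 58004 = n108764 := ndS (p := 30847) (l := 5) rfl N30847 D108764
theorem N58005 : nd 58005 = n108765 := ndS (p := 30847) (l := 6) rfl N30847 D108765
theorem N58006 : nd 58006 = n108766 := ndS (p := 30848) (l := 5) rfl N30848 D108766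
theorem N58007 : nd 58007 = n108767 := ndS (p := 30848) (l := 6) rfl N30848 D108767
theorem N58008 : nd 58008 = n108768 := ndS (p := 30849) (l := 0) rfl N30849 D108768
theorem N58009 : nd 58009 = n108769 := ndS (p := 30849) (l := 1) rfl N30849 D108769
theorem N58010 : nd 58010 = n108770 := ndS (p := 30849) (l := 4) rfl N30849 D108770
theorem N58011 : nd 58011 = n108771 := ndS (p := 30849) (l := 6) rfl N30849 D108771
theorem N58012 : nd 58012 = n108772 := ndS (p := 30850) (l := 0) rfl N30850 D108772
theorem N58013 : nd 58013 = n108773 := ndS (p := 30850) (l := 1) rfl N30850 D108773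
theorem N58014 : nd 58014 = n108774 := ndS (p := 30850) (l := 5) rfl N30850 D108774
theorem N58015 : nd 58015 = n108775 := ndS (p := 30850) (l := 7) rfl N30850 D108775
theorem N58016 : nd 58016 = n108776 := ndS (p := 30851) (l := 3) rfl N30851 D108776
theorem N58017 : nd 58017 = n108777 := ndS (p := 30851) (l := 6) rfl N30851 D108777
theorem N58018 : nd 58018 = n108778 := ndS (p := 30852) (l := 3) rfl N30852 D108778
theorem N58019 : nd 58019 = n108779 := ndS (p := 30852) (l := 6) rfl N30852 D108779
theorem N58020 : nd 58020 = n108780 := ndS (p := 30853) (l := 0) rfl N30853 D108780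
theorem N58021 : nd 58021 = n108781 := ndS (p := 30853) (l := 1) rfl N30853 D108781
theorem N58022 : nd 58022 = n108782 := ndS (p := 30853) (l := 5) rfl N30853 D108782
theorem N58023 : nd 58023 = n108783 := ndS (p := 30853) (l := 7) rfl N30853 D108783
theorem N58024 : nd 58024 = n108785 := ndS (p := 30854) (l := 3) rfl N30854 D108785
theorem N58025 : nd 58025 = n108786 := ndS (p := 30854) (l := 5) rfl N30854 D108786
theorem N58026 : nd 58026 = n108788 := ndS (p := 30855) (l := 3) rfl N30855 D108788
theorem N58027 : nd 58027 = n108790 := ndS (p := 30855) (l := 5) rfl N30855 D108790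
theorem N58028 : nd 58028 = n108791 := ndS (p := 30855) (l := 6) rfl N30855 D108791
theorem N58029 : nd 58029 = n108792 := ndS (p := 30856) (l := 0) rfl N30856 D108792
theorem N58030 : nd 58030 = n108793 := ndS (p := 30856) (l := 1) rfl N30856 D108793
theorem N58031 : nd 58031 = n108794 := ndS (p := 30856) (l := 4) rfl N30856 D108794
theorem N58032 : nd 58032 = n108795 := ndS (p := 30856) (l := 7) rfl N30856 D108795
theorem N58033 : nd 58033 = n108796 := ndS (p := 30858) (l := 0) rfl N30858 D108796
theorem N58034 : nd 58034 = n108797 := ndS (p := 30858) (l := 3) rfl N30858 D108797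
theorem N58035 : nd 58035 = n108798 := ndS (p := 30858) (l := 5) rfl N30858 D108798
theorem N58036 : nd 58036 = n108799 := ndS (p := 30859) (l := 4) rfl N30859 D108799
theorem N58037 : nd 58037 = n108800 := ndS (p := 30859) (l := 6) rfl N30859 D108800
theorem N58038 : nd 58038 = n108802 := ndS (p := 30860) (l := 5) rfl N30860 D108802
theorem N58039 : nd 58039 = n108803 := ndS (p := 30860) (l := 6) rfl N30860 D108803
theorem N58040 : nd 58040 = n108804 := ndS (p := 30862) (l := 4) rfl N30862 D108804
theorem N58041 : nd 58041 = n108805 := ndS (p := 30862) (l := 6) rfl N30862 D108805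
theorem N58042 : nd 58042 = n108806 := ndS (p := 30863) (l := 0) rfl N30863 D108806
theorem N58043 : nd 58043 = n108807 := ndS (p := 30863) (l := 1) rfl N30863 D108807
theorem N58044 : nd 58044 = n108808 := ndS (p := 30863) (l := 3) rfl N30863 D108808
theorem N58045 : nd 58045 = n108809 := ndS (p := 30863) (l := 5) rfl N30863 D108809
theorem N58046 : nd 58046 = n108810 := ndS (p := 30863) (l := 7) rfl N30863 D108810
theorem N58047 : nd 58047 = n108811 := ndS (p := 30865) (l := 3) rfl N30865 D108811
theorem N58048 : nd 58048 = n108812 := ndS (p := 30865) (l := 5) rfl N30865 D108812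
theorem N58049 : nd 58049 = n108813 := ndS (p := 30865) (l := 6) rfl N30865 D108813
theorem N58050 : nd 58050 = n108814 := ndS (p := 30866) (l := 0) rfl N30866 D108814
theorem N58051 : nd 58051 = n108815 := ndS (p := 30866) (l := 1) rfl N30866 D108815
theorem N58052 : nd 58052 = n108816 := ndS (p := 30866) (l := 2) rfl N30866 D108816
theorem N58053 : nd 58053 = n108818 := ndS (p := 30867) (l := 6) rfl N30867 D108818
theorem N58054 : nd 58054 = n108819 := ndS (p := 30869) (l := 3) rfl N30869 D108819
theorem N58055 : nd 58055 = n108820 := ndS (p := 30869) (l := 6) rfl N30869 D108820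
theorem N58056 : nd 58056 = n108821 := ndS (p := 30870) (l := 7) rfl N30870 D108821
theorem N58057 : nd 58057 = n108822 := ndS (p := 30871) (l := 3) rfl N30871 D108822
theorem N58058 : nd 58058 = n108823 := ndS (p := 30871) (l := 6) rfl N30871 D108823
theorem N58059 : nd 58059 = n108825 := ndS (p := 30872) (l := 7) rfl N30872 D108825
theorem N58060 : nd 58060 = n108827 := ndS (p := 30874) (l := 1) rfl N30874 D108827
theorem N58061 : nd 58061 = n108828 := ndS (p := 30874) (l := 7) rfl N30874 D108828
theorem N58062 : nd 58062 = n108829 := ndS (p := 30875) (l := 0) rfl N30875 D108829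
theorem N58063 : nd 58063 = n108830 := ndS (p := 30875) (l := 1) rfl N30875 D108830
theorem N58064 : nd 58064 = n108831 := ndS (p := 30875) (l := 2) rfl N30875 D108831
theorem N58065 : nd 58065 = n108832 := ndS (p := 30875) (l := 5) rfl N30875 D108832
theorem N58066 : nd 58066 = n108833 := ndS (p := 30875) (l := 6) rfl N30875 D108833
theorem N58067 : nd 58067 = n108834 := ndS (p := 30876) (l := 6) rfl N30876 D108834
theorem N58068 : nd 58068 = n108835 := ndS (p := 30877) (l := 0) rfl N30877 D108835
theorem N58069 : nd 58069 = n108836 := ndS (p := 30877) (l := 5) rfl N30877 D108836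
theorem N58070 : nd 58070 = n108837 := ndS (p := 30877) (l := 7) rfl N30877 D108837
theorem N58071 : nd 58071 = n108838 := ndS (p := 30878) (l := 5) rfl N30878 D108838
theorem N58072 : nd 58072 = n108839 := ndS (p := 30878) (l := 6) rfl N30878 D108839
theorem N58073 : nd 58073 = n108840 := ndS (p := 30881) (l := 3) rfl N30881 D108840
theorem N58074 : nd 58074 = n108841 := ndS (p := 30881) (l := 6) rfl N30881 D108841
theorem N58075 : nd 58075 = n108842 := ndS (p := 30883) (l := 0) rfl N30883 D108842
theorem N58076 : nd 58076 = n108843 := ndS (p := 30883) (l := 1) rfl N30883 D108843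
theorem N58077 : nd 58077 = n108844 := ndS (p := 30883) (l := 2) rfl N30883 D108844
theorem N58078 : nd 58078 = n108845 := ndS (p := 30883) (l := 6) rfl N30883 D108845
theorem N58079 : nd 58079 = n108846 := ndS (p := 30884) (l := 5) rfl N30884 D108846
theorem N58080 : nd 58080 = n108847 := ndS (p := 30884) (l := 7) rfl N30884 D108847
theorem N58081 : nd 58081 = n108848 := ndS (p := 30885) (l := 6) rfl N30885 D108848
theorem N58082 : nd 58082 = n108849 := ndS (p := 30887) (l := 0) rfl N30887 D108849
theorem N58083 : nd 58083 = n108850 := ndS (p := 30887) (l := 1) rfl N30887 D108850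
theorem N58084 : nd 58084 = n108851 := ndS (p := 30887) (l := 4) rfl N30887 D108851
theorem N58085 : nd 58085 = n108852 := ndS (p := 30887) (l := 7) rfl N30887 D108852
theorem N58086 : nd 58086 = n108853 := ndS (p := 30889) (l := 3) rfl N30889 D108853
theorem N58087 : nd 58087 = n108855 := ndS (p := 30890) (l := 3) rfl N30890 D108855
theorem N58088 : nd 58088 = n108856 := ndS (p := 30890) (l := 4) rfl N30890 D108856
theorem N58089 : nd 58089 = n108857 := ndS (p := 30890) (l := 5) rfl N30890 D108857
theorem N58090 : nd 58090 = n108858 := ndS (p := 30890) (l := 6) rfl N30890 D108858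
theorem N58091 : nd 58091 = n108860 := ndS (p := 30891) (l := 3) rfl N30891 D108860
theorem N58092 : nd 58092 = n108861 := ndS (p := 30891) (l := 4) rfl N30891 D108861
theorem N58093 : nd 58093 = n108862 := ndS (p := 30891) (l := 5) rfl N30891 D108862
theorem N58094 : nd 58094 = n108863 := ndS (p := 30891) (l := 6) rfl N30891 D108863
theorem N58095 : nd 58095 = n108864 := ndS (p := 30892) (l := 5) rfl N30892 D108864
theorem N58096 : nd 58096 = n108865 := ndS (p := 30892) (l := 6) rfl N30892 D108865
theorem N58097 : nd 58097 = n108866 := ndS (p := 30893) (l := 0) rfl N30893 D108866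
theorem N58098 : nd 58098 = n108867 := ndS (p := 30893) (l := 1) rfl N30893 D108867
theorem N58099 : nd 58099 = n108868 := ndS (p := 30893) (l := 4) rfl N30893 D108868
theorem N58100 : nd 58100 = n108869 := ndS (p := 30893) (l := 6) rfl N30893 D108869
theorem N58101 : nd 58101 = n108870 := ndS (p := 30894) (l := 0) rfl N30894 D108870
theorem N58102 : nd 58102 = n108871 := ndS (p := 30894) (l := 1) rfl N30894 D108871
theorem N58103 : nd 58103 = n108872 := ndS (p := 30894) (l := 5) rfl N30894 D108872
theorem N58104 : nd 58104 = n108873 := ndS (p := 30894) (l := 7) rfl N30894 D108873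
theorem N58105 : nd 58105 = n108874 := ndS (p := 30895) (l := 0) rfl N30895 D108874
theorem N58106 : nd 58106 = n108876 := ndS (p := 30895) (l := 5) rfl N30895 D108876
theorem N58107 : nd 58107 = n108877 := ndS (p := 30895) (l := 7) rfl N30895 D108877
theorem N58108 : nd 58108 = n108878 := ndS (p := 30896) (l := 3) rfl N30896 D108878
theorem N58109 : nd 58109 = n108879 := ndS (p := 30896) (l := 5) rfl N30896 D108879
theorem N58110 : nd 58110 = n108880 := ndS (p := 30896) (l := 6) rfl N30896 D108880
theorem N58111 : nd 58111 = n108881 := ndS (p := 30897) (l := 3) rfl N30897 D108881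
theorem N58112 : nd 58112 = n108882 := ndS (p := 30897) (l := 5) rfl N30897 D108882
theorem N58113 : nd 58113 = n108883 := ndS (p := 30898) (l := 0) rfl N30898 D108883
theorem N58114 : nd 58114 = n108884 := ndS (p := 30898) (l := 1) rfl N30898 D108884
theorem N58115 : nd 58115 = n108885 := ndS (p := 30898) (l := 4) rfl N30898 D108885
theorem N58116 : nd 58116 = n108886 := ndS (p := 30898) (l := 7) rfl N30898 D108886
theorem N58117 : nd 58117 = n108887 := ndS (p := 30900) (l := 0) rfl N30900 D108887
theorem N58118 : nd 58118 = n108889 := ndS (p := 30900) (l := 5) rfl N30900 D108889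
theorem N58119 : nd 58119 = n108890 := ndS (p := 30901) (l := 3) rfl N30901 D108890
theorem N58120 : nd 58120 = n108891 := ndS (p := 30901) (l := 5) rfl N30901 D108891
theorem N58121 : nd 58121 = n108892 := ndS (p := 30902) (l := 4) rfl N30902 D108892
theorem N58122 : nd 58122 = n108893 := ndS (p := 30903) (l := 4) rfl N30903 D108893
theorem N58123 : nd 58123 = n108894 := ndS (p := 30904) (l := 0) rfl N30904 D108894
theorem N58124 : nd 58124 = n108895 := ndS (p := 30904) (l := 1) rfl N30904 D108895
theorem N58125 : nd 58125 = n108896 := ndS (p := 30904) (l := 3) rfl N30904 D108896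
theorem N58126 : nd 58126 = n108897 := ndS (p := 30904) (l := 5) rfl N30904 D108897
theorem N58127 : nd 58127 = n108898 := ndS (p := 30904) (l := 7) rfl N30904 D108898
theorem N58128 : nd 58128 = n108899 := ndS (p := 30906) (l := 0) rfl N30906 D108899
theorem N58129 : nd 58129 = n108900 := ndS (p := 30906) (l := 1) rfl N30906 D108900
theorem N58130 : nd 58130 = n108901 := ndS (p := 30906) (l := 2) rfl N30906 D108901
theorem N58131 : nd 58131 = n108902 := ndS (p := 30906) (l := 5) rfl N30906 D108902
theorem N58132 : nd 58132 = n108903 := ndS (p := 30907) (l := 6) rfl N30907 D108903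
theorem N58133 : nd 58133 = n108904 := ndS (p := 30908) (l := 0) rfl N30908 D108904
theorem N58134 : nd 58134 = n108905 := ndS (p := 30908) (l := 1) rfl N30908 D108905
theorem N58135 : nd 58135 = n108906 := ndS (p := 30908) (l := 2) rfl N30908 D108906
theorem N58136 : nd 58136 = n108907 := ndS (p := 30908) (l := 5) rfl N30908 D108907
theorem N58137 : nd 58137 = n108908 := ndS (p := 30908) (l := 6) rfl N30908 D108908
theorem N58138 : nd 58138 = n108909 := ndS (p := 30909) (l := 6) rfl N30909 D108909
theorem N58139 : nd 58139 = n108910 := ndS (p := 30910) (l := 1) rfl N30910 D108910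
theorem N58140 : nd 58140 = n108911 := ndS (p := 30910) (l := 5) rfl N30910 D108911
theorem N58141 : nd 58141 = n108912 := ndS (p := 30911) (l := 5) rfl N30911 D108912
theorem N58142 : nd 58142 = n108913 := ndS (p := 30913) (l := 0) rfl N30913 D108913
theorem N58143 : nd 58143 = n108914 := ndS (p := 30913) (l := 1) rfl N30913 D108914
theorem N58144 : nd 58144 = n108915 := ndS (p := 30913) (l := 2) rfl N30913 D108915
theorem N58145 : nd 58145 = n108918 := ndS (p := 30915) (l := 0) rfl N30915 D108918
theorem N58146 : nd 58146 = n108919 := ndS (p := 30915) (l := 1) rfl N30915 D108919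
theorem N58147 : nd 58147 = n108920 := ndS (p := 30915) (l := 2) rfl N30915 D108920
theorem N58148 : nd 58148 = n108922 := ndS (p := 30916) (l := 3) rfl N30916 D108922
theorem N58149 : nd 58149 = n108923 := ndS (p := 30916) (l := 4) rfl N30916 D108923
theorem N58150 : nd 58150 = n108925 := ndS (p := 30916) (l := 6) rfl N30916 D108925
theorem N58151 : nd 58151 = n108927 := ndS (p := 30917) (l := 3) rfl N30917 D108927
theorem N58152 : nd 58152 = n108928 := ndS (p := 30917) (l := 4) rfl N30917 D108928
theorem N58153 : nd 58153 = n108931 := ndS (p := 30918) (l := 5) rfl N30918 D108931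
theorem N58154 : nd 58154 = n108932 := ndS (p := 30918) (l := 6) rfl N30918 D108932
theorem N58155 : nd 58155 = n108933 := ndS (p := 30919) (l := 0) rfl N30919 D108933
theorem N58156 : nd 58156 = n108934 := ndS (p := 30919) (l := 1) rfl N30919 D108934
theorem N58157 : nd 58157 = n108935 := ndS (p := 30919) (l := 4) rfl N30919 D108935
theorem N58158 : nd 58158 = n108936 := ndS (p := 30919) (l := 6) rfl N30919 D108936
theorem N58159 : nd 58159 = n108937 := ndS (p := 30920) (l := 0) rfl N30920 D108937
theorem N58160 : nd 58160 = n108938 := ndS (p := 30920) (l := 1) rfl N30920 D108938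
theorem N58161 : nd 58161 = n108939 := ndS (p := 30920) (l := 5) rfl N30920 D108939
theorem N58162 : nd 58162 = n108940 := ndS (p := 30920) (l := 7) rfl N30920 D108940
theorem N58163 : nd 58163 = n108941 := ndS (p := 30921) (l := 3) rfl N30921 D108941
theorem N58164 : nd 58164 = n108943 := ndS (p := 30922) (l := 3) rfl N30922 D108943
theorem N58165 : nd 58165 = n108945 := ndS (p := 30923) (l := 0) rfl N30923 D108945
theorem N58166 : nd 58166 = n108946 := ndS (p := 30923) (l := 1) rfl N30923 D108946
theorem N58167 : nd 58167 = n108947 := ndS (p := 30923) (l := 5) rfl N30923 D108947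
theorem N58168 : nd 58168 = n108948 := ndS (p := 30923) (l := 7) rfl N30923 D108948
theorem N58169 : nd 58169 = n108950 := ndS (p := 30924) (l := 3) rfl N30924 D108950
theorem N58170 : nd 58170 = n108951 := ndS (p := 30924) (l := 5) rfl N30924 D108951
theorem N58171 : nd 58171 = n108954 := ndS (p := 30925) (l := 3) rfl N30925 D108954
theorem N58172 : nd 58172 = n108956 := ndS (p := 30925) (l := 5) rfl N30925 D108956
theorem N58173 : nd 58173 = n108957 := ndS (p := 30925) (l := 6) rfl N30925 D108957
theorem N58174 : nd 58174 = n108958 := ndS (p := 30926) (l := 0) rfl N30926 D108958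
theorem N58175 : nd 58175 = n108959 := ndS (p := 30926) (l := 1) rfl N30926 D108959
theorem N58176 : nd 58176 = n108960 := ndS (p := 30926) (l := 4) rfl N30926 D108960
theorem N58177 : nd 58177 = n108961 := ndS (p := 30926) (l := 7) rfl N30926 D108961
theorem N58178 : nd 58178 = n108962 := ndS (p := 30929) (l := 3) rfl N30929 D108962
theorem N58179 : nd 58179 = n108963 := ndS (p := 30929) (l := 5) rfl N30929 D108963
theorem N58180 : nd 58180 = n108964 := ndS (p := 30930) (l := 4) rfl N30930 D108964
theorem N58181 : nd 58181 = n108966 := ndS (p := 30931) (l := 5) rfl N30931 D108966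
theorem N58182 : nd 58182 = n108967 := ndS (p := 30931) (l := 6) rfl N30931 D108967
theorem N58183 : nd 58183 = n108968 := ndS (p := 30933) (l := 3) rfl N30933 D108968
theorem N58184 : nd 58184 = n108969 := ndS (p := 30933) (l := 5) rfl N30933 D108969
theorem N58185 : nd 58185 = n108970 := ndS (p := 30934) (l := 7) rfl N30934 D108970
theorem N58186 : nd 58186 = n108971 := ndS (p := 30935) (l := 0) rfl N30935 D108971
theorem N58187 : nd 58187 = n108972 := ndS (p := 30935) (l := 1) rfl N30935 D108972
theorem N58188 : nd 58188 = n108973 := ndS (p := 30935) (l := 2) rfl N30935 D108973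
theorem N58189 : nd 58189 = n108975 := ndS (p := 30935) (l := 6) rfl N30935 D108975
theorem N58190 : nd 58190 = n108977 := ndS (p := 30937) (l := 0) rfl N30937 D108977
theorem N58191 : nd 58191 = n108978 := ndS (p := 30937) (l := 1) rfl N30937 D108978
theorem N58192 : nd 58192 = n108979 := ndS (p := 30937) (l := 5) rfl N30937 D108979
theorem N58193 : nd 58193 = n108980 := ndS (p := 30937) (l := 7) rfl N30937 D108980
theorem N58194 : nd 58194 = n108981 := ndS (p := 30938) (l := 6) rfl N30938 D108981
theorem N58195 : nd 58195 = n108982 := ndS (p := 30940) (l := 1) rfl N30940 D108982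
theorem N58196 : nd 58196 = n108983 := ndS (p := 30940) (l := 4) rfl N30940 D108983
theorem N58197 : nd 58197 = n108984 := ndS (p := 30940) (l := 7) rfl N30940 D108984
theorem N58198 : nd 58198 = n108986 := ndS (p := 30942) (l := 3) rfl N30942 D108986
theorem N58199 : nd 58199 = n108987 := ndS (p := 30942) (l := 4) rfl N30942 D108987
theorem N58200 : nd 58200 = n108991 := ndS (p := 30943) (l := 3) rfl N30943 D108991
theorem N58201 : nd 58201 = n108992 := ndS (p := 30943) (l := 4) rfl N30943 D108992
theorem N58202 : nd 58202 = n108994 := ndS (p := 30943) (l := 6) rfl N30943 D108994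
theorem N58203 : nd 58203 = n108995 := ndS (p := 30944) (l := 5) rfl N30944 D108995
theorem N58204 : nd 58204 = n108996 := ndS (p := 30944) (l := 6) rfl N30944 D108996
theorem N58205 : nd 58205 = n108997 := ndS (p := 30945) (l := 0) rfl N30945 D108997
theorem N58206 : nd 58206 = n108998 := ndS (p := 30945) (l := 1) rfl N30945 D108998
theorem N58207 : nd 58207 = n108999 := ndS (p := 30945) (l := 4) rfl N30945 D108999
theorem N58208 : nd 58208 = n109000 := ndS (p := 30945) (l := 6) rfl N30945 D109000
theorem N58209 : nd 58209 = n109001 := ndS (p := 30946) (l := 0) rfl N30946 D109001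
theorem N58210 : nd 58210 = n109004 := ndS (p := 30946) (l := 7) rfl N30946 D109004
theorem N58211 : nd 58211 = n109005 := ndS (p := 30947) (l := 0) rfl N30947 D109005
theorem N58212 : nd 58212 = n109006 := ndS (p := 30947) (l := 1) rfl N30947 D109006
theorem N58213 : nd 58213 = n109008 := ndS (p := 30947) (l := 7) rfl N30947 D109008
theorem N58214 : nd 58214 = n109010 := ndS (p := 30948) (l := 3) rfl N30948 D109010
theorem N58215 : nd 58215 = n109011 := ndS (p := 30948) (l := 4) rfl N30948 D109011
theorem N58216 : nd 58216 = n109012 := ndS (p := 30948) (l := 5) rfl N30948 D109012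
theorem N58217 : nd 58217 = n109013 := ndS (p := 30948) (l := 6) rfl N30948 D109013
theorem N58218 : nd 58218 = n109016 := ndS (p := 30949) (l := 5) rfl N30949 D109016
theorem N58219 : nd 58219 = n109017 := ndS (p := 30950) (l := 0) rfl N30950 D109017
theorem N58220 : nd 58220 = n109018 := ndS (p := 30950) (l := 1) rfl N30950 D109018
theorem N58221 : nd 58221 = n109022 := ndS (p := 30952) (l := 5) rfl N30952 D109022
theorem N58222 : nd 58222 = n109023 := ndS (p := 30952) (l := 6) rfl N30952 D109023
theorem N58223 : nd 58223 = n109024 := ndS (p := 30953) (l := 1) rfl N30953 D109024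
theorem N58224 : nd 58224 = n109025 := ndS (p := 30954) (l := 3) rfl N30954 D109025
theorem N58225 : nd 58225 = n109026 := ndS (p := 30954) (l := 5) rfl N30954 D109026
theorem N58226 : nd 58226 = n109028 := ndS (p := 30955) (l := 6) rfl N30955 D109028
theorem N58227 : nd 58227 = n109029 := ndS (p := 30956) (l := 0) rfl N30956 D109029
theorem N58228 : nd 58228 = n109030 := ndS (p := 30956) (l := 1) rfl N30956 D109030
theorem N58229 : nd 58229 = n109031 := ndS (p := 30956) (l := 3) rfl N30956 D109031
theorem N58230 : nd 58230 = n109033 := ndS (p := 30956) (l := 7) rfl N30956 D109033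
theorem N58231 : nd 58231 = n109035 := ndS (p := 30958) (l := 3) rfl N30958 D109035
theorem N58232 : nd 58232 = n109036 := ndS (p := 30958) (l := 4) rfl N30958 D109036
theorem N58233 : nd 58233 = n109037 := ndS (p := 30958) (l := 5) rfl N30958 D109037
theorem N58234 : nd 58234 = n109038 := ndS (p := 30958) (l := 6) rfl N30958 D109038
theorem N58235 : nd 58235 = n109040 := ndS (p := 30959) (l := 3) rfl N30959 D109040
theorem N58236 : nd 58236 = n109041 := ndS (p := 30959) (l := 4) rfl N30959 D109041
theorem N58237 : nd 58237 = n109042 := ndS (p := 30959) (l := 5) rfl N30959 D109042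
theorem N58238 : nd 58238 = n109044 := ndS (p := 30960) (l := 4) rfl N30960 D109044
theorem N58239 : nd 58239 = n109045 := ndS (p := 30960) (l := 5) rfl N30960 D109045
theorem N58240 : nd 58240 = n109046 := ndS (p := 30960) (l := 6) rfl N30960 D109046
theorem N58241 : nd 58241 = n109047 := ndS (p := 30961) (l := 0) rfl N30961 D109047
theorem N58242 : nd 58242 = n109048 := ndS (p := 30961) (l := 1) rfl N30961 D109048
theorem N58243 : nd 58243 = n109049 := ndS (p := 30961) (l := 5) rfl N30961 D109049
theorem N58244 : nd 58244 = n109050 := ndS (p := 30961) (l := 6) rfl N30961 D109050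
theorem N58245 : nd 58245 = n109051 := ndS (p := 30962) (l := 0) rfl N30962 D109051
theorem N58246 : nd 58246 = n109052 := ndS (p := 30962) (l := 1) rfl N30962 D109052
theorem N58247 : nd 58247 = n109054 := ndS (p := 30962) (l := 6) rfl N30962 D109054
theorem N58248 : nd 58248 = n109055 := ndS (p := 30963) (l := 0) rfl N30963 D109055
theorem N58249 : nd 58249 = n109056 := ndS (p := 30963) (l := 1) rfl N30963 D109056
theorem N58250 : nd 58250 = n109057 := ndS (p := 30963) (l := 5) rfl N30963 D109057
theorem N58251 : nd 58251 = n109058 := ndS (p := 30963) (l := 7) rfl N30963 D109058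
theorem N58252 : nd 58252 = n109059 := ndS (p := 30964) (l := 0) rfl N30964 D109059
theorem N58253 : nd 58253 = n109060 := ndS (p := 30964) (l := 7) rfl N30964 D109060
theorem N58254 : nd 58254 = n109061 := ndS (p := 30965) (l := 3) rfl N30965 D109061
theorem N58255 : nd 58255 = n109063 := ndS (p := 30966) (l := 3) rfl N30966 D109063
theorem N58256 : nd 58256 = n109065 := ndS (p := 30967) (l := 0) rfl N30967 D109065
theorem N58257 : nd 58257 = n109066 := ndS (p := 30967) (l := 1) rfl N30967 D109066
theorem N58258 : nd 58258 = n109067 := ndS (p := 30967) (l := 5) rfl N30967 D109067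
theorem N58259 : nd 58259 = n109068 := ndS (p := 30967) (l := 7) rfl N30967 D109068
theorem N58260 : nd 58260 = n109069 := ndS (p := 30968) (l := 0) rfl N30968 D109069
theorem N58261 : nd 58261 = n109070 := ndS (p := 30968) (l := 1) rfl N30968 D109070
theorem N58262 : nd 58262 = n109071 := ndS (p := 30968) (l := 4) rfl N30968 D109071
theorem N58263 : nd 58263 = n109072 := ndS (p := 30968) (l := 7) rfl N30968 D109072
theorem N58264 : nd 58264 = n109074 := ndS (p := 30970) (l := 3) rfl N30970 D109074
theorem N58265 : nd 58265 = n109075 := ndS (p := 30970) (l := 4) rfl N30970 D109075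
theorem N58266 : nd 58266 = n109076 := ndS (p := 30970) (l := 5) rfl N30970 D109076
theorem N58267 : nd 58267 = n109079 := ndS (p := 30971) (l := 3) rfl N30971 D109079
theorem N58268 : nd 58268 = n109080 := ndS (p := 30971) (l := 4) rfl N30971 D109080
theorem N58269 : nd 58269 = n109081 := ndS (p := 30971) (l := 5) rfl N30971 D109081
theorem N58270 : nd 58270 = n109082 := ndS (p := 30971) (l := 6) rfl N30971 D109082
theorem N58271 : nd 58271 = n109083 := ndS (p := 30972) (l := 5) rfl N30972 D109083
theorem N58272 : nd 58272 = n109084 := ndS (p := 30972) (l := 6) rfl N30972 D109084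
theorem N58273 : nd 58273 = n109085 := ndS (p := 30973) (l := 0) rfl N30973 D109085
theorem N58274 : nd 58274 = n109086 := ndS (p := 30973) (l := 1) rfl N30973 D109086
theorem N58275 : nd 58275 = n109087 := ndS (p := 30973) (l := 4) rfl N30973 D109087
theorem N58276 : nd 58276 = n109088 := ndS (p := 30973) (l := 6) rfl N30973 D109088
theorem N58277 : nd 58277 = n109089 := ndS (p := 30974) (l := 0) rfl N30974 D109089
theorem N58278 : nd 58278 = n109090 := ndS (p := 30974) (l := 1) rfl N30974 D109090
theorem N58279 : nd 58279 = n109091 := ndS (p := 30974) (l := 5) rfl N30974 D109091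
theorem N58280 : nd 58280 = n109092 := ndS (p := 30974) (l := 7) rfl N30974 D109092
theorem N58281 : nd 58281 = n109093 := ndS (p := 30975) (l := 0) rfl N30975 D109093
theorem N58282 : nd 58282 = n109094 := ndS (p := 30975) (l := 1) rfl N30975 D109094
theorem N58283 : nd 58283 = n109095 := ndS (p := 30975) (l := 5) rfl N30975 D109095
theorem N58284 : nd 58284 = n109096 := ndS (p := 30975) (l := 7) rfl N30975 D109096
theorem N58285 : nd 58285 = n109097 := ndS (p := 30976) (l := 0) rfl N30976 D109097
theorem N58286 : nd 58286 = n109098 := ndS (p := 30976) (l := 1) rfl N30976 D109098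
theorem N58287 : nd 58287 = n109099 := ndS (p := 30976) (l := 4) rfl N30976 D109099
theorem N58288 : nd 58288 = n109100 := ndS (p := 30976) (l := 7) rfl N30976 D109100
theorem N58289 : nd 58289 = n109101 := ndS (p := 30978) (l := 5) rfl N30978 D109101
theorem N58290 : nd 58290 = n109105 := ndS (p := 30979) (l := 3) rfl N30979 D109105
theorem N58291 : nd 58291 = n109107 := ndS (p := 30979) (l := 5) rfl N30979 D109107
theorem N58292 : nd 58292 = n109108 := ndS (p := 30979) (l := 6) rfl N30979 D109108
theorem N58293 : nd 58293 = n109110 := ndS (p := 30980) (l := 1) rfl N30980 D109110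
theorem N58294 : nd 58294 = n109111 := ndS (p := 30980) (l := 2) rfl N30980 D109111
theorem N58295 : nd 58295 = n109113 := ndS (p := 30980) (l := 5) rfl N30980 D109113
theorem N58296 : nd 58296 = n109114 := ndS (p := 30980) (l := 6) rfl N30980 D109114
theorem N58297 : nd 58297 = n109122 := ndS (p := 30981) (l := 0) rfl N30981 D109122
theorem N58298 : nd 58298 = n109124 := ndS (p := 30981) (l := 4) rfl N30981 D109124
theorem N58299 : nd 58299 = n109125 := ndS (p := 30981) (l := 6) rfl N30981 D109125
theorem N58300 : nd 58300 = n109127 := ndS (p := 30982) (l := 0) rfl N30982 D109127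
theorem N58301 : nd 58301 = n109129 := ndS (p := 30982) (l := 5) rfl N30982 D109129
theorem N58302 : nd 58302 = n109132 := ndS (p := 30983) (l := 0) rfl N30983 D109132
theorem N58303 : nd 58303 = n109134 := ndS (p := 30983) (l := 2) rfl N30983 D109134
theorem N58304 : nd 58304 = n109135 := ndS (p := 30983) (l := 4) rfl N30983 D109135
theorem N58305 : nd 58305 = n109136 := ndS (p := 30983) (l := 5) rfl N30983 D109136
theorem N58306 : nd 58306 = n109140 := ndS (p := 30984) (l := 4) rfl N30984 D109140
theorem N58307 : nd 58307 = n109141 := ndS (p := 30984) (l := 6) rfl N30984 D109141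
theorem N58308 : nd 58308 = n109155 := ndS (p := 30985) (l := 0) rfl N30985 D109155
theorem N58309 : nd 58309 = n109157 := ndS (p := 30985) (l := 4) rfl N30985 D109157
theorem N58310 : nd 58310 = n109158 := ndS (p := 30985) (l := 6) rfl N30985 D109158
theorem N58311 : nd 58311 = n109160 := ndS (p := 30986) (l := 3) rfl N30986 D109160
theorem N58312 : nd 58312 = n109161 := ndS (p := 30986) (l := 4) rfl N30986 D109161
theorem N58313 : nd 58313 = n109163 := ndS (p := 30986) (l := 6) rfl N30986 D109163
theorem N58314 : nd 58314 = n109165 := ndS (p := 30987) (l := 3) rfl N30987 D109165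
theorem N58315 : nd 58315 = n109166 := ndS (p := 30987) (l := 4) rfl N30987 D109166
theorem N58316 : nd 58316 = n109169 := ndS (p := 30988) (l := 0) rfl N30988 D109169
theorem N58317 : nd 58317 = n109170 := ndS (p := 30988) (l := 1) rfl N30988 D109170
theorem N58318 : nd 58318 = n109171 := ndS (p := 30988) (l := 3) rfl N30988 D109171
theorem N58319 : nd 58319 = n109174 := ndS (p := 30988) (l := 7) rfl N30988 D109174
theorem N58320 : nd 58320 = n109178 := ndS (p := 30990) (l := 6) rfl N30990 D109178
theorem N58321 : nd 58321 = n109179 := ndS (p := 30991) (l := 0) rfl N30991 D109179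
theorem N58322 : nd 58322 = n109180 := ndS (p := 30991) (l := 1) rfl N30991 D109180
theorem N58323 : nd 58323 = n109184 := ndS (p := 30992) (l := 2) rfl N30992 D109184
theorem N58324 : nd 58324 = n109185 := ndS (p := 30992) (l := 4) rfl N30992 D109185
theorem N58325 : nd 58325 = n109186 := ndS (p := 30992) (l := 6) rfl N30992 D109186
theorem N58326 : nd 58326 = n109187 := ndS (p := 30993) (l := 0) rfl N30993 D109187
theorem N58327 : nd 58327 = n109188 := ndS (p := 30993) (l := 1) rfl N30993 D109188
theorem N58328 : nd 58328 = n109189 := ndS (p := 30993) (l := 5) rfl N30993 D109189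
theorem N58329 : nd 58329 = n109190 := ndS (p := 30993) (l := 7) rfl N30993 D109190
theorem N58330 : nd 58330 = n109193 := ndS (p := 30994) (l := 2) rfl N30994 D109193
theorem N58331 : nd 58331 = n109194 := ndS (p := 30994) (l := 4) rfl N30994 D109194
theorem N58332 : nd 58332 = n109195 := ndS (p := 30994) (l := 6) rfl N30994 D109195
theorem N58333 : nd 58333 = n109196 := ndS (p := 30995) (l := 0) rfl N30995 D109196
theorem N58334 : nd 58334 = n109198 := ndS (p := 30995) (l := 5) rfl N30995 D109198
theorem N58335 : nd 58335 = n109199 := ndS (p := 30995) (l := 7) rfl N30995 D109199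
theorem N58336 : nd 58336 = n109200 := ndS (p := 30996) (l := 0) rfl N30996 D109200
theorem N58337 : nd 58337 = n109201 := ndS (p := 30996) (l := 1) rfl N30996 D109201
theorem N58338 : nd 58338 = n109202 := ndS (p := 30996) (l := 2) rfl N30996 D109202
theorem N58339 : nd 58339 = n109203 := ndS (p := 30996) (l := 6) rfl N30996 D109203
theorem N58340 : nd 58340 = n109206 := ndS (p := 30997) (l := 5) rfl N30997 D109206
theorem N58341 : nd 58341 = n109209 := ndS (p := 30998) (l := 3) rfl N30998 D109209
theorem N58342 : nd 58342 = n109211 := ndS (p := 30998) (l := 5) rfl N30998 D109211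
theorem N58343 : nd 58343 = n109214 := ndS (p := 30999) (l := 3) rfl N30999 D109214
theorem N58344 : nd 58344 = n109215 := ndS (p := 30999) (l := 4) rfl N30999 D109215
theorem N58345 : nd 58345 = n109216 := ndS (p := 30999) (l := 5) rfl N30999 D109216
theorem N58346 : nd 58346 = n109218 := ndS (p := 31000) (l := 6) rfl N31000 D109218
theorem N58347 : nd 58347 = n109220 := ndS (p := 31001) (l := 1) rfl N31001 D109220
theorem N58348 : nd 58348 = n109221 := ndS (p := 31001) (l := 5) rfl N31001 D109221
theorem N58349 : nd 58349 = n109222 := ndS (p := 31002) (l := 3) rfl N31002 D109222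
theorem N58350 : nd 58350 = n109223 := ndS (p := 31002) (l := 4) rfl N31002 D109223
theorem N58351 : nd 58351 = n109224 := ndS (p := 31002) (l := 5) rfl N31002 D109224
theorem N58352 : nd 58352 = n109225 := ndS (p := 31002) (l := 6) rfl N31002 D109225
theorem N58353 : nd 58353 = n109226 := ndS (p := 31003) (l := 3) rfl N31003 D109226
theorem N58354 : nd 58354 = n109227 := ndS (p := 31003) (l := 5) rfl N31003 D109227
theorem N58355 : nd 58355 = n109228 := ndS (p := 31003) (l := 6) rfl N31003 D109228
theorem N58356 : nd 58356 = n109232 := ndS (p := 31005) (l := 3) rfl N31005 D109232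
theorem N58357 : nd 58357 = n109233 := ndS (p := 31005) (l := 5) rfl N31005 D109233
theorem N58358 : nd 58358 = n109234 := ndS (p := 31005) (l := 6) rfl N31005 D109234
theorem N58359 : nd 58359 = n109235 := ndS (p := 31006) (l := 0) rfl N31006 D109235
theorem N58360 : nd 58360 = n109236 := ndS (p := 31006) (l := 4) rfl N31006 D109236
theorem N58361 : nd 58361 = n109237 := ndS (p := 31008) (l := 4) rfl N31008 D109237
theorem N58362 : nd 58362 = n109238 := ndS (p := 31008) (l := 5) rfl N31008 D109238
theorem N58363 : nd 58363 = n109239 := ndS (p := 31008) (l := 6) rfl N31008 D109239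
theorem N58364 : nd 58364 = n109240 := ndS (p := 31009) (l := 3) rfl N31009 D109240
theorem N58365 : nd 58365 = n109241 := ndS (p := 31009) (l := 5) rfl N31009 D109241
theorem N58366 : nd 58366 = n109242 := ndS (p := 31009) (l := 6) rfl N31009 D109242
theorem N58367 : nd 58367 = n109243 := ndS (p := 31010) (l := 4) rfl N31010 D109243
theorem N58368 : nd 58368 = n109244 := ndS (p := 31012) (l := 0) rfl N31012 D109244
theorem N58369 : nd 58369 = n109245 := ndS (p := 31012) (l := 1) rfl N31012 D109245
theorem N58370 : nd 58370 = n109246 := ndS (p := 31012) (l := 2) rfl N31012 D109246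
theorem N58371 : nd 58371 = n109248 := ndS (p := 31013) (l := 0) rfl N31013 D109248
theorem N58372 : nd 58372 = n109249 := ndS (p := 31013) (l := 1) rfl N31013 D109249
theorem N58373 : nd 58373 = n109250 := ndS (p := 31013) (l := 5) rfl N31013 D109250
theorem N58374 : nd 58374 = n109251 := ndS (p := 31014) (l := 4) rfl N31014 D109251
theorem N58375 : nd 58375 = n109252 := ndS (p := 31014) (l := 5) rfl N31014 D109252
theorem N58376 : nd 58376 = n109253 := ndS (p := 31014) (l := 6) rfl N31014 D109253
theorem N58377 : nd 58377 = n109254 := ndS (p := 31015) (l := 0) rfl N31015 D109254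
theorem N58378 : nd 58378 = n109256 := ndS (p := 31015) (l := 2) rfl N31015 D109256
theorem N58379 : nd 58379 = n109257 := ndS (p := 31015) (l := 5) rfl N31015 D109257
theorem N58380 : nd 58380 = n109258 := ndS (p := 31015) (l := 6) rfl N31015 D109258
theorem N58381 : nd 58381 = n109259 := ndS (p := 31016) (l := 6) rfl N31016 D109259
theorem N58382 : nd 58382 = n109260 := ndS (p := 31017) (l := 0) rfl N31017 D109260
theorem N58383 : nd 58383 = n109261 := ndS (p := 31017) (l := 1) rfl N31017 D109261
theorem N58384 : nd 58384 = n109262 := ndS (p := 31017) (l := 5) rfl N31017 D109262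
theorem N58385 : nd 58385 = n109263 := ndS (p := 31017) (l := 7) rfl N31017 D109263
theorem N58386 : nd 58386 = n109264 := ndS (p := 31018) (l := 4) rfl N31018 D109264
theorem N58387 : nd 58387 = n109265 := ndS (p := 31019) (l := 4) rfl N31019 D109265
theorem N58388 : nd 58388 = n109266 := ndS (p := 31019) (l := 6) rfl N31019 D109266
theorem N58389 : nd 58389 = n109267 := ndS (p := 31021) (l := 3) rfl N31021 D109267
theorem N58390 : nd 58390 = n109268 := ndS (p := 31021) (l := 5) rfl N31021 D109268
theorem N58391 : nd 58391 = n109269 := ndS (p := 31021) (l := 6) rfl N31021 D109269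
theorem N58392 : nd 58392 = n109270 := ndS (p := 31023) (l := 6) rfl N31023 D109270
theorem N58393 : nd 58393 = n109272 := ndS (p := 31024) (l := 1) rfl N31024 D109272
theorem N58394 : nd 58394 = n109273 := ndS (p := 31024) (l := 7) rfl N31024 D109273
theorem N58395 : nd 58395 = n109274 := ndS (p := 31025) (l := 0) rfl N31025 D109274
theorem N58396 : nd 58396 = n109275 := ndS (p := 31025) (l := 1) rfl N31025 D109275
theorem N58397 : nd 58397 = n109276 := ndS (p := 31025) (l := 2) rfl N31025 D109276
theorem N58398 : nd 58398 = n109277 := ndS (p := 31025) (l := 6) rfl N31025 D109277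
theorem N58399 : nd 58399 = n109278 := ndS (p := 31026) (l := 5) rfl N31026 D109278
theorem N58400 : nd 58400 = n109279 := ndS (p := 31026) (l := 7) rfl N31026 D109279
theorem N58401 : nd 58401 = n109280 := ndS (p := 31027) (l := 4) rfl N31027 D109280
theorem N58402 : nd 58402 = n109281 := ndS (p := 31028) (l := 0) rfl N31028 D109281
theorem N58403 : nd 58403 = n109282 := ndS (p := 31028) (l := 7) rfl N31028 D109282
theorem N58404 : nd 58404 = n109284 := ndS (p := 31030) (l := 1) rfl N31030 D109284
theorem N58405 : nd 58405 = n109285 := ndS (p := 31030) (l := 2) rfl N31030 D109285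
theorem N58406 : nd 58406 = n109286 := ndS (p := 31030) (l := 5) rfl N31030 D109286
theorem N58407 : nd 58407 = n109287 := ndS (p := 31030) (l := 6) rfl N31030 D109287
theorem N58408 : nd 58408 = n109288 := ndS (p := 31031) (l := 6) rfl N31031 D109288
theorem N58409 : nd 58409 = n109289 := ndS (p := 31032) (l := 0) rfl N31032 D109289
theorem N58410 : nd 58410 = n109290 := ndS (p := 31032) (l := 1) rfl N31032 D109290
theorem N58411 : nd 58411 = n109291 := ndS (p := 31032) (l := 5) rfl N31032 D109291
theorem N58412 : nd 58412 = n109292 := ndS (p := 31032) (l := 7) rfl N31032 D109292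
theorem N58413 : nd 58413 = n109293 := ndS (p := 31033) (l := 4) rfl N31033 D109293
theorem N58414 : nd 58414 = n109294 := ndS (p := 31033) (l := 5) rfl N31033 D109294
theorem N58415 : nd 58415 = n109295 := ndS (p := 31033) (l := 6) rfl N31033 D109295
theorem N58416 : nd 58416 = n109296 := ndS (p := 31035) (l := 0) rfl N31035 D109296
theorem N58417 : nd 58417 = n109297 := ndS (p := 31035) (l := 1) rfl N31035 D109297
theorem N58418 : nd 58418 = n109298 := ndS (p := 31035) (l := 2) rfl N31035 D109298
theorem N58419 : nd 58419 = n109299 := ndS (p := 31035) (l := 5) rfl N31035 D109299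
theorem N58420 : nd 58420 = n109300 := ndS (p := 31035) (l := 6) rfl N31035 D109300
theorem N58421 : nd 58421 = n109301 := ndS (p := 31036) (l := 6) rfl N31036 D109301
theorem N58422 : nd 58422 = n109302 := ndS (p := 31037) (l := 1) rfl N31037 D109302
theorem N58423 : nd 58423 = n109303 := ndS (p := 31037) (l := 5) rfl N31037 D109303
theorem N58424 : nd 58424 = n109304 := ndS (p := 31037) (l := 7) rfl N31037 D109304
theorem N58425 : nd 58425 = n109306 := ndS (p := 31040) (l := 0) rfl N31040 D109306
theorem N58426 : nd 58426 = n109307 := ndS (p := 31040) (l := 1) rfl N31040 D109307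
theorem N58427 : nd 58427 = n109308 := ndS (p := 31040) (l := 2) rfl N31040 D109308
theorem N58428 : nd 58428 = n109309 := ndS (p := 31040) (l := 5) rfl N31040 D109309
theorem N58429 : nd 58429 = n109310 := ndS (p := 31040) (l := 6) rfl N31040 D109310
theorem N58430 : nd 58430 = n109311 := ndS (p := 31041) (l := 6) rfl N31041 D109311
theorem N58431 : nd 58431 = n109313 := ndS (p := 31042) (l := 5) rfl N31042 D109313
theorem N58432 : nd 58432 = n109314 := ndS (p := 31042) (l := 7) rfl N31042 D109314
theorem N58433 : nd 58433 = n109315 := ndS (p := 31043) (l := 0) rfl N31043 D109315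
theorem N58434 : nd 58434 = n109316 := ndS (p := 31043) (l := 1) rfl N31043 D109316
theorem N58435 : nd 58435 = n109317 := ndS (p := 31043) (l := 2) rfl N31043 D109317
theorem N58436 : nd 58436 = n109318 := ndS (p := 31043) (l := 5) rfl N31043 D109318
theorem N58437 : nd 58437 = n109319 := ndS (p := 31043) (l := 6) rfl N31043 D109319
theorem N58438 : nd 58438 = n109320 := ndS (p := 31044) (l := 6) rfl N31044 D109320
theorem N58439 : nd 58439 = n109321 := ndS (p := 31045) (l := 5) rfl N31045 D109321
theorem N58440 : nd 58440 = n109324 := ndS (p := 31046) (l := 3) rfl N31046 D109324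
theorem N58441 : nd 58441 = n109327 := ndS (p := 31046) (l := 6) rfl N31046 D109327
theorem N58442 : nd 58442 = n109329 := ndS (p := 31047) (l := 3) rfl N31047 D109329
theorem N58443 : nd 58443 = n109330 := ndS (p := 31047) (l := 5) rfl N31047 D109330
theorem N58444 : nd 58444 = n109334 := ndS (p := 31049) (l := 0) rfl N31049 D109334
theorem N58445 : nd 58445 = n109337 := ndS (p := 31049) (l := 6) rfl N31049 D109337
theorem N58446 : nd 58446 = n109342 := ndS (p := 31051) (l := 3) rfl N31051 D109342
theorem N58447 : nd 58447 = n109343 := ndS (p := 31051) (l := 6) rfl N31051 D109343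
theorem N58448 : nd 58448 = n109344 := ndS (p := 31052) (l := 3) rfl N31052 D109344
theorem N58449 : nd 58449 = n109345 := ndS (p := 31052) (l := 6) rfl N31052 D109345
theorem N58450 : nd 58450 = n109346 := ndS (p := 31053) (l := 0) rfl N31053 D109346
theorem N58451 : nd 58451 = n109347 := ndS (p := 31053) (l := 1) rfl N31053 D109347
theorem N58452 : nd 58452 = n109348 := ndS (p := 31053) (l := 5) rfl N31053 D109348
theorem N58453 : nd 58453 = n109349 := ndS (p := 31053) (l := 7) rfl N31053 D109349
theorem N58454 : nd 58454 = n109351 := ndS (p := 31054) (l := 3) rfl N31054 D109351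
theorem N58455 : nd 58455 = n109352 := ndS (p := 31054) (l := 4) rfl N31054 D109352
theorem N58456 : nd 58456 = n109353 := ndS (p := 31054) (l := 5) rfl N31054 D109353
theorem N58457 : nd 58457 = n109356 := ndS (p := 31055) (l := 3) rfl N31055 D109356
theorem N58458 : nd 58458 = n109357 := ndS (p := 31055) (l := 4) rfl N31055 D109357
theorem N58459 : nd 58459 = n109358 := ndS (p := 31055) (l := 5) rfl N31055 D109358
theorem N58460 : nd 58460 = n109359 := ndS (p := 31055) (l := 6) rfl N31055 D109359
theorem N58461 : nd 58461 = n109360 := ndS (p := 31056) (l := 0) rfl N31056 D109360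
theorem N58462 : nd 58462 = n109361 := ndS (p := 31056) (l := 1) rfl N31056 D109361
theorem N58463 : nd 58463 = n109362 := ndS (p := 31056) (l := 4) rfl N31056 D109362
theorem N58464 : nd 58464 = n109363 := ndS (p := 31056) (l := 7) rfl N31056 D109363
theorem N58465 : nd 58465 = n109365 := ndS (p := 31059) (l := 0) rfl N31059 D109365
theorem N58466 : nd 58466 = n109366 := ndS (p := 31059) (l := 3) rfl N31059 D109366
theorem N58467 : nd 58467 = n109367 := ndS (p := 31059) (l := 5) rfl N31059 D109367
theorem N58468 : nd 58468 = n109368 := ndS (p := 31060) (l := 3) rfl N31060 D109368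
theorem N58469 : nd 58469 = n109369 := ndS (p := 31060) (l := 5) rfl N31060 D109369
theorem N58470 : nd 58470 = n109370 := ndS (p := 31060) (l := 6) rfl N31060 D109370
theorem N58471 : nd 58471 = n109373 := ndS (p := 31062) (l := 4) rfl N31062 D109373
theorem N58472 : nd 58472 = n109378 := ndS (p := 31063) (l := 4) rfl N31063 D109378
theorem N58473 : nd 58473 = n109380 := ndS (p := 31063) (l := 6) rfl N31063 D109380
theorem N58474 : nd 58474 = n109398 := ndS (p := 31066) (l := 4) rfl N31066 D109398
theorem N58475 : nd 58475 = n109401 := ndS (p := 31067) (l := 1) rfl N31067 D109401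
theorem N58476 : nd 58476 = n109402 := ndS (p := 31067) (l := 5) rfl N31067 D109402
theorem N58477 : nd 58477 = n109409 := ndS (p := 31068) (l := 4) rfl N31068 D109409
theorem N58478 : nd 58478 = n109422 := ndS (p := 31069) (l := 0) rfl N31069 D109422
theorem N58479 : nd 58479 = n109424 := ndS (p := 31069) (l := 3) rfl N31069 D109424
theorem N58480 : nd 58480 = n109425 := ndS (p := 31069) (l := 5) rfl N31069 D109425
theorem N58481 : nd 58481 = n109444 := ndS (p := 31070) (l := 3) rfl N31070 D109444
theorem N58482 : nd 58482 = n109445 := ndS (p := 31070) (l := 5) rfl N31070 D109445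
theorem N58483 : nd 58483 = n109497 := ndS (p := 31072) (l := 0) rfl N31072 D109497
theorem N58484 : nd 58484 = n109499 := ndS (p := 31072) (l := 5) rfl N31072 D109499
theorem N58485 : nd 58485 = n109512 := ndS (p := 31074) (l := 0) rfl N31074 D109512
theorem N58486 : nd 58486 = n109513 := ndS (p := 31074) (l := 1) rfl N31074 D109513
theorem N58487 : nd 58487 = n109514 := ndS (p := 31074) (l := 2) rfl N31074 D109514
theorem N58488 : nd 58488 = n109515 := ndS (p := 31074) (l := 5) rfl N31074 D109515
theorem N58489 : nd 58489 = n109516 := ndS (p := 31074) (l := 6) rfl N31074 D109516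
theorem N58490 : nd 58490 = n109517 := ndS (p := 31075) (l := 6) rfl N31075 D109517
theorem N58491 : nd 58491 = n109518 := ndS (p := 31076) (l := 5) rfl N31076 D109518
theorem N58492 : nd 58492 = n109525 := ndS (p := 31079) (l := 5) rfl N31079 D109525
theorem N58493 : nd 58493 = n109532 := ndS (p := 31080) (l := 0) rfl N31080 D109532
theorem N58494 : nd 58494 = n109533 := ndS (p := 31080) (l := 1) rfl N31080 D109533
theorem N58495 : nd 58495 = n109534 := ndS (p := 31080) (l := 2) rfl N31080 D109534
theorem N58496 : nd 58496 = n109535 := ndS (p := 31080) (l := 5) rfl N31080 D109535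
theorem N58497 : nd 58497 = n109536 := ndS (p := 31080) (l := 6) rfl N31080 D109536
theorem N58498 : nd 58498 = n109539 := ndS (p := 31083) (l := 0) rfl N31083 D109539
theorem N58499 : nd 58499 = n109540 := ndS (p := 31083) (l := 1) rfl N31083 D109540
theorem N58500 : nd 58500 = n109541 := ndS (p := 31083) (l := 2) rfl N31083 D109541
theorem N58501 : nd 58501 = n109542 := ndS (p := 31083) (l := 6) rfl N31083 D109542
theorem N58502 : nd 58502 = n109543 := ndS (p := 31084) (l := 6) rfl N31084 D109543
theorem N58503 : nd 58503 = n109544 := ndS (p := 31085) (l := 5) rfl N31085 D109544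
theorem N58504 : nd 58504 = n109545 := ndS (p := 31085) (l := 7) rfl N31085 D109545
theorem N58505 : nd 58505 = n109547 := ndS (p := 31086) (l := 3) rfl N31086 D109547
theorem N58506 : nd 58506 = n109553 := ndS (p := 31088) (l := 5) rfl N31088 D109553
theorem N58507 : nd 58507 = n109556 := ndS (p := 31089) (l := 1) rfl N31089 D109556
theorem N58508 : nd 58508 = n109563 := ndS (p := 31090) (l := 3) rfl N31090 D109563
theorem N58509 : nd 58509 = n109564 := ndS (p := 31090) (l := 6) rfl N31090 D109564
theorem N58510 : nd 58510 = n109565 := ndS (p := 31091) (l := 6) rfl N31091 D109565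
theorem N58511 : nd 58511 = n109566 := ndS (p := 31092) (l := 3) rfl N31092 D109566
theorem N58512 : nd 58512 = n109567 := ndS (p := 31092) (l := 6) rfl N31092 D109567
theorem N58513 : nd 58513 = n109568 := ndS (p := 31093) (l := 0) rfl N31093 D109568
theorem N58514 : nd 58514 = n109569 := ndS (p := 31093) (l := 1) rfl N31093 D109569
theorem N58515 : nd 58515 = n109570 := ndS (p := 31093) (l := 5) rfl N31093 D109570
theorem N58516 : nd 58516 = n109571 := ndS (p := 31093) (l := 7) rfl N31093 D109571
theorem N58517 : nd 58517 = n109572 := ndS (p := 31094) (l := 3) rfl N31094 D109572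
theorem N58518 : nd 58518 = n109573 := ndS (p := 31094) (l := 5) rfl N31094 D109573
theorem N58519 : nd 58519 = n109574 := ndS (p := 31095) (l := 0) rfl N31095 D109574
theorem N58520 : nd 58520 = n109575 := ndS (p := 31095) (l := 1) rfl N31095 D109575
theorem N58521 : nd 58521 = n109576 := ndS (p := 31095) (l := 4) rfl N31095 D109576
theorem N58522 : nd 58522 = n109578 := ndS (p := 31096) (l := 4) rfl N31096 D109578
theorem N58523 : nd 58523 = n109579 := ndS (p := 31097) (l := 3) rfl N31097 D109579
theorem N58524 : nd 58524 = n109580 := ndS (p := 31097) (l := 5) rfl N31097 D109580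
theorem N58525 : nd 58525 = n109582 := ndS (p := 31098) (l := 4) rfl N31098 D109582
theorem N58526 : nd 58526 = n109583 := ndS (p := 31098) (l := 5) rfl N31098 D109583
theorem N58527 : nd 58527 = n109584 := ndS (p := 31099) (l := 3) rfl N31099 D109584
theorem N58528 : nd 58528 = n109585 := ndS (p := 31099) (l := 4) rfl N31099 D109585
theorem N58529 : nd 58529 = n109586 := ndS (p := 31099) (l := 5) rfl N31099 D109586
theorem N58530 : nd 58530 = n109587 := ndS (p := 31100) (l := 0) rfl N31100 D109587
theorem N58531 : nd 58531 = n109588 := ndS (p := 31100) (l := 1) rfl N31100 D109588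
theorem N58532 : nd 58532 = n109589 := ndS (p := 31100) (l := 3) rfl N31100 D109589
theorem N58533 : nd 58533 = n109590 := ndS (p := 31100) (l := 5) rfl N31100 D109590
theorem N58534 : nd 58534 = n109591 := ndS (p := 31100) (l := 7) rfl N31100 D109591
theorem N58535 : nd 58535 = n109592 := ndS (p := 31102) (l := 0) rfl N31102 D109592
theorem N58536 : nd 58536 = n109593 := ndS (p := 31102) (l := 1) rfl N31102 D109593
theorem N58537 : nd 58537 = n109594 := ndS (p := 31102) (l := 2) rfl N31102 D109594
theorem N58538 : nd 58538 = n109607 := ndS (p := 31103) (l := 3) rfl N31103 D109607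
theorem N58539 : nd 58539 = n109619 := ndS (p := 31104) (l := 4) rfl N31104 D109619
theorem N58540 : nd 58540 = n109621 := ndS (p := 31105) (l := 3) rfl N31105 D109621
theorem N58541 : nd 58541 = n109622 := ndS (p := 31105) (l := 5) rfl N31105 D109622
theorem N58542 : nd 58542 = n109671 := ndS (p := 31108) (l := 4) rfl N31108 D109671
theorem N58543 : nd 58543 = n109672 := ndS (p := 31109) (l := 3) rfl N31109 D109672
theorem N58544 : nd 58544 = n109674 := ndS (p := 31110) (l := 3) rfl N31110 D109674
theorem N58545 : nd 58545 = n109676 := ndS (p := 31111) (l := 0) rfl N31111 D109676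
theorem N58546 : nd 58546 = n109677 := ndS (p := 31111) (l := 1) rfl N31111 D109677
theorem N58547 : nd 58547 = n109678 := ndS (p := 31111) (l := 2) rfl N31111 D109678
theorem N58548 : nd 58548 = n109679 := ndS (p := 31111) (l := 5) rfl N31111 D109679
theorem N58549 : nd 58549 = n109680 := ndS (p := 31111) (l := 7) rfl N31111 D109680
theorem N58550 : nd 58550 = n109683 := ndS (p := 31114) (l := 3) rfl N31114 D109683
theorem N58551 : nd 58551 = n109684 := ndS (p := 31114) (l := 4) rfl N31114 D109684
theorem N58552 : nd 58552 = n109685 := ndS (p := 31114) (l := 6) rfl N31114 D109685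
theorem N58553 : nd 58553 = n109688 := ndS (p := 31115) (l := 4) rfl N31115 D109688
theorem N58554 : nd 58554 = n109690 := ndS (p := 31117) (l := 0) rfl N31117 D109690
theorem N58555 : nd 58555 = n109691 := ndS (p := 31117) (l := 1) rfl N31117 D109691
theorem N58556 : nd 58556 = n109692 := ndS (p := 31117) (l := 2) rfl N31117 D109692
theorem N58557 : nd 58557 = n109693 := ndS (p := 31117) (l := 5) rfl N31117 D109693
theorem N58558 : nd 58558 = n109694 := ndS (p := 31117) (l := 6) rfl N31117 D109694
theorem N58559 : nd 58559 = n109695 := ndS (p := 31118) (l := 6) rfl N31118 D109695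
theorem N58560 : nd 58560 = n109696 := ndS (p := 31119) (l := 0) rfl N31119 D109696
theorem N58561 : nd 58561 = n109697 := ndS (p := 31119) (l := 1) rfl N31119 D109697
theorem N58562 : nd 58562 = n109698 := ndS (p := 31119) (l := 5) rfl N31119 D109698
theorem N58563 : nd 58563 = n109699 := ndS (p := 31119) (l := 7) rfl N31119 D109699
theorem N58564 : nd 58564 = n109700 := ndS (p := 31120) (l := 4) rfl N31120 D109700
theorem N58565 : nd 58565 = n109701 := ndS (p := 31121) (l := 4) rfl N31121 D109701
theorem N58566 : nd 58566 = n109702 := ndS (p := 31123) (l := 0) rfl N31123 D109702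
theorem N58567 : nd 58567 = n109703 := ndS (p := 31123) (l := 1) rfl N31123 D109703
theorem N58568 : nd 58568 = n109704 := ndS (p := 31123) (l := 2) rfl N31123 D109704
theorem N58569 : nd 58569 = n109705 := ndS (p := 31123) (l := 6) rfl N31123 D109705
theorem N58570 : nd 58570 = n109706 := ndS (p := 31124) (l := 5) rfl N31124 D109706
theorem N58571 : nd 58571 = n109707 := ndS (p := 31125) (l := 0) rfl N31125 D109707
theorem N58572 : nd 58572 = n109709 := ndS (p := 31125) (l := 2) rfl N31125 D109709
theorem N58573 : nd 58573 = n109710 := ndS (p := 31126) (l := 3) rfl N31126 D109710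
theorem N58574 : nd 58574 = n109713 := ndS (p := 31126) (l := 6) rfl N31126 D109713
theorem N58575 : nd 58575 = n109714 := ndS (p := 31127) (l := 3) rfl N31127 D109714
theorem N58576 : nd 58576 = n109716 := ndS (p := 31128) (l := 5) rfl N31128 D109716
theorem N58577 : nd 58577 = n109718 := ndS (p := 31129) (l := 0) rfl N31129 D109718
theorem N58578 : nd 58578 = n109719 := ndS (p := 31129) (l := 1) rfl N31129 D109719
theorem N58579 : nd 58579 = n109720 := ndS (p := 31129) (l := 4) rfl N31129 D109720
theorem N58580 : nd 58580 = n109721 := ndS (p := 31129) (l := 6) rfl N31129 D109721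
theorem N58581 : nd 58581 = n109724 := ndS (p := 31130) (l := 5) rfl N31130 D109724
theorem N58582 : nd 58582 = n109726 := ndS (p := 31131) (l := 3) rfl N31131 D109726
theorem N58583 : nd 58583 = n109727 := ndS (p := 31131) (l := 6) rfl N31131 D109727
theorem N58584 : nd 58584 = n109728 := ndS (p := 31132) (l := 3) rfl N31132 D109728
theorem N58585 : nd 58585 = n109729 := ndS (p := 31132) (l := 6) rfl N31132 D109729
theorem N58586 : nd 58586 = n109730 := ndS (p := 31133) (l := 0) rfl N31133 D109730
theorem N58587 : nd 58587 = n109731 := ndS (p := 31133) (l := 1) rfl N31133 D109731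
theorem N58588 : nd 58588 = n109732 := ndS (p := 31133) (l := 5) rfl N31133 D109732
theorem N58589 : nd 58589 = n109733 := ndS (p := 31133) (l := 7) rfl N31133 D109733
theorem N58590 : nd 58590 = n109735 := ndS (p := 31134) (l := 3) rfl N31134 D109735
theorem N58591 : nd 58591 = n109736 := ndS (p := 31134) (l := 4) rfl N31134 D109736
theorem N58592 : nd 58592 = n109737 := ndS (p := 31134) (l := 5) rfl N31134 D109737
theorem N58593 : nd 58593 = n109738 := ndS (p := 31134) (l := 6) rfl N31134 D109738
theorem N58594 : nd 58594 = n109740 := ndS (p := 31135) (l := 3) rfl N31135 D109740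
theorem N58595 : nd 58595 = n109741 := ndS (p := 31135) (l := 4) rfl N31135 D109741
theorem N58596 : nd 58596 = n109742 := ndS (p := 31135) (l := 5) rfl N31135 D109742
theorem N58597 : nd 58597 = n109743 := ndS (p := 31135) (l := 6) rfl N31135 D109743
theorem N58598 : nd 58598 = n109744 := ndS (p := 31136) (l := 0) rfl N31136 D109744
theorem N58599 : nd 58599 = n109745 := ndS (p := 31136) (l := 1) rfl N31136 D109745
theorem N58600 : nd 58600 = n109746 := ndS (p := 31136) (l := 4) rfl N31136 D109746
theorem N58601 : nd 58601 = n109747 := ndS (p := 31136) (l := 7) rfl N31136 D109747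
theorem N58602 : nd 58602 = n109749 := ndS (p := 31138) (l := 5) rfl N31138 D109749
theorem N58603 : nd 58603 = n109750 := ndS (p := 31139) (l := 0) rfl N31139 D109750
theorem N58604 : nd 58604 = n109751 := ndS (p := 31139) (l := 3) rfl N31139 D109751
theorem N58605 : nd 58605 = n109752 := ndS (p := 31139) (l := 5) rfl N31139 D109752
theorem N58606 : nd 58606 = n109753 := ndS (p := 31139) (l := 6) rfl N31139 D109753
theorem N58607 : nd 58607 = n109754 := ndS (p := 31140) (l := 4) rfl N31140 D109754
theorem N58608 : nd 58608 = n109755 := ndS (p := 31142) (l := 3) rfl N31142 D109755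
theorem N58609 : nd 58609 = n109756 := ndS (p := 31142) (l := 5) rfl N31142 D109756
theorem N58610 : nd 58610 = n109757 := ndS (p := 31142) (l := 6) rfl N31142 D109757
theorem N58611 : nd 58611 = n109758 := ndS (p := 31144) (l := 1) rfl N31144 D109758
theorem N58612 : nd 58612 = n109759 := ndS (p := 31144) (l := 3) rfl N31144 D109759
theorem N58613 : nd 58613 = n109760 := ndS (p := 31144) (l := 5) rfl N31144 D109760
theorem N58614 : nd 58614 = n109771 := ndS (p := 31145) (l := 3) rfl N31145 D109771
theorem N58615 : nd 58615 = n109773 := ndS (p := 31145) (l := 6) rfl N31145 D109773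
theorem N58616 : nd 58616 = n109782 := ndS (p := 31147) (l := 4) rfl N31147 D109782
theorem N58617 : nd 58617 = n109784 := ndS (p := 31148) (l := 3) rfl N31148 D109784
theorem N58618 : nd 58618 = n109838 := ndS (p := 31151) (l := 4) rfl N31151 D109838
theorem N58619 : nd 58619 = n109845 := ndS (p := 31152) (l := 3) rfl N31152 D109845
theorem N58620 : nd 58620 = n109854 := ndS (p := 31153) (l := 1) rfl N31153 D109854
theorem N58621 : nd 58621 = n109855 := ndS (p := 31153) (l := 2) rfl N31153 D109855
theorem N58622 : nd 58622 = n109856 := ndS (p := 31153) (l := 5) rfl N31153 D109856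
theorem N58623 : nd 58623 = n109859 := ndS (p := 31154) (l := 6) rfl N31154 D109859
theorem N58624 : nd 58624 = n109860 := ndS (p := 31155) (l := 0) rfl N31155 D109860
theorem N58625 : nd 58625 = n109861 := ndS (p := 31155) (l := 1) rfl N31155 D109861
theorem N58626 : nd 58626 = n109864 := ndS (p := 31155) (l := 6) rfl N31155 D109864
theorem N58627 : nd 58627 = n109865 := ndS (p := 31156) (l := 6) rfl N31156 D109865
theorem N58628 : nd 58628 = n109866 := ndS (p := 31157) (l := 0) rfl N31157 D109866
theorem N58629 : nd 58629 = n109868 := ndS (p := 31157) (l := 5) rfl N31157 D109868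
theorem N58630 : nd 58630 = n109869 := ndS (p := 31157) (l := 7) rfl N31157 D109869
theorem N58631 : nd 58631 = n109870 := ndS (p := 31158) (l := 4) rfl N31158 D109870
theorem N58632 : nd 58632 = n109871 := ndS (p := 31160) (l := 0) rfl N31160 D109871
theorem N58633 : nd 58633 = n109872 := ndS (p := 31160) (l := 1) rfl N31160 D109872
theorem N58634 : nd 58634 = n109873 := ndS (p := 31160) (l := 2) rfl N31160 D109873
theorem N58635 : nd 58635 = n109874 := ndS (p := 31161) (l := 0) rfl N31161 D109874
theorem N58636 : nd 58636 = n109875 := ndS (p := 31161) (l := 1) rfl N31161 D109875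
theorem N58637 : nd 58637 = n109876 := ndS (p := 31161) (l := 2) rfl N31161 D109876
theorem N58638 : nd 58638 = n109877 := ndS (p := 31161) (l := 6) rfl N31161 D109877
theorem N58639 : nd 58639 = n109878 := ndS (p := 31162) (l := 5) rfl N31162 D109878
theorem N58640 : nd 58640 = n109879 := ndS (p := 31163) (l := 3) rfl N31163 D109879
theorem N58641 : nd 58641 = n109881 := ndS (p := 31164) (l := 3) rfl N31164 D109881
theorem N58642 : nd 58642 = n109882 := ndS (p := 31164) (l := 6) rfl N31164 D109882
theorem N58643 : nd 58643 = n109885 := ndS (p := 31166) (l := 0) rfl N31166 D109885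
theorem N58644 : nd 58644 = n109887 := ndS (p := 31166) (l := 4) rfl N31166 D109887
theorem N58645 : nd 58645 = n109888 := ndS (p := 31166) (l := 6) rfl N31166 D109888
theorem N58646 : nd 58646 = n109893 := ndS (p := 31167) (l := 3) rfl N31167 D109893
theorem N58647 : nd 58647 = n109896 := ndS (p := 31169) (l := 3) rfl N31169 D109896
theorem N58648 : nd 58648 = n109897 := ndS (p := 31169) (l := 6) rfl N31169 D109897
theorem N58649 : nd 58649 = n109898 := ndS (p := 31170) (l := 0) rfl N31170 D109898
theorem N58650 : nd 58650 = n109899 := ndS (p := 31170) (l := 1) rfl N31170 D109899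
theorem N58651 : nd 58651 = n109900 := ndS (p := 31170) (l := 5) rfl N31170 D109900
theorem N58652 : nd 58652 = n109901 := ndS (p := 31170) (l := 7) rfl N31170 D109901
theorem N58653 : nd 58653 = n109903 := ndS (p := 31171) (l := 3) rfl N31171 D109903
theorem N58654 : nd 58654 = n109905 := ndS (p := 31171) (l := 6) rfl N31171 D109905
theorem N58655 : nd 58655 = n109907 := ndS (p := 31172) (l := 3) rfl N31172 D109907
theorem N58656 : nd 58656 = n109909 := ndS (p := 31173) (l := 0) rfl N31173 D109909
theorem N58657 : nd 58657 = n109910 := ndS (p := 31173) (l := 1) rfl N31173 D109910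
theorem N58658 : nd 58658 = n109911 := ndS (p := 31173) (l := 4) rfl N31173 D109911
theorem N58659 : nd 58659 = n109912 := ndS (p := 31173) (l := 7) rfl N31173 D109912
theorem N58660 : nd 58660 = n109915 := ndS (p := 31175) (l := 0) rfl N31175 D109915
theorem N58661 : nd 58661 = n109917 := ndS (p := 31175) (l := 5) rfl N31175 D109917
theorem N58662 : nd 58662 = n109918 := ndS (p := 31175) (l := 6) rfl N31175 D109918
theorem N58663 : nd 58663 = n109920 := ndS (p := 31178) (l := 3) rfl N31178 D109920
theorem N58664 : nd 58664 = n109921 := ndS (p := 31178) (l := 5) rfl N31178 D109921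
theorem N58665 : nd 58665 = n109928 := ndS (p := 31179) (l := 0) rfl N31179 D109928
theorem N58666 : nd 58666 = n109930 := ndS (p := 31179) (l := 3) rfl N31179 D109930
theorem N58667 : nd 58667 = n109938 := ndS (p := 31180) (l := 5) rfl N31180 D109938
theorem N58668 : nd 58668 = n109939 := ndS (p := 31180) (l := 6) rfl N31180 D109939
theorem N58669 : nd 58669 = n109991 := ndS (p := 31182) (l := 5) rfl N31182 D109991
theorem N58670 : nd 58670 = n109998 := ndS (p := 31183) (l := 6) rfl N31183 D109998
theorem N58671 : nd 58671 = n110000 := ndS (p := 31184) (l := 3) rfl N31184 D110000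
theorem N58672 : nd 58672 = n110008 := ndS (p := 31186) (l := 4) rfl N31186 D110008
theorem N58673 : nd 58673 = n110010 := ndS (p := 31187) (l := 3) rfl N31187 D110010
theorem N58674 : nd 58674 = n110017 := ndS (p := 31188) (l := 3) rfl N31188 D110017
theorem N58675 : nd 58675 = n110027 := ndS (p := 31190) (l := 3) rfl N31190 D110027
theorem N58676 : nd 58676 = n110033 := ndS (p := 31191) (l := 6) rfl N31191 D110033
theorem N58677 : nd 58677 = n110119 := ndS (p := 31193) (l := 4) rfl N31193 D110119
theorem N58678 : nd 58678 = n110122 := ndS (p := 31194) (l := 1) rfl N31194 D110122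
theorem N58679 : nd 58679 = n110123 := ndS (p := 31194) (l := 5) rfl N31194 D110123
theorem N58680 : nd 58680 = n110127 := ndS (p := 31195) (l := 4) rfl N31195 D110127
theorem N58681 : nd 58681 = n110138 := ndS (p := 31199) (l := 3) rfl N31199 D110138
theorem N58682 : nd 58682 = n110139 := ndS (p := 31199) (l := 5) rfl N31199 D110139
theorem N58683 : nd 58683 = n110150 := ndS (p := 31201) (l := 3) rfl N31201 D110150
theorem N58684 : nd 58684 = n110151 := ndS (p := 31201) (l := 5) rfl N31201 D110151
theorem N58685 : nd 58685 = n110152 := ndS (p := 31201) (l := 6) rfl N31201 D110152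
theorem N58686 : nd 58686 = n110153 := ndS (p := 31202) (l := 5) rfl N31202 D110153
theorem N58687 : nd 58687 = n110155 := ndS (p := 31203) (l := 1) rfl N31203 D110155
theorem N58688 : nd 58688 = n110156 := ndS (p := 31203) (l := 2) rfl N31203 D110156
theorem N58689 : nd 58689 = n110157 := ndS (p := 31203) (l := 5) rfl N31203 D110157
theorem N58690 : nd 58690 = n110158 := ndS (p := 31203) (l := 6) rfl N31203 D110158
theorem N58691 : nd 58691 = n110159 := ndS (p := 31203) (l := 7) rfl N31203 D110159
theorem N58692 : nd 58692 = n110160 := ndS (p := 31204) (l := 0) rfl N31204 D110160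
theorem N58693 : nd 58693 = n110161 := ndS (p := 31204) (l := 1) rfl N31204 D110161
theorem N58694 : nd 58694 = n110162 := ndS (p := 31204) (l := 4) rfl N31204 D110162
theorem N58695 : nd 58695 = n110163 := ndS (p := 31204) (l := 6) rfl N31204 D110163
theorem N58696 : nd 58696 = n110164 := ndS (p := 31204) (l := 7) rfl N31204 D110164
theorem N58697 : nd 58697 = n110167 := ndS (p := 31205) (l := 5) rfl N31205 D110167
theorem N58698 : nd 58698 = n110170 := ndS (p := 31207) (l := 4) rfl N31207 D110170
theorem N58699 : nd 58699 = n110171 := ndS (p := 31207) (l := 6) rfl N31207 D110171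
theorem N58700 : nd 58700 = n110173 := ndS (p := 31208) (l := 3) rfl N31208 D110173
theorem N58701 : nd 58701 = n110174 := ndS (p := 31208) (l := 5) rfl N31208 D110174
theorem N58702 : nd 58702 = n110176 := ndS (p := 31208) (l := 7) rfl N31208 D110176
theorem N58703 : nd 58703 = n110205 := ndS (p := 31214) (l := 3) rfl N31214 D110205
theorem N58704 : nd 58704 = n110206 := ndS (p := 31214) (l := 5) rfl N31214 D110206
theorem N58705 : nd 58705 = n110216 := ndS (p := 31215) (l := 5) rfl N31215 D110216
theorem N58706 : nd 58706 = n110217 := ndS (p := 31215) (l := 6) rfl N31215 D110217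
theorem N58707 : nd 58707 = n110218 := ndS (p := 31216) (l := 4) rfl N31216 D110218
theorem N58708 : nd 58708 = n110219 := ndS (p := 31216) (l := 6) rfl N31216 D110219
theorem N58709 : nd 58709 = n110222 := ndS (p := 31217) (l := 5) rfl N31217 D110222
theorem N58710 : nd 58710 = n110224 := ndS (p := 31218) (l := 3) rfl N31218 D110224
theorem N58711 : nd 58711 = n110225 := ndS (p := 31218) (l := 5) rfl N31218 D110225
theorem N58712 : nd 58712 = n110245 := ndS (p := 31219) (l := 3) rfl N31219 D110245
theorem N58713 : nd 58713 = n110246 := ndS (p := 31219) (l := 5) rfl N31219 D110246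
theorem N58714 : nd 58714 = n110247 := ndS (p := 31219) (l := 6) rfl N31219 D110247
theorem N58715 : nd 58715 = n110256 := ndS (p := 31221) (l := 3) rfl N31221 D110256
theorem N58716 : nd 58716 = n110257 := ndS (p := 31221) (l := 5) rfl N31221 D110257
theorem N58717 : nd 58717 = n110265 := ndS (p := 31223) (l := 3) rfl N31223 D110265
theorem N58718 : nd 58718 = n110266 := ndS (p := 31223) (l := 5) rfl N31223 D110266
theorem N58719 : nd 58719 = n110273 := ndS (p := 31225) (l := 3) rfl N31225 D110273
theorem N58720 : nd 58720 = n110275 := ndS (p := 31225) (l := 5) rfl N31225 D110275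
theorem N58721 : nd 58721 = n110278 := ndS (p := 31226) (l := 3) rfl N31226 D110278
theorem N58722 : nd 58722 = n110279 := ndS (p := 31226) (l := 5) rfl N31226 D110279
theorem N58723 : nd 58723 = n110281 := ndS (p := 31227) (l := 0) rfl N31227 D110281
theorem N58724 : nd 58724 = n110282 := ndS (p := 31227) (l := 1) rfl N31227 D110282
theorem N58725 : nd 58725 = n110283 := ndS (p := 31227) (l := 4) rfl N31227 D110283
theorem N58726 : nd 58726 = n110284 := ndS (p := 31227) (l := 6) rfl N31227 D110284
theorem N58727 : nd 58727 = n110285 := ndS (p := 31228) (l := 0) rfl N31228 D110285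
theorem N58728 : nd 58728 = n110286 := ndS (p := 31228) (l := 1) rfl N31228 D110286
theorem N58729 : nd 58729 = n110287 := ndS (p := 31228) (l := 5) rfl N31228 D110287
theorem N58730 : nd 58730 = n110290 := ndS (p := 31229) (l := 4) rfl N31229 D110290
theorem N58731 : nd 58731 = n110295 := ndS (p := 31230) (l := 4) rfl N31230 D110295
theorem N58732 : nd 58732 = n110300 := ndS (p := 31231) (l := 4) rfl N31231 D110300
theorem N58733 : nd 58733 = n110301 := ndS (p := 31231) (l := 5) rfl N31231 D110301
theorem N58734 : nd 58734 = n110304 := ndS (p := 31232) (l := 3) rfl N31232 D110304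
theorem N58735 : nd 58735 = n110305 := ndS (p := 31232) (l := 4) rfl N31232 D110305
theorem N58736 : nd 58736 = n110306 := ndS (p := 31232) (l := 5) rfl N31232 D110306
theorem N58737 : nd 58737 = n110307 := ndS (p := 31232) (l := 6) rfl N31232 D110307
theorem N58738 : nd 58738 = n110321 := ndS (p := 31234) (l := 3) rfl N31234 D110321
theorem N58739 : nd 58739 = n110322 := ndS (p := 31234) (l := 5) rfl N31234 D110322
theorem N58740 : nd 58740 = n110323 := ndS (p := 31234) (l := 6) rfl N31234 D110323
theorem N58741 : nd 58741 = n110324 := ndS (p := 31235) (l := 0) rfl N31235 D110324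
theorem N58742 : nd 58742 = n110325 := ndS (p := 31235) (l := 4) rfl N31235 D110325
theorem N58743 : nd 58743 = n110333 := ndS (p := 31243) (l := 3) rfl N31243 D110333
theorem N58744 : nd 58744 = n110334 := ndS (p := 31243) (l := 6) rfl N31243 D110334
theorem N58745 : nd 58745 = n110335 := ndS (p := 31244) (l := 0) rfl N31244 D110335
theorem N58746 : nd 58746 = n110336 := ndS (p := 31244) (l := 1) rfl N31244 D110336
theorem N58747 : nd 58747 = n110337 := ndS (p := 31244) (l := 7) rfl N31244 D110337
theorem N58748 : nd 58748 = n110338 := ndS (p := 31245) (l := 1) rfl N31245 D110338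
theorem N58749 : nd 58749 = n110339 := ndS (p := 31246) (l := 1) rfl N31246 D110339
theorem N58750 : nd 58750 = n110340 := ndS (p := 31247) (l := 0) rfl N31247 D110340
theorem N58751 : nd 58751 = n110341 := ndS (p := 31247) (l := 1) rfl N31247 D110341
theorem N58752 : nd 58752 = n110342 := ndS (p := 31247) (l := 2) rfl N31247 D110342
theorem N58753 : nd 58753 = n110343 := ndS (p := 31247) (l := 5) rfl N31247 D110343
theorem N58754 : nd 58754 = n110344 := ndS (p := 31247) (l := 6) rfl N31247 D110344
theorem N58755 : nd 58755 = n110345 := ndS (p := 31248) (l := 6) rfl N31248 D110345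
theorem N58756 : nd 58756 = n110346 := ndS (p := 31249) (l := 0) rfl N31249 D110346
theorem N58757 : nd 58757 = n110347 := ndS (p := 31249) (l := 1) rfl N31249 D110347
theorem N58758 : nd 58758 = n110348 := ndS (p := 31249) (l := 5) rfl N31249 D110348
theorem N58759 : nd 58759 = n110349 := ndS (p := 31250) (l := 4) rfl N31250 D110349
theorem N58760 : nd 58760 = n110350 := ndS (p := 31250) (l := 5) rfl N31250 D110350
theorem N58761 : nd 58761 = n110351 := ndS (p := 31250) (l := 6) rfl N31250 D110351
theorem N58762 : nd 58762 = n110352 := ndS (p := 31251) (l := 0) rfl N31251 D110352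
theorem N58763 : nd 58763 = n110353 := ndS (p := 31251) (l := 1) rfl N31251 D110353
theorem N58764 : nd 58764 = n110355 := ndS (p := 31251) (l := 5) rfl N31251 D110355
theorem N58765 : nd 58765 = n110357 := ndS (p := 31252) (l := 6) rfl N31252 D110357
theorem N58766 : nd 58766 = n110364 := ndS (p := 31255) (l := 4) rfl N31255 D110364
theorem N58767 : nd 58767 = n110365 := ndS (p := 31255) (l := 6) rfl N31255 D110365
theorem N58768 : nd 58768 = n110367 := ndS (p := 31257) (l := 1) rfl N31257 D110367
theorem N58769 : nd 58769 = n110368 := ndS (p := 31257) (l := 7) rfl N31257 D110368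
theorem N58770 : nd 58770 = n110369 := ndS (p := 31258) (l := 0) rfl N31258 D110369
theorem N58771 : nd 58771 = n110370 := ndS (p := 31258) (l := 1) rfl N31258 D110370
theorem N58772 : nd 58772 = n110371 := ndS (p := 31258) (l := 2) rfl N31258 D110371
theorem N58773 : nd 58773 = n110372 := ndS (p := 31258) (l := 5) rfl N31258 D110372
theorem N58774 : nd 58774 = n110373 := ndS (p := 31258) (l := 6) rfl N31258 D110373
theorem N58775 : nd 58775 = n110374 := ndS (p := 31259) (l := 6) rfl N31259 D110374
theorem N58776 : nd 58776 = n110375 := ndS (p := 31260) (l := 0) rfl N31260 D110375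
theorem N58777 : nd 58777 = n110376 := ndS (p := 31260) (l := 1) rfl N31260 D110376
theorem N58778 : nd 58778 = n110377 := ndS (p := 31260) (l := 5) rfl N31260 D110377
theorem N58779 : nd 58779 = n110378 := ndS (p := 31260) (l := 7) rfl N31260 D110378
theorem N58780 : nd 58780 = n110379 := ndS (p := 31261) (l := 4) rfl N31261 D110379
theorem N58781 : nd 58781 = n110380 := ndS (p := 31261) (l := 5) rfl N31261 D110380
theorem N58782 : nd 58782 = n110381 := ndS (p := 31261) (l := 6) rfl N31261 D110381
theorem N58783 : nd 58783 = n110382 := ndS (p := 31262) (l := 4) rfl N31262 D110382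
theorem N58784 : nd 58784 = n110383 := ndS (p := 31264) (l := 3) rfl N31264 D110383
theorem N58785 : nd 58785 = n110387 := ndS (p := 31266) (l := 5) rfl N31266 D110387
theorem N58786 : nd 58786 = n110389 := ndS (p := 31267) (l := 6) rfl N31267 D110389
theorem N58787 : nd 58787 = n110390 := ndS (p := 31268) (l := 1) rfl N31268 D110390
theorem N58788 : nd 58788 = n110391 := ndS (p := 31268) (l := 5) rfl N31268 D110391
theorem N58789 : nd 58789 = n110392 := ndS (p := 31268) (l := 7) rfl N31268 D110392
theorem N58790 : nd 58790 = n110393 := ndS (p := 31269) (l := 4) rfl N31269 D110393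
theorem N58791 : nd 58791 = n110394 := ndS (p := 31271) (l := 0) rfl N31271 D110394
theorem N58792 : nd 58792 = n110395 := ndS (p := 31271) (l := 1) rfl N31271 D110395
theorem N58793 : nd 58793 = n110396 := ndS (p := 31271) (l := 2) rfl N31271 D110396
theorem N58794 : nd 58794 = n110397 := ndS (p := 31271) (l := 5) rfl N31271 D110397
theorem N58795 : nd 58795 = n110398 := ndS (p := 31271) (l := 6) rfl N31271 D110398
theorem N58796 : nd 58796 = n110400 := ndS (p := 31273) (l := 5) rfl N31273 D110400
theorem N58797 : nd 58797 = n110401 := ndS (p := 31273) (l := 7) rfl N31273 D110401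
theorem N58798 : nd 58798 = n110402 := ndS (p := 31274) (l := 0) rfl N31274 D110402
theorem N58799 : nd 58799 = n110403 := ndS (p := 31274) (l := 1) rfl N31274 D110403
theorem N58800 : nd 58800 = n110404 := ndS (p := 31274) (l := 2) rfl N31274 D110404
theorem N58801 : nd 58801 = n110405 := ndS (p := 31274) (l := 5) rfl N31274 D110405
theorem N58802 : nd 58802 = n110406 := ndS (p := 31274) (l := 6) rfl N31274 D110406
theorem N58803 : nd 58803 = n110407 := ndS (p := 31275) (l := 6) rfl N31275 D110407
theorem N58804 : nd 58804 = n110414 := ndS (p := 31278) (l := 3) rfl N31278 D110414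
theorem N58805 : nd 58805 = n110415 := ndS (p := 31278) (l := 5) rfl N31278 D110415
theorem N58806 : nd 58806 = n110425 := ndS (p := 31280) (l := 3) rfl N31280 D110425
theorem N58807 : nd 58807 = n110426 := ndS (p := 31280) (l := 6) rfl N31280 D110426
theorem N58808 : nd 58808 = n110427 := ndS (p := 31281) (l := 3) rfl N31281 D110427
theorem N58809 : nd 58809 = n110428 := ndS (p := 31281) (l := 6) rfl N31281 D110428
theorem N58810 : nd 58810 = n110429 := ndS (p := 31282) (l := 3) rfl N31282 D110429
theorem N58811 : nd 58811 = n110430 := ndS (p := 31282) (l := 6) rfl N31282 D110430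
theorem N58812 : nd 58812 = n110431 := ndS (p := 31283) (l := 0) rfl N31283 D110431
theorem N58813 : nd 58813 = n110432 := ndS (p := 31283) (l := 1) rfl N31283 D110432
theorem N58814 : nd 58814 = n110434 := ndS (p := 31283) (l := 7) rfl N31283 D110434
theorem N58815 : nd 58815 = n110435 := ndS (p := 31284) (l := 3) rfl N31284 D110435
theorem N58816 : nd 58816 = n110438 := ndS (p := 31285) (l := 3) rfl N31285 D110438
theorem N58817 : nd 58817 = n110440 := ndS (p := 31285) (l := 6) rfl N31285 D110440
theorem N58818 : nd 58818 = n110447 := ndS (p := 31286) (l := 5) rfl N31286 D110447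
theorem N58819 : nd 58819 = n110448 := ndS (p := 31287) (l := 0) rfl N31287 D110448
theorem N58820 : nd 58820 = n110449 := ndS (p := 31287) (l := 3) rfl N31287 D110449
theorem N58821 : nd 58821 = n110450 := ndS (p := 31287) (l := 5) rfl N31287 D110450
theorem N58822 : nd 58822 = n110451 := ndS (p := 31288) (l := 4) rfl N31288 D110451
theorem N58823 : nd 58823 = n110452 := ndS (p := 31288) (l := 6) rfl N31288 D110452
theorem N58824 : nd 58824 = n110454 := ndS (p := 31289) (l := 4) rfl N31289 D110454
theorem N58825 : nd 58825 = n110455 := ndS (p := 31289) (l := 6) rfl N31289 D110455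
theorem N58826 : nd 58826 = n110458 := ndS (p := 31290) (l := 6) rfl N31290 D110458
theorem N58827 : nd 58827 = n110459 := ndS (p := 31291) (l := 4) rfl N31291 D110459
theorem N58828 : nd 58828 = n110460 := ndS (p := 31293) (l := 6) rfl N31293 D110460
theorem N58829 : nd 58829 = n110461 := ndS (p := 31294) (l := 0) rfl N31294 D110461
theorem N58830 : nd 58830 = n110463 := ndS (p := 31294) (l := 2) rfl N31294 D110463
theorem N58831 : nd 58831 = n110464 := ndS (p := 31294) (l := 5) rfl N31294 D110464
theorem N58832 : nd 58832 = n110465 := ndS (p := 31294) (l := 6) rfl N31294 D110465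
theorem N58833 : nd 58833 = n110466 := ndS (p := 31295) (l := 6) rfl N31295 D110466
theorem N58834 : nd 58834 = n110467 := ndS (p := 31296) (l := 0) rfl N31296 D110467
theorem N58835 : nd 58835 = n110468 := ndS (p := 31296) (l := 1) rfl N31296 D110468
theorem N58836 : nd 58836 = n110469 := ndS (p := 31296) (l := 5) rfl N31296 D110469
theorem N58837 : nd 58837 = n110470 := ndS (p := 31296) (l := 7) rfl N31296 D110470
theorem N58838 : nd 58838 = n110472 := ndS (p := 31297) (l := 4) rfl N31297 D110472
theorem N58839 : nd 58839 = n110473 := ndS (p := 31297) (l := 5) rfl N31297 D110473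
theorem N58840 : nd 58840 = n110474 := ndS (p := 31298) (l := 3) rfl N31298 D110474
theorem N58841 : nd 58841 = n110475 := ndS (p := 31298) (l := 4) rfl N31298 D110475
theorem N58842 : nd 58842 = n110476 := ndS (p := 31298) (l := 5) rfl N31298 D110476
theorem N58843 : nd 58843 = n110497 := ndS (p := 31306) (l := 1) rfl N31306 D110497
theorem N58844 : nd 58844 = n110500 := ndS (p := 31307) (l := 1) rfl N31307 D110500
theorem N58845 : nd 58845 = n110501 := ndS (p := 31307) (l := 5) rfl N31307 D110501
theorem N58846 : nd 58846 = n110535 := ndS (p := 31311) (l := 4) rfl N31311 D110535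
theorem N58847 : nd 58847 = n110568 := ndS (p := 31312) (l := 0) rfl N31312 D110568
theorem N58848 : nd 58848 = n110576 := ndS (p := 31313) (l := 6) rfl N31313 D110576
theorem N58849 : nd 58849 = n110583 := ndS (p := 31317) (l := 5) rfl N31317 D110583
theorem N58850 : nd 58850 = n110584 := ndS (p := 31317) (l := 6) rfl N31317 D110584
theorem N58851 : nd 58851 = n110585 := ndS (p := 31318) (l := 6) rfl N31318 D110585
theorem N58852 : nd 58852 = n110586 := ndS (p := 31319) (l := 5) rfl N31319 D110586
theorem N58853 : nd 58853 = n110587 := ndS (p := 31320) (l := 0) rfl N31320 D110587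
theorem N58854 : nd 58854 = n110588 := ndS (p := 31320) (l := 1) rfl N31320 D110588
theorem N58855 : nd 58855 = n110589 := ndS (p := 31320) (l := 2) rfl N31320 D110589
theorem N58856 : nd 58856 = n110594 := ndS (p := 31323) (l := 1) rfl N31323 D110594
theorem N58857 : nd 58857 = n110595 := ndS (p := 31324) (l := 3) rfl N31324 D110595
theorem N58858 : nd 58858 = n110596 := ndS (p := 31324) (l := 6) rfl N31324 D110596
theorem N58859 : nd 58859 = n110597 := ndS (p := 31325) (l := 0) rfl N31325 D110597
theorem N58860 : nd 58860 = n110598 := ndS (p := 31325) (l := 1) rfl N31325 D110598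
theorem N58861 : nd 58861 = n110599 := ndS (p := 31325) (l := 6) rfl N31325 D110599
theorem N58862 : nd 58862 = n110600 := ndS (p := 31326) (l := 6) rfl N31326 D110600
theorem N58863 : nd 58863 = n110601 := ndS (p := 31327) (l := 1) rfl N31327 D110601
theorem N58864 : nd 58864 = n110602 := ndS (p := 31327) (l := 5) rfl N31327 D110602
theorem N58865 : nd 58865 = n110603 := ndS (p := 31328) (l := 0) rfl N31328 D110603
theorem N58866 : nd 58866 = n110605 := ndS (p := 31328) (l := 7) rfl N31328 D110605
theorem N58867 : nd 58867 = n110606 := ndS (p := 31329) (l := 0) rfl N31329 D110606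
theorem N58868 : nd 58868 = n110607 := ndS (p := 31329) (l := 1) rfl N31329 D110607
theorem N58869 : nd 58869 = n110608 := ndS (p := 31329) (l := 2) rfl N31329 D110608
theorem N58870 : nd 58870 = n110613 := ndS (p := 31331) (l := 1) rfl N31331 D110613
theorem N58871 : nd 58871 = n110615 := ndS (p := 31331) (l := 7) rfl N31331 D110615
theorem N58872 : nd 58872 = n110616 := ndS (p := 31332) (l := 4) rfl N31332 D110616
theorem N58873 : nd 58873 = n110617 := ndS (p := 31332) (l := 5) rfl N31332 D110617
theorem N58874 : nd 58874 = n110618 := ndS (p := 31334) (l := 0) rfl N31334 D110618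
theorem N58875 : nd 58875 = n110620 := ndS (p := 31334) (l := 2) rfl N31334 D110620
theorem N58876 : nd 58876 = n110621 := ndS (p := 31334) (l := 5) rfl N31334 D110621
theorem N58877 : nd 58877 = n110622 := ndS (p := 31334) (l := 6) rfl N31334 D110622
theorem N58878 : nd 58878 = n110623 := ndS (p := 31335) (l := 6) rfl N31335 D110623
theorem N58879 : nd 58879 = n110624 := ndS (p := 31336) (l := 5) rfl N31336 D110624
theorem N58880 : nd 58880 = n110625 := ndS (p := 31337) (l := 6) rfl N31337 D110625
theorem N58881 : nd 58881 = n110627 := ndS (p := 31339) (l := 5) rfl N31339 D110627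
theorem N58882 : nd 58882 = n110628 := ndS (p := 31339) (l := 7) rfl N31339 D110628
theorem N58883 : nd 58883 = n110630 := ndS (p := 31340) (l := 3) rfl N31340 D110630
theorem N58884 : nd 58884 = n110635 := ndS (p := 31341) (l := 3) rfl N31341 D110635
theorem N58885 : nd 58885 = n110638 := ndS (p := 31342) (l := 5) rfl N31342 D110638
theorem N58886 : nd 58886 = n110647 := ndS (p := 31345) (l := 3) rfl N31345 D110647
theorem N58887 : nd 58887 = n110648 := ndS (p := 31345) (l := 6) rfl N31345 D110648
theorem N58888 : nd 58888 = n110650 := ndS (p := 31346) (l := 1) rfl N31346 D110650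
theorem N58889 : nd 58889 = n110652 := ndS (p := 31346) (l := 7) rfl N31346 D110652
theorem N58890 : nd 58890 = n110657 := ndS (p := 31348) (l := 4) rfl N31348 D110657
theorem N58891 : nd 58891 = n110659 := ndS (p := 31350) (l := 4) rfl N31350 D110659
theorem N58892 : nd 58892 = n110660 := ndS (p := 31351) (l := 3) rfl N31351 D110660
theorem N58893 : nd 58893 = n110661 := ndS (p := 31351) (l := 5) rfl N31351 D110661
theorem N58894 : nd 58894 = n110692 := ndS (p := 31353) (l := 4) rfl N31353 D110692
theorem N58895 : nd 58895 = n110694 := ndS (p := 31354) (l := 3) rfl N31354 D110694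
theorem N58896 : nd 58896 = n110729 := ndS (p := 31355) (l := 5) rfl N31355 D110729
theorem N58897 : nd 58897 = n110735 := ndS (p := 31356) (l := 0) rfl N31356 D110735
theorem N58898 : nd 58898 = n110736 := ndS (p := 31356) (l := 1) rfl N31356 D110736
theorem N58899 : nd 58899 = n110737 := ndS (p := 31356) (l := 2) rfl N31356 D110737
theorem N58900 : nd 58900 = n110738 := ndS (p := 31356) (l := 5) rfl N31356 D110738
theorem N58901 : nd 58901 = n110739 := ndS (p := 31357) (l := 6) rfl N31357 D110739
theorem N58902 : nd 58902 = n110740 := ndS (p := 31358) (l := 3) rfl N31358 D110740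
theorem N58903 : nd 58903 = n110742 := ndS (p := 31358) (l := 6) rfl N31358 D110742
theorem N58904 : nd 58904 = n110744 := ndS (p := 31359) (l := 6) rfl N31359 D110744
theorem N58905 : nd 58905 = n110745 := ndS (p := 31363) (l := 1) rfl N31363 D110745
theorem N58906 : nd 58906 = n110746 := ndS (p := 31363) (l := 5) rfl N31363 D110746
theorem N58907 : nd 58907 = n110747 := ndS (p := 31364) (l := 4) rfl N31364 D110747
theorem N58908 : nd 58908 = n110748 := ndS (p := 31364) (l := 6) rfl N31364 D110748
theorem N58909 : nd 58909 = n110749 := ndS (p := 31364) (l := 7) rfl N31364 D110749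
theorem N58910 : nd 58910 = n110751 := ndS (p := 31366) (l := 6) rfl N31366 D110751
theorem N58911 : nd 58911 = n110752 := ndS (p := 31368) (l := 0) rfl N31368 D110752
theorem N58912 : nd 58912 = n110753 := ndS (p := 31368) (l := 1) rfl N31368 D110753
theorem N58913 : nd 58913 = n110754 := ndS (p := 31368) (l := 4) rfl N31368 D110754
theorem N58914 : nd 58914 = n110755 := ndS (p := 31368) (l := 6) rfl N31368 D110755
theorem N58915 : nd 58915 = n110756 := ndS (p := 31369) (l := 4) rfl N31369 D110756
theorem N58916 : nd 58916 = n110757 := ndS (p := 31369) (l := 6) rfl N31369 D110757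
theorem N58917 : nd 58917 = n110759 := ndS (p := 31370) (l := 6) rfl N31370 D110759
theorem N58918 : nd 58918 = n110760 := ndS (p := 31371) (l := 0) rfl N31371 D110760
theorem N58919 : nd 58919 = n110761 := ndS (p := 31371) (l := 1) rfl N31371 D110761
theorem N58920 : nd 58920 = n110762 := ndS (p := 31371) (l := 3) rfl N31371 D110762
theorem N58921 : nd 58921 = n110763 := ndS (p := 31371) (l := 5) rfl N31371 D110763
theorem N58922 : nd 58922 = n110764 := ndS (p := 31371) (l := 6) rfl N31371 D110764
theorem N58923 : nd 58923 = n110765 := ndS (p := 31371) (l := 7) rfl N31371 D110765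
theorem N58924 : nd 58924 = n110766 := ndS (p := 31372) (l := 0) rfl N31372 D110766
theorem N58925 : nd 58925 = n110767 := ndS (p := 31372) (l := 1) rfl N31372 D110767
theorem N58926 : nd 58926 = n110768 := ndS (p := 31372) (l := 7) rfl N31372 D110768
theorem N58927 : nd 58927 = n110769 := ndS (p := 31373) (l := 6) rfl N31373 D110769
theorem N58928 : nd 58928 = n110770 := ndS (p := 31374) (l := 0) rfl N31374 D110770
theorem N58929 : nd 58929 = n110771 := ndS (p := 31374) (l := 1) rfl N31374 D110771
theorem N58930 : nd 58930 = n110772 := ndS (p := 31374) (l := 2) rfl N31374 D110772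
theorem N58931 : nd 58931 = n110773 := ndS (p := 31374) (l := 6) rfl N31374 D110773
theorem N58932 : nd 58932 = n110777 := ndS (p := 31375) (l := 7) rfl N31375 D110777
theorem N58933 : nd 58933 = n110778 := ndS (p := 31376) (l := 3) rfl N31376 D110778
theorem N58934 : nd 58934 = n110780 := ndS (p := 31376) (l := 6) rfl N31376 D110780
theorem N58935 : nd 58935 = n110781 := ndS (p := 31377) (l := 3) rfl N31377 D110781
theorem N58936 : nd 58936 = n110783 := ndS (p := 31377) (l := 6) rfl N31377 D110783
theorem N58937 : nd 58937 = n110784 := ndS (p := 31378) (l := 6) rfl N31378 D110784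
theorem N58938 : nd 58938 = n110785 := ndS (p := 31379) (l := 0) rfl N31379 D110785
theorem N58939 : nd 58939 = n110786 := ndS (p := 31379) (l := 1) rfl N31379 D110786
theorem N58940 : nd 58940 = n110787 := ndS (p := 31381) (l := 3) rfl N31381 D110787
theorem N58941 : nd 58941 = n110788 := ndS (p := 31381) (l := 6) rfl N31381 D110788
theorem N58942 : nd 58942 = n110789 := ndS (p := 31382) (l := 0) rfl N31382 D110789
theorem N58943 : nd 58943 = n110790 := ndS (p := 31382) (l := 7) rfl N31382 D110790
theorem N58944 : nd 58944 = n110791 := ndS (p := 31383) (l := 0) rfl N31383 D110791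
theorem N58945 : nd 58945 = n110792 := ndS (p := 31383) (l := 7) rfl N31383 D110792
theorem N58946 : nd 58946 = n110793 := ndS (p := 31384) (l := 0) rfl N31384 D110793
theorem N58947 : nd 58947 = n110794 := ndS (p := 31384) (l := 1) rfl N31384 D110794
theorem N58948 : nd 58948 = n110795 := ndS (p := 31384) (l := 2) rfl N31384 D110795
theorem N58949 : nd 58949 = n110796 := ndS (p := 31384) (l := 5) rfl N31384 D110796
theorem N58950 : nd 58950 = n110797 := ndS (p := 31385) (l := 6) rfl N31385 D110797
theorem N58951 : nd 58951 = n110798 := ndS (p := 31387) (l := 6) rfl N31387 D110798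
theorem N58952 : nd 58952 = n110799 := ndS (p := 31388) (l := 3) rfl N31388 D110799
theorem N58953 : nd 58953 = n110801 := ndS (p := 31389) (l := 0) rfl N31389 D110801
theorem N58954 : nd 58954 = n110802 := ndS (p := 31389) (l := 7) rfl N31389 D110802
theorem N58955 : nd 58955 = n110803 := ndS (p := 31390) (l := 0) rfl N31390 D110803
theorem N58956 : nd 58956 = n110804 := ndS (p := 31390) (l := 7) rfl N31390 D110804
theorem N58957 : nd 58957 = n110806 := ndS (p := 31391) (l := 1) rfl N31391 D110806
theorem N58958 : nd 58958 = n110807 := ndS (p := 31391) (l := 2) rfl N31391 D110807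
theorem N58959 : nd 58959 = n110808 := ndS (p := 31391) (l := 5) rfl N31391 D110808
theorem N58960 : nd 58960 = n110809 := ndS (p := 31392) (l := 6) rfl N31392 D110809
theorem N58961 : nd 58961 = n110810 := ndS (p := 31394) (l := 7) rfl N31394 D110810
theorem N58962 : nd 58962 = n110811 := ndS (p := 31395) (l := 1) rfl N31395 D110811
theorem N58963 : nd 58963 = n110812 := ndS (p := 31395) (l := 7) rfl N31395 D110812
theorem N58964 : nd 58964 = n110813 := ndS (p := 31396) (l := 0) rfl N31396 D110813
theorem N58965 : nd 58965 = n110814 := ndS (p := 31396) (l := 1) rfl N31396 D110814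
theorem N58966 : nd 58966 = n110815 := ndS (p := 31396) (l := 2) rfl N31396 D110815
theorem N58967 : nd 58967 = n110816 := ndS (p := 31396) (l := 5) rfl N31396 D110816
theorem N58968 : nd 58968 = n110817 := ndS (p := 31397) (l := 6) rfl N31397 D110817
theorem N58969 : nd 58969 = n110818 := ndS (p := 31398) (l := 0) rfl N31398 D110818
theorem N58970 : nd 58970 = n110819 := ndS (p := 31399) (l := 0) rfl N31399 D110819
theorem N58971 : nd 58971 = n110820 := ndS (p := 31399) (l := 1) rfl N31399 D110820
theorem N58972 : nd 58972 = n110821 := ndS (p := 31400) (l := 1) rfl N31400 D110821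
theorem N58973 : nd 58973 = n110822 := ndS (p := 31400) (l := 7) rfl N31400 D110822
theorem N58974 : nd 58974 = n110823 := ndS (p := 31401) (l := 0) rfl N31401 D110823
theorem N58975 : nd 58975 = n110824 := ndS (p := 31401) (l := 1) rfl N31401 D110824
theorem N58976 : nd 58976 = n110825 := ndS (p := 31401) (l := 2) rfl N31401 D110825
theorem N58977 : nd 58977 = n110826 := ndS (p := 31401) (l := 5) rfl N31401 D110826
theorem N58978 : nd 58978 = n110827 := ndS (p := 31402) (l := 6) rfl N31402 D110827
theorem N58979 : nd 58979 = n110828 := ndS (p := 31404) (l := 3) rfl N31404 D110828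
theorem N58980 : nd 58980 = n110829 := ndS (p := 31404) (l := 6) rfl N31404 D110829
theorem N58981 : nd 58981 = n110830 := ndS (p := 31405) (l := 0) rfl N31405 D110830
theorem N58982 : nd 58982 = n110831 := ndS (p := 31405) (l := 7) rfl N31405 D110831
theorem N58983 : nd 58983 = n110832 := ndS (p := 31406) (l := 0) rfl N31406 D110832
theorem N58984 : nd 58984 = n110833 := ndS (p := 31406) (l := 7) rfl N31406 D110833
theorem N58985 : nd 58985 = n110834 := ndS (p := 31407) (l := 0) rfl N31407 D110834
theorem N58986 : nd 58986 = n110835 := ndS (p := 31407) (l := 1) rfl N31407 D110835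
theorem N58987 : nd 58987 = n110841 := ndS (p := 31411) (l := 6) rfl N31411 D110841
theorem N58988 : nd 58988 = n110842 := ndS (p := 31413) (l := 0) rfl N31413 D110842
theorem N58989 : nd 58989 = n110843 := ndS (p := 31413) (l := 7) rfl N31413 D110843
theorem N58990 : nd 58990 = n110844 := ndS (p := 31414) (l := 3) rfl N31414 D110844
theorem N58991 : nd 58991 = n110845 := ndS (p := 31414) (l := 6) rfl N31414 D110845
theorem N58992 : nd 58992 = n110846 := ndS (p := 31416) (l := 1) rfl N31416 D110846
theorem N58993 : nd 58993 = n110847 := ndS (p := 31416) (l := 2) rfl N31416 D110847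
theorem N58994 : nd 58994 = n110848 := ndS (p := 31416) (l := 5) rfl N31416 D110848
theorem N58995 : nd 58995 = n110849 := ndS (p := 31416) (l := 6) rfl N31416 D110849
theorem N58996 : nd 58996 = n110853 := ndS (p := 31421) (l := 0) rfl N31421 D110853
theorem N58997 : nd 58997 = n110854 := ndS (p := 31421) (l := 1) rfl N31421 D110854
theorem N58998 : nd 58998 = n110855 := ndS (p := 31421) (l := 2) rfl N31421 D110855
theorem N58999 : nd 58999 = n110856 := ndS (p := 31421) (l := 5) rfl N31421 D110856
theorem N59000 : nd 59000 = n110858 := ndS (p := 31422) (l := 6) rfl N31422 D110858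
theorem N59001 : nd 59001 = n110859 := ndS (p := 31423) (l := 5) rfl N31423 D110859
theorem N59002 : nd 59002 = n110860 := ndS (p := 31424) (l := 5) rfl N31424 D110860
theorem N59003 : nd 59003 = n110861 := ndS (p := 31425) (l := 5) rfl N31425 D110861
theorem N59004 : nd 59004 = n110862 := ndS (p := 31425) (l := 6) rfl N31425 D110862
theorem N59005 : nd 59005 = n110863 := ndS (p := 31428) (l := 0) rfl N31428 D110863
theorem N59006 : nd 59006 = n110864 := ndS (p := 31428) (l := 7) rfl N31428 D110864
theorem N59007 : nd 59007 = n110865 := ndS (p := 31429) (l := 1) rfl N31429 D110865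
theorem N59008 : nd 59008 = n110866 := ndS (p := 31429) (l := 2) rfl N31429 D110866
theorem N59009 : nd 59009 = n110867 := ndS (p := 31429) (l := 5) rfl N31429 D110867
theorem N59010 : nd 59010 = n110868 := ndS (p := 31429) (l := 6) rfl N31429 D110868
theorem N59011 : nd 59011 = n110869 := ndS (p := 31430) (l := 6) rfl N31430 D110869
theorem N59012 : nd 59012 = n110870 := ndS (p := 31431) (l := 5) rfl N31431 D110870
theorem N59013 : nd 59013 = n110871 := ndS (p := 31431) (l := 7) rfl N31431 D110871
theorem N59014 : nd 59014 = n110872 := ndS (p := 31432) (l := 4) rfl N31432 D110872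
theorem N59015 : nd 59015 = n110873 := ndS (p := 31432) (l := 6) rfl N31432 D110873
theorem N59016 : nd 59016 = n110874 := ndS (p := 31433) (l := 4) rfl N31433 D110874
theorem N59017 : nd 59017 = n110875 := ndS (p := 31433) (l := 5) rfl N31433 D110875
theorem N59018 : nd 59018 = n110876 := ndS (p := 31434) (l := 1) rfl N31434 D110876
theorem N59019 : nd 59019 = n110878 := ndS (p := 31434) (l := 7) rfl N31434 D110878
theorem N59020 : nd 59020 = n110879 := ndS (p := 31436) (l := 0) rfl N31436 D110879
theorem N59021 : nd 59021 = n110880 := ndS (p := 31436) (l := 1) rfl N31436 D110880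
theorem N59022 : nd 59022 = n110881 := ndS (p := 31436) (l := 2) rfl N31436 D110881
theorem N59023 : nd 59023 = n110882 := ndS (p := 31436) (l := 5) rfl N31436 D110882
theorem N59024 : nd 59024 = n110883 := ndS (p := 31436) (l := 6) rfl N31436 D110883
theorem N59025 : nd 59025 = n110884 := ndS (p := 31437) (l := 6) rfl N31437 D110884
theorem N59026 : nd 59026 = n110885 := ndS (p := 31438) (l := 5) rfl N31438 D110885
theorem N59027 : nd 59027 = n110886 := ndS (p := 31438) (l := 7) rfl N31438 D110886
theorem N59028 : nd 59028 = n110887 := ndS (p := 31439) (l := 0) rfl N31439 D110887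
theorem N59029 : nd 59029 = n110888 := ndS (p := 31439) (l := 2) rfl N31439 D110888
theorem N59030 : nd 59030 = n110889 := ndS (p := 31439) (l := 3) rfl N31439 D110889
theorem N59031 : nd 59031 = n110890 := ndS (p := 31439) (l := 4) rfl N31439 D110890
theorem N59032 : nd 59032 = n110891 := ndS (p := 31439) (l := 5) rfl N31439 D110891
theorem N59033 : nd 59033 = n110892 := ndS (p := 31439) (l := 6) rfl N31439 D110892
theorem N59034 : nd 59034 = n110893 := ndS (p := 31439) (l := 7) rfl N31439 D110893
theorem N59035 : nd 59035 = n110894 := ndS (p := 31440) (l := 3) rfl N31440 D110894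
theorem N59036 : nd 59036 = n110895 := ndS (p := 31440) (l := 5) rfl N31440 D110895
theorem N59037 : nd 59037 = n110896 := ndS (p := 31440) (l := 6) rfl N31440 D110896
theorem N59038 : nd 59038 = n110899 := ndS (p := 31441) (l := 5) rfl N31441 D110899
theorem N59039 : nd 59039 = n110900 := ndS (p := 31442) (l := 0) rfl N31442 D110900
theorem N59040 : nd 59040 = n110901 := ndS (p := 31442) (l := 1) rfl N31442 D110901
theorem N59041 : nd 59041 = n110902 := ndS (p := 31442) (l := 4) rfl N31442 D110902
theorem N59042 : nd 59042 = n110903 := ndS (p := 31442) (l := 6) rfl N31442 D110903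
theorem N59043 : nd 59043 = n110904 := ndS (p := 31442) (l := 7) rfl N31442 D110904
theorem N59044 : nd 59044 = n110906 := ndS (p := 31444) (l := 3) rfl N31444 D110906
theorem N59045 : nd 59045 = n110908 := ndS (p := 31445) (l := 3) rfl N31445 D110908
theorem N59046 : nd 59046 = n110909 := ndS (p := 31445) (l := 6) rfl N31445 D110909
theorem N59047 : nd 59047 = n110910 := ndS (p := 31446) (l := 0) rfl N31446 D110910
theorem N59048 : nd 59048 = n110911 := ndS (p := 31446) (l := 1) rfl N31446 D110911
theorem N59049 : nd 59049 = n110912 := ndS (p := 31446) (l := 7) rfl N31446 D110912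
theorem N59050 : nd 59050 = n110913 := ndS (p := 31447) (l := 6) rfl N31447 D110913
theorem N59051 : nd 59051 = n110914 := ndS (p := 31448) (l := 1) rfl N31448 D110914
theorem N59052 : nd 59052 = n110917 := ndS (p := 31449) (l := 5) rfl N31449 D110917
theorem N59053 : nd 59053 = n110918 := ndS (p := 31449) (l := 6) rfl N31449 D110918
theorem N59054 : nd 59054 = n110920 := ndS (p := 31450) (l := 5) rfl N31450 D110920
theorem N59055 : nd 59055 = n110921 := ndS (p := 31450) (l := 6) rfl N31450 D110921
theorem N59056 : nd 59056 = n110922 := ndS (p := 31451) (l := 0) rfl N31451 D110922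
theorem N59057 : nd 59057 = n110923 := ndS (p := 31451) (l := 1) rfl N31451 D110923
theorem N59058 : nd 59058 = n110924 := ndS (p := 31451) (l := 2) rfl N31451 D110924
theorem N59059 : nd 59059 = n110925 := ndS (p := 31451) (l := 5) rfl N31451 D110925
theorem N59060 : nd 59060 = n110927 := ndS (p := 31452) (l := 6) rfl N31452 D110927
theorem N59061 : nd 59061 = n110928 := ndS (p := 31453) (l := 0) rfl N31453 D110928
theorem N59062 : nd 59062 = n110929 := ndS (p := 31453) (l := 1) rfl N31453 D110929
theorem N59063 : nd 59063 = n110930 := ndS (p := 31453) (l := 5) rfl N31453 D110930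
theorem N59064 : nd 59064 = n110931 := ndS (p := 31453) (l := 7) rfl N31453 D110931
theorem N59065 : nd 59065 = n110932 := ndS (p := 31455) (l := 6) rfl N31455 D110932
theorem N59066 : nd 59066 = n110933 := ndS (p := 31457) (l := 0) rfl N31457 D110933
theorem N59067 : nd 59067 = n110934 := ndS (p := 31457) (l := 1) rfl N31457 D110934
theorem N59068 : nd 59068 = n110935 := ndS (p := 31457) (l := 2) rfl N31457 D110935
theorem N59069 : nd 59069 = n110936 := ndS (p := 31457) (l := 5) rfl N31457 D110936
theorem N59070 : nd 59070 = n110937 := ndS (p := 31457) (l := 6) rfl N31457 D110937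
theorem N59071 : nd 59071 = n110938 := ndS (p := 31458) (l := 6) rfl N31458 D110938
theorem N59072 : nd 59072 = n110939 := ndS (p := 31459) (l := 0) rfl N31459 D110939
theorem N59073 : nd 59073 = n110940 := ndS (p := 31459) (l := 1) rfl N31459 D110940
theorem N59074 : nd 59074 = n110941 := ndS (p := 31459) (l := 5) rfl N31459 D110941
theorem N59075 : nd 59075 = n110942 := ndS (p := 31459) (l := 7) rfl N31459 D110942
theorem N59076 : nd 59076 = n110943 := ndS (p := 31460) (l := 5) rfl N31460 D110943
theorem N59077 : nd 59077 = n110944 := ndS (p := 31463) (l := 0) rfl N31463 D110944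
theorem N59078 : nd 59078 = n110945 := ndS (p := 31463) (l := 2) rfl N31463 D110945
theorem N59079 : nd 59079 = n110946 := ndS (p := 31463) (l := 3) rfl N31463 D110946
theorem N59080 : nd 59080 = n110947 := ndS (p := 31463) (l := 4) rfl N31463 D110947
theorem N59081 : nd 59081 = n110948 := ndS (p := 31463) (l := 5) rfl N31463 D110948
theorem N59082 : nd 59082 = n110949 := ndS (p := 31463) (l := 6) rfl N31463 D110949
theorem N59083 : nd 59083 = n110950 := ndS (p := 31463) (l := 7) rfl N31463 D110950
theorem N59084 : nd 59084 = n110951 := ndS (p := 31464) (l := 3) rfl N31464 D110951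
theorem N59085 : nd 59085 = n110952 := ndS (p := 31464) (l := 4) rfl N31464 D110952
theorem N59086 : nd 59086 = n110953 := ndS (p := 31464) (l := 5) rfl N31464 D110953
theorem N59087 : nd 59087 = n110954 := ndS (p := 31464) (l := 6) rfl N31464 D110954
theorem N59088 : nd 59088 = n110957 := ndS (p := 31465) (l := 5) rfl N31465 D110957
theorem N59089 : nd 59089 = n110958 := ndS (p := 31466) (l := 0) rfl N31466 D110958
theorem N59090 : nd 59090 = n110959 := ndS (p := 31466) (l := 1) rfl N31466 D110959
theorem N59091 : nd 59091 = n110962 := ndS (p := 31467) (l := 6) rfl N31467 D110962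
theorem N59092 : nd 59092 = n110963 := ndS (p := 31468) (l := 0) rfl N31468 D110963
theorem N59093 : nd 59093 = n110964 := ndS (p := 31468) (l := 1) rfl N31468 D110964
theorem N59094 : nd 59094 = n110965 := ndS (p := 31468) (l := 7) rfl N31468 D110965
theorem N59095 : nd 59095 = n110966 := ndS (p := 31469) (l := 5) rfl N31469 D110966
theorem N59096 : nd 59096 = n110968 := ndS (p := 31470) (l := 3) rfl N31470 D110968
theorem N59097 : nd 59097 = n110969 := ndS (p := 31470) (l := 4) rfl N31470 D110969
theorem N59098 : nd 59098 = n110971 := ndS (p := 31470) (l := 6) rfl N31470 D110971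
theorem N59099 : nd 59099 = n110973 := ndS (p := 31471) (l := 3) rfl N31471 D110973
theorem N59100 : nd 59100 = n110974 := ndS (p := 31471) (l := 4) rfl N31471 D110974
theorem N59101 : nd 59101 = n110976 := ndS (p := 31471) (l := 6) rfl N31471 D110976
theorem N59102 : nd 59102 = n110982 := ndS (p := 31473) (l := 3) rfl N31473 D110982
theorem N59103 : nd 59103 = n110983 := ndS (p := 31473) (l := 5) rfl N31473 D110983
theorem N59104 : nd 59104 = n110984 := ndS (p := 31474) (l := 3) rfl N31474 D110984
theorem N59105 : nd 59105 = n110985 := ndS (p := 31474) (l := 5) rfl N31474 D110985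
theorem N59106 : nd 59106 = n110986 := ndS (p := 31474) (l := 6) rfl N31474 D110986
theorem N59107 : nd 59107 = n110987 := ndS (p := 31475) (l := 0) rfl N31475 D110987
theorem N59108 : nd 59108 = n110988 := ndS (p := 31475) (l := 1) rfl N31475 D110988
theorem N59109 : nd 59109 = n110989 := ndS (p := 31475) (l := 4) rfl N31475 D110989
theorem N59110 : nd 59110 = n110990 := ndS (p := 31475) (l := 7) rfl N31475 D110990
theorem N59111 : nd 59111 = n110991 := ndS (p := 31479) (l := 3) rfl N31479 D110991
theorem N59112 : nd 59112 = n110992 := ndS (p := 31479) (l := 6) rfl N31479 D110992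
theorem N59113 : nd 59113 = n110993 := ndS (p := 31481) (l := 0) rfl N31481 D110993
theorem N59114 : nd 59114 = n110994 := ndS (p := 31481) (l := 1) rfl N31481 D110994
theorem N59115 : nd 59115 = n110998 := ndS (p := 31483) (l := 0) rfl N31483 D110998
theorem N59116 : nd 59116 = n110999 := ndS (p := 31483) (l := 1) rfl N31483 D110999
theorem N59117 : nd 59117 = n111003 := ndS (p := 31485) (l := 0) rfl N31485 D111003
theorem N59118 : nd 59118 = n111004 := ndS (p := 31485) (l := 1) rfl N31485 D111004
theorem N59119 : nd 59119 = n111005 := ndS (p := 31485) (l := 5) rfl N31485 D111005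
theorem N59120 : nd 59120 = n111006 := ndS (p := 31485) (l := 6) rfl N31485 D111006
theorem N59121 : nd 59121 = n111007 := ndS (p := 31486) (l := 6) rfl N31486 D111007
theorem N59122 : nd 59122 = n111008 := ndS (p := 31487) (l := 1) rfl N31487 D111008
theorem N59123 : nd 59123 = n111009 := ndS (p := 31487) (l := 5) rfl N31487 D111009
theorem N59124 : nd 59124 = n111010 := ndS (p := 31487) (l := 7) rfl N31487 D111010
theorem N59125 : nd 59125 = n111011 := ndS (p := 31488) (l := 4) rfl N31488 D111011
theorem N59126 : nd 59126 = n111012 := ndS (p := 31488) (l := 5) rfl N31488 D111012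
theorem N59127 : nd 59127 = n111013 := ndS (p := 31489) (l := 3) rfl N31489 D111013
theorem N59128 : nd 59128 = n111014 := ndS (p := 31489) (l := 4) rfl N31489 D111014
theorem N59129 : nd 59129 = n111015 := ndS (p := 31489) (l := 6) rfl N31489 D111015
theorem N59130 : nd 59130 = n111016 := ndS (p := 31491) (l := 3) rfl N31491 D111016
theorem N59131 : nd 59131 = n111017 := ndS (p := 31491) (l := 4) rfl N31491 D111017
theorem N59132 : nd 59132 = n111018 := ndS (p := 31491) (l := 6) rfl N31491 D111018
theorem N59133 : nd 59133 = n111019 := ndS (p := 31492) (l := 3) rfl N31492 D111019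
theorem N59134 : nd 59134 = n111020 := ndS (p := 31492) (l := 4) rfl N31492 D111020
theorem N59135 : nd 59135 = n111022 := ndS (p := 31493) (l := 6) rfl N31493 D111022
theorem N59136 : nd 59136 = n111023 := ndS (p := 31494) (l := 0) rfl N31494 D111023
theorem N59137 : nd 59137 = n111024 := ndS (p := 31494) (l := 1) rfl N31494 D111024
theorem N59138 : nd 59138 = n111025 := ndS (p := 31494) (l := 5) rfl N31494 D111025
theorem N59139 : nd 59139 = n111026 := ndS (p := 31494) (l := 7) rfl N31494 D111026
theorem N59140 : nd 59140 = n111027 := ndS (p := 31495) (l := 3) rfl N31495 D111027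
theorem N59141 : nd 59141 = n111028 := ndS (p := 31495) (l := 5) rfl N31495 D111028
theorem N59142 : nd 59142 = n111029 := ndS (p := 31496) (l := 3) rfl N31496 D111029
theorem N59143 : nd 59143 = n111030 := ndS (p := 31496) (l := 5) rfl N31496 D111030
theorem N59144 : nd 59144 = n111031 := ndS (p := 31496) (l := 6) rfl N31496 D111031
theorem N59145 : nd 59145 = n111032 := ndS (p := 31497) (l := 0) rfl N31497 D111032
theorem N59146 : nd 59146 = n111033 := ndS (p := 31497) (l := 1) rfl N31497 D111033
theorem N59147 : nd 59147 = n111034 := ndS (p := 31497) (l := 4) rfl N31497 D111034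
theorem N59148 : nd 59148 = n111035 := ndS (p := 31497) (l := 7) rfl N31497 D111035
theorem N59149 : nd 59149 = n111039 := ndS (p := 31504) (l := 1) rfl N31504 D111039
theorem N59150 : nd 59150 = n111040 := ndS (p := 31504) (l := 3) rfl N31504 D111040
theorem N59151 : nd 59151 = n111041 := ndS (p := 31504) (l := 5) rfl N31504 D111041
theorem N59152 : nd 59152 = n111042 := ndS (p := 31504) (l := 7) rfl N31504 D111042
theorem N59153 : nd 59153 = n111043 := ndS (p := 31506) (l := 3) rfl N31506 D111043
theorem N59154 : nd 59154 = n111044 := ndS (p := 31506) (l := 5) rfl N31506 D111044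
theorem N59155 : nd 59155 = n111045 := ndS (p := 31506) (l := 6) rfl N31506 D111045
theorem N59156 : nd 59156 = n111046 := ndS (p := 31507) (l := 3) rfl N31507 D111046
theorem N59157 : nd 59157 = n111047 := ndS (p := 31507) (l := 5) rfl N31507 D111047
theorem N59158 : nd 59158 = n111048 := ndS (p := 31508) (l := 0) rfl N31508 D111048
theorem N59159 : nd 59159 = n111049 := ndS (p := 31508) (l := 1) rfl N31508 D111049
theorem N59160 : nd 59160 = n111050 := ndS (p := 31508) (l := 4) rfl N31508 D111050
theorem N59161 : nd 59161 = n111051 := ndS (p := 31508) (l := 7) rfl N31508 D111051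
theorem N59162 : nd 59162 = n111052 := ndS (p := 31512) (l := 6) rfl N31512 D111052
theorem N59163 : nd 59163 = n111055 := ndS (p := 31513) (l := 3) rfl N31513 D111055
theorem N59164 : nd 59164 = n111056 := ndS (p := 31513) (l := 4) rfl N31513 D111056
theorem N59165 : nd 59165 = n111058 := ndS (p := 31513) (l := 6) rfl N31513 D111058
theorem N59166 : nd 59166 = n111061 := ndS (p := 31514) (l := 5) rfl N31514 D111061
theorem N59167 : nd 59167 = n111062 := ndS (p := 31514) (l := 6) rfl N31514 D111062
theorem N59168 : nd 59168 = n111064 := ndS (p := 31515) (l := 1) rfl N31515 D111064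
theorem N59169 : nd 59169 = n111065 := ndS (p := 31515) (l := 3) rfl N31515 D111065
theorem N59170 : nd 59170 = n111066 := ndS (p := 31515) (l := 5) rfl N31515 D111066
theorem N59171 : nd 59171 = n111067 := ndS (p := 31515) (l := 6) rfl N31515 D111067
theorem N59172 : nd 59172 = n111068 := ndS (p := 31515) (l := 7) rfl N31515 D111068
theorem N59173 : nd 59173 = n111071 := ndS (p := 31516) (l := 4) rfl N31516 D111071
theorem N59174 : nd 59174 = n111072 := ndS (p := 31516) (l := 6) rfl N31516 D111072
theorem N59175 : nd 59175 = n111074 := ndS (p := 31517) (l := 0) rfl N31517 D111074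
theorem N59176 : nd 59176 = n111076 := ndS (p := 31517) (l := 5) rfl N31517 D111076
theorem N59177 : nd 59177 = n111077 := ndS (p := 31517) (l := 7) rfl N31517 D111077
theorem N59178 : nd 59178 = n111078 := ndS (p := 31518) (l := 6) rfl N31518 D111078
theorem N59179 : nd 59179 = n111079 := ndS (p := 31519) (l := 0) rfl N31519 D111079
theorem N59180 : nd 59180 = n111080 := ndS (p := 31519) (l := 2) rfl N31519 D111080
theorem N59181 : nd 59181 = n111081 := ndS (p := 31519) (l := 4) rfl N31519 D111081
theorem N59182 : nd 59182 = n111082 := ndS (p := 31519) (l := 5) rfl N31519 D111082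
theorem N59183 : nd 59183 = n111083 := ndS (p := 31519) (l := 6) rfl N31519 D111083
theorem N59184 : nd 59184 = n111084 := ndS (p := 31520) (l := 5) rfl N31520 D111084
theorem N59185 : nd 59185 = n111085 := ndS (p := 31520) (l := 6) rfl N31520 D111085
theorem N59186 : nd 59186 = n111086 := ndS (p := 31521) (l := 4) rfl N31521 D111086
theorem N59187 : nd 59187 = n111087 := ndS (p := 31521) (l := 6) rfl N31521 D111087
theorem N59188 : nd 59188 = n111089 := ndS (p := 31522) (l := 1) rfl N31522 D111089
theorem N59189 : nd 59189 = n111090 := ndS (p := 31522) (l := 5) rfl N31522 D111090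
theorem N59190 : nd 59190 = n111091 := ndS (p := 31522) (l := 7) rfl N31522 D111091
theorem N59191 : nd 59191 = n111101 := ndS (p := 31523) (l := 6) rfl N31523 D111101
theorem N59192 : nd 59192 = n111102 := ndS (p := 31524) (l := 3) rfl N31524 D111102
theorem N59193 : nd 59193 = n111103 := ndS (p := 31524) (l := 4) rfl N31524 D111103
theorem N59194 : nd 59194 = n111105 := ndS (p := 31524) (l := 6) rfl N31524 D111105
theorem N59195 : nd 59195 = n111106 := ndS (p := 31525) (l := 3) rfl N31525 D111106
theorem N59196 : nd 59196 = n111108 := ndS (p := 31525) (l := 6) rfl N31525 D111108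
theorem N59197 : nd 59197 = n111109 := ndS (p := 31526) (l := 0) rfl N31526 D111109
theorem N59198 : nd 59198 = n111110 := ndS (p := 31526) (l := 1) rfl N31526 D111110
theorem N59199 : nd 59199 = n111111 := ndS (p := 31526) (l := 7) rfl N31526 D111111
theorem N59200 : nd 59200 = n111112 := ndS (p := 31527) (l := 0) rfl N31527 D111112
theorem N59201 : nd 59201 = n111113 := ndS (p := 31527) (l := 1) rfl N31527 D111113
theorem N59202 : nd 59202 = n111114 := ndS (p := 31527) (l := 5) rfl N31527 D111114
theorem N59203 : nd 59203 = n111117 := ndS (p := 31528) (l := 6) rfl N31528 D111117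
theorem N59204 : nd 59204 = n111118 := ndS (p := 31529) (l := 3) rfl N31529 D111118
theorem N59205 : nd 59205 = n111119 := ndS (p := 31529) (l := 5) rfl N31529 D111119
theorem N59206 : nd 59206 = n111120 := ndS (p := 31529) (l := 6) rfl N31529 D111120
theorem N59207 : nd 59207 = n111121 := ndS (p := 31531) (l := 0) rfl N31531 D111121
theorem N59208 : nd 59208 = n111122 := ndS (p := 31531) (l := 1) rfl N31531 D111122
theorem N59209 : nd 59209 = n111123 := ndS (p := 31531) (l := 4) rfl N31531 D111123
theorem N59210 : nd 59210 = n111124 := ndS (p := 31532) (l := 4) rfl N31532 D111124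
theorem N59211 : nd 59211 = n111125 := ndS (p := 31534) (l := 4) rfl N31534 D111125
theorem N59212 : nd 59212 = n111126 := ndS (p := 31536) (l := 0) rfl N31536 D111126
theorem N59213 : nd 59213 = n111127 := ndS (p := 31536) (l := 1) rfl N31536 D111127
theorem N59214 : nd 59214 = n111128 := ndS (p := 31536) (l := 2) rfl N31536 D111128
theorem N59215 : nd 59215 = n111129 := ndS (p := 31536) (l := 5) rfl N31536 D111129
theorem N59216 : nd 59216 = n111130 := ndS (p := 31536) (l := 6) rfl N31536 D111130
theorem N59217 : nd 59217 = n111131 := ndS (p := 31537) (l := 6) rfl N31537 D111131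
theorem N59218 : nd 59218 = n111132 := ndS (p := 31538) (l := 0) rfl N31538 D111132
theorem N59219 : nd 59219 = n111133 := ndS (p := 31538) (l := 1) rfl N31538 D111133
theorem N59220 : nd 59220 = n111134 := ndS (p := 31538) (l := 5) rfl N31538 D111134
theorem N59221 : nd 59221 = n111135 := ndS (p := 31538) (l := 7) rfl N31538 D111135
theorem N59222 : nd 59222 = n111136 := ndS (p := 31539) (l := 4) rfl N31539 D111136
theorem N59223 : nd 59223 = n111137 := ndS (p := 31540) (l := 4) rfl N31540 D111137
theorem N59224 : nd 59224 = n111138 := ndS (p := 31542) (l := 0) rfl N31542 D111138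
theorem N59225 : nd 59225 = n111139 := ndS (p := 31542) (l := 1) rfl N31542 D111139
theorem N59226 : nd 59226 = n111140 := ndS (p := 31542) (l := 2) rfl N31542 D111140
theorem N59227 : nd 59227 = n111141 := ndS (p := 31542) (l := 5) rfl N31542 D111141
theorem N59228 : nd 59228 = n111142 := ndS (p := 31542) (l := 6) rfl N31542 D111142
theorem N59229 : nd 59229 = n111143 := ndS (p := 31543) (l := 6) rfl N31543 D111143
theorem N59230 : nd 59230 = n111144 := ndS (p := 31544) (l := 0) rfl N31544 D111144
theorem N59231 : nd 59231 = n111145 := ndS (p := 31544) (l := 1) rfl N31544 D111145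
theorem N59232 : nd 59232 = n111146 := ndS (p := 31544) (l := 5) rfl N31544 D111146
theorem N59233 : nd 59233 = n111147 := ndS (p := 31544) (l := 7) rfl N31544 D111147
theorem N59234 : nd 59234 = n111148 := ndS (p := 31545) (l := 4) rfl N31545 D111148
theorem N59235 : nd 59235 = n111149 := ndS (p := 31546) (l := 4) rfl N31546 D111149
theorem N59236 : nd 59236 = n111150 := ndS (p := 31546) (l := 6) rfl N31546 D111150
theorem N59237 : nd 59237 = n111151 := ndS (p := 31548) (l := 0) rfl N31548 D111151
theorem N59238 : nd 59238 = n111152 := ndS (p := 31548) (l := 1) rfl N31548 D111152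
theorem N59239 : nd 59239 = n111153 := ndS (p := 31548) (l := 2) rfl N31548 D111153
theorem N59240 : nd 59240 = n111154 := ndS (p := 31548) (l := 5) rfl N31548 D111154
theorem N59241 : nd 59241 = n111155 := ndS (p := 31548) (l := 6) rfl N31548 D111155
theorem N59242 : nd 59242 = n111156 := ndS (p := 31549) (l := 6) rfl N31549 D111156
theorem N59243 : nd 59243 = n111157 := ndS (p := 31550) (l := 5) rfl N31550 D111157
theorem N59244 : nd 59244 = n111158 := ndS (p := 31550) (l := 7) rfl N31550 D111158
theorem N59245 : nd 59245 = n111159 := ndS (p := 31551) (l := 0) rfl N31551 D111159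
theorem N59246 : nd 59246 = n111160 := ndS (p := 31551) (l := 1) rfl N31551 D111160
theorem N59247 : nd 59247 = n111161 := ndS (p := 31551) (l := 2) rfl N31551 D111161
theorem N59248 : nd 59248 = n111162 := ndS (p := 31551) (l := 5) rfl N31551 D111162
theorem N59249 : nd 59249 = n111163 := ndS (p := 31551) (l := 6) rfl N31551 D111163
theorem N59250 : nd 59250 = n111164 := ndS (p := 31552) (l := 6) rfl N31552 D111164
theorem N59251 : nd 59251 = n111165 := ndS (p := 31553) (l := 5) rfl N31553 D111165
theorem N59252 : nd 59252 = n111166 := ndS (p := 31553) (l := 7) rfl N31553 D111166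
theorem N59253 : nd 59253 = n111167 := ndS (p := 31554) (l := 0) rfl N31554 D111167
theorem N59254 : nd 59254 = n111168 := ndS (p := 31554) (l := 2) rfl N31554 D111168
theorem N59255 : nd 59255 = n111169 := ndS (p := 31554) (l := 3) rfl N31554 D111169
theorem N59256 : nd 59256 = n111170 := ndS (p := 31554) (l := 4) rfl N31554 D111170
theorem N59257 : nd 59257 = n111171 := ndS (p := 31554) (l := 5) rfl N31554 D111171
theorem N59258 : nd 59258 = n111172 := ndS (p := 31554) (l := 6) rfl N31554 D111172
theorem N59259 : nd 59259 = n111173 := ndS (p := 31554) (l := 7) rfl N31554 D111173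
theorem N59260 : nd 59260 = n111175 := ndS (p := 31555) (l := 4) rfl N31555 D111175
theorem N59261 : nd 59261 = n111176 := ndS (p := 31555) (l := 5) rfl N31555 D111176
theorem N59262 : nd 59262 = n111180 := ndS (p := 31556) (l := 5) rfl N31556 D111180
theorem N59263 : nd 59263 = n111181 := ndS (p := 31557) (l := 0) rfl N31557 D111181
theorem N59264 : nd 59264 = n111182 := ndS (p := 31557) (l := 1) rfl N31557 D111182
theorem N59265 : nd 59265 = n111183 := ndS (p := 31557) (l := 4) rfl N31557 D111183
theorem N59266 : nd 59266 = n111185 := ndS (p := 31557) (l := 7) rfl N31557 D111185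
theorem N59267 : nd 59267 = n111186 := ndS (p := 31558) (l := 6) rfl N31558 D111186
theorem N59268 : nd 59268 = n111187 := ndS (p := 31559) (l := 3) rfl N31559 D111187
theorem N59269 : nd 59269 = n111188 := ndS (p := 31559) (l := 6) rfl N31559 D111188
theorem N59270 : nd 59270 = n111189 := ndS (p := 31560) (l := 3) rfl N31560 D111189
theorem N59271 : nd 59271 = n111191 := ndS (p := 31561) (l := 3) rfl N31561 D111191
theorem N59272 : nd 59272 = n111196 := ndS (p := 31562) (l := 6) rfl N31562 D111196
theorem N59273 : nd 59273 = n111197 := ndS (p := 31563) (l := 0) rfl N31563 D111197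
theorem N59274 : nd 59274 = n111198 := ndS (p := 31563) (l := 1) rfl N31563 D111198
theorem N59275 : nd 59275 = n111199 := ndS (p := 31563) (l := 5) rfl N31563 D111199
theorem N59276 : nd 59276 = n111200 := ndS (p := 31564) (l := 6) rfl N31564 D111200
theorem N59277 : nd 59277 = n111201 := ndS (p := 31565) (l := 0) rfl N31565 D111201
theorem N59278 : nd 59278 = n111202 := ndS (p := 31566) (l := 0) rfl N31566 D111202
theorem N59279 : nd 59279 = n111203 := ndS (p := 31566) (l := 1) rfl N31566 D111203
theorem N59280 : nd 59280 = n111204 := ndS (p := 31566) (l := 2) rfl N31566 D111204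
theorem N59281 : nd 59281 = n111205 := ndS (p := 31566) (l := 5) rfl N31566 D111205
theorem N59282 : nd 59282 = n111206 := ndS (p := 31567) (l := 6) rfl N31567 D111206
theorem N59283 : nd 59283 = n111208 := ndS (p := 31569) (l := 1) rfl N31569 D111208
theorem N59284 : nd 59284 = n111209 := ndS (p := 31569) (l := 2) rfl N31569 D111209
theorem N59285 : nd 59285 = n111210 := ndS (p := 31569) (l := 5) rfl N31569 D111210
theorem N59286 : nd 59286 = n111211 := ndS (p := 31569) (l := 6) rfl N31569 D111211
theorem N59287 : nd 59287 = n111213 := ndS (p := 31571) (l := 5) rfl N31571 D111213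
theorem N59288 : nd 59288 = n111214 := ndS (p := 31572) (l := 0) rfl N31572 D111214
theorem N59289 : nd 59289 = n111215 := ndS (p := 31572) (l := 1) rfl N31572 D111215
theorem N59290 : nd 59290 = n111223 := ndS (p := 31575) (l := 4) rfl N31575 D111223
theorem N59291 : nd 59291 = n111224 := ndS (p := 31577) (l := 0) rfl N31577 D111224
theorem N59292 : nd 59292 = n111225 := ndS (p := 31577) (l := 1) rfl N31577 D111225
theorem N59293 : nd 59293 = n111226 := ndS (p := 31577) (l := 2) rfl N31577 D111226
theorem N59294 : nd 59294 = n111227 := ndS (p := 31577) (l := 5) rfl N31577 D111227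
theorem N59295 : nd 59295 = n111228 := ndS (p := 31577) (l := 6) rfl N31577 D111228
theorem N59296 : nd 59296 = n111229 := ndS (p := 31578) (l := 6) rfl N31578 D111229
theorem N59297 : nd 59297 = n111230 := ndS (p := 31579) (l := 5) rfl N31579 D111230
theorem N59298 : nd 59298 = n111231 := ndS (p := 31579) (l := 7) rfl N31579 D111231
theorem N59299 : nd 59299 = n111232 := ndS (p := 31580) (l := 0) rfl N31580 D111232
theorem N59300 : nd 59300 = n111233 := ndS (p := 31580) (l := 1) rfl N31580 D111233
theorem N59301 : nd 59301 = n111240 := ndS (p := 31583) (l := 0) rfl N31583 D111240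
theorem N59302 : nd 59302 = n111241 := ndS (p := 31583) (l := 2) rfl N31583 D111241
theorem N59303 : nd 59303 = n111242 := ndS (p := 31583) (l := 3) rfl N31583 D111242
theorem N59304 : nd 59304 = n111243 := ndS (p := 31583) (l := 4) rfl N31583 D111243
theorem N59305 : nd 59305 = n111244 := ndS (p := 31583) (l := 5) rfl N31583 D111244
theorem N59306 : nd 59306 = n111245 := ndS (p := 31583) (l := 6) rfl N31583 D111245
theorem N59307 : nd 59307 = n111246 := ndS (p := 31583) (l := 7) rfl N31583 D111246
theorem N59308 : nd 59308 = n111248 := ndS (p := 31584) (l := 4) rfl N31584 D111248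
theorem N59309 : nd 59309 = n111249 := ndS (p := 31584) (l := 5) rfl N31584 D111249
theorem N59310 : nd 59310 = n111256 := ndS (p := 31586) (l := 4) rfl N31586 D111256
theorem N59311 : nd 59311 = n111258 := ndS (p := 31587) (l := 6) rfl N31587 D111258
theorem N59312 : nd 59312 = n111259 := ndS (p := 31588) (l := 3) rfl N31588 D111259
theorem N59313 : nd 59313 = n111260 := ndS (p := 31588) (l := 6) rfl N31588 D111260
theorem N59314 : nd 59314 = n111261 := ndS (p := 31589) (l := 3) rfl N31589 D111261
theorem N59315 : nd 59315 = n111262 := ndS (p := 31589) (l := 6) rfl N31589 D111262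
theorem N59316 : nd 59316 = n111266 := ndS (p := 31591) (l := 5) rfl N31591 D111266
theorem N59317 : nd 59317 = n111267 := ndS (p := 31592) (l := 0) rfl N31592 D111267
theorem N59318 : nd 59318 = n111268 := ndS (p := 31592) (l := 1) rfl N31592 D111268
theorem N59319 : nd 59319 = n111269 := ndS (p := 31592) (l := 7) rfl N31592 D111269
theorem N59320 : nd 59320 = n111270 := ndS (p := 31593) (l := 3) rfl N31593 D111270
theorem N59321 : nd 59321 = n111271 := ndS (p := 31594) (l := 0) rfl N31594 D111271
theorem N59322 : nd 59322 = n111272 := ndS (p := 31594) (l := 1) rfl N31594 D111272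
theorem N59323 : nd 59323 = n111273 := ndS (p := 31594) (l := 2) rfl N31594 D111273
theorem N59324 : nd 59324 = n111274 := ndS (p := 31594) (l := 5) rfl N31594 D111274
theorem N59325 : nd 59325 = n111275 := ndS (p := 31594) (l := 6) rfl N31594 D111275
theorem N59326 : nd 59326 = n111276 := ndS (p := 31595) (l := 6) rfl N31595 D111276
theorem N59327 : nd 59327 = n111277 := ndS (p := 31596) (l := 0) rfl N31596 D111277
theorem N59328 : nd 59328 = n111279 := ndS (p := 31596) (l := 7) rfl N31596 D111279
theorem N59329 : nd 59329 = n111280 := ndS (p := 31597) (l := 4) rfl N31597 D111280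
theorem N59330 : nd 59330 = n111281 := ndS (p := 31599) (l := 0) rfl N31599 D111281
theorem N59331 : nd 59331 = n111282 := ndS (p := 31599) (l := 1) rfl N31599 D111282
theorem N59332 : nd 59332 = n111283 := ndS (p := 31599) (l := 2) rfl N31599 D111283
theorem N59333 : nd 59333 = n111284 := ndS (p := 31599) (l := 5) rfl N31599 D111284
theorem N59334 : nd 59334 = n111285 := ndS (p := 31599) (l := 6) rfl N31599 D111285
theorem N59335 : nd 59335 = n111286 := ndS (p := 31600) (l := 6) rfl N31600 D111286
theorem N59336 : nd 59336 = n111287 := ndS (p := 31601) (l := 0) rfl N31601 D111287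
theorem N59337 : nd 59337 = n111290 := ndS (p := 31602) (l := 4) rfl N31602 D111290
theorem N59338 : nd 59338 = n111291 := ndS (p := 31604) (l := 0) rfl N31604 D111291
theorem N59339 : nd 59339 = n111292 := ndS (p := 31604) (l := 1) rfl N31604 D111292
theorem N59340 : nd 59340 = n111293 := ndS (p := 31604) (l := 7) rfl N31604 D111293
theorem N59341 : nd 59341 = n111294 := ndS (p := 31605) (l := 3) rfl N31605 D111294
theorem N59342 : nd 59342 = n111295 := ndS (p := 31605) (l := 6) rfl N31605 D111295
theorem N59343 : nd 59343 = n111296 := ndS (p := 31606) (l := 0) rfl N31606 D111296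
theorem N59344 : nd 59344 = n111297 := ndS (p := 31606) (l := 1) rfl N31606 D111297
theorem N59345 : nd 59345 = n111298 := ndS (p := 31606) (l := 2) rfl N31606 D111298
theorem N59346 : nd 59346 = n111299 := ndS (p := 31606) (l := 5) rfl N31606 D111299
theorem N59347 : nd 59347 = n111300 := ndS (p := 31606) (l := 6) rfl N31606 D111300
theorem N59348 : nd 59348 = n111302 := ndS (p := 31608) (l := 0) rfl N31608 D111302
theorem N59349 : nd 59349 = n111303 := ndS (p := 31608) (l := 1) rfl N31608 D111303
theorem N59350 : nd 59350 = n111305 := ndS (p := 31608) (l := 7) rfl N31608 D111305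
theorem N59351 : nd 59351 = n111306 := ndS (p := 31609) (l := 4) rfl N31609 D111306
theorem N59352 : nd 59352 = n111307 := ndS (p := 31611) (l := 0) rfl N31611 D111307
theorem N59353 : nd 59353 = n111308 := ndS (p := 31611) (l := 1) rfl N31611 D111308
theorem N59354 : nd 59354 = n111309 := ndS (p := 31611) (l := 2) rfl N31611 D111309
theorem N59355 : nd 59355 = n111310 := ndS (p := 31611) (l := 5) rfl N31611 D111310
theorem N59356 : nd 59356 = n111311 := ndS (p := 31611) (l := 6) rfl N31611 D111311
theorem N59357 : nd 59357 = n111312 := ndS (p := 31612) (l := 6) rfl N31612 D111312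
theorem N59358 : nd 59358 = n111313 := ndS (p := 31613) (l := 0) rfl N31613 D111313
theorem N59359 : nd 59359 = n111314 := ndS (p := 31613) (l := 1) rfl N31613 D111314
theorem N59360 : nd 59360 = n111315 := ndS (p := 31613) (l := 5) rfl N31613 D111315
theorem N59361 : nd 59361 = n111316 := ndS (p := 31613) (l := 7) rfl N31613 D111316
theorem N59362 : nd 59362 = n111317 := ndS (p := 31614) (l := 4) rfl N31614 D111317
theorem N59363 : nd 59363 = n111318 := ndS (p := 31616) (l := 0) rfl N31616 D111318
theorem N59364 : nd 59364 = n111319 := ndS (p := 31616) (l := 1) rfl N31616 D111319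
theorem N59365 : nd 59365 = n111320 := ndS (p := 31616) (l := 2) rfl N31616 D111320
theorem N59366 : nd 59366 = n111321 := ndS (p := 31616) (l := 5) rfl N31616 D111321
theorem N59367 : nd 59367 = n111322 := ndS (p := 31616) (l := 6) rfl N31616 D111322
theorem N59368 : nd 59368 = n111326 := ndS (p := 31619) (l := 0) rfl N31619 D111326
theorem N59369 : nd 59369 = n111327 := ndS (p := 31619) (l := 1) rfl N31619 D111327
theorem N59370 : nd 59370 = n111328 := ndS (p := 31619) (l := 2) rfl N31619 D111328
theorem N59371 : nd 59371 = n111329 := ndS (p := 31619) (l := 5) rfl N31619 D111329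
theorem N59372 : nd 59372 = n111330 := ndS (p := 31619) (l := 6) rfl N31619 D111330
theorem N59373 : nd 59373 = n111331 := ndS (p := 31620) (l := 6) rfl N31620 D111331
theorem N59374 : nd 59374 = n111332 := ndS (p := 31621) (l := 5) rfl N31621 D111332
theorem N59375 : nd 59375 = n111333 := ndS (p := 31621) (l := 7) rfl N31621 D111333
theorem N59376 : nd 59376 = n111334 := ndS (p := 31622) (l := 2) rfl N31622 D111334
theorem N59377 : nd 59377 = n111335 := ndS (p := 31622) (l := 3) rfl N31622 D111335
theorem N59378 : nd 59378 = n111336 := ndS (p := 31622) (l := 4) rfl N31622 D111336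
theorem N59379 : nd 59379 = n111337 := ndS (p := 31622) (l := 5) rfl N31622 D111337
theorem N59380 : nd 59380 = n111338 := ndS (p := 31622) (l := 6) rfl N31622 D111338
theorem N59381 : nd 59381 = n111339 := ndS (p := 31622) (l := 7) rfl N31622 D111339
theorem N59382 : nd 59382 = n111340 := ndS (p := 31623) (l := 3) rfl N31623 D111340
theorem N59383 : nd 59383 = n111341 := ndS (p := 31623) (l := 4) rfl N31623 D111341
theorem N59384 : nd 59384 = n111342 := ndS (p := 31623) (l := 5) rfl N31623 D111342
theorem N59385 : nd 59385 = n111343 := ndS (p := 31623) (l := 6) rfl N31623 D111343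
theorem N59386 : nd 59386 = n111346 := ndS (p := 31624) (l := 5) rfl N31624 D111346
theorem N59387 : nd 59387 = n111347 := ndS (p := 31625) (l := 0) rfl N31625 D111347
theorem N59388 : nd 59388 = n111348 := ndS (p := 31625) (l := 1) rfl N31625 D111348
theorem N59389 : nd 59389 = n111349 := ndS (p := 31625) (l := 4) rfl N31625 D111349
theorem N59390 : nd 59390 = n111350 := ndS (p := 31625) (l := 6) rfl N31625 D111350
theorem N59391 : nd 59391 = n111352 := ndS (p := 31627) (l := 3) rfl N31627 D111352
theorem N59392 : nd 59392 = n111353 := ndS (p := 31627) (l := 6) rfl N31627 D111353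
theorem N59393 : nd 59393 = n111354 := ndS (p := 31628) (l := 3) rfl N31628 D111354
theorem N59394 : nd 59394 = n111355 := ndS (p := 31628) (l := 6) rfl N31628 D111355
theorem N59395 : nd 59395 = n111356 := ndS (p := 31629) (l := 0) rfl N31629 D111356
theorem N59396 : nd 59396 = n111357 := ndS (p := 31629) (l := 1) rfl N31629 D111357
theorem N59397 : nd 59397 = n111358 := ndS (p := 31629) (l := 7) rfl N31629 D111358
theorem N59398 : nd 59398 = n111360 := ndS (p := 31631) (l := 0) rfl N31631 D111360
theorem N59399 : nd 59399 = n111361 := ndS (p := 31631) (l := 1) rfl N31631 D111361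
theorem N59400 : nd 59400 = n111362 := ndS (p := 31631) (l := 2) rfl N31631 D111362
theorem N59401 : nd 59401 = n111363 := ndS (p := 31631) (l := 5) rfl N31631 D111363
theorem N59402 : nd 59402 = n111365 := ndS (p := 31632) (l := 6) rfl N31632 D111365
theorem N59403 : nd 59403 = n111366 := ndS (p := 31633) (l := 0) rfl N31633 D111366
theorem N59404 : nd 59404 = n111367 := ndS (p := 31633) (l := 1) rfl N31633 D111367
theorem N59405 : nd 59405 = n111368 := ndS (p := 31633) (l := 7) rfl N31633 D111368
theorem N59406 : nd 59406 = n111369 := ndS (p := 31634) (l := 4) rfl N31634 D111369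
theorem N59407 : nd 59407 = n111370 := ndS (p := 31635) (l := 4) rfl N31635 D111370
theorem N59408 : nd 59408 = n111372 := ndS (p := 31637) (l := 1) rfl N31637 D111372
theorem N59409 : nd 59409 = n111373 := ndS (p := 31637) (l := 5) rfl N31637 D111373
theorem N59410 : nd 59410 = n111374 := ndS (p := 31637) (l := 6) rfl N31637 D111374
theorem N59411 : nd 59411 = n111375 := ndS (p := 31638) (l := 6) rfl N31638 D111375
theorem N59412 : nd 59412 = n111376 := ndS (p := 31639) (l := 5) rfl N31639 D111376
theorem N59413 : nd 59413 = n111377 := ndS (p := 31640) (l := 0) rfl N31640 D111377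
theorem N59414 : nd 59414 = n111378 := ndS (p := 31640) (l := 1) rfl N31640 D111378
theorem N59415 : nd 59415 = n111379 := ndS (p := 31640) (l := 2) rfl N31640 D111379
theorem N59416 : nd 59416 = n111380 := ndS (p := 31640) (l := 5) rfl N31640 D111380
theorem N59417 : nd 59417 = n111381 := ndS (p := 31640) (l := 6) rfl N31640 D111381
theorem N59418 : nd 59418 = n111382 := ndS (p := 31641) (l := 6) rfl N31641 D111382
theorem N59419 : nd 59419 = n111383 := ndS (p := 31642) (l := 7) rfl N31642 D111383
theorem N59420 : nd 59420 = n111384 := ndS (p := 31643) (l := 1) rfl N31643 D111384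
theorem N59421 : nd 59421 = n111385 := ndS (p := 31643) (l := 2) rfl N31643 D111385
theorem N59422 : nd 59422 = n111386 := ndS (p := 31643) (l := 5) rfl N31643 D111386
theorem N59423 : nd 59423 = n111387 := ndS (p := 31643) (l := 6) rfl N31643 D111387
theorem N59424 : nd 59424 = n111388 := ndS (p := 31644) (l := 6) rfl N31644 D111388
theorem N59425 : nd 59425 = n111389 := ndS (p := 31645) (l := 5) rfl N31645 D111389
theorem N59426 : nd 59426 = n111391 := ndS (p := 31646) (l := 3) rfl N31646 D111391
theorem N59427 : nd 59427 = n111392 := ndS (p := 31646) (l := 4) rfl N31646 D111392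
theorem N59428 : nd 59428 = n111393 := ndS (p := 31646) (l := 5) rfl N31646 D111393
theorem N59429 : nd 59429 = n111394 := ndS (p := 31646) (l := 6) rfl N31646 D111394
theorem N59430 : nd 59430 = n111396 := ndS (p := 31647) (l := 3) rfl N31647 D111396
theorem N59431 : nd 59431 = n111397 := ndS (p := 31647) (l := 4) rfl N31647 D111397
theorem N59432 : nd 59432 = n111398 := ndS (p := 31647) (l := 5) rfl N31647 D111398
theorem N59433 : nd 59433 = n111399 := ndS (p := 31647) (l := 6) rfl N31647 D111399
theorem N59434 : nd 59434 = n111400 := ndS (p := 31648) (l := 5) rfl N31648 D111400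
theorem N59435 : nd 59435 = n111401 := ndS (p := 31648) (l := 6) rfl N31648 D111401
theorem N59436 : nd 59436 = n111402 := ndS (p := 31649) (l := 0) rfl N31649 D111402
theorem N59437 : nd 59437 = n111403 := ndS (p := 31649) (l := 1) rfl N31649 D111403
theorem N59438 : nd 59438 = n111404 := ndS (p := 31649) (l := 4) rfl N31649 D111404
theorem N59439 : nd 59439 = n111405 := ndS (p := 31649) (l := 6) rfl N31649 D111405
theorem N59440 : nd 59440 = n111406 := ndS (p := 31650) (l := 0) rfl N31650 D111406
theorem N59441 : nd 59441 = n111407 := ndS (p := 31650) (l := 1) rfl N31650 D111407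
theorem N59442 : nd 59442 = n111408 := ndS (p := 31650) (l := 5) rfl N31650 D111408
theorem N59443 : nd 59443 = n111409 := ndS (p := 31650) (l := 7) rfl N31650 D111409
theorem N59444 : nd 59444 = n111410 := ndS (p := 31651) (l := 3) rfl N31651 D111410
theorem N59445 : nd 59445 = n111411 := ndS (p := 31651) (l := 6) rfl N31651 D111411
theorem N59446 : nd 59446 = n111412 := ndS (p := 31652) (l := 3) rfl N31652 D111412
theorem N59447 : nd 59447 = n111413 := ndS (p := 31652) (l := 6) rfl N31652 D111413
theorem N59448 : nd 59448 = n111419 := ndS (p := 31655) (l := 3) rfl N31655 D111419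
theorem N59449 : nd 59449 = n111420 := ndS (p := 31655) (l := 6) rfl N31655 D111420
theorem N59450 : nd 59450 = n111421 := ndS (p := 31656) (l := 0) rfl N31656 D111421
theorem N59451 : nd 59451 = n111422 := ndS (p := 31656) (l := 1) rfl N31656 D111422
theorem N59452 : nd 59452 = n111425 := ndS (p := 31658) (l := 0) rfl N31658 D111425
theorem N59453 : nd 59453 = n111426 := ndS (p := 31658) (l := 3) rfl N31658 D111426
theorem N59454 : nd 59454 = n111428 := ndS (p := 31659) (l := 6) rfl N31659 D111428
theorem N59455 : nd 59455 = n111430 := ndS (p := 31662) (l := 0) rfl N31662 D111430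
theorem N59456 : nd 59456 = n111431 := ndS (p := 31662) (l := 1) rfl N31662 D111431
theorem N59457 : nd 59457 = n111435 := ndS (p := 31664) (l := 0) rfl N31664 D111435
theorem N59458 : nd 59458 = n111436 := ndS (p := 31664) (l := 1) rfl N31664 D111436
theorem N59459 : nd 59459 = n111440 := ndS (p := 31668) (l := 0) rfl N31668 D111440
theorem N59460 : nd 59460 = n111442 := ndS (p := 31668) (l := 2) rfl N31668 D111442
theorem N59461 : nd 59461 = n111443 := ndS (p := 31668) (l := 5) rfl N31668 D111443
theorem N59462 : nd 59462 = n111444 := ndS (p := 31668) (l := 6) rfl N31668 D111444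
theorem N59463 : nd 59463 = n111445 := ndS (p := 31669) (l := 6) rfl N31669 D111445
theorem N59464 : nd 59464 = n111446 := ndS (p := 31670) (l := 5) rfl N31670 D111446
theorem N59465 : nd 59465 = n111447 := ndS (p := 31674) (l := 0) rfl N31674 D111447
theorem N59466 : nd 59466 = n111448 := ndS (p := 31674) (l := 1) rfl N31674 D111448
theorem N59467 : nd 59467 = n111449 := ndS (p := 31674) (l := 2) rfl N31674 D111449
theorem N59468 : nd 59468 = n111455 := ndS (p := 31678) (l := 3) rfl N31678 D111455
theorem N59469 : nd 59469 = n111456 := ndS (p := 31678) (l := 4) rfl N31678 D111456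
theorem N59470 : nd 59470 = n111457 := ndS (p := 31678) (l := 5) rfl N31678 D111457
theorem N59471 : nd 59471 = n111458 := ndS (p := 31678) (l := 6) rfl N31678 D111458
theorem N59472 : nd 59472 = n111461 := ndS (p := 31679) (l := 4) rfl N31679 D111461
theorem N59473 : nd 59473 = n111462 := ndS (p := 31679) (l := 5) rfl N31679 D111462
theorem N59474 : nd 59474 = n111463 := ndS (p := 31679) (l := 6) rfl N31679 D111463
theorem N59475 : nd 59475 = n111464 := ndS (p := 31680) (l := 5) rfl N31680 D111464
theorem N59476 : nd 59476 = n111465 := ndS (p := 31680) (l := 6) rfl N31680 D111465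
theorem N59477 : nd 59477 = n111466 := ndS (p := 31681) (l := 0) rfl N31681 D111466
theorem N59478 : nd 59478 = n111467 := ndS (p := 31681) (l := 1) rfl N31681 D111467
theorem N59479 : nd 59479 = n111468 := ndS (p := 31681) (l := 4) rfl N31681 D111468
theorem N59480 : nd 59480 = n111469 := ndS (p := 31681) (l := 6) rfl N31681 D111469
theorem N59481 : nd 59481 = n111470 := ndS (p := 31682) (l := 0) rfl N31682 D111470
theorem N59482 : nd 59482 = n111472 := ndS (p := 31682) (l := 5) rfl N31682 D111472
theorem N59483 : nd 59483 = n111473 := ndS (p := 31682) (l := 7) rfl N31682 D111473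
theorem N59484 : nd 59484 = n111474 := ndS (p := 31683) (l := 0) rfl N31683 D111474
theorem N59485 : nd 59485 = n111475 := ndS (p := 31683) (l := 1) rfl N31683 D111475
theorem N59486 : nd 59486 = n111478 := ndS (p := 31684) (l := 3) rfl N31684 D111478
theorem N59487 : nd 59487 = n111479 := ndS (p := 31684) (l := 4) rfl N31684 D111479
theorem N59488 : nd 59488 = n111490 := ndS (p := 31688) (l := 5) rfl N31688 D111490
theorem N59489 : nd 59489 = n111491 := ndS (p := 31688) (l := 6) rfl N31688 D111491
theorem N59490 : nd 59490 = n111492 := ndS (p := 31690) (l := 3) rfl N31690 D111492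
theorem N59491 : nd 59491 = n111494 := ndS (p := 31691) (l := 0) rfl N31691 D111494
theorem N59492 : nd 59492 = n111495 := ndS (p := 31691) (l := 1) rfl N31691 D111495
theorem N59493 : nd 59493 = n111496 := ndS (p := 31691) (l := 2) rfl N31691 D111496
theorem N59494 : nd 59494 = n111497 := ndS (p := 31691) (l := 6) rfl N31691 D111497
theorem N59495 : nd 59495 = n111498 := ndS (p := 31692) (l := 5) rfl N31692 D111498
theorem N59496 : nd 59496 = n111499 := ndS (p := 31693) (l := 1) rfl N31693 D111499
theorem N59497 : nd 59497 = n111500 := ndS (p := 31693) (l := 2) rfl N31693 D111500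
theorem N59498 : nd 59498 = n111502 := ndS (p := 31694) (l := 3) rfl N31694 D111502
theorem N59499 : nd 59499 = n111503 := ndS (p := 31694) (l := 4) rfl N31694 D111503
theorem N59500 : nd 59500 = n111505 := ndS (p := 31694) (l := 6) rfl N31694 D111505
theorem N59501 : nd 59501 = n111507 := ndS (p := 31695) (l := 3) rfl N31695 D111507
theorem N59502 : nd 59502 = n111508 := ndS (p := 31695) (l := 4) rfl N31695 D111508
theorem N59503 : nd 59503 = n111511 := ndS (p := 31696) (l := 5) rfl N31696 D111511
theorem N59504 : nd 59504 = n111512 := ndS (p := 31696) (l := 6) rfl N31696 D111512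
theorem N59505 : nd 59505 = n111513 := ndS (p := 31697) (l := 0) rfl N31697 D111513
theorem N59506 : nd 59506 = n111514 := ndS (p := 31697) (l := 1) rfl N31697 D111514
theorem N59507 : nd 59507 = n111515 := ndS (p := 31697) (l := 4) rfl N31697 D111515
theorem N59508 : nd 59508 = n111516 := ndS (p := 31697) (l := 6) rfl N31697 D111516
theorem N59509 : nd 59509 = n111517 := ndS (p := 31698) (l := 0) rfl N31698 D111517
theorem N59510 : nd 59510 = n111518 := ndS (p := 31698) (l := 1) rfl N31698 D111518
theorem N59511 : nd 59511 = n111519 := ndS (p := 31698) (l := 5) rfl N31698 D111519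
theorem N59512 : nd 59512 = n111520 := ndS (p := 31698) (l := 7) rfl N31698 D111520
theorem N59513 : nd 59513 = n111521 := ndS (p := 31699) (l := 3) rfl N31699 D111521
theorem N59514 : nd 59514 = n111522 := ndS (p := 31699) (l := 6) rfl N31699 D111522
theorem N59515 : nd 59515 = n111523 := ndS (p := 31700) (l := 3) rfl N31700 D111523
theorem N59516 : nd 59516 = n111524 := ndS (p := 31700) (l := 6) rfl N31700 D111524
theorem N59517 : nd 59517 = n111525 := ndS (p := 31701) (l := 0) rfl N31701 D111525
theorem N59518 : nd 59518 = n111526 := ndS (p := 31701) (l := 1) rfl N31701 D111526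
theorem N59519 : nd 59519 = n111529 := ndS (p := 31702) (l := 3) rfl N31702 D111529
theorem N59520 : nd 59520 = n111530 := ndS (p := 31702) (l := 5) rfl N31702 D111530
theorem N59521 : nd 59521 = n111531 := ndS (p := 31703) (l := 3) rfl N31703 D111531
theorem N59522 : nd 59522 = n111533 := ndS (p := 31703) (l := 6) rfl N31703 D111533
theorem N59523 : nd 59523 = n111537 := ndS (p := 31706) (l := 3) rfl N31706 D111537
theorem N59524 : nd 59524 = n111538 := ndS (p := 31706) (l := 5) rfl N31706 D111538
theorem N59525 : nd 59525 = n111539 := ndS (p := 31707) (l := 0) rfl N31707 D111539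
theorem N59526 : nd 59526 = n111543 := ndS (p := 31708) (l := 6) rfl N31708 D111543
theorem N59527 : nd 59527 = n111547 := ndS (p := 31712) (l := 0) rfl N31712 D111547
theorem N59528 : nd 59528 = n111548 := ndS (p := 31712) (l := 1) rfl N31712 D111548
theorem N59529 : nd 59529 = n111549 := ndS (p := 31712) (l := 2) rfl N31712 D111549
theorem N59530 : nd 59530 = n111550 := ndS (p := 31712) (l := 5) rfl N31712 D111550
theorem N59531 : nd 59531 = n111551 := ndS (p := 31712) (l := 6) rfl N31712 D111551
theorem N59532 : nd 59532 = n111552 := ndS (p := 31713) (l := 6) rfl N31713 D111552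
theorem N59533 : nd 59533 = n111555 := ndS (p := 31714) (l := 5) rfl N31714 D111555
theorem N59534 : nd 59534 = n111556 := ndS (p := 31714) (l := 7) rfl N31714 D111556
theorem N59535 : nd 59535 = n111557 := ndS (p := 31715) (l := 6) rfl N31715 D111557
theorem N59536 : nd 59536 = n111559 := ndS (p := 31718) (l := 3) rfl N31718 D111559
theorem N59537 : nd 59537 = n111560 := ndS (p := 31718) (l := 4) rfl N31718 D111560
theorem N59538 : nd 59538 = n111567 := ndS (p := 31719) (l := 6) rfl N31719 D111567
theorem N59539 : nd 59539 = n111568 := ndS (p := 31720) (l := 5) rfl N31720 D111568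
theorem N59540 : nd 59540 = n111570 := ndS (p := 31721) (l := 0) rfl N31721 D111570
theorem N59541 : nd 59541 = n111571 := ndS (p := 31721) (l := 1) rfl N31721 D111571
theorem N59542 : nd 59542 = n111572 := ndS (p := 31721) (l := 4) rfl N31721 D111572
theorem N59543 : nd 59543 = n111573 := ndS (p := 31721) (l := 6) rfl N31721 D111573
theorem N59544 : nd 59544 = n111576 := ndS (p := 31722) (l := 5) rfl N31722 D111576
theorem N59545 : nd 59545 = n111578 := ndS (p := 31723) (l := 0) rfl N31723 D111578
theorem N59546 : nd 59546 = n111579 := ndS (p := 31723) (l := 1) rfl N31723 D111579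
theorem N59547 : nd 59547 = n111580 := ndS (p := 31723) (l := 5) rfl N31723 D111580
theorem N59548 : nd 59548 = n111581 := ndS (p := 31723) (l := 7) rfl N31723 D111581
theorem N59549 : nd 59549 = n111583 := ndS (p := 31724) (l := 3) rfl N31724 D111583
theorem N59550 : nd 59550 = n111584 := ndS (p := 31724) (l := 4) rfl N31724 D111584
theorem N59551 : nd 59551 = n111585 := ndS (p := 31724) (l := 5) rfl N31724 D111585
theorem N59552 : nd 59552 = n111586 := ndS (p := 31724) (l := 6) rfl N31724 D111586
theorem N59553 : nd 59553 = n111588 := ndS (p := 31725) (l := 3) rfl N31725 D111588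
theorem N59554 : nd 59554 = n111589 := ndS (p := 31725) (l := 5) rfl N31725 D111589
theorem N59555 : nd 59555 = n111590 := ndS (p := 31726) (l := 4) rfl N31726 D111590
theorem N59556 : nd 59556 = n111591 := ndS (p := 31726) (l := 7) rfl N31726 D111591
theorem N59557 : nd 59557 = n111593 := ndS (p := 31728) (l := 5) rfl N31728 D111593
theorem N59558 : nd 59558 = n111594 := ndS (p := 31728) (l := 6) rfl N31728 D111594
theorem N59559 : nd 59559 = n111595 := ndS (p := 31730) (l := 3) rfl N31730 D111595
theorem N59560 : nd 59560 = n111596 := ndS (p := 31730) (l := 5) rfl N31730 D111596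
theorem N59561 : nd 59561 = n111597 := ndS (p := 31731) (l := 0) rfl N31731 D111597
theorem N59562 : nd 59562 = n111598 := ndS (p := 31731) (l := 1) rfl N31731 D111598
theorem N59563 : nd 59563 = n111599 := ndS (p := 31731) (l := 3) rfl N31731 D111599
theorem N59564 : nd 59564 = n111600 := ndS (p := 31731) (l := 5) rfl N31731 D111600
theorem N59565 : nd 59565 = n111601 := ndS (p := 31731) (l := 7) rfl N31731 D111601
theorem N59566 : nd 59566 = n111603 := ndS (p := 31733) (l := 3) rfl N31733 D111603
theorem N59567 : nd 59567 = n111604 := ndS (p := 31733) (l := 4) rfl N31733 D111604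
theorem N59568 : nd 59568 = n111605 := ndS (p := 31733) (l := 5) rfl N31733 D111605
theorem N59569 : nd 59569 = n111606 := ndS (p := 31733) (l := 6) rfl N31733 D111606
theorem N59570 : nd 59570 = n111608 := ndS (p := 31734) (l := 3) rfl N31734 D111608
theorem N59571 : nd 59571 = n111609 := ndS (p := 31734) (l := 4) rfl N31734 D111609
theorem N59572 : nd 59572 = n111610 := ndS (p := 31734) (l := 5) rfl N31734 D111610
theorem N59573 : nd 59573 = n111612 := ndS (p := 31735) (l := 4) rfl N31735 D111612
theorem N59574 : nd 59574 = n111613 := ndS (p := 31735) (l := 5) rfl N31735 D111613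
theorem N59575 : nd 59575 = n111614 := ndS (p := 31735) (l := 6) rfl N31735 D111614
theorem N59576 : nd 59576 = n111615 := ndS (p := 31736) (l := 0) rfl N31736 D111615
theorem N59577 : nd 59577 = n111616 := ndS (p := 31736) (l := 1) rfl N31736 D111616
theorem N59578 : nd 59578 = n111617 := ndS (p := 31736) (l := 5) rfl N31736 D111617
theorem N59579 : nd 59579 = n111618 := ndS (p := 31736) (l := 6) rfl N31736 D111618
theorem N59580 : nd 59580 = n111619 := ndS (p := 31737) (l := 0) rfl N31737 D111619
theorem N59581 : nd 59581 = n111620 := ndS (p := 31737) (l := 1) rfl N31737 D111620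
theorem N59582 : nd 59582 = n111621 := ndS (p := 31737) (l := 4) rfl N31737 D111621
theorem N59583 : nd 59583 = n111622 := ndS (p := 31737) (l := 6) rfl N31737 D111622
theorem N59584 : nd 59584 = n111623 := ndS (p := 31738) (l := 0) rfl N31738 D111623
theorem N59585 : nd 59585 = n111624 := ndS (p := 31738) (l := 1) rfl N31738 D111624
theorem N59586 : nd 59586 = n111625 := ndS (p := 31738) (l := 5) rfl N31738 D111625
theorem N59587 : nd 59587 = n111626 := ndS (p := 31738) (l := 7) rfl N31738 D111626
theorem N59588 : nd 59588 = n111627 := ndS (p := 31739) (l := 6) rfl N31739 D111627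
theorem N59589 : nd 59589 = n111628 := ndS (p := 31740) (l := 0) rfl N31740 D111628
theorem N59590 : nd 59590 = n111629 := ndS (p := 31740) (l := 7) rfl N31740 D111629
theorem N59591 : nd 59591 = n111630 := ndS (p := 31741) (l := 3) rfl N31741 D111630
theorem N59592 : nd 59592 = n111631 := ndS (p := 31741) (l := 6) rfl N31741 D111631
theorem N59593 : nd 59593 = n111632 := ndS (p := 31742) (l := 0) rfl N31742 D111632
theorem N59594 : nd 59594 = n111640 := ndS (p := 31745) (l := 3) rfl N31745 D111640
theorem N59595 : nd 59595 = n111641 := ndS (p := 31745) (l := 4) rfl N31745 D111641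
theorem N59596 : nd 59596 = n111642 := ndS (p := 31745) (l := 5) rfl N31745 D111642
theorem N59597 : nd 59597 = n111645 := ndS (p := 31746) (l := 3) rfl N31746 D111645
theorem N59598 : nd 59598 = n111646 := ndS (p := 31746) (l := 4) rfl N31746 D111646
theorem N59599 : nd 59599 = n111647 := ndS (p := 31746) (l := 5) rfl N31746 D111647
theorem N59600 : nd 59600 = n111648 := ndS (p := 31746) (l := 6) rfl N31746 D111648
theorem N59601 : nd 59601 = n111649 := ndS (p := 31747) (l := 4) rfl N31747 D111649
theorem N59602 : nd 59602 = n111650 := ndS (p := 31747) (l := 5) rfl N31747 D111650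
theorem N59603 : nd 59603 = n111651 := ndS (p := 31747) (l := 6) rfl N31747 D111651
theorem N59604 : nd 59604 = n111652 := ndS (p := 31748) (l := 0) rfl N31748 D111652
theorem N59605 : nd 59605 = n111653 := ndS (p := 31748) (l := 1) rfl N31748 D111653
theorem N59606 : nd 59606 = n111654 := ndS (p := 31748) (l := 5) rfl N31748 D111654
theorem N59607 : nd 59607 = n111655 := ndS (p := 31748) (l := 6) rfl N31748 D111655
theorem N59608 : nd 59608 = n111656 := ndS (p := 31749) (l := 0) rfl N31749 D111656
theorem N59609 : nd 59609 = n111657 := ndS (p := 31749) (l := 1) rfl N31749 D111657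
theorem N59610 : nd 59610 = n111658 := ndS (p := 31749) (l := 6) rfl N31749 D111658
theorem N59611 : nd 59611 = n111659 := ndS (p := 31750) (l := 0) rfl N31750 D111659
theorem N59612 : nd 59612 = n111660 := ndS (p := 31750) (l := 1) rfl N31750 D111660
theorem N59613 : nd 59613 = n111661 := ndS (p := 31750) (l := 5) rfl N31750 D111661
theorem N59614 : nd 59614 = n111662 := ndS (p := 31750) (l := 7) rfl N31750 D111662
theorem N59615 : nd 59615 = n111663 := ndS (p := 31751) (l := 0) rfl N31751 D111663
theorem N59616 : nd 59616 = n111664 := ndS (p := 31751) (l := 1) rfl N31751 D111664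
theorem N59617 : nd 59617 = n111665 := ndS (p := 31751) (l := 7) rfl N31751 D111665
theorem N59618 : nd 59618 = n111666 := ndS (p := 31752) (l := 0) rfl N31752 D111666
theorem N59619 : nd 59619 = n111667 := ndS (p := 31752) (l := 1) rfl N31752 D111667
theorem N59620 : nd 59620 = n111669 := ndS (p := 31752) (l := 7) rfl N31752 D111669
theorem N59621 : nd 59621 = n111671 := ndS (p := 31753) (l := 7) rfl N31753 D111671
theorem N59622 : nd 59622 = n111679 := ndS (p := 31755) (l := 1) rfl N31755 D111679
theorem N59623 : nd 59623 = n111680 := ndS (p := 31755) (l := 2) rfl N31755 D111680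
theorem N59624 : nd 59624 = n111681 := ndS (p := 31755) (l := 4) rfl N31755 D111681
theorem N59625 : nd 59625 = n111695 := ndS (p := 31757) (l := 0) rfl N31757 D111695
theorem N59626 : nd 59626 = n111697 := ndS (p := 31757) (l := 2) rfl N31757 D111697
theorem N59627 : nd 59627 = n111698 := ndS (p := 31757) (l := 4) rfl N31757 D111698
theorem N59628 : nd 59628 = n111699 := ndS (p := 31757) (l := 5) rfl N31757 D111699
theorem N59629 : nd 59629 = n111702 := ndS (p := 31758) (l := 4) rfl N31758 D111702
theorem N59630 : nd 59630 = n111709 := ndS (p := 31760) (l := 3) rfl N31760 D111709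
theorem N59631 : nd 59631 = n111710 := ndS (p := 31760) (l := 4) rfl N31760 D111710
theorem N59632 : nd 59632 = n111712 := ndS (p := 31761) (l := 3) rfl N31761 D111712
theorem N59633 : nd 59633 = n111713 := ndS (p := 31761) (l := 4) rfl N31761 D111713
theorem N59634 : nd 59634 = n111714 := ndS (p := 31761) (l := 6) rfl N31761 D111714
theorem N59635 : nd 59635 = n111715 := ndS (p := 31762) (l := 0) rfl N31762 D111715
theorem N59636 : nd 59636 = n111716 := ndS (p := 31762) (l := 1) rfl N31762 D111716
theorem N59637 : nd 59637 = n111717 := ndS (p := 31762) (l := 3) rfl N31762 D111717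
theorem N59638 : nd 59638 = n111724 := ndS (p := 31764) (l := 2) rfl N31764 D111724
theorem N59639 : nd 59639 = n111725 := ndS (p := 31764) (l := 4) rfl N31764 D111725
theorem N59640 : nd 59640 = n111726 := ndS (p := 31764) (l := 6) rfl N31764 D111726
theorem N59641 : nd 59641 = n111733 := ndS (p := 31766) (l := 2) rfl N31766 D111733
theorem N59642 : nd 59642 = n111735 := ndS (p := 31767) (l := 0) rfl N31767 D111735
theorem N59643 : nd 59643 = n111736 := ndS (p := 31767) (l := 1) rfl N31767 D111736
theorem N59644 : nd 59644 = n111739 := ndS (p := 31768) (l := 0) rfl N31768 D111739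
theorem N59645 : nd 59645 = n111740 := ndS (p := 31768) (l := 1) rfl N31768 D111740
theorem N59646 : nd 59646 = n111741 := ndS (p := 31768) (l := 2) rfl N31768 D111741
theorem N59647 : nd 59647 = n111742 := ndS (p := 31768) (l := 6) rfl N31768 D111742
theorem N59648 : nd 59648 = n111743 := ndS (p := 31769) (l := 0) rfl N31769 D111743
theorem N59649 : nd 59649 = n111744 := ndS (p := 31769) (l := 1) rfl N31769 D111744
theorem N59650 : nd 59650 = n111745 := ndS (p := 31769) (l := 5) rfl N31769 D111745
theorem N59651 : nd 59651 = n111746 := ndS (p := 31769) (l := 7) rfl N31769 D111746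
theorem N59652 : nd 59652 = n111748 := ndS (p := 31770) (l := 3) rfl N31770 D111748
theorem N59653 : nd 59653 = n111749 := ndS (p := 31770) (l := 4) rfl N31770 D111749
theorem N59654 : nd 59654 = n111750 := ndS (p := 31770) (l := 5) rfl N31770 D111750
theorem N59655 : nd 59655 = n111751 := ndS (p := 31770) (l := 6) rfl N31770 D111751
theorem N59656 : nd 59656 = n111753 := ndS (p := 31771) (l := 3) rfl N31771 D111753
theorem N59657 : nd 59657 = n111754 := ndS (p := 31771) (l := 4) rfl N31771 D111754
theorem N59658 : nd 59658 = n111755 := ndS (p := 31771) (l := 5) rfl N31771 D111755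
theorem N59659 : nd 59659 = n111757 := ndS (p := 31772) (l := 6) rfl N31772 D111757
theorem N59660 : nd 59660 = n111758 := ndS (p := 31773) (l := 0) rfl N31773 D111758
theorem N59661 : nd 59661 = n111759 := ndS (p := 31773) (l := 1) rfl N31773 D111759
theorem N59662 : nd 59662 = n111760 := ndS (p := 31773) (l := 5) rfl N31773 D111760
theorem N59663 : nd 59663 = n111761 := ndS (p := 31774) (l := 3) rfl N31774 D111761
theorem N59664 : nd 59664 = n111763 := ndS (p := 31774) (l := 6) rfl N31774 D111763
theorem N59665 : nd 59665 = n111764 := ndS (p := 31775) (l := 3) rfl N31775 D111764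
theorem N59666 : nd 59666 = n111766 := ndS (p := 31775) (l := 6) rfl N31775 D111766
theorem N59667 : nd 59667 = n111767 := ndS (p := 31776) (l := 0) rfl N31776 D111767
theorem N59668 : nd 59668 = n111768 := ndS (p := 31776) (l := 1) rfl N31776 D111768
theorem N59669 : nd 59669 = n111770 := ndS (p := 31777) (l := 3) rfl N31777 D111770
theorem N59670 : nd 59670 = n111771 := ndS (p := 31777) (l := 5) rfl N31777 D111771
theorem N59671 : nd 59671 = n111772 := ndS (p := 31777) (l := 6) rfl N31777 D111772
theorem N59672 : nd 59672 = n111773 := ndS (p := 31778) (l := 4) rfl N31778 D111773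
theorem N59673 : nd 59673 = n111774 := ndS (p := 31780) (l := 5) rfl N31780 D111774
theorem N59674 : nd 59674 = n111775 := ndS (p := 31780) (l := 6) rfl N31780 D111775
theorem N59675 : nd 59675 = n111776 := ndS (p := 31781) (l := 3) rfl N31781 D111776
theorem N59676 : nd 59676 = n111777 := ndS (p := 31781) (l := 5) rfl N31781 D111777
theorem N59677 : nd 59677 = n111778 := ndS (p := 31781) (l := 6) rfl N31781 D111778
theorem N59678 : nd 59678 = n111779 := ndS (p := 31782) (l := 4) rfl N31782 D111779
theorem N59679 : nd 59679 = n111780 := ndS (p := 31785) (l := 2) rfl N31785 D111780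
theorem N59680 : nd 59680 = n111781 := ndS (p := 31785) (l := 6) rfl N31785 D111781
theorem N59681 : nd 59681 = n111782 := ndS (p := 31786) (l := 6) rfl N31786 D111782
theorem N59682 : nd 59682 = n111783 := ndS (p := 31787) (l := 0) rfl N31787 D111783
theorem N59683 : nd 59683 = n111784 := ndS (p := 31787) (l := 1) rfl N31787 D111784
theorem N59684 : nd 59684 = n111785 := ndS (p := 31787) (l := 5) rfl N31787 D111785
theorem N59685 : nd 59685 = n111786 := ndS (p := 31788) (l := 4) rfl N31788 D111786
theorem N59686 : nd 59686 = n111787 := ndS (p := 31788) (l := 6) rfl N31788 D111787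
theorem N59687 : nd 59687 = n111791 := ndS (p := 31789) (l := 6) rfl N31789 D111791
theorem N59688 : nd 59688 = n111793 := ndS (p := 31790) (l := 5) rfl N31790 D111793
theorem N59689 : nd 59689 = n111795 := ndS (p := 31791) (l := 4) rfl N31791 D111795
theorem N59690 : nd 59690 = n111796 := ndS (p := 31792) (l := 4) rfl N31792 D111796
theorem N59691 : nd 59691 = n111797 := ndS (p := 31794) (l := 3) rfl N31794 D111797
theorem N59692 : nd 59692 = n111798 := ndS (p := 31794) (l := 6) rfl N31794 D111798
theorem N59693 : nd 59693 = n111800 := ndS (p := 31795) (l := 6) rfl N31795 D111800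
theorem N59694 : nd 59694 = n111802 := ndS (p := 31797) (l := 0) rfl N31797 D111802
theorem N59695 : nd 59695 = n111803 := ndS (p := 31797) (l := 1) rfl N31797 D111803
theorem N59696 : nd 59696 = n111804 := ndS (p := 31797) (l := 5) rfl N31797 D111804
theorem N59697 : nd 59697 = n111805 := ndS (p := 31797) (l := 7) rfl N31797 D111805
theorem N59698 : nd 59698 = n111806 := ndS (p := 31798) (l := 4) rfl N31798 D111806
theorem N59699 : nd 59699 = n111807 := ndS (p := 31798) (l := 5) rfl N31798 D111807
theorem N59700 : nd 59700 = n111808 := ndS (p := 31799) (l := 4) rfl N31799 D111808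
theorem N59701 : nd 59701 = n111809 := ndS (p := 31801) (l := 3) rfl N31801 D111809
theorem N59702 : nd 59702 = n111810 := ndS (p := 31802) (l := 0) rfl N31802 D111810
theorem N59703 : nd 59703 = n111811 := ndS (p := 31802) (l := 1) rfl N31802 D111811
theorem N59704 : nd 59704 = n111816 := ndS (p := 31804) (l := 0) rfl N31804 D111816
theorem N59705 : nd 59705 = n111817 := ndS (p := 31804) (l := 1) rfl N31804 D111817
theorem N59706 : nd 59706 = n111819 := ndS (p := 31804) (l := 7) rfl N31804 D111819
theorem N59707 : nd 59707 = n111821 := ndS (p := 31807) (l := 0) rfl N31807 D111821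
theorem N59708 : nd 59708 = n111822 := ndS (p := 31807) (l := 1) rfl N31807 D111822
theorem N59709 : nd 59709 = n111823 := ndS (p := 31807) (l := 2) rfl N31807 D111823
theorem N59710 : nd 59710 = n111825 := ndS (p := 31808) (l := 7) rfl N31808 D111825
theorem N59711 : nd 59711 = n111826 := ndS (p := 31809) (l := 0) rfl N31809 D111826
theorem N59712 : nd 59712 = n111827 := ndS (p := 31809) (l := 1) rfl N31809 D111827
theorem N59713 : nd 59713 = n111828 := ndS (p := 31809) (l := 2) rfl N31809 D111828
theorem N59714 : nd 59714 = n111829 := ndS (p := 31809) (l := 6) rfl N31809 D111829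
theorem N59715 : nd 59715 = n111831 := ndS (p := 31811) (l := 3) rfl N31811 D111831
theorem N59716 : nd 59716 = n111832 := ndS (p := 31811) (l := 6) rfl N31811 D111832
theorem N59717 : nd 59717 = n111835 := ndS (p := 31813) (l := 5) rfl N31813 D111835
theorem N59718 : nd 59718 = n111837 := ndS (p := 31814) (l := 0) rfl N31814 D111837
theorem N59719 : nd 59719 = n111839 := ndS (p := 31814) (l := 6) rfl N31814 D111839
theorem N59720 : nd 59720 = n111844 := ndS (p := 31815) (l := 3) rfl N31815 D111844
theorem N59721 : nd 59721 = n111845 := ndS (p := 31815) (l := 6) rfl N31815 D111845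
theorem N59722 : nd 59722 = n111846 := ndS (p := 31816) (l := 3) rfl N31816 D111846
theorem N59723 : nd 59723 = n111847 := ndS (p := 31816) (l := 6) rfl N31816 D111847
theorem N59724 : nd 59724 = n111848 := ndS (p := 31817) (l := 0) rfl N31817 D111848
theorem N59725 : nd 59725 = n111849 := ndS (p := 31817) (l := 1) rfl N31817 D111849
theorem N59726 : nd 59726 = n111850 := ndS (p := 31817) (l := 5) rfl N31817 D111850
theorem N59727 : nd 59727 = n111851 := ndS (p := 31817) (l := 7) rfl N31817 D111851
theorem N59728 : nd 59728 = n111852 := ndS (p := 31818) (l := 3) rfl N31818 D111852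
theorem N59729 : nd 59729 = n111853 := ndS (p := 31818) (l := 5) rfl N31818 D111853
theorem N59730 : nd 59730 = n111854 := ndS (p := 31819) (l := 3) rfl N31819 D111854
theorem N59731 : nd 59731 = n111855 := ndS (p := 31819) (l := 5) rfl N31819 D111855
theorem N59732 : nd 59732 = n111856 := ndS (p := 31819) (l := 6) rfl N31819 D111856
theorem N59733 : nd 59733 = n111857 := ndS (p := 31820) (l := 0) rfl N31820 D111857
theorem N59734 : nd 59734 = n111858 := ndS (p := 31820) (l := 1) rfl N31820 D111858
theorem N59735 : nd 59735 = n111859 := ndS (p := 31820) (l := 4) rfl N31820 D111859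
theorem N59736 : nd 59736 = n111862 := ndS (p := 31822) (l := 0) rfl N31822 D111862
theorem N59737 : nd 59737 = n111863 := ndS (p := 31822) (l := 3) rfl N31822 D111863
theorem N59738 : nd 59738 = n111864 := ndS (p := 31822) (l := 5) rfl N31822 D111864
theorem N59739 : nd 59739 = n111865 := ndS (p := 31823) (l := 4) rfl N31823 D111865
theorem N59740 : nd 59740 = n111866 := ndS (p := 31823) (l := 6) rfl N31823 D111866
theorem N59741 : nd 59741 = n111867 := ndS (p := 31824) (l := 4) rfl N31824 D111867
theorem N59742 : nd 59742 = n111868 := ndS (p := 31824) (l := 6) rfl N31824 D111868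
theorem N59743 : nd 59743 = n111870 := ndS (p := 31825) (l := 5) rfl N31825 D111870
theorem N59744 : nd 59744 = n111871 := ndS (p := 31825) (l := 6) rfl N31825 D111871
theorem N59745 : nd 59745 = n111872 := ndS (p := 31826) (l := 4) rfl N31826 D111872
theorem N59746 : nd 59746 = n111873 := ndS (p := 31828) (l := 0) rfl N31828 D111873
theorem N59747 : nd 59747 = n111875 := ndS (p := 31828) (l := 2) rfl N31828 D111875
theorem N59748 : nd 59748 = n111877 := ndS (p := 31829) (l := 0) rfl N31829 D111877
theorem N59749 : nd 59749 = n111878 := ndS (p := 31829) (l := 1) rfl N31829 D111878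
theorem N59750 : nd 59750 = n111880 := ndS (p := 31830) (l := 3) rfl N31830 D111880
theorem N59751 : nd 59751 = n111881 := ndS (p := 31830) (l := 4) rfl N31830 D111881
theorem N59752 : nd 59752 = n111883 := ndS (p := 31831) (l := 4) rfl N31831 D111883
theorem N59753 : nd 59753 = n111888 := ndS (p := 31833) (l := 4) rfl N31833 D111888
theorem N59754 : nd 59754 = n111890 := ndS (p := 31834) (l := 5) rfl N31834 D111890
theorem N59755 : nd 59755 = n111892 := ndS (p := 31835) (l := 4) rfl N31835 D111892
theorem N59756 : nd 59756 = n111895 := ndS (p := 31836) (l := 0) rfl N31836 D111895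
theorem N59757 : nd 59757 = n111897 := ndS (p := 31836) (l := 3) rfl N31836 D111897
theorem N59758 : nd 59758 = n111898 := ndS (p := 31836) (l := 5) rfl N31836 D111898
theorem N59759 : nd 59759 = n111906 := ndS (p := 31837) (l := 4) rfl N31837 D111906
theorem N59760 : nd 59760 = n111908 := ndS (p := 31838) (l := 3) rfl N31838 D111908
theorem N59761 : nd 59761 = n111909 := ndS (p := 31838) (l := 5) rfl N31838 D111909
theorem N59762 : nd 59762 = n111910 := ndS (p := 31838) (l := 6) rfl N31838 D111910
theorem N59763 : nd 59763 = n111943 := ndS (p := 31840) (l := 0) rfl N31840 D111943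
theorem N59764 : nd 59764 = n111945 := ndS (p := 31840) (l := 5) rfl N31840 D111945
theorem N59765 : nd 59765 = n111953 := ndS (p := 31841) (l := 0) rfl N31841 D111953
theorem N59766 : nd 59766 = n111954 := ndS (p := 31841) (l := 1) rfl N31841 D111954
theorem N59767 : nd 59767 = n111955 := ndS (p := 31841) (l := 2) rfl N31841 D111955
theorem N59768 : nd 59768 = n111956 := ndS (p := 31841) (l := 5) rfl N31841 D111956
theorem N59769 : nd 59769 = n111957 := ndS (p := 31841) (l := 6) rfl N31841 D111957
theorem N59770 : nd 59770 = n111958 := ndS (p := 31842) (l := 6) rfl N31842 D111958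
theorem N59771 : nd 59771 = n111959 := ndS (p := 31843) (l := 5) rfl N31843 D111959
theorem N59772 : nd 59772 = n111961 := ndS (p := 31844) (l := 1) rfl N31844 D111961
theorem N59773 : nd 59773 = n111963 := ndS (p := 31844) (l := 5) rfl N31844 D111963
theorem N59774 : nd 59774 = n111965 := ndS (p := 31845) (l := 6) rfl N31845 D111965
theorem N59775 : nd 59775 = n111966 := ndS (p := 31846) (l := 5) rfl N31846 D111966
theorem N59776 : nd 59776 = n111967 := ndS (p := 31847) (l := 3) rfl N31847 D111967
theorem N59777 : nd 59777 = n111968 := ndS (p := 31847) (l := 6) rfl N31847 D111968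
theorem N59778 : nd 59778 = n111969 := ndS (p := 31848) (l := 3) rfl N31848 D111969
theorem N59779 : nd 59779 = n111970 := ndS (p := 31849) (l := 0) rfl N31849 D111970
theorem N59780 : nd 59780 = n111972 := ndS (p := 31849) (l := 2) rfl N31849 D111972
theorem N59781 : nd 59781 = n111973 := ndS (p := 31849) (l := 5) rfl N31849 D111973
theorem N59782 : nd 59782 = n111974 := ndS (p := 31849) (l := 6) rfl N31849 D111974
theorem N59783 : nd 59783 = n111975 := ndS (p := 31850) (l := 6) rfl N31850 D111975
theorem N59784 : nd 59784 = n111976 := ndS (p := 31851) (l := 1) rfl N31851 D111976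
theorem N59785 : nd 59785 = n111977 := ndS (p := 31851) (l := 5) rfl N31851 D111977
theorem N59786 : nd 59786 = n111978 := ndS (p := 31852) (l := 0) rfl N31852 D111978
theorem N59787 : nd 59787 = n111979 := ndS (p := 31852) (l := 1) rfl N31852 D111979
theorem N59788 : nd 59788 = n111980 := ndS (p := 31852) (l := 2) rfl N31852 D111980
theorem N59789 : nd 59789 = n111981 := ndS (p := 31852) (l := 5) rfl N31852 D111981
theorem N59790 : nd 59790 = n111982 := ndS (p := 31852) (l := 6) rfl N31852 D111982
theorem N59791 : nd 59791 = n111983 := ndS (p := 31853) (l := 6) rfl N31853 D111983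
theorem N59792 : nd 59792 = n111984 := ndS (p := 31854) (l := 0) rfl N31854 D111984
theorem N59793 : nd 59793 = n111985 := ndS (p := 31854) (l := 1) rfl N31854 D111985
theorem N59794 : nd 59794 = n111986 := ndS (p := 31854) (l := 5) rfl N31854 D111986
theorem N59795 : nd 59795 = n111987 := ndS (p := 31854) (l := 7) rfl N31854 D111987
theorem N59796 : nd 59796 = n111988 := ndS (p := 31855) (l := 4) rfl N31855 D111988
theorem N59797 : nd 59797 = n111989 := ndS (p := 31855) (l := 5) rfl N31855 D111989
theorem N59798 : nd 59798 = n111990 := ndS (p := 31857) (l := 0) rfl N31857 D111990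
theorem N59799 : nd 59799 = n111991 := ndS (p := 31857) (l := 1) rfl N31857 D111991
theorem N59800 : nd 59800 = n111992 := ndS (p := 31857) (l := 2) rfl N31857 D111992
theorem N59801 : nd 59801 = n111993 := ndS (p := 31857) (l := 6) rfl N31857 D111993
theorem N59802 : nd 59802 = n111994 := ndS (p := 31858) (l := 5) rfl N31858 D111994
theorem N59803 : nd 59803 = n111995 := ndS (p := 31859) (l := 0) rfl N31859 D111995
theorem N59804 : nd 59804 = n111996 := ndS (p := 31859) (l := 1) rfl N31859 D111996
theorem N59805 : nd 59805 = n111997 := ndS (p := 31859) (l := 2) rfl N31859 D111997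
theorem N59806 : nd 59806 = n111998 := ndS (p := 31859) (l := 6) rfl N31859 D111998
theorem N59807 : nd 59807 = n111999 := ndS (p := 31860) (l := 5) rfl N31860 D111999
theorem N59808 : nd 59808 = n112000 := ndS (p := 31860) (l := 7) rfl N31860 D112000
theorem N59809 : nd 59809 = n112001 := ndS (p := 31861) (l := 3) rfl N31861 D112001
theorem N59810 : nd 59810 = n112004 := ndS (p := 31862) (l := 3) rfl N31862 D112004
theorem N59811 : nd 59811 = n112016 := ndS (p := 31866) (l := 3) rfl N31866 D112016
theorem N59812 : nd 59812 = n112017 := ndS (p := 31866) (l := 6) rfl N31866 D112017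
theorem N59813 : nd 59813 = n112018 := ndS (p := 31867) (l := 3) rfl N31867 D112018
theorem N59814 : nd 59814 = n112019 := ndS (p := 31867) (l := 6) rfl N31867 D112019
theorem N59815 : nd 59815 = n112020 := ndS (p := 31868) (l := 3) rfl N31868 D112020
theorem N59816 : nd 59816 = n112021 := ndS (p := 31868) (l := 6) rfl N31868 D112021
theorem N59817 : nd 59817 = n112022 := ndS (p := 31869) (l := 0) rfl N31869 D112022
theorem N59818 : nd 59818 = n112023 := ndS (p := 31869) (l := 1) rfl N31869 D112023
theorem N59819 : nd 59819 = n112024 := ndS (p := 31869) (l := 5) rfl N31869 D112024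
theorem N59820 : nd 59820 = n112025 := ndS (p := 31869) (l := 7) rfl N31869 D112025
theorem N59821 : nd 59821 = n112026 := ndS (p := 31870) (l := 3) rfl N31870 D112026
theorem N59822 : nd 59822 = n112028 := ndS (p := 31871) (l := 0) rfl N31871 D112028
theorem N59823 : nd 59823 = n112029 := ndS (p := 31871) (l := 1) rfl N31871 D112029
theorem N59824 : nd 59824 = n112030 := ndS (p := 31871) (l := 4) rfl N31871 D112030
theorem N59825 : nd 59825 = n112031 := ndS (p := 31871) (l := 7) rfl N31871 D112031
theorem N59826 : nd 59826 = n112038 := ndS (p := 31875) (l := 1) rfl N31875 D112038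
theorem N59827 : nd 59827 = n112039 := ndS (p := 31875) (l := 3) rfl N31875 D112039
theorem N59828 : nd 59828 = n112040 := ndS (p := 31875) (l := 5) rfl N31875 D112040
theorem N59829 : nd 59829 = n112047 := ndS (p := 31876) (l := 4) rfl N31876 D112047
theorem N59830 : nd 59830 = n112049 := ndS (p := 31877) (l := 3) rfl N31877 D112049
theorem N59831 : nd 59831 = n112051 := ndS (p := 31877) (l := 6) rfl N31877 D112051
theorem N59832 : nd 59832 = n112087 := ndS (p := 31880) (l := 0) rfl N31880 D112087
theorem N59833 : nd 59833 = n112088 := ndS (p := 31880) (l := 1) rfl N31880 D112088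
theorem N59834 : nd 59834 = n112091 := ndS (p := 31880) (l := 6) rfl N31880 D112091
theorem N59835 : nd 59835 = n112093 := ndS (p := 31882) (l := 0) rfl N31882 D112093
theorem N59836 : nd 59836 = n112094 := ndS (p := 31882) (l := 1) rfl N31882 D112094
theorem N59837 : nd 59837 = n112095 := ndS (p := 31882) (l := 5) rfl N31882 D112095
theorem N59838 : nd 59838 = n112096 := ndS (p := 31882) (l := 7) rfl N31882 D112096
theorem N59839 : nd 59839 = n112097 := ndS (p := 31883) (l := 4) rfl N31883 D112097
theorem N59840 : nd 59840 = n112098 := ndS (p := 31883) (l := 5) rfl N31883 D112098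
theorem N59841 : nd 59841 = n112099 := ndS (p := 31884) (l := 4) rfl N31884 D112099
theorem N59842 : nd 59842 = n112100 := ndS (p := 31886) (l := 0) rfl N31886 D112100
theorem N59843 : nd 59843 = n112101 := ndS (p := 31886) (l := 1) rfl N31886 D112101
theorem N59844 : nd 59844 = n112102 := ndS (p := 31886) (l := 2) rfl N31886 D112102
theorem N59845 : nd 59845 = n112103 := ndS (p := 31886) (l := 6) rfl N31886 D112103
theorem N59846 : nd 59846 = n112104 := ndS (p := 31887) (l := 5) rfl N31887 D112104
theorem N59847 : nd 59847 = n112105 := ndS (p := 31888) (l := 0) rfl N31888 D112105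
theorem N59848 : nd 59848 = n112106 := ndS (p := 31888) (l := 1) rfl N31888 D112106
theorem N59849 : nd 59849 = n112107 := ndS (p := 31888) (l := 2) rfl N31888 D112107
theorem N59850 : nd 59850 = n112108 := ndS (p := 31889) (l := 3) rfl N31889 D112108
theorem N59851 : nd 59851 = n112109 := ndS (p := 31889) (l := 6) rfl N31889 D112109
theorem N59852 : nd 59852 = n112114 := ndS (p := 31892) (l := 6) rfl N31892 D112114
theorem N59853 : nd 59853 = n112117 := ndS (p := 31893) (l := 5) rfl N31893 D112117
theorem N59854 : nd 59854 = n112119 := ndS (p := 31894) (l := 3) rfl N31894 D112119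
theorem N59855 : nd 59855 = n112121 := ndS (p := 31895) (l := 0) rfl N31895 D112121
theorem N59856 : nd 59856 = n112122 := ndS (p := 31895) (l := 1) rfl N31895 D112122
theorem N59857 : nd 59857 = n112123 := ndS (p := 31895) (l := 5) rfl N31895 D112123
theorem N59858 : nd 59858 = n112124 := ndS (p := 31895) (l := 7) rfl N31895 D112124
theorem N59859 : nd 59859 = n112125 := ndS (p := 31896) (l := 3) rfl N31896 D112125
theorem N59860 : nd 59860 = n112126 := ndS (p := 31896) (l := 5) rfl N31896 D112126
theorem N59861 : nd 59861 = n112127 := ndS (p := 31896) (l := 6) rfl N31896 D112127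
theorem N59862 : nd 59862 = n112128 := ndS (p := 31897) (l := 3) rfl N31897 D112128
theorem N59863 : nd 59863 = n112129 := ndS (p := 31897) (l := 5) rfl N31897 D112129
theorem N59864 : nd 59864 = n112130 := ndS (p := 31897) (l := 6) rfl N31897 D112130
theorem N59865 : nd 59865 = n112131 := ndS (p := 31898) (l := 1) rfl N31898 D112131
theorem N59866 : nd 59866 = n112132 := ndS (p := 31898) (l := 4) rfl N31898 D112132
theorem N59867 : nd 59867 = n112133 := ndS (p := 31898) (l := 7) rfl N31898 D112133
theorem N59868 : nd 59868 = n112135 := ndS (p := 31900) (l := 5) rfl N31900 D112135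
theorem N59869 : nd 59869 = n112136 := ndS (p := 31901) (l := 0) rfl N31901 D112136
theorem N59870 : nd 59870 = n112137 := ndS (p := 31901) (l := 3) rfl N31901 D112137
theorem N59871 : nd 59871 = n112138 := ndS (p := 31901) (l := 5) rfl N31901 D112138
theorem N59872 : nd 59872 = n112139 := ndS (p := 31901) (l := 6) rfl N31901 D112139
theorem N59873 : nd 59873 = n112140 := ndS (p := 31902) (l := 4) rfl N31902 D112140
theorem N59874 : nd 59874 = n112141 := ndS (p := 31904) (l := 4) rfl N31904 D112141
theorem N59875 : nd 59875 = n112142 := ndS (p := 31904) (l := 6) rfl N31904 D112142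
theorem N59876 : nd 59876 = n112143 := ndS (p := 31905) (l := 3) rfl N31905 D112143
theorem N59877 : nd 59877 = n112144 := ndS (p := 31905) (l := 5) rfl N31905 D112144
theorem N59878 : nd 59878 = n112145 := ndS (p := 31905) (l := 6) rfl N31905 D112145
theorem N59879 : nd 59879 = n112146 := ndS (p := 31906) (l := 4) rfl N31906 D112146
theorem N59880 : nd 59880 = n112148 := ndS (p := 31908) (l := 1) rfl N31908 D112148
theorem N59881 : nd 59881 = n112149 := ndS (p := 31908) (l := 3) rfl N31908 D112149
theorem N59882 : nd 59882 = n112150 := ndS (p := 31908) (l := 5) rfl N31908 D112150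
theorem N59883 : nd 59883 = n112151 := ndS (p := 31908) (l := 6) rfl N31908 D112151
theorem N59884 : nd 59884 = n112157 := ndS (p := 31911) (l := 3) rfl N31911 D112157
theorem N59885 : nd 59885 = n112199 := ndS (p := 31913) (l := 3) rfl N31913 D112199
theorem N59886 : nd 59886 = n112203 := ndS (p := 31914) (l := 5) rfl N31914 D112203
theorem N59887 : nd 59887 = n112204 := ndS (p := 31915) (l := 4) rfl N31915 D112204
theorem N59888 : nd 59888 = n112211 := ndS (p := 31916) (l := 3) rfl N31916 D112211
theorem N59889 : nd 59889 = n112219 := ndS (p := 31918) (l := 3) rfl N31918 D112219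
theorem N59890 : nd 59890 = n112220 := ndS (p := 31919) (l := 0) rfl N31919 D112220
theorem N59891 : nd 59891 = n112221 := ndS (p := 31919) (l := 1) rfl N31919 D112221
theorem N59892 : nd 59892 = n112222 := ndS (p := 31919) (l := 2) rfl N31919 D112222
theorem N59893 : nd 59893 = n112223 := ndS (p := 31919) (l := 5) rfl N31919 D112223
theorem N59894 : nd 59894 = n112224 := ndS (p := 31919) (l := 6) rfl N31919 D112224
theorem N59895 : nd 59895 = n112225 := ndS (p := 31920) (l := 6) rfl N31920 D112225
theorem N59896 : nd 59896 = n112226 := ndS (p := 31921) (l := 0) rfl N31921 D112226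
theorem N59897 : nd 59897 = n112228 := ndS (p := 31921) (l := 5) rfl N31921 D112228
theorem N59898 : nd 59898 = n112229 := ndS (p := 31921) (l := 7) rfl N31921 D112229
theorem N59899 : nd 59899 = n112230 := ndS (p := 31922) (l := 4) rfl N31922 D112230
theorem N59900 : nd 59900 = n112231 := ndS (p := 31924) (l := 0) rfl N31924 D112231
theorem N59901 : nd 59901 = n112232 := ndS (p := 31924) (l := 1) rfl N31924 D112232
theorem N59902 : nd 59902 = n112233 := ndS (p := 31924) (l := 2) rfl N31924 D112233
theorem N59903 : nd 59903 = n112234 := ndS (p := 31925) (l := 0) rfl N31925 D112234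
theorem N59904 : nd 59904 = n112235 := ndS (p := 31925) (l := 1) rfl N31925 D112235
theorem N59905 : nd 59905 = n112236 := ndS (p := 31925) (l := 2) rfl N31925 D112236
theorem N59906 : nd 59906 = n112237 := ndS (p := 31925) (l := 6) rfl N31925 D112237
theorem N59907 : nd 59907 = n112238 := ndS (p := 31926) (l := 5) rfl N31926 D112238
theorem N59908 : nd 59908 = n112239 := ndS (p := 31927) (l := 3) rfl N31927 D112239
theorem N59909 : nd 59909 = n112241 := ndS (p := 31928) (l := 3) rfl N31928 D112241
theorem N59910 : nd 59910 = n112242 := ndS (p := 31928) (l := 6) rfl N31928 D112242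
theorem N59911 : nd 59911 = n112243 := ndS (p := 31929) (l := 5) rfl N31929 D112243
theorem N59912 : nd 59912 = n112245 := ndS (p := 31930) (l := 4) rfl N31930 D112245
theorem N59913 : nd 59913 = n112251 := ndS (p := 31931) (l := 3) rfl N31931 D112251
theorem N59914 : nd 59914 = n112252 := ndS (p := 31931) (l := 6) rfl N31931 D112252
theorem N59915 : nd 59915 = n112253 := ndS (p := 31932) (l := 0) rfl N31932 D112253
theorem N59916 : nd 59916 = n112254 := ndS (p := 31932) (l := 1) rfl N31932 D112254
theorem N59917 : nd 59917 = n112255 := ndS (p := 31932) (l := 5) rfl N31932 D112255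
theorem N59918 : nd 59918 = n112256 := ndS (p := 31932) (l := 7) rfl N31932 D112256
theorem N59919 : nd 59919 = n112257 := ndS (p := 31933) (l := 3) rfl N31933 D112257
theorem N59920 : nd 59920 = n112258 := ndS (p := 31933) (l := 6) rfl N31933 D112258
theorem N59921 : nd 59921 = n112259 := ndS (p := 31934) (l := 3) rfl N31934 D112259
theorem N59922 : nd 59922 = n112260 := ndS (p := 31935) (l := 0) rfl N31935 D112260
theorem N59923 : nd 59923 = n112261 := ndS (p := 31935) (l := 1) rfl N31935 D112261
theorem N59924 : nd 59924 = n112262 := ndS (p := 31935) (l := 4) rfl N31935 D112262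
theorem N59925 : nd 59925 = n112264 := ndS (p := 31937) (l := 4) rfl N31937 D112264
theorem N59926 : nd 59926 = n112265 := ndS (p := 31937) (l := 6) rfl N31937 D112265
theorem N59927 : nd 59927 = n112266 := ndS (p := 31938) (l := 0) rfl N31938 D112266
theorem N59928 : nd 59928 = n112268 := ndS (p := 31938) (l := 5) rfl N31938 D112268
theorem N59929 : nd 59929 = n112270 := ndS (p := 31940) (l := 3) rfl N31940 D112270
theorem N59930 : nd 59930 = n112271 := ndS (p := 31940) (l := 5) rfl N31940 D112271
theorem N59931 : nd 59931 = n112273 := ndS (p := 31941) (l := 3) rfl N31941 D112273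
theorem N59932 : nd 59932 = n112280 := ndS (p := 31942) (l := 6) rfl N31942 D112280
theorem N59933 : nd 59933 = n112281 := ndS (p := 31943) (l := 5) rfl N31943 D112281
theorem N59934 : nd 59934 = n112282 := ndS (p := 31943) (l := 6) rfl N31943 D112282
theorem N59935 : nd 59935 = n112325 := ndS (p := 31946) (l := 5) rfl N31946 D112325
theorem N59936 : nd 59936 = n112331 := ndS (p := 31947) (l := 6) rfl N31947 D112331
theorem N59937 : nd 59937 = n112333 := ndS (p := 31948) (l := 5) rfl N31948 D112333
theorem N59938 : nd 59938 = n112339 := ndS (p := 31950) (l := 4) rfl N31950 D112339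
theorem N59939 : nd 59939 = n112341 := ndS (p := 31951) (l := 3) rfl N31951 D112341
theorem N59940 : nd 59940 = n112361 := ndS (p := 31952) (l := 6) rfl N31952 D112361
theorem N59941 : nd 59941 = n112395 := ndS (p := 31955) (l := 6) rfl N31955 D112395
theorem N59942 : nd 59942 = n112396 := ndS (p := 31956) (l := 3) rfl N31956 D112396
theorem N59943 : nd 59943 = n112397 := ndS (p := 31956) (l := 5) rfl N31956 D112397
theorem N59944 : nd 59944 = n112410 := ndS (p := 31959) (l := 3) rfl N31959 D112410
theorem N59945 : nd 59945 = n112413 := ndS (p := 31960) (l := 3) rfl N31960 D112413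
theorem N59946 : nd 59946 = n112442 := ndS (p := 31964) (l := 3) rfl N31964 D112442
theorem N59947 : nd 59947 = n112443 := ndS (p := 31964) (l := 5) rfl N31964 D112443
theorem N59948 : nd 59948 = n112451 := ndS (p := 31966) (l := 3) rfl N31966 D112451
theorem N59949 : nd 59949 = n112452 := ndS (p := 31966) (l := 5) rfl N31966 D112452
theorem N59950 : nd 59950 = n112453 := ndS (p := 31966) (l := 6) rfl N31966 D112453
theorem N59951 : nd 59951 = n112454 := ndS (p := 31967) (l := 5) rfl N31967 D112454
theorem N59952 : nd 59952 = n112456 := ndS (p := 31968) (l := 1) rfl N31968 D112456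
theorem N59953 : nd 59953 = n112457 := ndS (p := 31968) (l := 2) rfl N31968 D112457
theorem N59954 : nd 59954 = n112468 := ndS (p := 31969) (l := 3) rfl N31969 D112468
theorem N59955 : nd 59955 = n112470 := ndS (p := 31969) (l := 6) rfl N31969 D112470
theorem N59956 : nd 59956 = n112487 := ndS (p := 31974) (l := 3) rfl N31974 D112487
theorem N59957 : nd 59957 = n112488 := ndS (p := 31974) (l := 5) rfl N31974 D112488
theorem N59958 : nd 59958 = n112496 := ndS (p := 31975) (l := 5) rfl N31975 D112496
theorem N59959 : nd 59959 = n112498 := ndS (p := 31976) (l := 4) rfl N31976 D112498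
theorem N59960 : nd 59960 = n112504 := ndS (p := 31977) (l := 5) rfl N31977 D112504
theorem N59961 : nd 59961 = n112524 := ndS (p := 31979) (l := 3) rfl N31979 D112524
theorem N59962 : nd 59962 = n112525 := ndS (p := 31979) (l := 5) rfl N31979 D112525
theorem N59963 : nd 59963 = n112526 := ndS (p := 31979) (l := 6) rfl N31979 D112526
theorem N59964 : nd 59964 = n112527 := ndS (p := 31980) (l := 4) rfl N31980 D112527
theorem N59965 : nd 59965 = n112532 := ndS (p := 31984) (l := 1) rfl N31984 D112532
theorem N59966 : nd 59966 = n112533 := ndS (p := 31986) (l := 5) rfl N31986 D112533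
theorem N59967 : nd 59967 = n112534 := ndS (p := 31986) (l := 6) rfl N31986 D112534
theorem N59968 : nd 59968 = n112535 := ndS (p := 31987) (l := 6) rfl N31987 D112535
theorem N59969 : nd 59969 = n112536 := ndS (p := 31988) (l := 1) rfl N31988 D112536
theorem N59970 : nd 59970 = n112538 := ndS (p := 31989) (l := 4) rfl N31989 D112538
theorem N59971 : nd 59971 = n112539 := ndS (p := 31989) (l := 6) rfl N31989 D112539
theorem N59972 : nd 59972 = n112540 := ndS (p := 31990) (l := 0) rfl N31990 D112540
theorem N59973 : nd 59973 = n112545 := ndS (p := 31991) (l := 5) rfl N31991 D112545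
theorem N59974 : nd 59974 = n112547 := ndS (p := 31992) (l := 4) rfl N31992 D112547
theorem N59975 : nd 59975 = n112548 := ndS (p := 31993) (l := 4) rfl N31993 D112548
theorem N59976 : nd 59976 = n112549 := ndS (p := 31993) (l := 6) rfl N31993 D112549
theorem N59977 : nd 59977 = n112550 := ndS (p := 31995) (l := 0) rfl N31995 D112550
theorem N59978 : nd 59978 = n112551 := ndS (p := 31995) (l := 1) rfl N31995 D112551
theorem N59979 : nd 59979 = n112552 := ndS (p := 31995) (l := 7) rfl N31995 D112552
theorem N59980 : nd 59980 = n112553 := ndS (p := 31996) (l := 0) rfl N31996 D112553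
theorem N59981 : nd 59981 = n112554 := ndS (p := 31996) (l := 1) rfl N31996 D112554
theorem N59982 : nd 59982 = n112555 := ndS (p := 31996) (l := 2) rfl N31996 D112555
theorem N59983 : nd 59983 = n112556 := ndS (p := 31996) (l := 6) rfl N31996 D112556
theorem N59984 : nd 59984 = n112557 := ndS (p := 31997) (l := 6) rfl N31997 D112557
theorem N59985 : nd 59985 = n112563 := ndS (p := 31999) (l := 5) rfl N31999 D112563
theorem N59986 : nd 59986 = n112564 := ndS (p := 32001) (l := 0) rfl N32001 D112564
theorem N59987 : nd 59987 = n112565 := ndS (p := 32001) (l := 1) rfl N32001 D112565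
theorem N59988 : nd 59988 = n112566 := ndS (p := 32001) (l := 2) rfl N32001 D112566
theorem N59989 : nd 59989 = n112567 := ndS (p := 32001) (l := 5) rfl N32001 D112567
theorem N59990 : nd 59990 = n112569 := ndS (p := 32002) (l := 6) rfl N32002 D112569
theorem N59991 : nd 59991 = n112570 := ndS (p := 32003) (l := 5) rfl N32003 D112570
theorem N59992 : nd 59992 = n112572 := ndS (p := 32006) (l := 0) rfl N32006 D112572
theorem N59993 : nd 59993 = n112573 := ndS (p := 32006) (l := 1) rfl N32006 D112573
theorem N59994 : nd 59994 = n112574 := ndS (p := 32006) (l := 4) rfl N32006 D112574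
theorem N59995 : nd 59995 = n112575 := ndS (p := 32006) (l := 6) rfl N32006 D112575
theorem N59996 : nd 59996 = n112577 := ndS (p := 32008) (l := 5) rfl N32008 D112577
theorem N59997 : nd 59997 = n112579 := ndS (p := 32009) (l := 5) rfl N32009 D112579
theorem N59998 : nd 59998 = n112590 := ndS (p := 32012) (l := 3) rfl N32012 D112590
theorem N59999 : nd 59999 = n112591 := ndS (p := 32012) (l := 6) rfl N32012 D112591
theorem N60000 : nd 60000 = n112592 := ndS (p := 32013) (l := 6) rfl N32013 D112592

end Cfsg.Agent.Helper17.ONTC
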