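import Cfsg.Agent.Helper17.ONTC.Fin6

set_option autoImplicit false
set_option linter.all false
set_option maxRecDepth 100000

noncomputable section

namespace Cfsg.Agent.Helper17.ONTC

theorem N60001 : nd 60001 = n112593 := ndS (p := 32014) (l := 0) rfl N32014 D112593
theorem N60002 : nd 60002 = n112597 := ndS (p := 32015) (l := 3) rfl N32015 D112597
theorem N60003 : nd 60003 = n112599 := ndS (p := 32016) (l := 3) rfl N32016 D112599
theorem N60004 : nd 60004 = n112601 := ndS (p := 32016) (l := 6) rfl N32016 D112601
theorem N60005 : nd 60005 = n112602 := ndS (p := 32017) (l := 0) rfl N32017 D112602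
theorem N60006 : nd 60006 = n112603 := ndS (p := 32017) (l := 1) rfl N32017 D112603
theorem N60007 : nd 60007 = n112604 := ndS (p := 32017) (l := 4) rfl N32017 D112604
theorem N60008 : nd 60008 = n112606 := ndS (p := 32018) (l := 0) rfl N32018 D112606
theorem N60009 : nd 60009 = n112607 := ndS (p := 32019) (l := 0) rfl N32019 D112607
theorem N60010 : nd 60010 = n112608 := ndS (p := 32019) (l := 3) rfl N32019 D112608
theorem N60011 : nd 60011 = n112609 := ndS (p := 32019) (l := 5) rfl N32019 D112609
theorem N60012 : nd 60012 = n112610 := ndS (p := 32020) (l := 4) rfl N32020 D112610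
theorem N60013 : nd 60013 = n112611 := ndS (p := 32020) (l := 6) rfl N32020 D112611
theorem N60014 : nd 60014 = n112612 := ndS (p := 32021) (l := 6) rfl N32021 D112612
theorem N60015 : nd 60015 = n112613 := ndS (p := 32022) (l := 3) rfl N32022 D112613
theorem N60016 : nd 60016 = n112614 := ndS (p := 32022) (l := 5) rfl N32022 D112614
theorem N60017 : nd 60017 = n112615 := ndS (p := 32022) (l := 6) rfl N32022 D112615
theorem N60018 : nd 60018 = n112616 := ndS (p := 32023) (l := 4) rfl N32023 D112616
theorem N60019 : nd 60019 = n112617 := ndS (p := 32026) (l := 6) rfl N32026 D112617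
theorem N60020 : nd 60020 = n112618 := ndS (p := 32027) (l := 5) rfl N32027 D112618
theorem N60021 : nd 60021 = n112661 := ndS (p := 32030) (l := 4) rfl N32030 D112661
theorem N60022 : nd 60022 = n112662 := ndS (p := 32031) (l := 6) rfl N32031 D112662
theorem N60023 : nd 60023 = n112663 := ndS (p := 32032) (l := 5) rfl N32032 D112663
theorem N60024 : nd 60024 = n112664 := ndS (p := 32032) (l := 6) rfl N32032 D112664
theorem N60025 : nd 60025 = n112665 := ndS (p := 32037) (l := 6) rfl N32037 D112665
theorem N60026 : nd 60026 = n112667 := ndS (p := 32039) (l := 3) rfl N32039 D112667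
theorem N60027 : nd 60027 = n112668 := ndS (p := 32039) (l := 4) rfl N32039 D112668
theorem N60028 : nd 60028 = n112670 := ndS (p := 32039) (l := 6) rfl N32039 D112670
theorem N60029 : nd 60029 = n112672 := ndS (p := 32040) (l := 3) rfl N32040 D112672
theorem N60030 : nd 60030 = n112673 := ndS (p := 32040) (l := 4) rfl N32040 D112673
theorem N60031 : nd 60031 = n112675 := ndS (p := 32040) (l := 6) rfl N32040 D112675
theorem N60032 : nd 60032 = n112676 := ndS (p := 32041) (l := 6) rfl N32041 D112676
theorem N60033 : nd 60033 = n112677 := ndS (p := 32042) (l := 0) rfl N32042 D112677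
theorem N60034 : nd 60034 = n112678 := ndS (p := 32042) (l := 1) rfl N32042 D112678
theorem N60035 : nd 60035 = n112679 := ndS (p := 32042) (l := 5) rfl N32042 D112679
theorem N60036 : nd 60036 = n112680 := ndS (p := 32042) (l := 7) rfl N32042 D112680
theorem N60037 : nd 60037 = n112681 := ndS (p := 32043) (l := 0) rfl N32043 D112681
theorem N60038 : nd 60038 = n112682 := ndS (p := 32043) (l := 1) rfl N32043 D112682
theorem N60039 : nd 60039 = n112683 := ndS (p := 32043) (l := 4) rfl N32043 D112683
theorem N60040 : nd 60040 = n112684 := ndS (p := 32043) (l := 7) rfl N32043 D112684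
theorem N60041 : nd 60041 = n112685 := ndS (p := 32045) (l := 6) rfl N32045 D112685
theorem N60042 : nd 60042 = n112687 := ndS (p := 32048) (l := 5) rfl N32048 D112687
theorem N60043 : nd 60043 = n112688 := ndS (p := 32050) (l := 3) rfl N32050 D112688
theorem N60044 : nd 60044 = n112689 := ndS (p := 32050) (l := 5) rfl N32050 D112689
theorem N60045 : nd 60045 = n112690 := ndS (p := 32050) (l := 7) rfl N32050 D112690
theorem N60046 : nd 60046 = n112691 := ndS (p := 32052) (l := 0) rfl N32052 D112691
theorem N60047 : nd 60047 = n112692 := ndS (p := 32052) (l := 1) rfl N32052 D112692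
theorem N60048 : nd 60048 = n112693 := ndS (p := 32052) (l := 2) rfl N32052 D112693
theorem N60049 : nd 60049 = n112696 := ndS (p := 32054) (l := 4) rfl N32054 D112696
theorem N60050 : nd 60050 = n112697 := ndS (p := 32054) (l := 6) rfl N32054 D112697
theorem N60051 : nd 60051 = n112698 := ndS (p := 32055) (l := 3) rfl N32055 D112698
theorem N60052 : nd 60052 = n112699 := ndS (p := 32055) (l := 6) rfl N32055 D112699
theorem N60053 : nd 60053 = n112700 := ndS (p := 32056) (l := 1) rfl N32056 D112700
theorem N60054 : nd 60054 = n112701 := ndS (p := 32056) (l := 7) rfl N32056 D112701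
theorem N60055 : nd 60055 = n112702 := ndS (p := 32057) (l := 0) rfl N32057 D112702
theorem N60056 : nd 60056 = n112703 := ndS (p := 32058) (l := 0) rfl N32058 D112703
theorem N60057 : nd 60057 = n112704 := ndS (p := 32058) (l := 2) rfl N32058 D112704
theorem N60058 : nd 60058 = n112705 := ndS (p := 32058) (l := 5) rfl N32058 D112705
theorem N60059 : nd 60059 = n112707 := ndS (p := 32059) (l := 6) rfl N32059 D112707
theorem N60060 : nd 60060 = n112712 := ndS (p := 32061) (l := 5) rfl N32061 D112712
theorem N60061 : nd 60061 = n112714 := ndS (p := 32062) (l := 6) rfl N32062 D112714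
theorem N60062 : nd 60062 = n112715 := ndS (p := 32063) (l := 5) rfl N32063 D112715
theorem N60063 : nd 60063 = n112716 := ndS (p := 32064) (l := 1) rfl N32064 D112716
theorem N60064 : nd 60064 = n112717 := ndS (p := 32065) (l := 0) rfl N32065 D112717
theorem N60065 : nd 60065 = n112718 := ndS (p := 32065) (l := 1) rfl N32065 D112718
theorem N60066 : nd 60066 = n112719 := ndS (p := 32065) (l := 2) rfl N32065 D112719
theorem N60067 : nd 60067 = n112720 := ndS (p := 32065) (l := 5) rfl N32065 D112720
theorem N60068 : nd 60068 = n112721 := ndS (p := 32065) (l := 6) rfl N32065 D112721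
theorem N60069 : nd 60069 = n112722 := ndS (p := 32066) (l := 6) rfl N32066 D112722
theorem N60070 : nd 60070 = n112723 := ndS (p := 32067) (l := 1) rfl N32067 D112723
theorem N60071 : nd 60071 = n112724 := ndS (p := 32067) (l := 5) rfl N32067 D112724
theorem N60072 : nd 60072 = n112725 := ndS (p := 32068) (l := 0) rfl N32068 D112725
theorem N60073 : nd 60073 = n112726 := ndS (p := 32068) (l := 1) rfl N32068 D112726
theorem N60074 : nd 60074 = n112727 := ndS (p := 32069) (l := 0) rfl N32069 D112727
theorem N60075 : nd 60075 = n112729 := ndS (p := 32069) (l := 2) rfl N32069 D112729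
theorem N60076 : nd 60076 = n112730 := ndS (p := 32069) (l := 5) rfl N32069 D112730
theorem N60077 : nd 60077 = n112731 := ndS (p := 32069) (l := 6) rfl N32069 D112731
theorem N60078 : nd 60078 = n112732 := ndS (p := 32070) (l := 6) rfl N32070 D112732
theorem N60079 : nd 60079 = n112733 := ndS (p := 32071) (l := 0) rfl N32071 D112733
theorem N60080 : nd 60080 = n112734 := ndS (p := 32071) (l := 1) rfl N32071 D112734
theorem N60081 : nd 60081 = n112735 := ndS (p := 32071) (l := 5) rfl N32071 D112735
theorem N60082 : nd 60082 = n112736 := ndS (p := 32071) (l := 7) rfl N32071 D112736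
theorem N60083 : nd 60083 = n112737 := ndS (p := 32072) (l := 4) rfl N32072 D112737
theorem N60084 : nd 60084 = n112738 := ndS (p := 32072) (l := 5) rfl N32072 D112738
theorem N60085 : nd 60085 = n112739 := ndS (p := 32074) (l := 0) rfl N32074 D112739
theorem N60086 : nd 60086 = n112740 := ndS (p := 32074) (l := 1) rfl N32074 D112740
theorem N60087 : nd 60087 = n112742 := ndS (p := 32074) (l := 5) rfl N32074 D112742
theorem N60088 : nd 60088 = n112744 := ndS (p := 32075) (l := 6) rfl N32075 D112744
theorem N60089 : nd 60089 = n112746 := ndS (p := 32077) (l := 0) rfl N32077 D112746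
theorem N60090 : nd 60090 = n112747 := ndS (p := 32077) (l := 1) rfl N32077 D112747
theorem N60091 : nd 60091 = n112748 := ndS (p := 32077) (l := 2) rfl N32077 D112748
theorem N60092 : nd 60092 = n112749 := ndS (p := 32077) (l := 5) rfl N32077 D112749
theorem N60093 : nd 60093 = n112750 := ndS (p := 32077) (l := 6) rfl N32077 D112750
theorem N60094 : nd 60094 = n112753 := ndS (p := 32079) (l := 7) rfl N32079 D112753
theorem N60095 : nd 60095 = n112761 := ndS (p := 32080) (l := 6) rfl N32080 D112761
theorem N60096 : nd 60096 = n112766 := ndS (p := 32081) (l := 0) rfl N32081 D112766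
theorem N60097 : nd 60097 = n112767 := ndS (p := 32081) (l := 1) rfl N32081 D112767
theorem N60098 : nd 60098 = n112768 := ndS (p := 32081) (l := 5) rfl N32081 D112768
theorem N60099 : nd 60099 = n112769 := ndS (p := 32081) (l := 7) rfl N32081 D112769
theorem N60100 : nd 60100 = n112770 := ndS (p := 32082) (l := 3) rfl N32082 D112770
theorem N60101 : nd 60101 = n112771 := ndS (p := 32082) (l := 5) rfl N32082 D112771
theorem N60102 : nd 60102 = n112772 := ndS (p := 32083) (l := 0) rfl N32083 D112772
theorem N60103 : nd 60103 = n112773 := ndS (p := 32083) (l := 1) rfl N32083 D112773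
theorem N60104 : nd 60104 = n112774 := ndS (p := 32083) (l := 4) rfl N32083 D112774
theorem N60105 : nd 60105 = n112776 := ndS (p := 32085) (l := 3) rfl N32085 D112776
theorem N60106 : nd 60106 = n112777 := ndS (p := 32085) (l := 5) rfl N32085 D112777
theorem N60107 : nd 60107 = n112779 := ndS (p := 32086) (l := 3) rfl N32086 D112779
theorem N60108 : nd 60108 = n112780 := ndS (p := 32086) (l := 4) rfl N32086 D112780
theorem N60109 : nd 60109 = n112781 := ndS (p := 32086) (l := 5) rfl N32086 D112781
theorem N60110 : nd 60110 = n112784 := ndS (p := 32087) (l := 4) rfl N32087 D112784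
theorem N60111 : nd 60111 = n112785 := ndS (p := 32087) (l := 5) rfl N32087 D112785
theorem N60112 : nd 60112 = n112786 := ndS (p := 32088) (l := 0) rfl N32088 D112786
theorem N60113 : nd 60113 = n112787 := ndS (p := 32088) (l := 1) rfl N32088 D112787
theorem N60114 : nd 60114 = n112788 := ndS (p := 32088) (l := 5) rfl N32088 D112788
theorem N60115 : nd 60115 = n112789 := ndS (p := 32088) (l := 7) rfl N32088 D112789
theorem N60116 : nd 60116 = n112790 := ndS (p := 32090) (l := 6) rfl N32090 D112790
theorem N60117 : nd 60117 = n112837 := ndS (p := 32091) (l := 4) rfl N32091 D112837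
theorem N60118 : nd 60118 = n112838 := ndS (p := 32092) (l := 4) rfl N32092 D112838
theorem N60119 : nd 60119 = n112839 := ndS (p := 32093) (l := 0) rfl N32093 D112839
theorem N60120 : nd 60120 = n112840 := ndS (p := 32093) (l := 5) rfl N32093 D112840
theorem N60121 : nd 60121 = n112841 := ndS (p := 32094) (l := 4) rfl N32094 D112841
theorem N60122 : nd 60122 = n112842 := ndS (p := 32097) (l := 0) rfl N32097 D112842
theorem N60123 : nd 60123 = n112843 := ndS (p := 32097) (l := 1) rfl N32097 D112843
theorem N60124 : nd 60124 = n112844 := ndS (p := 32097) (l := 2) rfl N32097 D112844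
theorem N60125 : nd 60125 = n112846 := ndS (p := 32098) (l := 5) rfl N32098 D112846
theorem N60126 : nd 60126 = n112847 := ndS (p := 32098) (l := 7) rfl N32098 D112847
theorem N60127 : nd 60127 = n112848 := ndS (p := 32099) (l := 4) rfl N32099 D112848
theorem N60128 : nd 60128 = n112849 := ndS (p := 32100) (l := 4) rfl N32100 D112849
theorem N60129 : nd 60129 = n112850 := ndS (p := 32100) (l := 6) rfl N32100 D112850
theorem N60130 : nd 60130 = n112855 := ndS (p := 32103) (l := 0) rfl N32103 D112855
theorem N60131 : nd 60131 = n112856 := ndS (p := 32103) (l := 1) rfl N32103 D112856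
theorem N60132 : nd 60132 = n112857 := ndS (p := 32103) (l := 5) rfl N32103 D112857
theorem N60133 : nd 60133 = n112859 := ndS (p := 32104) (l := 4) rfl N32104 D112859
theorem N60134 : nd 60134 = n112860 := ndS (p := 32104) (l := 5) rfl N32104 D112860
theorem N60135 : nd 60135 = n112861 := ndS (p := 32105) (l := 4) rfl N32105 D112861
theorem N60136 : nd 60136 = n112862 := ndS (p := 32107) (l := 0) rfl N32107 D112862
theorem N60137 : nd 60137 = n112863 := ndS (p := 32107) (l := 1) rfl N32107 D112863
theorem N60138 : nd 60138 = n112864 := ndS (p := 32107) (l := 2) rfl N32107 D112864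
theorem N60139 : nd 60139 = n112865 := ndS (p := 32107) (l := 6) rfl N32107 D112865
theorem N60140 : nd 60140 = n112866 := ndS (p := 32108) (l := 5) rfl N32108 D112866
theorem N60141 : nd 60141 = n112867 := ndS (p := 32108) (l := 7) rfl N32108 D112867
theorem N60142 : nd 60142 = n112876 := ndS (p := 32110) (l := 0) rfl N32110 D112876
theorem N60143 : nd 60143 = n112877 := ndS (p := 32110) (l := 2) rfl N32110 D112877
theorem N60144 : nd 60144 = n112878 := ndS (p := 32110) (l := 3) rfl N32110 D112878
theorem N60145 : nd 60145 = n112879 := ndS (p := 32110) (l := 4) rfl N32110 D112879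
theorem N60146 : nd 60146 = n112880 := ndS (p := 32110) (l := 5) rfl N32110 D112880
theorem N60147 : nd 60147 = n112881 := ndS (p := 32110) (l := 6) rfl N32110 D112881
theorem N60148 : nd 60148 = n112882 := ndS (p := 32110) (l := 7) rfl N32110 D112882
theorem N60149 : nd 60149 = n112884 := ndS (p := 32111) (l := 4) rfl N32111 D112884
theorem N60150 : nd 60150 = n112885 := ndS (p := 32111) (l := 5) rfl N32111 D112885
theorem N60151 : nd 60151 = n112889 := ndS (p := 32112) (l := 5) rfl N32112 D112889
theorem N60152 : nd 60152 = n112890 := ndS (p := 32113) (l := 0) rfl N32113 D112890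
theorem N60153 : nd 60153 = n112891 := ndS (p := 32113) (l := 1) rfl N32113 D112891
theorem N60154 : nd 60154 = n112892 := ndS (p := 32113) (l := 4) rfl N32113 D112892
theorem N60155 : nd 60155 = n112893 := ndS (p := 32113) (l := 6) rfl N32113 D112893
theorem N60156 : nd 60156 = n112895 := ndS (p := 32115) (l := 0) rfl N32115 D112895
theorem N60157 : nd 60157 = n112896 := ndS (p := 32115) (l := 1) rfl N32115 D112896
theorem N60158 : nd 60158 = n112897 := ndS (p := 32115) (l := 7) rfl N32115 D112897
theorem N60159 : nd 60159 = n112898 := ndS (p := 32116) (l := 1) rfl N32116 D112898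
theorem N60160 : nd 60160 = n112900 := ndS (p := 32117) (l := 4) rfl N32117 D112900
theorem N60161 : nd 60161 = n112901 := ndS (p := 32118) (l := 0) rfl N32118 D112901
theorem N60162 : nd 60162 = n112902 := ndS (p := 32118) (l := 1) rfl N32118 D112902
theorem N60163 : nd 60163 = n112905 := ndS (p := 32119) (l := 5) rfl N32119 D112905
theorem N60164 : nd 60164 = n112907 := ndS (p := 32121) (l := 6) rfl N32121 D112907
theorem N60165 : nd 60165 = n112908 := ndS (p := 32123) (l := 4) rfl N32123 D112908
theorem N60166 : nd 60166 = n112909 := ndS (p := 32123) (l := 6) rfl N32123 D112909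
theorem N60167 : nd 60167 = n112910 := ndS (p := 32124) (l := 1) rfl N32124 D112910
theorem N60168 : nd 60168 = n112911 := ndS (p := 32124) (l := 7) rfl N32124 D112911
theorem N60169 : nd 60169 = n112915 := ndS (p := 32126) (l := 6) rfl N32126 D112915
theorem N60170 : nd 60170 = n112919 := ndS (p := 32129) (l := 5) rfl N32129 D112919
theorem N60171 : nd 60171 = n112920 := ndS (p := 32130) (l := 4) rfl N32130 D112920
theorem N60172 : nd 60172 = n112921 := ndS (p := 32130) (l := 7) rfl N32130 D112921
theorem N60173 : nd 60173 = n112922 := ndS (p := 32132) (l := 4) rfl N32132 D112922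
theorem N60174 : nd 60174 = n112923 := ndS (p := 32132) (l := 6) rfl N32132 D112923
theorem N60175 : nd 60175 = n112924 := ndS (p := 32133) (l := 0) rfl N32133 D112924
theorem N60176 : nd 60176 = n112925 := ndS (p := 32133) (l := 6) rfl N32133 D112925
theorem N60177 : nd 60177 = n112926 := ndS (p := 32134) (l := 4) rfl N32134 D112926
theorem N60178 : nd 60178 = n112927 := ndS (p := 32134) (l := 6) rfl N32134 D112927
theorem N60179 : nd 60179 = n112928 := ndS (p := 32135) (l := 4) rfl N32135 D112928
theorem N60180 : nd 60180 = n112929 := ndS (p := 32135) (l := 6) rfl N32135 D112929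
theorem N60181 : nd 60181 = n112930 := ndS (p := 32136) (l := 3) rfl N32136 D112930
theorem N60182 : nd 60182 = n112932 := ndS (p := 32136) (l := 6) rfl N32136 D112932
theorem N60183 : nd 60183 = n112933 := ndS (p := 32137) (l := 0) rfl N32137 D112933
theorem N60184 : nd 60184 = n112934 := ndS (p := 32137) (l := 1) rfl N32137 D112934
theorem N60185 : nd 60185 = n112935 := ndS (p := 32137) (l := 7) rfl N32137 D112935
theorem N60186 : nd 60186 = n112936 := ndS (p := 32138) (l := 6) rfl N32138 D112936
theorem N60187 : nd 60187 = n112937 := ndS (p := 32139) (l := 4) rfl N32139 D112937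
theorem N60188 : nd 60188 = n112938 := ndS (p := 32139) (l := 6) rfl N32139 D112938
theorem N60189 : nd 60189 = n112939 := ndS (p := 32140) (l := 0) rfl N32140 D112939
theorem N60190 : nd 60190 = n112940 := ndS (p := 32140) (l := 1) rfl N32140 D112940
theorem N60191 : nd 60191 = n112941 := ndS (p := 32140) (l := 7) rfl N32140 D112941
theorem N60192 : nd 60192 = n112942 := ndS (p := 32141) (l := 0) rfl N32141 D112942
theorem N60193 : nd 60193 = n112943 := ndS (p := 32141) (l := 1) rfl N32141 D112943
theorem N60194 : nd 60194 = n112944 := ndS (p := 32141) (l := 2) rfl N32141 D112944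
theorem N60195 : nd 60195 = n112945 := ndS (p := 32141) (l := 6) rfl N32141 D112945
theorem N60196 : nd 60196 = n112946 := ndS (p := 32142) (l := 0) rfl N32142 D112946
theorem N60197 : nd 60197 = n112947 := ndS (p := 32142) (l := 1) rfl N32142 D112947
theorem N60198 : nd 60198 = n112949 := ndS (p := 32142) (l := 7) rfl N32142 D112949
theorem N60199 : nd 60199 = n112950 := ndS (p := 32143) (l := 3) rfl N32143 D112950
theorem N60200 : nd 60200 = n112951 := ndS (p := 32143) (l := 4) rfl N32143 D112951
theorem N60201 : nd 60201 = n112952 := ndS (p := 32143) (l := 6) rfl N32143 D112952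
theorem N60202 : nd 60202 = n112954 := ndS (p := 32144) (l := 4) rfl N32144 D112954
theorem N60203 : nd 60203 = n112955 := ndS (p := 32144) (l := 6) rfl N32144 D112955
theorem N60204 : nd 60204 = n112956 := ndS (p := 32145) (l := 6) rfl N32145 D112956
theorem N60205 : nd 60205 = n112957 := ndS (p := 32146) (l := 0) rfl N32146 D112957
theorem N60206 : nd 60206 = n112958 := ndS (p := 32146) (l := 1) rfl N32146 D112958
theorem N60207 : nd 60207 = n112959 := ndS (p := 32147) (l := 0) rfl N32147 D112959
theorem N60208 : nd 60208 = n112960 := ndS (p := 32147) (l := 7) rfl N32147 D112960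
theorem N60209 : nd 60209 = n112961 := ndS (p := 32148) (l := 1) rfl N32148 D112961
theorem N60210 : nd 60210 = n112962 := ndS (p := 32148) (l := 7) rfl N32148 D112962
theorem N60211 : nd 60211 = n112963 := ndS (p := 32149) (l := 0) rfl N32149 D112963
theorem N60212 : nd 60212 = n112964 := ndS (p := 32149) (l := 1) rfl N32149 D112964
theorem N60213 : nd 60213 = n112965 := ndS (p := 32149) (l := 2) rfl N32149 D112965
theorem N60214 : nd 60214 = n112966 := ndS (p := 32149) (l := 5) rfl N32149 D112966
theorem N60215 : nd 60215 = n112967 := ndS (p := 32150) (l := 6) rfl N32150 D112967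
theorem N60216 : nd 60216 = n112968 := ndS (p := 32152) (l := 0) rfl N32152 D112968
theorem N60217 : nd 60217 = n112969 := ndS (p := 32152) (l := 1) rfl N32152 D112969
theorem N60218 : nd 60218 = n112970 := ndS (p := 32152) (l := 2) rfl N32152 D112970
theorem N60219 : nd 60219 = n112971 := ndS (p := 32152) (l := 6) rfl N32152 D112971
theorem N60220 : nd 60220 = n112972 := ndS (p := 32153) (l := 6) rfl N32153 D112972
theorem N60221 : nd 60221 = n112973 := ndS (p := 32154) (l := 5) rfl N32154 D112973
theorem N60222 : nd 60222 = n112974 := ndS (p := 32155) (l := 0) rfl N32155 D112974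
theorem N60223 : nd 60223 = n112975 := ndS (p := 32155) (l := 1) rfl N32155 D112975
theorem N60224 : nd 60224 = n112976 := ndS (p := 32155) (l := 2) rfl N32155 D112976
theorem N60225 : nd 60225 = n112977 := ndS (p := 32155) (l := 6) rfl N32155 D112977
theorem N60226 : nd 60226 = n112978 := ndS (p := 32156) (l := 5) rfl N32156 D112978
theorem N60227 : nd 60227 = n112979 := ndS (p := 32156) (l := 7) rfl N32156 D112979
theorem N60228 : nd 60228 = n112980 := ndS (p := 32157) (l := 0) rfl N32157 D112980
theorem N60229 : nd 60229 = n112981 := ndS (p := 32157) (l := 2) rfl N32157 D112981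
theorem N60230 : nd 60230 = n112982 := ndS (p := 32157) (l := 3) rfl N32157 D112982
theorem N60231 : nd 60231 = n112983 := ndS (p := 32157) (l := 5) rfl N32157 D112983
theorem N60232 : nd 60232 = n112984 := ndS (p := 32157) (l := 6) rfl N32157 D112984
theorem N60233 : nd 60233 = n112985 := ndS (p := 32157) (l := 7) rfl N32157 D112985
theorem N60234 : nd 60234 = n112986 := ndS (p := 32158) (l := 3) rfl N32158 D112986
theorem N60235 : nd 60235 = n112987 := ndS (p := 32158) (l := 4) rfl N32158 D112987
theorem N60236 : nd 60236 = n112988 := ndS (p := 32158) (l := 5) rfl N32158 D112988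
theorem N60237 : nd 60237 = n112989 := ndS (p := 32158) (l := 6) rfl N32158 D112989
theorem N60238 : nd 60238 = n112990 := ndS (p := 32159) (l := 5) rfl N32159 D112990
theorem N60239 : nd 60239 = n112991 := ndS (p := 32160) (l := 0) rfl N32160 D112991
theorem N60240 : nd 60240 = n112992 := ndS (p := 32160) (l := 1) rfl N32160 D112992
theorem N60241 : nd 60241 = n112993 := ndS (p := 32160) (l := 4) rfl N32160 D112993
theorem N60242 : nd 60242 = n112994 := ndS (p := 32160) (l := 6) rfl N32160 D112994
theorem N60243 : nd 60243 = n112995 := ndS (p := 32161) (l := 6) rfl N32161 D112995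
theorem N60244 : nd 60244 = n112996 := ndS (p := 32162) (l := 0) rfl N32162 D112996
theorem N60245 : nd 60245 = n112997 := ndS (p := 32162) (l := 1) rfl N32162 D112997
theorem N60246 : nd 60246 = n112998 := ndS (p := 32162) (l := 7) rfl N32162 D112998
theorem N60247 : nd 60247 = n112999 := ndS (p := 32163) (l := 5) rfl N32163 D112999
theorem N60248 : nd 60248 = n113004 := ndS (p := 32165) (l := 5) rfl N32165 D113004
theorem N60249 : nd 60249 = n113005 := ndS (p := 32166) (l := 6) rfl N32166 D113005
theorem N60250 : nd 60250 = n113006 := ndS (p := 32169) (l := 0) rfl N32169 D113006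
theorem N60251 : nd 60251 = n113007 := ndS (p := 32169) (l := 1) rfl N32169 D113007
theorem N60252 : nd 60252 = n113008 := ndS (p := 32169) (l := 7) rfl N32169 D113008
theorem N60253 : nd 60253 = n113009 := ndS (p := 32170) (l := 0) rfl N32170 D113009
theorem N60254 : nd 60254 = n113014 := ndS (p := 32173) (l := 0) rfl N32173 D113014
theorem N60255 : nd 60255 = n113015 := ndS (p := 32173) (l := 1) rfl N32173 D113015
theorem N60256 : nd 60256 = n113016 := ndS (p := 32173) (l := 7) rfl N32173 D113016
theorem N60257 : nd 60257 = n113017 := ndS (p := 32174) (l := 4) rfl N32174 D113017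
theorem N60258 : nd 60258 = n113018 := ndS (p := 32174) (l := 6) rfl N32174 D113018
theorem N60259 : nd 60259 = n113019 := ndS (p := 32175) (l := 0) rfl N32175 D113019
theorem N60260 : nd 60260 = n113020 := ndS (p := 32175) (l := 1) rfl N32175 D113020
theorem N60261 : nd 60261 = n113021 := ndS (p := 32175) (l := 4) rfl N32175 D113021
theorem N60262 : nd 60262 = n113022 := ndS (p := 32175) (l := 6) rfl N32175 D113022
theorem N60263 : nd 60263 = n113023 := ndS (p := 32176) (l := 4) rfl N32176 D113023
theorem N60264 : nd 60264 = n113024 := ndS (p := 32177) (l := 4) rfl N32177 D113024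
theorem N60265 : nd 60265 = n113025 := ndS (p := 32177) (l := 6) rfl N32177 D113025
theorem N60266 : nd 60266 = n113026 := ndS (p := 32178) (l := 0) rfl N32178 D113026
theorem N60267 : nd 60267 = n113027 := ndS (p := 32178) (l := 1) rfl N32178 D113027
theorem N60268 : nd 60268 = n113029 := ndS (p := 32178) (l := 5) rfl N32178 D113029
theorem N60269 : nd 60269 = n113031 := ndS (p := 32178) (l := 7) rfl N32178 D113031
theorem N60270 : nd 60270 = n113032 := ndS (p := 32179) (l := 0) rfl N32179 D113032
theorem N60271 : nd 60271 = n113033 := ndS (p := 32179) (l := 7) rfl N32179 D113033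
theorem N60272 : nd 60272 = n113034 := ndS (p := 32180) (l := 6) rfl N32180 D113034
theorem N60273 : nd 60273 = n113035 := ndS (p := 32181) (l := 0) rfl N32181 D113035
theorem N60274 : nd 60274 = n113036 := ndS (p := 32181) (l := 1) rfl N32181 D113036
theorem N60275 : nd 60275 = n113037 := ndS (p := 32181) (l := 7) rfl N32181 D113037
theorem N60276 : nd 60276 = n113038 := ndS (p := 32182) (l := 0) rfl N32182 D113038
theorem N60277 : nd 60277 = n113039 := ndS (p := 32182) (l := 1) rfl N32182 D113039
theorem N60278 : nd 60278 = n113040 := ndS (p := 32182) (l := 7) rfl N32182 D113040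
theorem N60279 : nd 60279 = n113041 := ndS (p := 32183) (l := 0) rfl N32183 D113041
theorem N60280 : nd 60280 = n113042 := ndS (p := 32183) (l := 1) rfl N32183 D113042
theorem N60281 : nd 60281 = n113043 := ndS (p := 32183) (l := 2) rfl N32183 D113043
theorem N60282 : nd 60282 = n113045 := ndS (p := 32184) (l := 0) rfl N32184 D113045
theorem N60283 : nd 60283 = n113050 := ndS (p := 32185) (l := 4) rfl N32185 D113050
theorem N60284 : nd 60284 = n113051 := ndS (p := 32185) (l := 6) rfl N32185 D113051
theorem N60285 : nd 60285 = n113052 := ndS (p := 32186) (l := 3) rfl N32186 D113052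
theorem N60286 : nd 60286 = n113053 := ndS (p := 32186) (l := 4) rfl N32186 D113053
theorem N60287 : nd 60287 = n113055 := ndS (p := 32187) (l := 6) rfl N32187 D113055
theorem N60288 : nd 60288 = n113056 := ndS (p := 32188) (l := 0) rfl N32188 D113056
theorem N60289 : nd 60289 = n113057 := ndS (p := 32188) (l := 1) rfl N32188 D113057
theorem N60290 : nd 60290 = n113058 := ndS (p := 32189) (l := 0) rfl N32189 D113058
theorem N60291 : nd 60291 = n113060 := ndS (p := 32189) (l := 2) rfl N32189 D113060
theorem N60292 : nd 60292 = n113061 := ndS (p := 32190) (l := 5) rfl N32190 D113061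
theorem N60293 : nd 60293 = n113062 := ndS (p := 32191) (l := 6) rfl N32191 D113062
theorem N60294 : nd 60294 = n113063 := ndS (p := 32193) (l := 6) rfl N32193 D113063
theorem N60295 : nd 60295 = n113064 := ndS (p := 32196) (l := 0) rfl N32196 D113064
theorem N60296 : nd 60296 = n113065 := ndS (p := 32196) (l := 2) rfl N32196 D113065
theorem N60297 : nd 60297 = n113066 := ndS (p := 32196) (l := 3) rfl N32196 D113066
theorem N60298 : nd 60298 = n113067 := ndS (p := 32196) (l := 4) rfl N32196 D113067
theorem N60299 : nd 60299 = n113068 := ndS (p := 32196) (l := 5) rfl N32196 D113068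
theorem N60300 : nd 60300 = n113069 := ndS (p := 32196) (l := 6) rfl N32196 D113069
theorem N60301 : nd 60301 = n113070 := ndS (p := 32196) (l := 7) rfl N32196 D113070
theorem N60302 : nd 60302 = n113071 := ndS (p := 32197) (l := 3) rfl N32197 D113071
theorem N60303 : nd 60303 = n113072 := ndS (p := 32197) (l := 4) rfl N32197 D113072
theorem N60304 : nd 60304 = n113073 := ndS (p := 32197) (l := 5) rfl N32197 D113073
theorem N60305 : nd 60305 = n113077 := ndS (p := 32198) (l := 5) rfl N32198 D113077
theorem N60306 : nd 60306 = n113078 := ndS (p := 32199) (l := 0) rfl N32199 D113078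
theorem N60307 : nd 60307 = n113079 := ndS (p := 32199) (l := 1) rfl N32199 D113079
theorem N60308 : nd 60308 = n113080 := ndS (p := 32199) (l := 4) rfl N32199 D113080
theorem N60309 : nd 60309 = n113082 := ndS (p := 32200) (l := 6) rfl N32200 D113082
theorem N60310 : nd 60310 = n113083 := ndS (p := 32201) (l := 0) rfl N32201 D113083
theorem N60311 : nd 60311 = n113084 := ndS (p := 32201) (l := 1) rfl N32201 D113084
theorem N60312 : nd 60312 = n113085 := ndS (p := 32201) (l := 7) rfl N32201 D113085
theorem N60313 : nd 60313 = n113086 := ndS (p := 32202) (l := 5) rfl N32202 D113086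
theorem N60314 : nd 60314 = n113087 := ndS (p := 32203) (l := 5) rfl N32203 D113087
theorem N60315 : nd 60315 = n113088 := ndS (p := 32203) (l := 6) rfl N32203 D113088
theorem N60316 : nd 60316 = n113089 := ndS (p := 32204) (l := 0) rfl N32204 D113089
theorem N60317 : nd 60317 = n113090 := ndS (p := 32204) (l := 1) rfl N32204 D113090
theorem N60318 : nd 60318 = n113091 := ndS (p := 32204) (l := 2) rfl N32204 D113091
theorem N60319 : nd 60319 = n113092 := ndS (p := 32204) (l := 7) rfl N32204 D113092
theorem N60320 : nd 60320 = n113093 := ndS (p := 32205) (l := 6) rfl N32205 D113093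
theorem N60321 : nd 60321 = n113094 := ndS (p := 32205) (l := 7) rfl N32205 D113094
theorem N60322 : nd 60322 = n113095 := ndS (p := 32206) (l := 6) rfl N32206 D113095
theorem N60323 : nd 60323 = n113096 := ndS (p := 32208) (l := 1) rfl N32208 D113096
theorem N60324 : nd 60324 = n113098 := ndS (p := 32209) (l := 1) rfl N32209 D113098
theorem N60325 : nd 60325 = n113099 := ndS (p := 32209) (l := 2) rfl N32209 D113099
theorem N60326 : nd 60326 = n113100 := ndS (p := 32209) (l := 5) rfl N32209 D113100
theorem N60327 : nd 60327 = n113101 := ndS (p := 32210) (l := 6) rfl N32210 D113101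
theorem N60328 : nd 60328 = n113102 := ndS (p := 32211) (l := 5) rfl N32211 D113102
theorem N60329 : nd 60329 = n113103 := ndS (p := 32212) (l := 6) rfl N32212 D113103
theorem N60330 : nd 60330 = n113104 := ndS (p := 32214) (l := 0) rfl N32214 D113104
theorem N60331 : nd 60331 = n113105 := ndS (p := 32214) (l := 2) rfl N32214 D113105
theorem N60332 : nd 60332 = n113106 := ndS (p := 32214) (l := 3) rfl N32214 D113106
theorem N60333 : nd 60333 = n113107 := ndS (p := 32214) (l := 4) rfl N32214 D113107
theorem N60334 : nd 60334 = n113108 := ndS (p := 32214) (l := 5) rfl N32214 D113108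
theorem N60335 : nd 60335 = n113109 := ndS (p := 32214) (l := 6) rfl N32214 D113109
theorem N60336 : nd 60336 = n113110 := ndS (p := 32214) (l := 7) rfl N32214 D113110
theorem N60337 : nd 60337 = n113112 := ndS (p := 32215) (l := 4) rfl N32215 D113112
theorem N60338 : nd 60338 = n113113 := ndS (p := 32215) (l := 5) rfl N32215 D113113
theorem N60339 : nd 60339 = n113117 := ndS (p := 32216) (l := 5) rfl N32216 D113117
theorem N60340 : nd 60340 = n113118 := ndS (p := 32217) (l := 0) rfl N32217 D113118
theorem N60341 : nd 60341 = n113119 := ndS (p := 32217) (l := 1) rfl N32217 D113119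
theorem N60342 : nd 60342 = n113120 := ndS (p := 32217) (l := 4) rfl N32217 D113120
theorem N60343 : nd 60343 = n113121 := ndS (p := 32217) (l := 6) rfl N32217 D113121
theorem N60344 : nd 60344 = n113122 := ndS (p := 32218) (l := 6) rfl N32218 D113122
theorem N60345 : nd 60345 = n113123 := ndS (p := 32219) (l := 0) rfl N32219 D113123
theorem N60346 : nd 60346 = n113124 := ndS (p := 32219) (l := 1) rfl N32219 D113124
theorem N60347 : nd 60347 = n113125 := ndS (p := 32219) (l := 7) rfl N32219 D113125
theorem N60348 : nd 60348 = n113126 := ndS (p := 32220) (l := 5) rfl N32220 D113126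
theorem N60349 : nd 60349 = n113127 := ndS (p := 32221) (l := 5) rfl N32221 D113127
theorem N60350 : nd 60350 = n113128 := ndS (p := 32222) (l := 5) rfl N32222 D113128
theorem N60351 : nd 60351 = n113129 := ndS (p := 32222) (l := 6) rfl N32222 D113129
theorem N60352 : nd 60352 = n113131 := ndS (p := 32223) (l := 1) rfl N32223 D113131
theorem N60353 : nd 60353 = n113132 := ndS (p := 32223) (l := 2) rfl N32223 D113132
theorem N60354 : nd 60354 = n113134 := ndS (p := 32223) (l := 7) rfl N32223 D113134
theorem N60355 : nd 60355 = n113135 := ndS (p := 32224) (l := 6) rfl N32224 D113135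
theorem N60356 : nd 60356 = n113136 := ndS (p := 32224) (l := 7) rfl N32224 D113136
theorem N60357 : nd 60357 = n113137 := ndS (p := 32225) (l := 6) rfl N32225 D113137
theorem N60358 : nd 60358 = n113138 := ndS (p := 32227) (l := 0) rfl N32227 D113138
theorem N60359 : nd 60359 = n113139 := ndS (p := 32227) (l := 1) rfl N32227 D113139
theorem N60360 : nd 60360 = n113140 := ndS (p := 32228) (l := 0) rfl N32228 D113140
theorem N60361 : nd 60361 = n113141 := ndS (p := 32228) (l := 1) rfl N32228 D113141
theorem N60362 : nd 60362 = n113142 := ndS (p := 32229) (l := 3) rfl N32229 D113142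
theorem N60363 : nd 60363 = n113143 := ndS (p := 32229) (l := 6) rfl N32229 D113143
theorem N60364 : nd 60364 = n113144 := ndS (p := 32230) (l := 7) rfl N32230 D113144
theorem N60365 : nd 60365 = n113145 := ndS (p := 32231) (l := 1) rfl N32231 D113145
theorem N60366 : nd 60366 = n113147 := ndS (p := 32231) (l := 5) rfl N32231 D113147
theorem N60367 : nd 60367 = n113149 := ndS (p := 32232) (l := 6) rfl N32232 D113149
theorem N60368 : nd 60368 = n113152 := ndS (p := 32234) (l := 6) rfl N32234 D113152
theorem N60369 : nd 60369 = n113153 := ndS (p := 32235) (l := 7) rfl N32235 D113153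
theorem N60370 : nd 60370 = n113154 := ndS (p := 32237) (l := 1) rfl N32237 D113154
theorem N60371 : nd 60371 = n113155 := ndS (p := 32237) (l := 2) rfl N32237 D113155
theorem N60372 : nd 60372 = n113156 := ndS (p := 32237) (l := 5) rfl N32237 D113156
theorem N60373 : nd 60373 = n113160 := ndS (p := 32239) (l := 5) rfl N32239 D113160
theorem N60374 : nd 60374 = n113161 := ndS (p := 32239) (l := 7) rfl N32239 D113161
theorem N60375 : nd 60375 = n113163 := ndS (p := 32240) (l := 5) rfl N32240 D113163
theorem N60376 : nd 60376 = n113164 := ndS (p := 32240) (l := 6) rfl N32240 D113164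
theorem N60377 : nd 60377 = n113165 := ndS (p := 32242) (l := 0) rfl N32242 D113165
theorem N60378 : nd 60378 = n113166 := ndS (p := 32242) (l := 1) rfl N32242 D113166
theorem N60379 : nd 60379 = n113167 := ndS (p := 32242) (l := 5) rfl N32242 D113167
theorem N60380 : nd 60380 = n113168 := ndS (p := 32242) (l := 6) rfl N32242 D113168
theorem N60381 : nd 60381 = n113169 := ndS (p := 32243) (l := 6) rfl N32243 D113169
theorem N60382 : nd 60382 = n113170 := ndS (p := 32244) (l := 5) rfl N32244 D113170
theorem N60383 : nd 60383 = n113172 := ndS (p := 32245) (l := 0) rfl N32245 D113172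
theorem N60384 : nd 60384 = n113173 := ndS (p := 32245) (l := 2) rfl N32245 D113173
theorem N60385 : nd 60385 = n113174 := ndS (p := 32245) (l := 3) rfl N32245 D113174
theorem N60386 : nd 60386 = n113175 := ndS (p := 32245) (l := 4) rfl N32245 D113175
theorem N60387 : nd 60387 = n113176 := ndS (p := 32245) (l := 5) rfl N32245 D113176
theorem N60388 : nd 60388 = n113177 := ndS (p := 32245) (l := 6) rfl N32245 D113177
theorem N60389 : nd 60389 = n113178 := ndS (p := 32245) (l := 7) rfl N32245 D113178
theorem N60390 : nd 60390 = n113179 := ndS (p := 32246) (l := 3) rfl N32246 D113179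
theorem N60391 : nd 60391 = n113180 := ndS (p := 32246) (l := 4) rfl N32246 D113180
theorem N60392 : nd 60392 = n113181 := ndS (p := 32246) (l := 5) rfl N32246 D113181
theorem N60393 : nd 60393 = n113182 := ndS (p := 32246) (l := 6) rfl N32246 D113182
theorem N60394 : nd 60394 = n113185 := ndS (p := 32247) (l := 5) rfl N32247 D113185
theorem N60395 : nd 60395 = n113186 := ndS (p := 32248) (l := 0) rfl N32248 D113186
theorem N60396 : nd 60396 = n113187 := ndS (p := 32248) (l := 1) rfl N32248 D113187
theorem N60397 : nd 60397 = n113188 := ndS (p := 32248) (l := 4) rfl N32248 D113188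
theorem N60398 : nd 60398 = n113189 := ndS (p := 32248) (l := 6) rfl N32248 D113189
theorem N60399 : nd 60399 = n113191 := ndS (p := 32250) (l := 3) rfl N32250 D113191
theorem N60400 : nd 60400 = n113192 := ndS (p := 32250) (l := 6) rfl N32250 D113192
theorem N60401 : nd 60401 = n113193 := ndS (p := 32251) (l := 0) rfl N32251 D113193
theorem N60402 : nd 60402 = n113195 := ndS (p := 32251) (l := 7) rfl N32251 D113195
theorem N60403 : nd 60403 = n113196 := ndS (p := 32252) (l := 5) rfl N32252 D113196
theorem N60404 : nd 60404 = n113197 := ndS (p := 32253) (l := 5) rfl N32253 D113197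
theorem N60405 : nd 60405 = n113198 := ndS (p := 32253) (l := 6) rfl N32253 D113198
theorem N60406 : nd 60406 = n113199 := ndS (p := 32254) (l := 0) rfl N32254 D113199
theorem N60407 : nd 60407 = n113200 := ndS (p := 32254) (l := 1) rfl N32254 D113200
theorem N60408 : nd 60408 = n113201 := ndS (p := 32254) (l := 2) rfl N32254 D113201
theorem N60409 : nd 60409 = n113202 := ndS (p := 32254) (l := 5) rfl N32254 D113202
theorem N60410 : nd 60410 = n113203 := ndS (p := 32254) (l := 6) rfl N32254 D113203
theorem N60411 : nd 60411 = n113204 := ndS (p := 32255) (l := 6) rfl N32255 D113204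
theorem N60412 : nd 60412 = n113205 := ndS (p := 32256) (l := 5) rfl N32256 D113205
theorem N60413 : nd 60413 = n113206 := ndS (p := 32258) (l := 0) rfl N32258 D113206
theorem N60414 : nd 60414 = n113207 := ndS (p := 32260) (l := 0) rfl N32260 D113207
theorem N60415 : nd 60415 = n113208 := ndS (p := 32260) (l := 1) rfl N32260 D113208
theorem N60416 : nd 60416 = n113209 := ndS (p := 32260) (l := 2) rfl N32260 D113209
theorem N60417 : nd 60417 = n113210 := ndS (p := 32260) (l := 5) rfl N32260 D113210
theorem N60418 : nd 60418 = n113211 := ndS (p := 32260) (l := 6) rfl N32260 D113211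
theorem N60419 : nd 60419 = n113212 := ndS (p := 32261) (l := 6) rfl N32261 D113212
theorem N60420 : nd 60420 = n113216 := ndS (p := 32263) (l := 6) rfl N32263 D113216
theorem N60421 : nd 60421 = n113217 := ndS (p := 32265) (l := 0) rfl N32265 D113217
theorem N60422 : nd 60422 = n113218 := ndS (p := 32265) (l := 2) rfl N32265 D113218
theorem N60423 : nd 60423 = n113220 := ndS (p := 32265) (l := 5) rfl N32265 D113220
theorem N60424 : nd 60424 = n113222 := ndS (p := 32266) (l := 3) rfl N32266 D113222
theorem N60425 : nd 60425 = n113223 := ndS (p := 32266) (l := 4) rfl N32266 D113223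
theorem N60426 : nd 60426 = n113224 := ndS (p := 32266) (l := 5) rfl N32266 D113224
theorem N60427 : nd 60427 = n113225 := ndS (p := 32266) (l := 6) rfl N32266 D113225
theorem N60428 : nd 60428 = n113226 := ndS (p := 32267) (l := 5) rfl N32267 D113226
theorem N60429 : nd 60429 = n113227 := ndS (p := 32268) (l := 0) rfl N32268 D113227
theorem N60430 : nd 60430 = n113228 := ndS (p := 32268) (l := 1) rfl N32268 D113228
theorem N60431 : nd 60431 = n113229 := ndS (p := 32268) (l := 4) rfl N32268 D113229
theorem N60432 : nd 60432 = n113230 := ndS (p := 32268) (l := 6) rfl N32268 D113230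
theorem N60433 : nd 60433 = n113231 := ndS (p := 32268) (l := 7) rfl N32268 D113231
theorem N60434 : nd 60434 = n113232 := ndS (p := 32269) (l := 6) rfl N32269 D113232
theorem N60435 : nd 60435 = n113233 := ndS (p := 32270) (l := 6) rfl N32270 D113233
theorem N60436 : nd 60436 = n113234 := ndS (p := 32271) (l := 0) rfl N32271 D113234
theorem N60437 : nd 60437 = n113235 := ndS (p := 32271) (l := 1) rfl N32271 D113235
theorem N60438 : nd 60438 = n113236 := ndS (p := 32271) (l := 7) rfl N32271 D113236
theorem N60439 : nd 60439 = n113237 := ndS (p := 32272) (l := 5) rfl N32272 D113237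
theorem N60440 : nd 60440 = n113239 := ndS (p := 32273) (l := 1) rfl N32273 D113239
theorem N60441 : nd 60441 = n113240 := ndS (p := 32273) (l := 2) rfl N32273 D113240
theorem N60442 : nd 60442 = n113242 := ndS (p := 32274) (l := 5) rfl N32274 D113242
theorem N60443 : nd 60443 = n113243 := ndS (p := 32275) (l := 0) rfl N32275 D113243
theorem N60444 : nd 60444 = n113244 := ndS (p := 32275) (l := 1) rfl N32275 D113244
theorem N60445 : nd 60445 = n113245 := ndS (p := 32275) (l := 2) rfl N32275 D113245
theorem N60446 : nd 60446 = n113246 := ndS (p := 32275) (l := 5) rfl N32275 D113246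
theorem N60447 : nd 60447 = n113247 := ndS (p := 32275) (l := 6) rfl N32275 D113247
theorem N60448 : nd 60448 = n113248 := ndS (p := 32276) (l := 6) rfl N32276 D113248
theorem N60449 : nd 60449 = n113249 := ndS (p := 32277) (l := 5) rfl N32277 D113249
theorem N60450 : nd 60450 = n113251 := ndS (p := 32278) (l := 3) rfl N32278 D113251
theorem N60451 : nd 60451 = n113252 := ndS (p := 32278) (l := 4) rfl N32278 D113252
theorem N60452 : nd 60452 = n113253 := ndS (p := 32278) (l := 5) rfl N32278 D113253
theorem N60453 : nd 60453 = n113254 := ndS (p := 32278) (l := 6) rfl N32278 D113254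
theorem N60454 : nd 60454 = n113256 := ndS (p := 32279) (l := 3) rfl N32279 D113256
theorem N60455 : nd 60455 = n113257 := ndS (p := 32279) (l := 4) rfl N32279 D113257
theorem N60456 : nd 60456 = n113260 := ndS (p := 32280) (l := 5) rfl N32280 D113260
theorem N60457 : nd 60457 = n113261 := ndS (p := 32280) (l := 6) rfl N32280 D113261
theorem N60458 : nd 60458 = n113262 := ndS (p := 32281) (l := 0) rfl N32281 D113262
theorem N60459 : nd 60459 = n113263 := ndS (p := 32281) (l := 1) rfl N32281 D113263
theorem N60460 : nd 60460 = n113264 := ndS (p := 32281) (l := 4) rfl N32281 D113264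
theorem N60461 : nd 60461 = n113265 := ndS (p := 32281) (l := 6) rfl N32281 D113265
theorem N60462 : nd 60462 = n113266 := ndS (p := 32282) (l := 0) rfl N32282 D113266
theorem N60463 : nd 60463 = n113267 := ndS (p := 32282) (l := 1) rfl N32282 D113267
theorem N60464 : nd 60464 = n113268 := ndS (p := 32282) (l := 5) rfl N32282 D113268
theorem N60465 : nd 60465 = n113269 := ndS (p := 32282) (l := 7) rfl N32282 D113269
theorem N60466 : nd 60466 = n113271 := ndS (p := 32283) (l := 1) rfl N32283 D113271
theorem N60467 : nd 60467 = n113273 := ndS (p := 32283) (l := 7) rfl N32283 D113273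
theorem N60468 : nd 60468 = n113274 := ndS (p := 32284) (l := 3) rfl N32284 D113274
theorem N60469 : nd 60469 = n113276 := ndS (p := 32284) (l := 6) rfl N32284 D113276
theorem N60470 : nd 60470 = n113280 := ndS (p := 32285) (l := 7) rfl N32285 D113280
theorem N60471 : nd 60471 = n113281 := ndS (p := 32287) (l := 3) rfl N32287 D113281
theorem N60472 : nd 60472 = n113283 := ndS (p := 32288) (l := 4) rfl N32288 D113283
theorem N60473 : nd 60473 = n113284 := ndS (p := 32288) (l := 6) rfl N32288 D113284
theorem N60474 : nd 60474 = n113287 := ndS (p := 32289) (l := 6) rfl N32289 D113287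
theorem N60475 : nd 60475 = n113289 := ndS (p := 32293) (l := 1) rfl N32293 D113289
theorem N60476 : nd 60476 = n113290 := ndS (p := 32293) (l := 2) rfl N32293 D113290
theorem N60477 : nd 60477 = n113291 := ndS (p := 32293) (l := 5) rfl N32293 D113291
theorem N60478 : nd 60478 = n113292 := ndS (p := 32293) (l := 6) rfl N32293 D113292
theorem N60479 : nd 60479 = n113293 := ndS (p := 32294) (l := 6) rfl N32294 D113293
theorem N60480 : nd 60480 = n113294 := ndS (p := 32295) (l := 5) rfl N32295 D113294
theorem N60481 : nd 60481 = n113296 := ndS (p := 32297) (l := 3) rfl N32297 D113296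
theorem N60482 : nd 60482 = n113297 := ndS (p := 32297) (l := 4) rfl N32297 D113297
theorem N60483 : nd 60483 = n113298 := ndS (p := 32297) (l := 5) rfl N32297 D113298
theorem N60484 : nd 60484 = n113299 := ndS (p := 32297) (l := 6) rfl N32297 D113299
theorem N60485 : nd 60485 = n113301 := ndS (p := 32298) (l := 3) rfl N32298 D113301
theorem N60486 : nd 60486 = n113302 := ndS (p := 32298) (l := 4) rfl N32298 D113302
theorem N60487 : nd 60487 = n113303 := ndS (p := 32298) (l := 5) rfl N32298 D113303
theorem N60488 : nd 60488 = n113304 := ndS (p := 32298) (l := 6) rfl N32298 D113304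
theorem N60489 : nd 60489 = n113305 := ndS (p := 32299) (l := 5) rfl N32299 D113305
theorem N60490 : nd 60490 = n113306 := ndS (p := 32299) (l := 6) rfl N32299 D113306
theorem N60491 : nd 60491 = n113307 := ndS (p := 32300) (l := 0) rfl N32300 D113307
theorem N60492 : nd 60492 = n113308 := ndS (p := 32300) (l := 1) rfl N32300 D113308
theorem N60493 : nd 60493 = n113309 := ndS (p := 32300) (l := 4) rfl N32300 D113309
theorem N60494 : nd 60494 = n113310 := ndS (p := 32300) (l := 6) rfl N32300 D113310
theorem N60495 : nd 60495 = n113311 := ndS (p := 32301) (l := 0) rfl N32301 D113311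
theorem N60496 : nd 60496 = n113312 := ndS (p := 32301) (l := 1) rfl N32301 D113312
theorem N60497 : nd 60497 = n113313 := ndS (p := 32301) (l := 5) rfl N32301 D113313
theorem N60498 : nd 60498 = n113314 := ndS (p := 32301) (l := 7) rfl N32301 D113314
theorem N60499 : nd 60499 = n113315 := ndS (p := 32302) (l := 0) rfl N32302 D113315
theorem N60500 : nd 60500 = n113316 := ndS (p := 32302) (l := 1) rfl N32302 D113316
theorem N60501 : nd 60501 = n113317 := ndS (p := 32302) (l := 5) rfl N32302 D113317
theorem N60502 : nd 60502 = n113318 := ndS (p := 32302) (l := 7) rfl N32302 D113318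
theorem N60503 : nd 60503 = n113319 := ndS (p := 32303) (l := 3) rfl N32303 D113319
theorem N60504 : nd 60504 = n113320 := ndS (p := 32303) (l := 5) rfl N32303 D113320
theorem N60505 : nd 60505 = n113321 := ndS (p := 32303) (l := 6) rfl N32303 D113321
theorem N60506 : nd 60506 = n113322 := ndS (p := 32304) (l := 0) rfl N32304 D113322
theorem N60507 : nd 60507 = n113323 := ndS (p := 32304) (l := 1) rfl N32304 D113323
theorem N60508 : nd 60508 = n113324 := ndS (p := 32304) (l := 4) rfl N32304 D113324
theorem N60509 : nd 60509 = n113325 := ndS (p := 32304) (l := 7) rfl N32304 D113325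
theorem N60510 : nd 60510 = n113326 := ndS (p := 32306) (l := 3) rfl N32306 D113326
theorem N60511 : nd 60511 = n113327 := ndS (p := 32306) (l := 5) rfl N32306 D113327
theorem N60512 : nd 60512 = n113328 := ndS (p := 32306) (l := 6) rfl N32306 D113328
theorem N60513 : nd 60513 = n113329 := ndS (p := 32307) (l := 4) rfl N32307 D113329
theorem N60514 : nd 60514 = n113330 := ndS (p := 32309) (l := 3) rfl N32309 D113330
theorem N60515 : nd 60515 = n113331 := ndS (p := 32309) (l := 5) rfl N32309 D113331
theorem N60516 : nd 60516 = n113333 := ndS (p := 32310) (l := 3) rfl N32310 D113333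
theorem N60517 : nd 60517 = n113334 := ndS (p := 32310) (l := 4) rfl N32310 D113334
theorem N60518 : nd 60518 = n113336 := ndS (p := 32310) (l := 6) rfl N32310 D113336
theorem N60519 : nd 60519 = n113338 := ndS (p := 32311) (l := 3) rfl N32311 D113338
theorem N60520 : nd 60520 = n113339 := ndS (p := 32311) (l := 4) rfl N32311 D113339
theorem N60521 : nd 60521 = n113342 := ndS (p := 32312) (l := 5) rfl N32312 D113342
theorem N60522 : nd 60522 = n113343 := ndS (p := 32312) (l := 6) rfl N32312 D113343
theorem N60523 : nd 60523 = n113345 := ndS (p := 32313) (l := 1) rfl N32313 D113345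
theorem N60524 : nd 60524 = n113346 := ndS (p := 32313) (l := 6) rfl N32313 D113346
theorem N60525 : nd 60525 = n113347 := ndS (p := 32314) (l := 0) rfl N32314 D113347
theorem N60526 : nd 60526 = n113348 := ndS (p := 32314) (l := 1) rfl N32314 D113348
theorem N60527 : nd 60527 = n113349 := ndS (p := 32314) (l := 5) rfl N32314 D113349
theorem N60528 : nd 60528 = n113350 := ndS (p := 32314) (l := 7) rfl N32314 D113350
theorem N60529 : nd 60529 = n113351 := ndS (p := 32315) (l := 0) rfl N32315 D113351
theorem N60530 : nd 60530 = n113352 := ndS (p := 32315) (l := 1) rfl N32315 D113352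
theorem N60531 : nd 60531 = n113353 := ndS (p := 32315) (l := 5) rfl N32315 D113353
theorem N60532 : nd 60532 = n113354 := ndS (p := 32315) (l := 7) rfl N32315 D113354
theorem N60533 : nd 60533 = n113355 := ndS (p := 32316) (l := 5) rfl N32316 D113355
theorem N60534 : nd 60534 = n113356 := ndS (p := 32317) (l := 3) rfl N32317 D113356
theorem N60535 : nd 60535 = n113357 := ndS (p := 32317) (l := 5) rfl N32317 D113357
theorem N60536 : nd 60536 = n113358 := ndS (p := 32317) (l := 6) rfl N32317 D113358
theorem N60537 : nd 60537 = n113359 := ndS (p := 32318) (l := 1) rfl N32318 D113359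
theorem N60538 : nd 60538 = n113360 := ndS (p := 32318) (l := 4) rfl N32318 D113360
theorem N60539 : nd 60539 = n113361 := ndS (p := 32318) (l := 7) rfl N32318 D113361
theorem N60540 : nd 60540 = n113362 := ndS (p := 32320) (l := 3) rfl N32320 D113362
theorem N60541 : nd 60541 = n113363 := ndS (p := 32320) (l := 5) rfl N32320 D113363
theorem N60542 : nd 60542 = n113364 := ndS (p := 32321) (l := 4) rfl N32321 D113364
theorem N60543 : nd 60543 = n113365 := ndS (p := 32321) (l := 6) rfl N32321 D113365
theorem N60544 : nd 60544 = n113366 := ndS (p := 32322) (l := 3) rfl N32322 D113366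
theorem N60545 : nd 60545 = n113367 := ndS (p := 32322) (l := 5) rfl N32322 D113367
theorem N60546 : nd 60546 = n113368 := ndS (p := 32322) (l := 6) rfl N32322 D113368
theorem N60547 : nd 60547 = n113369 := ndS (p := 32323) (l := 4) rfl N32323 D113369
theorem N60548 : nd 60548 = n113370 := ndS (p := 32325) (l := 4) rfl N32325 D113370
theorem N60549 : nd 60549 = n113371 := ndS (p := 32326) (l := 3) rfl N32326 D113371
theorem N60550 : nd 60550 = n113372 := ndS (p := 32326) (l := 5) rfl N32326 D113372
theorem N60551 : nd 60551 = n113376 := ndS (p := 32329) (l := 6) rfl N32329 D113376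
theorem N60552 : nd 60552 = n113377 := ndS (p := 32330) (l := 5) rfl N32330 D113377
theorem N60553 : nd 60553 = n113381 := ndS (p := 32332) (l := 3) rfl N32332 D113381
theorem N60554 : nd 60554 = n113382 := ndS (p := 32332) (l := 4) rfl N32332 D113382
theorem N60555 : nd 60555 = n113386 := ndS (p := 32333) (l := 3) rfl N32333 D113386
theorem N60556 : nd 60556 = n113387 := ndS (p := 32333) (l := 4) rfl N32333 D113387
theorem N60557 : nd 60557 = n113389 := ndS (p := 32333) (l := 6) rfl N32333 D113389
theorem N60558 : nd 60558 = n113390 := ndS (p := 32334) (l := 5) rfl N32334 D113390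
theorem N60559 : nd 60559 = n113392 := ndS (p := 32335) (l := 0) rfl N32335 D113392
theorem N60560 : nd 60560 = n113393 := ndS (p := 32335) (l := 1) rfl N32335 D113393
theorem N60561 : nd 60561 = n113394 := ndS (p := 32335) (l := 6) rfl N32335 D113394
theorem N60562 : nd 60562 = n113395 := ndS (p := 32336) (l := 0) rfl N32336 D113395
theorem N60563 : nd 60563 = n113396 := ndS (p := 32336) (l := 1) rfl N32336 D113396
theorem N60564 : nd 60564 = n113397 := ndS (p := 32336) (l := 5) rfl N32336 D113397
theorem N60565 : nd 60565 = n113399 := ndS (p := 32337) (l := 0) rfl N32337 D113399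
theorem N60566 : nd 60566 = n113400 := ndS (p := 32337) (l := 1) rfl N32337 D113400
theorem N60567 : nd 60567 = n113401 := ndS (p := 32337) (l := 5) rfl N32337 D113401
theorem N60568 : nd 60568 = n113402 := ndS (p := 32337) (l := 7) rfl N32337 D113402
theorem N60569 : nd 60569 = n113403 := ndS (p := 32338) (l := 3) rfl N32338 D113403
theorem N60570 : nd 60570 = n113404 := ndS (p := 32338) (l := 5) rfl N32338 D113404
theorem N60571 : nd 60571 = n113405 := ndS (p := 32338) (l := 6) rfl N32338 D113405
theorem N60572 : nd 60572 = n113406 := ndS (p := 32339) (l := 5) rfl N32339 D113406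
theorem N60573 : nd 60573 = n113409 := ndS (p := 32340) (l := 7) rfl N32340 D113409
theorem N60574 : nd 60574 = n113410 := ndS (p := 32342) (l := 3) rfl N32342 D113410
theorem N60575 : nd 60575 = n113411 := ndS (p := 32342) (l := 5) rfl N32342 D113411
theorem N60576 : nd 60576 = n113412 := ndS (p := 32342) (l := 6) rfl N32342 D113412
theorem N60577 : nd 60577 = n113413 := ndS (p := 32345) (l := 3) rfl N32345 D113413
theorem N60578 : nd 60578 = n113414 := ndS (p := 32345) (l := 5) rfl N32345 D113414
theorem N60579 : nd 60579 = n113416 := ndS (p := 32347) (l := 3) rfl N32347 D113416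
theorem N60580 : nd 60580 = n113417 := ndS (p := 32347) (l := 4) rfl N32347 D113417
theorem N60581 : nd 60581 = n113418 := ndS (p := 32347) (l := 5) rfl N32347 D113418
theorem N60582 : nd 60582 = n113419 := ndS (p := 32347) (l := 6) rfl N32347 D113419
theorem N60583 : nd 60583 = n113421 := ndS (p := 32348) (l := 3) rfl N32348 D113421
theorem N60584 : nd 60584 = n113422 := ndS (p := 32348) (l := 4) rfl N32348 D113422
theorem N60585 : nd 60585 = n113423 := ndS (p := 32348) (l := 5) rfl N32348 D113423
theorem N60586 : nd 60586 = n113425 := ndS (p := 32349) (l := 5) rfl N32349 D113425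
theorem N60587 : nd 60587 = n113427 := ndS (p := 32350) (l := 0) rfl N32350 D113427
theorem N60588 : nd 60588 = n113428 := ndS (p := 32350) (l := 1) rfl N32350 D113428
theorem N60589 : nd 60589 = n113429 := ndS (p := 32350) (l := 4) rfl N32350 D113429
theorem N60590 : nd 60590 = n113430 := ndS (p := 32350) (l := 6) rfl N32350 D113430
theorem N60591 : nd 60591 = n113431 := ndS (p := 32351) (l := 0) rfl N32351 D113431
theorem N60592 : nd 60592 = n113432 := ndS (p := 32351) (l := 1) rfl N32351 D113432
theorem N60593 : nd 60593 = n113435 := ndS (p := 32352) (l := 0) rfl N32352 D113435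
theorem N60594 : nd 60594 = n113436 := ndS (p := 32352) (l := 1) rfl N32352 D113436
theorem N60595 : nd 60595 = n113437 := ndS (p := 32352) (l := 5) rfl N32352 D113437
theorem N60596 : nd 60596 = n113438 := ndS (p := 32352) (l := 7) rfl N32352 D113438
theorem N60597 : nd 60597 = n113439 := ndS (p := 32353) (l := 0) rfl N32353 D113439
theorem N60598 : nd 60598 = n113440 := ndS (p := 32353) (l := 1) rfl N32353 D113440
theorem N60599 : nd 60599 = n113441 := ndS (p := 32353) (l := 4) rfl N32353 D113441
theorem N60600 : nd 60600 = n113443 := ndS (p := 32355) (l := 3) rfl N32355 D113443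
theorem N60601 : nd 60601 = n113444 := ndS (p := 32355) (l := 4) rfl N32355 D113444
theorem N60602 : nd 60602 = n113445 := ndS (p := 32355) (l := 5) rfl N32355 D113445
theorem N60603 : nd 60603 = n113447 := ndS (p := 32356) (l := 3) rfl N32356 D113447
theorem N60604 : nd 60604 = n113448 := ndS (p := 32356) (l := 5) rfl N32356 D113448
theorem N60605 : nd 60605 = n113449 := ndS (p := 32356) (l := 6) rfl N32356 D113449
theorem N60606 : nd 60606 = n113450 := ndS (p := 32357) (l := 4) rfl N32357 D113450
theorem N60607 : nd 60607 = n113451 := ndS (p := 32357) (l := 5) rfl N32357 D113451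
theorem N60608 : nd 60608 = n113452 := ndS (p := 32357) (l := 6) rfl N32357 D113452
theorem N60609 : nd 60609 = n113453 := ndS (p := 32358) (l := 0) rfl N32358 D113453
theorem N60610 : nd 60610 = n113454 := ndS (p := 32358) (l := 1) rfl N32358 D113454
theorem N60611 : nd 60611 = n113455 := ndS (p := 32358) (l := 5) rfl N32358 D113455
theorem N60612 : nd 60612 = n113456 := ndS (p := 32358) (l := 6) rfl N32358 D113456
theorem N60613 : nd 60613 = n113457 := ndS (p := 32359) (l := 0) rfl N32359 D113457
theorem N60614 : nd 60614 = n113458 := ndS (p := 32359) (l := 1) rfl N32359 D113458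
theorem N60615 : nd 60615 = n113459 := ndS (p := 32359) (l := 4) rfl N32359 D113459
theorem N60616 : nd 60616 = n113460 := ndS (p := 32359) (l := 6) rfl N32359 D113460
theorem N60617 : nd 60617 = n113461 := ndS (p := 32360) (l := 0) rfl N32360 D113461
theorem N60618 : nd 60618 = n113463 := ndS (p := 32360) (l := 5) rfl N32360 D113463
theorem N60619 : nd 60619 = n113464 := ndS (p := 32360) (l := 7) rfl N32360 D113464
theorem N60620 : nd 60620 = n113467 := ndS (p := 32361) (l := 5) rfl N32361 D113467
theorem N60621 : nd 60621 = n113469 := ndS (p := 32362) (l := 0) rfl N32362 D113469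
theorem N60622 : nd 60622 = n113472 := ndS (p := 32362) (l := 7) rfl N32362 D113472
theorem N60623 : nd 60623 = n113473 := ndS (p := 32364) (l := 6) rfl N32364 D113473
theorem N60624 : nd 60624 = n113474 := ndS (p := 32365) (l := 3) rfl N32365 D113474
theorem N60625 : nd 60625 = n113475 := ndS (p := 32365) (l := 4) rfl N32365 D113475
theorem N60626 : nd 60626 = n113476 := ndS (p := 32365) (l := 5) rfl N32365 D113476
theorem N60627 : nd 60627 = n113477 := ndS (p := 32365) (l := 6) rfl N32365 D113477
theorem N60628 : nd 60628 = n113478 := ndS (p := 32366) (l := 5) rfl N32366 D113478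
theorem N60629 : nd 60629 = n113480 := ndS (p := 32367) (l := 0) rfl N32367 D113480
theorem N60630 : nd 60630 = n113481 := ndS (p := 32367) (l := 1) rfl N32367 D113481
theorem N60631 : nd 60631 = n113482 := ndS (p := 32367) (l := 5) rfl N32367 D113482
theorem N60632 : nd 60632 = n113484 := ndS (p := 32367) (l := 7) rfl N32367 D113484
theorem N60633 : nd 60633 = n113485 := ndS (p := 32368) (l := 0) rfl N32368 D113485
theorem N60634 : nd 60634 = n113487 := ndS (p := 32368) (l := 4) rfl N32368 D113487
theorem N60635 : nd 60635 = n113488 := ndS (p := 32368) (l := 6) rfl N32368 D113488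
theorem N60636 : nd 60636 = n113489 := ndS (p := 32368) (l := 7) rfl N32368 D113489
theorem N60637 : nd 60637 = n113490 := ndS (p := 32369) (l := 0) rfl N32369 D113490
theorem N60638 : nd 60638 = n113493 := ndS (p := 32369) (l := 7) rfl N32369 D113493
theorem N60639 : nd 60639 = n113495 := ndS (p := 32371) (l := 0) rfl N32371 D113495
theorem N60640 : nd 60640 = n113496 := ndS (p := 32371) (l := 5) rfl N32371 D113496
theorem N60641 : nd 60641 = n113497 := ndS (p := 32371) (l := 6) rfl N32371 D113497
theorem N60642 : nd 60642 = n113498 := ndS (p := 32372) (l := 5) rfl N32372 D113498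
theorem N60643 : nd 60643 = n113499 := ndS (p := 32372) (l := 6) rfl N32372 D113499
theorem N60644 : nd 60644 = n113500 := ndS (p := 32373) (l := 4) rfl N32373 D113500
theorem N60645 : nd 60645 = n113503 := ndS (p := 32374) (l := 1) rfl N32374 D113503
theorem N60646 : nd 60646 = n113504 := ndS (p := 32374) (l := 5) rfl N32374 D113504
theorem N60647 : nd 60647 = n113505 := ndS (p := 32374) (l := 7) rfl N32374 D113505
theorem N60648 : nd 60648 = n113506 := ndS (p := 32375) (l := 4) rfl N32375 D113506
theorem N60649 : nd 60649 = n113507 := ndS (p := 32375) (l := 6) rfl N32375 D113507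
theorem N60650 : nd 60650 = n113514 := ndS (p := 32377) (l := 3) rfl N32377 D113514
theorem N60651 : nd 60651 = n113515 := ndS (p := 32377) (l := 4) rfl N32377 D113515
theorem N60652 : nd 60652 = n113517 := ndS (p := 32377) (l := 6) rfl N32377 D113517
theorem N60653 : nd 60653 = n113519 := ndS (p := 32378) (l := 1) rfl N32378 D113519
theorem N60654 : nd 60654 = n113520 := ndS (p := 32378) (l := 5) rfl N32378 D113520
theorem N60655 : nd 60655 = n113521 := ndS (p := 32378) (l := 6) rfl N32378 D113521
theorem N60656 : nd 60656 = n113522 := ndS (p := 32379) (l := 0) rfl N32379 D113522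
theorem N60657 : nd 60657 = n113523 := ndS (p := 32379) (l := 1) rfl N32379 D113523
theorem N60658 : nd 60658 = n113524 := ndS (p := 32379) (l := 7) rfl N32379 D113524
theorem N60659 : nd 60659 = n113525 := ndS (p := 32380) (l := 0) rfl N32380 D113525
theorem N60660 : nd 60660 = n113526 := ndS (p := 32380) (l := 1) rfl N32380 D113526
theorem N60661 : nd 60661 = n113527 := ndS (p := 32380) (l := 5) rfl N32380 D113527
theorem N60662 : nd 60662 = n113529 := ndS (p := 32381) (l := 2) rfl N32381 D113529
theorem N60663 : nd 60663 = n113530 := ndS (p := 32381) (l := 4) rfl N32381 D113530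
theorem N60664 : nd 60664 = n113531 := ndS (p := 32381) (l := 6) rfl N32381 D113531
theorem N60665 : nd 60665 = n113535 := ndS (p := 32382) (l := 7) rfl N32382 D113535
theorem N60666 : nd 60666 = n113538 := ndS (p := 32383) (l := 2) rfl N32383 D113538
theorem N60667 : nd 60667 = n113539 := ndS (p := 32383) (l := 4) rfl N32383 D113539
theorem N60668 : nd 60668 = n113540 := ndS (p := 32383) (l := 6) rfl N32383 D113540
theorem N60669 : nd 60669 = n113541 := ndS (p := 32384) (l := 0) rfl N32384 D113541
theorem N60670 : nd 60670 = n113542 := ndS (p := 32384) (l := 1) rfl N32384 D113542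
theorem N60671 : nd 60671 = n113543 := ndS (p := 32384) (l := 5) rfl N32384 D113543
theorem N60672 : nd 60672 = n113544 := ndS (p := 32384) (l := 7) rfl N32384 D113544
theorem N60673 : nd 60673 = n113546 := ndS (p := 32385) (l := 3) rfl N32385 D113546
theorem N60674 : nd 60674 = n113548 := ndS (p := 32385) (l := 5) rfl N32385 D113548
theorem N60675 : nd 60675 = n113549 := ndS (p := 32385) (l := 6) rfl N32385 D113549
theorem N60676 : nd 60676 = n113551 := ndS (p := 32386) (l := 3) rfl N32386 D113551
theorem N60677 : nd 60677 = n113553 := ndS (p := 32386) (l := 5) rfl N32386 D113553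
theorem N60678 : nd 60678 = n113554 := ndS (p := 32386) (l := 6) rfl N32386 D113554
theorem N60679 : nd 60679 = n113555 := ndS (p := 32388) (l := 3) rfl N32388 D113555
theorem N60680 : nd 60680 = n113556 := ndS (p := 32388) (l := 5) rfl N32388 D113556
theorem N60681 : nd 60681 = n113557 := ndS (p := 32388) (l := 6) rfl N32388 D113557
theorem N60682 : nd 60682 = n113558 := ndS (p := 32389) (l := 3) rfl N32389 D113558
theorem N60683 : nd 60683 = n113559 := ndS (p := 32389) (l := 5) rfl N32389 D113559
theorem N60684 : nd 60684 = n113560 := ndS (p := 32389) (l := 6) rfl N32389 D113560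
theorem N60685 : nd 60685 = n113561 := ndS (p := 32390) (l := 0) rfl N32390 D113561
theorem N60686 : nd 60686 = n113562 := ndS (p := 32390) (l := 1) rfl N32390 D113562
theorem N60687 : nd 60687 = n113563 := ndS (p := 32390) (l := 4) rfl N32390 D113563
theorem N60688 : nd 60688 = n113564 := ndS (p := 32391) (l := 3) rfl N32391 D113564
theorem N60689 : nd 60689 = n113566 := ndS (p := 32391) (l := 6) rfl N32391 D113566
theorem N60690 : nd 60690 = n113567 := ndS (p := 32392) (l := 4) rfl N32392 D113567
theorem N60691 : nd 60691 = n113568 := ndS (p := 32394) (l := 3) rfl N32394 D113568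
theorem N60692 : nd 60692 = n113570 := ndS (p := 32394) (l := 6) rfl N32394 D113570
theorem N60693 : nd 60693 = n113571 := ndS (p := 32395) (l := 4) rfl N32395 D113571
theorem N60694 : nd 60694 = n113572 := ndS (p := 32397) (l := 1) rfl N32397 D113572
theorem N60695 : nd 60695 = n113573 := ndS (p := 32398) (l := 0) rfl N32398 D113573
theorem N60696 : nd 60696 = n113574 := ndS (p := 32398) (l := 1) rfl N32398 D113574
theorem N60697 : nd 60697 = n113575 := ndS (p := 32398) (l := 2) rfl N32398 D113575
theorem N60698 : nd 60698 = n113576 := ndS (p := 32398) (l := 6) rfl N32398 D113576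
theorem N60699 : nd 60699 = n113577 := ndS (p := 32399) (l := 5) rfl N32399 D113577
theorem N60700 : nd 60700 = n113578 := ndS (p := 32401) (l := 6) rfl N32401 D113578
theorem N60701 : nd 60701 = n113580 := ndS (p := 32403) (l := 3) rfl N32403 D113580
theorem N60702 : nd 60702 = n113581 := ndS (p := 32403) (l := 4) rfl N32403 D113581
theorem N60703 : nd 60703 = n113582 := ndS (p := 32403) (l := 5) rfl N32403 D113582
theorem N60704 : nd 60704 = n113583 := ndS (p := 32403) (l := 6) rfl N32403 D113583
theorem N60705 : nd 60705 = n113585 := ndS (p := 32404) (l := 3) rfl N32404 D113585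
theorem N60706 : nd 60706 = n113586 := ndS (p := 32404) (l := 4) rfl N32404 D113586
theorem N60707 : nd 60707 = n113587 := ndS (p := 32404) (l := 5) rfl N32404 D113587
theorem N60708 : nd 60708 = n113588 := ndS (p := 32404) (l := 6) rfl N32404 D113588
theorem N60709 : nd 60709 = n113589 := ndS (p := 32405) (l := 6) rfl N32405 D113589
theorem N60710 : nd 60710 = n113590 := ndS (p := 32406) (l := 0) rfl N32406 D113590
theorem N60711 : nd 60711 = n113591 := ndS (p := 32406) (l := 1) rfl N32406 D113591
theorem N60712 : nd 60712 = n113592 := ndS (p := 32406) (l := 5) rfl N32406 D113592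
theorem N60713 : nd 60713 = n113593 := ndS (p := 32406) (l := 7) rfl N32406 D113593
theorem N60714 : nd 60714 = n113594 := ndS (p := 32407) (l := 0) rfl N32407 D113594
theorem N60715 : nd 60715 = n113598 := ndS (p := 32409) (l := 3) rfl N32409 D113598
theorem N60716 : nd 60716 = n113601 := ndS (p := 32410) (l := 6) rfl N32410 D113601
theorem N60717 : nd 60717 = n113602 := ndS (p := 32411) (l := 6) rfl N32411 D113602
theorem N60718 : nd 60718 = n113605 := ndS (p := 32414) (l := 0) rfl N32414 D113605
theorem N60719 : nd 60719 = n113606 := ndS (p := 32414) (l := 1) rfl N32414 D113606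
theorem N60720 : nd 60720 = n113607 := ndS (p := 32414) (l := 7) rfl N32414 D113607
theorem N60721 : nd 60721 = n113608 := ndS (p := 32415) (l := 0) rfl N32415 D113608
theorem N60722 : nd 60722 = n113609 := ndS (p := 32415) (l := 1) rfl N32415 D113609
theorem N60723 : nd 60723 = n113610 := ndS (p := 32415) (l := 7) rfl N32415 D113610
theorem N60724 : nd 60724 = n113611 := ndS (p := 32418) (l := 4) rfl N32418 D113611
theorem N60725 : nd 60725 = n113612 := ndS (p := 32418) (l := 6) rfl N32418 D113612
theorem N60726 : nd 60726 = n113613 := ndS (p := 32419) (l := 5) rfl N32419 D113613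
theorem N60727 : nd 60727 = n113614 := ndS (p := 32420) (l := 4) rfl N32420 D113614
theorem N60728 : nd 60728 = n113615 := ndS (p := 32420) (l := 6) rfl N32420 D113615
theorem N60729 : nd 60729 = n113616 := ndS (p := 32421) (l := 4) rfl N32421 D113616
theorem N60730 : nd 60730 = n113617 := ndS (p := 32421) (l := 6) rfl N32421 D113617
theorem N60731 : nd 60731 = n113618 := ndS (p := 32422) (l := 0) rfl N32422 D113618
theorem N60732 : nd 60732 = n113619 := ndS (p := 32422) (l := 1) rfl N32422 D113619
theorem N60733 : nd 60733 = n113620 := ndS (p := 32422) (l := 5) rfl N32422 D113620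
theorem N60734 : nd 60734 = n113621 := ndS (p := 32422) (l := 6) rfl N32422 D113621
theorem N60735 : nd 60735 = n113623 := ndS (p := 32423) (l := 1) rfl N32423 D113623
theorem N60736 : nd 60736 = n113624 := ndS (p := 32423) (l := 5) rfl N32423 D113624
theorem N60737 : nd 60737 = n113625 := ndS (p := 32423) (l := 7) rfl N32423 D113625
theorem N60738 : nd 60738 = n113626 := ndS (p := 32426) (l := 4) rfl N32426 D113626
theorem N60739 : nd 60739 = n113628 := ndS (p := 32427) (l := 3) rfl N32427 D113628
theorem N60740 : nd 60740 = n113629 := ndS (p := 32427) (l := 4) rfl N32427 D113629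
theorem N60741 : nd 60741 = n113630 := ndS (p := 32427) (l := 5) rfl N32427 D113630
theorem N60742 : nd 60742 = n113631 := ndS (p := 32427) (l := 6) rfl N32427 D113631
theorem N60743 : nd 60743 = n113633 := ndS (p := 32428) (l := 3) rfl N32428 D113633
theorem N60744 : nd 60744 = n113634 := ndS (p := 32428) (l := 4) rfl N32428 D113634
theorem N60745 : nd 60745 = n113635 := ndS (p := 32428) (l := 5) rfl N32428 D113635
theorem N60746 : nd 60746 = n113636 := ndS (p := 32428) (l := 6) rfl N32428 D113636
theorem N60747 : nd 60747 = n113637 := ndS (p := 32429) (l := 0) rfl N32429 D113637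
theorem N60748 : nd 60748 = n113638 := ndS (p := 32429) (l := 1) rfl N32429 D113638
theorem N60749 : nd 60749 = n113639 := ndS (p := 32429) (l := 4) rfl N32429 D113639
theorem N60750 : nd 60750 = n113640 := ndS (p := 32429) (l := 7) rfl N32429 D113640
theorem N60751 : nd 60751 = n113641 := ndS (p := 32433) (l := 3) rfl N32433 D113641
theorem N60752 : nd 60752 = n113642 := ndS (p := 32434) (l := 2) rfl N32434 D113642
theorem N60753 : nd 60753 = n113644 := ndS (p := 32436) (l := 1) rfl N32436 D113644
theorem N60754 : nd 60754 = n113645 := ndS (p := 32436) (l := 2) rfl N32436 D113645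
theorem N60755 : nd 60755 = n113646 := ndS (p := 32436) (l := 5) rfl N32436 D113646
theorem N60756 : nd 60756 = n113647 := ndS (p := 32436) (l := 6) rfl N32436 D113647
theorem N60757 : nd 60757 = n113649 := ndS (p := 32438) (l := 5) rfl N32438 D113649
theorem N60758 : nd 60758 = n113650 := ndS (p := 32439) (l := 5) rfl N32439 D113650
theorem N60759 : nd 60759 = n113651 := ndS (p := 32439) (l := 6) rfl N32439 D113651
theorem N60760 : nd 60760 = n113652 := ndS (p := 32441) (l := 3) rfl N32441 D113652
theorem N60761 : nd 60761 = n113654 := ndS (p := 32441) (l := 5) rfl N32441 D113654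
theorem N60762 : nd 60762 = n113657 := ndS (p := 32442) (l := 5) rfl N32442 D113657
theorem N60763 : nd 60763 = n113658 := ndS (p := 32442) (l := 6) rfl N32442 D113658
theorem N60764 : nd 60764 = n113659 := ndS (p := 32443) (l := 6) rfl N32443 D113659
theorem N60765 : nd 60765 = n113660 := ndS (p := 32444) (l := 0) rfl N32444 D113660
theorem N60766 : nd 60766 = n113661 := ndS (p := 32444) (l := 1) rfl N32444 D113661
theorem N60767 : nd 60767 = n113662 := ndS (p := 32444) (l := 5) rfl N32444 D113662
theorem N60768 : nd 60768 = n113663 := ndS (p := 32444) (l := 7) rfl N32444 D113663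
theorem N60769 : nd 60769 = n113664 := ndS (p := 32445) (l := 0) rfl N32445 D113664
theorem N60770 : nd 60770 = n113665 := ndS (p := 32445) (l := 1) rfl N32445 D113665
theorem N60771 : nd 60771 = n113666 := ndS (p := 32445) (l := 4) rfl N32445 D113666
theorem N60772 : nd 60772 = n113667 := ndS (p := 32445) (l := 7) rfl N32445 D113667
theorem N60773 : nd 60773 = n113668 := ndS (p := 32447) (l := 3) rfl N32447 D113668
theorem N60774 : nd 60774 = n113669 := ndS (p := 32447) (l := 5) rfl N32447 D113669
theorem N60775 : nd 60775 = n113673 := ndS (p := 32450) (l := 6) rfl N32450 D113673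
theorem N60776 : nd 60776 = n113674 := ndS (p := 32452) (l := 4) rfl N32452 D113674
theorem N60777 : nd 60777 = n113675 := ndS (p := 32452) (l := 6) rfl N32452 D113675
theorem N60778 : nd 60778 = n113676 := ndS (p := 32453) (l := 4) rfl N32453 D113676
theorem N60779 : nd 60779 = n113677 := ndS (p := 32453) (l := 6) rfl N32453 D113677
theorem N60780 : nd 60780 = n113678 := ndS (p := 32454) (l := 3) rfl N32454 D113678
theorem N60781 : nd 60781 = n113679 := ndS (p := 32454) (l := 4) rfl N32454 D113679
theorem N60782 : nd 60782 = n113680 := ndS (p := 32454) (l := 6) rfl N32454 D113680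
theorem N60783 : nd 60783 = n113681 := ndS (p := 32455) (l := 0) rfl N32455 D113681
theorem N60784 : nd 60784 = n113682 := ndS (p := 32455) (l := 6) rfl N32455 D113682
theorem N60785 : nd 60785 = n113684 := ndS (p := 32456) (l := 7) rfl N32456 D113684
theorem N60786 : nd 60786 = n113686 := ndS (p := 32457) (l := 3) rfl N32457 D113686
theorem N60787 : nd 60787 = n113687 := ndS (p := 32457) (l := 4) rfl N32457 D113687
theorem N60788 : nd 60788 = n113688 := ndS (p := 32457) (l := 5) rfl N32457 D113688
theorem N60789 : nd 60789 = n113689 := ndS (p := 32457) (l := 6) rfl N32457 D113689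
theorem N60790 : nd 60790 = n113690 := ndS (p := 32458) (l := 3) rfl N32458 D113690
theorem N60791 : nd 60791 = n113691 := ndS (p := 32458) (l := 4) rfl N32458 D113691
theorem N60792 : nd 60792 = n113692 := ndS (p := 32458) (l := 5) rfl N32458 D113692
theorem N60793 : nd 60793 = n113693 := ndS (p := 32458) (l := 6) rfl N32458 D113693
theorem N60794 : nd 60794 = n113694 := ndS (p := 32460) (l := 5) rfl N32460 D113694
theorem N60795 : nd 60795 = n113695 := ndS (p := 32461) (l := 4) rfl N32461 D113695
theorem N60796 : nd 60796 = n113697 := ndS (p := 32462) (l := 4) rfl N32462 D113697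
theorem N60797 : nd 60797 = n113698 := ndS (p := 32462) (l := 6) rfl N32462 D113698
theorem N60798 : nd 60798 = n113699 := ndS (p := 32463) (l := 4) rfl N32463 D113699
theorem N60799 : nd 60799 = n113700 := ndS (p := 32463) (l := 6) rfl N32463 D113700
theorem N60800 : nd 60800 = n113701 := ndS (p := 32464) (l := 1) rfl N32464 D113701
theorem N60801 : nd 60801 = n113702 := ndS (p := 32464) (l := 5) rfl N32464 D113702
theorem N60802 : nd 60802 = n113709 := ndS (p := 32468) (l := 4) rfl N32468 D113709
theorem N60803 : nd 60803 = n113710 := ndS (p := 32468) (l := 6) rfl N32468 D113710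
theorem N60804 : nd 60804 = n113711 := ndS (p := 32469) (l := 0) rfl N32469 D113711
theorem N60805 : nd 60805 = n113712 := ndS (p := 32469) (l := 1) rfl N32469 D113712
theorem N60806 : nd 60806 = n113713 := ndS (p := 32469) (l := 7) rfl N32469 D113713
theorem N60807 : nd 60807 = n113714 := ndS (p := 32470) (l := 1) rfl N32470 D113714
theorem N60808 : nd 60808 = n113715 := ndS (p := 32470) (l := 7) rfl N32470 D113715
theorem N60809 : nd 60809 = n113717 := ndS (p := 32471) (l := 3) rfl N32471 D113717
theorem N60810 : nd 60810 = n113718 := ndS (p := 32471) (l := 4) rfl N32471 D113718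
theorem N60811 : nd 60811 = n113719 := ndS (p := 32471) (l := 5) rfl N32471 D113719
theorem N60812 : nd 60812 = n113720 := ndS (p := 32471) (l := 6) rfl N32471 D113720
theorem N60813 : nd 60813 = n113722 := ndS (p := 32472) (l := 3) rfl N32472 D113722
theorem N60814 : nd 60814 = n113723 := ndS (p := 32472) (l := 4) rfl N32472 D113723
theorem N60815 : nd 60815 = n113724 := ndS (p := 32472) (l := 5) rfl N32472 D113724
theorem N60816 : nd 60816 = n113725 := ndS (p := 32472) (l := 6) rfl N32472 D113725
theorem N60817 : nd 60817 = n113726 := ndS (p := 32473) (l := 0) rfl N32473 D113726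
theorem N60818 : nd 60818 = n113730 := ndS (p := 32475) (l := 4) rfl N32475 D113730
theorem N60819 : nd 60819 = n113731 := ndS (p := 32475) (l := 6) rfl N32475 D113731
theorem N60820 : nd 60820 = n113733 := ndS (p := 32477) (l := 4) rfl N32477 D113733
theorem N60821 : nd 60821 = n113734 := ndS (p := 32477) (l := 6) rfl N32477 D113734
theorem N60822 : nd 60822 = n113735 := ndS (p := 32478) (l := 4) rfl N32478 D113735
theorem N60823 : nd 60823 = n113736 := ndS (p := 32478) (l := 6) rfl N32478 D113736
theorem N60824 : nd 60824 = n113737 := ndS (p := 32479) (l := 5) rfl N32479 D113737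
theorem N60825 : nd 60825 = n113738 := ndS (p := 32480) (l := 4) rfl N32480 D113738
theorem N60826 : nd 60826 = n113739 := ndS (p := 32480) (l := 6) rfl N32480 D113739
theorem N60827 : nd 60827 = n113742 := ndS (p := 32482) (l := 0) rfl N32482 D113742
theorem N60828 : nd 60828 = n113745 := ndS (p := 32483) (l := 4) rfl N32483 D113745
theorem N60829 : nd 60829 = n113746 := ndS (p := 32483) (l := 5) rfl N32483 D113746
theorem N60830 : nd 60830 = n113747 := ndS (p := 32483) (l := 6) rfl N32483 D113747
theorem N60831 : nd 60831 = n113749 := ndS (p := 32484) (l := 3) rfl N32484 D113749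
theorem N60832 : nd 60832 = n113750 := ndS (p := 32484) (l := 4) rfl N32484 D113750
theorem N60833 : nd 60833 = n113751 := ndS (p := 32484) (l := 5) rfl N32484 D113751
theorem N60834 : nd 60834 = n113753 := ndS (p := 32487) (l := 0) rfl N32487 D113753
theorem N60835 : nd 60835 = n113754 := ndS (p := 32487) (l := 1) rfl N32487 D113754
theorem N60836 : nd 60836 = n113755 := ndS (p := 32487) (l := 7) rfl N32487 D113755
theorem N60837 : nd 60837 = n113757 := ndS (p := 32488) (l := 3) rfl N32488 D113757
theorem N60838 : nd 60838 = n113759 := ndS (p := 32488) (l := 5) rfl N32488 D113759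
theorem N60839 : nd 60839 = n113760 := ndS (p := 32488) (l := 6) rfl N32488 D113760
theorem N60840 : nd 60840 = n113765 := ndS (p := 32489) (l := 6) rfl N32489 D113765
theorem N60841 : nd 60841 = n113766 := ndS (p := 32490) (l := 0) rfl N32490 D113766
theorem N60842 : nd 60842 = n113768 := ndS (p := 32490) (l := 4) rfl N32490 D113768
theorem N60843 : nd 60843 = n113769 := ndS (p := 32490) (l := 7) rfl N32490 D113769
theorem N60844 : nd 60844 = n113770 := ndS (p := 32492) (l := 3) rfl N32492 D113770
theorem N60845 : nd 60845 = n113771 := ndS (p := 32493) (l := 6) rfl N32493 D113771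
theorem N60846 : nd 60846 = n113772 := ndS (p := 32494) (l := 5) rfl N32494 D113772
theorem N60847 : nd 60847 = n113773 := ndS (p := 32495) (l := 4) rfl N32495 D113773
theorem N60848 : nd 60848 = n113774 := ndS (p := 32495) (l := 6) rfl N32495 D113774
theorem N60849 : nd 60849 = n113775 := ndS (p := 32497) (l := 6) rfl N32497 D113775
theorem N60850 : nd 60850 = n113776 := ndS (p := 32498) (l := 3) rfl N32498 D113776
theorem N60851 : nd 60851 = n113777 := ndS (p := 32498) (l := 6) rfl N32498 D113777
theorem N60852 : nd 60852 = n113778 := ndS (p := 32499) (l := 1) rfl N32499 D113778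
theorem N60853 : nd 60853 = n113779 := ndS (p := 32499) (l := 5) rfl N32499 D113779
theorem N60854 : nd 60854 = n113780 := ndS (p := 32500) (l := 3) rfl N32500 D113780
theorem N60855 : nd 60855 = n113783 := ndS (p := 32500) (l := 6) rfl N32500 D113783
theorem N60856 : nd 60856 = n113784 := ndS (p := 32501) (l := 3) rfl N32501 D113784
theorem N60857 : nd 60857 = n113786 := ndS (p := 32503) (l := 4) rfl N32503 D113786
theorem N60858 : nd 60858 = n113787 := ndS (p := 32503) (l := 6) rfl N32503 D113787
theorem N60859 : nd 60859 = n113790 := ndS (p := 32505) (l := 5) rfl N32505 D113790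
theorem N60860 : nd 60860 = n113791 := ndS (p := 32506) (l := 1) rfl N32506 D113791
theorem N60861 : nd 60861 = n113792 := ndS (p := 32506) (l := 4) rfl N32506 D113792
theorem N60862 : nd 60862 = n113794 := ndS (p := 32507) (l := 5) rfl N32507 D113794
theorem N60863 : nd 60863 = n113795 := ndS (p := 32508) (l := 6) rfl N32508 D113795
theorem N60864 : nd 60864 = n113806 := ndS (p := 32510) (l := 6) rfl N32510 D113806
theorem N60865 : nd 60865 = n113807 := ndS (p := 32511) (l := 4) rfl N32511 D113807
theorem N60866 : nd 60866 = n113808 := ndS (p := 32513) (l := 4) rfl N32513 D113808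
theorem N60867 : nd 60867 = n113809 := ndS (p := 32513) (l := 6) rfl N32513 D113809
theorem N60868 : nd 60868 = n113810 := ndS (p := 32515) (l := 6) rfl N32515 D113810
theorem N60869 : nd 60869 = n113815 := ndS (p := 32517) (l := 1) rfl N32517 D113815
theorem N60870 : nd 60870 = n113817 := ndS (p := 32519) (l := 3) rfl N32519 D113817
theorem N60871 : nd 60871 = n113820 := ndS (p := 32520) (l := 3) rfl N32520 D113820
theorem N60872 : nd 60872 = n113822 := ndS (p := 32520) (l := 6) rfl N32520 D113822
theorem N60873 : nd 60873 = n113823 := ndS (p := 32521) (l := 0) rfl N32521 D113823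
theorem N60874 : nd 60874 = n113824 := ndS (p := 32521) (l := 1) rfl N32521 D113824
theorem N60875 : nd 60875 = n113825 := ndS (p := 32521) (l := 3) rfl N32521 D113825
theorem N60876 : nd 60876 = n113827 := ndS (p := 32521) (l := 6) rfl N32521 D113827
theorem N60877 : nd 60877 = n113831 := ndS (p := 32523) (l := 2) rfl N32523 D113831
theorem N60878 : nd 60878 = n113832 := ndS (p := 32523) (l := 4) rfl N32523 D113832
theorem N60879 : nd 60879 = n113833 := ndS (p := 32523) (l := 6) rfl N32523 D113833
theorem N60880 : nd 60880 = n113836 := ndS (p := 32524) (l := 3) rfl N32524 D113836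
theorem N60881 : nd 60881 = n113841 := ndS (p := 32525) (l := 5) rfl N32525 D113841
theorem N60882 : nd 60882 = n113843 := ndS (p := 32526) (l := 2) rfl N32526 D113843
theorem N60883 : nd 60883 = n113844 := ndS (p := 32526) (l := 4) rfl N32526 D113844
theorem N60884 : nd 60884 = n113845 := ndS (p := 32526) (l := 6) rfl N32526 D113845
theorem N60885 : nd 60885 = n113846 := ndS (p := 32527) (l := 3) rfl N32527 D113846
theorem N60886 : nd 60886 = n113849 := ndS (p := 32528) (l := 0) rfl N32528 D113849
theorem N60887 : nd 60887 = n113851 := ndS (p := 32528) (l := 5) rfl N32528 D113851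
theorem N60888 : nd 60888 = n113852 := ndS (p := 32528) (l := 7) rfl N32528 D113852
theorem N60889 : nd 60889 = n113853 := ndS (p := 32529) (l := 3) rfl N32529 D113853
theorem N60890 : nd 60890 = n113854 := ndS (p := 32529) (l := 4) rfl N32529 D113854
theorem N60891 : nd 60891 = n113855 := ndS (p := 32529) (l := 5) rfl N32529 D113855
theorem N60892 : nd 60892 = n113856 := ndS (p := 32529) (l := 6) rfl N32529 D113856
theorem N60893 : nd 60893 = n113858 := ndS (p := 32530) (l := 5) rfl N32530 D113858
theorem N60894 : nd 60894 = n113861 := ndS (p := 32531) (l := 1) rfl N32531 D113861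
theorem N60895 : nd 60895 = n113868 := ndS (p := 32532) (l := 6) rfl N32532 D113868
theorem N60896 : nd 60896 = n113872 := ndS (p := 32533) (l := 5) rfl N32533 D113872
theorem N60897 : nd 60897 = n113874 := ndS (p := 32534) (l := 6) rfl N32534 D113874
theorem N60898 : nd 60898 = n113876 := ndS (p := 32535) (l := 3) rfl N32535 D113876
theorem N60899 : nd 60899 = n113878 := ndS (p := 32535) (l := 5) rfl N32535 D113878
theorem N60900 : nd 60900 = n113885 := ndS (p := 32536) (l := 6) rfl N32536 D113885
theorem N60901 : nd 60901 = n113886 := ndS (p := 32537) (l := 0) rfl N32537 D113886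
theorem N60902 : nd 60902 = n113887 := ndS (p := 32537) (l := 1) rfl N32537 D113887
theorem N60903 : nd 60903 = n113888 := ndS (p := 32537) (l := 5) rfl N32537 D113888
theorem N60904 : nd 60904 = n113889 := ndS (p := 32538) (l := 5) rfl N32538 D113889
theorem N60905 : nd 60905 = n113890 := ndS (p := 32539) (l := 0) rfl N32539 D113890
theorem N60906 : nd 60906 = n113891 := ndS (p := 32539) (l := 1) rfl N32539 D113891
theorem N60907 : nd 60907 = n113892 := ndS (p := 32539) (l := 4) rfl N32539 D113892
theorem N60908 : nd 60908 = n113893 := ndS (p := 32540) (l := 4) rfl N32540 D113893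
theorem N60909 : nd 60909 = n113894 := ndS (p := 32540) (l := 6) rfl N32540 D113894
theorem N60910 : nd 60910 = n113895 := ndS (p := 32541) (l := 5) rfl N32541 D113895
theorem N60911 : nd 60911 = n113897 := ndS (p := 32542) (l := 0) rfl N32542 D113897
theorem N60912 : nd 60912 = n113898 := ndS (p := 32542) (l := 1) rfl N32542 D113898
theorem N60913 : nd 60913 = n113899 := ndS (p := 32542) (l := 5) rfl N32542 D113899
theorem N60914 : nd 60914 = n113900 := ndS (p := 32542) (l := 7) rfl N32542 D113900
theorem N60915 : nd 60915 = n113902 := ndS (p := 32543) (l := 3) rfl N32543 D113902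
theorem N60916 : nd 60916 = n113904 := ndS (p := 32543) (l := 5) rfl N32543 D113904
theorem N60917 : nd 60917 = n113909 := ndS (p := 32544) (l := 5) rfl N32544 D113909
theorem N60918 : nd 60918 = n113910 := ndS (p := 32544) (l := 6) rfl N32544 D113910
theorem N60919 : nd 60919 = n113911 := ndS (p := 32545) (l := 0) rfl N32545 D113911
theorem N60920 : nd 60920 = n113912 := ndS (p := 32545) (l := 1) rfl N32545 D113912
theorem N60921 : nd 60921 = n113913 := ndS (p := 32545) (l := 4) rfl N32545 D113913
theorem N60922 : nd 60922 = n113914 := ndS (p := 32545) (l := 7) rfl N32545 D113914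
theorem N60923 : nd 60923 = n113915 := ndS (p := 32547) (l := 4) rfl N32547 D113915
theorem N60924 : nd 60924 = n113916 := ndS (p := 32547) (l := 6) rfl N32547 D113916
theorem N60925 : nd 60925 = n113917 := ndS (p := 32548) (l := 0) rfl N32548 D113917
theorem N60926 : nd 60926 = n113918 := ndS (p := 32548) (l := 1) rfl N32548 D113918
theorem N60927 : nd 60927 = n113919 := ndS (p := 32548) (l := 5) rfl N32548 D113919
theorem N60928 : nd 60928 = n113920 := ndS (p := 32548) (l := 6) rfl N32548 D113920
theorem N60929 : nd 60929 = n113921 := ndS (p := 32549) (l := 1) rfl N32549 D113921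
theorem N60930 : nd 60930 = n113922 := ndS (p := 32549) (l := 7) rfl N32549 D113922
theorem N60931 : nd 60931 = n113926 := ndS (p := 32550) (l := 5) rfl N32550 D113926
theorem N60932 : nd 60932 = n113927 := ndS (p := 32550) (l := 6) rfl N32550 D113927
theorem N60933 : nd 60933 = n113928 := ndS (p := 32551) (l := 3) rfl N32551 D113928
theorem N60934 : nd 60934 = n113930 := ndS (p := 32551) (l := 5) rfl N32551 D113930
theorem N60935 : nd 60935 = n113931 := ndS (p := 32551) (l := 6) rfl N32551 D113931
theorem N60936 : nd 60936 = n113933 := ndS (p := 32553) (l := 3) rfl N32553 D113933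
theorem N60937 : nd 60937 = n113938 := ndS (p := 32554) (l := 3) rfl N32554 D113938
theorem N60938 : nd 60938 = n113939 := ndS (p := 32554) (l := 4) rfl N32554 D113939
theorem N60939 : nd 60939 = n113941 := ndS (p := 32554) (l := 6) rfl N32554 D113941
theorem N60940 : nd 60940 = n113945 := ndS (p := 32556) (l := 5) rfl N32556 D113945
theorem N60941 : nd 60941 = n113948 := ndS (p := 32557) (l := 3) rfl N32557 D113948
theorem N60942 : nd 60942 = n113950 := ndS (p := 32557) (l := 5) rfl N32557 D113950
theorem N60943 : nd 60943 = n113951 := ndS (p := 32557) (l := 6) rfl N32557 D113951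
theorem N60944 : nd 60944 = n113953 := ndS (p := 32558) (l := 3) rfl N32558 D113953
theorem N60945 : nd 60945 = n113955 := ndS (p := 32558) (l := 5) rfl N32558 D113955
theorem N60946 : nd 60946 = n113957 := ndS (p := 32559) (l := 0) rfl N32559 D113957
theorem N60947 : nd 60947 = n113958 := ndS (p := 32559) (l := 1) rfl N32559 D113958
theorem N60948 : nd 60948 = n113959 := ndS (p := 32559) (l := 4) rfl N32559 D113959
theorem N60949 : nd 60949 = n113960 := ndS (p := 32559) (l := 7) rfl N32559 D113960
theorem N60950 : nd 60950 = n113967 := ndS (p := 32561) (l := 0) rfl N32561 D113967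
theorem N60951 : nd 60951 = n113969 := ndS (p := 32561) (l := 2) rfl N32561 D113969
theorem N60952 : nd 60952 = n113970 := ndS (p := 32561) (l := 4) rfl N32561 D113970
theorem N60953 : nd 60953 = n113971 := ndS (p := 32561) (l := 5) rfl N32561 D113971
theorem N60954 : nd 60954 = n113972 := ndS (p := 32561) (l := 6) rfl N32561 D113972
theorem N60955 : nd 60955 = n113976 := ndS (p := 32562) (l := 3) rfl N32562 D113976
theorem N60956 : nd 60956 = n113977 := ndS (p := 32562) (l := 5) rfl N32562 D113977
theorem N60957 : nd 60957 = n113978 := ndS (p := 32562) (l := 6) rfl N32562 D113978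
theorem N60958 : nd 60958 = n113980 := ndS (p := 32563) (l := 0) rfl N32563 D113980
theorem N60959 : nd 60959 = n113981 := ndS (p := 32563) (l := 4) rfl N32563 D113981
theorem N60960 : nd 60960 = n113982 := ndS (p := 32563) (l := 6) rfl N32563 D113982
theorem N60961 : nd 60961 = n113986 := ndS (p := 32564) (l := 7) rfl N32564 D113986
theorem N60962 : nd 60962 = n113989 := ndS (p := 32565) (l := 1) rfl N32565 D113989
theorem N60963 : nd 60963 = n113991 := ndS (p := 32565) (l := 4) rfl N32565 D113991
theorem N60964 : nd 60964 = n113993 := ndS (p := 32565) (l := 6) rfl N32565 D113993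
theorem N60965 : nd 60965 = n113994 := ndS (p := 32566) (l := 3) rfl N32566 D113994
theorem N60966 : nd 60966 = n113996 := ndS (p := 32566) (l := 6) rfl N32566 D113996
theorem N60967 : nd 60967 = n113997 := ndS (p := 32567) (l := 4) rfl N32567 D113997
theorem N60968 : nd 60968 = n114000 := ndS (p := 32568) (l := 5) rfl N32568 D114000
theorem N60969 : nd 60969 = n114002 := ndS (p := 32569) (l := 5) rfl N32569 D114002
theorem N60970 : nd 60970 = n114004 := ndS (p := 32570) (l := 3) rfl N32570 D114004
theorem N60971 : nd 60971 = n114006 := ndS (p := 32570) (l := 5) rfl N32570 D114006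
theorem N60972 : nd 60972 = n114007 := ndS (p := 32570) (l := 6) rfl N32570 D114007
theorem N60973 : nd 60973 = n114011 := ndS (p := 32571) (l := 5) rfl N32571 D114011
theorem N60974 : nd 60974 = n114013 := ndS (p := 32572) (l := 0) rfl N32572 D114013
theorem N60975 : nd 60975 = n114014 := ndS (p := 32572) (l := 1) rfl N32572 D114014
theorem N60976 : nd 60976 = n114015 := ndS (p := 32572) (l := 4) rfl N32572 D114015
theorem N60977 : nd 60977 = n114016 := ndS (p := 32573) (l := 3) rfl N32573 D114016
theorem N60978 : nd 60978 = n114017 := ndS (p := 32576) (l := 6) rfl N32576 D114017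
theorem N60979 : nd 60979 = n114018 := ndS (p := 32577) (l := 0) rfl N32577 D114018
theorem N60980 : nd 60980 = n114020 := ndS (p := 32577) (l := 5) rfl N32577 D114020
theorem N60981 : nd 60981 = n114021 := ndS (p := 32577) (l := 7) rfl N32577 D114021
theorem N60982 : nd 60982 = n114022 := ndS (p := 32578) (l := 4) rfl N32578 D114022
theorem N60983 : nd 60983 = n114024 := ndS (p := 32579) (l := 3) rfl N32579 D114024
theorem N60984 : nd 60984 = n114026 := ndS (p := 32579) (l := 5) rfl N32579 D114026
theorem N60985 : nd 60985 = n114031 := ndS (p := 32580) (l := 6) rfl N32580 D114031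
theorem N60986 : nd 60986 = n114032 := ndS (p := 32581) (l := 0) rfl N32581 D114032
theorem N60987 : nd 60987 = n114034 := ndS (p := 32581) (l := 4) rfl N32581 D114034
theorem N60988 : nd 60988 = n114035 := ndS (p := 32581) (l := 7) rfl N32581 D114035
theorem N60989 : nd 60989 = n114036 := ndS (p := 32583) (l := 3) rfl N32583 D114036
theorem N60990 : nd 60990 = n114037 := ndS (p := 32584) (l := 0) rfl N32584 D114037
theorem N60991 : nd 60991 = n114038 := ndS (p := 32584) (l := 1) rfl N32584 D114038
theorem N60992 : nd 60992 = n114039 := ndS (p := 32584) (l := 7) rfl N32584 D114039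
theorem N60993 : nd 60993 = n114043 := ndS (p := 32585) (l := 5) rfl N32585 D114043
theorem N60994 : nd 60994 = n114048 := ndS (p := 32586) (l := 5) rfl N32586 D114048
theorem N60995 : nd 60995 = n114050 := ndS (p := 32588) (l := 6) rfl N32588 D114050
theorem N60996 : nd 60996 = n114051 := ndS (p := 32589) (l := 4) rfl N32589 D114051
theorem N60997 : nd 60997 = n114052 := ndS (p := 32590) (l := 3) rfl N32590 D114052
theorem N60998 : nd 60998 = n114053 := ndS (p := 32591) (l := 6) rfl N32591 D114053
theorem N60999 : nd 60999 = n114054 := ndS (p := 32592) (l := 6) rfl N32592 D114054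
theorem N61000 : nd 61000 = n114055 := ndS (p := 32593) (l := 0) rfl N32593 D114055
theorem N61001 : nd 61001 = n114057 := ndS (p := 32593) (l := 5) rfl N32593 D114057
theorem N61002 : nd 61002 = n114058 := ndS (p := 32593) (l := 7) rfl N32593 D114058
theorem N61003 : nd 61003 = n114059 := ndS (p := 32594) (l := 3) rfl N32594 D114059
theorem N61004 : nd 61004 = n114060 := ndS (p := 32594) (l := 6) rfl N32594 D114060
theorem N61005 : nd 61005 = n114065 := ndS (p := 32597) (l := 6) rfl N32597 D114065
theorem N61006 : nd 61006 = n114066 := ndS (p := 32598) (l := 6) rfl N32598 D114066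
theorem N61007 : nd 61007 = n114067 := ndS (p := 32599) (l := 0) rfl N32599 D114067
theorem N61008 : nd 61008 = n114069 := ndS (p := 32599) (l := 5) rfl N32599 D114069
theorem N61009 : nd 61009 = n114070 := ndS (p := 32599) (l := 7) rfl N32599 D114070
theorem N61010 : nd 61010 = n114071 := ndS (p := 32600) (l := 4) rfl N32600 D114071
theorem N61011 : nd 61011 = n114072 := ndS (p := 32600) (l := 6) rfl N32600 D114072
theorem N61012 : nd 61012 = n114073 := ndS (p := 32601) (l := 3) rfl N32601 D114073
theorem N61013 : nd 61013 = n114074 := ndS (p := 32601) (l := 4) rfl N32601 D114074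
theorem N61014 : nd 61014 = n114080 := ndS (p := 32604) (l := 5) rfl N32604 D114080
theorem N61015 : nd 61015 = n114082 := ndS (p := 32605) (l := 1) rfl N32605 D114082
theorem N61016 : nd 61016 = n114084 := ndS (p := 32607) (l := 4) rfl N32607 D114084
theorem N61017 : nd 61017 = n114085 := ndS (p := 32607) (l := 6) rfl N32607 D114085
theorem N61018 : nd 61018 = n114086 := ndS (p := 32609) (l := 0) rfl N32609 D114086
theorem N61019 : nd 61019 = n114088 := ndS (p := 32609) (l := 5) rfl N32609 D114088
theorem N61020 : nd 61020 = n114089 := ndS (p := 32609) (l := 7) rfl N32609 D114089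
theorem N61021 : nd 61021 = n114091 := ndS (p := 32610) (l := 3) rfl N32610 D114091
theorem N61022 : nd 61022 = n114092 := ndS (p := 32610) (l := 5) rfl N32610 D114092
theorem N61023 : nd 61023 = n114095 := ndS (p := 32613) (l := 4) rfl N32613 D114095
theorem N61024 : nd 61024 = n114096 := ndS (p := 32614) (l := 6) rfl N32614 D114096
theorem N61025 : nd 61025 = n114097 := ndS (p := 32616) (l := 1) rfl N32616 D114097
theorem N61026 : nd 61026 = n114098 := ndS (p := 32616) (l := 6) rfl N32616 D114098
theorem N61027 : nd 61027 = n114099 := ndS (p := 32617) (l := 0) rfl N32617 D114099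
theorem N61028 : nd 61028 = n114100 := ndS (p := 32617) (l := 5) rfl N32617 D114100
theorem N61029 : nd 61029 = n114101 := ndS (p := 32617) (l := 7) rfl N32617 D114101
theorem N61030 : nd 61030 = n114102 := ndS (p := 32618) (l := 4) rfl N32618 D114102
theorem N61031 : nd 61031 = n114104 := ndS (p := 32619) (l := 6) rfl N32619 D114104
theorem N61032 : nd 61032 = n114106 := ndS (p := 32620) (l := 1) rfl N32620 D114106
theorem N61033 : nd 61033 = n114107 := ndS (p := 32620) (l := 5) rfl N32620 D114107
theorem N61034 : nd 61034 = n114108 := ndS (p := 32620) (l := 7) rfl N32620 D114108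
theorem N61035 : nd 61035 = n114109 := ndS (p := 32621) (l := 5) rfl N32621 D114109
theorem N61036 : nd 61036 = n114110 := ndS (p := 32623) (l := 3) rfl N32623 D114110
theorem N61037 : nd 61037 = n114111 := ndS (p := 32623) (l := 6) rfl N32623 D114111
theorem N61038 : nd 61038 = n114112 := ndS (p := 32624) (l := 0) rfl N32624 D114112
theorem N61039 : nd 61039 = n114113 := ndS (p := 32624) (l := 1) rfl N32624 D114113
theorem N61040 : nd 61040 = n114114 := ndS (p := 32624) (l := 5) rfl N32624 D114114
theorem N61041 : nd 61041 = n114115 := ndS (p := 32625) (l := 4) rfl N32625 D114115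
theorem N61042 : nd 61042 = n114116 := ndS (p := 32626) (l := 6) rfl N32626 D114116
theorem N61043 : nd 61043 = n114120 := ndS (p := 32628) (l := 6) rfl N32628 D114120
theorem N61044 : nd 61044 = n114121 := ndS (p := 32629) (l := 3) rfl N32629 D114121
theorem N61045 : nd 61045 = n114124 := ndS (p := 32630) (l := 1) rfl N32630 D114124
theorem N61046 : nd 61046 = n114125 := ndS (p := 32630) (l := 5) rfl N32630 D114125
theorem N61047 : nd 61047 = n114126 := ndS (p := 32630) (l := 7) rfl N32630 D114126
theorem N61048 : nd 61048 = n114127 := ndS (p := 32631) (l := 6) rfl N32631 D114127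
theorem N61049 : nd 61049 = n114128 := ndS (p := 32632) (l := 0) rfl N32632 D114128
theorem N61050 : nd 61050 = n114129 := ndS (p := 32632) (l := 1) rfl N32632 D114129
theorem N61051 : nd 61051 = n114130 := ndS (p := 32632) (l := 5) rfl N32632 D114130
theorem N61052 : nd 61052 = n114131 := ndS (p := 32632) (l := 7) rfl N32632 D114131
theorem N61053 : nd 61053 = n114133 := ndS (p := 32633) (l := 3) rfl N32633 D114133
theorem N61054 : nd 61054 = n114134 := ndS (p := 32633) (l := 4) rfl N32633 D114134
theorem N61055 : nd 61055 = n114135 := ndS (p := 32633) (l := 5) rfl N32633 D114135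
theorem N61056 : nd 61056 = n114136 := ndS (p := 32633) (l := 6) rfl N32633 D114136
theorem N61057 : nd 61057 = n114138 := ndS (p := 32634) (l := 3) rfl N32634 D114138
theorem N61058 : nd 61058 = n114139 := ndS (p := 32634) (l := 4) rfl N32634 D114139
theorem N61059 : nd 61059 = n114140 := ndS (p := 32634) (l := 5) rfl N32634 D114140
theorem N61060 : nd 61060 = n114141 := ndS (p := 32634) (l := 6) rfl N32634 D114141
theorem N61061 : nd 61061 = n114142 := ndS (p := 32635) (l := 0) rfl N32635 D114142
theorem N61062 : nd 61062 = n114143 := ndS (p := 32635) (l := 1) rfl N32635 D114143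
theorem N61063 : nd 61063 = n114144 := ndS (p := 32635) (l := 4) rfl N32635 D114144
theorem N61064 : nd 61064 = n114145 := ndS (p := 32637) (l := 6) rfl N32637 D114145
theorem N61065 : nd 61065 = n114150 := ndS (p := 32639) (l := 5) rfl N32639 D114150
theorem N61066 : nd 61066 = n114151 := ndS (p := 32639) (l := 6) rfl N32639 D114151
theorem N61067 : nd 61067 = n114152 := ndS (p := 32640) (l := 0) rfl N32640 D114152
theorem N61068 : nd 61068 = n114153 := ndS (p := 32640) (l := 1) rfl N32640 D114153
theorem N61069 : nd 61069 = n114154 := ndS (p := 32640) (l := 4) rfl N32640 D114154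
theorem N61070 : nd 61070 = n114155 := ndS (p := 32640) (l := 6) rfl N32640 D114155
theorem N61071 : nd 61071 = n114157 := ndS (p := 32641) (l := 1) rfl N32641 D114157
theorem N61072 : nd 61072 = n114158 := ndS (p := 32641) (l := 7) rfl N32641 D114158
theorem N61073 : nd 61073 = n114163 := ndS (p := 32642) (l := 5) rfl N32642 D114163
theorem N61074 : nd 61074 = n114164 := ndS (p := 32642) (l := 6) rfl N32642 D114164
theorem N61075 : nd 61075 = n114165 := ndS (p := 32643) (l := 4) rfl N32643 D114165
theorem N61076 : nd 61076 = n114166 := ndS (p := 32644) (l := 5) rfl N32644 D114166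
theorem N61077 : nd 61077 = n114174 := ndS (p := 32645) (l := 6) rfl N32645 D114174
theorem N61078 : nd 61078 = n114175 := ndS (p := 32646) (l := 0) rfl N32646 D114175
theorem N61079 : nd 61079 = n114176 := ndS (p := 32646) (l := 1) rfl N32646 D114176
theorem N61080 : nd 61080 = n114177 := ndS (p := 32646) (l := 5) rfl N32646 D114177
theorem N61081 : nd 61081 = n114178 := ndS (p := 32646) (l := 7) rfl N32646 D114178
theorem N61082 : nd 61082 = n114179 := ndS (p := 32648) (l := 0) rfl N32648 D114179
theorem N61083 : nd 61083 = n114181 := ndS (p := 32648) (l := 7) rfl N32648 D114181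
theorem N61084 : nd 61084 = n114182 := ndS (p := 32649) (l := 0) rfl N32649 D114182
theorem N61085 : nd 61085 = n114184 := ndS (p := 32649) (l := 7) rfl N32649 D114184
theorem N61086 : nd 61086 = n114185 := ndS (p := 32650) (l := 0) rfl N32650 D114185
theorem N61087 : nd 61087 = n114186 := ndS (p := 32650) (l := 1) rfl N32650 D114186
theorem N61088 : nd 61088 = n114187 := ndS (p := 32650) (l := 7) rfl N32650 D114187
theorem N61089 : nd 61089 = n114188 := ndS (p := 32651) (l := 5) rfl N32651 D114188
theorem N61090 : nd 61090 = n114190 := ndS (p := 32653) (l := 0) rfl N32653 D114190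
theorem N61091 : nd 61091 = n114191 := ndS (p := 32653) (l := 4) rfl N32653 D114191
theorem N61092 : nd 61092 = n114192 := ndS (p := 32654) (l := 3) rfl N32654 D114192
theorem N61093 : nd 61093 = n114193 := ndS (p := 32654) (l := 6) rfl N32654 D114193
theorem N61094 : nd 61094 = n114194 := ndS (p := 32655) (l := 0) rfl N32655 D114194
theorem N61095 : nd 61095 = n114195 := ndS (p := 32655) (l := 1) rfl N32655 D114195
theorem N61096 : nd 61096 = n114196 := ndS (p := 32655) (l := 7) rfl N32655 D114196
theorem N61097 : nd 61097 = n114197 := ndS (p := 32656) (l := 6) rfl N32656 D114197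
theorem N61098 : nd 61098 = n114198 := ndS (p := 32657) (l := 0) rfl N32657 D114198
theorem N61099 : nd 61099 = n114199 := ndS (p := 32657) (l := 1) rfl N32657 D114199
theorem N61100 : nd 61100 = n114200 := ndS (p := 32657) (l := 5) rfl N32657 D114200
theorem N61101 : nd 61101 = n114201 := ndS (p := 32657) (l := 7) rfl N32657 D114201
theorem N61102 : nd 61102 = n114203 := ndS (p := 32658) (l := 3) rfl N32658 D114203
theorem N61103 : nd 61103 = n114204 := ndS (p := 32658) (l := 4) rfl N32658 D114204
theorem N61104 : nd 61104 = n114205 := ndS (p := 32658) (l := 5) rfl N32658 D114205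
theorem N61105 : nd 61105 = n114206 := ndS (p := 32658) (l := 6) rfl N32658 D114206
theorem N61106 : nd 61106 = n114209 := ndS (p := 32659) (l := 4) rfl N32659 D114209
theorem N61107 : nd 61107 = n114210 := ndS (p := 32659) (l := 5) rfl N32659 D114210
theorem N61108 : nd 61108 = n114211 := ndS (p := 32659) (l := 6) rfl N32659 D114211
theorem N61109 : nd 61109 = n114221 := ndS (p := 32661) (l := 5) rfl N32661 D114221
theorem N61110 : nd 61110 = n114224 := ndS (p := 32662) (l := 1) rfl N32662 D114224
theorem N61111 : nd 61111 = n114225 := ndS (p := 32662) (l := 4) rfl N32662 D114225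
theorem N61112 : nd 61112 = n114226 := ndS (p := 32662) (l := 6) rfl N32662 D114226
theorem N61113 : nd 61113 = n114228 := ndS (p := 32663) (l := 1) rfl N32663 D114228
theorem N61114 : nd 61114 = n114232 := ndS (p := 32664) (l := 1) rfl N32664 D114232
theorem N61115 : nd 61115 = n114233 := ndS (p := 32664) (l := 2) rfl N32664 D114233
theorem N61116 : nd 61116 = n114234 := ndS (p := 32664) (l := 4) rfl N32664 D114234
theorem N61117 : nd 61117 = n114235 := ndS (p := 32664) (l := 5) rfl N32664 D114235
theorem N61118 : nd 61118 = n114236 := ndS (p := 32664) (l := 6) rfl N32664 D114236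
theorem N61119 : nd 61119 = n114237 := ndS (p := 32665) (l := 4) rfl N32665 D114237
theorem N61120 : nd 61120 = n114238 := ndS (p := 32665) (l := 6) rfl N32665 D114238
theorem N61121 : nd 61121 = n114239 := ndS (p := 32666) (l := 0) rfl N32666 D114239
theorem N61122 : nd 61122 = n114241 := ndS (p := 32666) (l := 5) rfl N32666 D114241
theorem N61123 : nd 61123 = n114242 := ndS (p := 32666) (l := 7) rfl N32666 D114242
theorem N61124 : nd 61124 = n114243 := ndS (p := 32667) (l := 5) rfl N32667 D114243
theorem N61125 : nd 61125 = n114244 := ndS (p := 32668) (l := 1) rfl N32668 D114244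
theorem N61126 : nd 61126 = n114245 := ndS (p := 32668) (l := 4) rfl N32668 D114245
theorem N61127 : nd 61127 = n114246 := ndS (p := 32669) (l := 3) rfl N32669 D114246
theorem N61128 : nd 61128 = n114247 := ndS (p := 32669) (l := 6) rfl N32669 D114247
theorem N61129 : nd 61129 = n114248 := ndS (p := 32670) (l := 1) rfl N32670 D114248
theorem N61130 : nd 61130 = n114249 := ndS (p := 32670) (l := 5) rfl N32670 D114249
theorem N61131 : nd 61131 = n114250 := ndS (p := 32670) (l := 7) rfl N32670 D114250
theorem N61132 : nd 61132 = n114251 := ndS (p := 32671) (l := 5) rfl N32671 D114251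
theorem N61133 : nd 61133 = n114252 := ndS (p := 32672) (l := 0) rfl N32672 D114252
theorem N61134 : nd 61134 = n114253 := ndS (p := 32672) (l := 4) rfl N32672 D114253
theorem N61135 : nd 61135 = n114254 := ndS (p := 32672) (l := 7) rfl N32672 D114254
theorem N61136 : nd 61136 = n114255 := ndS (p := 32674) (l := 0) rfl N32674 D114255
theorem N61137 : nd 61137 = n114257 := ndS (p := 32674) (l := 5) rfl N32674 D114257
theorem N61138 : nd 61138 = n114258 := ndS (p := 32674) (l := 7) rfl N32674 D114258
theorem N61139 : nd 61139 = n114259 := ndS (p := 32675) (l := 6) rfl N32675 D114259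
theorem N61140 : nd 61140 = n114261 := ndS (p := 32676) (l := 1) rfl N32676 D114261
theorem N61141 : nd 61141 = n114262 := ndS (p := 32676) (l := 5) rfl N32676 D114262
theorem N61142 : nd 61142 = n114263 := ndS (p := 32676) (l := 7) rfl N32676 D114263
theorem N61143 : nd 61143 = n114264 := ndS (p := 32677) (l := 6) rfl N32677 D114264
theorem N61144 : nd 61144 = n114265 := ndS (p := 32678) (l := 6) rfl N32678 D114265
theorem N61145 : nd 61145 = n114266 := ndS (p := 32679) (l := 0) rfl N32679 D114266
theorem N61146 : nd 61146 = n114267 := ndS (p := 32679) (l := 1) rfl N32679 D114267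
theorem N61147 : nd 61147 = n114268 := ndS (p := 32679) (l := 5) rfl N32679 D114268
theorem N61148 : nd 61148 = n114269 := ndS (p := 32679) (l := 7) rfl N32679 D114269
theorem N61149 : nd 61149 = n114270 := ndS (p := 32680) (l := 3) rfl N32680 D114270
theorem N61150 : nd 61150 = n114271 := ndS (p := 32680) (l := 4) rfl N32680 D114271
theorem N61151 : nd 61151 = n114273 := ndS (p := 32681) (l := 4) rfl N32681 D114273
theorem N61152 : nd 61152 = n114274 := ndS (p := 32681) (l := 5) rfl N32681 D114274
theorem N61153 : nd 61153 = n114275 := ndS (p := 32681) (l := 6) rfl N32681 D114275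
theorem N61154 : nd 61154 = n114276 := ndS (p := 32682) (l := 0) rfl N32682 D114276
theorem N61155 : nd 61155 = n114277 := ndS (p := 32682) (l := 1) rfl N32682 D114277
theorem N61156 : nd 61156 = n114278 := ndS (p := 32682) (l := 4) rfl N32682 D114278
theorem N61157 : nd 61157 = n114279 := ndS (p := 32682) (l := 7) rfl N32682 D114279
theorem N61158 : nd 61158 = n114280 := ndS (p := 32684) (l := 4) rfl N32684 D114280
theorem N61159 : nd 61159 = n114281 := ndS (p := 32685) (l := 4) rfl N32685 D114281
theorem N61160 : nd 61160 = n114282 := ndS (p := 32685) (l := 6) rfl N32685 D114282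
theorem N61161 : nd 61161 = n114283 := ndS (p := 32686) (l := 3) rfl N32686 D114283
theorem N61162 : nd 61162 = n114284 := ndS (p := 32686) (l := 4) rfl N32686 D114284
theorem N61163 : nd 61163 = n114285 := ndS (p := 32686) (l := 6) rfl N32686 D114285
theorem N61164 : nd 61164 = n114286 := ndS (p := 32687) (l := 3) rfl N32687 D114286
theorem N61165 : nd 61165 = n114287 := ndS (p := 32687) (l := 4) rfl N32687 D114287
theorem N61166 : nd 61166 = n114288 := ndS (p := 32688) (l := 0) rfl N32688 D114288
theorem N61167 : nd 61167 = n114289 := ndS (p := 32688) (l := 3) rfl N32688 D114289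
theorem N61168 : nd 61168 = n114290 := ndS (p := 32688) (l := 5) rfl N32688 D114290
theorem N61169 : nd 61169 = n114291 := ndS (p := 32688) (l := 7) rfl N32688 D114291
theorem N61170 : nd 61170 = n114292 := ndS (p := 32689) (l := 6) rfl N32689 D114292
theorem N61171 : nd 61171 = n114298 := ndS (p := 32690) (l := 0) rfl N32690 D114298
theorem N61172 : nd 61172 = n114300 := ndS (p := 32690) (l := 2) rfl N32690 D114300
theorem N61173 : nd 61173 = n114302 := ndS (p := 32690) (l := 5) rfl N32690 D114302
theorem N61174 : nd 61174 = n114303 := ndS (p := 32690) (l := 6) rfl N32690 D114303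
theorem N61175 : nd 61175 = n114305 := ndS (p := 32691) (l := 0) rfl N32691 D114305
theorem N61176 : nd 61176 = n114306 := ndS (p := 32691) (l := 1) rfl N32691 D114306
theorem N61177 : nd 61177 = n114307 := ndS (p := 32691) (l := 4) rfl N32691 D114307
theorem N61178 : nd 61178 = n114311 := ndS (p := 32692) (l := 1) rfl N32692 D114311
theorem N61179 : nd 61179 = n114318 := ndS (p := 32693) (l := 5) rfl N32693 D114318
theorem N61180 : nd 61180 = n114319 := ndS (p := 32693) (l := 6) rfl N32693 D114319
theorem N61181 : nd 61181 = n114320 := ndS (p := 32694) (l := 4) rfl N32694 D114320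
theorem N61182 : nd 61182 = n114321 := ndS (p := 32695) (l := 7) rfl N32695 D114321
theorem N61183 : nd 61183 = n114322 := ndS (p := 32696) (l := 3) rfl N32696 D114322
theorem N61184 : nd 61184 = n114323 := ndS (p := 32696) (l := 4) rfl N32696 D114323
theorem N61185 : nd 61185 = n114324 := ndS (p := 32696) (l := 6) rfl N32696 D114324
theorem N61186 : nd 61186 = n114325 := ndS (p := 32697) (l := 3) rfl N32697 D114325
theorem N61187 : nd 61187 = n114326 := ndS (p := 32697) (l := 4) rfl N32697 D114326
theorem N61188 : nd 61188 = n114327 := ndS (p := 32697) (l := 6) rfl N32697 D114327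
theorem N61189 : nd 61189 = n114328 := ndS (p := 32698) (l := 0) rfl N32698 D114328
theorem N61190 : nd 61190 = n114329 := ndS (p := 32698) (l := 1) rfl N32698 D114329
theorem N61191 : nd 61191 = n114330 := ndS (p := 32698) (l := 3) rfl N32698 D114330
theorem N61192 : nd 61192 = n114331 := ndS (p := 32698) (l := 5) rfl N32698 D114331
theorem N61193 : nd 61193 = n114332 := ndS (p := 32698) (l := 7) rfl N32698 D114332
theorem N61194 : nd 61194 = n114333 := ndS (p := 32699) (l := 6) rfl N32699 D114333
theorem N61195 : nd 61195 = n114334 := ndS (p := 32700) (l := 3) rfl N32700 D114334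
theorem N61196 : nd 61196 = n114337 := ndS (p := 32701) (l := 1) rfl N32701 D114337
theorem N61197 : nd 61197 = n114338 := ndS (p := 32701) (l := 7) rfl N32701 D114338
theorem N61198 : nd 61198 = n114339 := ndS (p := 32702) (l := 4) rfl N32702 D114339
theorem N61199 : nd 61199 = n114340 := ndS (p := 32702) (l := 6) rfl N32702 D114340
theorem N61200 : nd 61200 = n114341 := ndS (p := 32703) (l := 3) rfl N32703 D114341
theorem N61201 : nd 61201 = n114342 := ndS (p := 32703) (l := 6) rfl N32703 D114342
theorem N61202 : nd 61202 = n114343 := ndS (p := 32704) (l := 0) rfl N32704 D114343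
theorem N61203 : nd 61203 = n114344 := ndS (p := 32704) (l := 1) rfl N32704 D114344
theorem N61204 : nd 61204 = n114345 := ndS (p := 32704) (l := 7) rfl N32704 D114345
theorem N61205 : nd 61205 = n114346 := ndS (p := 32705) (l := 4) rfl N32705 D114346
theorem N61206 : nd 61206 = n114347 := ndS (p := 32705) (l := 6) rfl N32705 D114347
theorem N61207 : nd 61207 = n114348 := ndS (p := 32706) (l := 3) rfl N32706 D114348
theorem N61208 : nd 61208 = n114349 := ndS (p := 32706) (l := 6) rfl N32706 D114349
theorem N61209 : nd 61209 = n114350 := ndS (p := 32707) (l := 0) rfl N32707 D114350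
theorem N61210 : nd 61210 = n114351 := ndS (p := 32707) (l := 1) rfl N32707 D114351
theorem N61211 : nd 61211 = n114352 := ndS (p := 32707) (l := 7) rfl N32707 D114352
theorem N61212 : nd 61212 = n114353 := ndS (p := 32708) (l := 4) rfl N32708 D114353
theorem N61213 : nd 61213 = n114354 := ndS (p := 32708) (l := 6) rfl N32708 D114354
theorem N61214 : nd 61214 = n114355 := ndS (p := 32709) (l := 3) rfl N32709 D114355
theorem N61215 : nd 61215 = n114357 := ndS (p := 32710) (l := 0) rfl N32710 D114357
theorem N61216 : nd 61216 = n114358 := ndS (p := 32710) (l := 1) rfl N32710 D114358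
theorem N61217 : nd 61217 = n114359 := ndS (p := 32710) (l := 7) rfl N32710 D114359
theorem N61218 : nd 61218 = n114361 := ndS (p := 32711) (l := 6) rfl N32711 D114361
theorem N61219 : nd 61219 = n114364 := ndS (p := 32713) (l := 0) rfl N32713 D114364
theorem N61220 : nd 61220 = n114365 := ndS (p := 32713) (l := 1) rfl N32713 D114365
theorem N61221 : nd 61221 = n114366 := ndS (p := 32713) (l := 2) rfl N32713 D114366
theorem N61222 : nd 61222 = n114367 := ndS (p := 32713) (l := 5) rfl N32713 D114367
theorem N61223 : nd 61223 = n114368 := ndS (p := 32713) (l := 7) rfl N32713 D114368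
theorem N61224 : nd 61224 = n114369 := ndS (p := 32714) (l := 6) rfl N32714 D114369
theorem N61225 : nd 61225 = n114370 := ndS (p := 32715) (l := 6) rfl N32715 D114370
theorem N61226 : nd 61226 = n114371 := ndS (p := 32716) (l := 0) rfl N32716 D114371
theorem N61227 : nd 61227 = n114372 := ndS (p := 32716) (l := 1) rfl N32716 D114372
theorem N61228 : nd 61228 = n114373 := ndS (p := 32717) (l := 5) rfl N32717 D114373
theorem N61229 : nd 61229 = n114374 := ndS (p := 32718) (l := 0) rfl N32718 D114374
theorem N61230 : nd 61230 = n114375 := ndS (p := 32718) (l := 1) rfl N32718 D114375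
theorem N61231 : nd 61231 = n114377 := ndS (p := 32718) (l := 6) rfl N32718 D114377
theorem N61232 : nd 61232 = n114380 := ndS (p := 32720) (l := 0) rfl N32720 D114380
theorem N61233 : nd 61233 = n114381 := ndS (p := 32720) (l := 1) rfl N32720 D114381
theorem N61234 : nd 61234 = n114382 := ndS (p := 32720) (l := 7) rfl N32720 D114382
theorem N61235 : nd 61235 = n114384 := ndS (p := 32721) (l := 6) rfl N32721 D114384
theorem N61236 : nd 61236 = n114386 := ndS (p := 32722) (l := 6) rfl N32722 D114386
theorem N61237 : nd 61237 = n114387 := ndS (p := 32723) (l := 0) rfl N32723 D114387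
theorem N61238 : nd 61238 = n114388 := ndS (p := 32723) (l := 1) rfl N32723 D114388
theorem N61239 : nd 61239 = n114389 := ndS (p := 32723) (l := 7) rfl N32723 D114389
theorem N61240 : nd 61240 = n114394 := ndS (p := 32724) (l := 5) rfl N32724 D114394
theorem N61241 : nd 61241 = n114395 := ndS (p := 32724) (l := 6) rfl N32724 D114395
theorem N61242 : nd 61242 = n114396 := ndS (p := 32725) (l := 1) rfl N32725 D114396
theorem N61243 : nd 61243 = n114397 := ndS (p := 32725) (l := 4) rfl N32725 D114397
theorem N61244 : nd 61244 = n114398 := ndS (p := 32725) (l := 6) rfl N32725 D114398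
theorem N61245 : nd 61245 = n114400 := ndS (p := 32726) (l := 7) rfl N32726 D114400
theorem N61246 : nd 61246 = n114405 := ndS (p := 32727) (l := 5) rfl N32727 D114405
theorem N61247 : nd 61247 = n114406 := ndS (p := 32727) (l := 6) rfl N32727 D114406
theorem N61248 : nd 61248 = n114407 := ndS (p := 32728) (l := 4) rfl N32728 D114407
theorem N61249 : nd 61249 = n114408 := ndS (p := 32728) (l := 6) rfl N32728 D114408
theorem N61250 : nd 61250 = n114409 := ndS (p := 32729) (l := 0) rfl N32729 D114409
theorem N61251 : nd 61251 = n114411 := ndS (p := 32729) (l := 5) rfl N32729 D114411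
theorem N61252 : nd 61252 = n114412 := ndS (p := 32729) (l := 7) rfl N32729 D114412
theorem N61253 : nd 61253 = n114413 := ndS (p := 32730) (l := 3) rfl N32730 D114413
theorem N61254 : nd 61254 = n114414 := ndS (p := 32730) (l := 6) rfl N32730 D114414
theorem N61255 : nd 61255 = n114417 := ndS (p := 32732) (l := 3) rfl N32732 D114417
theorem N61256 : nd 61256 = n114418 := ndS (p := 32732) (l := 5) rfl N32732 D114418
theorem N61257 : nd 61257 = n114419 := ndS (p := 32732) (l := 7) rfl N32732 D114419
theorem N61258 : nd 61258 = n114420 := ndS (p := 32733) (l := 6) rfl N32733 D114420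
theorem N61259 : nd 61259 = n114421 := ndS (p := 32734) (l := 0) rfl N32734 D114421
theorem N61260 : nd 61260 = n114422 := ndS (p := 32734) (l := 1) rfl N32734 D114422
theorem N61261 : nd 61261 = n114423 := ndS (p := 32734) (l := 2) rfl N32734 D114423
theorem N61262 : nd 61262 = n114424 := ndS (p := 32735) (l := 0) rfl N32735 D114424
theorem N61263 : nd 61263 = n114425 := ndS (p := 32735) (l := 1) rfl N32735 D114425
theorem N61264 : nd 61264 = n114426 := ndS (p := 32736) (l := 6) rfl N32736 D114426
theorem N61265 : nd 61265 = n114427 := ndS (p := 32737) (l := 6) rfl N32737 D114427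
theorem N61266 : nd 61266 = n114432 := ndS (p := 32741) (l := 5) rfl N32741 D114432
theorem N61267 : nd 61267 = n114433 := ndS (p := 32742) (l := 6) rfl N32742 D114433
theorem N61268 : nd 61268 = n114434 := ndS (p := 32743) (l := 6) rfl N32743 D114434
theorem N61269 : nd 61269 = n114436 := ndS (p := 32744) (l := 1) rfl N32744 D114436
theorem N61270 : nd 61270 = n114437 := ndS (p := 32744) (l := 7) rfl N32744 D114437
theorem N61271 : nd 61271 = n114438 := ndS (p := 32745) (l := 4) rfl N32745 D114438
theorem N61272 : nd 61272 = n114439 := ndS (p := 32746) (l := 3) rfl N32746 D114439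
theorem N61273 : nd 61273 = n114440 := ndS (p := 32746) (l := 6) rfl N32746 D114440
theorem N61274 : nd 61274 = n114441 := ndS (p := 32747) (l := 1) rfl N32747 D114441
theorem N61275 : nd 61275 = n114442 := ndS (p := 32747) (l := 7) rfl N32747 D114442
theorem N61276 : nd 61276 = n114443 := ndS (p := 32748) (l := 5) rfl N32748 D114443
theorem N61277 : nd 61277 = n114444 := ndS (p := 32749) (l := 5) rfl N32749 D114444
theorem N61278 : nd 61278 = n114446 := ndS (p := 32751) (l := 0) rfl N32751 D114446
theorem N61279 : nd 61279 = n114447 := ndS (p := 32751) (l := 1) rfl N32751 D114447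
theorem N61280 : nd 61280 = n114453 := ndS (p := 32752) (l := 6) rfl N32752 D114453
theorem N61281 : nd 61281 = n114454 := ndS (p := 32753) (l := 6) rfl N32753 D114454
theorem N61282 : nd 61282 = n114456 := ndS (p := 32754) (l := 5) rfl N32754 D114456
theorem N61283 : nd 61283 = n114461 := ndS (p := 32756) (l := 6) rfl N32756 D114461
theorem N61284 : nd 61284 = n114464 := ndS (p := 32757) (l := 5) rfl N32757 D114464
theorem N61285 : nd 61285 = n114465 := ndS (p := 32757) (l := 7) rfl N32757 D114465
theorem N61286 : nd 61286 = n114466 := ndS (p := 32758) (l := 4) rfl N32758 D114466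
theorem N61287 : nd 61287 = n114469 := ndS (p := 32759) (l := 4) rfl N32759 D114469
theorem N61288 : nd 61288 = n114470 := ndS (p := 32759) (l := 5) rfl N32759 D114470
theorem N61289 : nd 61289 = n114472 := ndS (p := 32760) (l := 0) rfl N32760 D114472
theorem N61290 : nd 61290 = n114473 := ndS (p := 32760) (l := 1) rfl N32760 D114473
theorem N61291 : nd 61291 = n114475 := ndS (p := 32760) (l := 7) rfl N32760 D114475
theorem N61292 : nd 61292 = n114476 := ndS (p := 32762) (l := 4) rfl N32762 D114476
theorem N61293 : nd 61293 = n114477 := ndS (p := 32762) (l := 6) rfl N32762 D114477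
theorem N61294 : nd 61294 = n114478 := ndS (p := 32763) (l := 5) rfl N32763 D114478
theorem N61295 : nd 61295 = n114479 := ndS (p := 32764) (l := 5) rfl N32764 D114479
theorem N61296 : nd 61296 = n114480 := ndS (p := 32765) (l := 4) rfl N32765 D114480
theorem N61297 : nd 61297 = n114481 := ndS (p := 32765) (l := 6) rfl N32765 D114481
theorem N61298 : nd 61298 = n114482 := ndS (p := 32766) (l := 0) rfl N32766 D114482
theorem N61299 : nd 61299 = n114483 := ndS (p := 32766) (l := 1) rfl N32766 D114483
theorem N61300 : nd 61300 = n114489 := ndS (p := 32767) (l := 4) rfl N32767 D114489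
theorem N61301 : nd 61301 = n114490 := ndS (p := 32767) (l := 5) rfl N32767 D114490
theorem N61302 : nd 61302 = n114491 := ndS (p := 32767) (l := 6) rfl N32767 D114491
theorem N61303 : nd 61303 = n114492 := ndS (p := 32768) (l := 0) rfl N32768 D114492
theorem N61304 : nd 61304 = n114493 := ndS (p := 32768) (l := 1) rfl N32768 D114493
theorem N61305 : nd 61305 = n114494 := ndS (p := 32768) (l := 4) rfl N32768 D114494
theorem N61306 : nd 61306 = n114495 := ndS (p := 32768) (l := 6) rfl N32768 D114495
theorem N61307 : nd 61307 = n114502 := ndS (p := 32770) (l := 4) rfl N32770 D114502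
theorem N61308 : nd 61308 = n114503 := ndS (p := 32772) (l := 3) rfl N32772 D114503
theorem N61309 : nd 61309 = n114505 := ndS (p := 32772) (l := 5) rfl N32772 D114505
theorem N61310 : nd 61310 = n114506 := ndS (p := 32772) (l := 6) rfl N32772 D114506
theorem N61311 : nd 61311 = n114507 := ndS (p := 32773) (l := 3) rfl N32773 D114507
theorem N61312 : nd 61312 = n114508 := ndS (p := 32773) (l := 6) rfl N32773 D114508
theorem N61313 : nd 61313 = n114509 := ndS (p := 32774) (l := 0) rfl N32774 D114509
theorem N61314 : nd 61314 = n114510 := ndS (p := 32774) (l := 1) rfl N32774 D114510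
theorem N61315 : nd 61315 = n114514 := ndS (p := 32775) (l := 6) rfl N32775 D114514
theorem N61316 : nd 61316 = n114515 := ndS (p := 32776) (l := 2) rfl N32776 D114515
theorem N61317 : nd 61317 = n114517 := ndS (p := 32776) (l := 6) rfl N32776 D114517
theorem N61318 : nd 61318 = n114518 := ndS (p := 32777) (l := 0) rfl N32777 D114518
theorem N61319 : nd 61319 = n114519 := ndS (p := 32777) (l := 1) rfl N32777 D114519
theorem N61320 : nd 61320 = n114520 := ndS (p := 32777) (l := 5) rfl N32777 D114520
theorem N61321 : nd 61321 = n114521 := ndS (p := 32777) (l := 7) rfl N32777 D114521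
theorem N61322 : nd 61322 = n114526 := ndS (p := 32780) (l := 6) rfl N32780 D114526
theorem N61323 : nd 61323 = n114527 := ndS (p := 32781) (l := 3) rfl N32781 D114527
theorem N61324 : nd 61324 = n114529 := ndS (p := 32782) (l := 0) rfl N32782 D114529
theorem N61325 : nd 61325 = n114533 := ndS (p := 32782) (l := 7) rfl N32782 D114533
theorem N61326 : nd 61326 = n114535 := ndS (p := 32784) (l := 6) rfl N32784 D114535
theorem N61327 : nd 61327 = n114536 := ndS (p := 32785) (l := 0) rfl N32785 D114536
theorem N61328 : nd 61328 = n114537 := ndS (p := 32785) (l := 1) rfl N32785 D114537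
theorem N61329 : nd 61329 = n114538 := ndS (p := 32786) (l := 6) rfl N32786 D114538
theorem N61330 : nd 61330 = n114539 := ndS (p := 32787) (l := 0) rfl N32787 D114539
theorem N61331 : nd 61331 = n114540 := ndS (p := 32787) (l := 1) rfl N32787 D114540
theorem N61332 : nd 61332 = n114541 := ndS (p := 32787) (l := 5) rfl N32787 D114541
theorem N61333 : nd 61333 = n114542 := ndS (p := 32787) (l := 7) rfl N32787 D114542
theorem N61334 : nd 61334 = n114543 := ndS (p := 32788) (l := 4) rfl N32788 D114543
theorem N61335 : nd 61335 = n114550 := ndS (p := 32793) (l := 6) rfl N32793 D114550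
theorem N61336 : nd 61336 = n114551 := ndS (p := 32794) (l := 6) rfl N32794 D114551
theorem N61337 : nd 61337 = n114552 := ndS (p := 32795) (l := 0) rfl N32795 D114552
theorem N61338 : nd 61338 = n114553 := ndS (p := 32795) (l := 1) rfl N32795 D114553
theorem N61339 : nd 61339 = n114554 := ndS (p := 32795) (l := 5) rfl N32795 D114554
theorem N61340 : nd 61340 = n114556 := ndS (p := 32796) (l := 5) rfl N32796 D114556
theorem N61341 : nd 61341 = n114557 := ndS (p := 32797) (l := 0) rfl N32797 D114557
theorem N61342 : nd 61342 = n114558 := ndS (p := 32797) (l := 1) rfl N32797 D114558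
theorem N61343 : nd 61343 = n114559 := ndS (p := 32797) (l := 7) rfl N32797 D114559
theorem N61344 : nd 61344 = n114560 := ndS (p := 32799) (l := 0) rfl N32799 D114560
theorem N61345 : nd 61345 = n114564 := ndS (p := 32801) (l := 0) rfl N32801 D114564
theorem N61346 : nd 61346 = n114565 := ndS (p := 32803) (l := 6) rfl N32803 D114565
theorem N61347 : nd 61347 = n114566 := ndS (p := 32804) (l := 0) rfl N32804 D114566
theorem N61348 : nd 61348 = n114567 := ndS (p := 32804) (l := 1) rfl N32804 D114567
theorem N61349 : nd 61349 = n114568 := ndS (p := 32804) (l := 7) rfl N32804 D114568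
theorem N61350 : nd 61350 = n114569 := ndS (p := 32805) (l := 3) rfl N32805 D114569
theorem N61351 : nd 61351 = n114570 := ndS (p := 32805) (l := 6) rfl N32805 D114570
theorem N61352 : nd 61352 = n114579 := ndS (p := 32807) (l := 5) rfl N32807 D114579
theorem N61353 : nd 61353 = n114580 := ndS (p := 32807) (l := 6) rfl N32807 D114580
theorem N61354 : nd 61354 = n114593 := ndS (p := 32809) (l := 5) rfl N32809 D114593
theorem N61355 : nd 61355 = n114594 := ndS (p := 32810) (l := 4) rfl N32810 D114594
theorem N61356 : nd 61356 = n114595 := ndS (p := 32810) (l := 6) rfl N32810 D114595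
theorem N61357 : nd 61357 = n114596 := ndS (p := 32811) (l := 4) rfl N32811 D114596
theorem N61358 : nd 61358 = n114597 := ndS (p := 32811) (l := 6) rfl N32811 D114597
theorem N61359 : nd 61359 = n114598 := ndS (p := 32812) (l := 0) rfl N32812 D114598
theorem N61360 : nd 61360 = n114599 := ndS (p := 32812) (l := 3) rfl N32812 D114599
theorem N61361 : nd 61361 = n114600 := ndS (p := 32812) (l := 5) rfl N32812 D114600
theorem N61362 : nd 61362 = n114601 := ndS (p := 32812) (l := 7) rfl N32812 D114601
theorem N61363 : nd 61363 = n114602 := ndS (p := 32813) (l := 6) rfl N32813 D114602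
theorem N61364 : nd 61364 = n114603 := ndS (p := 32814) (l := 4) rfl N32814 D114603
theorem N61365 : nd 61365 = n114604 := ndS (p := 32815) (l := 3) rfl N32815 D114604
theorem N61366 : nd 61366 = n114605 := ndS (p := 32815) (l := 6) rfl N32815 D114605
theorem N61367 : nd 61367 = n114606 := ndS (p := 32816) (l := 0) rfl N32816 D114606
theorem N61368 : nd 61368 = n114607 := ndS (p := 32816) (l := 1) rfl N32816 D114607
theorem N61369 : nd 61369 = n114608 := ndS (p := 32816) (l := 5) rfl N32816 D114608
theorem N61370 : nd 61370 = n114609 := ndS (p := 32816) (l := 7) rfl N32816 D114609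
theorem N61371 : nd 61371 = n114610 := ndS (p := 32817) (l := 0) rfl N32817 D114610
theorem N61372 : nd 61372 = n114611 := ndS (p := 32817) (l := 1) rfl N32817 D114611
theorem N61373 : nd 61373 = n114612 := ndS (p := 32817) (l := 4) rfl N32817 D114612
theorem N61374 : nd 61374 = n114613 := ndS (p := 32818) (l := 0) rfl N32818 D114613
theorem N61375 : nd 61375 = n114614 := ndS (p := 32818) (l := 1) rfl N32818 D114614
theorem N61376 : nd 61376 = n114615 := ndS (p := 32818) (l := 5) rfl N32818 D114615
theorem N61377 : nd 61377 = n114617 := ndS (p := 32819) (l := 5) rfl N32819 D114617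
theorem N61378 : nd 61378 = n114618 := ndS (p := 32820) (l := 1) rfl N32820 D114618
theorem N61379 : nd 61379 = n114620 := ndS (p := 32820) (l := 7) rfl N32820 D114620
theorem N61380 : nd 61380 = n114622 := ndS (p := 32823) (l := 6) rfl N32823 D114622
theorem N61381 : nd 61381 = n114625 := ndS (p := 32824) (l := 5) rfl N32824 D114625
theorem N61382 : nd 61382 = n114634 := ndS (p := 32825) (l := 4) rfl N32825 D114634
theorem N61383 : nd 61383 = n114635 := ndS (p := 32825) (l := 5) rfl N32825 D114635
theorem N61384 : nd 61384 = n114636 := ndS (p := 32825) (l := 6) rfl N32825 D114636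
theorem N61385 : nd 61385 = n114638 := ndS (p := 32826) (l := 1) rfl N32826 D114638
theorem N61386 : nd 61386 = n114639 := ndS (p := 32826) (l := 4) rfl N32826 D114639
theorem N61387 : nd 61387 = n114640 := ndS (p := 32826) (l := 7) rfl N32826 D114640
theorem N61388 : nd 61388 = n114642 := ndS (p := 32828) (l := 6) rfl N32828 D114642
theorem N61389 : nd 61389 = n114644 := ndS (p := 32829) (l := 6) rfl N32829 D114644
theorem N61390 : nd 61390 = n114645 := ndS (p := 32830) (l := 0) rfl N32830 D114645
theorem N61391 : nd 61391 = n114646 := ndS (p := 32830) (l := 1) rfl N32830 D114646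
theorem N61392 : nd 61392 = n114647 := ndS (p := 32830) (l := 3) rfl N32830 D114647
theorem N61393 : nd 61393 = n114648 := ndS (p := 32830) (l := 5) rfl N32830 D114648
theorem N61394 : nd 61394 = n114649 := ndS (p := 32830) (l := 7) rfl N32830 D114649
theorem N61395 : nd 61395 = n114650 := ndS (p := 32831) (l := 6) rfl N32831 D114650
theorem N61396 : nd 61396 = n114651 := ndS (p := 32832) (l := 6) rfl N32832 D114651
theorem N61397 : nd 61397 = n114655 := ndS (p := 32834) (l := 5) rfl N32834 D114655
theorem N61398 : nd 61398 = n114657 := ndS (p := 32835) (l := 0) rfl N32835 D114657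
theorem N61399 : nd 61399 = n114659 := ndS (p := 32835) (l := 5) rfl N32835 D114659
theorem N61400 : nd 61400 = n114663 := ndS (p := 32838) (l := 0) rfl N32838 D114663
theorem N61401 : nd 61401 = n114665 := ndS (p := 32838) (l := 5) rfl N32838 D114665
theorem N61402 : nd 61402 = n114666 := ndS (p := 32838) (l := 7) rfl N32838 D114666
theorem N61403 : nd 61403 = n114667 := ndS (p := 32839) (l := 3) rfl N32839 D114667
theorem N61404 : nd 61404 = n114669 := ndS (p := 32839) (l := 5) rfl N32839 D114669
theorem N61405 : nd 61405 = n114670 := ndS (p := 32839) (l := 6) rfl N32839 D114670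
theorem N61406 : nd 61406 = n114676 := ndS (p := 32842) (l := 7) rfl N32842 D114676
theorem N61407 : nd 61407 = n114677 := ndS (p := 32843) (l := 3) rfl N32843 D114677
theorem N61408 : nd 61408 = n114678 := ndS (p := 32843) (l := 6) rfl N32843 D114678
theorem N61409 : nd 61409 = n114682 := ndS (p := 32845) (l := 5) rfl N32845 D114682
theorem N61410 : nd 61410 = n114687 := ndS (p := 32846) (l := 5) rfl N32846 D114687
theorem N61411 : nd 61411 = n114696 := ndS (p := 32847) (l := 7) rfl N32847 D114696
theorem N61412 : nd 61412 = n114697 := ndS (p := 32850) (l := 3) rfl N32850 D114697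
theorem N61413 : nd 61413 = n114698 := ndS (p := 32850) (l := 6) rfl N32850 D114698
theorem N61414 : nd 61414 = n114699 := ndS (p := 32851) (l := 0) rfl N32851 D114699
theorem N61415 : nd 61415 = n114700 := ndS (p := 32851) (l := 1) rfl N32851 D114700
theorem N61416 : nd 61416 = n114701 := ndS (p := 32851) (l := 7) rfl N32851 D114701
theorem N61417 : nd 61417 = n114711 := ndS (p := 32855) (l := 5) rfl N32855 D114711
theorem N61418 : nd 61418 = n114712 := ndS (p := 32855) (l := 6) rfl N32855 D114712
theorem N61419 : nd 61419 = n114716 := ndS (p := 32856) (l := 5) rfl N32856 D114716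
theorem N61420 : nd 61420 = n114717 := ndS (p := 32856) (l := 6) rfl N32856 D114717
theorem N61421 : nd 61421 = n114721 := ndS (p := 32859) (l := 5) rfl N32859 D114721
theorem N61422 : nd 61422 = n114734 := ndS (p := 32864) (l := 0) rfl N32864 D114734
theorem N61423 : nd 61423 = n114736 := ndS (p := 32864) (l := 5) rfl N32864 D114736
theorem N61424 : nd 61424 = n114737 := ndS (p := 32864) (l := 7) rfl N32864 D114737
theorem N61425 : nd 61425 = n114740 := ndS (p := 32865) (l := 4) rfl N32865 D114740
theorem N61426 : nd 61426 = n114745 := ndS (p := 32866) (l := 4) rfl N32866 D114745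
theorem N61427 : nd 61427 = n114748 := ndS (p := 32867) (l := 0) rfl N32867 D114748
theorem N61428 : nd 61428 = n114750 := ndS (p := 32867) (l := 4) rfl N32867 D114750
theorem N61429 : nd 61429 = n114751 := ndS (p := 32867) (l := 7) rfl N32867 D114751
theorem N61430 : nd 61430 = n114752 := ndS (p := 32868) (l := 6) rfl N32868 D114752
theorem N61431 : nd 61431 = n114753 := ndS (p := 32869) (l := 0) rfl N32869 D114753
theorem N61432 : nd 61432 = n114755 := ndS (p := 32869) (l := 5) rfl N32869 D114755
theorem N61433 : nd 61433 = n114756 := ndS (p := 32870) (l := 0) rfl N32870 D114756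
theorem N61434 : nd 61434 = n114758 := ndS (p := 32870) (l := 5) rfl N32870 D114758
theorem N61435 : nd 61435 = n114759 := ndS (p := 32870) (l := 6) rfl N32870 D114759
theorem N61436 : nd 61436 = n114765 := ndS (p := 32871) (l := 0) rfl N32871 D114765
theorem N61437 : nd 61437 = n114766 := ndS (p := 32871) (l := 1) rfl N32871 D114766
theorem N61438 : nd 61438 = n114770 := ndS (p := 32872) (l := 1) rfl N32872 D114770
theorem N61439 : nd 61439 = n114771 := ndS (p := 32872) (l := 5) rfl N32872 D114771
theorem N61440 : nd 61440 = n114774 := ndS (p := 32873) (l := 1) rfl N32873 D114774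
theorem N61441 : nd 61441 = n114775 := ndS (p := 32873) (l := 2) rfl N32873 D114775
theorem N61442 : nd 61442 = n114777 := ndS (p := 32873) (l := 5) rfl N32873 D114777
theorem N61443 : nd 61443 = n114788 := ndS (p := 32875) (l := 5) rfl N32875 D114788
theorem N61444 : nd 61444 = n114790 := ndS (p := 32876) (l := 3) rfl N32876 D114790
theorem N61445 : nd 61445 = n114791 := ndS (p := 32876) (l := 4) rfl N32876 D114791
theorem N61446 : nd 61446 = n114792 := ndS (p := 32876) (l := 5) rfl N32876 D114792
theorem N61447 : nd 61447 = n114793 := ndS (p := 32876) (l := 6) rfl N32876 D114793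
theorem N61448 : nd 61448 = n114795 := ndS (p := 32877) (l := 3) rfl N32877 D114795
theorem N61449 : nd 61449 = n114796 := ndS (p := 32877) (l := 4) rfl N32877 D114796
theorem N61450 : nd 61450 = n114797 := ndS (p := 32877) (l := 5) rfl N32877 D114797
theorem N61451 : nd 61451 = n114798 := ndS (p := 32877) (l := 6) rfl N32877 D114798
theorem N61452 : nd 61452 = n114799 := ndS (p := 32878) (l := 0) rfl N32878 D114799
theorem N61453 : nd 61453 = n114800 := ndS (p := 32878) (l := 1) rfl N32878 D114800
theorem N61454 : nd 61454 = n114801 := ndS (p := 32878) (l := 4) rfl N32878 D114801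
theorem N61455 : nd 61455 = n114802 := ndS (p := 32879) (l := 5) rfl N32879 D114802
theorem N61456 : nd 61456 = n114803 := ndS (p := 32880) (l := 4) rfl N32880 D114803
theorem N61457 : nd 61457 = n114804 := ndS (p := 32880) (l := 6) rfl N32880 D114804
theorem N61458 : nd 61458 = n114805 := ndS (p := 32882) (l := 3) rfl N32882 D114805
theorem N61459 : nd 61459 = n114806 := ndS (p := 32882) (l := 4) rfl N32882 D114806
theorem N61460 : nd 61460 = n114807 := ndS (p := 32882) (l := 6) rfl N32882 D114807
theorem N61461 : nd 61461 = n114808 := ndS (p := 32883) (l := 4) rfl N32883 D114808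
theorem N61462 : nd 61462 = n114809 := ndS (p := 32883) (l := 6) rfl N32883 D114809
theorem N61463 : nd 61463 = n114810 := ndS (p := 32884) (l := 0) rfl N32884 D114810
theorem N61464 : nd 61464 = n114811 := ndS (p := 32884) (l := 3) rfl N32884 D114811
theorem N61465 : nd 61465 = n114812 := ndS (p := 32884) (l := 5) rfl N32884 D114812
theorem N61466 : nd 61466 = n114813 := ndS (p := 32885) (l := 3) rfl N32885 D114813
theorem N61467 : nd 61467 = n114814 := ndS (p := 32885) (l := 6) rfl N32885 D114814
theorem N61468 : nd 61468 = n114815 := ndS (p := 32886) (l := 0) rfl N32886 D114815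
theorem N61469 : nd 61469 = n114816 := ndS (p := 32886) (l := 1) rfl N32886 D114816
theorem N61470 : nd 61470 = n114819 := ndS (p := 32888) (l := 6) rfl N32888 D114819
theorem N61471 : nd 61471 = n114821 := ndS (p := 32890) (l := 0) rfl N32890 D114821
theorem N61472 : nd 61472 = n114822 := ndS (p := 32890) (l := 1) rfl N32890 D114822
theorem N61473 : nd 61473 = n114823 := ndS (p := 32890) (l := 5) rfl N32890 D114823
theorem N61474 : nd 61474 = n114824 := ndS (p := 32890) (l := 7) rfl N32890 D114824
theorem N61475 : nd 61475 = n114826 := ndS (p := 32891) (l := 3) rfl N32891 D114826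
theorem N61476 : nd 61476 = n114827 := ndS (p := 32891) (l := 4) rfl N32891 D114827
theorem N61477 : nd 61477 = n114828 := ndS (p := 32891) (l := 5) rfl N32891 D114828
theorem N61478 : nd 61478 = n114829 := ndS (p := 32891) (l := 6) rfl N32891 D114829
theorem N61479 : nd 61479 = n114832 := ndS (p := 32892) (l := 4) rfl N32892 D114832
theorem N61480 : nd 61480 = n114833 := ndS (p := 32892) (l := 5) rfl N32892 D114833
theorem N61481 : nd 61481 = n114834 := ndS (p := 32892) (l := 6) rfl N32892 D114834
theorem N61482 : nd 61482 = n114836 := ndS (p := 32893) (l := 1) rfl N32893 D114836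
theorem N61483 : nd 61483 = n114837 := ndS (p := 32893) (l := 4) rfl N32893 D114837
theorem N61484 : nd 61484 = n114844 := ndS (p := 32895) (l := 0) rfl N32895 D114844
theorem N61485 : nd 61485 = n114845 := ndS (p := 32895) (l := 1) rfl N32895 D114845
theorem N61486 : nd 61486 = n114846 := ndS (p := 32895) (l := 4) rfl N32895 D114846
theorem N61487 : nd 61487 = n114847 := ndS (p := 32895) (l := 6) rfl N32895 D114847
theorem N61488 : nd 61488 = n114848 := ndS (p := 32896) (l := 1) rfl N32896 D114848
theorem N61489 : nd 61489 = n114852 := ndS (p := 32897) (l := 4) rfl N32897 D114852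
theorem N61490 : nd 61490 = n114853 := ndS (p := 32897) (l := 5) rfl N32897 D114853
theorem N61491 : nd 61491 = n114854 := ndS (p := 32897) (l := 6) rfl N32897 D114854
theorem N61492 : nd 61492 = n114855 := ndS (p := 32898) (l := 4) rfl N32898 D114855
theorem N61493 : nd 61493 = n114856 := ndS (p := 32898) (l := 6) rfl N32898 D114856
theorem N61494 : nd 61494 = n114857 := ndS (p := 32899) (l := 5) rfl N32899 D114857
theorem N61495 : nd 61495 = n114859 := ndS (p := 32900) (l := 5) rfl N32900 D114859
theorem N61496 : nd 61496 = n114860 := ndS (p := 32900) (l := 6) rfl N32900 D114860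
theorem N61497 : nd 61497 = n114862 := ndS (p := 32901) (l := 6) rfl N32901 D114862
theorem N61498 : nd 61498 = n114863 := ndS (p := 32902) (l := 5) rfl N32902 D114863
theorem N61499 : nd 61499 = n114864 := ndS (p := 32902) (l := 7) rfl N32902 D114864
theorem N61500 : nd 61500 = n114867 := ndS (p := 32904) (l := 7) rfl N32904 D114867
theorem N61501 : nd 61501 = n114868 := ndS (p := 32906) (l := 0) rfl N32906 D114868
theorem N61502 : nd 61502 = n114869 := ndS (p := 32906) (l := 1) rfl N32906 D114869
theorem N61503 : nd 61503 = n114870 := ndS (p := 32906) (l := 5) rfl N32906 D114870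
theorem N61504 : nd 61504 = n114873 := ndS (p := 32907) (l := 3) rfl N32907 D114873
theorem N61505 : nd 61505 = n114875 := ndS (p := 32907) (l := 5) rfl N32907 D114875
theorem N61506 : nd 61506 = n114876 := ndS (p := 32907) (l := 6) rfl N32907 D114876
theorem N61507 : nd 61507 = n114878 := ndS (p := 32908) (l := 3) rfl N32908 D114878
theorem N61508 : nd 61508 = n114880 := ndS (p := 32908) (l := 5) rfl N32908 D114880
theorem N61509 : nd 61509 = n114882 := ndS (p := 32909) (l := 0) rfl N32909 D114882
theorem N61510 : nd 61510 = n114883 := ndS (p := 32909) (l := 1) rfl N32909 D114883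
theorem N61511 : nd 61511 = n114884 := ndS (p := 32909) (l := 4) rfl N32909 D114884
theorem N61512 : nd 61512 = n114885 := ndS (p := 32909) (l := 7) rfl N32909 D114885
theorem N61513 : nd 61513 = n114886 := ndS (p := 32911) (l := 0) rfl N32911 D114886
theorem N61514 : nd 61514 = n114888 := ndS (p := 32911) (l := 2) rfl N32911 D114888
theorem N61515 : nd 61515 = n114890 := ndS (p := 32911) (l := 5) rfl N32911 D114890
theorem N61516 : nd 61516 = n114891 := ndS (p := 32911) (l := 6) rfl N32911 D114891
theorem N61517 : nd 61517 = n114892 := ndS (p := 32912) (l := 1) rfl N32912 D114892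
theorem N61518 : nd 61518 = n114893 := ndS (p := 32912) (l := 4) rfl N32912 D114893
theorem N61519 : nd 61519 = n114894 := ndS (p := 32912) (l := 6) rfl N32912 D114894
theorem N61520 : nd 61520 = n114895 := ndS (p := 32913) (l := 1) rfl N32913 D114895
theorem N61521 : nd 61521 = n114896 := ndS (p := 32913) (l := 7) rfl N32913 D114896
theorem N61522 : nd 61522 = n114898 := ndS (p := 32914) (l := 1) rfl N32914 D114898
theorem N61523 : nd 61523 = n114899 := ndS (p := 32914) (l := 2) rfl N32914 D114899
theorem N61524 : nd 61524 = n114900 := ndS (p := 32914) (l := 4) rfl N32914 D114900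
theorem N61525 : nd 61525 = n114901 := ndS (p := 32914) (l := 5) rfl N32914 D114901
theorem N61526 : nd 61526 = n114902 := ndS (p := 32914) (l := 6) rfl N32914 D114902
theorem N61527 : nd 61527 = n114903 := ndS (p := 32915) (l := 4) rfl N32915 D114903
theorem N61528 : nd 61528 = n114904 := ndS (p := 32915) (l := 6) rfl N32915 D114904
theorem N61529 : nd 61529 = n114906 := ndS (p := 32916) (l := 7) rfl N32916 D114906
theorem N61530 : nd 61530 = n114907 := ndS (p := 32917) (l := 4) rfl N32917 D114907
theorem N61531 : nd 61531 = n114908 := ndS (p := 32917) (l := 5) rfl N32917 D114908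
theorem N61532 : nd 61532 = n114909 := ndS (p := 32918) (l := 3) rfl N32918 D114909
theorem N61533 : nd 61533 = n114910 := ndS (p := 32918) (l := 4) rfl N32918 D114910
theorem N61534 : nd 61534 = n114911 := ndS (p := 32918) (l := 6) rfl N32918 D114911
theorem N61535 : nd 61535 = n114912 := ndS (p := 32919) (l := 0) rfl N32919 D114912
theorem N61536 : nd 61536 = n114913 := ndS (p := 32919) (l := 1) rfl N32919 D114913
theorem N61537 : nd 61537 = n114914 := ndS (p := 32919) (l := 3) rfl N32919 D114914
theorem N61538 : nd 61538 = n114915 := ndS (p := 32919) (l := 5) rfl N32919 D114915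
theorem N61539 : nd 61539 = n114916 := ndS (p := 32919) (l := 7) rfl N32919 D114916
theorem N61540 : nd 61540 = n114917 := ndS (p := 32920) (l := 6) rfl N32920 D114917
theorem N61541 : nd 61541 = n114920 := ndS (p := 32921) (l := 4) rfl N32921 D114920
theorem N61542 : nd 61542 = n114928 := ndS (p := 32922) (l := 4) rfl N32922 D114928
theorem N61543 : nd 61543 = n114929 := ndS (p := 32922) (l := 5) rfl N32922 D114929
theorem N61544 : nd 61544 = n114930 := ndS (p := 32922) (l := 6) rfl N32922 D114930
theorem N61545 : nd 61545 = n114931 := ndS (p := 32923) (l := 0) rfl N32923 D114931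
theorem N61546 : nd 61546 = n114933 := ndS (p := 32923) (l := 3) rfl N32923 D114933
theorem N61547 : nd 61547 = n114934 := ndS (p := 32923) (l := 5) rfl N32923 D114934
theorem N61548 : nd 61548 = n114935 := ndS (p := 32923) (l := 6) rfl N32923 D114935
theorem N61549 : nd 61549 = n114936 := ndS (p := 32924) (l := 0) rfl N32924 D114936
theorem N61550 : nd 61550 = n114937 := ndS (p := 32924) (l := 1) rfl N32924 D114937
theorem N61551 : nd 61551 = n114938 := ndS (p := 32924) (l := 4) rfl N32924 D114938
theorem N61552 : nd 61552 = n114939 := ndS (p := 32924) (l := 6) rfl N32924 D114939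
theorem N61553 : nd 61553 = n114940 := ndS (p := 32925) (l := 0) rfl N32925 D114940
theorem N61554 : nd 61554 = n114941 := ndS (p := 32925) (l := 1) rfl N32925 D114941
theorem N61555 : nd 61555 = n114942 := ndS (p := 32925) (l := 7) rfl N32925 D114942
theorem N61556 : nd 61556 = n114943 := ndS (p := 32926) (l := 0) rfl N32926 D114943
theorem N61557 : nd 61557 = n114945 := ndS (p := 32926) (l := 2) rfl N32926 D114945
theorem N61558 : nd 61558 = n114946 := ndS (p := 32926) (l := 5) rfl N32926 D114946
theorem N61559 : nd 61559 = n114947 := ndS (p := 32926) (l := 6) rfl N32926 D114947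
theorem N61560 : nd 61560 = n114948 := ndS (p := 32927) (l := 1) rfl N32927 D114948
theorem N61561 : nd 61561 = n114949 := ndS (p := 32927) (l := 4) rfl N32927 D114949
theorem N61562 : nd 61562 = n114950 := ndS (p := 32927) (l := 6) rfl N32927 D114950
theorem N61563 : nd 61563 = n114951 := ndS (p := 32928) (l := 1) rfl N32928 D114951
theorem N61564 : nd 61564 = n114952 := ndS (p := 32928) (l := 7) rfl N32928 D114952
theorem N61565 : nd 61565 = n114953 := ndS (p := 32929) (l := 3) rfl N32929 D114953
theorem N61566 : nd 61566 = n114954 := ndS (p := 32929) (l := 4) rfl N32929 D114954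
theorem N61567 : nd 61567 = n114955 := ndS (p := 32929) (l := 6) rfl N32929 D114955
theorem N61568 : nd 61568 = n114957 := ndS (p := 32930) (l := 4) rfl N32930 D114957
theorem N61569 : nd 61569 = n114958 := ndS (p := 32930) (l := 5) rfl N32930 D114958
theorem N61570 : nd 61570 = n114959 := ndS (p := 32931) (l := 0) rfl N32931 D114959
theorem N61571 : nd 61571 = n114960 := ndS (p := 32931) (l := 1) rfl N32931 D114960
theorem N61572 : nd 61572 = n114961 := ndS (p := 32931) (l := 3) rfl N32931 D114961
theorem N61573 : nd 61573 = n114962 := ndS (p := 32931) (l := 5) rfl N32931 D114962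
theorem N61574 : nd 61574 = n114963 := ndS (p := 32931) (l := 6) rfl N32931 D114963
theorem N61575 : nd 61575 = n114964 := ndS (p := 32932) (l := 1) rfl N32932 D114964
theorem N61576 : nd 61576 = n114965 := ndS (p := 32932) (l := 7) rfl N32932 D114965
theorem N61577 : nd 61577 = n114967 := ndS (p := 32933) (l := 5) rfl N32933 D114967
theorem N61578 : nd 61578 = n114979 := ndS (p := 32936) (l := 5) rfl N32936 D114979
theorem N61579 : nd 61579 = n114980 := ndS (p := 32936) (l := 6) rfl N32936 D114980
theorem N61580 : nd 61580 = n114983 := ndS (p := 32937) (l := 3) rfl N32937 D114983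
theorem N61581 : nd 61581 = n114984 := ndS (p := 32937) (l := 5) rfl N32937 D114984
theorem N61582 : nd 61582 = n114987 := ndS (p := 32938) (l := 1) rfl N32938 D114987
theorem N61583 : nd 61583 = n114988 := ndS (p := 32938) (l := 4) rfl N32938 D114988
theorem N61584 : nd 61584 = n114989 := ndS (p := 32938) (l := 6) rfl N32938 D114989
theorem N61585 : nd 61585 = n114992 := ndS (p := 32939) (l := 5) rfl N32939 D114992
theorem N61586 : nd 61586 = n114993 := ndS (p := 32939) (l := 7) rfl N32939 D114993
theorem N61587 : nd 61587 = n114997 := ndS (p := 32940) (l := 5) rfl N32940 D114997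
theorem N61588 : nd 61588 = n114998 := ndS (p := 32940) (l := 6) rfl N32940 D114998
theorem N61589 : nd 61589 = n114999 := ndS (p := 32941) (l := 4) rfl N32941 D114999
theorem N61590 : nd 61590 = n115000 := ndS (p := 32941) (l := 6) rfl N32941 D115000
theorem N61591 : nd 61591 = n115001 := ndS (p := 32943) (l := 3) rfl N32943 D115001
theorem N61592 : nd 61592 = n115002 := ndS (p := 32943) (l := 5) rfl N32943 D115002
theorem N61593 : nd 61593 = n115003 := ndS (p := 32943) (l := 6) rfl N32943 D115003
theorem N61594 : nd 61594 = n115004 := ndS (p := 32944) (l := 5) rfl N32944 D115004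
theorem N61595 : nd 61595 = n115006 := ndS (p := 32946) (l := 4) rfl N32946 D115006
theorem N61596 : nd 61596 = n115007 := ndS (p := 32946) (l := 7) rfl N32946 D115007
theorem N61597 : nd 61597 = n115008 := ndS (p := 32948) (l := 4) rfl N32948 D115008
theorem N61598 : nd 61598 = n115012 := ndS (p := 32949) (l := 4) rfl N32949 D115012
theorem N61599 : nd 61599 = n115013 := ndS (p := 32949) (l := 5) rfl N32949 D115013
theorem N61600 : nd 61600 = n115014 := ndS (p := 32949) (l := 6) rfl N32949 D115014
theorem N61601 : nd 61601 = n115015 := ndS (p := 32950) (l := 0) rfl N32950 D115015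
theorem N61602 : nd 61602 = n115016 := ndS (p := 32950) (l := 1) rfl N32950 D115016
theorem N61603 : nd 61603 = n115017 := ndS (p := 32950) (l := 4) rfl N32950 D115017
theorem N61604 : nd 61604 = n115018 := ndS (p := 32950) (l := 6) rfl N32950 D115018
theorem N61605 : nd 61605 = n115022 := ndS (p := 32952) (l := 4) rfl N32952 D115022
theorem N61606 : nd 61606 = n115023 := ndS (p := 32952) (l := 5) rfl N32952 D115023
theorem N61607 : nd 61607 = n115024 := ndS (p := 32952) (l := 6) rfl N32952 D115024
theorem N61608 : nd 61608 = n115025 := ndS (p := 32953) (l := 4) rfl N32953 D115025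
theorem N61609 : nd 61609 = n115026 := ndS (p := 32953) (l := 6) rfl N32953 D115026
theorem N61610 : nd 61610 = n115027 := ndS (p := 32954) (l := 5) rfl N32954 D115027
theorem N61611 : nd 61611 = n115028 := ndS (p := 32955) (l := 3) rfl N32955 D115028
theorem N61612 : nd 61612 = n115029 := ndS (p := 32955) (l := 4) rfl N32955 D115029
theorem N61613 : nd 61613 = n115030 := ndS (p := 32956) (l := 4) rfl N32956 D115030
theorem N61614 : nd 61614 = n115031 := ndS (p := 32956) (l := 6) rfl N32956 D115031
theorem N61615 : nd 61615 = n115032 := ndS (p := 32957) (l := 0) rfl N32957 D115032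
theorem N61616 : nd 61616 = n115033 := ndS (p := 32957) (l := 1) rfl N32957 D115033
theorem N61617 : nd 61617 = n115034 := ndS (p := 32957) (l := 3) rfl N32957 D115034
theorem N61618 : nd 61618 = n115035 := ndS (p := 32957) (l := 5) rfl N32957 D115035
theorem N61619 : nd 61619 = n115036 := ndS (p := 32958) (l := 4) rfl N32958 D115036
theorem N61620 : nd 61620 = n115037 := ndS (p := 32959) (l := 4) rfl N32959 D115037
theorem N61621 : nd 61621 = n115038 := ndS (p := 32960) (l := 1) rfl N32960 D115038
theorem N61622 : nd 61622 = n115039 := ndS (p := 32960) (l := 3) rfl N32960 D115039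
theorem N61623 : nd 61623 = n115040 := ndS (p := 32960) (l := 6) rfl N32960 D115040
theorem N61624 : nd 61624 = n115041 := ndS (p := 32961) (l := 0) rfl N32961 D115041
theorem N61625 : nd 61625 = n115042 := ndS (p := 32961) (l := 1) rfl N32961 D115042
theorem N61626 : nd 61626 = n115043 := ndS (p := 32961) (l := 7) rfl N32961 D115043
theorem N61627 : nd 61627 = n115044 := ndS (p := 32962) (l := 4) rfl N32962 D115044
theorem N61628 : nd 61628 = n115045 := ndS (p := 32962) (l := 6) rfl N32962 D115045
theorem N61629 : nd 61629 = n115046 := ndS (p := 32963) (l := 3) rfl N32963 D115046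
theorem N61630 : nd 61630 = n115047 := ndS (p := 32963) (l := 6) rfl N32963 D115047
theorem N61631 : nd 61631 = n115048 := ndS (p := 32964) (l := 0) rfl N32964 D115048
theorem N61632 : nd 61632 = n115049 := ndS (p := 32964) (l := 1) rfl N32964 D115049
theorem N61633 : nd 61633 = n115050 := ndS (p := 32964) (l := 7) rfl N32964 D115050
theorem N61634 : nd 61634 = n115052 := ndS (p := 32965) (l := 6) rfl N32965 D115052
theorem N61635 : nd 61635 = n115053 := ndS (p := 32966) (l := 3) rfl N32966 D115053
theorem N61636 : nd 61636 = n115054 := ndS (p := 32966) (l := 6) rfl N32966 D115054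
theorem N61637 : nd 61637 = n115055 := ndS (p := 32967) (l := 0) rfl N32967 D115055
theorem N61638 : nd 61638 = n115056 := ndS (p := 32967) (l := 1) rfl N32967 D115056
theorem N61639 : nd 61639 = n115057 := ndS (p := 32967) (l := 7) rfl N32967 D115057
theorem N61640 : nd 61640 = n115058 := ndS (p := 32968) (l := 3) rfl N32968 D115058
theorem N61641 : nd 61641 = n115059 := ndS (p := 32968) (l := 6) rfl N32968 D115059
theorem N61642 : nd 61642 = n115060 := ndS (p := 32969) (l := 0) rfl N32969 D115060
theorem N61643 : nd 61643 = n115061 := ndS (p := 32969) (l := 1) rfl N32969 D115061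
theorem N61644 : nd 61644 = n115062 := ndS (p := 32969) (l := 7) rfl N32969 D115062
theorem N61645 : nd 61645 = n115063 := ndS (p := 32970) (l := 3) rfl N32970 D115063
theorem N61646 : nd 61646 = n115064 := ndS (p := 32970) (l := 6) rfl N32970 D115064
theorem N61647 : nd 61647 = n115065 := ndS (p := 32971) (l := 3) rfl N32971 D115065
theorem N61648 : nd 61648 = n115066 := ndS (p := 32971) (l := 6) rfl N32971 D115066
theorem N61649 : nd 61649 = n115067 := ndS (p := 32972) (l := 0) rfl N32972 D115067
theorem N61650 : nd 61650 = n115068 := ndS (p := 32972) (l := 1) rfl N32972 D115068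
theorem N61651 : nd 61651 = n115069 := ndS (p := 32972) (l := 2) rfl N32972 D115069
theorem N61652 : nd 61652 = n115070 := ndS (p := 32972) (l := 5) rfl N32972 D115070
theorem N61653 : nd 61653 = n115071 := ndS (p := 32973) (l := 6) rfl N32973 D115071
theorem N61654 : nd 61654 = n115072 := ndS (p := 32974) (l := 1) rfl N32974 D115072
theorem N61655 : nd 61655 = n115074 := ndS (p := 32974) (l := 6) rfl N32974 D115074
theorem N61656 : nd 61656 = n115075 := ndS (p := 32975) (l := 3) rfl N32975 D115075
theorem N61657 : nd 61657 = n115076 := ndS (p := 32975) (l := 6) rfl N32975 D115076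
theorem N61658 : nd 61658 = n115077 := ndS (p := 32976) (l := 0) rfl N32976 D115077
theorem N61659 : nd 61659 = n115078 := ndS (p := 32976) (l := 1) rfl N32976 D115078
theorem N61660 : nd 61660 = n115079 := ndS (p := 32976) (l := 7) rfl N32976 D115079
theorem N61661 : nd 61661 = n115080 := ndS (p := 32978) (l := 0) rfl N32978 D115080
theorem N61662 : nd 61662 = n115081 := ndS (p := 32979) (l := 0) rfl N32979 D115081
theorem N61663 : nd 61663 = n115082 := ndS (p := 32979) (l := 6) rfl N32979 D115082
theorem N61664 : nd 61664 = n115083 := ndS (p := 32980) (l := 3) rfl N32980 D115083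
theorem N61665 : nd 61665 = n115084 := ndS (p := 32980) (l := 6) rfl N32980 D115084
theorem N61666 : nd 61666 = n115086 := ndS (p := 32981) (l := 1) rfl N32981 D115086
theorem N61667 : nd 61667 = n115087 := ndS (p := 32981) (l := 7) rfl N32981 D115087
theorem N61668 : nd 61668 = n115088 := ndS (p := 32982) (l := 3) rfl N32982 D115088
theorem N61669 : nd 61669 = n115089 := ndS (p := 32983) (l := 3) rfl N32983 D115089
theorem N61670 : nd 61670 = n115090 := ndS (p := 32983) (l := 6) rfl N32983 D115090
theorem N61671 : nd 61671 = n115091 := ndS (p := 32985) (l := 1) rfl N32985 D115091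
theorem N61672 : nd 61672 = n115092 := ndS (p := 32985) (l := 7) rfl N32985 D115092
theorem N61673 : nd 61673 = n115093 := ndS (p := 32986) (l := 0) rfl N32986 D115093
theorem N61674 : nd 61674 = n115094 := ndS (p := 32986) (l := 1) rfl N32986 D115094
theorem N61675 : nd 61675 = n115095 := ndS (p := 32986) (l := 5) rfl N32986 D115095
theorem N61676 : nd 61676 = n115096 := ndS (p := 32989) (l := 0) rfl N32989 D115096
theorem N61677 : nd 61677 = n115098 := ndS (p := 32989) (l := 2) rfl N32989 D115098
theorem N61678 : nd 61678 = n115099 := ndS (p := 32989) (l := 5) rfl N32989 D115099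
theorem N61679 : nd 61679 = n115100 := ndS (p := 32989) (l := 6) rfl N32989 D115100
theorem N61680 : nd 61680 = n115102 := ndS (p := 32991) (l := 0) rfl N32991 D115102
theorem N61681 : nd 61681 = n115103 := ndS (p := 32991) (l := 1) rfl N32991 D115103
theorem N61682 : nd 61682 = n115104 := ndS (p := 32991) (l := 5) rfl N32991 D115104
theorem N61683 : nd 61683 = n115105 := ndS (p := 32991) (l := 7) rfl N32991 D115105
theorem N61684 : nd 61684 = n115106 := ndS (p := 32993) (l := 0) rfl N32993 D115106
theorem N61685 : nd 61685 = n115107 := ndS (p := 32993) (l := 1) rfl N32993 D115107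
theorem N61686 : nd 61686 = n115108 := ndS (p := 32993) (l := 2) rfl N32993 D115108
theorem N61687 : nd 61687 = n115109 := ndS (p := 32993) (l := 5) rfl N32993 D115109
theorem N61688 : nd 61688 = n115110 := ndS (p := 32993) (l := 6) rfl N32993 D115110
theorem N61689 : nd 61689 = n115112 := ndS (p := 32995) (l := 0) rfl N32995 D115112
theorem N61690 : nd 61690 = n115113 := ndS (p := 32995) (l := 1) rfl N32995 D115113
theorem N61691 : nd 61691 = n115115 := ndS (p := 32995) (l := 7) rfl N32995 D115115
theorem N61692 : nd 61692 = n115116 := ndS (p := 32996) (l := 4) rfl N32996 D115116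
theorem N61693 : nd 61693 = n115117 := ndS (p := 32996) (l := 5) rfl N32996 D115117
theorem N61694 : nd 61694 = n115118 := ndS (p := 32997) (l := 4) rfl N32997 D115118
theorem N61695 : nd 61695 = n115119 := ndS (p := 32997) (l := 6) rfl N32997 D115119
theorem N61696 : nd 61696 = n115121 := ndS (p := 32999) (l := 1) rfl N32999 D115121
theorem N61697 : nd 61697 = n115122 := ndS (p := 32999) (l := 2) rfl N32999 D115122
theorem N61698 : nd 61698 = n115123 := ndS (p := 32999) (l := 5) rfl N32999 D115123
theorem N61699 : nd 61699 = n115125 := ndS (p := 33000) (l := 6) rfl N33000 D115125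
theorem N61700 : nd 61700 = n115127 := ndS (p := 33001) (l := 7) rfl N33001 D115127
theorem N61701 : nd 61701 = n115129 := ndS (p := 33002) (l := 1) rfl N33002 D115129
theorem N61702 : nd 61702 = n115130 := ndS (p := 33002) (l := 2) rfl N33002 D115130
theorem N61703 : nd 61703 = n115131 := ndS (p := 33002) (l := 5) rfl N33002 D115131
theorem N61704 : nd 61704 = n115132 := ndS (p := 33002) (l := 6) rfl N33002 D115132
theorem N61705 : nd 61705 = n115133 := ndS (p := 33003) (l := 6) rfl N33003 D115133
theorem N61706 : nd 61706 = n115135 := ndS (p := 33004) (l := 5) rfl N33004 D115135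
theorem N61707 : nd 61707 = n115136 := ndS (p := 33004) (l := 7) rfl N33004 D115136
theorem N61708 : nd 61708 = n115137 := ndS (p := 33005) (l := 0) rfl N33005 D115137
theorem N61709 : nd 61709 = n115138 := ndS (p := 33005) (l := 2) rfl N33005 D115138
theorem N61710 : nd 61710 = n115140 := ndS (p := 33005) (l := 4) rfl N33005 D115140
theorem N61711 : nd 61711 = n115142 := ndS (p := 33005) (l := 6) rfl N33005 D115142
theorem N61712 : nd 61712 = n115143 := ndS (p := 33005) (l := 7) rfl N33005 D115143
theorem N61713 : nd 61713 = n115144 := ndS (p := 33006) (l := 3) rfl N33006 D115144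
theorem N61714 : nd 61714 = n115145 := ndS (p := 33006) (l := 4) rfl N33006 D115145
theorem N61715 : nd 61715 = n115147 := ndS (p := 33006) (l := 6) rfl N33006 D115147
theorem N61716 : nd 61716 = n115158 := ndS (p := 33011) (l := 0) rfl N33011 D115158
theorem N61717 : nd 61717 = n115159 := ndS (p := 33011) (l := 1) rfl N33011 D115159
theorem N61718 : nd 61718 = n115160 := ndS (p := 33011) (l := 7) rfl N33011 D115160
theorem N61719 : nd 61719 = n115161 := ndS (p := 33012) (l := 5) rfl N33012 D115161
theorem N61720 : nd 61720 = n115162 := ndS (p := 33013) (l := 0) rfl N33013 D115162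
theorem N61721 : nd 61721 = n115163 := ndS (p := 33013) (l := 1) rfl N33013 D115163
theorem N61722 : nd 61722 = n115164 := ndS (p := 33013) (l := 2) rfl N33013 D115164
theorem N61723 : nd 61723 = n115172 := ndS (p := 33016) (l := 0) rfl N33016 D115172
theorem N61724 : nd 61724 = n115173 := ndS (p := 33016) (l := 1) rfl N33016 D115173
theorem N61725 : nd 61725 = n115174 := ndS (p := 33016) (l := 2) rfl N33016 D115174
theorem N61726 : nd 61726 = n115175 := ndS (p := 33016) (l := 5) rfl N33016 D115175
theorem N61727 : nd 61727 = n115176 := ndS (p := 33016) (l := 6) rfl N33016 D115176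
theorem N61728 : nd 61728 = n115177 := ndS (p := 33017) (l := 6) rfl N33017 D115177
theorem N61729 : nd 61729 = n115178 := ndS (p := 33018) (l := 0) rfl N33018 D115178
theorem N61730 : nd 61730 = n115179 := ndS (p := 33018) (l := 1) rfl N33018 D115179
theorem N61731 : nd 61731 = n115180 := ndS (p := 33018) (l := 5) rfl N33018 D115180
theorem N61732 : nd 61732 = n115181 := ndS (p := 33018) (l := 7) rfl N33018 D115181
theorem N61733 : nd 61733 = n115184 := ndS (p := 33022) (l := 0) rfl N33022 D115184
theorem N61734 : nd 61734 = n115185 := ndS (p := 33022) (l := 1) rfl N33022 D115185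
theorem N61735 : nd 61735 = n115186 := ndS (p := 33022) (l := 2) rfl N33022 D115186
theorem N61736 : nd 61736 = n115187 := ndS (p := 33022) (l := 5) rfl N33022 D115187
theorem N61737 : nd 61737 = n115188 := ndS (p := 33022) (l := 6) rfl N33022 D115188
theorem N61738 : nd 61738 = n115189 := ndS (p := 33023) (l := 6) rfl N33023 D115189
theorem N61739 : nd 61739 = n115191 := ndS (p := 33024) (l := 7) rfl N33024 D115191
theorem N61740 : nd 61740 = n115195 := ndS (p := 33025) (l := 5) rfl N33025 D115195
theorem N61741 : nd 61741 = n115197 := ndS (p := 33026) (l := 6) rfl N33026 D115197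
theorem N61742 : nd 61742 = n115198 := ndS (p := 33027) (l := 5) rfl N33027 D115198
theorem N61743 : nd 61743 = n115200 := ndS (p := 33028) (l := 0) rfl N33028 D115200
theorem N61744 : nd 61744 = n115201 := ndS (p := 33028) (l := 2) rfl N33028 D115201
theorem N61745 : nd 61745 = n115203 := ndS (p := 33028) (l := 4) rfl N33028 D115203
theorem N61746 : nd 61746 = n115204 := ndS (p := 33028) (l := 5) rfl N33028 D115204
theorem N61747 : nd 61747 = n115206 := ndS (p := 33028) (l := 7) rfl N33028 D115206
theorem N61748 : nd 61748 = n115207 := ndS (p := 33029) (l := 3) rfl N33029 D115207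
theorem N61749 : nd 61749 = n115208 := ndS (p := 33029) (l := 4) rfl N33029 D115208
theorem N61750 : nd 61750 = n115209 := ndS (p := 33029) (l := 5) rfl N33029 D115209
theorem N61751 : nd 61751 = n115210 := ndS (p := 33029) (l := 6) rfl N33029 D115210
theorem N61752 : nd 61752 = n115213 := ndS (p := 33030) (l := 5) rfl N33030 D115213
theorem N61753 : nd 61753 = n115214 := ndS (p := 33031) (l := 0) rfl N33031 D115214
theorem N61754 : nd 61754 = n115215 := ndS (p := 33031) (l := 1) rfl N33031 D115215
theorem N61755 : nd 61755 = n115216 := ndS (p := 33031) (l := 4) rfl N33031 D115216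
theorem N61756 : nd 61756 = n115217 := ndS (p := 33031) (l := 6) rfl N33031 D115217
theorem N61757 : nd 61757 = n115218 := ndS (p := 33031) (l := 7) rfl N33031 D115218
theorem N61758 : nd 61758 = n115221 := ndS (p := 33033) (l := 6) rfl N33033 D115221
theorem N61759 : nd 61759 = n115224 := ndS (p := 33035) (l := 3) rfl N33035 D115224
theorem N61760 : nd 61760 = n115225 := ndS (p := 33035) (l := 6) rfl N33035 D115225
theorem N61761 : nd 61761 = n115226 := ndS (p := 33036) (l := 0) rfl N33036 D115226
theorem N61762 : nd 61762 = n115227 := ndS (p := 33036) (l := 1) rfl N33036 D115227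
theorem N61763 : nd 61763 = n115228 := ndS (p := 33036) (l := 7) rfl N33036 D115228
theorem N61764 : nd 61764 = n115229 := ndS (p := 33037) (l := 6) rfl N33037 D115229
theorem N61765 : nd 61765 = n115231 := ndS (p := 33038) (l := 0) rfl N33038 D115231
theorem N61766 : nd 61766 = n115232 := ndS (p := 33038) (l := 1) rfl N33038 D115232
theorem N61767 : nd 61767 = n115233 := ndS (p := 33038) (l := 2) rfl N33038 D115233
theorem N61768 : nd 61768 = n115234 := ndS (p := 33038) (l := 6) rfl N33038 D115234
theorem N61769 : nd 61769 = n115235 := ndS (p := 33039) (l := 0) rfl N33039 D115235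
theorem N61770 : nd 61770 = n115236 := ndS (p := 33039) (l := 5) rfl N33039 D115236
theorem N61771 : nd 61771 = n115237 := ndS (p := 33039) (l := 7) rfl N33039 D115237
theorem N61772 : nd 61772 = n115238 := ndS (p := 33040) (l := 4) rfl N33040 D115238
theorem N61773 : nd 61773 = n115239 := ndS (p := 33042) (l := 0) rfl N33042 D115239
theorem N61774 : nd 61774 = n115240 := ndS (p := 33042) (l := 1) rfl N33042 D115240
theorem N61775 : nd 61775 = n115241 := ndS (p := 33042) (l := 2) rfl N33042 D115241
theorem N61776 : nd 61776 = n115242 := ndS (p := 33042) (l := 5) rfl N33042 D115242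
theorem N61777 : nd 61777 = n115243 := ndS (p := 33042) (l := 6) rfl N33042 D115243
theorem N61778 : nd 61778 = n115244 := ndS (p := 33043) (l := 6) rfl N33043 D115244
theorem N61779 : nd 61779 = n115245 := ndS (p := 33044) (l := 0) rfl N33044 D115245
theorem N61780 : nd 61780 = n115246 := ndS (p := 33044) (l := 1) rfl N33044 D115246
theorem N61781 : nd 61781 = n115247 := ndS (p := 33044) (l := 5) rfl N33044 D115247
theorem N61782 : nd 61782 = n115248 := ndS (p := 33044) (l := 7) rfl N33044 D115248
theorem N61783 : nd 61783 = n115249 := ndS (p := 33045) (l := 4) rfl N33045 D115249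
theorem N61784 : nd 61784 = n115250 := ndS (p := 33047) (l := 0) rfl N33047 D115250
theorem N61785 : nd 61785 = n115251 := ndS (p := 33047) (l := 1) rfl N33047 D115251
theorem N61786 : nd 61786 = n115252 := ndS (p := 33047) (l := 2) rfl N33047 D115252
theorem N61787 : nd 61787 = n115253 := ndS (p := 33047) (l := 5) rfl N33047 D115253
theorem N61788 : nd 61788 = n115257 := ndS (p := 33049) (l := 7) rfl N33049 D115257
theorem N61789 : nd 61789 = n115258 := ndS (p := 33050) (l := 0) rfl N33050 D115258
theorem N61790 : nd 61790 = n115259 := ndS (p := 33050) (l := 1) rfl N33050 D115259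
theorem N61791 : nd 61791 = n115260 := ndS (p := 33050) (l := 2) rfl N33050 D115260
theorem N61792 : nd 61792 = n115262 := ndS (p := 33050) (l := 6) rfl N33050 D115262
theorem N61793 : nd 61793 = n115263 := ndS (p := 33051) (l := 6) rfl N33051 D115263
theorem N61794 : nd 61794 = n115264 := ndS (p := 33052) (l := 5) rfl N33052 D115264
theorem N61795 : nd 61795 = n115265 := ndS (p := 33052) (l := 7) rfl N33052 D115265
theorem N61796 : nd 61796 = n115266 := ndS (p := 33053) (l := 0) rfl N33053 D115266
theorem N61797 : nd 61797 = n115267 := ndS (p := 33053) (l := 2) rfl N33053 D115267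
theorem N61798 : nd 61798 = n115268 := ndS (p := 33053) (l := 3) rfl N33053 D115268
theorem N61799 : nd 61799 = n115269 := ndS (p := 33053) (l := 4) rfl N33053 D115269
theorem N61800 : nd 61800 = n115270 := ndS (p := 33053) (l := 5) rfl N33053 D115270
theorem N61801 : nd 61801 = n115271 := ndS (p := 33053) (l := 6) rfl N33053 D115271
theorem N61802 : nd 61802 = n115272 := ndS (p := 33053) (l := 7) rfl N33053 D115272
theorem N61803 : nd 61803 = n115273 := ndS (p := 33054) (l := 3) rfl N33054 D115273
theorem N61804 : nd 61804 = n115274 := ndS (p := 33054) (l := 4) rfl N33054 D115274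
theorem N61805 : nd 61805 = n115275 := ndS (p := 33054) (l := 5) rfl N33054 D115275
theorem N61806 : nd 61806 = n115276 := ndS (p := 33054) (l := 6) rfl N33054 D115276
theorem N61807 : nd 61807 = n115279 := ndS (p := 33055) (l := 5) rfl N33055 D115279
theorem N61808 : nd 61808 = n115280 := ndS (p := 33056) (l := 0) rfl N33056 D115280
theorem N61809 : nd 61809 = n115281 := ndS (p := 33056) (l := 1) rfl N33056 D115281
theorem N61810 : nd 61810 = n115282 := ndS (p := 33056) (l := 4) rfl N33056 D115282
theorem N61811 : nd 61811 = n115283 := ndS (p := 33056) (l := 6) rfl N33056 D115283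
theorem N61812 : nd 61812 = n115284 := ndS (p := 33057) (l := 6) rfl N33057 D115284
theorem N61813 : nd 61813 = n115285 := ndS (p := 33058) (l := 3) rfl N33058 D115285
theorem N61814 : nd 61814 = n115286 := ndS (p := 33058) (l := 6) rfl N33058 D115286
theorem N61815 : nd 61815 = n115287 := ndS (p := 33059) (l := 3) rfl N33059 D115287
theorem N61816 : nd 61816 = n115288 := ndS (p := 33059) (l := 6) rfl N33059 D115288
theorem N61817 : nd 61817 = n115289 := ndS (p := 33060) (l := 0) rfl N33060 D115289
theorem N61818 : nd 61818 = n115290 := ndS (p := 33060) (l := 1) rfl N33060 D115290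
theorem N61819 : nd 61819 = n115291 := ndS (p := 33060) (l := 7) rfl N33060 D115291
theorem N61820 : nd 61820 = n115292 := ndS (p := 33061) (l := 5) rfl N33061 D115292
theorem N61821 : nd 61821 = n115293 := ndS (p := 33062) (l := 0) rfl N33062 D115293
theorem N61822 : nd 61822 = n115294 := ndS (p := 33062) (l := 1) rfl N33062 D115294
theorem N61823 : nd 61823 = n115295 := ndS (p := 33062) (l := 2) rfl N33062 D115295
theorem N61824 : nd 61824 = n115296 := ndS (p := 33062) (l := 6) rfl N33062 D115296
theorem N61825 : nd 61825 = n115297 := ndS (p := 33063) (l := 5) rfl N33063 D115297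
theorem N61826 : nd 61826 = n115298 := ndS (p := 33065) (l := 6) rfl N33065 D115298
theorem N61827 : nd 61827 = n115299 := ndS (p := 33067) (l := 0) rfl N33067 D115299
theorem N61828 : nd 61828 = n115300 := ndS (p := 33067) (l := 1) rfl N33067 D115300
theorem N61829 : nd 61829 = n115301 := ndS (p := 33067) (l := 2) rfl N33067 D115301
theorem N61830 : nd 61830 = n115302 := ndS (p := 33067) (l := 5) rfl N33067 D115302
theorem N61831 : nd 61831 = n115303 := ndS (p := 33067) (l := 6) rfl N33067 D115303
theorem N61832 : nd 61832 = n115304 := ndS (p := 33068) (l := 6) rfl N33068 D115304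
theorem N61833 : nd 61833 = n115305 := ndS (p := 33069) (l := 0) rfl N33069 D115305
theorem N61834 : nd 61834 = n115306 := ndS (p := 33069) (l := 1) rfl N33069 D115306
theorem N61835 : nd 61835 = n115307 := ndS (p := 33069) (l := 5) rfl N33069 D115307
theorem N61836 : nd 61836 = n115308 := ndS (p := 33069) (l := 7) rfl N33069 D115308
theorem N61837 : nd 61837 = n115309 := ndS (p := 33070) (l := 4) rfl N33070 D115309
theorem N61838 : nd 61838 = n115310 := ndS (p := 33071) (l := 4) rfl N33071 D115310
theorem N61839 : nd 61839 = n115311 := ndS (p := 33073) (l := 0) rfl N33073 D115311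
theorem N61840 : nd 61840 = n115312 := ndS (p := 33073) (l := 1) rfl N33073 D115312
theorem N61841 : nd 61841 = n115313 := ndS (p := 33073) (l := 2) rfl N33073 D115313
theorem N61842 : nd 61842 = n115314 := ndS (p := 33073) (l := 5) rfl N33073 D115314
theorem N61843 : nd 61843 = n115315 := ndS (p := 33073) (l := 6) rfl N33073 D115315
theorem N61844 : nd 61844 = n115316 := ndS (p := 33074) (l := 6) rfl N33074 D115316
theorem N61845 : nd 61845 = n115317 := ndS (p := 33075) (l := 0) rfl N33075 D115317
theorem N61846 : nd 61846 = n115318 := ndS (p := 33075) (l := 1) rfl N33075 D115318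
theorem N61847 : nd 61847 = n115319 := ndS (p := 33075) (l := 5) rfl N33075 D115319
theorem N61848 : nd 61848 = n115320 := ndS (p := 33076) (l := 0) rfl N33076 D115320
theorem N61849 : nd 61849 = n115321 := ndS (p := 33076) (l := 1) rfl N33076 D115321
theorem N61850 : nd 61850 = n115322 := ndS (p := 33076) (l := 2) rfl N33076 D115322
theorem N61851 : nd 61851 = n115323 := ndS (p := 33076) (l := 5) rfl N33076 D115323
theorem N61852 : nd 61852 = n115324 := ndS (p := 33076) (l := 6) rfl N33076 D115324
theorem N61853 : nd 61853 = n115325 := ndS (p := 33077) (l := 6) rfl N33077 D115325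
theorem N61854 : nd 61854 = n115326 := ndS (p := 33078) (l := 5) rfl N33078 D115326
theorem N61855 : nd 61855 = n115327 := ndS (p := 33078) (l := 7) rfl N33078 D115327
theorem N61856 : nd 61856 = n115328 := ndS (p := 33079) (l := 0) rfl N33079 D115328
theorem N61857 : nd 61857 = n115329 := ndS (p := 33079) (l := 1) rfl N33079 D115329
theorem N61858 : nd 61858 = n115330 := ndS (p := 33079) (l := 2) rfl N33079 D115330
theorem N61859 : nd 61859 = n115331 := ndS (p := 33079) (l := 5) rfl N33079 D115331
theorem N61860 : nd 61860 = n115332 := ndS (p := 33079) (l := 6) rfl N33079 D115332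
theorem N61861 : nd 61861 = n115333 := ndS (p := 33080) (l := 6) rfl N33080 D115333
theorem N61862 : nd 61862 = n115334 := ndS (p := 33081) (l := 5) rfl N33081 D115334
theorem N61863 : nd 61863 = n115337 := ndS (p := 33082) (l := 3) rfl N33082 D115337
theorem N61864 : nd 61864 = n115338 := ndS (p := 33082) (l := 4) rfl N33082 D115338
theorem N61865 : nd 61865 = n115339 := ndS (p := 33082) (l := 5) rfl N33082 D115339
theorem N61866 : nd 61866 = n115340 := ndS (p := 33082) (l := 6) rfl N33082 D115340
theorem N61867 : nd 61867 = n115342 := ndS (p := 33083) (l := 3) rfl N33083 D115342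
theorem N61868 : nd 61868 = n115343 := ndS (p := 33083) (l := 4) rfl N33083 D115343
theorem N61869 : nd 61869 = n115344 := ndS (p := 33083) (l := 5) rfl N33083 D115344
theorem N61870 : nd 61870 = n115345 := ndS (p := 33083) (l := 6) rfl N33083 D115345
theorem N61871 : nd 61871 = n115346 := ndS (p := 33084) (l := 5) rfl N33084 D115346
theorem N61872 : nd 61872 = n115347 := ndS (p := 33084) (l := 6) rfl N33084 D115347
theorem N61873 : nd 61873 = n115348 := ndS (p := 33085) (l := 0) rfl N33085 D115348
theorem N61874 : nd 61874 = n115349 := ndS (p := 33085) (l := 1) rfl N33085 D115349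
theorem N61875 : nd 61875 = n115351 := ndS (p := 33085) (l := 6) rfl N33085 D115351
theorem N61876 : nd 61876 = n115352 := ndS (p := 33086) (l := 0) rfl N33086 D115352
theorem N61877 : nd 61877 = n115353 := ndS (p := 33086) (l := 1) rfl N33086 D115353
theorem N61878 : nd 61878 = n115354 := ndS (p := 33086) (l := 5) rfl N33086 D115354
theorem N61879 : nd 61879 = n115355 := ndS (p := 33086) (l := 7) rfl N33086 D115355
theorem N61880 : nd 61880 = n115356 := ndS (p := 33087) (l := 3) rfl N33087 D115356
theorem N61881 : nd 61881 = n115357 := ndS (p := 33087) (l := 6) rfl N33087 D115357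
theorem N61882 : nd 61882 = n115358 := ndS (p := 33088) (l := 3) rfl N33088 D115358
theorem N61883 : nd 61883 = n115359 := ndS (p := 33088) (l := 6) rfl N33088 D115359
theorem N61884 : nd 61884 = n115360 := ndS (p := 33089) (l := 0) rfl N33089 D115360
theorem N61885 : nd 61885 = n115361 := ndS (p := 33089) (l := 1) rfl N33089 D115361
theorem N61886 : nd 61886 = n115362 := ndS (p := 33089) (l := 5) rfl N33089 D115362
theorem N61887 : nd 61887 = n115363 := ndS (p := 33089) (l := 7) rfl N33089 D115363
theorem N61888 : nd 61888 = n115364 := ndS (p := 33090) (l := 3) rfl N33090 D115364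
theorem N61889 : nd 61889 = n115365 := ndS (p := 33090) (l := 5) rfl N33090 D115365
theorem N61890 : nd 61890 = n115366 := ndS (p := 33091) (l := 3) rfl N33091 D115366
theorem N61891 : nd 61891 = n115367 := ndS (p := 33091) (l := 5) rfl N33091 D115367
theorem N61892 : nd 61892 = n115368 := ndS (p := 33091) (l := 6) rfl N33091 D115368
theorem N61893 : nd 61893 = n115369 := ndS (p := 33092) (l := 0) rfl N33092 D115369
theorem N61894 : nd 61894 = n115370 := ndS (p := 33092) (l := 1) rfl N33092 D115370
theorem N61895 : nd 61895 = n115371 := ndS (p := 33092) (l := 4) rfl N33092 D115371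
theorem N61896 : nd 61896 = n115372 := ndS (p := 33092) (l := 7) rfl N33092 D115372
theorem N61897 : nd 61897 = n115373 := ndS (p := 33094) (l := 0) rfl N33094 D115373
theorem N61898 : nd 61898 = n115374 := ndS (p := 33094) (l := 3) rfl N33094 D115374
theorem N61899 : nd 61899 = n115375 := ndS (p := 33094) (l := 5) rfl N33094 D115375
theorem N61900 : nd 61900 = n115377 := ndS (p := 33095) (l := 5) rfl N33095 D115377
theorem N61901 : nd 61901 = n115378 := ndS (p := 33095) (l := 6) rfl N33095 D115378
theorem N61902 : nd 61902 = n115379 := ndS (p := 33097) (l := 4) rfl N33097 D115379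
theorem N61903 : nd 61903 = n115380 := ndS (p := 33097) (l := 6) rfl N33097 D115380
theorem N61904 : nd 61904 = n115381 := ndS (p := 33098) (l := 0) rfl N33098 D115381
theorem N61905 : nd 61905 = n115383 := ndS (p := 33098) (l := 3) rfl N33098 D115383
theorem N61906 : nd 61906 = n115384 := ndS (p := 33098) (l := 5) rfl N33098 D115384
theorem N61907 : nd 61907 = n115385 := ndS (p := 33098) (l := 7) rfl N33098 D115385
theorem N61908 : nd 61908 = n115386 := ndS (p := 33100) (l := 3) rfl N33100 D115386
theorem N61909 : nd 61909 = n115387 := ndS (p := 33100) (l := 6) rfl N33100 D115387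
theorem N61910 : nd 61910 = n115388 := ndS (p := 33101) (l := 0) rfl N33101 D115388
theorem N61911 : nd 61911 = n115389 := ndS (p := 33101) (l := 1) rfl N33101 D115389
theorem N61912 : nd 61912 = n115390 := ndS (p := 33101) (l := 2) rfl N33101 D115390
theorem N61913 : nd 61913 = n115391 := ndS (p := 33101) (l := 5) rfl N33101 D115391
theorem N61914 : nd 61914 = n115392 := ndS (p := 33102) (l := 6) rfl N33102 D115392
theorem N61915 : nd 61915 = n115394 := ndS (p := 33103) (l := 3) rfl N33103 D115394
theorem N61916 : nd 61916 = n115395 := ndS (p := 33103) (l := 4) rfl N33103 D115395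
theorem N61917 : nd 61917 = n115396 := ndS (p := 33103) (l := 5) rfl N33103 D115396
theorem N61918 : nd 61918 = n115397 := ndS (p := 33103) (l := 6) rfl N33103 D115397
theorem N61919 : nd 61919 = n115399 := ndS (p := 33104) (l := 3) rfl N33104 D115399
theorem N61920 : nd 61920 = n115400 := ndS (p := 33104) (l := 5) rfl N33104 D115400
theorem N61921 : nd 61921 = n115401 := ndS (p := 33104) (l := 6) rfl N33104 D115401
theorem N61922 : nd 61922 = n115402 := ndS (p := 33105) (l := 5) rfl N33105 D115402
theorem N61923 : nd 61923 = n115403 := ndS (p := 33105) (l := 6) rfl N33105 D115403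
theorem N61924 : nd 61924 = n115404 := ndS (p := 33106) (l := 0) rfl N33106 D115404
theorem N61925 : nd 61925 = n115405 := ndS (p := 33106) (l := 1) rfl N33106 D115405
theorem N61926 : nd 61926 = n115406 := ndS (p := 33106) (l := 4) rfl N33106 D115406
theorem N61927 : nd 61927 = n115407 := ndS (p := 33106) (l := 6) rfl N33106 D115407
theorem N61928 : nd 61928 = n115408 := ndS (p := 33107) (l := 0) rfl N33107 D115408
theorem N61929 : nd 61929 = n115409 := ndS (p := 33107) (l := 1) rfl N33107 D115409
theorem N61930 : nd 61930 = n115410 := ndS (p := 33107) (l := 5) rfl N33107 D115410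
theorem N61931 : nd 61931 = n115411 := ndS (p := 33107) (l := 7) rfl N33107 D115411
theorem N61932 : nd 61932 = n115412 := ndS (p := 33108) (l := 0) rfl N33108 D115412
theorem N61933 : nd 61933 = n115413 := ndS (p := 33108) (l := 1) rfl N33108 D115413
theorem N61934 : nd 61934 = n115414 := ndS (p := 33108) (l := 5) rfl N33108 D115414
theorem N61935 : nd 61935 = n115415 := ndS (p := 33108) (l := 7) rfl N33108 D115415
theorem N61936 : nd 61936 = n115416 := ndS (p := 33109) (l := 3) rfl N33109 D115416
theorem N61937 : nd 61937 = n115417 := ndS (p := 33109) (l := 5) rfl N33109 D115417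
theorem N61938 : nd 61938 = n115418 := ndS (p := 33109) (l := 6) rfl N33109 D115418
theorem N61939 : nd 61939 = n115419 := ndS (p := 33110) (l := 3) rfl N33110 D115419
theorem N61940 : nd 61940 = n115420 := ndS (p := 33110) (l := 5) rfl N33110 D115420
theorem N61941 : nd 61941 = n115421 := ndS (p := 33111) (l := 0) rfl N33111 D115421
theorem N61942 : nd 61942 = n115422 := ndS (p := 33111) (l := 1) rfl N33111 D115422
theorem N61943 : nd 61943 = n115423 := ndS (p := 33111) (l := 4) rfl N33111 D115423
theorem N61944 : nd 61944 = n115424 := ndS (p := 33111) (l := 7) rfl N33111 D115424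
theorem N61945 : nd 61945 = n115425 := ndS (p := 33113) (l := 0) rfl N33113 D115425
theorem N61946 : nd 61946 = n115428 := ndS (p := 33113) (l := 6) rfl N33113 D115428
theorem N61947 : nd 61947 = n115429 := ndS (p := 33115) (l := 3) rfl N33115 D115429
theorem N61948 : nd 61948 = n115430 := ndS (p := 33115) (l := 5) rfl N33115 D115430
theorem N61949 : nd 61949 = n115431 := ndS (p := 33116) (l := 0) rfl N33116 D115431
theorem N61950 : nd 61950 = n115432 := ndS (p := 33116) (l := 1) rfl N33116 D115432
theorem N61951 : nd 61951 = n115433 := ndS (p := 33116) (l := 2) rfl N33116 D115433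
theorem N61952 : nd 61952 = n115434 := ndS (p := 33116) (l := 6) rfl N33116 D115434
theorem N61953 : nd 61953 = n115435 := ndS (p := 33117) (l := 1) rfl N33117 D115435
theorem N61954 : nd 61954 = n115437 := ndS (p := 33117) (l := 7) rfl N33117 D115437
theorem N61955 : nd 61955 = n115438 := ndS (p := 33118) (l := 5) rfl N33118 D115438
theorem N61956 : nd 61956 = n115439 := ndS (p := 33119) (l := 5) rfl N33119 D115439
theorem N61957 : nd 61957 = n115440 := ndS (p := 33119) (l := 6) rfl N33119 D115440
theorem N61958 : nd 61958 = n115441 := ndS (p := 33122) (l := 0) rfl N33122 D115441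
theorem N61959 : nd 61959 = n115442 := ndS (p := 33122) (l := 1) rfl N33122 D115442
theorem N61960 : nd 61960 = n115443 := ndS (p := 33122) (l := 2) rfl N33122 D115443
theorem N61961 : nd 61961 = n115444 := ndS (p := 33122) (l := 6) rfl N33122 D115444
theorem N61962 : nd 61962 = n115445 := ndS (p := 33123) (l := 5) rfl N33123 D115445
theorem N61963 : nd 61963 = n115446 := ndS (p := 33124) (l := 0) rfl N33124 D115446
theorem N61964 : nd 61964 = n115447 := ndS (p := 33124) (l := 1) rfl N33124 D115447
theorem N61965 : nd 61965 = n115448 := ndS (p := 33124) (l := 2) rfl N33124 D115448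
theorem N61966 : nd 61966 = n115450 := ndS (p := 33125) (l := 3) rfl N33125 D115450
theorem N61967 : nd 61967 = n115451 := ndS (p := 33125) (l := 4) rfl N33125 D115451
theorem N61968 : nd 61968 = n115453 := ndS (p := 33125) (l := 6) rfl N33125 D115453
theorem N61969 : nd 61969 = n115455 := ndS (p := 33126) (l := 3) rfl N33126 D115455
theorem N61970 : nd 61970 = n115456 := ndS (p := 33126) (l := 4) rfl N33126 D115456
theorem N61971 : nd 61971 = n115459 := ndS (p := 33127) (l := 5) rfl N33127 D115459
theorem N61972 : nd 61972 = n115460 := ndS (p := 33127) (l := 6) rfl N33127 D115460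
theorem N61973 : nd 61973 = n115461 := ndS (p := 33128) (l := 0) rfl N33128 D115461
theorem N61974 : nd 61974 = n115462 := ndS (p := 33128) (l := 1) rfl N33128 D115462
theorem N61975 : nd 61975 = n115465 := ndS (p := 33129) (l := 0) rfl N33129 D115465
theorem N61976 : nd 61976 = n115466 := ndS (p := 33129) (l := 1) rfl N33129 D115466
theorem N61977 : nd 61977 = n115468 := ndS (p := 33129) (l := 7) rfl N33129 D115468
theorem N61978 : nd 61978 = n115470 := ndS (p := 33130) (l := 6) rfl N33130 D115470
theorem N61979 : nd 61979 = n115471 := ndS (p := 33131) (l := 3) rfl N33131 D115471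
theorem N61980 : nd 61980 = n115472 := ndS (p := 33131) (l := 6) rfl N33131 D115472
theorem N61981 : nd 61981 = n115474 := ndS (p := 33132) (l := 1) rfl N33132 D115474
theorem N61982 : nd 61982 = n115475 := ndS (p := 33132) (l := 5) rfl N33132 D115475
theorem N61983 : nd 61983 = n115476 := ndS (p := 33132) (l := 7) rfl N33132 D115476
theorem N61984 : nd 61984 = n115477 := ndS (p := 33133) (l := 3) rfl N33133 D115477
theorem N61985 : nd 61985 = n115478 := ndS (p := 33133) (l := 5) rfl N33133 D115478
theorem N61986 : nd 61986 = n115479 := ndS (p := 33134) (l := 3) rfl N33134 D115479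
theorem N61987 : nd 61987 = n115481 := ndS (p := 33134) (l := 5) rfl N33134 D115481
theorem N61988 : nd 61988 = n115482 := ndS (p := 33134) (l := 6) rfl N33134 D115482
theorem N61989 : nd 61989 = n115483 := ndS (p := 33135) (l := 0) rfl N33135 D115483
theorem N61990 : nd 61990 = n115484 := ndS (p := 33135) (l := 1) rfl N33135 D115484
theorem N61991 : nd 61991 = n115485 := ndS (p := 33135) (l := 4) rfl N33135 D115485
theorem N61992 : nd 61992 = n115486 := ndS (p := 33135) (l := 7) rfl N33135 D115486
theorem N61993 : nd 61993 = n115487 := ndS (p := 33137) (l := 3) rfl N33137 D115487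
theorem N61994 : nd 61994 = n115488 := ndS (p := 33137) (l := 5) rfl N33137 D115488
theorem N61995 : nd 61995 = n115489 := ndS (p := 33138) (l := 4) rfl N33138 D115489
theorem N61996 : nd 61996 = n115490 := ndS (p := 33139) (l := 3) rfl N33139 D115490
theorem N61997 : nd 61997 = n115491 := ndS (p := 33139) (l := 5) rfl N33139 D115491
theorem N61998 : nd 61998 = n115492 := ndS (p := 33139) (l := 6) rfl N33139 D115492
theorem N61999 : nd 61999 = n115493 := ndS (p := 33140) (l := 4) rfl N33140 D115493
theorem N62000 : nd 62000 = n115494 := ndS (p := 33142) (l := 1) rfl N33142 D115494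
theorem N62001 : nd 62001 = n115495 := ndS (p := 33142) (l := 3) rfl N33142 D115495
theorem N62002 : nd 62002 = n115496 := ndS (p := 33142) (l := 5) rfl N33142 D115496
theorem N62003 : nd 62003 = n115500 := ndS (p := 33144) (l := 3) rfl N33144 D115500
theorem N62004 : nd 62004 = n115501 := ndS (p := 33144) (l := 6) rfl N33144 D115501
theorem N62005 : nd 62005 = n115502 := ndS (p := 33145) (l := 5) rfl N33145 D115502
theorem N62006 : nd 62006 = n115503 := ndS (p := 33145) (l := 6) rfl N33145 D115503
theorem N62007 : nd 62007 = n115505 := ndS (p := 33146) (l := 1) rfl N33146 D115505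
theorem N62008 : nd 62008 = n115506 := ndS (p := 33146) (l := 4) rfl N33146 D115506
theorem N62009 : nd 62009 = n115507 := ndS (p := 33146) (l := 6) rfl N33146 D115507
theorem N62010 : nd 62010 = n115508 := ndS (p := 33147) (l := 0) rfl N33147 D115508
theorem N62011 : nd 62011 = n115509 := ndS (p := 33147) (l := 1) rfl N33147 D115509
theorem N62012 : nd 62012 = n115510 := ndS (p := 33147) (l := 5) rfl N33147 D115510
theorem N62013 : nd 62013 = n115511 := ndS (p := 33147) (l := 7) rfl N33147 D115511
theorem N62014 : nd 62014 = n115512 := ndS (p := 33148) (l := 0) rfl N33148 D115512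
theorem N62015 : nd 62015 = n115513 := ndS (p := 33148) (l := 1) rfl N33148 D115513
theorem N62016 : nd 62016 = n115514 := ndS (p := 33148) (l := 5) rfl N33148 D115514
theorem N62017 : nd 62017 = n115515 := ndS (p := 33148) (l := 7) rfl N33148 D115515
theorem N62018 : nd 62018 = n115517 := ndS (p := 33149) (l := 3) rfl N33149 D115517
theorem N62019 : nd 62019 = n115518 := ndS (p := 33149) (l := 5) rfl N33149 D115518
theorem N62020 : nd 62020 = n115519 := ndS (p := 33149) (l := 6) rfl N33149 D115519
theorem N62021 : nd 62021 = n115521 := ndS (p := 33150) (l := 3) rfl N33150 D115521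
theorem N62022 : nd 62022 = n115522 := ndS (p := 33150) (l := 5) rfl N33150 D115522
theorem N62023 : nd 62023 = n115524 := ndS (p := 33151) (l := 1) rfl N33151 D115524
theorem N62024 : nd 62024 = n115525 := ndS (p := 33151) (l := 4) rfl N33151 D115525
theorem N62025 : nd 62025 = n115526 := ndS (p := 33151) (l := 7) rfl N33151 D115526
theorem N62026 : nd 62026 = n115527 := ndS (p := 33153) (l := 3) rfl N33153 D115527
theorem N62027 : nd 62027 = n115528 := ndS (p := 33153) (l := 5) rfl N33153 D115528
theorem N62028 : nd 62028 = n115529 := ndS (p := 33153) (l := 6) rfl N33153 D115529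
theorem N62029 : nd 62029 = n115531 := ndS (p := 33155) (l := 5) rfl N33155 D115531
theorem N62030 : nd 62030 = n115539 := ndS (p := 33157) (l := 3) rfl N33157 D115539
theorem N62031 : nd 62031 = n115540 := ndS (p := 33157) (l := 4) rfl N33157 D115540
theorem N62032 : nd 62032 = n115542 := ndS (p := 33157) (l := 6) rfl N33157 D115542
theorem N62033 : nd 62033 = n115544 := ndS (p := 33158) (l := 3) rfl N33158 D115544
theorem N62034 : nd 62034 = n115545 := ndS (p := 33158) (l := 4) rfl N33158 D115545
theorem N62035 : nd 62035 = n115546 := ndS (p := 33158) (l := 5) rfl N33158 D115546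
theorem N62036 : nd 62036 = n115548 := ndS (p := 33159) (l := 4) rfl N33159 D115548
theorem N62037 : nd 62037 = n115551 := ndS (p := 33160) (l := 0) rfl N33160 D115551
theorem N62038 : nd 62038 = n115552 := ndS (p := 33160) (l := 1) rfl N33160 D115552
theorem N62039 : nd 62039 = n115553 := ndS (p := 33160) (l := 5) rfl N33160 D115553
theorem N62040 : nd 62040 = n115554 := ndS (p := 33160) (l := 6) rfl N33160 D115554
theorem N62041 : nd 62041 = n115559 := ndS (p := 33161) (l := 0) rfl N33161 D115559
theorem N62042 : nd 62042 = n115560 := ndS (p := 33161) (l := 1) rfl N33161 D115560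
theorem N62043 : nd 62043 = n115562 := ndS (p := 33161) (l := 7) rfl N33161 D115562
theorem N62044 : nd 62044 = n115563 := ndS (p := 33162) (l := 0) rfl N33162 D115563
theorem N62045 : nd 62045 = n115564 := ndS (p := 33162) (l := 7) rfl N33162 D115564
theorem N62046 : nd 62046 = n115565 := ndS (p := 33163) (l := 3) rfl N33163 D115565
theorem N62047 : nd 62047 = n115566 := ndS (p := 33163) (l := 6) rfl N33163 D115566
theorem N62048 : nd 62048 = n115577 := ndS (p := 33165) (l := 5) rfl N33165 D115577
theorem N62049 : nd 62049 = n115580 := ndS (p := 33166) (l := 3) rfl N33166 D115580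
theorem N62050 : nd 62050 = n115581 := ndS (p := 33166) (l := 4) rfl N33166 D115581
theorem N62051 : nd 62051 = n115582 := ndS (p := 33166) (l := 5) rfl N33166 D115582
theorem N62052 : nd 62052 = n115583 := ndS (p := 33166) (l := 6) rfl N33166 D115583
theorem N62053 : nd 62053 = n115584 := ndS (p := 33167) (l := 4) rfl N33167 D115584
theorem N62054 : nd 62054 = n115586 := ndS (p := 33167) (l := 6) rfl N33167 D115586
theorem N62055 : nd 62055 = n115587 := ndS (p := 33168) (l := 0) rfl N33168 D115587
theorem N62056 : nd 62056 = n115588 := ndS (p := 33168) (l := 1) rfl N33168 D115588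
theorem N62057 : nd 62057 = n115589 := ndS (p := 33168) (l := 5) rfl N33168 D115589
theorem N62058 : nd 62058 = n115593 := ndS (p := 33169) (l := 4) rfl N33169 D115593
theorem N62059 : nd 62059 = n115594 := ndS (p := 33169) (l := 6) rfl N33169 D115594
theorem N62060 : nd 62060 = n115595 := ndS (p := 33170) (l := 0) rfl N33170 D115595
theorem N62061 : nd 62061 = n115596 := ndS (p := 33170) (l := 1) rfl N33170 D115596
theorem N62062 : nd 62062 = n115597 := ndS (p := 33170) (l := 5) rfl N33170 D115597
theorem N62063 : nd 62063 = n115599 := ndS (p := 33171) (l := 0) rfl N33171 D115599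
theorem N62064 : nd 62064 = n115600 := ndS (p := 33171) (l := 1) rfl N33171 D115600
theorem N62065 : nd 62065 = n115601 := ndS (p := 33171) (l := 7) rfl N33171 D115601
theorem N62066 : nd 62066 = n115604 := ndS (p := 33172) (l := 5) rfl N33172 D115604
theorem N62067 : nd 62067 = n115606 := ndS (p := 33173) (l := 0) rfl N33173 D115606
theorem N62068 : nd 62068 = n115607 := ndS (p := 33173) (l := 1) rfl N33173 D115607
theorem N62069 : nd 62069 = n115609 := ndS (p := 33173) (l := 7) rfl N33173 D115609
theorem N62070 : nd 62070 = n115610 := ndS (p := 33175) (l := 5) rfl N33175 D115610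
theorem N62071 : nd 62071 = n115611 := ndS (p := 33175) (l := 6) rfl N33175 D115611
theorem N62072 : nd 62072 = n115612 := ndS (p := 33176) (l := 3) rfl N33176 D115612
theorem N62073 : nd 62073 = n115613 := ndS (p := 33176) (l := 5) rfl N33176 D115613
theorem N62074 : nd 62074 = n115614 := ndS (p := 33176) (l := 6) rfl N33176 D115614
theorem N62075 : nd 62075 = n115616 := ndS (p := 33177) (l := 1) rfl N33177 D115616
theorem N62076 : nd 62076 = n115617 := ndS (p := 33177) (l := 2) rfl N33177 D115617
theorem N62077 : nd 62077 = n115618 := ndS (p := 33177) (l := 4) rfl N33177 D115618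
theorem N62078 : nd 62078 = n115619 := ndS (p := 33177) (l := 5) rfl N33177 D115619
theorem N62079 : nd 62079 = n115621 := ndS (p := 33177) (l := 7) rfl N33177 D115621
theorem N62080 : nd 62080 = n115622 := ndS (p := 33178) (l := 0) rfl N33178 D115622
theorem N62081 : nd 62081 = n115623 := ndS (p := 33178) (l := 3) rfl N33178 D115623
theorem N62082 : nd 62082 = n115624 := ndS (p := 33178) (l := 5) rfl N33178 D115624
theorem N62083 : nd 62083 = n115625 := ndS (p := 33178) (l := 6) rfl N33178 D115625
theorem N62084 : nd 62084 = n115626 := ndS (p := 33178) (l := 7) rfl N33178 D115626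
theorem N62085 : nd 62085 = n115627 := ndS (p := 33179) (l := 0) rfl N33179 D115627
theorem N62086 : nd 62086 = n115629 := ndS (p := 33179) (l := 7) rfl N33179 D115629
theorem N62087 : nd 62087 = n115630 := ndS (p := 33180) (l := 0) rfl N33180 D115630
theorem N62088 : nd 62088 = n115633 := ndS (p := 33180) (l := 7) rfl N33180 D115633
theorem N62089 : nd 62089 = n115634 := ndS (p := 33181) (l := 6) rfl N33181 D115634
theorem N62090 : nd 62090 = n115635 := ndS (p := 33182) (l := 0) rfl N33182 D115635
theorem N62091 : nd 62091 = n115637 := ndS (p := 33182) (l := 2) rfl N33182 D115637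
theorem N62092 : nd 62092 = n115638 := ndS (p := 33182) (l := 4) rfl N33182 D115638
theorem N62093 : nd 62093 = n115640 := ndS (p := 33182) (l := 6) rfl N33182 D115640
theorem N62094 : nd 62094 = n115641 := ndS (p := 33183) (l := 5) rfl N33183 D115641
theorem N62095 : nd 62095 = n115642 := ndS (p := 33183) (l := 6) rfl N33183 D115642
theorem N62096 : nd 62096 = n115643 := ndS (p := 33184) (l := 4) rfl N33184 D115643
theorem N62097 : nd 62097 = n115644 := ndS (p := 33184) (l := 6) rfl N33184 D115644
theorem N62098 : nd 62098 = n115646 := ndS (p := 33185) (l := 1) rfl N33185 D115646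
theorem N62099 : nd 62099 = n115647 := ndS (p := 33185) (l := 5) rfl N33185 D115647
theorem N62100 : nd 62100 = n115648 := ndS (p := 33185) (l := 7) rfl N33185 D115648
theorem N62101 : nd 62101 = n115649 := ndS (p := 33186) (l := 0) rfl N33186 D115649
theorem N62102 : nd 62102 = n115650 := ndS (p := 33186) (l := 1) rfl N33186 D115650
theorem N62103 : nd 62103 = n115651 := ndS (p := 33186) (l := 4) rfl N33186 D115651
theorem N62104 : nd 62104 = n115652 := ndS (p := 33186) (l := 6) rfl N33186 D115652
theorem N62105 : nd 62105 = n115653 := ndS (p := 33187) (l := 3) rfl N33187 D115653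
theorem N62106 : nd 62106 = n115654 := ndS (p := 33187) (l := 6) rfl N33187 D115654
theorem N62107 : nd 62107 = n115655 := ndS (p := 33188) (l := 3) rfl N33188 D115655
theorem N62108 : nd 62108 = n115656 := ndS (p := 33188) (l := 4) rfl N33188 D115656
theorem N62109 : nd 62109 = n115657 := ndS (p := 33188) (l := 6) rfl N33188 D115657
theorem N62110 : nd 62110 = n115658 := ndS (p := 33189) (l := 0) rfl N33189 D115658
theorem N62111 : nd 62111 = n115659 := ndS (p := 33189) (l := 1) rfl N33189 D115659
theorem N62112 : nd 62112 = n115660 := ndS (p := 33189) (l := 3) rfl N33189 D115660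
theorem N62113 : nd 62113 = n115661 := ndS (p := 33189) (l := 5) rfl N33189 D115661
theorem N62114 : nd 62114 = n115662 := ndS (p := 33189) (l := 6) rfl N33189 D115662
theorem N62115 : nd 62115 = n115663 := ndS (p := 33189) (l := 7) rfl N33189 D115663
theorem N62116 : nd 62116 = n115664 := ndS (p := 33190) (l := 0) rfl N33190 D115664
theorem N62117 : nd 62117 = n115665 := ndS (p := 33190) (l := 1) rfl N33190 D115665
theorem N62118 : nd 62118 = n115666 := ndS (p := 33190) (l := 7) rfl N33190 D115666
theorem N62119 : nd 62119 = n115667 := ndS (p := 33191) (l := 6) rfl N33191 D115667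
theorem N62120 : nd 62120 = n115668 := ndS (p := 33192) (l := 0) rfl N33192 D115668
theorem N62121 : nd 62121 = n115669 := ndS (p := 33192) (l := 1) rfl N33192 D115669
theorem N62122 : nd 62122 = n115670 := ndS (p := 33192) (l := 5) rfl N33192 D115670
theorem N62123 : nd 62123 = n115673 := ndS (p := 33193) (l := 2) rfl N33193 D115673
theorem N62124 : nd 62124 = n115674 := ndS (p := 33193) (l := 4) rfl N33193 D115674
theorem N62125 : nd 62125 = n115676 := ndS (p := 33194) (l := 0) rfl N33194 D115676
theorem N62126 : nd 62126 = n115677 := ndS (p := 33194) (l := 1) rfl N33194 D115677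
theorem N62127 : nd 62127 = n115678 := ndS (p := 33194) (l := 5) rfl N33194 D115678
theorem N62128 : nd 62128 = n115679 := ndS (p := 33194) (l := 7) rfl N33194 D115679
theorem N62129 : nd 62129 = n115682 := ndS (p := 33195) (l := 2) rfl N33195 D115682
theorem N62130 : nd 62130 = n115683 := ndS (p := 33195) (l := 4) rfl N33195 D115683
theorem N62131 : nd 62131 = n115684 := ndS (p := 33195) (l := 6) rfl N33195 D115684
theorem N62132 : nd 62132 = n115685 := ndS (p := 33196) (l := 0) rfl N33196 D115685
theorem N62133 : nd 62133 = n115686 := ndS (p := 33196) (l := 1) rfl N33196 D115686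
theorem N62134 : nd 62134 = n115688 := ndS (p := 33196) (l := 7) rfl N33196 D115688
theorem N62135 : nd 62135 = n115689 := ndS (p := 33197) (l := 0) rfl N33197 D115689
theorem N62136 : nd 62136 = n115690 := ndS (p := 33197) (l := 1) rfl N33197 D115690
theorem N62137 : nd 62137 = n115691 := ndS (p := 33197) (l := 2) rfl N33197 D115691
theorem N62138 : nd 62138 = n115692 := ndS (p := 33197) (l := 6) rfl N33197 D115692
theorem N62139 : nd 62139 = n115694 := ndS (p := 33198) (l := 1) rfl N33198 D115694
theorem N62140 : nd 62140 = n115695 := ndS (p := 33198) (l := 5) rfl N33198 D115695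
theorem N62141 : nd 62141 = n115696 := ndS (p := 33198) (l := 7) rfl N33198 D115696
theorem N62142 : nd 62142 = n115699 := ndS (p := 33199) (l := 4) rfl N33199 D115699
theorem N62143 : nd 62143 = n115700 := ndS (p := 33199) (l := 5) rfl N33199 D115700
theorem N62144 : nd 62144 = n115701 := ndS (p := 33199) (l := 6) rfl N33199 D115701
theorem N62145 : nd 62145 = n115703 := ndS (p := 33200) (l := 3) rfl N33200 D115703
theorem N62146 : nd 62146 = n115704 := ndS (p := 33200) (l := 4) rfl N33200 D115704
theorem N62147 : nd 62147 = n115705 := ndS (p := 33200) (l := 5) rfl N33200 D115705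
theorem N62148 : nd 62148 = n115706 := ndS (p := 33200) (l := 6) rfl N33200 D115706
theorem N62149 : nd 62149 = n115707 := ndS (p := 33201) (l := 6) rfl N33201 D115707
theorem N62150 : nd 62150 = n115709 := ndS (p := 33202) (l := 1) rfl N33202 D115709
theorem N62151 : nd 62151 = n115710 := ndS (p := 33202) (l := 5) rfl N33202 D115710
theorem N62152 : nd 62152 = n115711 := ndS (p := 33203) (l := 3) rfl N33203 D115711
theorem N62153 : nd 62153 = n115712 := ndS (p := 33203) (l := 5) rfl N33203 D115712
theorem N62154 : nd 62154 = n115713 := ndS (p := 33203) (l := 6) rfl N33203 D115713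
theorem N62155 : nd 62155 = n115714 := ndS (p := 33204) (l := 3) rfl N33204 D115714
theorem N62156 : nd 62156 = n115716 := ndS (p := 33204) (l := 6) rfl N33204 D115716
theorem N62157 : nd 62157 = n115717 := ndS (p := 33205) (l := 0) rfl N33205 D115717
theorem N62158 : nd 62158 = n115718 := ndS (p := 33205) (l := 1) rfl N33205 D115718
theorem N62159 : nd 62159 = n115719 := ndS (p := 33205) (l := 4) rfl N33205 D115719
theorem N62160 : nd 62160 = n115720 := ndS (p := 33206) (l := 5) rfl N33206 D115720
theorem N62161 : nd 62161 = n115721 := ndS (p := 33206) (l := 6) rfl N33206 D115721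
theorem N62162 : nd 62162 = n115722 := ndS (p := 33207) (l := 3) rfl N33207 D115722
theorem N62163 : nd 62163 = n115723 := ndS (p := 33207) (l := 5) rfl N33207 D115723
theorem N62164 : nd 62164 = n115724 := ndS (p := 33207) (l := 6) rfl N33207 D115724
theorem N62165 : nd 62165 = n115725 := ndS (p := 33208) (l := 4) rfl N33208 D115725
theorem N62166 : nd 62166 = n115726 := ndS (p := 33210) (l := 3) rfl N33210 D115726
theorem N62167 : nd 62167 = n115727 := ndS (p := 33210) (l := 5) rfl N33210 D115727
theorem N62168 : nd 62168 = n115728 := ndS (p := 33211) (l := 4) rfl N33211 D115728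
theorem N62169 : nd 62169 = n115729 := ndS (p := 33212) (l := 0) rfl N33212 D115729
theorem N62170 : nd 62170 = n115730 := ndS (p := 33212) (l := 1) rfl N33212 D115730
theorem N62171 : nd 62171 = n115731 := ndS (p := 33212) (l := 2) rfl N33212 D115731
theorem N62172 : nd 62172 = n115732 := ndS (p := 33212) (l := 5) rfl N33212 D115732
theorem N62173 : nd 62173 = n115733 := ndS (p := 33212) (l := 6) rfl N33212 D115733
theorem N62174 : nd 62174 = n115735 := ndS (p := 33214) (l := 0) rfl N33214 D115735
theorem N62175 : nd 62175 = n115736 := ndS (p := 33214) (l := 1) rfl N33214 D115736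
theorem N62176 : nd 62176 = n115738 := ndS (p := 33214) (l := 7) rfl N33214 D115738
theorem N62177 : nd 62177 = n115739 := ndS (p := 33215) (l := 4) rfl N33215 D115739
theorem N62178 : nd 62178 = n115740 := ndS (p := 33217) (l := 0) rfl N33217 D115740
theorem N62179 : nd 62179 = n115741 := ndS (p := 33217) (l := 1) rfl N33217 D115741
theorem N62180 : nd 62180 = n115742 := ndS (p := 33217) (l := 2) rfl N33217 D115742
theorem N62181 : nd 62181 = n115743 := ndS (p := 33217) (l := 5) rfl N33217 D115743
theorem N62182 : nd 62182 = n115744 := ndS (p := 33217) (l := 6) rfl N33217 D115744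
theorem N62183 : nd 62183 = n115746 := ndS (p := 33219) (l := 1) rfl N33219 D115746
theorem N62184 : nd 62184 = n115748 := ndS (p := 33220) (l := 0) rfl N33220 D115748
theorem N62185 : nd 62185 = n115749 := ndS (p := 33220) (l := 1) rfl N33220 D115749
theorem N62186 : nd 62186 = n115750 := ndS (p := 33220) (l := 2) rfl N33220 D115750
theorem N62187 : nd 62187 = n115751 := ndS (p := 33220) (l := 6) rfl N33220 D115751
theorem N62188 : nd 62188 = n115754 := ndS (p := 33222) (l := 0) rfl N33222 D115754
theorem N62189 : nd 62189 = n115755 := ndS (p := 33222) (l := 1) rfl N33222 D115755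
theorem N62190 : nd 62190 = n115756 := ndS (p := 33222) (l := 2) rfl N33222 D115756
theorem N62191 : nd 62191 = n115757 := ndS (p := 33222) (l := 6) rfl N33222 D115757
theorem N62192 : nd 62192 = n115760 := ndS (p := 33224) (l := 3) rfl N33224 D115760
theorem N62193 : nd 62193 = n115761 := ndS (p := 33224) (l := 4) rfl N33224 D115761
theorem N62194 : nd 62194 = n115763 := ndS (p := 33224) (l := 6) rfl N33224 D115763
theorem N62195 : nd 62195 = n115765 := ndS (p := 33225) (l := 3) rfl N33225 D115765
theorem N62196 : nd 62196 = n115767 := ndS (p := 33225) (l := 6) rfl N33225 D115767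
theorem N62197 : nd 62197 = n115768 := ndS (p := 33226) (l := 5) rfl N33226 D115768
theorem N62198 : nd 62198 = n115770 := ndS (p := 33227) (l := 0) rfl N33227 D115770
theorem N62199 : nd 62199 = n115771 := ndS (p := 33227) (l := 1) rfl N33227 D115771
theorem N62200 : nd 62200 = n115772 := ndS (p := 33227) (l := 4) rfl N33227 D115772
theorem N62201 : nd 62201 = n115773 := ndS (p := 33227) (l := 6) rfl N33227 D115773
theorem N62202 : nd 62202 = n115784 := ndS (p := 33230) (l := 5) rfl N33230 D115784
theorem N62203 : nd 62203 = n115786 := ndS (p := 33231) (l := 3) rfl N33231 D115786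
theorem N62204 : nd 62204 = n115788 := ndS (p := 33232) (l := 3) rfl N33232 D115788
theorem N62205 : nd 62205 = n115790 := ndS (p := 33232) (l := 6) rfl N33232 D115790
theorem N62206 : nd 62206 = n115791 := ndS (p := 33233) (l := 0) rfl N33233 D115791
theorem N62207 : nd 62207 = n115792 := ndS (p := 33233) (l := 1) rfl N33233 D115792
theorem N62208 : nd 62208 = n115794 := ndS (p := 33233) (l := 7) rfl N33233 D115794
theorem N62209 : nd 62209 = n115795 := ndS (p := 33235) (l := 3) rfl N33235 D115795
theorem N62210 : nd 62210 = n115796 := ndS (p := 33235) (l := 5) rfl N33235 D115796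
theorem N62211 : nd 62211 = n115797 := ndS (p := 33236) (l := 3) rfl N33236 D115797
theorem N62212 : nd 62212 = n115798 := ndS (p := 33236) (l := 5) rfl N33236 D115798
theorem N62213 : nd 62213 = n115799 := ndS (p := 33236) (l := 6) rfl N33236 D115799
theorem N62214 : nd 62214 = n115801 := ndS (p := 33238) (l := 4) rfl N33238 D115801
theorem N62215 : nd 62215 = n115803 := ndS (p := 33239) (l := 3) rfl N33239 D115803
theorem N62216 : nd 62216 = n115804 := ndS (p := 33239) (l := 4) rfl N33239 D115804
theorem N62217 : nd 62217 = n115805 := ndS (p := 33239) (l := 6) rfl N33239 D115805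
theorem N62218 : nd 62218 = n115806 := ndS (p := 33240) (l := 6) rfl N33240 D115806
theorem N62219 : nd 62219 = n115807 := ndS (p := 33241) (l := 0) rfl N33241 D115807
theorem N62220 : nd 62220 = n115808 := ndS (p := 33241) (l := 1) rfl N33241 D115808
theorem N62221 : nd 62221 = n115809 := ndS (p := 33241) (l := 5) rfl N33241 D115809
theorem N62222 : nd 62222 = n115819 := ndS (p := 33243) (l := 1) rfl N33243 D115819
theorem N62223 : nd 62223 = n115822 := ndS (p := 33243) (l := 6) rfl N33243 D115822
theorem N62224 : nd 62224 = n115824 := ndS (p := 33244) (l := 0) rfl N33244 D115824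
theorem N62225 : nd 62225 = n115825 := ndS (p := 33244) (l := 1) rfl N33244 D115825
theorem N62226 : nd 62226 = n115826 := ndS (p := 33244) (l := 3) rfl N33244 D115826
theorem N62227 : nd 62227 = n115827 := ndS (p := 33244) (l := 5) rfl N33244 D115827
theorem N62228 : nd 62228 = n115828 := ndS (p := 33244) (l := 6) rfl N33244 D115828
theorem N62229 : nd 62229 = n115835 := ndS (p := 33245) (l := 0) rfl N33245 D115835
theorem N62230 : nd 62230 = n115837 := ndS (p := 33245) (l := 5) rfl N33245 D115837
theorem N62231 : nd 62231 = n115838 := ndS (p := 33245) (l := 7) rfl N33245 D115838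
theorem N62232 : nd 62232 = n115840 := ndS (p := 33246) (l := 0) rfl N33246 D115840
theorem N62233 : nd 62233 = n115841 := ndS (p := 33246) (l := 2) rfl N33246 D115841
theorem N62234 : nd 62234 = n115842 := ndS (p := 33246) (l := 4) rfl N33246 D115842
theorem N62235 : nd 62235 = n115843 := ndS (p := 33246) (l := 6) rfl N33246 D115843
theorem N62236 : nd 62236 = n115844 := ndS (p := 33247) (l := 5) rfl N33247 D115844
theorem N62237 : nd 62237 = n115845 := ndS (p := 33247) (l := 6) rfl N33247 D115845
theorem N62238 : nd 62238 = n115857 := ndS (p := 33250) (l := 3) rfl N33250 D115857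
theorem N62239 : nd 62239 = n115858 := ndS (p := 33250) (l := 4) rfl N33250 D115858
theorem N62240 : nd 62240 = n115860 := ndS (p := 33250) (l := 6) rfl N33250 D115860
theorem N62241 : nd 62241 = n115862 := ndS (p := 33251) (l := 3) rfl N33251 D115862
theorem N62242 : nd 62242 = n115863 := ndS (p := 33251) (l := 4) rfl N33251 D115863
theorem N62243 : nd 62243 = n115865 := ndS (p := 33251) (l := 6) rfl N33251 D115865
theorem N62244 : nd 62244 = n115866 := ndS (p := 33252) (l := 0) rfl N33252 D115866
theorem N62245 : nd 62245 = n115868 := ndS (p := 33252) (l := 5) rfl N33252 D115868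
theorem N62246 : nd 62246 = n115902 := ndS (p := 33253) (l := 0) rfl N33253 D115902
theorem N62247 : nd 62247 = n115904 := ndS (p := 33253) (l := 5) rfl N33253 D115904
theorem N62248 : nd 62248 = n115918 := ndS (p := 33255) (l := 0) rfl N33255 D115918
theorem N62249 : nd 62249 = n115919 := ndS (p := 33255) (l := 1) rfl N33255 D115919
theorem N62250 : nd 62250 = n115920 := ndS (p := 33255) (l := 2) rfl N33255 D115920
theorem N62251 : nd 62251 = n115921 := ndS (p := 33255) (l := 5) rfl N33255 D115921
theorem N62252 : nd 62252 = n115922 := ndS (p := 33255) (l := 6) rfl N33255 D115922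
theorem N62253 : nd 62253 = n115923 := ndS (p := 33256) (l := 6) rfl N33256 D115923
theorem N62254 : nd 62254 = n115924 := ndS (p := 33257) (l := 5) rfl N33257 D115924
theorem N62255 : nd 62255 = n115925 := ndS (p := 33258) (l := 0) rfl N33258 D115925
theorem N62256 : nd 62256 = n115926 := ndS (p := 33258) (l := 1) rfl N33258 D115926
theorem N62257 : nd 62257 = n115927 := ndS (p := 33258) (l := 2) rfl N33258 D115927
theorem N62258 : nd 62258 = n115928 := ndS (p := 33258) (l := 5) rfl N33258 D115928
theorem N62259 : nd 62259 = n115929 := ndS (p := 33258) (l := 6) rfl N33258 D115929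
theorem N62260 : nd 62260 = n115930 := ndS (p := 33259) (l := 6) rfl N33259 D115930
theorem N62261 : nd 62261 = n115931 := ndS (p := 33260) (l := 1) rfl N33260 D115931
theorem N62262 : nd 62262 = n115932 := ndS (p := 33260) (l := 5) rfl N33260 D115932
theorem N62263 : nd 62263 = n115933 := ndS (p := 33261) (l := 0) rfl N33261 D115933
theorem N62264 : nd 62264 = n115934 := ndS (p := 33261) (l := 1) rfl N33261 D115934
theorem N62265 : nd 62265 = n115935 := ndS (p := 33261) (l := 2) rfl N33261 D115935
theorem N62266 : nd 62266 = n115936 := ndS (p := 33261) (l := 6) rfl N33261 D115936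
theorem N62267 : nd 62267 = n115937 := ndS (p := 33262) (l := 5) rfl N33262 D115937
theorem N62268 : nd 62268 = n115938 := ndS (p := 33263) (l := 0) rfl N33263 D115938
theorem N62269 : nd 62269 = n115939 := ndS (p := 33263) (l := 1) rfl N33263 D115939
theorem N62270 : nd 62270 = n115940 := ndS (p := 33263) (l := 2) rfl N33263 D115940
theorem N62271 : nd 62271 = n115941 := ndS (p := 33263) (l := 6) rfl N33263 D115941
theorem N62272 : nd 62272 = n115942 := ndS (p := 33264) (l := 5) rfl N33264 D115942
theorem N62273 : nd 62273 = n115943 := ndS (p := 33264) (l := 7) rfl N33264 D115943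
theorem N62274 : nd 62274 = n115945 := ndS (p := 33265) (l := 3) rfl N33265 D115945
theorem N62275 : nd 62275 = n115946 := ndS (p := 33265) (l := 4) rfl N33265 D115946
theorem N62276 : nd 62276 = n115948 := ndS (p := 33265) (l := 6) rfl N33265 D115948
theorem N62277 : nd 62277 = n115950 := ndS (p := 33266) (l := 3) rfl N33266 D115950
theorem N62278 : nd 62278 = n115952 := ndS (p := 33266) (l := 6) rfl N33266 D115952
theorem N62279 : nd 62279 = n115953 := ndS (p := 33267) (l := 5) rfl N33267 D115953
theorem N62280 : nd 62280 = n115954 := ndS (p := 33267) (l := 6) rfl N33267 D115954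
theorem N62281 : nd 62281 = n115955 := ndS (p := 33268) (l := 0) rfl N33268 D115955
theorem N62282 : nd 62282 = n115956 := ndS (p := 33268) (l := 1) rfl N33268 D115956
theorem N62283 : nd 62283 = n115957 := ndS (p := 33268) (l := 4) rfl N33268 D115957
theorem N62284 : nd 62284 = n115958 := ndS (p := 33268) (l := 6) rfl N33268 D115958
theorem N62285 : nd 62285 = n115959 := ndS (p := 33269) (l := 0) rfl N33269 D115959
theorem N62286 : nd 62286 = n115960 := ndS (p := 33269) (l := 1) rfl N33269 D115960
theorem N62287 : nd 62287 = n115967 := ndS (p := 33271) (l := 3) rfl N33271 D115967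
theorem N62288 : nd 62288 = n115969 := ndS (p := 33271) (l := 6) rfl N33271 D115969
theorem N62289 : nd 62289 = n115970 := ndS (p := 33272) (l := 3) rfl N33272 D115970
theorem N62290 : nd 62290 = n115977 := ndS (p := 33273) (l := 3) rfl N33273 D115977
theorem N62291 : nd 62291 = n115979 := ndS (p := 33273) (l := 6) rfl N33273 D115979
theorem N62292 : nd 62292 = n115989 := ndS (p := 33275) (l := 1) rfl N33275 D115989
theorem N62293 : nd 62293 = n115992 := ndS (p := 33275) (l := 6) rfl N33275 D115992
theorem N62294 : nd 62294 = n115994 := ndS (p := 33276) (l := 0) rfl N33276 D115994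
theorem N62295 : nd 62295 = n115995 := ndS (p := 33276) (l := 1) rfl N33276 D115995
theorem N62296 : nd 62296 = n115996 := ndS (p := 33276) (l := 3) rfl N33276 D115996
theorem N62297 : nd 62297 = n115997 := ndS (p := 33276) (l := 5) rfl N33276 D115997
theorem N62298 : nd 62298 = n115998 := ndS (p := 33276) (l := 6) rfl N33276 D115998
theorem N62299 : nd 62299 = n116007 := ndS (p := 33277) (l := 5) rfl N33277 D116007
theorem N62300 : nd 62300 = n116010 := ndS (p := 33278) (l := 0) rfl N33278 D116010
theorem N62301 : nd 62301 = n116011 := ndS (p := 33278) (l := 2) rfl N33278 D116011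
theorem N62302 : nd 62302 = n116012 := ndS (p := 33278) (l := 4) rfl N33278 D116012
theorem N62303 : nd 62303 = n116014 := ndS (p := 33278) (l := 6) rfl N33278 D116014
theorem N62304 : nd 62304 = n116015 := ndS (p := 33279) (l := 3) rfl N33279 D116015
theorem N62305 : nd 62305 = n116016 := ndS (p := 33279) (l := 5) rfl N33279 D116016
theorem N62306 : nd 62306 = n116017 := ndS (p := 33279) (l := 6) rfl N33279 D116017
theorem N62307 : nd 62307 = n116021 := ndS (p := 33280) (l := 1) rfl N33280 D116021
theorem N62308 : nd 62308 = n116022 := ndS (p := 33280) (l := 5) rfl N33280 D116022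
theorem N62309 : nd 62309 = n116023 := ndS (p := 33280) (l := 7) rfl N33280 D116023
theorem N62310 : nd 62310 = n116024 := ndS (p := 33281) (l := 4) rfl N33281 D116024
theorem N62311 : nd 62311 = n116025 := ndS (p := 33281) (l := 6) rfl N33281 D116025
theorem N62312 : nd 62312 = n116028 := ndS (p := 33282) (l := 5) rfl N33282 D116028
theorem N62313 : nd 62313 = n116032 := ndS (p := 33283) (l := 4) rfl N33283 D116032
theorem N62314 : nd 62314 = n116034 := ndS (p := 33283) (l := 6) rfl N33283 D116034
theorem N62315 : nd 62315 = n116036 := ndS (p := 33284) (l := 3) rfl N33284 D116036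
theorem N62316 : nd 62316 = n116037 := ndS (p := 33284) (l := 4) rfl N33284 D116037
theorem N62317 : nd 62317 = n116039 := ndS (p := 33284) (l := 6) rfl N33284 D116039
theorem N62318 : nd 62318 = n116040 := ndS (p := 33285) (l := 0) rfl N33285 D116040
theorem N62319 : nd 62319 = n116041 := ndS (p := 33285) (l := 1) rfl N33285 D116041
theorem N62320 : nd 62320 = n116042 := ndS (p := 33285) (l := 5) rfl N33285 D116042
theorem N62321 : nd 62321 = n116045 := ndS (p := 33286) (l := 1) rfl N33286 D116045
theorem N62322 : nd 62322 = n116049 := ndS (p := 33287) (l := 3) rfl N33287 D116049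
theorem N62323 : nd 62323 = n116050 := ndS (p := 33287) (l := 4) rfl N33287 D116050
theorem N62324 : nd 62324 = n116051 := ndS (p := 33287) (l := 5) rfl N33287 D116051
theorem N62325 : nd 62325 = n116054 := ndS (p := 33288) (l := 3) rfl N33288 D116054
theorem N62326 : nd 62326 = n116055 := ndS (p := 33288) (l := 4) rfl N33288 D116055
theorem N62327 : nd 62327 = n116056 := ndS (p := 33288) (l := 5) rfl N33288 D116056
theorem N62328 : nd 62328 = n116058 := ndS (p := 33289) (l := 0) rfl N33289 D116058
theorem N62329 : nd 62329 = n116060 := ndS (p := 33289) (l := 4) rfl N33289 D116060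
theorem N62330 : nd 62330 = n116077 := ndS (p := 33290) (l := 2) rfl N33290 D116077
theorem N62331 : nd 62331 = n116078 := ndS (p := 33290) (l := 5) rfl N33290 D116078
theorem N62332 : nd 62332 = n116079 := ndS (p := 33290) (l := 6) rfl N33290 D116079
theorem N62333 : nd 62333 = n116081 := ndS (p := 33293) (l := 1) rfl N33293 D116081
theorem N62334 : nd 62334 = n116082 := ndS (p := 33293) (l := 2) rfl N33293 D116082
theorem N62335 : nd 62335 = n116083 := ndS (p := 33293) (l := 6) rfl N33293 D116083
theorem N62336 : nd 62336 = n116084 := ndS (p := 33294) (l := 5) rfl N33294 D116084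
theorem N62337 : nd 62337 = n116085 := ndS (p := 33295) (l := 0) rfl N33295 D116085
theorem N62338 : nd 62338 = n116086 := ndS (p := 33295) (l := 1) rfl N33295 D116086
theorem N62339 : nd 62339 = n116087 := ndS (p := 33295) (l := 2) rfl N33295 D116087
theorem N62340 : nd 62340 = n116088 := ndS (p := 33296) (l := 3) rfl N33296 D116088
theorem N62341 : nd 62341 = n116089 := ndS (p := 33296) (l := 4) rfl N33296 D116089
theorem N62342 : nd 62342 = n116090 := ndS (p := 33296) (l := 6) rfl N33296 D116090
theorem N62343 : nd 62343 = n116092 := ndS (p := 33298) (l := 5) rfl N33298 D116092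
theorem N62344 : nd 62344 = n116093 := ndS (p := 33298) (l := 6) rfl N33298 D116093
theorem N62345 : nd 62345 = n116099 := ndS (p := 33300) (l := 1) rfl N33300 D116099
theorem N62346 : nd 62346 = n116100 := ndS (p := 33300) (l := 5) rfl N33300 D116100
theorem N62347 : nd 62347 = n116101 := ndS (p := 33300) (l := 7) rfl N33300 D116101
theorem N62348 : nd 62348 = n116102 := ndS (p := 33301) (l := 0) rfl N33301 D116102
theorem N62349 : nd 62349 = n116103 := ndS (p := 33301) (l := 1) rfl N33301 D116103
theorem N62350 : nd 62350 = n116104 := ndS (p := 33301) (l := 5) rfl N33301 D116104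
theorem N62351 : nd 62351 = n116106 := ndS (p := 33302) (l := 3) rfl N33302 D116106
theorem N62352 : nd 62352 = n116107 := ndS (p := 33302) (l := 4) rfl N33302 D116107
theorem N62353 : nd 62353 = n116108 := ndS (p := 33302) (l := 5) rfl N33302 D116108
theorem N62354 : nd 62354 = n116109 := ndS (p := 33303) (l := 3) rfl N33303 D116109
theorem N62355 : nd 62355 = n116110 := ndS (p := 33303) (l := 5) rfl N33303 D116110
theorem N62356 : nd 62356 = n116111 := ndS (p := 33303) (l := 6) rfl N33303 D116111
theorem N62357 : nd 62357 = n116112 := ndS (p := 33304) (l := 0) rfl N33304 D116112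
theorem N62358 : nd 62358 = n116114 := ndS (p := 33304) (l := 4) rfl N33304 D116114
theorem N62359 : nd 62359 = n116115 := ndS (p := 33304) (l := 7) rfl N33304 D116115
theorem N62360 : nd 62360 = n116116 := ndS (p := 33306) (l := 3) rfl N33306 D116116
theorem N62361 : nd 62361 = n116117 := ndS (p := 33306) (l := 5) rfl N33306 D116117
theorem N62362 : nd 62362 = n116118 := ndS (p := 33307) (l := 4) rfl N33307 D116118
theorem N62363 : nd 62363 = n116119 := ndS (p := 33308) (l := 4) rfl N33308 D116119
theorem N62364 : nd 62364 = n116120 := ndS (p := 33308) (l := 5) rfl N33308 D116120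
theorem N62365 : nd 62365 = n116121 := ndS (p := 33308) (l := 6) rfl N33308 D116121
theorem N62366 : nd 62366 = n116122 := ndS (p := 33309) (l := 3) rfl N33309 D116122
theorem N62367 : nd 62367 = n116123 := ndS (p := 33309) (l := 5) rfl N33309 D116123
theorem N62368 : nd 62368 = n116125 := ndS (p := 33310) (l := 4) rfl N33310 D116125
theorem N62369 : nd 62369 = n116129 := ndS (p := 33313) (l := 6) rfl N33313 D116129
theorem N62370 : nd 62370 = n116130 := ndS (p := 33314) (l := 1) rfl N33314 D116130
theorem N62371 : nd 62371 = n116131 := ndS (p := 33314) (l := 3) rfl N33314 D116131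
theorem N62372 : nd 62372 = n116132 := ndS (p := 33314) (l := 5) rfl N33314 D116132
theorem N62373 : nd 62373 = n116133 := ndS (p := 33314) (l := 6) rfl N33314 D116133
theorem N62374 : nd 62374 = n116136 := ndS (p := 33315) (l := 5) rfl N33315 D116136
theorem N62375 : nd 62375 = n116139 := ndS (p := 33317) (l := 5) rfl N33317 D116139
theorem N62376 : nd 62376 = n116145 := ndS (p := 33318) (l := 4) rfl N33318 D116145
theorem N62377 : nd 62377 = n116146 := ndS (p := 33318) (l := 6) rfl N33318 D116146
theorem N62378 : nd 62378 = n116147 := ndS (p := 33319) (l := 0) rfl N33319 D116147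
theorem N62379 : nd 62379 = n116149 := ndS (p := 33319) (l := 5) rfl N33319 D116149
theorem N62380 : nd 62380 = n116150 := ndS (p := 33319) (l := 7) rfl N33319 D116150
theorem N62381 : nd 62381 = n116161 := ndS (p := 33320) (l := 0) rfl N33320 D116161
theorem N62382 : nd 62382 = n116162 := ndS (p := 33320) (l := 1) rfl N33320 D116162
theorem N62383 : nd 62383 = n116163 := ndS (p := 33320) (l := 5) rfl N33320 D116163
theorem N62384 : nd 62384 = n116164 := ndS (p := 33320) (l := 6) rfl N33320 D116164
theorem N62385 : nd 62385 = n116170 := ndS (p := 33322) (l := 3) rfl N33322 D116170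
theorem N62386 : nd 62386 = n116171 := ndS (p := 33322) (l := 4) rfl N33322 D116171
theorem N62387 : nd 62387 = n116175 := ndS (p := 33323) (l := 3) rfl N33323 D116175
theorem N62388 : nd 62388 = n116176 := ndS (p := 33323) (l := 4) rfl N33323 D116176
theorem N62389 : nd 62389 = n116179 := ndS (p := 33324) (l := 0) rfl N33324 D116179
theorem N62390 : nd 62390 = n116181 := ndS (p := 33324) (l := 4) rfl N33324 D116181
theorem N62391 : nd 62391 = n116182 := ndS (p := 33324) (l := 7) rfl N33324 D116182
theorem N62392 : nd 62392 = n116197 := ndS (p := 33326) (l := 1) rfl N33326 D116197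
theorem N62393 : nd 62393 = n116199 := ndS (p := 33326) (l := 4) rfl N33326 D116199
theorem N62394 : nd 62394 = n116201 := ndS (p := 33326) (l := 6) rfl N33326 D116201
theorem N62395 : nd 62395 = n116206 := ndS (p := 33329) (l := 3) rfl N33329 D116206
theorem N62396 : nd 62396 = n116229 := ndS (p := 33335) (l := 2) rfl N33335 D116229
theorem N62397 : nd 62397 = n116231 := ndS (p := 33335) (l := 6) rfl N33335 D116231
theorem N62398 : nd 62398 = n116234 := ndS (p := 33337) (l := 3) rfl N33337 D116234
theorem N62399 : nd 62399 = n116244 := ndS (p := 33339) (l := 4) rfl N33339 D116244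
theorem N62400 : nd 62400 = n116245 := ndS (p := 33340) (l := 4) rfl N33340 D116245
theorem N62401 : nd 62401 = n116246 := ndS (p := 33342) (l := 3) rfl N33342 D116246
theorem N62402 : nd 62402 = n116249 := ndS (p := 33343) (l := 3) rfl N33343 D116249
theorem N62403 : nd 62403 = n116251 := ndS (p := 33343) (l := 6) rfl N33343 D116251
theorem N62404 : nd 62404 = n116252 := ndS (p := 33344) (l := 5) rfl N33344 D116252
theorem N62405 : nd 62405 = n116253 := ndS (p := 33344) (l := 6) rfl N33344 D116253
theorem N62406 : nd 62406 = n116256 := ndS (p := 33345) (l := 4) rfl N33345 D116256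
theorem N62407 : nd 62407 = n116257 := ndS (p := 33345) (l := 6) rfl N33345 D116257
theorem N62408 : nd 62408 = n116258 := ndS (p := 33346) (l := 0) rfl N33346 D116258
theorem N62409 : nd 62409 = n116259 := ndS (p := 33346) (l := 1) rfl N33346 D116259
theorem N62410 : nd 62410 = n116260 := ndS (p := 33346) (l := 5) rfl N33346 D116260
theorem N62411 : nd 62411 = n116262 := ndS (p := 33347) (l := 0) rfl N33347 D116262
theorem N62412 : nd 62412 = n116263 := ndS (p := 33347) (l := 1) rfl N33347 D116263
theorem N62413 : nd 62413 = n116266 := ndS (p := 33348) (l := 3) rfl N33348 D116266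
theorem N62414 : nd 62414 = n116267 := ndS (p := 33348) (l := 5) rfl N33348 D116267
theorem N62415 : nd 62415 = n116269 := ndS (p := 33349) (l := 3) rfl N33349 D116269
theorem N62416 : nd 62416 = n116270 := ndS (p := 33349) (l := 5) rfl N33349 D116270
theorem N62417 : nd 62417 = n116271 := ndS (p := 33350) (l := 0) rfl N33350 D116271
theorem N62418 : nd 62418 = n116272 := ndS (p := 33350) (l := 1) rfl N33350 D116272
theorem N62419 : nd 62419 = n116273 := ndS (p := 33350) (l := 4) rfl N33350 D116273
theorem N62420 : nd 62420 = n116274 := ndS (p := 33350) (l := 7) rfl N33350 D116274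
theorem N62421 : nd 62421 = n116275 := ndS (p := 33352) (l := 0) rfl N33352 D116275
theorem N62422 : nd 62422 = n116276 := ndS (p := 33352) (l := 3) rfl N33352 D116276
theorem N62423 : nd 62423 = n116277 := ndS (p := 33352) (l := 5) rfl N33352 D116277
theorem N62424 : nd 62424 = n116278 := ndS (p := 33352) (l := 6) rfl N33352 D116278
theorem N62425 : nd 62425 = n116279 := ndS (p := 33354) (l := 3) rfl N33354 D116279
theorem N62426 : nd 62426 = n116280 := ndS (p := 33354) (l := 5) rfl N33354 D116280
theorem N62427 : nd 62427 = n116283 := ndS (p := 33356) (l := 3) rfl N33356 D116283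
theorem N62428 : nd 62428 = n116284 := ndS (p := 33356) (l := 5) rfl N33356 D116284
theorem N62429 : nd 62429 = n116295 := ndS (p := 33357) (l := 6) rfl N33357 D116295
theorem N62430 : nd 62430 = n116296 := ndS (p := 33358) (l := 5) rfl N33358 D116296
theorem N62431 : nd 62431 = n116297 := ndS (p := 33358) (l := 6) rfl N33358 D116297
theorem N62432 : nd 62432 = n116301 := ndS (p := 33359) (l := 1) rfl N33359 D116301
theorem N62433 : nd 62433 = n116302 := ndS (p := 33359) (l := 5) rfl N33359 D116302
theorem N62434 : nd 62434 = n116304 := ndS (p := 33360) (l := 4) rfl N33360 D116304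
theorem N62435 : nd 62435 = n116320 := ndS (p := 33362) (l := 0) rfl N33362 D116320
theorem N62436 : nd 62436 = n116321 := ndS (p := 33362) (l := 1) rfl N33362 D116321
theorem N62437 : nd 62437 = n116322 := ndS (p := 33362) (l := 5) rfl N33362 D116322
theorem N62438 : nd 62438 = n116329 := ndS (p := 33363) (l := 3) rfl N33363 D116329
theorem N62439 : nd 62439 = n116330 := ndS (p := 33363) (l := 4) rfl N33363 D116330
theorem N62440 : nd 62440 = n116332 := ndS (p := 33363) (l := 6) rfl N33363 D116332
theorem N62441 : nd 62441 = n116334 := ndS (p := 33364) (l := 3) rfl N33364 D116334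
theorem N62442 : nd 62442 = n116335 := ndS (p := 33364) (l := 4) rfl N33364 D116335
theorem N62443 : nd 62443 = n116337 := ndS (p := 33364) (l := 6) rfl N33364 D116337
theorem N62444 : nd 62444 = n116375 := ndS (p := 33366) (l := 6) rfl N33366 D116375
theorem N62445 : nd 62445 = n116378 := ndS (p := 33368) (l := 3) rfl N33368 D116378
theorem N62446 : nd 62446 = n116388 := ndS (p := 33370) (l := 6) rfl N33370 D116388
theorem N62447 : nd 62447 = n116389 := ndS (p := 33371) (l := 3) rfl N33371 D116389
theorem N62448 : nd 62448 = n116390 := ndS (p := 33371) (l := 6) rfl N33371 D116390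
theorem N62449 : nd 62449 = n116393 := ndS (p := 33373) (l := 0) rfl N33373 D116393
theorem N62450 : nd 62450 = n116397 := ndS (p := 33374) (l := 4) rfl N33374 D116397
theorem N62451 : nd 62451 = n116398 := ndS (p := 33374) (l := 5) rfl N33374 D116398
theorem N62452 : nd 62452 = n116401 := ndS (p := 33376) (l := 4) rfl N33376 D116401
theorem N62453 : nd 62453 = n116402 := ndS (p := 33376) (l := 6) rfl N33376 D116402
theorem N62454 : nd 62454 = n116407 := ndS (p := 33377) (l := 4) rfl N33377 D116407
theorem N62455 : nd 62455 = n116408 := ndS (p := 33377) (l := 6) rfl N33377 D116408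
theorem N62456 : nd 62456 = n116411 := ndS (p := 33378) (l := 5) rfl N33378 D116411
theorem N62457 : nd 62457 = n116413 := ndS (p := 33379) (l := 0) rfl N33379 D116413
theorem N62458 : nd 62458 = n116414 := ndS (p := 33379) (l := 1) rfl N33379 D116414
theorem N62459 : nd 62459 = n116416 := ndS (p := 33379) (l := 6) rfl N33379 D116416
theorem N62460 : nd 62460 = n116417 := ndS (p := 33380) (l := 0) rfl N33380 D116417
theorem N62461 : nd 62461 = n116420 := ndS (p := 33380) (l := 7) rfl N33380 D116420
theorem N62462 : nd 62462 = n116427 := ndS (p := 33381) (l := 3) rfl N33381 D116427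
theorem N62463 : nd 62463 = n116428 := ndS (p := 33381) (l := 4) rfl N33381 D116428
theorem N62464 : nd 62464 = n116430 := ndS (p := 33381) (l := 6) rfl N33381 D116430
theorem N62465 : nd 62465 = n116431 := ndS (p := 33382) (l := 0) rfl N33382 D116431
theorem N62466 : nd 62466 = n116432 := ndS (p := 33382) (l := 1) rfl N33382 D116432
theorem N62467 : nd 62467 = n116434 := ndS (p := 33382) (l := 7) rfl N33382 D116434
theorem N62468 : nd 62468 = n116435 := ndS (p := 33384) (l := 3) rfl N33384 D116435
theorem N62469 : nd 62469 = n116438 := ndS (p := 33385) (l := 3) rfl N33385 D116438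
theorem N62470 : nd 62470 = n116444 := ndS (p := 33387) (l := 3) rfl N33387 D116444
theorem N62471 : nd 62471 = n116446 := ndS (p := 33388) (l := 3) rfl N33388 D116446
theorem N62472 : nd 62472 = n116454 := ndS (p := 33392) (l := 0) rfl N33392 D116454
theorem N62473 : nd 62473 = n116455 := ndS (p := 33392) (l := 1) rfl N33392 D116455
theorem N62474 : nd 62474 = n116456 := ndS (p := 33392) (l := 3) rfl N33392 D116456
theorem N62475 : nd 62475 = n116457 := ndS (p := 33392) (l := 5) rfl N33392 D116457
theorem N62476 : nd 62476 = n116459 := ndS (p := 33393) (l := 4) rfl N33393 D116459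
theorem N62477 : nd 62477 = n116460 := ndS (p := 33393) (l := 6) rfl N33393 D116460
theorem N62478 : nd 62478 = n116469 := ndS (p := 33394) (l := 3) rfl N33394 D116469
theorem N62479 : nd 62479 = n116470 := ndS (p := 33394) (l := 5) rfl N33394 D116470
theorem N62480 : nd 62480 = n116471 := ndS (p := 33394) (l := 6) rfl N33394 D116471
theorem N62481 : nd 62481 = n116472 := ndS (p := 33395) (l := 4) rfl N33395 D116472
theorem N62482 : nd 62482 = n116473 := ndS (p := 33395) (l := 6) rfl N33395 D116473
theorem N62483 : nd 62483 = n116475 := ndS (p := 33396) (l := 1) rfl N33396 D116475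
theorem N62484 : nd 62484 = n116478 := ndS (p := 33397) (l := 5) rfl N33397 D116478
theorem N62485 : nd 62485 = n116480 := ndS (p := 33398) (l := 4) rfl N33398 D116480
theorem N62486 : nd 62486 = n116486 := ndS (p := 33400) (l := 3) rfl N33400 D116486
theorem N62487 : nd 62487 = n116487 := ndS (p := 33400) (l := 5) rfl N33400 D116487
theorem N62488 : nd 62488 = n116491 := ndS (p := 33401) (l := 6) rfl N33401 D116491
theorem N62489 : nd 62489 = n116494 := ndS (p := 33403) (l := 0) rfl N33403 D116494
theorem N62490 : nd 62490 = n116495 := ndS (p := 33403) (l := 1) rfl N33403 D116495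
theorem N62491 : nd 62491 = n116498 := ndS (p := 33404) (l := 0) rfl N33404 D116498
theorem N62492 : nd 62492 = n116499 := ndS (p := 33404) (l := 1) rfl N33404 D116499
theorem N62493 : nd 62493 = n116500 := ndS (p := 33404) (l := 6) rfl N33404 D116500
theorem N62494 : nd 62494 = n116506 := ndS (p := 33406) (l := 3) rfl N33406 D116506
theorem N62495 : nd 62495 = n116512 := ndS (p := 33407) (l := 4) rfl N33407 D116512
theorem N62496 : nd 62496 = n116542 := ndS (p := 33409) (l := 5) rfl N33409 D116542
theorem N62497 : nd 62497 = n116544 := ndS (p := 33410) (l := 5) rfl N33410 D116544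
theorem N62498 : nd 62498 = n116548 := ndS (p := 33411) (l := 4) rfl N33411 D116548
theorem N62499 : nd 62499 = n116549 := ndS (p := 33411) (l := 6) rfl N33411 D116549
theorem N62500 : nd 62500 = n116552 := ndS (p := 33412) (l := 5) rfl N33412 D116552
theorem N62501 : nd 62501 = n116572 := ndS (p := 33415) (l := 5) rfl N33415 D116572
theorem N62502 : nd 62502 = n116573 := ndS (p := 33415) (l := 6) rfl N33415 D116573
theorem N62503 : nd 62503 = n116574 := ndS (p := 33416) (l := 5) rfl N33416 D116574
theorem N62504 : nd 62504 = n116582 := ndS (p := 33417) (l := 1) rfl N33417 D116582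
theorem N62505 : nd 62505 = n116583 := ndS (p := 33417) (l := 4) rfl N33417 D116583
theorem N62506 : nd 62506 = n116585 := ndS (p := 33417) (l := 7) rfl N33417 D116585
theorem N62507 : nd 62507 = n116591 := ndS (p := 33419) (l := 4) rfl N33419 D116591
theorem N62508 : nd 62508 = n116592 := ndS (p := 33419) (l := 6) rfl N33419 D116592
theorem N62509 : nd 62509 = n116593 := ndS (p := 33420) (l := 0) rfl N33420 D116593
theorem N62510 : nd 62510 = n116594 := ndS (p := 33420) (l := 1) rfl N33420 D116594
theorem N62511 : nd 62511 = n116596 := ndS (p := 33420) (l := 7) rfl N33420 D116596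
theorem N62512 : nd 62512 = n116600 := ndS (p := 33421) (l := 7) rfl N33421 D116600
theorem N62513 : nd 62513 = n116613 := ndS (p := 33424) (l := 4) rfl N33424 D116613
theorem N62514 : nd 62514 = n116614 := ndS (p := 33424) (l := 7) rfl N33424 D116614
theorem N62515 : nd 62515 = n116621 := ndS (p := 33427) (l := 5) rfl N33427 D116621
theorem N62516 : nd 62516 = n116622 := ndS (p := 33427) (l := 6) rfl N33427 D116622
theorem N62517 : nd 62517 = n116623 := ndS (p := 33428) (l := 3) rfl N33428 D116623
theorem N62518 : nd 62518 = n116624 := ndS (p := 33428) (l := 5) rfl N33428 D116624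
theorem N62519 : nd 62519 = n116625 := ndS (p := 33428) (l := 6) rfl N33428 D116625
theorem N62520 : nd 62520 = n116626 := ndS (p := 33429) (l := 0) rfl N33429 D116626
theorem N62521 : nd 62521 = n116627 := ndS (p := 33429) (l := 4) rfl N33429 D116627
theorem N62522 : nd 62522 = n116628 := ndS (p := 33429) (l := 6) rfl N33429 D116628
theorem N62523 : nd 62523 = n116629 := ndS (p := 33430) (l := 0) rfl N33430 D116629
theorem N62524 : nd 62524 = n116630 := ndS (p := 33430) (l := 1) rfl N33430 D116630
theorem N62525 : nd 62525 = n116635 := ndS (p := 33431) (l := 6) rfl N33431 D116635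
theorem N62526 : nd 62526 = n116638 := ndS (p := 33433) (l := 0) rfl N33433 D116638
theorem N62527 : nd 62527 = n116639 := ndS (p := 33433) (l := 1) rfl N33433 D116639
theorem N62528 : nd 62528 = n116640 := ndS (p := 33433) (l := 5) rfl N33433 D116640
theorem N62529 : nd 62529 = n116642 := ndS (p := 33434) (l := 3) rfl N33434 D116642
theorem N62530 : nd 62530 = n116644 := ndS (p := 33434) (l := 6) rfl N33434 D116644
theorem N62531 : nd 62531 = n116646 := ndS (p := 33435) (l := 1) rfl N33435 D116646
theorem N62532 : nd 62532 = n116648 := ndS (p := 33435) (l := 7) rfl N33435 D116648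
theorem N62533 : nd 62533 = n116657 := ndS (p := 33436) (l := 5) rfl N33436 D116657
theorem N62534 : nd 62534 = n116663 := ndS (p := 33437) (l := 3) rfl N33437 D116663
theorem N62535 : nd 62535 = n116664 := ndS (p := 33437) (l := 6) rfl N33437 D116664
theorem N62536 : nd 62536 = n116670 := ndS (p := 33439) (l := 0) rfl N33439 D116670
theorem N62537 : nd 62537 = n116678 := ndS (p := 33440) (l := 4) rfl N33440 D116678
theorem N62538 : nd 62538 = n116680 := ndS (p := 33441) (l := 3) rfl N33441 D116680
theorem N62539 : nd 62539 = n116681 := ndS (p := 33441) (l := 5) rfl N33441 D116681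
theorem N62540 : nd 62540 = n116682 := ndS (p := 33441) (l := 6) rfl N33441 D116682
theorem N62541 : nd 62541 = n116687 := ndS (p := 33443) (l := 3) rfl N33443 D116687
theorem N62542 : nd 62542 = n116688 := ndS (p := 33443) (l := 4) rfl N33443 D116688
theorem N62543 : nd 62543 = n116689 := ndS (p := 33443) (l := 6) rfl N33443 D116689
theorem N62544 : nd 62544 = n116690 := ndS (p := 33444) (l := 6) rfl N33444 D116690
theorem N62545 : nd 62545 = n116693 := ndS (p := 33446) (l := 0) rfl N33446 D116693
theorem N62546 : nd 62546 = n116694 := ndS (p := 33446) (l := 1) rfl N33446 D116694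
theorem N62547 : nd 62547 = n116695 := ndS (p := 33446) (l := 5) rfl N33446 D116695
theorem N62548 : nd 62548 = n116696 := ndS (p := 33446) (l := 7) rfl N33446 D116696
theorem N62549 : nd 62549 = n116709 := ndS (p := 33448) (l := 4) rfl N33448 D116709
theorem N62550 : nd 62550 = n116713 := ndS (p := 33449) (l := 3) rfl N33449 D116713
theorem N62551 : nd 62551 = n116715 := ndS (p := 33449) (l := 5) rfl N33449 D116715
theorem N62552 : nd 62552 = n116719 := ndS (p := 33450) (l := 4) rfl N33450 D116719
theorem N62553 : nd 62553 = n116744 := ndS (p := 33452) (l := 0) rfl N33452 D116744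
theorem N62554 : nd 62554 = n116745 := ndS (p := 33452) (l := 1) rfl N33452 D116745
theorem N62555 : nd 62555 = n116769 := ndS (p := 33454) (l := 0) rfl N33454 D116769
theorem N62556 : nd 62556 = n116772 := ndS (p := 33454) (l := 4) rfl N33454 D116772
theorem N62557 : nd 62557 = n116774 := ndS (p := 33454) (l := 6) rfl N33454 D116774
theorem N62558 : nd 62558 = n116783 := ndS (p := 33455) (l := 7) rfl N33455 D116783
theorem N62559 : nd 62559 = n116789 := ndS (p := 33456) (l := 6) rfl N33456 D116789
theorem N62560 : nd 62560 = n116793 := ndS (p := 33457) (l := 5) rfl N33457 D116793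
theorem N62561 : nd 62561 = n116799 := ndS (p := 33458) (l := 6) rfl N33458 D116799
theorem N62562 : nd 62562 = n116806 := ndS (p := 33460) (l := 4) rfl N33460 D116806
theorem N62563 : nd 62563 = n116808 := ndS (p := 33460) (l := 6) rfl N33460 D116808
theorem N62564 : nd 62564 = n116814 := ndS (p := 33463) (l := 3) rfl N33463 D116814
theorem N62565 : nd 62565 = n116820 := ndS (p := 33465) (l := 3) rfl N33465 D116820
theorem N62566 : nd 62566 = n116821 := ndS (p := 33465) (l := 5) rfl N33465 D116821
theorem N62567 : nd 62567 = n116822 := ndS (p := 33465) (l := 6) rfl N33465 D116822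
theorem N62568 : nd 62568 = n116823 := ndS (p := 33466) (l := 4) rfl N33466 D116823
theorem N62569 : nd 62569 = n116832 := ndS (p := 33470) (l := 3) rfl N33470 D116832
theorem N62570 : nd 62570 = n116833 := ndS (p := 33471) (l := 3) rfl N33471 D116833
theorem N62571 : nd 62571 = n116834 := ndS (p := 33471) (l := 5) rfl N33471 D116834
theorem N62572 : nd 62572 = n116835 := ndS (p := 33472) (l := 4) rfl N33472 D116835
theorem N62573 : nd 62573 = n116842 := ndS (p := 33474) (l := 3) rfl N33474 D116842
theorem N62574 : nd 62574 = n116844 := ndS (p := 33475) (l := 1) rfl N33475 D116844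
theorem N62575 : nd 62575 = n116845 := ndS (p := 33475) (l := 5) rfl N33475 D116845
theorem N62576 : nd 62576 = n116853 := ndS (p := 33476) (l := 6) rfl N33476 D116853
theorem N62577 : nd 62577 = n116855 := ndS (p := 33477) (l := 0) rfl N33477 D116855
theorem N62578 : nd 62578 = n116856 := ndS (p := 33477) (l := 3) rfl N33477 D116856
theorem N62579 : nd 62579 = n116857 := ndS (p := 33477) (l := 5) rfl N33477 D116857
theorem N62580 : nd 62580 = n116858 := ndS (p := 33477) (l := 6) rfl N33477 D116858
theorem N62581 : nd 62581 = n116860 := ndS (p := 33478) (l := 0) rfl N33478 D116860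
theorem N62582 : nd 62582 = n116863 := ndS (p := 33478) (l := 7) rfl N33478 D116863
theorem N62583 : nd 62583 = n116865 := ndS (p := 33479) (l := 0) rfl N33479 D116865
theorem N62584 : nd 62584 = n116867 := ndS (p := 33479) (l := 2) rfl N33479 D116867
theorem N62585 : nd 62585 = n116868 := ndS (p := 33479) (l := 4) rfl N33479 D116868
theorem N62586 : nd 62586 = n116869 := ndS (p := 33479) (l := 6) rfl N33479 D116869
theorem N62587 : nd 62587 = n116870 := ndS (p := 33480) (l := 6) rfl N33480 D116870
theorem N62588 : nd 62588 = n116872 := ndS (p := 33481) (l := 1) rfl N33481 D116872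
theorem N62589 : nd 62589 = n116873 := ndS (p := 33481) (l := 5) rfl N33481 D116873
theorem N62590 : nd 62590 = n116874 := ndS (p := 33481) (l := 7) rfl N33481 D116874
theorem N62591 : nd 62591 = n116901 := ndS (p := 33482) (l := 5) rfl N33482 D116901
theorem N62592 : nd 62592 = n116903 := ndS (p := 33484) (l := 6) rfl N33484 D116903
theorem N62593 : nd 62593 = n116906 := ndS (p := 33488) (l := 6) rfl N33488 D116906
theorem N62594 : nd 62594 = n116907 := ndS (p := 33490) (l := 6) rfl N33490 D116907
theorem N62595 : nd 62595 = n116908 := ndS (p := 33491) (l := 3) rfl N33491 D116908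
theorem N62596 : nd 62596 = n116909 := ndS (p := 33491) (l := 6) rfl N33491 D116909
theorem N62597 : nd 62597 = n116913 := ndS (p := 33493) (l := 6) rfl N33493 D116913
theorem N62598 : nd 62598 = n116914 := ndS (p := 33494) (l := 3) rfl N33494 D116914
theorem N62599 : nd 62599 = n116915 := ndS (p := 33494) (l := 6) rfl N33494 D116915
theorem N62600 : nd 62600 = n116916 := ndS (p := 33496) (l := 3) rfl N33496 D116916
theorem N62601 : nd 62601 = n116918 := ndS (p := 33497) (l := 3) rfl N33497 D116918
theorem N62602 : nd 62602 = n116919 := ndS (p := 33497) (l := 6) rfl N33497 D116919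
theorem N62603 : nd 62603 = n116924 := ndS (p := 33499) (l := 3) rfl N33499 D116924
theorem N62604 : nd 62604 = n116926 := ndS (p := 33500) (l := 3) rfl N33500 D116926
theorem N62605 : nd 62605 = n116928 := ndS (p := 33500) (l := 6) rfl N33500 D116928
theorem N62606 : nd 62606 = n116948 := ndS (p := 33504) (l := 5) rfl N33504 D116948
theorem N62607 : nd 62607 = n116949 := ndS (p := 33504) (l := 6) rfl N33504 D116949
theorem N62608 : nd 62608 = n116952 := ndS (p := 33506) (l := 7) rfl N33506 D116952
theorem N62609 : nd 62609 = n116962 := ndS (p := 33509) (l := 0) rfl N33509 D116962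
theorem N62610 : nd 62610 = n116963 := ndS (p := 33509) (l := 2) rfl N33509 D116963
theorem N62611 : nd 62611 = n116964 := ndS (p := 33509) (l := 5) rfl N33509 D116964
theorem N62612 : nd 62612 = n116965 := ndS (p := 33509) (l := 6) rfl N33509 D116965
theorem N62613 : nd 62613 = n116967 := ndS (p := 33511) (l := 5) rfl N33511 D116967
theorem N62614 : nd 62614 = n116968 := ndS (p := 33512) (l := 0) rfl N33512 D116968
theorem N62615 : nd 62615 = n116969 := ndS (p := 33512) (l := 1) rfl N33512 D116969
theorem N62616 : nd 62616 = n116970 := ndS (p := 33512) (l := 2) rfl N33512 D116970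
theorem N62617 : nd 62617 = n116971 := ndS (p := 33512) (l := 5) rfl N33512 D116971
theorem N62618 : nd 62618 = n116972 := ndS (p := 33512) (l := 6) rfl N33512 D116972
theorem N62619 : nd 62619 = n116973 := ndS (p := 33513) (l := 6) rfl N33513 D116973
theorem N62620 : nd 62620 = n116974 := ndS (p := 33514) (l := 5) rfl N33514 D116974
theorem N62621 : nd 62621 = n116975 := ndS (p := 33515) (l := 0) rfl N33515 D116975
theorem N62622 : nd 62622 = n116976 := ndS (p := 33515) (l := 1) rfl N33515 D116976
theorem N62623 : nd 62623 = n116977 := ndS (p := 33515) (l := 7) rfl N33515 D116977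
theorem N62624 : nd 62624 = n116978 := ndS (p := 33516) (l := 0) rfl N33516 D116978
theorem N62625 : nd 62625 = n116979 := ndS (p := 33516) (l := 1) rfl N33516 D116979
theorem N62626 : nd 62626 = n116980 := ndS (p := 33516) (l := 2) rfl N33516 D116980
theorem N62627 : nd 62627 = n116981 := ndS (p := 33516) (l := 5) rfl N33516 D116981
theorem N62628 : nd 62628 = n116982 := ndS (p := 33516) (l := 6) rfl N33516 D116982
theorem N62629 : nd 62629 = n116983 := ndS (p := 33517) (l := 6) rfl N33517 D116983
theorem N62630 : nd 62630 = n116984 := ndS (p := 33518) (l := 0) rfl N33518 D116984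
theorem N62631 : nd 62631 = n116985 := ndS (p := 33518) (l := 1) rfl N33518 D116985
theorem N62632 : nd 62632 = n116986 := ndS (p := 33518) (l := 5) rfl N33518 D116986
theorem N62633 : nd 62633 = n116987 := ndS (p := 33518) (l := 7) rfl N33518 D116987
theorem N62634 : nd 62634 = n116988 := ndS (p := 33519) (l := 4) rfl N33519 D116988
theorem N62635 : nd 62635 = n116989 := ndS (p := 33519) (l := 5) rfl N33519 D116989
theorem N62636 : nd 62636 = n116990 := ndS (p := 33521) (l := 0) rfl N33521 D116990
theorem N62637 : nd 62637 = n116991 := ndS (p := 33521) (l := 1) rfl N33521 D116991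
theorem N62638 : nd 62638 = n116992 := ndS (p := 33521) (l := 2) rfl N33521 D116992
theorem N62639 : nd 62639 = n116993 := ndS (p := 33521) (l := 5) rfl N33521 D116993
theorem N62640 : nd 62640 = n116994 := ndS (p := 33521) (l := 6) rfl N33521 D116994
theorem N62641 : nd 62641 = n116995 := ndS (p := 33522) (l := 6) rfl N33522 D116995
theorem N62642 : nd 62642 = n116996 := ndS (p := 33523) (l := 5) rfl N33523 D116996
theorem N62643 : nd 62643 = n116997 := ndS (p := 33524) (l := 0) rfl N33524 D116997
theorem N62644 : nd 62644 = n116998 := ndS (p := 33524) (l := 1) rfl N33524 D116998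
theorem N62645 : nd 62645 = n116999 := ndS (p := 33524) (l := 2) rfl N33524 D116999
theorem N62646 : nd 62646 = n117000 := ndS (p := 33524) (l := 5) rfl N33524 D117000
theorem N62647 : nd 62647 = n117001 := ndS (p := 33524) (l := 6) rfl N33524 D117001
theorem N62648 : nd 62648 = n117002 := ndS (p := 33525) (l := 6) rfl N33525 D117002
theorem N62649 : nd 62649 = n117003 := ndS (p := 33526) (l := 5) rfl N33526 D117003
theorem N62650 : nd 62650 = n117004 := ndS (p := 33526) (l := 7) rfl N33526 D117004
theorem N62651 : nd 62651 = n117005 := ndS (p := 33527) (l := 3) rfl N33527 D117005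
theorem N62652 : nd 62652 = n117006 := ndS (p := 33527) (l := 6) rfl N33527 D117006
theorem N62653 : nd 62653 = n117007 := ndS (p := 33528) (l := 3) rfl N33528 D117007
theorem N62654 : nd 62654 = n117008 := ndS (p := 33528) (l := 6) rfl N33528 D117008
theorem N62655 : nd 62655 = n117009 := ndS (p := 33529) (l := 5) rfl N33529 D117009
theorem N62656 : nd 62656 = n117011 := ndS (p := 33530) (l := 4) rfl N33530 D117011
theorem N62657 : nd 62657 = n117013 := ndS (p := 33531) (l := 0) rfl N33531 D117013
theorem N62658 : nd 62658 = n117014 := ndS (p := 33531) (l := 1) rfl N33531 D117014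
theorem N62659 : nd 62659 = n117017 := ndS (p := 33532) (l := 3) rfl N33532 D117017
theorem N62660 : nd 62660 = n117018 := ndS (p := 33532) (l := 6) rfl N33532 D117018
theorem N62661 : nd 62661 = n117019 := ndS (p := 33533) (l := 0) rfl N33533 D117019
theorem N62662 : nd 62662 = n117023 := ndS (p := 33534) (l := 3) rfl N33534 D117023
theorem N62663 : nd 62663 = n117024 := ndS (p := 33534) (l := 5) rfl N33534 D117024
theorem N62664 : nd 62664 = n117025 := ndS (p := 33534) (l := 6) rfl N33534 D117025
theorem N62665 : nd 62665 = n117026 := ndS (p := 33535) (l := 0) rfl N33535 D117026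
theorem N62666 : nd 62666 = n117027 := ndS (p := 33535) (l := 1) rfl N33535 D117027
theorem N62667 : nd 62667 = n117028 := ndS (p := 33535) (l := 4) rfl N33535 D117028
theorem N62668 : nd 62668 = n117031 := ndS (p := 33537) (l := 5) rfl N33537 D117031
theorem N62669 : nd 62669 = n117032 := ndS (p := 33537) (l := 6) rfl N33537 D117032
theorem N62670 : nd 62670 = n117033 := ndS (p := 33540) (l := 3) rfl N33540 D117033
theorem N62671 : nd 62671 = n117034 := ndS (p := 33540) (l := 5) rfl N33540 D117034
theorem N62672 : nd 62672 = n117041 := ndS (p := 33541) (l := 1) rfl N33541 D117041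
theorem N62673 : nd 62673 = n117043 := ndS (p := 33541) (l := 6) rfl N33541 D117043
theorem N62674 : nd 62674 = n117045 := ndS (p := 33542) (l := 0) rfl N33542 D117045
theorem N62675 : nd 62675 = n117046 := ndS (p := 33542) (l := 1) rfl N33542 D117046
theorem N62676 : nd 62676 = n117047 := ndS (p := 33542) (l := 3) rfl N33542 D117047
theorem N62677 : nd 62677 = n117048 := ndS (p := 33542) (l := 5) rfl N33542 D117048
theorem N62678 : nd 62678 = n117049 := ndS (p := 33542) (l := 6) rfl N33542 D117049
theorem N62679 : nd 62679 = n117053 := ndS (p := 33543) (l := 5) rfl N33543 D117053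
theorem N62680 : nd 62680 = n117060 := ndS (p := 33545) (l := 3) rfl N33545 D117060
theorem N62681 : nd 62681 = n117061 := ndS (p := 33545) (l := 5) rfl N33545 D117061
theorem N62682 : nd 62682 = n117062 := ndS (p := 33545) (l := 6) rfl N33545 D117062
theorem N62683 : nd 62683 = n117064 := ndS (p := 33546) (l := 1) rfl N33546 D117064
theorem N62684 : nd 62684 = n117066 := ndS (p := 33546) (l := 7) rfl N33546 D117066
theorem N62685 : nd 62685 = n117067 := ndS (p := 33547) (l := 0) rfl N33547 D117067
theorem N62686 : nd 62686 = n117070 := ndS (p := 33547) (l := 7) rfl N33547 D117070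
theorem N62687 : nd 62687 = n117072 := ndS (p := 33548) (l := 3) rfl N33548 D117072
theorem N62688 : nd 62688 = n117073 := ndS (p := 33548) (l := 4) rfl N33548 D117073
theorem N62689 : nd 62689 = n117074 := ndS (p := 33548) (l := 5) rfl N33548 D117074
theorem N62690 : nd 62690 = n117075 := ndS (p := 33548) (l := 6) rfl N33548 D117075
theorem N62691 : nd 62691 = n117078 := ndS (p := 33549) (l := 4) rfl N33549 D117078
theorem N62692 : nd 62692 = n117083 := ndS (p := 33550) (l := 4) rfl N33550 D117083
theorem N62693 : nd 62693 = n117089 := ndS (p := 33553) (l := 3) rfl N33553 D117089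
theorem N62694 : nd 62694 = n117092 := ndS (p := 33555) (l := 4) rfl N33555 D117092
theorem N62695 : nd 62695 = n117093 := ndS (p := 33556) (l := 4) rfl N33556 D117093
theorem N62696 : nd 62696 = n117094 := ndS (p := 33557) (l := 0) rfl N33557 D117094
theorem N62697 : nd 62697 = n117096 := ndS (p := 33557) (l := 6) rfl N33557 D117096
theorem N62698 : nd 62698 = n117097 := ndS (p := 33559) (l := 1) rfl N33559 D117097
theorem N62699 : nd 62699 = n117098 := ndS (p := 33559) (l := 5) rfl N33559 D117098
theorem N62700 : nd 62700 = n117099 := ndS (p := 33563) (l := 6) rfl N33563 D117099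
theorem N62701 : nd 62701 = n117105 := ndS (p := 33564) (l := 6) rfl N33564 D117105
theorem N62702 : nd 62702 = n117106 := ndS (p := 33565) (l := 3) rfl N33565 D117106
theorem N62703 : nd 62703 = n117107 := ndS (p := 33565) (l := 5) rfl N33565 D117107
theorem N62704 : nd 62704 = n117108 := ndS (p := 33565) (l := 6) rfl N33565 D117108
theorem N62705 : nd 62705 = n117109 := ndS (p := 33567) (l := 6) rfl N33567 D117109
theorem N62706 : nd 62706 = n117110 := ndS (p := 33568) (l := 3) rfl N33568 D117110
theorem N62707 : nd 62707 = n117111 := ndS (p := 33568) (l := 5) rfl N33568 D117111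
theorem N62708 : nd 62708 = n117112 := ndS (p := 33568) (l := 6) rfl N33568 D117112
theorem N62709 : nd 62709 = n117156 := ndS (p := 33572) (l := 3) rfl N33572 D117156
theorem N62710 : nd 62710 = n117157 := ndS (p := 33572) (l := 6) rfl N33572 D117157
theorem N62711 : nd 62711 = n117158 := ndS (p := 33573) (l := 3) rfl N33573 D117158
theorem N62712 : nd 62712 = n117164 := ndS (p := 33575) (l := 5) rfl N33575 D117164
theorem N62713 : nd 62713 = n117167 := ndS (p := 33576) (l := 6) rfl N33576 D117167
theorem N62714 : nd 62714 = n117172 := ndS (p := 33577) (l := 5) rfl N33577 D117172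
theorem N62715 : nd 62715 = n117180 := ndS (p := 33582) (l := 4) rfl N33582 D117180
theorem N62716 : nd 62716 = n117181 := ndS (p := 33583) (l := 3) rfl N33583 D117181
theorem N62717 : nd 62717 = n117182 := ndS (p := 33583) (l := 6) rfl N33583 D117182
theorem N62718 : nd 62718 = n117183 := ndS (p := 33584) (l := 0) rfl N33584 D117183
theorem N62719 : nd 62719 = n117184 := ndS (p := 33584) (l := 1) rfl N33584 D117184
theorem N62720 : nd 62720 = n117185 := ndS (p := 33584) (l := 7) rfl N33584 D117185
theorem N62721 : nd 62721 = n117186 := ndS (p := 33585) (l := 3) rfl N33585 D117186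
theorem N62722 : nd 62722 = n117189 := ndS (p := 33586) (l := 6) rfl N33586 D117189
theorem N62723 : nd 62723 = n117191 := ndS (p := 33588) (l := 0) rfl N33588 D117191
theorem N62724 : nd 62724 = n117192 := ndS (p := 33588) (l := 1) rfl N33588 D117192
theorem N62725 : nd 62725 = n117196 := ndS (p := 33589) (l := 3) rfl N33589 D117196
theorem N62726 : nd 62726 = n117197 := ndS (p := 33589) (l := 4) rfl N33589 D117197
theorem N62727 : nd 62727 = n117201 := ndS (p := 33590) (l := 3) rfl N33590 D117201
theorem N62728 : nd 62728 = n117202 := ndS (p := 33590) (l := 4) rfl N33590 D117202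
theorem N62729 : nd 62729 = n117203 := ndS (p := 33590) (l := 5) rfl N33590 D117203
theorem N62730 : nd 62730 = n117205 := ndS (p := 33591) (l := 1) rfl N33591 D117205
theorem N62731 : nd 62731 = n117206 := ndS (p := 33591) (l := 7) rfl N33591 D117206
theorem N62732 : nd 62732 = n117207 := ndS (p := 33594) (l := 0) rfl N33594 D117207
theorem N62733 : nd 62733 = n117209 := ndS (p := 33594) (l := 2) rfl N33594 D117209
theorem N62734 : nd 62734 = n117210 := ndS (p := 33594) (l := 4) rfl N33594 D117210
theorem N62735 : nd 62735 = n117224 := ndS (p := 33597) (l := 3) rfl N33597 D117224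
theorem N62736 : nd 62736 = n117226 := ndS (p := 33599) (l := 6) rfl N33599 D117226
theorem N62737 : nd 62737 = n117227 := ndS (p := 33600) (l := 1) rfl N33600 D117227
theorem N62738 : nd 62738 = n117228 := ndS (p := 33600) (l := 3) rfl N33600 D117228
theorem N62739 : nd 62739 = n117229 := ndS (p := 33600) (l := 5) rfl N33600 D117229
theorem N62740 : nd 62740 = n117230 := ndS (p := 33600) (l := 6) rfl N33600 D117230
theorem N62741 : nd 62741 = n117231 := ndS (p := 33601) (l := 0) rfl N33601 D117231
theorem N62742 : nd 62742 = n117235 := ndS (p := 33603) (l := 3) rfl N33603 D117235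
theorem N62743 : nd 62743 = n117236 := ndS (p := 33603) (l := 5) rfl N33603 D117236
theorem N62744 : nd 62744 = n117237 := ndS (p := 33603) (l := 6) rfl N33603 D117237
theorem N62745 : nd 62745 = n117238 := ndS (p := 33605) (l := 3) rfl N33605 D117238
theorem N62746 : nd 62746 = n117239 := ndS (p := 33605) (l := 5) rfl N33605 D117239
theorem N62747 : nd 62747 = n117240 := ndS (p := 33605) (l := 6) rfl N33605 D117240
theorem N62748 : nd 62748 = n117241 := ndS (p := 33606) (l := 0) rfl N33606 D117241
theorem N62749 : nd 62749 = n117242 := ndS (p := 33606) (l := 1) rfl N33606 D117242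
theorem N62750 : nd 62750 = n117243 := ndS (p := 33606) (l := 7) rfl N33606 D117243
theorem N62751 : nd 62751 = n117244 := ndS (p := 33607) (l := 3) rfl N33607 D117244
theorem N62752 : nd 62752 = n117245 := ndS (p := 33607) (l := 5) rfl N33607 D117245
theorem N62753 : nd 62753 = n117246 := ndS (p := 33607) (l := 6) rfl N33607 D117246
theorem N62754 : nd 62754 = n117247 := ndS (p := 33608) (l := 1) rfl N33608 D117247
theorem N62755 : nd 62755 = n117248 := ndS (p := 33608) (l := 5) rfl N33608 D117248
theorem N62756 : nd 62756 = n117249 := ndS (p := 33608) (l := 7) rfl N33608 D117249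
theorem N62757 : nd 62757 = n117252 := ndS (p := 33610) (l := 3) rfl N33610 D117252
theorem N62758 : nd 62758 = n117253 := ndS (p := 33610) (l := 6) rfl N33610 D117253
theorem N62759 : nd 62759 = n117254 := ndS (p := 33611) (l := 0) rfl N33611 D117254
theorem N62760 : nd 62760 = n117255 := ndS (p := 33611) (l := 1) rfl N33611 D117255
theorem N62761 : nd 62761 = n117256 := ndS (p := 33611) (l := 4) rfl N33611 D117256
theorem N62762 : nd 62762 = n117257 := ndS (p := 33611) (l := 6) rfl N33611 D117257
theorem N62763 : nd 62763 = n117259 := ndS (p := 33612) (l := 1) rfl N33612 D117259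
theorem N62764 : nd 62764 = n117260 := ndS (p := 33612) (l := 5) rfl N33612 D117260
theorem N62765 : nd 62765 = n117261 := ndS (p := 33612) (l := 7) rfl N33612 D117261
theorem N62766 : nd 62766 = n117263 := ndS (p := 33613) (l := 4) rfl N33613 D117263
theorem N62767 : nd 62767 = n117264 := ndS (p := 33613) (l := 5) rfl N33613 D117264
theorem N62768 : nd 62768 = n117268 := ndS (p := 33614) (l := 4) rfl N33614 D117268
theorem N62769 : nd 62769 = n117269 := ndS (p := 33614) (l := 5) rfl N33614 D117269
theorem N62770 : nd 62770 = n117270 := ndS (p := 33614) (l := 6) rfl N33614 D117270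
theorem N62771 : nd 62771 = n117271 := ndS (p := 33615) (l := 1) rfl N33615 D117271
theorem N62772 : nd 62772 = n117273 := ndS (p := 33615) (l := 7) rfl N33615 D117273
theorem N62773 : nd 62773 = n117274 := ndS (p := 33617) (l := 0) rfl N33617 D117274
theorem N62774 : nd 62774 = n117280 := ndS (p := 33618) (l := 4) rfl N33618 D117280
theorem N62775 : nd 62775 = n117281 := ndS (p := 33618) (l := 5) rfl N33618 D117281
theorem N62776 : nd 62776 = n117284 := ndS (p := 33619) (l := 6) rfl N33619 D117284
theorem N62777 : nd 62777 = n117287 := ndS (p := 33620) (l := 4) rfl N33620 D117287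
theorem N62778 : nd 62778 = n117288 := ndS (p := 33620) (l := 5) rfl N33620 D117288
theorem N62779 : nd 62779 = n117289 := ndS (p := 33620) (l := 6) rfl N33620 D117289
theorem N62780 : nd 62780 = n117299 := ndS (p := 33626) (l := 0) rfl N33626 D117299
theorem N62781 : nd 62781 = n117300 := ndS (p := 33626) (l := 1) rfl N33626 D117300
theorem N62782 : nd 62782 = n117302 := ndS (p := 33627) (l := 4) rfl N33627 D117302
theorem N62783 : nd 62783 = n117303 := ndS (p := 33627) (l := 6) rfl N33627 D117303
theorem N62784 : nd 62784 = n117305 := ndS (p := 33628) (l := 5) rfl N33628 D117305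
theorem N62785 : nd 62785 = n117306 := ndS (p := 33628) (l := 6) rfl N33628 D117306
theorem N62786 : nd 62786 = n117310 := ndS (p := 33630) (l := 6) rfl N33630 D117310
theorem N62787 : nd 62787 = n117311 := ndS (p := 33631) (l := 4) rfl N33631 D117311
theorem N62788 : nd 62788 = n117314 := ndS (p := 33632) (l := 5) rfl N33632 D117314
theorem N62789 : nd 62789 = n117315 := ndS (p := 33632) (l := 6) rfl N33632 D117315
theorem N62790 : nd 62790 = n117317 := ndS (p := 33633) (l := 1) rfl N33633 D117317
theorem N62791 : nd 62791 = n117318 := ndS (p := 33633) (l := 5) rfl N33633 D117318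
theorem N62792 : nd 62792 = n117319 := ndS (p := 33633) (l := 7) rfl N33633 D117319
theorem N62793 : nd 62793 = n117320 := ndS (p := 33634) (l := 4) rfl N33634 D117320
theorem N62794 : nd 62794 = n117321 := ndS (p := 33635) (l := 4) rfl N33635 D117321
theorem N62795 : nd 62795 = n117322 := ndS (p := 33636) (l := 3) rfl N33636 D117322
theorem N62796 : nd 62796 = n117323 := ndS (p := 33636) (l := 5) rfl N33636 D117323
theorem N62797 : nd 62797 = n117324 := ndS (p := 33636) (l := 6) rfl N33636 D117324
theorem N62798 : nd 62798 = n117325 := ndS (p := 33637) (l := 0) rfl N33637 D117325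
theorem N62799 : nd 62799 = n117326 := ndS (p := 33637) (l := 1) rfl N33637 D117326
theorem N62800 : nd 62800 = n117327 := ndS (p := 33637) (l := 7) rfl N33637 D117327
theorem N62801 : nd 62801 = n117328 := ndS (p := 33638) (l := 4) rfl N33638 D117328
theorem N62802 : nd 62802 = n117329 := ndS (p := 33638) (l := 6) rfl N33638 D117329
theorem N62803 : nd 62803 = n117332 := ndS (p := 33640) (l := 4) rfl N33640 D117332
theorem N62804 : nd 62804 = n117333 := ndS (p := 33640) (l := 6) rfl N33640 D117333
theorem N62805 : nd 62805 = n117334 := ndS (p := 33641) (l := 0) rfl N33641 D117334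
theorem N62806 : nd 62806 = n117335 := ndS (p := 33641) (l := 1) rfl N33641 D117335
theorem N62807 : nd 62807 = n117336 := ndS (p := 33641) (l := 3) rfl N33641 D117336
theorem N62808 : nd 62808 = n117337 := ndS (p := 33641) (l := 5) rfl N33641 D117337
theorem N62809 : nd 62809 = n117338 := ndS (p := 33641) (l := 6) rfl N33641 D117338
theorem N62810 : nd 62810 = n117339 := ndS (p := 33642) (l := 0) rfl N33642 D117339
theorem N62811 : nd 62811 = n117340 := ndS (p := 33642) (l := 1) rfl N33642 D117340
theorem N62812 : nd 62812 = n117341 := ndS (p := 33642) (l := 7) rfl N33642 D117341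
theorem N62813 : nd 62813 = n117342 := ndS (p := 33643) (l := 1) rfl N33643 D117342
theorem N62814 : nd 62814 = n117346 := ndS (p := 33644) (l := 0) rfl N33644 D117346
theorem N62815 : nd 62815 = n117349 := ndS (p := 33645) (l := 3) rfl N33645 D117349
theorem N62816 : nd 62816 = n117350 := ndS (p := 33645) (l := 5) rfl N33645 D117350
theorem N62817 : nd 62817 = n117351 := ndS (p := 33645) (l := 6) rfl N33645 D117351
theorem N62818 : nd 62818 = n117355 := ndS (p := 33647) (l := 3) rfl N33647 D117355
theorem N62819 : nd 62819 = n117356 := ndS (p := 33647) (l := 6) rfl N33647 D117356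
theorem N62820 : nd 62820 = n117357 := ndS (p := 33648) (l := 0) rfl N33648 D117357
theorem N62821 : nd 62821 = n117358 := ndS (p := 33648) (l := 1) rfl N33648 D117358
theorem N62822 : nd 62822 = n117359 := ndS (p := 33648) (l := 4) rfl N33648 D117359
theorem N62823 : nd 62823 = n117362 := ndS (p := 33649) (l := 1) rfl N33649 D117362
theorem N62824 : nd 62824 = n117364 := ndS (p := 33649) (l := 7) rfl N33649 D117364
theorem N62825 : nd 62825 = n117366 := ndS (p := 33650) (l := 3) rfl N33650 D117366
theorem N62826 : nd 62826 = n117367 := ndS (p := 33650) (l := 4) rfl N33650 D117367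
theorem N62827 : nd 62827 = n117371 := ndS (p := 33651) (l := 3) rfl N33651 D117371
theorem N62828 : nd 62828 = n117372 := ndS (p := 33651) (l := 4) rfl N33651 D117372
theorem N62829 : nd 62829 = n117373 := ndS (p := 33651) (l := 5) rfl N33651 D117373
theorem N62830 : nd 62830 = n117375 := ndS (p := 33652) (l := 0) rfl N33652 D117375
theorem N62831 : nd 62831 = n117376 := ndS (p := 33652) (l := 1) rfl N33652 D117376
theorem N62832 : nd 62832 = n117377 := ndS (p := 33652) (l := 4) rfl N33652 D117377
theorem N62833 : nd 62833 = n117378 := ndS (p := 33652) (l := 7) rfl N33652 D117378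
theorem N62834 : nd 62834 = n117379 := ndS (p := 33655) (l := 3) rfl N33655 D117379
theorem N62835 : nd 62835 = n117380 := ndS (p := 33656) (l := 0) rfl N33656 D117380
theorem N62836 : nd 62836 = n117382 := ndS (p := 33656) (l := 2) rfl N33656 D117382
theorem N62837 : nd 62837 = n117383 := ndS (p := 33656) (l := 4) rfl N33656 D117383
theorem N62838 : nd 62838 = n117393 := ndS (p := 33657) (l := 4) rfl N33657 D117393
theorem N62839 : nd 62839 = n117398 := ndS (p := 33658) (l := 3) rfl N33658 D117398
theorem N62840 : nd 62840 = n117400 := ndS (p := 33659) (l := 3) rfl N33659 D117400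
theorem N62841 : nd 62841 = n117403 := ndS (p := 33661) (l := 2) rfl N33661 D117403
theorem N62842 : nd 62842 = n117404 := ndS (p := 33662) (l := 3) rfl N33662 D117404
theorem N62843 : nd 62843 = n117405 := ndS (p := 33662) (l := 6) rfl N33662 D117405
theorem N62844 : nd 62844 = n117406 := ndS (p := 33663) (l := 0) rfl N33663 D117406
theorem N62845 : nd 62845 = n117407 := ndS (p := 33663) (l := 1) rfl N33663 D117407
theorem N62846 : nd 62846 = n117408 := ndS (p := 33663) (l := 7) rfl N33663 D117408
theorem N62847 : nd 62847 = n117409 := ndS (p := 33664) (l := 6) rfl N33664 D117409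
theorem N62848 : nd 62848 = n117410 := ndS (p := 33665) (l := 4) rfl N33665 D117410
theorem N62849 : nd 62849 = n117411 := ndS (p := 33665) (l := 6) rfl N33665 D117411
theorem N62850 : nd 62850 = n117412 := ndS (p := 33666) (l := 3) rfl N33666 D117412
theorem N62851 : nd 62851 = n117413 := ndS (p := 33666) (l := 5) rfl N33666 D117413
theorem N62852 : nd 62852 = n117414 := ndS (p := 33666) (l := 6) rfl N33666 D117414
theorem N62853 : nd 62853 = n117415 := ndS (p := 33667) (l := 0) rfl N33667 D117415
theorem N62854 : nd 62854 = n117416 := ndS (p := 33667) (l := 1) rfl N33667 D117416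
theorem N62855 : nd 62855 = n117417 := ndS (p := 33667) (l := 7) rfl N33667 D117417
theorem N62856 : nd 62856 = n117431 := ndS (p := 33674) (l := 3) rfl N33674 D117431
theorem N62857 : nd 62857 = n117433 := ndS (p := 33674) (l := 6) rfl N33674 D117433
theorem N62858 : nd 62858 = n117434 := ndS (p := 33675) (l := 3) rfl N33675 D117434
theorem N62859 : nd 62859 = n117436 := ndS (p := 33675) (l := 6) rfl N33675 D117436
theorem N62860 : nd 62860 = n117437 := ndS (p := 33676) (l := 0) rfl N33676 D117437
theorem N62861 : nd 62861 = n117438 := ndS (p := 33676) (l := 1) rfl N33676 D117438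
theorem N62862 : nd 62862 = n117439 := ndS (p := 33676) (l := 2) rfl N33676 D117439
theorem N62863 : nd 62863 = n117440 := ndS (p := 33676) (l := 5) rfl N33676 D117440
theorem N62864 : nd 62864 = n117441 := ndS (p := 33676) (l := 6) rfl N33676 D117441
theorem N62865 : nd 62865 = n117442 := ndS (p := 33676) (l := 7) rfl N33676 D117442
theorem N62866 : nd 62866 = n117448 := ndS (p := 33678) (l := 1) rfl N33678 D117448
theorem N62867 : nd 62867 = n117450 := ndS (p := 33678) (l := 7) rfl N33678 D117450
theorem N62868 : nd 62868 = n117451 := ndS (p := 33679) (l := 6) rfl N33679 D117451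
theorem N62869 : nd 62869 = n117452 := ndS (p := 33680) (l := 4) rfl N33680 D117452
theorem N62870 : nd 62870 = n117453 := ndS (p := 33680) (l := 5) rfl N33680 D117453
theorem N62871 : nd 62871 = n117457 := ndS (p := 33683) (l := 6) rfl N33683 D117457
theorem N62872 : nd 62872 = n117459 := ndS (p := 33684) (l := 1) rfl N33684 D117459
theorem N62873 : nd 62873 = n117461 := ndS (p := 33685) (l := 0) rfl N33685 D117461
theorem N62874 : nd 62874 = n117462 := ndS (p := 33685) (l := 1) rfl N33685 D117462
theorem N62875 : nd 62875 = n117463 := ndS (p := 33685) (l := 2) rfl N33685 D117463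
theorem N62876 : nd 62876 = n117465 := ndS (p := 33685) (l := 6) rfl N33685 D117465
theorem N62877 : nd 62877 = n117468 := ndS (p := 33686) (l := 1) rfl N33686 D117468
theorem N62878 : nd 62878 = n117470 := ndS (p := 33686) (l := 7) rfl N33686 D117470
theorem N62879 : nd 62879 = n117478 := ndS (p := 33687) (l := 4) rfl N33687 D117478
theorem N62880 : nd 62880 = n117479 := ndS (p := 33687) (l := 5) rfl N33687 D117479
theorem N62881 : nd 62881 = n117480 := ndS (p := 33687) (l := 6) rfl N33687 D117480
theorem N62882 : nd 62882 = n117482 := ndS (p := 33688) (l := 1) rfl N33688 D117482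
theorem N62883 : nd 62883 = n117483 := ndS (p := 33688) (l := 4) rfl N33688 D117483
theorem N62884 : nd 62884 = n117484 := ndS (p := 33688) (l := 7) rfl N33688 D117484
theorem N62885 : nd 62885 = n117485 := ndS (p := 33690) (l := 4) rfl N33690 D117485
theorem N62886 : nd 62886 = n117486 := ndS (p := 33690) (l := 6) rfl N33690 D117486
theorem N62887 : nd 62887 = n117488 := ndS (p := 33691) (l := 3) rfl N33691 D117488
theorem N62888 : nd 62888 = n117489 := ndS (p := 33692) (l := 0) rfl N33692 D117489
theorem N62889 : nd 62889 = n117490 := ndS (p := 33692) (l := 3) rfl N33692 D117490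
theorem N62890 : nd 62890 = n117491 := ndS (p := 33692) (l := 5) rfl N33692 D117491
theorem N62891 : nd 62891 = n117492 := ndS (p := 33692) (l := 6) rfl N33692 D117492
theorem N62892 : nd 62892 = n117493 := ndS (p := 33693) (l := 1) rfl N33693 D117493
theorem N62893 : nd 62893 = n117496 := ndS (p := 33695) (l := 3) rfl N33695 D117496
theorem N62894 : nd 62894 = n117497 := ndS (p := 33695) (l := 5) rfl N33695 D117497
theorem N62895 : nd 62895 = n117501 := ndS (p := 33697) (l := 3) rfl N33697 D117501
theorem N62896 : nd 62896 = n117502 := ndS (p := 33697) (l := 5) rfl N33697 D117502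
theorem N62897 : nd 62897 = n117503 := ndS (p := 33697) (l := 6) rfl N33697 D117503
theorem N62898 : nd 62898 = n117504 := ndS (p := 33698) (l := 3) rfl N33698 D117504
theorem N62899 : nd 62899 = n117505 := ndS (p := 33698) (l := 5) rfl N33698 D117505
theorem N62900 : nd 62900 = n117506 := ndS (p := 33698) (l := 6) rfl N33698 D117506
theorem N62901 : nd 62901 = n117507 := ndS (p := 33699) (l := 0) rfl N33699 D117507
theorem N62902 : nd 62902 = n117508 := ndS (p := 33699) (l := 1) rfl N33699 D117508
theorem N62903 : nd 62903 = n117509 := ndS (p := 33699) (l := 2) rfl N33699 D117509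
theorem N62904 : nd 62904 = n117511 := ndS (p := 33699) (l := 6) rfl N33699 D117511
theorem N62905 : nd 62905 = n117515 := ndS (p := 33700) (l := 0) rfl N33700 D117515
theorem N62906 : nd 62906 = n117516 := ndS (p := 33700) (l := 1) rfl N33700 D117516
theorem N62907 : nd 62907 = n117517 := ndS (p := 33700) (l := 5) rfl N33700 D117517
theorem N62908 : nd 62908 = n117518 := ndS (p := 33700) (l := 7) rfl N33700 D117518
theorem N62909 : nd 62909 = n117519 := ndS (p := 33701) (l := 4) rfl N33701 D117519
theorem N62910 : nd 62910 = n117520 := ndS (p := 33701) (l := 5) rfl N33701 D117520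
theorem N62911 : nd 62911 = n117521 := ndS (p := 33702) (l := 3) rfl N33702 D117521
theorem N62912 : nd 62912 = n117522 := ndS (p := 33702) (l := 4) rfl N33702 D117522
theorem N62913 : nd 62913 = n117523 := ndS (p := 33702) (l := 6) rfl N33702 D117523
theorem N62914 : nd 62914 = n117524 := ndS (p := 33704) (l := 3) rfl N33704 D117524
theorem N62915 : nd 62915 = n117531 := ndS (p := 33706) (l := 3) rfl N33706 D117531
theorem N62916 : nd 62916 = n117532 := ndS (p := 33706) (l := 6) rfl N33706 D117532
theorem N62917 : nd 62917 = n117533 := ndS (p := 33707) (l := 3) rfl N33707 D117533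
theorem N62918 : nd 62918 = n117534 := ndS (p := 33707) (l := 6) rfl N33707 D117534
theorem N62919 : nd 62919 = n117535 := ndS (p := 33708) (l := 0) rfl N33708 D117535
theorem N62920 : nd 62920 = n117536 := ndS (p := 33708) (l := 1) rfl N33708 D117536
theorem N62921 : nd 62921 = n117537 := ndS (p := 33708) (l := 2) rfl N33708 D117537
theorem N62922 : nd 62922 = n117538 := ndS (p := 33708) (l := 5) rfl N33708 D117538
theorem N62923 : nd 62923 = n117541 := ndS (p := 33709) (l := 1) rfl N33709 D117541
theorem N62924 : nd 62924 = n117543 := ndS (p := 33710) (l := 0) rfl N33710 D117543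
theorem N62925 : nd 62925 = n117544 := ndS (p := 33710) (l := 1) rfl N33710 D117544
theorem N62926 : nd 62926 = n117545 := ndS (p := 33710) (l := 5) rfl N33710 D117545
theorem N62927 : nd 62927 = n117546 := ndS (p := 33710) (l := 7) rfl N33710 D117546
theorem N62928 : nd 62928 = n117548 := ndS (p := 33711) (l := 4) rfl N33711 D117548
theorem N62929 : nd 62929 = n117550 := ndS (p := 33712) (l := 4) rfl N33712 D117550
theorem N62930 : nd 62930 = n117552 := ndS (p := 33712) (l := 6) rfl N33712 D117552
theorem N62931 : nd 62931 = n117557 := ndS (p := 33714) (l := 0) rfl N33714 D117557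
theorem N62932 : nd 62932 = n117558 := ndS (p := 33714) (l := 1) rfl N33714 D117558
theorem N62933 : nd 62933 = n117560 := ndS (p := 33714) (l := 5) rfl N33714 D117560
theorem N62934 : nd 62934 = n117562 := ndS (p := 33715) (l := 6) rfl N33715 D117562
theorem N62935 : nd 62935 = n117574 := ndS (p := 33717) (l := 4) rfl N33717 D117574
theorem N62936 : nd 62936 = n117583 := ndS (p := 33719) (l := 2) rfl N33719 D117583
theorem N62937 : nd 62937 = n117584 := ndS (p := 33719) (l := 4) rfl N33719 D117584
theorem N62938 : nd 62938 = n117585 := ndS (p := 33719) (l := 5) rfl N33719 D117585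
theorem N62939 : nd 62939 = n117586 := ndS (p := 33719) (l := 6) rfl N33719 D117586
theorem N62940 : nd 62940 = n117587 := ndS (p := 33720) (l := 6) rfl N33720 D117587
theorem N62941 : nd 62941 = n117592 := ndS (p := 33722) (l := 5) rfl N33722 D117592
theorem N62942 : nd 62942 = n117593 := ndS (p := 33722) (l := 7) rfl N33722 D117593
theorem N62943 : nd 62943 = n117605 := ndS (p := 33727) (l := 3) rfl N33727 D117605
theorem N62944 : nd 62944 = n117607 := ndS (p := 33727) (l := 5) rfl N33727 D117607
theorem N62945 : nd 62945 = n117609 := ndS (p := 33728) (l := 3) rfl N33728 D117609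
theorem N62946 : nd 62946 = n117610 := ndS (p := 33728) (l := 5) rfl N33728 D117610
theorem N62947 : nd 62947 = n117612 := ndS (p := 33729) (l := 5) rfl N33729 D117612
theorem N62948 : nd 62948 = n117613 := ndS (p := 33729) (l := 6) rfl N33729 D117613
theorem N62949 : nd 62949 = n117614 := ndS (p := 33730) (l := 0) rfl N33730 D117614
theorem N62950 : nd 62950 = n117615 := ndS (p := 33730) (l := 1) rfl N33730 D117615
theorem N62951 : nd 62951 = n117617 := ndS (p := 33730) (l := 6) rfl N33730 D117617
theorem N62952 : nd 62952 = n117618 := ndS (p := 33731) (l := 0) rfl N33731 D117618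
theorem N62953 : nd 62953 = n117619 := ndS (p := 33731) (l := 1) rfl N33731 D117619
theorem N62954 : nd 62954 = n117620 := ndS (p := 33731) (l := 5) rfl N33731 D117620
theorem N62955 : nd 62955 = n117621 := ndS (p := 33731) (l := 7) rfl N33731 D117621
theorem N62956 : nd 62956 = n117627 := ndS (p := 33732) (l := 6) rfl N33732 D117627
theorem N62957 : nd 62957 = n117635 := ndS (p := 33734) (l := 4) rfl N33734 D117635
theorem N62958 : nd 62958 = n117637 := ndS (p := 33734) (l := 6) rfl N33734 D117637
theorem N62959 : nd 62959 = n117640 := ndS (p := 33735) (l := 4) rfl N33735 D117640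
theorem N62960 : nd 62960 = n117643 := ndS (p := 33736) (l := 0) rfl N33736 D117643
theorem N62961 : nd 62961 = n117644 := ndS (p := 33736) (l := 1) rfl N33736 D117644
theorem N62962 : nd 62962 = n117645 := ndS (p := 33736) (l := 4) rfl N33736 D117645
theorem N62963 : nd 62963 = n117646 := ndS (p := 33736) (l := 7) rfl N33736 D117646
theorem N62964 : nd 62964 = n117647 := ndS (p := 33737) (l := 6) rfl N33737 D117647
theorem N62965 : nd 62965 = n117648 := ndS (p := 33738) (l := 0) rfl N33738 D117648
theorem N62966 : nd 62966 = n117649 := ndS (p := 33738) (l := 1) rfl N33738 D117649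
theorem N62967 : nd 62967 = n117650 := ndS (p := 33738) (l := 5) rfl N33738 D117650
theorem N62968 : nd 62968 = n117651 := ndS (p := 33739) (l := 0) rfl N33739 D117651
theorem N62969 : nd 62969 = n117653 := ndS (p := 33739) (l := 4) rfl N33739 D117653
theorem N62970 : nd 62970 = n117654 := ndS (p := 33739) (l := 5) rfl N33739 D117654
theorem N62971 : nd 62971 = n117655 := ndS (p := 33740) (l := 0) rfl N33740 D117655
theorem N62972 : nd 62972 = n117657 := ndS (p := 33740) (l := 3) rfl N33740 D117657
theorem N62973 : nd 62973 = n117658 := ndS (p := 33740) (l := 5) rfl N33740 D117658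
theorem N62974 : nd 62974 = n117659 := ndS (p := 33740) (l := 6) rfl N33740 D117659
theorem N62975 : nd 62975 = n117660 := ndS (p := 33741) (l := 0) rfl N33741 D117660
theorem N62976 : nd 62976 = n117661 := ndS (p := 33741) (l := 4) rfl N33741 D117661
theorem N62977 : nd 62977 = n117664 := ndS (p := 33744) (l := 5) rfl N33744 D117664
theorem N62978 : nd 62978 = n117666 := ndS (p := 33745) (l := 4) rfl N33745 D117666
theorem N62979 : nd 62979 = n117669 := ndS (p := 33748) (l := 3) rfl N33748 D117669
theorem N62980 : nd 62980 = n117670 := ndS (p := 33748) (l := 4) rfl N33748 D117670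
theorem N62981 : nd 62981 = n117671 := ndS (p := 33748) (l := 5) rfl N33748 D117671
theorem N62982 : nd 62982 = n117672 := ndS (p := 33748) (l := 6) rfl N33748 D117672
theorem N62983 : nd 62983 = n117675 := ndS (p := 33749) (l := 4) rfl N33749 D117675
theorem N62984 : nd 62984 = n117677 := ndS (p := 33749) (l := 6) rfl N33749 D117677
theorem N62985 : nd 62985 = n117678 := ndS (p := 33750) (l := 0) rfl N33750 D117678
theorem N62986 : nd 62986 = n117680 := ndS (p := 33750) (l := 4) rfl N33750 D117680
theorem N62987 : nd 62987 = n117681 := ndS (p := 33751) (l := 4) rfl N33751 D117681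
theorem N62988 : nd 62988 = n117683 := ndS (p := 33752) (l := 0) rfl N33752 D117683
theorem N62989 : nd 62989 = n117684 := ndS (p := 33752) (l := 1) rfl N33752 D117684
theorem N62990 : nd 62990 = n117685 := ndS (p := 33752) (l := 5) rfl N33752 D117685
theorem N62991 : nd 62991 = n117686 := ndS (p := 33753) (l := 3) rfl N33753 D117686
theorem N62992 : nd 62992 = n117687 := ndS (p := 33753) (l := 5) rfl N33753 D117687
theorem N62993 : nd 62993 = n117688 := ndS (p := 33753) (l := 6) rfl N33753 D117688
theorem N62994 : nd 62994 = n117689 := ndS (p := 33754) (l := 0) rfl N33754 D117689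
theorem N62995 : nd 62995 = n117690 := ndS (p := 33754) (l := 1) rfl N33754 D117690
theorem N62996 : nd 62996 = n117691 := ndS (p := 33754) (l := 7) rfl N33754 D117691
theorem N62997 : nd 62997 = n117692 := ndS (p := 33755) (l := 3) rfl N33755 D117692
theorem N62998 : nd 62998 = n117693 := ndS (p := 33755) (l := 6) rfl N33755 D117693
theorem N62999 : nd 62999 = n117694 := ndS (p := 33756) (l := 3) rfl N33756 D117694
theorem N63000 : nd 63000 = n117695 := ndS (p := 33756) (l := 6) rfl N33756 D117695
theorem N63001 : nd 63001 = n117696 := ndS (p := 33757) (l := 4) rfl N33757 D117696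
theorem N63002 : nd 63002 = n117697 := ndS (p := 33757) (l := 6) rfl N33757 D117697
theorem N63003 : nd 63003 = n117698 := ndS (p := 33758) (l := 0) rfl N33758 D117698
theorem N63004 : nd 63004 = n117699 := ndS (p := 33758) (l := 1) rfl N33758 D117699
theorem N63005 : nd 63005 = n117700 := ndS (p := 33758) (l := 5) rfl N33758 D117700
theorem N63006 : nd 63006 = n117702 := ndS (p := 33759) (l := 4) rfl N33759 D117702
theorem N63007 : nd 63007 = n117704 := ndS (p := 33760) (l := 4) rfl N33760 D117704
theorem N63008 : nd 63008 = n117705 := ndS (p := 33760) (l := 6) rfl N33760 D117705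
theorem N63009 : nd 63009 = n117712 := ndS (p := 33762) (l := 4) rfl N33762 D117712
theorem N63010 : nd 63010 = n117713 := ndS (p := 33762) (l := 5) rfl N33762 D117713
theorem N63011 : nd 63011 = n117714 := ndS (p := 33762) (l := 6) rfl N33762 D117714
theorem N63012 : nd 63012 = n117720 := ndS (p := 33766) (l := 7) rfl N33766 D117720
theorem N63013 : nd 63013 = n117727 := ndS (p := 33767) (l := 5) rfl N33767 D117727
theorem N63014 : nd 63014 = n117733 := ndS (p := 33769) (l := 6) rfl N33769 D117733
theorem N63015 : nd 63015 = n117734 := ndS (p := 33770) (l := 3) rfl N33770 D117734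
theorem N63016 : nd 63016 = n117735 := ndS (p := 33770) (l := 6) rfl N33770 D117735
theorem N63017 : nd 63017 = n117736 := ndS (p := 33771) (l := 4) rfl N33771 D117736
theorem N63018 : nd 63018 = n117748 := ndS (p := 33772) (l := 3) rfl N33772 D117748
theorem N63019 : nd 63019 = n117765 := ndS (p := 33773) (l := 6) rfl N33773 D117765
theorem N63020 : nd 63020 = n117767 := ndS (p := 33774) (l := 5) rfl N33774 D117767
theorem N63021 : nd 63021 = n117774 := ndS (p := 33775) (l := 1) rfl N33775 D117774
theorem N63022 : nd 63022 = n117775 := ndS (p := 33775) (l := 2) rfl N33775 D117775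
theorem N63023 : nd 63023 = n117778 := ndS (p := 33776) (l := 0) rfl N33776 D117778
theorem N63024 : nd 63024 = n117779 := ndS (p := 33776) (l := 1) rfl N33776 D117779
theorem N63025 : nd 63025 = n117780 := ndS (p := 33776) (l := 3) rfl N33776 D117780
theorem N63026 : nd 63026 = n117781 := ndS (p := 33776) (l := 5) rfl N33776 D117781
theorem N63027 : nd 63027 = n117782 := ndS (p := 33776) (l := 6) rfl N33776 D117782
theorem N63028 : nd 63028 = n117794 := ndS (p := 33778) (l := 5) rfl N33778 D117794
theorem N63029 : nd 63029 = n117800 := ndS (p := 33779) (l := 0) rfl N33779 D117800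
theorem N63030 : nd 63030 = n117802 := ndS (p := 33779) (l := 5) rfl N33779 D117802
theorem N63031 : nd 63031 = n117803 := ndS (p := 33779) (l := 7) rfl N33779 D117803
theorem N63032 : nd 63032 = n117805 := ndS (p := 33780) (l := 3) rfl N33780 D117805
theorem N63033 : nd 63033 = n117806 := ndS (p := 33780) (l := 4) rfl N33780 D117806
theorem N63034 : nd 63034 = n117808 := ndS (p := 33780) (l := 6) rfl N33780 D117808
theorem N63035 : nd 63035 = n117810 := ndS (p := 33781) (l := 3) rfl N33781 D117810
theorem N63036 : nd 63036 = n117811 := ndS (p := 33781) (l := 4) rfl N33781 D117811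
theorem N63037 : nd 63037 = n117815 := ndS (p := 33782) (l := 1) rfl N33782 D117815
theorem N63038 : nd 63038 = n117816 := ndS (p := 33782) (l := 4) rfl N33782 D117816
theorem N63039 : nd 63039 = n117818 := ndS (p := 33784) (l := 0) rfl N33784 D117818
theorem N63040 : nd 63040 = n117820 := ndS (p := 33784) (l := 2) rfl N33784 D117820
theorem N63041 : nd 63041 = n117821 := ndS (p := 33784) (l := 4) rfl N33784 D117821
theorem N63042 : nd 63042 = n117822 := ndS (p := 33784) (l := 5) rfl N33784 D117822
theorem N63043 : nd 63043 = n117823 := ndS (p := 33784) (l := 6) rfl N33784 D117823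
theorem N63044 : nd 63044 = n117826 := ndS (p := 33786) (l := 5) rfl N33786 D117826
theorem N63045 : nd 63045 = n117841 := ndS (p := 33787) (l := 3) rfl N33787 D117841
theorem N63046 : nd 63046 = n117842 := ndS (p := 33788) (l := 4) rfl N33788 D117842
theorem N63047 : nd 63047 = n117843 := ndS (p := 33789) (l := 4) rfl N33789 D117843
theorem N63048 : nd 63048 = n117844 := ndS (p := 33789) (l := 5) rfl N33789 D117844
theorem N63049 : nd 63049 = n117845 := ndS (p := 33790) (l := 0) rfl N33790 D117845
theorem N63050 : nd 63050 = n117846 := ndS (p := 33790) (l := 3) rfl N33790 D117846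
theorem N63051 : nd 63051 = n117847 := ndS (p := 33790) (l := 5) rfl N33790 D117847
theorem N63052 : nd 63052 = n117848 := ndS (p := 33791) (l := 4) rfl N33791 D117848
theorem N63053 : nd 63053 = n117849 := ndS (p := 33792) (l := 0) rfl N33792 D117849
theorem N63054 : nd 63054 = n117851 := ndS (p := 33792) (l := 2) rfl N33792 D117851
theorem N63055 : nd 63055 = n117853 := ndS (p := 33792) (l := 6) rfl N33792 D117853
theorem N63056 : nd 63056 = n117865 := ndS (p := 33797) (l := 4) rfl N33797 D117865
theorem N63057 : nd 63057 = n117868 := ndS (p := 33798) (l := 4) rfl N33798 D117868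
theorem N63058 : nd 63058 = n117870 := ndS (p := 33798) (l := 6) rfl N33798 D117870
theorem N63059 : nd 63059 = n117873 := ndS (p := 33799) (l := 3) rfl N33799 D117873
theorem N63060 : nd 63060 = n117875 := ndS (p := 33799) (l := 6) rfl N33799 D117875
theorem N63061 : nd 63061 = n117878 := ndS (p := 33800) (l := 4) rfl N33800 D117878
theorem N63062 : nd 63062 = n117879 := ndS (p := 33801) (l := 0) rfl N33801 D117879
theorem N63063 : nd 63063 = n117880 := ndS (p := 33801) (l := 1) rfl N33801 D117880
theorem N63064 : nd 63064 = n117881 := ndS (p := 33801) (l := 5) rfl N33801 D117881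
theorem N63065 : nd 63065 = n117884 := ndS (p := 33802) (l := 1) rfl N33802 D117884
theorem N63066 : nd 63066 = n117885 := ndS (p := 33802) (l := 2) rfl N33802 D117885
theorem N63067 : nd 63067 = n117896 := ndS (p := 33805) (l := 4) rfl N33805 D117896
theorem N63068 : nd 63068 = n117898 := ndS (p := 33805) (l := 6) rfl N33805 D117898
theorem N63069 : nd 63069 = n117900 := ndS (p := 33806) (l := 4) rfl N33806 D117900
theorem N63070 : nd 63070 = n117901 := ndS (p := 33806) (l := 6) rfl N33806 D117901
theorem N63071 : nd 63071 = n117905 := ndS (p := 33808) (l := 4) rfl N33808 D117905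
theorem N63072 : nd 63072 = n117906 := ndS (p := 33808) (l := 5) rfl N33808 D117906
theorem N63073 : nd 63073 = n117907 := ndS (p := 33808) (l := 6) rfl N33808 D117907
theorem N63074 : nd 63074 = n117908 := ndS (p := 33809) (l := 4) rfl N33809 D117908
theorem N63075 : nd 63075 = n117911 := ndS (p := 33811) (l := 4) rfl N33811 D117911
theorem N63076 : nd 63076 = n117913 := ndS (p := 33812) (l := 3) rfl N33812 D117913
theorem N63077 : nd 63077 = n117914 := ndS (p := 33812) (l := 4) rfl N33812 D117914
theorem N63078 : nd 63078 = n117915 := ndS (p := 33812) (l := 6) rfl N33812 D117915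
theorem N63079 : nd 63079 = n117916 := ndS (p := 33813) (l := 6) rfl N33813 D117916
theorem N63080 : nd 63080 = n117920 := ndS (p := 33814) (l := 7) rfl N33814 D117920
theorem N63081 : nd 63081 = n117951 := ndS (p := 33821) (l := 4) rfl N33821 D117951
theorem N63082 : nd 63082 = n117968 := ndS (p := 33825) (l := 3) rfl N33825 D117968
theorem N63083 : nd 63083 = n117972 := ndS (p := 33826) (l := 3) rfl N33826 D117972
theorem N63084 : nd 63084 = n117974 := ndS (p := 33827) (l := 3) rfl N33827 D117974
theorem N63085 : nd 63085 = n117983 := ndS (p := 33830) (l := 4) rfl N33830 D117983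
theorem N63086 : nd 63086 = n118000 := ndS (p := 33831) (l := 6) rfl N33831 D118000
theorem N63087 : nd 63087 = n118002 := ndS (p := 33832) (l := 1) rfl N33832 D118002
theorem N63088 : nd 63088 = n118027 := ndS (p := 33835) (l := 4) rfl N33835 D118027
theorem N63089 : nd 63089 = n118049 := ndS (p := 33836) (l := 1) rfl N33836 D118049
theorem N63090 : nd 63090 = n118067 := ndS (p := 33837) (l := 0) rfl N33837 D118067
theorem N63091 : nd 63091 = n118069 := ndS (p := 33837) (l := 5) rfl N33837 D118069
theorem N63092 : nd 63092 = n118070 := ndS (p := 33837) (l := 7) rfl N33837 D118070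
theorem N63093 : nd 63093 = n118071 := ndS (p := 33839) (l := 6) rfl N33839 D118071
theorem N63094 : nd 63094 = n118074 := ndS (p := 33840) (l := 5) rfl N33840 D118074
theorem N63095 : nd 63095 = n118075 := ndS (p := 33840) (l := 7) rfl N33840 D118075
theorem N63096 : nd 63096 = n118087 := ndS (p := 33846) (l := 3) rfl N33846 D118087
theorem N63097 : nd 63097 = n118090 := ndS (p := 33846) (l := 6) rfl N33846 D118090
theorem N63098 : nd 63098 = n118095 := ndS (p := 33847) (l := 6) rfl N33847 D118095
theorem N63099 : nd 63099 = n118096 := ndS (p := 33848) (l := 0) rfl N33848 D118096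
theorem N63100 : nd 63100 = n118099 := ndS (p := 33848) (l := 7) rfl N33848 D118099
theorem N63101 : nd 63101 = n118102 := ndS (p := 33850) (l := 5) rfl N33850 D118102
theorem N63102 : nd 63102 = n118103 := ndS (p := 33850) (l := 6) rfl N33850 D118103
theorem N63103 : nd 63103 = n118109 := ndS (p := 33851) (l := 4) rfl N33851 D118109
theorem N63104 : nd 63104 = n118110 := ndS (p := 33852) (l := 5) rfl N33852 D118110
theorem N63105 : nd 63105 = n118113 := ndS (p := 33853) (l := 6) rfl N33853 D118113
theorem N63106 : nd 63106 = n118122 := ndS (p := 33855) (l := 6) rfl N33855 D118122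
theorem N63107 : nd 63107 = n118128 := ndS (p := 33858) (l := 3) rfl N33858 D118128
theorem N63108 : nd 63108 = n118137 := ndS (p := 33860) (l := 7) rfl N33860 D118137
theorem N63109 : nd 63109 = n118145 := ndS (p := 33862) (l := 6) rfl N33862 D118145
theorem N63110 : nd 63110 = n118164 := ndS (p := 33865) (l := 1) rfl N33865 D118164
theorem N63111 : nd 63111 = n118166 := ndS (p := 33866) (l := 0) rfl N33866 D118166
theorem N63112 : nd 63112 = n118168 := ndS (p := 33866) (l := 5) rfl N33866 D118168
theorem N63113 : nd 63113 = n118169 := ndS (p := 33867) (l := 6) rfl N33867 D118169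
theorem N63114 : nd 63114 = n118170 := ndS (p := 33868) (l := 0) rfl N33868 D118170
theorem N63115 : nd 63115 = n118171 := ndS (p := 33868) (l := 1) rfl N33868 D118171
theorem N63116 : nd 63116 = n118172 := ndS (p := 33868) (l := 5) rfl N33868 D118172
theorem N63117 : nd 63117 = n118173 := ndS (p := 33868) (l := 7) rfl N33868 D118173
theorem N63118 : nd 63118 = n118179 := ndS (p := 33870) (l := 6) rfl N33870 D118179
theorem N63119 : nd 63119 = n118180 := ndS (p := 33871) (l := 0) rfl N33871 D118180
theorem N63120 : nd 63120 = n118181 := ndS (p := 33871) (l := 4) rfl N33871 D118181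
theorem N63121 : nd 63121 = n118182 := ndS (p := 33871) (l := 7) rfl N33871 D118182
theorem N63122 : nd 63122 = n118183 := ndS (p := 33873) (l := 0) rfl N33873 D118183
theorem N63123 : nd 63123 = n118184 := ndS (p := 33873) (l := 1) rfl N33873 D118184
theorem N63124 : nd 63124 = n118185 := ndS (p := 33873) (l := 3) rfl N33873 D118185
theorem N63125 : nd 63125 = n118186 := ndS (p := 33873) (l := 5) rfl N33873 D118186
theorem N63126 : nd 63126 = n118189 := ndS (p := 33874) (l := 5) rfl N33874 D118189
theorem N63127 : nd 63127 = n118190 := ndS (p := 33874) (l := 7) rfl N33874 D118190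
theorem N63128 : nd 63128 = n118192 := ndS (p := 33875) (l := 3) rfl N33875 D118192
theorem N63129 : nd 63129 = n118194 := ndS (p := 33875) (l := 5) rfl N33875 D118194
theorem N63130 : nd 63130 = n118195 := ndS (p := 33875) (l := 6) rfl N33875 D118195
theorem N63131 : nd 63131 = n118199 := ndS (p := 33876) (l := 5) rfl N33876 D118199
theorem N63132 : nd 63132 = n118200 := ndS (p := 33876) (l := 6) rfl N33876 D118200
theorem N63133 : nd 63133 = n118201 := ndS (p := 33877) (l := 0) rfl N33877 D118201
theorem N63134 : nd 63134 = n118202 := ndS (p := 33877) (l := 1) rfl N33877 D118202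
theorem N63135 : nd 63135 = n118203 := ndS (p := 33877) (l := 4) rfl N33877 D118203
theorem N63136 : nd 63136 = n118204 := ndS (p := 33877) (l := 7) rfl N33877 D118204
theorem N63137 : nd 63137 = n118215 := ndS (p := 33879) (l := 6) rfl N33879 D118215
theorem N63138 : nd 63138 = n118220 := ndS (p := 33880) (l := 5) rfl N33880 D118220
theorem N63139 : nd 63139 = n118221 := ndS (p := 33880) (l := 6) rfl N33880 D118221
theorem N63140 : nd 63140 = n118223 := ndS (p := 33881) (l := 4) rfl N33881 D118223
theorem N63141 : nd 63141 = n118231 := ndS (p := 33883) (l := 5) rfl N33883 D118231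
theorem N63142 : nd 63142 = n118232 := ndS (p := 33883) (l := 6) rfl N33883 D118232
theorem N63143 : nd 63143 = n118233 := ndS (p := 33884) (l := 3) rfl N33884 D118233
theorem N63144 : nd 63144 = n118234 := ndS (p := 33884) (l := 5) rfl N33884 D118234
theorem N63145 : nd 63145 = n118235 := ndS (p := 33884) (l := 6) rfl N33884 D118235
theorem N63146 : nd 63146 = n118236 := ndS (p := 33885) (l := 4) rfl N33885 D118236
theorem N63147 : nd 63147 = n118238 := ndS (p := 33886) (l := 7) rfl N33886 D118238
theorem N63148 : nd 63148 = n118239 := ndS (p := 33887) (l := 3) rfl N33887 D118239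
theorem N63149 : nd 63149 = n118240 := ndS (p := 33887) (l := 4) rfl N33887 D118240
theorem N63150 : nd 63150 = n118241 := ndS (p := 33887) (l := 6) rfl N33887 D118241
theorem N63151 : nd 63151 = n118242 := ndS (p := 33888) (l := 3) rfl N33888 D118242
theorem N63152 : nd 63152 = n118243 := ndS (p := 33888) (l := 4) rfl N33888 D118243
theorem N63153 : nd 63153 = n118244 := ndS (p := 33889) (l := 0) rfl N33889 D118244
theorem N63154 : nd 63154 = n118245 := ndS (p := 33889) (l := 1) rfl N33889 D118245
theorem N63155 : nd 63155 = n118247 := ndS (p := 33889) (l := 5) rfl N33889 D118247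
theorem N63156 : nd 63156 = n118248 := ndS (p := 33889) (l := 7) rfl N33889 D118248
theorem N63157 : nd 63157 = n118249 := ndS (p := 33890) (l := 6) rfl N33890 D118249
theorem N63158 : nd 63158 = n118250 := ndS (p := 33891) (l := 1) rfl N33891 D118250
theorem N63159 : nd 63159 = n118251 := ndS (p := 33891) (l := 6) rfl N33891 D118251
theorem N63160 : nd 63160 = n118252 := ndS (p := 33892) (l := 3) rfl N33892 D118252
theorem N63161 : nd 63161 = n118253 := ndS (p := 33892) (l := 5) rfl N33892 D118253
theorem N63162 : nd 63162 = n118254 := ndS (p := 33892) (l := 6) rfl N33892 D118254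
theorem N63163 : nd 63163 = n118258 := ndS (p := 33894) (l := 6) rfl N33894 D118258
theorem N63164 : nd 63164 = n118259 := ndS (p := 33895) (l := 3) rfl N33895 D118259
theorem N63165 : nd 63165 = n118260 := ndS (p := 33895) (l := 5) rfl N33895 D118260
theorem N63166 : nd 63166 = n118261 := ndS (p := 33895) (l := 6) rfl N33895 D118261
theorem N63167 : nd 63167 = n118265 := ndS (p := 33898) (l := 3) rfl N33898 D118265
theorem N63168 : nd 63168 = n118266 := ndS (p := 33898) (l := 5) rfl N33898 D118266
theorem N63169 : nd 63169 = n118271 := ndS (p := 33899) (l := 3) rfl N33899 D118271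
theorem N63170 : nd 63170 = n118272 := ndS (p := 33899) (l := 5) rfl N33899 D118272
theorem N63171 : nd 63171 = n118273 := ndS (p := 33899) (l := 6) rfl N33899 D118273
theorem N63172 : nd 63172 = n118274 := ndS (p := 33900) (l := 3) rfl N33900 D118274
theorem N63173 : nd 63173 = n118275 := ndS (p := 33900) (l := 5) rfl N33900 D118275
theorem N63174 : nd 63174 = n118281 := ndS (p := 33901) (l := 0) rfl N33901 D118281
theorem N63175 : nd 63175 = n118282 := ndS (p := 33901) (l := 1) rfl N33901 D118282
theorem N63176 : nd 63176 = n118283 := ndS (p := 33901) (l := 6) rfl N33901 D118283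
theorem N63177 : nd 63177 = n118284 := ndS (p := 33901) (l := 7) rfl N33901 D118284
theorem N63178 : nd 63178 = n118285 := ndS (p := 33902) (l := 6) rfl N33902 D118285
theorem N63179 : nd 63179 = n118286 := ndS (p := 33903) (l := 0) rfl N33903 D118286
theorem N63180 : nd 63180 = n118287 := ndS (p := 33903) (l := 1) rfl N33903 D118287
theorem N63181 : nd 63181 = n118290 := ndS (p := 33904) (l := 2) rfl N33904 D118290
theorem N63182 : nd 63182 = n118291 := ndS (p := 33904) (l := 4) rfl N33904 D118291
theorem N63183 : nd 63183 = n118308 := ndS (p := 33906) (l := 4) rfl N33906 D118308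
theorem N63184 : nd 63184 = n118309 := ndS (p := 33906) (l := 6) rfl N33906 D118309
theorem N63185 : nd 63185 = n118314 := ndS (p := 33910) (l := 5) rfl N33910 D118314
theorem N63186 : nd 63186 = n118329 := ndS (p := 33911) (l := 4) rfl N33911 D118329
theorem N63187 : nd 63187 = n118332 := ndS (p := 33912) (l := 6) rfl N33912 D118332
theorem N63188 : nd 63188 = n118333 := ndS (p := 33913) (l := 0) rfl N33913 D118333
theorem N63189 : nd 63189 = n118348 := ndS (p := 33915) (l := 5) rfl N33915 D118348
theorem N63190 : nd 63190 = n118409 := ndS (p := 33916) (l := 4) rfl N33916 D118409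
theorem N63191 : nd 63191 = n118410 := ndS (p := 33916) (l := 6) rfl N33916 D118410
theorem N63192 : nd 63192 = n118411 := ndS (p := 33917) (l := 4) rfl N33917 D118411
theorem N63193 : nd 63193 = n118412 := ndS (p := 33917) (l := 6) rfl N33917 D118412
theorem N63194 : nd 63194 = n118413 := ndS (p := 33918) (l := 0) rfl N33918 D118413
theorem N63195 : nd 63195 = n118414 := ndS (p := 33918) (l := 1) rfl N33918 D118414
theorem N63196 : nd 63196 = n118426 := ndS (p := 33920) (l := 0) rfl N33920 D118426
theorem N63197 : nd 63197 = n118427 := ndS (p := 33920) (l := 1) rfl N33920 D118427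
theorem N63198 : nd 63198 = n118429 := ndS (p := 33920) (l := 5) rfl N33920 D118429
theorem N63199 : nd 63199 = n118430 := ndS (p := 33920) (l := 6) rfl N33920 D118430
theorem N63200 : nd 63200 = n118431 := ndS (p := 33921) (l := 0) rfl N33921 D118431
theorem N63201 : nd 63201 = n118443 := ndS (p := 33922) (l := 0) rfl N33922 D118443
theorem N63202 : nd 63202 = n118445 := ndS (p := 33922) (l := 7) rfl N33922 D118445
theorem N63203 : nd 63203 = n118447 := ndS (p := 33924) (l := 0) rfl N33924 D118447
theorem N63204 : nd 63204 = n118448 := ndS (p := 33924) (l := 1) rfl N33924 D118448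
theorem N63205 : nd 63205 = n118449 := ndS (p := 33924) (l := 5) rfl N33924 D118449
theorem N63206 : nd 63206 = n118477 := ndS (p := 33932) (l := 4) rfl N33932 D118477
theorem N63207 : nd 63207 = n118478 := ndS (p := 33932) (l := 7) rfl N33932 D118478
theorem N63208 : nd 63208 = n118481 := ndS (p := 33935) (l := 4) rfl N33935 D118481
theorem N63209 : nd 63209 = n118482 := ndS (p := 33936) (l := 1) rfl N33936 D118482
theorem N63210 : nd 63210 = n118483 := ndS (p := 33936) (l := 3) rfl N33936 D118483
theorem N63211 : nd 63211 = n118484 := ndS (p := 33936) (l := 5) rfl N33936 D118484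
theorem N63212 : nd 63212 = n118485 := ndS (p := 33936) (l := 7) rfl N33936 D118485
theorem N63213 : nd 63213 = n118486 := ndS (p := 33937) (l := 6) rfl N33937 D118486
theorem N63214 : nd 63214 = n118487 := ndS (p := 33938) (l := 5) rfl N33938 D118487
theorem N63215 : nd 63215 = n118488 := ndS (p := 33938) (l := 7) rfl N33938 D118488
theorem N63216 : nd 63216 = n118489 := ndS (p := 33939) (l := 3) rfl N33939 D118489
theorem N63217 : nd 63217 = n118490 := ndS (p := 33939) (l := 6) rfl N33939 D118490
theorem N63218 : nd 63218 = n118491 := ndS (p := 33940) (l := 0) rfl N33940 D118491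
theorem N63219 : nd 63219 = n118497 := ndS (p := 33941) (l := 6) rfl N33941 D118497
theorem N63220 : nd 63220 = n118500 := ndS (p := 33942) (l := 6) rfl N33942 D118500
theorem N63221 : nd 63221 = n118520 := ndS (p := 33945) (l := 6) rfl N33945 D118520
theorem N63222 : nd 63222 = n118526 := ndS (p := 33949) (l := 0) rfl N33949 D118526
theorem N63223 : nd 63223 = n118527 := ndS (p := 33949) (l := 1) rfl N33949 D118527
theorem N63224 : nd 63224 = n118531 := ndS (p := 33950) (l := 6) rfl N33950 D118531
theorem N63225 : nd 63225 = n118532 := ndS (p := 33951) (l := 4) rfl N33951 D118532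
theorem N63226 : nd 63226 = n118533 := ndS (p := 33951) (l := 6) rfl N33951 D118533
theorem N63227 : nd 63227 = n118539 := ndS (p := 33952) (l := 0) rfl N33952 D118539
theorem N63228 : nd 63228 = n118541 := ndS (p := 33952) (l := 7) rfl N33952 D118541
theorem N63229 : nd 63229 = n118546 := ndS (p := 33955) (l := 1) rfl N33955 D118546
theorem N63230 : nd 63230 = n118547 := ndS (p := 33956) (l := 0) rfl N33956 D118547
theorem N63231 : nd 63231 = n118548 := ndS (p := 33956) (l := 5) rfl N33956 D118548
theorem N63232 : nd 63232 = n118549 := ndS (p := 33956) (l := 6) rfl N33956 D118549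
theorem N63233 : nd 63233 = n118550 := ndS (p := 33957) (l := 0) rfl N33957 D118550
theorem N63234 : nd 63234 = n118552 := ndS (p := 33957) (l := 7) rfl N33957 D118552
theorem N63235 : nd 63235 = n118554 := ndS (p := 33958) (l := 5) rfl N33958 D118554
theorem N63236 : nd 63236 = n118556 := ndS (p := 33959) (l := 7) rfl N33959 D118556
theorem N63237 : nd 63237 = n118557 := ndS (p := 33960) (l := 3) rfl N33960 D118557
theorem N63238 : nd 63238 = n118558 := ndS (p := 33960) (l := 5) rfl N33960 D118558
theorem N63239 : nd 63239 = n118559 := ndS (p := 33960) (l := 6) rfl N33960 D118559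
theorem N63240 : nd 63240 = n118560 := ndS (p := 33961) (l := 3) rfl N33961 D118560
theorem N63241 : nd 63241 = n118561 := ndS (p := 33961) (l := 5) rfl N33961 D118561
theorem N63242 : nd 63242 = n118562 := ndS (p := 33961) (l := 6) rfl N33961 D118562
theorem N63243 : nd 63243 = n118563 := ndS (p := 33962) (l := 0) rfl N33962 D118563
theorem N63244 : nd 63244 = n118564 := ndS (p := 33962) (l := 1) rfl N33962 D118564
theorem N63245 : nd 63245 = n118566 := ndS (p := 33962) (l := 5) rfl N33962 D118566
theorem N63246 : nd 63246 = n118568 := ndS (p := 33963) (l := 1) rfl N33963 D118568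
theorem N63247 : nd 63247 = n118570 := ndS (p := 33963) (l := 6) rfl N33963 D118570
theorem N63248 : nd 63248 = n118571 := ndS (p := 33963) (l := 7) rfl N33963 D118571
theorem N63249 : nd 63249 = n118572 := ndS (p := 33964) (l := 6) rfl N33964 D118572
theorem N63250 : nd 63250 = n118574 := ndS (p := 33965) (l := 1) rfl N33965 D118574
theorem N63251 : nd 63251 = n118600 := ndS (p := 33966) (l := 4) rfl N33966 D118600
theorem N63252 : nd 63252 = n118605 := ndS (p := 33967) (l := 5) rfl N33967 D118605
theorem N63253 : nd 63253 = n118606 := ndS (p := 33967) (l := 6) rfl N33967 D118606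
theorem N63254 : nd 63254 = n118628 := ndS (p := 33970) (l := 3) rfl N33970 D118628
theorem N63255 : nd 63255 = n118629 := ndS (p := 33970) (l := 4) rfl N33970 D118629
theorem N63256 : nd 63256 = n118631 := ndS (p := 33970) (l := 6) rfl N33970 D118631
theorem N63257 : nd 63257 = n118636 := ndS (p := 33971) (l := 6) rfl N33971 D118636
theorem N63258 : nd 63258 = n118646 := ndS (p := 33973) (l := 6) rfl N33973 D118646
theorem N63259 : nd 63259 = n118647 := ndS (p := 33974) (l := 6) rfl N33974 D118647
theorem N63260 : nd 63260 = n118648 := ndS (p := 33975) (l := 0) rfl N33975 D118648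
theorem N63261 : nd 63261 = n118650 := ndS (p := 33975) (l := 7) rfl N33975 D118650
theorem N63262 : nd 63262 = n118651 := ndS (p := 33976) (l := 3) rfl N33976 D118651
theorem N63263 : nd 63263 = n118653 := ndS (p := 33978) (l := 0) rfl N33978 D118653
theorem N63264 : nd 63264 = n118655 := ndS (p := 33978) (l := 5) rfl N33978 D118655
theorem N63265 : nd 63265 = n118672 := ndS (p := 33979) (l := 0) rfl N33979 D118672
theorem N63266 : nd 63266 = n118673 := ndS (p := 33979) (l := 1) rfl N33979 D118673
theorem N63267 : nd 63267 = n118674 := ndS (p := 33979) (l := 5) rfl N33979 D118674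
theorem N63268 : nd 63268 = n118675 := ndS (p := 33979) (l := 7) rfl N33979 D118675
theorem N63269 : nd 63269 = n118676 := ndS (p := 33980) (l := 1) rfl N33980 D118676
theorem N63270 : nd 63270 = n118677 := ndS (p := 33980) (l := 4) rfl N33980 D118677
theorem N63271 : nd 63271 = n118679 := ndS (p := 33982) (l := 0) rfl N33982 D118679
theorem N63272 : nd 63272 = n118680 := ndS (p := 33982) (l := 1) rfl N33982 D118680
theorem N63273 : nd 63273 = n118697 := ndS (p := 33983) (l := 6) rfl N33983 D118697
theorem N63274 : nd 63274 = n118698 := ndS (p := 33985) (l := 3) rfl N33985 D118698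
theorem N63275 : nd 63275 = n118699 := ndS (p := 33985) (l := 5) rfl N33985 D118699
theorem N63276 : nd 63276 = n118700 := ndS (p := 33986) (l := 3) rfl N33986 D118700
theorem N63277 : nd 63277 = n118701 := ndS (p := 33986) (l := 6) rfl N33986 D118701
theorem N63278 : nd 63278 = n118702 := ndS (p := 33987) (l := 0) rfl N33987 D118702
theorem N63279 : nd 63279 = n118703 := ndS (p := 33987) (l := 1) rfl N33987 D118703
theorem N63280 : nd 63280 = n118704 := ndS (p := 33987) (l := 5) rfl N33987 D118704
theorem N63281 : nd 63281 = n118705 := ndS (p := 33987) (l := 7) rfl N33987 D118705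
theorem N63282 : nd 63282 = n118706 := ndS (p := 33988) (l := 0) rfl N33988 D118706
theorem N63283 : nd 63283 = n118707 := ndS (p := 33988) (l := 4) rfl N33988 D118707
theorem N63284 : nd 63284 = n118708 := ndS (p := 33988) (l := 7) rfl N33988 D118708
theorem N63285 : nd 63285 = n118711 := ndS (p := 33990) (l := 6) rfl N33990 D118711
theorem N63286 : nd 63286 = n118713 := ndS (p := 33991) (l := 5) rfl N33991 D118713
theorem N63287 : nd 63287 = n118725 := ndS (p := 33993) (l := 4) rfl N33993 D118725
theorem N63288 : nd 63288 = n118727 := ndS (p := 33994) (l := 5) rfl N33994 D118727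
theorem N63289 : nd 63289 = n118728 := ndS (p := 33995) (l := 4) rfl N33995 D118728
theorem N63290 : nd 63290 = n118730 := ndS (p := 33996) (l := 4) rfl N33996 D118730
theorem N63291 : nd 63291 = n118732 := ndS (p := 33997) (l := 1) rfl N33997 D118732
theorem N63292 : nd 63292 = n118733 := ndS (p := 33997) (l := 3) rfl N33997 D118733
theorem N63293 : nd 63293 = n118734 := ndS (p := 33997) (l := 5) rfl N33997 D118734
theorem N63294 : nd 63294 = n118735 := ndS (p := 33997) (l := 7) rfl N33997 D118735
theorem N63295 : nd 63295 = n118736 := ndS (p := 33998) (l := 6) rfl N33998 D118736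
theorem N63296 : nd 63296 = n118742 := ndS (p := 34001) (l := 6) rfl N34001 D118742
theorem N63297 : nd 63297 = n118746 := ndS (p := 34003) (l := 0) rfl N34003 D118746
theorem N63298 : nd 63298 = n118747 := ndS (p := 34003) (l := 1) rfl N34003 D118747
theorem N63299 : nd 63299 = n118748 := ndS (p := 34003) (l := 5) rfl N34003 D118748
theorem N63300 : nd 63300 = n118749 := ndS (p := 34003) (l := 7) rfl N34003 D118749
theorem N63301 : nd 63301 = n118751 := ndS (p := 34004) (l := 3) rfl N34004 D118751
theorem N63302 : nd 63302 = n118752 := ndS (p := 34004) (l := 4) rfl N34004 D118752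
theorem N63303 : nd 63303 = n118753 := ndS (p := 34004) (l := 5) rfl N34004 D118753
theorem N63304 : nd 63304 = n118755 := ndS (p := 34005) (l := 3) rfl N34005 D118755
theorem N63305 : nd 63305 = n118756 := ndS (p := 34005) (l := 4) rfl N34005 D118756
theorem N63306 : nd 63306 = n118757 := ndS (p := 34005) (l := 5) rfl N34005 D118757
theorem N63307 : nd 63307 = n118758 := ndS (p := 34005) (l := 6) rfl N34005 D118758
theorem N63308 : nd 63308 = n118759 := ndS (p := 34006) (l := 0) rfl N34006 D118759
theorem N63309 : nd 63309 = n118760 := ndS (p := 34006) (l := 1) rfl N34006 D118760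
theorem N63310 : nd 63310 = n118761 := ndS (p := 34006) (l := 4) rfl N34006 D118761
theorem N63311 : nd 63311 = n118762 := ndS (p := 34006) (l := 7) rfl N34006 D118762
theorem N63312 : nd 63312 = n118763 := ndS (p := 34008) (l := 4) rfl N34008 D118763
theorem N63313 : nd 63313 = n118764 := ndS (p := 34009) (l := 4) rfl N34009 D118764
theorem N63314 : nd 63314 = n118765 := ndS (p := 34009) (l := 6) rfl N34009 D118765
theorem N63315 : nd 63315 = n118766 := ndS (p := 34010) (l := 3) rfl N34010 D118766
theorem N63316 : nd 63316 = n118767 := ndS (p := 34010) (l := 4) rfl N34010 D118767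
theorem N63317 : nd 63317 = n118768 := ndS (p := 34010) (l := 6) rfl N34010 D118768
theorem N63318 : nd 63318 = n118769 := ndS (p := 34011) (l := 4) rfl N34011 D118769
theorem N63319 : nd 63319 = n118770 := ndS (p := 34012) (l := 0) rfl N34012 D118770
theorem N63320 : nd 63320 = n118771 := ndS (p := 34012) (l := 1) rfl N34012 D118771
theorem N63321 : nd 63321 = n118772 := ndS (p := 34012) (l := 3) rfl N34012 D118772
theorem N63322 : nd 63322 = n118773 := ndS (p := 34012) (l := 5) rfl N34012 D118773
theorem N63323 : nd 63323 = n118774 := ndS (p := 34012) (l := 7) rfl N34012 D118774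
theorem N63324 : nd 63324 = n118775 := ndS (p := 34013) (l := 6) rfl N34013 D118775
theorem N63325 : nd 63325 = n118777 := ndS (p := 34014) (l := 6) rfl N34014 D118777
theorem N63326 : nd 63326 = n118784 := ndS (p := 34017) (l := 6) rfl N34017 D118784
theorem N63327 : nd 63327 = n118787 := ndS (p := 34018) (l := 5) rfl N34018 D118787
theorem N63328 : nd 63328 = n118797 := ndS (p := 34019) (l := 4) rfl N34019 D118797
theorem N63329 : nd 63329 = n118809 := ndS (p := 34020) (l := 6) rfl N34020 D118809
theorem N63330 : nd 63330 = n118814 := ndS (p := 34021) (l := 5) rfl N34021 D118814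
theorem N63331 : nd 63331 = n118815 := ndS (p := 34021) (l := 6) rfl N34021 D118815
theorem N63332 : nd 63332 = n118826 := ndS (p := 34023) (l := 1) rfl N34023 D118826
theorem N63333 : nd 63333 = n118827 := ndS (p := 34023) (l := 2) rfl N34023 D118827
theorem N63334 : nd 63334 = n118830 := ndS (p := 34023) (l := 6) rfl N34023 D118830
theorem N63335 : nd 63335 = n118841 := ndS (p := 34025) (l := 3) rfl N34025 D118841
theorem N63336 : nd 63336 = n118844 := ndS (p := 34025) (l := 6) rfl N34025 D118844
theorem N63337 : nd 63337 = n118846 := ndS (p := 34026) (l := 3) rfl N34026 D118846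
theorem N63338 : nd 63338 = n118850 := ndS (p := 34027) (l := 0) rfl N34027 D118850
theorem N63339 : nd 63339 = n118851 := ndS (p := 34027) (l := 1) rfl N34027 D118851
theorem N63340 : nd 63340 = n118856 := ndS (p := 34028) (l := 0) rfl N34028 D118856
theorem N63341 : nd 63341 = n118857 := ndS (p := 34028) (l := 1) rfl N34028 D118857
theorem N63342 : nd 63342 = n118858 := ndS (p := 34028) (l := 4) rfl N34028 D118858
theorem N63343 : nd 63343 = n118859 := ndS (p := 34028) (l := 6) rfl N34028 D118859
theorem N63344 : nd 63344 = n118860 := ndS (p := 34029) (l := 4) rfl N34029 D118860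
theorem N63345 : nd 63345 = n118861 := ndS (p := 34029) (l := 6) rfl N34029 D118861
theorem N63346 : nd 63346 = n118862 := ndS (p := 34030) (l := 3) rfl N34030 D118862
theorem N63347 : nd 63347 = n118863 := ndS (p := 34030) (l := 5) rfl N34030 D118863
theorem N63348 : nd 63348 = n118868 := ndS (p := 34031) (l := 4) rfl N34031 D118868
theorem N63349 : nd 63349 = n118869 := ndS (p := 34031) (l := 6) rfl N34031 D118869
theorem N63350 : nd 63350 = n118870 := ndS (p := 34032) (l := 3) rfl N34032 D118870
theorem N63351 : nd 63351 = n118871 := ndS (p := 34032) (l := 5) rfl N34032 D118871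
theorem N63352 : nd 63352 = n118872 := ndS (p := 34032) (l := 6) rfl N34032 D118872
theorem N63353 : nd 63353 = n118876 := ndS (p := 34034) (l := 6) rfl N34034 D118876
theorem N63354 : nd 63354 = n118877 := ndS (p := 34035) (l := 3) rfl N34035 D118877
theorem N63355 : nd 63355 = n118878 := ndS (p := 34035) (l := 5) rfl N34035 D118878
theorem N63356 : nd 63356 = n118879 := ndS (p := 34035) (l := 6) rfl N34035 D118879
theorem N63357 : nd 63357 = n118882 := ndS (p := 34036) (l := 5) rfl N34036 D118882
theorem N63358 : nd 63358 = n118884 := ndS (p := 34037) (l := 3) rfl N34037 D118884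
theorem N63359 : nd 63359 = n118885 := ndS (p := 34037) (l := 5) rfl N34037 D118885
theorem N63360 : nd 63360 = n118890 := ndS (p := 34038) (l := 3) rfl N34038 D118890
theorem N63361 : nd 63361 = n118891 := ndS (p := 34038) (l := 5) rfl N34038 D118891
theorem N63362 : nd 63362 = n118892 := ndS (p := 34038) (l := 6) rfl N34038 D118892
theorem N63363 : nd 63363 = n118893 := ndS (p := 34039) (l := 3) rfl N34039 D118893
theorem N63364 : nd 63364 = n118894 := ndS (p := 34039) (l := 5) rfl N34039 D118894
theorem N63365 : nd 63365 = n118900 := ndS (p := 34040) (l := 0) rfl N34040 D118900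
theorem N63366 : nd 63366 = n118901 := ndS (p := 34040) (l := 1) rfl N34040 D118901
theorem N63367 : nd 63367 = n118902 := ndS (p := 34040) (l := 4) rfl N34040 D118902
theorem N63368 : nd 63368 = n118903 := ndS (p := 34040) (l := 6) rfl N34040 D118903
theorem N63369 : nd 63369 = n118904 := ndS (p := 34040) (l := 7) rfl N34040 D118904
theorem N63370 : nd 63370 = n118905 := ndS (p := 34041) (l := 6) rfl N34041 D118905
theorem N63371 : nd 63371 = n118906 := ndS (p := 34042) (l := 0) rfl N34042 D118906
theorem N63372 : nd 63372 = n118907 := ndS (p := 34042) (l := 1) rfl N34042 D118907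
theorem N63373 : nd 63373 = n118909 := ndS (p := 34043) (l := 5) rfl N34043 D118909
theorem N63374 : nd 63374 = n118910 := ndS (p := 34044) (l := 4) rfl N34044 D118910
theorem N63375 : nd 63375 = n118913 := ndS (p := 34045) (l := 5) rfl N34045 D118913
theorem N63376 : nd 63376 = n118914 := ndS (p := 34045) (l := 6) rfl N34045 D118914
theorem N63377 : nd 63377 = n118917 := ndS (p := 34046) (l := 0) rfl N34046 D118917
theorem N63378 : nd 63378 = n118937 := ndS (p := 34048) (l := 5) rfl N34048 D118937
theorem N63379 : nd 63379 = n118945 := ndS (p := 34050) (l := 2) rfl N34050 D118945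
theorem N63380 : nd 63380 = n118963 := ndS (p := 34053) (l := 0) rfl N34053 D118963
theorem N63381 : nd 63381 = n118964 := ndS (p := 34053) (l := 5) rfl N34053 D118964
theorem N63382 : nd 63382 = n118999 := ndS (p := 34054) (l := 3) rfl N34054 D118999
theorem N63383 : nd 63383 = n119006 := ndS (p := 34056) (l := 3) rfl N34056 D119006
theorem N63384 : nd 63384 = n119007 := ndS (p := 34056) (l := 5) rfl N34056 D119007
theorem N63385 : nd 63385 = n119011 := ndS (p := 34058) (l := 6) rfl N34058 D119011
theorem N63386 : nd 63386 = n119012 := ndS (p := 34059) (l := 6) rfl N34059 D119012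
theorem N63387 : nd 63387 = n119016 := ndS (p := 34061) (l := 1) rfl N34061 D119016
theorem N63388 : nd 63388 = n119021 := ndS (p := 34064) (l := 6) rfl N34064 D119021
theorem N63389 : nd 63389 = n119025 := ndS (p := 34065) (l := 7) rfl N34065 D119025
theorem N63390 : nd 63390 = n119026 := ndS (p := 34066) (l := 4) rfl N34066 D119026
theorem N63391 : nd 63391 = n119045 := ndS (p := 34070) (l := 6) rfl N34070 D119045
theorem N63392 : nd 63392 = n119046 := ndS (p := 34071) (l := 0) rfl N34071 D119046
theorem N63393 : nd 63393 = n119047 := ndS (p := 34071) (l := 1) rfl N34071 D119047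
theorem N63394 : nd 63394 = n119048 := ndS (p := 34071) (l := 5) rfl N34071 D119048
theorem N63395 : nd 63395 = n119049 := ndS (p := 34071) (l := 7) rfl N34071 D119049
theorem N63396 : nd 63396 = n119050 := ndS (p := 34072) (l := 4) rfl N34072 D119050
theorem N63397 : nd 63397 = n119051 := ndS (p := 34073) (l := 3) rfl N34073 D119051
theorem N63398 : nd 63398 = n119055 := ndS (p := 34074) (l := 7) rfl N34074 D119055
theorem N63399 : nd 63399 = n119056 := ndS (p := 34075) (l := 6) rfl N34075 D119056
theorem N63400 : nd 63400 = n119061 := ndS (p := 34078) (l := 1) rfl N34078 D119061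
theorem N63401 : nd 63401 = n119062 := ndS (p := 34078) (l := 5) rfl N34078 D119062
theorem N63402 : nd 63402 = n119063 := ndS (p := 34078) (l := 7) rfl N34078 D119063
theorem N63403 : nd 63403 = n119064 := ndS (p := 34079) (l := 6) rfl N34079 D119064
theorem N63404 : nd 63404 = n119065 := ndS (p := 34080) (l := 4) rfl N34080 D119065
theorem N63405 : nd 63405 = n119066 := ndS (p := 34081) (l := 6) rfl N34081 D119066
theorem N63406 : nd 63406 = n119067 := ndS (p := 34082) (l := 0) rfl N34082 D119067
theorem N63407 : nd 63407 = n119068 := ndS (p := 34082) (l := 1) rfl N34082 D119068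
theorem N63408 : nd 63408 = n119069 := ndS (p := 34082) (l := 7) rfl N34082 D119069
theorem N63409 : nd 63409 = n119070 := ndS (p := 34083) (l := 3) rfl N34083 D119070
theorem N63410 : nd 63410 = n119072 := ndS (p := 34084) (l := 0) rfl N34084 D119072
theorem N63411 : nd 63411 = n119073 := ndS (p := 34084) (l := 1) rfl N34084 D119073
theorem N63412 : nd 63412 = n119074 := ndS (p := 34084) (l := 7) rfl N34084 D119074
theorem N63413 : nd 63413 = n119080 := ndS (p := 34085) (l := 6) rfl N34085 D119080
theorem N63414 : nd 63414 = n119092 := ndS (p := 34086) (l := 4) rfl N34086 D119092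
theorem N63415 : nd 63415 = n119094 := ndS (p := 34087) (l := 6) rfl N34087 D119094
theorem N63416 : nd 63416 = n119097 := ndS (p := 34088) (l := 5) rfl N34088 D119097
theorem N63417 : nd 63417 = n119098 := ndS (p := 34089) (l := 4) rfl N34089 D119098
theorem N63418 : nd 63418 = n119099 := ndS (p := 34090) (l := 4) rfl N34090 D119099
theorem N63419 : nd 63419 = n119100 := ndS (p := 34090) (l := 6) rfl N34090 D119100
theorem N63420 : nd 63420 = n119101 := ndS (p := 34091) (l := 3) rfl N34091 D119101
theorem N63421 : nd 63421 = n119102 := ndS (p := 34091) (l := 4) rfl N34091 D119102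
theorem N63422 : nd 63422 = n119103 := ndS (p := 34091) (l := 6) rfl N34091 D119103
theorem N63423 : nd 63423 = n119104 := ndS (p := 34092) (l := 3) rfl N34092 D119104
theorem N63424 : nd 63424 = n119105 := ndS (p := 34092) (l := 5) rfl N34092 D119105
theorem N63425 : nd 63425 = n119106 := ndS (p := 34092) (l := 7) rfl N34092 D119106
theorem N63426 : nd 63426 = n119109 := ndS (p := 34095) (l := 6) rfl N34095 D119109
theorem N63427 : nd 63427 = n119110 := ndS (p := 34096) (l := 0) rfl N34096 D119110
theorem N63428 : nd 63428 = n119111 := ndS (p := 34096) (l := 1) rfl N34096 D119111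
theorem N63429 : nd 63429 = n119112 := ndS (p := 34096) (l := 5) rfl N34096 D119112
theorem N63430 : nd 63430 = n119113 := ndS (p := 34096) (l := 7) rfl N34096 D119113
theorem N63431 : nd 63431 = n119114 := ndS (p := 34097) (l := 4) rfl N34097 D119114
theorem N63432 : nd 63432 = n119115 := ndS (p := 34097) (l := 5) rfl N34097 D119115
theorem N63433 : nd 63433 = n119118 := ndS (p := 34098) (l := 5) rfl N34098 D119118
theorem N63434 : nd 63434 = n119120 := ndS (p := 34100) (l := 7) rfl N34100 D119120
theorem N63435 : nd 63435 = n119123 := ndS (p := 34102) (l := 0) rfl N34102 D119123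
theorem N63436 : nd 63436 = n119125 := ndS (p := 34102) (l := 5) rfl N34102 D119125
theorem N63437 : nd 63437 = n119129 := ndS (p := 34104) (l := 6) rfl N34104 D119129
theorem N63438 : nd 63438 = n119130 := ndS (p := 34105) (l := 0) rfl N34105 D119130
theorem N63439 : nd 63439 = n119131 := ndS (p := 34105) (l := 1) rfl N34105 D119131
theorem N63440 : nd 63440 = n119132 := ndS (p := 34105) (l := 5) rfl N34105 D119132
theorem N63441 : nd 63441 = n119133 := ndS (p := 34105) (l := 7) rfl N34105 D119133
theorem N63442 : nd 63442 = n119139 := ndS (p := 34107) (l := 6) rfl N34107 D119139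
theorem N63443 : nd 63443 = n119144 := ndS (p := 34110) (l := 0) rfl N34110 D119144
theorem N63444 : nd 63444 = n119145 := ndS (p := 34110) (l := 1) rfl N34110 D119145
theorem N63445 : nd 63445 = n119158 := ndS (p := 34112) (l := 4) rfl N34112 D119158
theorem N63446 : nd 63446 = n119160 := ndS (p := 34113) (l := 5) rfl N34113 D119160
theorem N63447 : nd 63447 = n119161 := ndS (p := 34113) (l := 6) rfl N34113 D119161
theorem N63448 : nd 63448 = n119162 := ndS (p := 34114) (l := 1) rfl N34114 D119162
theorem N63449 : nd 63449 = n119166 := ndS (p := 34115) (l := 6) rfl N34115 D119166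
theorem N63450 : nd 63450 = n119167 := ndS (p := 34116) (l := 0) rfl N34116 D119167
theorem N63451 : nd 63451 = n119168 := ndS (p := 34116) (l := 1) rfl N34116 D119168
theorem N63452 : nd 63452 = n119169 := ndS (p := 34116) (l := 7) rfl N34116 D119169
theorem N63453 : nd 63453 = n119174 := ndS (p := 34117) (l := 5) rfl N34117 D119174
theorem N63454 : nd 63454 = n119175 := ndS (p := 34117) (l := 6) rfl N34117 D119175
theorem N63455 : nd 63455 = n119182 := ndS (p := 34118) (l := 1) rfl N34118 D119182
theorem N63456 : nd 63456 = n119185 := ndS (p := 34118) (l := 7) rfl N34118 D119185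
theorem N63457 : nd 63457 = n119189 := ndS (p := 34121) (l := 0) rfl N34121 D119189
theorem N63458 : nd 63458 = n119190 := ndS (p := 34121) (l := 1) rfl N34121 D119190
theorem N63459 : nd 63459 = n119196 := ndS (p := 34124) (l := 5) rfl N34124 D119196
theorem N63460 : nd 63460 = n119197 := ndS (p := 34125) (l := 5) rfl N34125 D119197
theorem N63461 : nd 63461 = n119201 := ndS (p := 34128) (l := 7) rfl N34128 D119201
theorem N63462 : nd 63462 = n119204 := ndS (p := 34129) (l := 5) rfl N34129 D119204
theorem N63463 : nd 63463 = n119205 := ndS (p := 34130) (l := 3) rfl N34130 D119205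
theorem N63464 : nd 63464 = n119207 := ndS (p := 34130) (l := 5) rfl N34130 D119207
theorem N63465 : nd 63465 = n119208 := ndS (p := 34130) (l := 6) rfl N34130 D119208
theorem N63466 : nd 63466 = n119209 := ndS (p := 34131) (l := 0) rfl N34131 D119209
theorem N63467 : nd 63467 = n119210 := ndS (p := 34131) (l := 1) rfl N34131 D119210
theorem N63468 : nd 63468 = n119211 := ndS (p := 34131) (l := 4) rfl N34131 D119211
theorem N63469 : nd 63469 = n119212 := ndS (p := 34131) (l := 7) rfl N34131 D119212
theorem N63470 : nd 63470 = n119213 := ndS (p := 34133) (l := 4) rfl N34133 D119213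
theorem N63471 : nd 63471 = n119214 := ndS (p := 34133) (l := 6) rfl N34133 D119214
theorem N63472 : nd 63472 = n119215 := ndS (p := 34134) (l := 4) rfl N34134 D119215
theorem N63473 : nd 63473 = n119216 := ndS (p := 34134) (l := 6) rfl N34134 D119216
theorem N63474 : nd 63474 = n119217 := ndS (p := 34135) (l := 4) rfl N34135 D119217
theorem N63475 : nd 63475 = n119218 := ndS (p := 34136) (l := 3) rfl N34136 D119218
theorem N63476 : nd 63476 = n119220 := ndS (p := 34137) (l := 6) rfl N34137 D119220
theorem N63477 : nd 63477 = n119224 := ndS (p := 34139) (l := 5) rfl N34139 D119224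
theorem N63478 : nd 63478 = n119227 := ndS (p := 34140) (l := 3) rfl N34140 D119227
theorem N63479 : nd 63479 = n119228 := ndS (p := 34140) (l := 4) rfl N34140 D119228
theorem N63480 : nd 63480 = n119229 := ndS (p := 34140) (l := 5) rfl N34140 D119229
theorem N63481 : nd 63481 = n119230 := ndS (p := 34140) (l := 6) rfl N34140 D119230
theorem N63482 : nd 63482 = n119231 := ndS (p := 34141) (l := 3) rfl N34141 D119231
theorem N63483 : nd 63483 = n119232 := ndS (p := 34141) (l := 5) rfl N34141 D119232
theorem N63484 : nd 63484 = n119233 := ndS (p := 34141) (l := 6) rfl N34141 D119233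
theorem N63485 : nd 63485 = n119236 := ndS (p := 34142) (l := 4) rfl N34142 D119236
theorem N63486 : nd 63486 = n119238 := ndS (p := 34144) (l := 3) rfl N34144 D119238
theorem N63487 : nd 63487 = n119239 := ndS (p := 34144) (l := 5) rfl N34144 D119239
theorem N63488 : nd 63488 = n119240 := ndS (p := 34144) (l := 6) rfl N34144 D119240
theorem N63489 : nd 63489 = n119241 := ndS (p := 34145) (l := 4) rfl N34145 D119241
theorem N63490 : nd 63490 = n119244 := ndS (p := 34148) (l := 0) rfl N34148 D119244
theorem N63491 : nd 63491 = n119245 := ndS (p := 34148) (l := 1) rfl N34148 D119245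
theorem N63492 : nd 63492 = n119248 := ndS (p := 34148) (l := 7) rfl N34148 D119248
theorem N63493 : nd 63493 = n119249 := ndS (p := 34149) (l := 6) rfl N34149 D119249
theorem N63494 : nd 63494 = n119252 := ndS (p := 34150) (l := 6) rfl N34150 D119252
theorem N63495 : nd 63495 = n119262 := ndS (p := 34153) (l := 3) rfl N34153 D119262
theorem N63496 : nd 63496 = n119263 := ndS (p := 34153) (l := 4) rfl N34153 D119263
theorem N63497 : nd 63497 = n119264 := ndS (p := 34153) (l := 5) rfl N34153 D119264
theorem N63498 : nd 63498 = n119266 := ndS (p := 34154) (l := 3) rfl N34154 D119266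
theorem N63499 : nd 63499 = n119267 := ndS (p := 34154) (l := 5) rfl N34154 D119267
theorem N63500 : nd 63500 = n119279 := ndS (p := 34155) (l := 6) rfl N34155 D119279
theorem N63501 : nd 63501 = n119280 := ndS (p := 34156) (l := 1) rfl N34156 D119280
theorem N63502 : nd 63502 = n119281 := ndS (p := 34157) (l := 0) rfl N34157 D119281
theorem N63503 : nd 63503 = n119282 := ndS (p := 34157) (l := 1) rfl N34157 D119282
theorem N63504 : nd 63504 = n119283 := ndS (p := 34157) (l := 5) rfl N34157 D119283
theorem N63505 : nd 63505 = n119284 := ndS (p := 34157) (l := 7) rfl N34157 D119284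
theorem N63506 : nd 63506 = n119286 := ndS (p := 34158) (l := 1) rfl N34158 D119286
theorem N63507 : nd 63507 = n119287 := ndS (p := 34158) (l := 5) rfl N34158 D119287
theorem N63508 : nd 63508 = n119288 := ndS (p := 34158) (l := 7) rfl N34158 D119288
theorem N63509 : nd 63509 = n119289 := ndS (p := 34159) (l := 3) rfl N34159 D119289
theorem N63510 : nd 63510 = n119290 := ndS (p := 34159) (l := 5) rfl N34159 D119290
theorem N63511 : nd 63511 = n119291 := ndS (p := 34159) (l := 6) rfl N34159 D119291
theorem N63512 : nd 63512 = n119293 := ndS (p := 34160) (l := 4) rfl N34160 D119293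
theorem N63513 : nd 63513 = n119294 := ndS (p := 34160) (l := 5) rfl N34160 D119294
theorem N63514 : nd 63514 = n119296 := ndS (p := 34161) (l := 0) rfl N34161 D119296
theorem N63515 : nd 63515 = n119297 := ndS (p := 34161) (l := 1) rfl N34161 D119297
theorem N63516 : nd 63516 = n119299 := ndS (p := 34161) (l := 7) rfl N34161 D119299
theorem N63517 : nd 63517 = n119300 := ndS (p := 34163) (l := 5) rfl N34163 D119300
theorem N63518 : nd 63518 = n119301 := ndS (p := 34164) (l := 0) rfl N34164 D119301
theorem N63519 : nd 63519 = n119302 := ndS (p := 34164) (l := 5) rfl N34164 D119302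
theorem N63520 : nd 63520 = n119303 := ndS (p := 34164) (l := 6) rfl N34164 D119303
theorem N63521 : nd 63521 = n119304 := ndS (p := 34165) (l := 4) rfl N34165 D119304
theorem N63522 : nd 63522 = n119307 := ndS (p := 34166) (l := 7) rfl N34166 D119307
theorem N63523 : nd 63523 = n119310 := ndS (p := 34167) (l := 5) rfl N34167 D119310
theorem N63524 : nd 63524 = n119313 := ndS (p := 34168) (l := 5) rfl N34168 D119313
theorem N63525 : nd 63525 = n119314 := ndS (p := 34168) (l := 6) rfl N34168 D119314
theorem N63526 : nd 63526 = n119315 := ndS (p := 34169) (l := 4) rfl N34169 D119315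
theorem N63527 : nd 63527 = n119318 := ndS (p := 34171) (l := 7) rfl N34171 D119318
theorem N63528 : nd 63528 = n119325 := ndS (p := 34173) (l := 3) rfl N34173 D119325
theorem N63529 : nd 63529 = n119329 := ndS (p := 34174) (l := 0) rfl N34174 D119329
theorem N63530 : nd 63530 = n119330 := ndS (p := 34174) (l := 1) rfl N34174 D119330
theorem N63531 : nd 63531 = n119331 := ndS (p := 34174) (l := 4) rfl N34174 D119331
theorem N63532 : nd 63532 = n119332 := ndS (p := 34174) (l := 7) rfl N34174 D119332
theorem N63533 : nd 63533 = n119333 := ndS (p := 34176) (l := 6) rfl N34176 D119333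
theorem N63534 : nd 63534 = n119334 := ndS (p := 34177) (l := 5) rfl N34177 D119334
theorem N63535 : nd 63535 = n119335 := ndS (p := 34178) (l := 5) rfl N34178 D119335
theorem N63536 : nd 63536 = n119336 := ndS (p := 34179) (l := 3) rfl N34179 D119336
theorem N63537 : nd 63537 = n119337 := ndS (p := 34179) (l := 5) rfl N34179 D119337
theorem N63538 : nd 63538 = n119338 := ndS (p := 34179) (l := 6) rfl N34179 D119338
theorem N63539 : nd 63539 = n119340 := ndS (p := 34180) (l := 5) rfl N34180 D119340
theorem N63540 : nd 63540 = n119343 := ndS (p := 34181) (l := 1) rfl N34181 D119343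
theorem N63541 : nd 63541 = n119344 := ndS (p := 34181) (l := 4) rfl N34181 D119344
theorem N63542 : nd 63542 = n119345 := ndS (p := 34181) (l := 7) rfl N34181 D119345
theorem N63543 : nd 63543 = n119352 := ndS (p := 34183) (l := 5) rfl N34183 D119352
theorem N63544 : nd 63544 = n119356 := ndS (p := 34184) (l := 4) rfl N34184 D119356
theorem N63545 : nd 63545 = n119358 := ndS (p := 34185) (l := 5) rfl N34185 D119358
theorem N63546 : nd 63546 = n119361 := ndS (p := 34187) (l := 4) rfl N34187 D119361
theorem N63547 : nd 63547 = n119365 := ndS (p := 34188) (l := 0) rfl N34188 D119365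
theorem N63548 : nd 63548 = n119366 := ndS (p := 34188) (l := 1) rfl N34188 D119366
theorem N63549 : nd 63549 = n119367 := ndS (p := 34188) (l := 3) rfl N34188 D119367
theorem N63550 : nd 63550 = n119368 := ndS (p := 34188) (l := 5) rfl N34188 D119368
theorem N63551 : nd 63551 = n119369 := ndS (p := 34188) (l := 7) rfl N34188 D119369
theorem N63552 : nd 63552 = n119371 := ndS (p := 34190) (l := 0) rfl N34190 D119371
theorem N63553 : nd 63553 = n119372 := ndS (p := 34190) (l := 5) rfl N34190 D119372
theorem N63554 : nd 63554 = n119373 := ndS (p := 34190) (l := 7) rfl N34190 D119373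
theorem N63555 : nd 63555 = n119374 := ndS (p := 34191) (l := 0) rfl N34191 D119374
theorem N63556 : nd 63556 = n119376 := ndS (p := 34191) (l := 5) rfl N34191 D119376
theorem N63557 : nd 63557 = n119377 := ndS (p := 34191) (l := 7) rfl N34191 D119377
theorem N63558 : nd 63558 = n119378 := ndS (p := 34192) (l := 3) rfl N34192 D119378
theorem N63559 : nd 63559 = n119381 := ndS (p := 34192) (l := 6) rfl N34192 D119381
theorem N63560 : nd 63560 = n119382 := ndS (p := 34193) (l := 3) rfl N34193 D119382
theorem N63561 : nd 63561 = n119384 := ndS (p := 34193) (l := 6) rfl N34193 D119384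
theorem N63562 : nd 63562 = n119391 := ndS (p := 34196) (l := 5) rfl N34196 D119391
theorem N63563 : nd 63563 = n119392 := ndS (p := 34197) (l := 0) rfl N34197 D119392
theorem N63564 : nd 63564 = n119393 := ndS (p := 34197) (l := 4) rfl N34197 D119393
theorem N63565 : nd 63565 = n119397 := ndS (p := 34198) (l := 3) rfl N34198 D119397
theorem N63566 : nd 63566 = n119398 := ndS (p := 34198) (l := 5) rfl N34198 D119398
theorem N63567 : nd 63567 = n119399 := ndS (p := 34198) (l := 6) rfl N34198 D119399
theorem N63568 : nd 63568 = n119401 := ndS (p := 34200) (l := 5) rfl N34200 D119401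
theorem N63569 : nd 63569 = n119402 := ndS (p := 34201) (l := 4) rfl N34201 D119402
theorem N63570 : nd 63570 = n119403 := ndS (p := 34201) (l := 6) rfl N34201 D119403
theorem N63571 : nd 63571 = n119404 := ndS (p := 34202) (l := 3) rfl N34202 D119404
theorem N63572 : nd 63572 = n119409 := ndS (p := 34204) (l := 6) rfl N34204 D119409
theorem N63573 : nd 63573 = n119416 := ndS (p := 34205) (l := 5) rfl N34205 D119416
theorem N63574 : nd 63574 = n119417 := ndS (p := 34205) (l := 7) rfl N34205 D119417
theorem N63575 : nd 63575 = n119418 := ndS (p := 34206) (l := 0) rfl N34206 D119418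
theorem N63576 : nd 63576 = n119419 := ndS (p := 34206) (l := 1) rfl N34206 D119419
theorem N63577 : nd 63577 = n119420 := ndS (p := 34206) (l := 5) rfl N34206 D119420
theorem N63578 : nd 63578 = n119421 := ndS (p := 34206) (l := 7) rfl N34206 D119421
theorem N63579 : nd 63579 = n119432 := ndS (p := 34207) (l := 0) rfl N34207 D119432
theorem N63580 : nd 63580 = n119433 := ndS (p := 34207) (l := 1) rfl N34207 D119433
theorem N63581 : nd 63581 = n119434 := ndS (p := 34207) (l := 4) rfl N34207 D119434
theorem N63582 : nd 63582 = n119435 := ndS (p := 34207) (l := 7) rfl N34207 D119435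
theorem N63583 : nd 63583 = n119436 := ndS (p := 34209) (l := 3) rfl N34209 D119436
theorem N63584 : nd 63584 = n119437 := ndS (p := 34209) (l := 6) rfl N34209 D119437
theorem N63585 : nd 63585 = n119438 := ndS (p := 34210) (l := 6) rfl N34210 D119438
theorem N63586 : nd 63586 = n119439 := ndS (p := 34211) (l := 6) rfl N34211 D119439
theorem N63587 : nd 63587 = n119440 := ndS (p := 34212) (l := 0) rfl N34212 D119440
theorem N63588 : nd 63588 = n119441 := ndS (p := 34212) (l := 1) rfl N34212 D119441
theorem N63589 : nd 63589 = n119442 := ndS (p := 34212) (l := 5) rfl N34212 D119442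
theorem N63590 : nd 63590 = n119443 := ndS (p := 34212) (l := 7) rfl N34212 D119443
theorem N63591 : nd 63591 = n119449 := ndS (p := 34214) (l := 5) rfl N34214 D119449
theorem N63592 : nd 63592 = n119450 := ndS (p := 34214) (l := 7) rfl N34214 D119450
theorem N63593 : nd 63593 = n119465 := ndS (p := 34217) (l := 4) rfl N34217 D119465
theorem N63594 : nd 63594 = n119466 := ndS (p := 34217) (l := 6) rfl N34217 D119466
theorem N63595 : nd 63595 = n119467 := ndS (p := 34218) (l := 0) rfl N34218 D119467
theorem N63596 : nd 63596 = n119468 := ndS (p := 34218) (l := 1) rfl N34218 D119468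
theorem N63597 : nd 63597 = n119469 := ndS (p := 34218) (l := 5) rfl N34218 D119469
theorem N63598 : nd 63598 = n119470 := ndS (p := 34218) (l := 7) rfl N34218 D119470
theorem N63599 : nd 63599 = n119476 := ndS (p := 34219) (l := 1) rfl N34219 D119476
theorem N63600 : nd 63600 = n119477 := ndS (p := 34219) (l := 5) rfl N34219 D119477
theorem N63601 : nd 63601 = n119478 := ndS (p := 34219) (l := 7) rfl N34219 D119478
theorem N63602 : nd 63602 = n119480 := ndS (p := 34220) (l := 3) rfl N34220 D119480
theorem N63603 : nd 63603 = n119483 := ndS (p := 34220) (l := 6) rfl N34220 D119483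
theorem N63604 : nd 63604 = n119488 := ndS (p := 34221) (l := 6) rfl N34221 D119488
theorem N63605 : nd 63605 = n119489 := ndS (p := 34222) (l := 0) rfl N34222 D119489
theorem N63606 : nd 63606 = n119490 := ndS (p := 34222) (l := 1) rfl N34222 D119490
theorem N63607 : nd 63607 = n119491 := ndS (p := 34222) (l := 4) rfl N34222 D119491
theorem N63608 : nd 63608 = n119492 := ndS (p := 34222) (l := 7) rfl N34222 D119492
theorem N63609 : nd 63609 = n119497 := ndS (p := 34224) (l := 5) rfl N34224 D119497
theorem N63610 : nd 63610 = n119499 := ndS (p := 34225) (l := 0) rfl N34225 D119499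
theorem N63611 : nd 63611 = n119501 := ndS (p := 34225) (l := 5) rfl N34225 D119501
theorem N63612 : nd 63612 = n119502 := ndS (p := 34225) (l := 6) rfl N34225 D119502
theorem N63613 : nd 63613 = n119503 := ndS (p := 34226) (l := 0) rfl N34226 D119503
theorem N63614 : nd 63614 = n119504 := ndS (p := 34226) (l := 1) rfl N34226 D119504
theorem N63615 : nd 63615 = n119505 := ndS (p := 34226) (l := 4) rfl N34226 D119505
theorem N63616 : nd 63616 = n119506 := ndS (p := 34226) (l := 6) rfl N34226 D119506
theorem N63617 : nd 63617 = n119508 := ndS (p := 34227) (l := 1) rfl N34227 D119508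
theorem N63618 : nd 63618 = n119509 := ndS (p := 34227) (l := 5) rfl N34227 D119509
theorem N63619 : nd 63619 = n119512 := ndS (p := 34228) (l := 1) rfl N34228 D119512
theorem N63620 : nd 63620 = n119517 := ndS (p := 34229) (l := 5) rfl N34229 D119517
theorem N63621 : nd 63621 = n119519 := ndS (p := 34230) (l := 4) rfl N34230 D119519
theorem N63622 : nd 63622 = n119526 := ndS (p := 34232) (l := 3) rfl N34232 D119526
theorem N63623 : nd 63623 = n119528 := ndS (p := 34232) (l := 5) rfl N34232 D119528
theorem N63624 : nd 63624 = n119533 := ndS (p := 34233) (l := 5) rfl N34233 D119533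
theorem N63625 : nd 63625 = n119538 := ndS (p := 34234) (l := 5) rfl N34234 D119538
theorem N63626 : nd 63626 = n119540 := ndS (p := 34235) (l := 6) rfl N34235 D119540
theorem N63627 : nd 63627 = n119544 := ndS (p := 34237) (l := 5) rfl N34237 D119544
theorem N63628 : nd 63628 = n119545 := ndS (p := 34237) (l := 6) rfl N34237 D119545
theorem N63629 : nd 63629 = n119549 := ndS (p := 34239) (l := 0) rfl N34239 D119549
theorem N63630 : nd 63630 = n119550 := ndS (p := 34239) (l := 1) rfl N34239 D119550
theorem N63631 : nd 63631 = n119553 := ndS (p := 34240) (l := 0) rfl N34240 D119553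
theorem N63632 : nd 63632 = n119554 := ndS (p := 34240) (l := 1) rfl N34240 D119554
theorem N63633 : nd 63633 = n119556 := ndS (p := 34240) (l := 7) rfl N34240 D119556
theorem N63634 : nd 63634 = n119557 := ndS (p := 34241) (l := 3) rfl N34241 D119557
theorem N63635 : nd 63635 = n119558 := ndS (p := 34241) (l := 5) rfl N34241 D119558
theorem N63636 : nd 63636 = n119562 := ndS (p := 34242) (l := 5) rfl N34242 D119562
theorem N63637 : nd 63637 = n119564 := ndS (p := 34243) (l := 0) rfl N34243 D119564
theorem N63638 : nd 63638 = n119565 := ndS (p := 34243) (l := 1) rfl N34243 D119565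
theorem N63639 : nd 63639 = n119566 := ndS (p := 34243) (l := 4) rfl N34243 D119566
theorem N63640 : nd 63640 = n119567 := ndS (p := 34243) (l := 6) rfl N34243 D119567
theorem N63641 : nd 63641 = n119568 := ndS (p := 34244) (l := 1) rfl N34244 D119568
theorem N63642 : nd 63642 = n119570 := ndS (p := 34244) (l := 7) rfl N34244 D119570
theorem N63643 : nd 63643 = n119572 := ndS (p := 34245) (l := 4) rfl N34245 D119572
theorem N63644 : nd 63644 = n119573 := ndS (p := 34245) (l := 6) rfl N34245 D119573
theorem N63645 : nd 63645 = n119574 := ndS (p := 34246) (l := 4) rfl N34246 D119574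
theorem N63646 : nd 63646 = n119575 := ndS (p := 34247) (l := 0) rfl N34247 D119575
theorem N63647 : nd 63647 = n119576 := ndS (p := 34247) (l := 1) rfl N34247 D119576
theorem N63648 : nd 63648 = n119577 := ndS (p := 34247) (l := 3) rfl N34247 D119577
theorem N63649 : nd 63649 = n119578 := ndS (p := 34247) (l := 5) rfl N34247 D119578
theorem N63650 : nd 63650 = n119579 := ndS (p := 34247) (l := 6) rfl N34247 D119579
theorem N63651 : nd 63651 = n119583 := ndS (p := 34249) (l := 5) rfl N34249 D119583
theorem N63652 : nd 63652 = n119585 := ndS (p := 34252) (l := 5) rfl N34252 D119585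
theorem N63653 : nd 63653 = n119586 := ndS (p := 34252) (l := 6) rfl N34252 D119586
theorem N63654 : nd 63654 = n119591 := ndS (p := 34253) (l := 1) rfl N34253 D119591
theorem N63655 : nd 63655 = n119594 := ndS (p := 34254) (l := 7) rfl N34254 D119594
theorem N63656 : nd 63656 = n119596 := ndS (p := 34255) (l := 5) rfl N34255 D119596
theorem N63657 : nd 63657 = n119598 := ndS (p := 34256) (l := 4) rfl N34256 D119598
theorem N63658 : nd 63658 = n119599 := ndS (p := 34256) (l := 6) rfl N34256 D119599
theorem N63659 : nd 63659 = n119603 := ndS (p := 34257) (l := 7) rfl N34257 D119603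
theorem N63660 : nd 63660 = n119604 := ndS (p := 34258) (l := 3) rfl N34258 D119604
theorem N63661 : nd 63661 = n119605 := ndS (p := 34258) (l := 5) rfl N34258 D119605
theorem N63662 : nd 63662 = n119606 := ndS (p := 34258) (l := 6) rfl N34258 D119606
theorem N63663 : nd 63663 = n119610 := ndS (p := 34261) (l := 4) rfl N34261 D119610
theorem N63664 : nd 63664 = n119611 := ndS (p := 34261) (l := 6) rfl N34261 D119611
theorem N63665 : nd 63665 = n119612 := ndS (p := 34262) (l := 3) rfl N34262 D119612
theorem N63666 : nd 63666 = n119613 := ndS (p := 34262) (l := 5) rfl N34262 D119613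
theorem N63667 : nd 63667 = n119614 := ndS (p := 34262) (l := 6) rfl N34262 D119614
theorem N63668 : nd 63668 = n119615 := ndS (p := 34263) (l := 0) rfl N34263 D119615
theorem N63669 : nd 63669 = n119617 := ndS (p := 34263) (l := 7) rfl N34263 D119617
theorem N63670 : nd 63670 = n119618 := ndS (p := 34264) (l := 0) rfl N34264 D119618
theorem N63671 : nd 63671 = n119619 := ndS (p := 34264) (l := 1) rfl N34264 D119619
theorem N63672 : nd 63672 = n119620 := ndS (p := 34264) (l := 3) rfl N34264 D119620
theorem N63673 : nd 63673 = n119621 := ndS (p := 34264) (l := 5) rfl N34264 D119621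
theorem N63674 : nd 63674 = n119622 := ndS (p := 34264) (l := 6) rfl N34264 D119622
theorem N63675 : nd 63675 = n119623 := ndS (p := 34265) (l := 0) rfl N34265 D119623
theorem N63676 : nd 63676 = n119624 := ndS (p := 34265) (l := 1) rfl N34265 D119624
theorem N63677 : nd 63677 = n119625 := ndS (p := 34265) (l := 7) rfl N34265 D119625
theorem N63678 : nd 63678 = n119627 := ndS (p := 34266) (l := 5) rfl N34266 D119627
theorem N63679 : nd 63679 = n119628 := ndS (p := 34267) (l := 3) rfl N34267 D119628
theorem N63680 : nd 63680 = n119629 := ndS (p := 34267) (l := 5) rfl N34267 D119629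
theorem N63681 : nd 63681 = n119630 := ndS (p := 34267) (l := 6) rfl N34267 D119630
theorem N63682 : nd 63682 = n119631 := ndS (p := 34268) (l := 3) rfl N34268 D119631
theorem N63683 : nd 63683 = n119632 := ndS (p := 34268) (l := 5) rfl N34268 D119632
theorem N63684 : nd 63684 = n119634 := ndS (p := 34269) (l := 0) rfl N34269 D119634
theorem N63685 : nd 63685 = n119636 := ndS (p := 34269) (l := 2) rfl N34269 D119636
theorem N63686 : nd 63686 = n119637 := ndS (p := 34269) (l := 5) rfl N34269 D119637
theorem N63687 : nd 63687 = n119638 := ndS (p := 34270) (l := 0) rfl N34270 D119638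
theorem N63688 : nd 63688 = n119639 := ndS (p := 34270) (l := 1) rfl N34270 D119639
theorem N63689 : nd 63689 = n119640 := ndS (p := 34270) (l := 4) rfl N34270 D119640
theorem N63690 : nd 63690 = n119641 := ndS (p := 34270) (l := 6) rfl N34270 D119641
theorem N63691 : nd 63691 = n119643 := ndS (p := 34272) (l := 1) rfl N34272 D119643
theorem N63692 : nd 63692 = n119644 := ndS (p := 34272) (l := 5) rfl N34272 D119644
theorem N63693 : nd 63693 = n119645 := ndS (p := 34272) (l := 7) rfl N34272 D119645
theorem N63694 : nd 63694 = n119654 := ndS (p := 34277) (l := 6) rfl N34277 D119654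
theorem N63695 : nd 63695 = n119657 := ndS (p := 34280) (l := 3) rfl N34280 D119657
theorem N63696 : nd 63696 = n119658 := ndS (p := 34280) (l := 6) rfl N34280 D119658
theorem N63697 : nd 63697 = n119661 := ndS (p := 34281) (l := 5) rfl N34281 D119661
theorem N63698 : nd 63698 = n119663 := ndS (p := 34282) (l := 3) rfl N34282 D119663
theorem N63699 : nd 63699 = n119664 := ndS (p := 34282) (l := 5) rfl N34282 D119664
theorem N63700 : nd 63700 = n119667 := ndS (p := 34283) (l := 5) rfl N34283 D119667
theorem N63701 : nd 63701 = n119668 := ndS (p := 34283) (l := 6) rfl N34283 D119668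
theorem N63702 : nd 63702 = n119669 := ndS (p := 34284) (l := 0) rfl N34284 D119669
theorem N63703 : nd 63703 = n119670 := ndS (p := 34284) (l := 1) rfl N34284 D119670
theorem N63704 : nd 63704 = n119686 := ndS (p := 34286) (l := 4) rfl N34286 D119686
theorem N63705 : nd 63705 = n119688 := ndS (p := 34286) (l := 6) rfl N34286 D119688
theorem N63706 : nd 63706 = n119689 := ndS (p := 34287) (l := 3) rfl N34287 D119689
theorem N63707 : nd 63707 = n119690 := ndS (p := 34287) (l := 5) rfl N34287 D119690
theorem N63708 : nd 63708 = n119693 := ndS (p := 34288) (l := 6) rfl N34288 D119693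
theorem N63709 : nd 63709 = n119695 := ndS (p := 34289) (l := 5) rfl N34289 D119695
theorem N63710 : nd 63710 = n119697 := ndS (p := 34290) (l := 4) rfl N34290 D119697
theorem N63711 : nd 63711 = n119702 := ndS (p := 34291) (l := 0) rfl N34291 D119702
theorem N63712 : nd 63712 = n119703 := ndS (p := 34291) (l := 1) rfl N34291 D119703
theorem N63713 : nd 63713 = n119720 := ndS (p := 34293) (l := 0) rfl N34293 D119720
theorem N63714 : nd 63714 = n119721 := ndS (p := 34293) (l := 1) rfl N34293 D119721
theorem N63715 : nd 63715 = n119722 := ndS (p := 34293) (l := 4) rfl N34293 D119722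
theorem N63716 : nd 63716 = n119726 := ndS (p := 34294) (l := 3) rfl N34294 D119726
theorem N63717 : nd 63717 = n119741 := ndS (p := 34300) (l := 5) rfl N34300 D119741
theorem N63718 : nd 63718 = n119742 := ndS (p := 34300) (l := 6) rfl N34300 D119742
theorem N63719 : nd 63719 = n119747 := ndS (p := 34303) (l := 4) rfl N34303 D119747
theorem N63720 : nd 63720 = n119752 := ndS (p := 34306) (l := 1) rfl N34306 D119752
theorem N63721 : nd 63721 = n119757 := ndS (p := 34307) (l := 5) rfl N34307 D119757
theorem N63722 : nd 63722 = n119763 := ndS (p := 34309) (l := 3) rfl N34309 D119763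
theorem N63723 : nd 63723 = n119775 := ndS (p := 34311) (l := 5) rfl N34311 D119775
theorem N63724 : nd 63724 = n119776 := ndS (p := 34311) (l := 6) rfl N34311 D119776
theorem N63725 : nd 63725 = n119777 := ndS (p := 34312) (l := 0) rfl N34312 D119777
theorem N63726 : nd 63726 = n119781 := ndS (p := 34312) (l := 6) rfl N34312 D119781
theorem N63727 : nd 63727 = n119782 := ndS (p := 34313) (l := 0) rfl N34313 D119782
theorem N63728 : nd 63728 = n119783 := ndS (p := 34313) (l := 1) rfl N34313 D119783
theorem N63729 : nd 63729 = n119799 := ndS (p := 34318) (l := 6) rfl N34318 D119799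
theorem N63730 : nd 63730 = n119800 := ndS (p := 34320) (l := 6) rfl N34320 D119800
theorem N63731 : nd 63731 = n119818 := ndS (p := 34322) (l := 0) rfl N34322 D119818
theorem N63732 : nd 63732 = n119819 := ndS (p := 34322) (l := 1) rfl N34322 D119819
theorem N63733 : nd 63733 = n119826 := ndS (p := 34323) (l := 5) rfl N34323 D119826
theorem N63734 : nd 63734 = n119829 := ndS (p := 34325) (l := 1) rfl N34325 D119829
theorem N63735 : nd 63735 = n119830 := ndS (p := 34325) (l := 7) rfl N34325 D119830
theorem N63736 : nd 63736 = n119832 := ndS (p := 34326) (l := 4) rfl N34326 D119832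
theorem N63737 : nd 63737 = n119838 := ndS (p := 34329) (l := 6) rfl N34329 D119838
theorem N63738 : nd 63738 = n119839 := ndS (p := 34331) (l := 5) rfl N34331 D119839
theorem N63739 : nd 63739 = n119841 := ndS (p := 34332) (l := 5) rfl N34332 D119841
theorem N63740 : nd 63740 = n119842 := ndS (p := 34332) (l := 6) rfl N34332 D119842
theorem N63741 : nd 63741 = n119843 := ndS (p := 34333) (l := 4) rfl N34333 D119843
theorem N63742 : nd 63742 = n119847 := ndS (p := 34335) (l := 3) rfl N34335 D119847
theorem N63743 : nd 63743 = n119849 := ndS (p := 34335) (l := 5) rfl N34335 D119849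
theorem N63744 : nd 63744 = n119850 := ndS (p := 34336) (l := 0) rfl N34336 D119850
theorem N63745 : nd 63745 = n119851 := ndS (p := 34336) (l := 1) rfl N34336 D119851
theorem N63746 : nd 63746 = n119852 := ndS (p := 34336) (l := 4) rfl N34336 D119852
theorem N63747 : nd 63747 = n119853 := ndS (p := 34336) (l := 6) rfl N34336 D119853
theorem N63748 : nd 63748 = n119854 := ndS (p := 34337) (l := 0) rfl N34337 D119854
theorem N63749 : nd 63749 = n119855 := ndS (p := 34337) (l := 1) rfl N34337 D119855
theorem N63750 : nd 63750 = n119856 := ndS (p := 34337) (l := 5) rfl N34337 D119856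
theorem N63751 : nd 63751 = n119858 := ndS (p := 34338) (l := 4) rfl N34338 D119858
theorem N63752 : nd 63752 = n119861 := ndS (p := 34339) (l := 4) rfl N34339 D119861
theorem N63753 : nd 63753 = n119863 := ndS (p := 34340) (l := 1) rfl N34340 D119863
theorem N63754 : nd 63754 = n119865 := ndS (p := 34340) (l := 5) rfl N34340 D119865
theorem N63755 : nd 63755 = n119874 := ndS (p := 34342) (l := 6) rfl N34342 D119874
theorem N63756 : nd 63756 = n119877 := ndS (p := 34344) (l := 4) rfl N34344 D119877
theorem N63757 : nd 63757 = n119881 := ndS (p := 34346) (l := 3) rfl N34346 D119881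
theorem N63758 : nd 63758 = n119923 := ndS (p := 34349) (l := 4) rfl N34349 D119923
theorem N63759 : nd 63759 = n119940 := ndS (p := 34350) (l := 3) rfl N34350 D119940
theorem N63760 : nd 63760 = n119948 := ndS (p := 34351) (l := 6) rfl N34351 D119948
theorem N63761 : nd 63761 = n119953 := ndS (p := 34352) (l := 6) rfl N34352 D119953
theorem N63762 : nd 63762 = n119970 := ndS (p := 34354) (l := 0) rfl N34354 D119970
theorem N63763 : nd 63763 = n119971 := ndS (p := 34354) (l := 1) rfl N34354 D119971
theorem N63764 : nd 63764 = n119972 := ndS (p := 34354) (l := 2) rfl N34354 D119972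
theorem N63765 : nd 63765 = n119981 := ndS (p := 34355) (l := 3) rfl N34355 D119981
theorem N63766 : nd 63766 = n119994 := ndS (p := 34358) (l := 0) rfl N34358 D119994
theorem N63767 : nd 63767 = n119996 := ndS (p := 34358) (l := 6) rfl N34358 D119996
theorem N63768 : nd 63768 = n119999 := ndS (p := 34360) (l := 6) rfl N34360 D119999
theorem N63769 : nd 63769 = n120000 := ndS (p := 34361) (l := 0) rfl N34361 D120000
theorem N63770 : nd 63770 = n120001 := ndS (p := 34361) (l := 7) rfl N34361 D120001
theorem N63771 : nd 63771 = n120005 := ndS (p := 34362) (l := 6) rfl N34362 D120005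
theorem N63772 : nd 63772 = n120009 := ndS (p := 34364) (l := 6) rfl N34364 D120009
theorem N63773 : nd 63773 = n120011 := ndS (p := 34365) (l := 4) rfl N34365 D120011
theorem N63774 : nd 63774 = n120012 := ndS (p := 34367) (l := 0) rfl N34367 D120012
theorem N63775 : nd 63775 = n120015 := ndS (p := 34367) (l := 6) rfl N34367 D120015
theorem N63776 : nd 63776 = n120017 := ndS (p := 34368) (l := 1) rfl N34368 D120017
theorem N63777 : nd 63777 = n120022 := ndS (p := 34369) (l := 6) rfl N34369 D120022
theorem N63778 : nd 63778 = n120025 := ndS (p := 34370) (l := 5) rfl N34370 D120025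
theorem N63779 : nd 63779 = n120029 := ndS (p := 34371) (l := 4) rfl N34371 D120029
theorem N63780 : nd 63780 = n120030 := ndS (p := 34371) (l := 5) rfl N34371 D120030
theorem N63781 : nd 63781 = n120038 := ndS (p := 34375) (l := 0) rfl N34375 D120038
theorem N63782 : nd 63782 = n120040 := ndS (p := 34375) (l := 7) rfl N34375 D120040
theorem N63783 : nd 63783 = n120044 := ndS (p := 34376) (l := 6) rfl N34376 D120044
theorem N63784 : nd 63784 = n120045 := ndS (p := 34377) (l := 0) rfl N34377 D120045
theorem N63785 : nd 63785 = n120046 := ndS (p := 34377) (l := 1) rfl N34377 D120046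
theorem N63786 : nd 63786 = n120050 := ndS (p := 34379) (l := 3) rfl N34379 D120050
theorem N63787 : nd 63787 = n120052 := ndS (p := 34381) (l := 0) rfl N34381 D120052
theorem N63788 : nd 63788 = n120054 := ndS (p := 34381) (l := 2) rfl N34381 D120054
theorem N63789 : nd 63789 = n120055 := ndS (p := 34381) (l := 6) rfl N34381 D120055
theorem N63790 : nd 63790 = n120058 := ndS (p := 34382) (l := 5) rfl N34382 D120058
theorem N63791 : nd 63791 = n120059 := ndS (p := 34382) (l := 7) rfl N34382 D120059
theorem N63792 : nd 63792 = n120060 := ndS (p := 34383) (l := 0) rfl N34383 D120060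
theorem N63793 : nd 63793 = n120062 := ndS (p := 34383) (l := 2) rfl N34383 D120062
theorem N63794 : nd 63794 = n120063 := ndS (p := 34383) (l := 4) rfl N34383 D120063
theorem N63795 : nd 63795 = n120064 := ndS (p := 34383) (l := 6) rfl N34383 D120064
theorem N63796 : nd 63796 = n120069 := ndS (p := 34385) (l := 4) rfl N34385 D120069
theorem N63797 : nd 63797 = n120070 := ndS (p := 34385) (l := 5) rfl N34385 D120070
theorem N63798 : nd 63798 = n120073 := ndS (p := 34386) (l := 3) rfl N34386 D120073
theorem N63799 : nd 63799 = n120075 := ndS (p := 34386) (l := 5) rfl N34386 D120075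
theorem N63800 : nd 63800 = n120093 := ndS (p := 34390) (l := 2) rfl N34390 D120093
theorem N63801 : nd 63801 = n120094 := ndS (p := 34390) (l := 6) rfl N34390 D120094
theorem N63802 : nd 63802 = n120097 := ndS (p := 34392) (l := 3) rfl N34392 D120097
theorem N63803 : nd 63803 = n120100 := ndS (p := 34396) (l := 0) rfl N34396 D120100
theorem N63804 : nd 63804 = n120102 := ndS (p := 34396) (l := 5) rfl N34396 D120102
theorem N63805 : nd 63805 = n120103 := ndS (p := 34396) (l := 7) rfl N34396 D120103
theorem N63806 : nd 63806 = n120105 := ndS (p := 34397) (l := 3) rfl N34397 D120105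
theorem N63807 : nd 63807 = n120106 := ndS (p := 34397) (l := 4) rfl N34397 D120106
theorem N63808 : nd 63808 = n120107 := ndS (p := 34397) (l := 5) rfl N34397 D120107
theorem N63809 : nd 63809 = n120108 := ndS (p := 34397) (l := 6) rfl N34397 D120108
theorem N63810 : nd 63810 = n120111 := ndS (p := 34398) (l := 4) rfl N34398 D120111
theorem N63811 : nd 63811 = n120112 := ndS (p := 34398) (l := 5) rfl N34398 D120112
theorem N63812 : nd 63812 = n120113 := ndS (p := 34398) (l := 6) rfl N34398 D120113
theorem N63813 : nd 63813 = n120115 := ndS (p := 34400) (l := 4) rfl N34400 D120115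
theorem N63814 : nd 63814 = n120116 := ndS (p := 34400) (l := 5) rfl N34400 D120116
theorem N63815 : nd 63815 = n120117 := ndS (p := 34400) (l := 6) rfl N34400 D120117
theorem N63816 : nd 63816 = n120118 := ndS (p := 34401) (l := 4) rfl N34401 D120118
theorem N63817 : nd 63817 = n120119 := ndS (p := 34401) (l := 6) rfl N34401 D120119
theorem N63818 : nd 63818 = n120121 := ndS (p := 34404) (l := 4) rfl N34404 D120121
theorem N63819 : nd 63819 = n120122 := ndS (p := 34408) (l := 4) rfl N34408 D120122
theorem N63820 : nd 63820 = n120123 := ndS (p := 34408) (l := 6) rfl N34408 D120123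
theorem N63821 : nd 63821 = n120124 := ndS (p := 34408) (l := 7) rfl N34408 D120124
theorem N63822 : nd 63822 = n120125 := ndS (p := 34410) (l := 0) rfl N34410 D120125
theorem N63823 : nd 63823 = n120126 := ndS (p := 34410) (l := 1) rfl N34410 D120126
theorem N63824 : nd 63824 = n120128 := ndS (p := 34410) (l := 5) rfl N34410 D120128
theorem N63825 : nd 63825 = n120130 := ndS (p := 34410) (l := 7) rfl N34410 D120130
theorem N63826 : nd 63826 = n120133 := ndS (p := 34412) (l := 6) rfl N34412 D120133
theorem N63827 : nd 63827 = n120134 := ndS (p := 34413) (l := 4) rfl N34413 D120134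
theorem N63828 : nd 63828 = n120135 := ndS (p := 34413) (l := 6) rfl N34413 D120135
theorem N63829 : nd 63829 = n120136 := ndS (p := 34414) (l := 3) rfl N34414 D120136
theorem N63830 : nd 63830 = n120137 := ndS (p := 34414) (l := 5) rfl N34414 D120137
theorem N63831 : nd 63831 = n120138 := ndS (p := 34414) (l := 6) rfl N34414 D120138
theorem N63832 : nd 63832 = n120139 := ndS (p := 34415) (l := 1) rfl N34415 D120139
theorem N63833 : nd 63833 = n120140 := ndS (p := 34415) (l := 7) rfl N34415 D120140
theorem N63834 : nd 63834 = n120146 := ndS (p := 34417) (l := 6) rfl N34417 D120146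
theorem N63835 : nd 63835 = n120148 := ndS (p := 34418) (l := 1) rfl N34418 D120148
theorem N63836 : nd 63836 = n120149 := ndS (p := 34418) (l := 2) rfl N34418 D120149
theorem N63837 : nd 63837 = n120150 := ndS (p := 34418) (l := 5) rfl N34418 D120150
theorem N63838 : nd 63838 = n120153 := ndS (p := 34419) (l := 1) rfl N34419 D120153
theorem N63839 : nd 63839 = n120154 := ndS (p := 34419) (l := 4) rfl N34419 D120154
theorem N63840 : nd 63840 = n120156 := ndS (p := 34420) (l := 0) rfl N34420 D120156
theorem N63841 : nd 63841 = n120158 := ndS (p := 34420) (l := 5) rfl N34420 D120158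
theorem N63842 : nd 63842 = n120159 := ndS (p := 34420) (l := 7) rfl N34420 D120159
theorem N63843 : nd 63843 = n120160 := ndS (p := 34421) (l := 3) rfl N34421 D120160
theorem N63844 : nd 63844 = n120161 := ndS (p := 34421) (l := 4) rfl N34421 D120161
theorem N63845 : nd 63845 = n120162 := ndS (p := 34421) (l := 6) rfl N34421 D120162
theorem N63846 : nd 63846 = n120172 := ndS (p := 34424) (l := 4) rfl N34424 D120172
theorem N63847 : nd 63847 = n120182 := ndS (p := 34427) (l := 4) rfl N34427 D120182
theorem N63848 : nd 63848 = n120183 := ndS (p := 34427) (l := 6) rfl N34427 D120183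
theorem N63849 : nd 63849 = n120187 := ndS (p := 34430) (l := 5) rfl N34430 D120187
theorem N63850 : nd 63850 = n120190 := ndS (p := 34431) (l := 3) rfl N34431 D120190
theorem N63851 : nd 63851 = n120191 := ndS (p := 34431) (l := 5) rfl N34431 D120191
theorem N63852 : nd 63852 = n120193 := ndS (p := 34432) (l := 3) rfl N34432 D120193
theorem N63853 : nd 63853 = n120196 := ndS (p := 34434) (l := 5) rfl N34434 D120196
theorem N63854 : nd 63854 = n120206 := ndS (p := 34437) (l := 5) rfl N34437 D120206
theorem N63855 : nd 63855 = n120207 := ndS (p := 34437) (l := 6) rfl N34437 D120207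
theorem N63856 : nd 63856 = n120209 := ndS (p := 34438) (l := 3) rfl N34438 D120209
theorem N63857 : nd 63857 = n120211 := ndS (p := 34438) (l := 5) rfl N34438 D120211
theorem N63858 : nd 63858 = n120212 := ndS (p := 34438) (l := 6) rfl N34438 D120212
theorem N63859 : nd 63859 = n120214 := ndS (p := 34439) (l := 1) rfl N34439 D120214
theorem N63860 : nd 63860 = n120220 := ndS (p := 34441) (l := 5) rfl N34441 D120220
theorem N63861 : nd 63861 = n120223 := ndS (p := 34442) (l := 5) rfl N34442 D120223
theorem N63862 : nd 63862 = n120225 := ndS (p := 34443) (l := 4) rfl N34443 D120225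
theorem N63863 : nd 63863 = n120226 := ndS (p := 34443) (l := 6) rfl N34443 D120226
theorem N63864 : nd 63864 = n120228 := ndS (p := 34444) (l := 5) rfl N34444 D120228
theorem N63865 : nd 63865 = n120229 := ndS (p := 34444) (l := 6) rfl N34444 D120229
theorem N63866 : nd 63866 = n120230 := ndS (p := 34445) (l := 4) rfl N34445 D120230
theorem N63867 : nd 63867 = n120231 := ndS (p := 34447) (l := 5) rfl N34447 D120231
theorem N63868 : nd 63868 = n120233 := ndS (p := 34448) (l := 4) rfl N34448 D120233
theorem N63869 : nd 63869 = n120256 := ndS (p := 34451) (l := 6) rfl N34451 D120256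
theorem N63870 : nd 63870 = n120261 := ndS (p := 34455) (l := 5) rfl N34455 D120261
theorem N63871 : nd 63871 = n120266 := ndS (p := 34457) (l := 5) rfl N34457 D120266
theorem N63872 : nd 63872 = n120267 := ndS (p := 34458) (l := 3) rfl N34458 D120267
theorem N63873 : nd 63873 = n120268 := ndS (p := 34458) (l := 5) rfl N34458 D120268
theorem N63874 : nd 63874 = n120269 := ndS (p := 34458) (l := 6) rfl N34458 D120269
theorem N63875 : nd 63875 = n120270 := ndS (p := 34459) (l := 0) rfl N34459 D120270
theorem N63876 : nd 63876 = n120271 := ndS (p := 34459) (l := 1) rfl N34459 D120271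
theorem N63877 : nd 63877 = n120272 := ndS (p := 34459) (l := 2) rfl N34459 D120272
theorem N63878 : nd 63878 = n120273 := ndS (p := 34459) (l := 5) rfl N34459 D120273
theorem N63879 : nd 63879 = n120274 := ndS (p := 34460) (l := 0) rfl N34460 D120274
theorem N63880 : nd 63880 = n120275 := ndS (p := 34460) (l := 1) rfl N34460 D120275
theorem N63881 : nd 63881 = n120280 := ndS (p := 34461) (l := 5) rfl N34461 D120280
theorem N63882 : nd 63882 = n120284 := ndS (p := 34462) (l := 4) rfl N34462 D120284
theorem N63883 : nd 63883 = n120286 := ndS (p := 34464) (l := 3) rfl N34464 D120286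
theorem N63884 : nd 63884 = n120291 := ndS (p := 34467) (l := 0) rfl N34467 D120291
theorem N63885 : nd 63885 = n120292 := ndS (p := 34467) (l := 1) rfl N34467 D120292
theorem N63886 : nd 63886 = n120293 := ndS (p := 34467) (l := 2) rfl N34467 D120293
theorem N63887 : nd 63887 = n120294 := ndS (p := 34467) (l := 5) rfl N34467 D120294
theorem N63888 : nd 63888 = n120295 := ndS (p := 34468) (l := 0) rfl N34468 D120295
theorem N63889 : nd 63889 = n120296 := ndS (p := 34468) (l := 6) rfl N34468 D120296
theorem N63890 : nd 63890 = n120299 := ndS (p := 34470) (l := 6) rfl N34470 D120299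
theorem N63891 : nd 63891 = n120300 := ndS (p := 34471) (l := 6) rfl N34471 D120300
theorem N63892 : nd 63892 = n120301 := ndS (p := 34472) (l := 6) rfl N34472 D120301
theorem N63893 : nd 63893 = n120304 := ndS (p := 34473) (l := 5) rfl N34473 D120304
theorem N63894 : nd 63894 = n120305 := ndS (p := 34473) (l := 7) rfl N34473 D120305
theorem N63895 : nd 63895 = n120306 := ndS (p := 34474) (l := 0) rfl N34474 D120306
theorem N63896 : nd 63896 = n120308 := ndS (p := 34474) (l := 5) rfl N34474 D120308
theorem N63897 : nd 63897 = n120309 := ndS (p := 34474) (l := 7) rfl N34474 D120309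
theorem N63898 : nd 63898 = n120310 := ndS (p := 34475) (l := 3) rfl N34475 D120310
theorem N63899 : nd 63899 = n120311 := ndS (p := 34475) (l := 5) rfl N34475 D120311
theorem N63900 : nd 63900 = n120312 := ndS (p := 34475) (l := 6) rfl N34475 D120312
theorem N63901 : nd 63901 = n120313 := ndS (p := 34476) (l := 3) rfl N34476 D120313
theorem N63902 : nd 63902 = n120314 := ndS (p := 34476) (l := 5) rfl N34476 D120314
theorem N63903 : nd 63903 = n120318 := ndS (p := 34477) (l := 7) rfl N34477 D120318
theorem N63904 : nd 63904 = n120321 := ndS (p := 34479) (l := 5) rfl N34479 D120321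
theorem N63905 : nd 63905 = n120322 := ndS (p := 34479) (l := 6) rfl N34479 D120322
theorem N63906 : nd 63906 = n120327 := ndS (p := 34481) (l := 5) rfl N34481 D120327
theorem N63907 : nd 63907 = n120335 := ndS (p := 34484) (l := 6) rfl N34484 D120335
theorem N63908 : nd 63908 = n120368 := ndS (p := 34489) (l := 1) rfl N34489 D120368
theorem N63909 : nd 63909 = n120369 := ndS (p := 34489) (l := 6) rfl N34489 D120369
theorem N63910 : nd 63910 = n120376 := ndS (p := 34490) (l := 5) rfl N34490 D120376
theorem N63911 : nd 63911 = n120377 := ndS (p := 34490) (l := 7) rfl N34490 D120377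
theorem N63912 : nd 63912 = n120381 := ndS (p := 34491) (l := 0) rfl N34491 D120381
theorem N63913 : nd 63913 = n120382 := ndS (p := 34491) (l := 1) rfl N34491 D120382
theorem N63914 : nd 63914 = n120383 := ndS (p := 34491) (l := 4) rfl N34491 D120383
theorem N63915 : nd 63915 = n120385 := ndS (p := 34492) (l := 3) rfl N34492 D120385
theorem N63916 : nd 63916 = n120386 := ndS (p := 34492) (l := 5) rfl N34492 D120386
theorem N63917 : nd 63917 = n120389 := ndS (p := 34493) (l := 4) rfl N34493 D120389
theorem N63918 : nd 63918 = n120390 := ndS (p := 34493) (l := 6) rfl N34493 D120390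
theorem N63919 : nd 63919 = n120391 := ndS (p := 34494) (l := 6) rfl N34494 D120391
theorem N63920 : nd 63920 = n120393 := ndS (p := 34496) (l := 0) rfl N34496 D120393
theorem N63921 : nd 63921 = n120394 := ndS (p := 34496) (l := 4) rfl N34496 D120394
theorem N63922 : nd 63922 = n120395 := ndS (p := 34496) (l := 6) rfl N34496 D120395
theorem N63923 : nd 63923 = n120400 := ndS (p := 34497) (l := 0) rfl N34497 D120400
theorem N63924 : nd 63924 = n120403 := ndS (p := 34497) (l := 7) rfl N34497 D120403
theorem N63925 : nd 63925 = n120409 := ndS (p := 34498) (l := 6) rfl N34498 D120409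
theorem N63926 : nd 63926 = n120412 := ndS (p := 34499) (l := 6) rfl N34499 D120412
theorem N63927 : nd 63927 = n120415 := ndS (p := 34500) (l := 5) rfl N34500 D120415
theorem N63928 : nd 63928 = n120418 := ndS (p := 34501) (l := 1) rfl N34501 D120418
theorem N63929 : nd 63929 = n120419 := ndS (p := 34501) (l := 5) rfl N34501 D120419
theorem N63930 : nd 63930 = n120420 := ndS (p := 34501) (l := 7) rfl N34501 D120420
theorem N63931 : nd 63931 = n120421 := ndS (p := 34502) (l := 1) rfl N34502 D120421
theorem N63932 : nd 63932 = n120422 := ndS (p := 34502) (l := 4) rfl N34502 D120422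
theorem N63933 : nd 63933 = n120427 := ndS (p := 34503) (l := 6) rfl N34503 D120427
theorem N63934 : nd 63934 = n120428 := ndS (p := 34504) (l := 5) rfl N34504 D120428
theorem N63935 : nd 63935 = n120429 := ndS (p := 34505) (l := 0) rfl N34505 D120429
theorem N63936 : nd 63936 = n120431 := ndS (p := 34505) (l := 5) rfl N34505 D120431
theorem N63937 : nd 63937 = n120432 := ndS (p := 34505) (l := 7) rfl N34505 D120432
theorem N63938 : nd 63938 = n120433 := ndS (p := 34506) (l := 3) rfl N34506 D120433
theorem N63939 : nd 63939 = n120434 := ndS (p := 34506) (l := 6) rfl N34506 D120434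
theorem N63940 : nd 63940 = n120435 := ndS (p := 34507) (l := 0) rfl N34507 D120435
theorem N63941 : nd 63941 = n120436 := ndS (p := 34507) (l := 1) rfl N34507 D120436
theorem N63942 : nd 63942 = n120437 := ndS (p := 34507) (l := 5) rfl N34507 D120437
theorem N63943 : nd 63943 = n120438 := ndS (p := 34507) (l := 7) rfl N34507 D120438
theorem N63944 : nd 63944 = n120442 := ndS (p := 34508) (l := 6) rfl N34508 D120442
theorem N63945 : nd 63945 = n120450 := ndS (p := 34510) (l := 4) rfl N34510 D120450
theorem N63946 : nd 63946 = n120451 := ndS (p := 34510) (l := 7) rfl N34510 D120451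
theorem N63947 : nd 63947 = n120452 := ndS (p := 34512) (l := 0) rfl N34512 D120452
theorem N63948 : nd 63948 = n120453 := ndS (p := 34512) (l := 1) rfl N34512 D120453
theorem N63949 : nd 63949 = n120454 := ndS (p := 34512) (l := 6) rfl N34512 D120454
theorem N63950 : nd 63950 = n120455 := ndS (p := 34513) (l := 0) rfl N34513 D120455
theorem N63951 : nd 63951 = n120456 := ndS (p := 34513) (l := 1) rfl N34513 D120456
theorem N63952 : nd 63952 = n120457 := ndS (p := 34513) (l := 5) rfl N34513 D120457
theorem N63953 : nd 63953 = n120458 := ndS (p := 34513) (l := 7) rfl N34513 D120458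
theorem N63954 : nd 63954 = n120462 := ndS (p := 34514) (l := 5) rfl N34514 D120462
theorem N63955 : nd 63955 = n120463 := ndS (p := 34514) (l := 6) rfl N34514 D120463
theorem N63956 : nd 63956 = n120465 := ndS (p := 34515) (l := 3) rfl N34515 D120465
theorem N63957 : nd 63957 = n120466 := ndS (p := 34515) (l := 4) rfl N34515 D120466
theorem N63958 : nd 63958 = n120467 := ndS (p := 34515) (l := 5) rfl N34515 D120467
theorem N63959 : nd 63959 = n120468 := ndS (p := 34515) (l := 6) rfl N34515 D120468
theorem N63960 : nd 63960 = n120470 := ndS (p := 34516) (l := 1) rfl N34516 D120470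
theorem N63961 : nd 63961 = n120471 := ndS (p := 34516) (l := 4) rfl N34516 D120471
theorem N63962 : nd 63962 = n120472 := ndS (p := 34516) (l := 7) rfl N34516 D120472
theorem N63963 : nd 63963 = n120473 := ndS (p := 34518) (l := 0) rfl N34518 D120473
theorem N63964 : nd 63964 = n120475 := ndS (p := 34518) (l := 2) rfl N34518 D120475
theorem N63965 : nd 63965 = n120476 := ndS (p := 34518) (l := 5) rfl N34518 D120476
theorem N63966 : nd 63966 = n120477 := ndS (p := 34518) (l := 6) rfl N34518 D120477
theorem N63967 : nd 63967 = n120479 := ndS (p := 34519) (l := 4) rfl N34519 D120479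
theorem N63968 : nd 63968 = n120480 := ndS (p := 34519) (l := 6) rfl N34519 D120480
theorem N63969 : nd 63969 = n120482 := ndS (p := 34520) (l := 5) rfl N34520 D120482
theorem N63970 : nd 63970 = n120483 := ndS (p := 34520) (l := 7) rfl N34520 D120483
theorem N63971 : nd 63971 = n120485 := ndS (p := 34521) (l := 1) rfl N34521 D120485
theorem N63972 : nd 63972 = n120486 := ndS (p := 34521) (l := 2) rfl N34521 D120486
theorem N63973 : nd 63973 = n120487 := ndS (p := 34521) (l := 4) rfl N34521 D120487
theorem N63974 : nd 63974 = n120488 := ndS (p := 34521) (l := 5) rfl N34521 D120488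
theorem N63975 : nd 63975 = n120490 := ndS (p := 34522) (l := 4) rfl N34522 D120490
theorem N63976 : nd 63976 = n120495 := ndS (p := 34524) (l := 3) rfl N34524 D120495
theorem N63977 : nd 63977 = n120496 := ndS (p := 34524) (l := 4) rfl N34524 D120496
theorem N63978 : nd 63978 = n120497 := ndS (p := 34524) (l := 6) rfl N34524 D120497
theorem N63979 : nd 63979 = n120499 := ndS (p := 34525) (l := 4) rfl N34525 D120499
theorem N63980 : nd 63980 = n120500 := ndS (p := 34525) (l := 6) rfl N34525 D120500
theorem N63981 : nd 63981 = n120503 := ndS (p := 34526) (l := 3) rfl N34526 D120503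
theorem N63982 : nd 63982 = n120504 := ndS (p := 34526) (l := 5) rfl N34526 D120504
theorem N63983 : nd 63983 = n120506 := ndS (p := 34527) (l := 6) rfl N34527 D120506
theorem N63984 : nd 63984 = n120523 := ndS (p := 34530) (l := 4) rfl N34530 D120523
theorem N63985 : nd 63985 = n120524 := ndS (p := 34530) (l := 6) rfl N34530 D120524
theorem N63986 : nd 63986 = n120526 := ndS (p := 34531) (l := 5) rfl N34531 D120526
theorem N63987 : nd 63987 = n120531 := ndS (p := 34532) (l := 3) rfl N34532 D120531
theorem N63988 : nd 63988 = n120532 := ndS (p := 34532) (l := 5) rfl N34532 D120532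
theorem N63989 : nd 63989 = n120533 := ndS (p := 34532) (l := 6) rfl N34532 D120533
theorem N63990 : nd 63990 = n120534 := ndS (p := 34534) (l := 4) rfl N34534 D120534
theorem N63991 : nd 63991 = n120541 := ndS (p := 34536) (l := 5) rfl N34536 D120541
theorem N63992 : nd 63992 = n120543 := ndS (p := 34537) (l := 4) rfl N34537 D120543
theorem N63993 : nd 63993 = n120544 := ndS (p := 34537) (l := 6) rfl N34537 D120544
theorem N63994 : nd 63994 = n120553 := ndS (p := 34538) (l := 4) rfl N34538 D120553
theorem N63995 : nd 63995 = n120556 := ndS (p := 34540) (l := 0) rfl N34540 D120556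
theorem N63996 : nd 63996 = n120557 := ndS (p := 34540) (l := 4) rfl N34540 D120557
theorem N63997 : nd 63997 = n120558 := ndS (p := 34540) (l := 7) rfl N34540 D120558
theorem N63998 : nd 63998 = n120559 := ndS (p := 34542) (l := 4) rfl N34542 D120559
theorem N63999 : nd 63999 = n120560 := ndS (p := 34542) (l := 6) rfl N34542 D120560
theorem N64000 : nd 64000 = n120561 := ndS (p := 34543) (l := 0) rfl N34543 D120561
theorem N64001 : nd 64001 = n120562 := ndS (p := 34543) (l := 3) rfl N34543 D120562
theorem N64002 : nd 64002 = n120564 := ndS (p := 34543) (l := 6) rfl N34543 D120564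
theorem N64003 : nd 64003 = n120571 := ndS (p := 34545) (l := 6) rfl N34545 D120571
theorem N64004 : nd 64004 = n120578 := ndS (p := 34549) (l := 3) rfl N34549 D120578
theorem N64005 : nd 64005 = n120579 := ndS (p := 34549) (l := 4) rfl N34549 D120579
theorem N64006 : nd 64006 = n120580 := ndS (p := 34549) (l := 6) rfl N34549 D120580
theorem N64007 : nd 64007 = n120581 := ndS (p := 34550) (l := 0) rfl N34550 D120581
theorem N64008 : nd 64008 = n120582 := ndS (p := 34550) (l := 1) rfl N34550 D120582
theorem N64009 : nd 64009 = n120583 := ndS (p := 34550) (l := 3) rfl N34550 D120583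
theorem N64010 : nd 64010 = n120584 := ndS (p := 34550) (l := 5) rfl N34550 D120584
theorem N64011 : nd 64011 = n120599 := ndS (p := 34553) (l := 0) rfl N34553 D120599
theorem N64012 : nd 64012 = n120601 := ndS (p := 34553) (l := 4) rfl N34553 D120601
theorem N64013 : nd 64013 = n120602 := ndS (p := 34554) (l := 3) rfl N34554 D120602
theorem N64014 : nd 64014 = n120603 := ndS (p := 34555) (l := 5) rfl N34555 D120603
theorem N64015 : nd 64015 = n120605 := ndS (p := 34556) (l := 4) rfl N34556 D120605
theorem N64016 : nd 64016 = n120606 := ndS (p := 34558) (l := 3) rfl N34558 D120606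
theorem N64017 : nd 64017 = n120613 := ndS (p := 34560) (l := 3) rfl N34560 D120613
theorem N64018 : nd 64018 = n120617 := ndS (p := 34562) (l := 6) rfl N34562 D120617
theorem N64019 : nd 64019 = n120618 := ndS (p := 34563) (l := 0) rfl N34563 D120618
theorem N64020 : nd 64020 = n120620 := ndS (p := 34563) (l := 2) rfl N34563 D120620
theorem N64021 : nd 64021 = n120630 := ndS (p := 34567) (l := 5) rfl N34567 D120630
theorem N64022 : nd 64022 = n120631 := ndS (p := 34567) (l := 6) rfl N34567 D120631
theorem N64023 : nd 64023 = n120632 := ndS (p := 34568) (l := 4) rfl N34568 D120632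
theorem N64024 : nd 64024 = n120633 := ndS (p := 34568) (l := 6) rfl N34568 D120633
theorem N64025 : nd 64025 = n120635 := ndS (p := 34569) (l := 1) rfl N34569 D120635
theorem N64026 : nd 64026 = n120643 := ndS (p := 34570) (l := 4) rfl N34570 D120643
theorem N64027 : nd 64027 = n120645 := ndS (p := 34571) (l := 6) rfl N34571 D120645
theorem N64028 : nd 64028 = n120649 := ndS (p := 34575) (l := 5) rfl N34575 D120649
theorem N64029 : nd 64029 = n120651 := ndS (p := 34576) (l := 6) rfl N34576 D120651
theorem N64030 : nd 64030 = n120654 := ndS (p := 34577) (l := 4) rfl N34577 D120654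
theorem N64031 : nd 64031 = n120655 := ndS (p := 34578) (l := 3) rfl N34578 D120655
theorem N64032 : nd 64032 = n120659 := ndS (p := 34579) (l := 0) rfl N34579 D120659
theorem N64033 : nd 64033 = n120660 := ndS (p := 34579) (l := 1) rfl N34579 D120660
theorem N64034 : nd 64034 = n120661 := ndS (p := 34579) (l := 5) rfl N34579 D120661
theorem N64035 : nd 64035 = n120663 := ndS (p := 34580) (l := 4) rfl N34580 D120663
theorem N64036 : nd 64036 = n120665 := ndS (p := 34581) (l := 5) rfl N34581 D120665
theorem N64037 : nd 64037 = n120666 := ndS (p := 34582) (l := 3) rfl N34582 D120666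
theorem N64038 : nd 64038 = n120670 := ndS (p := 34585) (l := 0) rfl N34585 D120670
theorem N64039 : nd 64039 = n120671 := ndS (p := 34585) (l := 1) rfl N34585 D120671
theorem N64040 : nd 64040 = n120672 := ndS (p := 34585) (l := 6) rfl N34585 D120672
theorem N64041 : nd 64041 = n120674 := ndS (p := 34586) (l := 1) rfl N34586 D120674
theorem N64042 : nd 64042 = n120676 := ndS (p := 34587) (l := 6) rfl N34587 D120676
theorem N64043 : nd 64043 = n120678 := ndS (p := 34588) (l := 1) rfl N34588 D120678
theorem N64044 : nd 64044 = n120679 := ndS (p := 34588) (l := 7) rfl N34588 D120679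
theorem N64045 : nd 64045 = n120680 := ndS (p := 34589) (l := 6) rfl N34589 D120680
theorem N64046 : nd 64046 = n120681 := ndS (p := 34590) (l := 3) rfl N34590 D120681
theorem N64047 : nd 64047 = n120682 := ndS (p := 34590) (l := 6) rfl N34590 D120682
theorem N64048 : nd 64048 = n120683 := ndS (p := 34591) (l := 0) rfl N34591 D120683
theorem N64049 : nd 64049 = n120684 := ndS (p := 34591) (l := 1) rfl N34591 D120684
theorem N64050 : nd 64050 = n120685 := ndS (p := 34591) (l := 2) rfl N34591 D120685
theorem N64051 : nd 64051 = n120686 := ndS (p := 34591) (l := 7) rfl N34591 D120686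
theorem N64052 : nd 64052 = n120688 := ndS (p := 34593) (l := 1) rfl N34593 D120688
theorem N64053 : nd 64053 = n120689 := ndS (p := 34593) (l := 7) rfl N34593 D120689
theorem N64054 : nd 64054 = n120703 := ndS (p := 34596) (l := 4) rfl N34596 D120703
theorem N64055 : nd 64055 = n120705 := ndS (p := 34598) (l := 6) rfl N34598 D120705
theorem N64056 : nd 64056 = n120706 := ndS (p := 34601) (l := 3) rfl N34601 D120706
theorem N64057 : nd 64057 = n120738 := ndS (p := 34604) (l := 3) rfl N34604 D120738
theorem N64058 : nd 64058 = n120739 := ndS (p := 34605) (l := 0) rfl N34605 D120739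
theorem N64059 : nd 64059 = n120741 := ndS (p := 34605) (l := 2) rfl N34605 D120741
theorem N64060 : nd 64060 = n120775 := ndS (p := 34606) (l := 3) rfl N34606 D120775
theorem N64061 : nd 64061 = n120796 := ndS (p := 34608) (l := 5) rfl N34608 D120796
theorem N64062 : nd 64062 = n120813 := ndS (p := 34609) (l := 6) rfl N34609 D120813
theorem N64063 : nd 64063 = n120816 := ndS (p := 34610) (l := 5) rfl N34610 D120816
theorem N64064 : nd 64064 = n120872 := ndS (p := 34611) (l := 4) rfl N34611 D120872
theorem N64065 : nd 64065 = n120878 := ndS (p := 34612) (l := 5) rfl N34612 D120878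
theorem N64066 : nd 64066 = n120924 := ndS (p := 34615) (l := 2) rfl N34615 D120924
theorem N64067 : nd 64067 = n120939 := ndS (p := 34616) (l := 0) rfl N34616 D120939
theorem N64068 : nd 64068 = n120940 := ndS (p := 34616) (l := 1) rfl N34616 D120940
theorem N64069 : nd 64069 = n120941 := ndS (p := 34616) (l := 2) rfl N34616 D120941
theorem N64070 : nd 64070 = n120957 := ndS (p := 34617) (l := 0) rfl N34617 D120957
theorem N64071 : nd 64071 = n120959 := ndS (p := 34617) (l := 2) rfl N34617 D120959
theorem N64072 : nd 64072 = n120961 := ndS (p := 34617) (l := 6) rfl N34617 D120961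
theorem N64073 : nd 64073 = n120970 := ndS (p := 34619) (l := 0) rfl N34619 D120970
theorem N64074 : nd 64074 = n120971 := ndS (p := 34619) (l := 1) rfl N34619 D120971
theorem N64075 : nd 64075 = n120973 := ndS (p := 34619) (l := 4) rfl N34619 D120973
theorem N64076 : nd 64076 = n120977 := ndS (p := 34620) (l := 0) rfl N34620 D120977
theorem N64077 : nd 64077 = n120978 := ndS (p := 34620) (l := 1) rfl N34620 D120978
theorem N64078 : nd 64078 = n120979 := ndS (p := 34620) (l := 2) rfl N34620 D120979
theorem N64079 : nd 64079 = n120984 := ndS (p := 34621) (l := 3) rfl N34621 D120984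
theorem N64080 : nd 64080 = n120985 := ndS (p := 34621) (l := 4) rfl N34621 D120985
theorem N64081 : nd 64081 = n120987 := ndS (p := 34621) (l := 6) rfl N34621 D120987
theorem N64082 : nd 64082 = n120989 := ndS (p := 34622) (l := 3) rfl N34622 D120989
theorem N64083 : nd 64083 = n120990 := ndS (p := 34622) (l := 4) rfl N34622 D120990
theorem N64084 : nd 64084 = n120992 := ndS (p := 34622) (l := 6) rfl N34622 D120992
theorem N64085 : nd 64085 = n121025 := ndS (p := 34624) (l := 4) rfl N34624 D121025
theorem N64086 : nd 64086 = n121027 := ndS (p := 34625) (l := 4) rfl N34625 D121027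
theorem N64087 : nd 64087 = n121030 := ndS (p := 34626) (l := 3) rfl N34626 D121030
theorem N64088 : nd 64088 = n121031 := ndS (p := 34626) (l := 5) rfl N34626 D121031
theorem N64089 : nd 64089 = n121034 := ndS (p := 34628) (l := 3) rfl N34628 D121034
theorem N64090 : nd 64090 = n121035 := ndS (p := 34629) (l := 0) rfl N34629 D121035
theorem N64091 : nd 64091 = n121036 := ndS (p := 34629) (l := 1) rfl N34629 D121036
theorem N64092 : nd 64092 = n121037 := ndS (p := 34629) (l := 2) rfl N34629 D121037
theorem N64093 : nd 64093 = n121044 := ndS (p := 34632) (l := 4) rfl N34632 D121044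
theorem N64094 : nd 64094 = n121045 := ndS (p := 34632) (l := 6) rfl N34632 D121045
theorem N64095 : nd 64095 = n121049 := ndS (p := 34633) (l := 4) rfl N34633 D121049
theorem N64096 : nd 64096 = n121051 := ndS (p := 34634) (l := 4) rfl N34634 D121051
theorem N64097 : nd 64097 = n121054 := ndS (p := 34635) (l := 3) rfl N34635 D121054
theorem N64098 : nd 64098 = n121055 := ndS (p := 34635) (l := 5) rfl N34635 D121055
theorem N64099 : nd 64099 = n121062 := ndS (p := 34636) (l := 0) rfl N34636 D121062
theorem N64100 : nd 64100 = n121063 := ndS (p := 34636) (l := 1) rfl N34636 D121063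
theorem N64101 : nd 64101 = n121064 := ndS (p := 34636) (l := 2) rfl N34636 D121064
theorem N64102 : nd 64102 = n121068 := ndS (p := 34637) (l := 5) rfl N34637 D121068
theorem N64103 : nd 64103 = n121075 := ndS (p := 34638) (l := 4) rfl N34638 D121075
theorem N64104 : nd 64104 = n121079 := ndS (p := 34640) (l := 1) rfl N34640 D121079
theorem N64105 : nd 64105 = n121080 := ndS (p := 34640) (l := 2) rfl N34640 D121080
theorem N64106 : nd 64106 = n121082 := ndS (p := 34640) (l := 5) rfl N34640 D121082
theorem N64107 : nd 64107 = n121086 := ndS (p := 34642) (l := 0) rfl N34642 D121086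
theorem N64108 : nd 64108 = n121087 := ndS (p := 34642) (l := 2) rfl N34642 D121087
theorem N64109 : nd 64109 = n121088 := ndS (p := 34642) (l := 3) rfl N34642 D121088
theorem N64110 : nd 64110 = n121089 := ndS (p := 34642) (l := 4) rfl N34642 D121089
theorem N64111 : nd 64111 = n121090 := ndS (p := 34642) (l := 5) rfl N34642 D121090
theorem N64112 : nd 64112 = n121091 := ndS (p := 34642) (l := 6) rfl N34642 D121091
theorem N64113 : nd 64113 = n121093 := ndS (p := 34643) (l := 3) rfl N34643 D121093
theorem N64114 : nd 64114 = n121094 := ndS (p := 34643) (l := 4) rfl N34643 D121094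
theorem N64115 : nd 64115 = n121095 := ndS (p := 34643) (l := 5) rfl N34643 D121095
theorem N64116 : nd 64116 = n121105 := ndS (p := 34646) (l := 3) rfl N34646 D121105
theorem N64117 : nd 64117 = n121114 := ndS (p := 34647) (l := 6) rfl N34647 D121114
theorem N64118 : nd 64118 = n121116 := ndS (p := 34648) (l := 3) rfl N34648 D121116
theorem N64119 : nd 64119 = n121117 := ndS (p := 34648) (l := 4) rfl N34648 D121117
theorem N64120 : nd 64120 = n121122 := ndS (p := 34649) (l := 4) rfl N34649 D121122
theorem N64121 : nd 64121 = n121135 := ndS (p := 34651) (l := 3) rfl N34651 D121135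
theorem N64122 : nd 64122 = n121136 := ndS (p := 34651) (l := 6) rfl N34651 D121136
theorem N64123 : nd 64123 = n121140 := ndS (p := 34653) (l := 0) rfl N34653 D121140
theorem N64124 : nd 64124 = n121142 := ndS (p := 34653) (l := 2) rfl N34653 D121142
theorem N64125 : nd 64125 = n121143 := ndS (p := 34653) (l := 5) rfl N34653 D121143
theorem N64126 : nd 64126 = n121144 := ndS (p := 34653) (l := 6) rfl N34653 D121144
theorem N64127 : nd 64127 = n121145 := ndS (p := 34654) (l := 6) rfl N34654 D121145
theorem N64128 : nd 64128 = n121148 := ndS (p := 34655) (l := 5) rfl N34655 D121148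
theorem N64129 : nd 64129 = n121151 := ndS (p := 34656) (l := 4) rfl N34656 D121151
theorem N64130 : nd 64130 = n121154 := ndS (p := 34657) (l := 4) rfl N34657 D121154
theorem N64131 : nd 64131 = n121155 := ndS (p := 34657) (l := 5) rfl N34657 D121155
theorem N64132 : nd 64132 = n121157 := ndS (p := 34658) (l := 3) rfl N34658 D121157
theorem N64133 : nd 64133 = n121158 := ndS (p := 34658) (l := 4) rfl N34658 D121158
theorem N64134 : nd 64134 = n121160 := ndS (p := 34658) (l := 6) rfl N34658 D121160
theorem N64135 : nd 64135 = n121166 := ndS (p := 34660) (l := 6) rfl N34660 D121166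
theorem N64136 : nd 64136 = n121167 := ndS (p := 34661) (l := 0) rfl N34661 D121167
theorem N64137 : nd 64137 = n121179 := ndS (p := 34663) (l := 3) rfl N34663 D121179
theorem N64138 : nd 64138 = n121188 := ndS (p := 34664) (l := 1) rfl N34664 D121188
theorem N64139 : nd 64139 = n121193 := ndS (p := 34665) (l := 0) rfl N34665 D121193
theorem N64140 : nd 64140 = n121194 := ndS (p := 34665) (l := 1) rfl N34665 D121194
theorem N64141 : nd 64141 = n121195 := ndS (p := 34665) (l := 3) rfl N34665 D121195
theorem N64142 : nd 64142 = n121196 := ndS (p := 34665) (l := 5) rfl N34665 D121196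
theorem N64143 : nd 64143 = n121197 := ndS (p := 34665) (l := 6) rfl N34665 D121197
theorem N64144 : nd 64144 = n121212 := ndS (p := 34667) (l := 4) rfl N34667 D121212
theorem N64145 : nd 64145 = n121214 := ndS (p := 34667) (l := 6) rfl N34667 D121214
theorem N64146 : nd 64146 = n121215 := ndS (p := 34668) (l := 3) rfl N34668 D121215
theorem N64147 : nd 64147 = n121216 := ndS (p := 34668) (l := 5) rfl N34668 D121216
theorem N64148 : nd 64148 = n121217 := ndS (p := 34668) (l := 6) rfl N34668 D121217
theorem N64149 : nd 64149 = n121263 := ndS (p := 34670) (l := 3) rfl N34670 D121263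
theorem N64150 : nd 64150 = n121264 := ndS (p := 34670) (l := 6) rfl N34670 D121264
theorem N64151 : nd 64151 = n121267 := ndS (p := 34672) (l := 3) rfl N34672 D121267
theorem N64152 : nd 64152 = n121270 := ndS (p := 34673) (l := 1) rfl N34673 D121270
theorem N64153 : nd 64153 = n121271 := ndS (p := 34673) (l := 2) rfl N34673 D121271
theorem N64154 : nd 64154 = n121272 := ndS (p := 34673) (l := 5) rfl N34673 D121272
theorem N64155 : nd 64155 = n121273 := ndS (p := 34673) (l := 6) rfl N34673 D121273
theorem N64156 : nd 64156 = n121274 := ndS (p := 34674) (l := 6) rfl N34674 D121274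
theorem N64157 : nd 64157 = n121275 := ndS (p := 34675) (l := 0) rfl N34675 D121275
theorem N64158 : nd 64158 = n121276 := ndS (p := 34675) (l := 1) rfl N34675 D121276
theorem N64159 : nd 64159 = n121277 := ndS (p := 34675) (l := 5) rfl N34675 D121277
theorem N64160 : nd 64160 = n121280 := ndS (p := 34676) (l := 4) rfl N34676 D121280
theorem N64161 : nd 64161 = n121281 := ndS (p := 34676) (l := 5) rfl N34676 D121281
theorem N64162 : nd 64162 = n121283 := ndS (p := 34677) (l := 4) rfl N34677 D121283
theorem N64163 : nd 64163 = n121284 := ndS (p := 34677) (l := 5) rfl N34677 D121284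
theorem N64164 : nd 64164 = n121295 := ndS (p := 34678) (l := 6) rfl N34678 D121295
theorem N64165 : nd 64165 = n121297 := ndS (p := 34679) (l := 1) rfl N34679 D121297
theorem N64166 : nd 64166 = n121299 := ndS (p := 34679) (l := 7) rfl N34679 D121299
theorem N64167 : nd 64167 = n121306 := ndS (p := 34683) (l := 4) rfl N34683 D121306
theorem N64168 : nd 64168 = n121307 := ndS (p := 34684) (l := 3) rfl N34684 D121307
theorem N64169 : nd 64169 = n121308 := ndS (p := 34684) (l := 6) rfl N34684 D121308
theorem N64170 : nd 64170 = n121309 := ndS (p := 34685) (l := 0) rfl N34685 D121309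
theorem N64171 : nd 64171 = n121310 := ndS (p := 34685) (l := 1) rfl N34685 D121310
theorem N64172 : nd 64172 = n121311 := ndS (p := 34685) (l := 7) rfl N34685 D121311
theorem N64173 : nd 64173 = n121312 := ndS (p := 34686) (l := 0) rfl N34686 D121312
theorem N64174 : nd 64174 = n121313 := ndS (p := 34686) (l := 1) rfl N34686 D121313
theorem N64175 : nd 64175 = n121314 := ndS (p := 34686) (l := 5) rfl N34686 D121314
theorem N64176 : nd 64176 = n121315 := ndS (p := 34686) (l := 7) rfl N34686 D121315
theorem N64177 : nd 64177 = n121317 := ndS (p := 34687) (l := 3) rfl N34687 D121317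
theorem N64178 : nd 64178 = n121318 := ndS (p := 34687) (l := 4) rfl N34687 D121318
theorem N64179 : nd 64179 = n121319 := ndS (p := 34687) (l := 5) rfl N34687 D121319
theorem N64180 : nd 64180 = n121320 := ndS (p := 34687) (l := 6) rfl N34687 D121320
theorem N64181 : nd 64181 = n121323 := ndS (p := 34688) (l := 4) rfl N34688 D121323
theorem N64182 : nd 64182 = n121325 := ndS (p := 34688) (l := 6) rfl N34688 D121325
theorem N64183 : nd 64183 = n121330 := ndS (p := 34690) (l := 5) rfl N34690 D121330
theorem N64184 : nd 64184 = n121332 := ndS (p := 34691) (l := 0) rfl N34691 D121332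
theorem N64185 : nd 64185 = n121333 := ndS (p := 34691) (l := 1) rfl N34691 D121333
theorem N64186 : nd 64186 = n121334 := ndS (p := 34691) (l := 4) rfl N34691 D121334
theorem N64187 : nd 64187 = n121335 := ndS (p := 34691) (l := 6) rfl N34691 D121335
theorem N64188 : nd 64188 = n121340 := ndS (p := 34693) (l := 5) rfl N34693 D121340
theorem N64189 : nd 64189 = n121342 := ndS (p := 34694) (l := 4) rfl N34694 D121342
theorem N64190 : nd 64190 = n121343 := ndS (p := 34694) (l := 6) rfl N34694 D121343
theorem N64191 : nd 64191 = n121344 := ndS (p := 34695) (l := 5) rfl N34695 D121344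
theorem N64192 : nd 64192 = n121346 := ndS (p := 34696) (l := 6) rfl N34696 D121346
theorem N64193 : nd 64193 = n121347 := ndS (p := 34697) (l := 3) rfl N34697 D121347
theorem N64194 : nd 64194 = n121348 := ndS (p := 34697) (l := 6) rfl N34697 D121348
theorem N64195 : nd 64195 = n121349 := ndS (p := 34698) (l := 6) rfl N34698 D121349
theorem N64196 : nd 64196 = n121350 := ndS (p := 34699) (l := 0) rfl N34699 D121350
theorem N64197 : nd 64197 = n121351 := ndS (p := 34699) (l := 1) rfl N34699 D121351
theorem N64198 : nd 64198 = n121352 := ndS (p := 34699) (l := 5) rfl N34699 D121352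
theorem N64199 : nd 64199 = n121355 := ndS (p := 34700) (l := 1) rfl N34700 D121355
theorem N64200 : nd 64200 = n121356 := ndS (p := 34700) (l := 7) rfl N34700 D121356
theorem N64201 : nd 64201 = n121357 := ndS (p := 34701) (l := 0) rfl N34701 D121357
theorem N64202 : nd 64202 = n121358 := ndS (p := 34701) (l := 1) rfl N34701 D121358
theorem N64203 : nd 64203 = n121359 := ndS (p := 34702) (l := 0) rfl N34702 D121359
theorem N64204 : nd 64204 = n121360 := ndS (p := 34702) (l := 1) rfl N34702 D121360
theorem N64205 : nd 64205 = n121361 := ndS (p := 34702) (l := 5) rfl N34702 D121361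
theorem N64206 : nd 64206 = n121362 := ndS (p := 34702) (l := 7) rfl N34702 D121362
theorem N64207 : nd 64207 = n121363 := ndS (p := 34703) (l := 4) rfl N34703 D121363
theorem N64208 : nd 64208 = n121367 := ndS (p := 34705) (l := 0) rfl N34705 D121367
theorem N64209 : nd 64209 = n121368 := ndS (p := 34705) (l := 1) rfl N34705 D121368
theorem N64210 : nd 64210 = n121369 := ndS (p := 34705) (l := 5) rfl N34705 D121369
theorem N64211 : nd 64211 = n121370 := ndS (p := 34705) (l := 7) rfl N34705 D121370
theorem N64212 : nd 64212 = n121371 := ndS (p := 34706) (l := 4) rfl N34706 D121371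
theorem N64213 : nd 64213 = n121372 := ndS (p := 34706) (l := 7) rfl N34706 D121372
theorem N64214 : nd 64214 = n121373 := ndS (p := 34708) (l := 3) rfl N34708 D121373
theorem N64215 : nd 64215 = n121374 := ndS (p := 34708) (l := 5) rfl N34708 D121374
theorem N64216 : nd 64216 = n121375 := ndS (p := 34709) (l := 6) rfl N34709 D121375
theorem N64217 : nd 64217 = n121390 := ndS (p := 34711) (l := 6) rfl N34711 D121390
theorem N64218 : nd 64218 = n121400 := ndS (p := 34713) (l := 5) rfl N34713 D121400
theorem N64219 : nd 64219 = n121431 := ndS (p := 34715) (l := 1) rfl N34715 D121431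
theorem N64220 : nd 64220 = n121440 := ndS (p := 34717) (l := 1) rfl N34717 D121440
theorem N64221 : nd 64221 = n121450 := ndS (p := 34718) (l := 1) rfl N34718 D121450
theorem N64222 : nd 64222 = n121461 := ndS (p := 34719) (l := 5) rfl N34719 D121461
theorem N64223 : nd 64223 = n121463 := ndS (p := 34720) (l := 0) rfl N34720 D121463
theorem N64224 : nd 64224 = n121464 := ndS (p := 34720) (l := 1) rfl N34720 D121464
theorem N64225 : nd 64225 = n121466 := ndS (p := 34720) (l := 7) rfl N34720 D121466
theorem N64226 : nd 64226 = n121480 := ndS (p := 34722) (l := 1) rfl N34722 D121480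
theorem N64227 : nd 64227 = n121481 := ndS (p := 34722) (l := 2) rfl N34722 D121481
theorem N64228 : nd 64228 = n121483 := ndS (p := 34722) (l := 5) rfl N34722 D121483
theorem N64229 : nd 64229 = n121488 := ndS (p := 34724) (l := 3) rfl N34724 D121488
theorem N64230 : nd 64230 = n121491 := ndS (p := 34725) (l := 3) rfl N34725 D121491
theorem N64231 : nd 64231 = n121493 := ndS (p := 34725) (l := 6) rfl N34725 D121493
theorem N64232 : nd 64232 = n121499 := ndS (p := 34726) (l := 6) rfl N34726 D121499
theorem N64233 : nd 64233 = n121650 := ndS (p := 34730) (l := 4) rfl N34730 D121650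
theorem N64234 : nd 64234 = n121678 := ndS (p := 34734) (l := 3) rfl N34734 D121678
theorem N64235 : nd 64235 = n121679 := ndS (p := 34735) (l := 3) rfl N34735 D121679
theorem N64236 : nd 64236 = n121687 := ndS (p := 34737) (l := 4) rfl N34737 D121687
theorem N64237 : nd 64237 = n121695 := ndS (p := 34738) (l := 3) rfl N34738 D121695
theorem N64238 : nd 64238 = n121696 := ndS (p := 34738) (l := 5) rfl N34738 D121696
theorem N64239 : nd 64239 = n121698 := ndS (p := 34739) (l := 0) rfl N34739 D121698
theorem N64240 : nd 64240 = n121699 := ndS (p := 34739) (l := 1) rfl N34739 D121699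
theorem N64241 : nd 64241 = n121700 := ndS (p := 34739) (l := 2) rfl N34739 D121700
theorem N64242 : nd 64242 = n121709 := ndS (p := 34741) (l := 5) rfl N34741 D121709
theorem N64243 : nd 64243 = n121711 := ndS (p := 34742) (l := 0) rfl N34742 D121711
theorem N64244 : nd 64244 = n121713 := ndS (p := 34742) (l := 2) rfl N34742 D121713
theorem N64245 : nd 64245 = n121720 := ndS (p := 34743) (l := 1) rfl N34743 D121720
theorem N64246 : nd 64246 = n121721 := ndS (p := 34743) (l := 2) rfl N34743 D121721
theorem N64247 : nd 64247 = n121722 := ndS (p := 34743) (l := 4) rfl N34743 D121722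
theorem N64248 : nd 64248 = n121723 := ndS (p := 34743) (l := 5) rfl N34743 D121723
theorem N64249 : nd 64249 = n121724 := ndS (p := 34743) (l := 6) rfl N34743 D121724
theorem N64250 : nd 64250 = n121725 := ndS (p := 34744) (l := 6) rfl N34744 D121725
theorem N64251 : nd 64251 = n121736 := ndS (p := 34746) (l := 5) rfl N34746 D121736
theorem N64252 : nd 64252 = n121740 := ndS (p := 34747) (l := 5) rfl N34747 D121740
theorem N64253 : nd 64253 = n121741 := ndS (p := 34748) (l := 0) rfl N34748 D121741
theorem N64254 : nd 64254 = n121742 := ndS (p := 34748) (l := 1) rfl N34748 D121742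
theorem N64255 : nd 64255 = n121743 := ndS (p := 34748) (l := 4) rfl N34748 D121743
theorem N64256 : nd 64256 = n121750 := ndS (p := 34751) (l := 6) rfl N34751 D121750
theorem N64257 : nd 64257 = n121758 := ndS (p := 34752) (l := 1) rfl N34752 D121758
theorem N64258 : nd 64258 = n121759 := ndS (p := 34752) (l := 2) rfl N34752 D121759
theorem N64259 : nd 64259 = n121777 := ndS (p := 34753) (l := 7) rfl N34753 D121777
theorem N64260 : nd 64260 = n121779 := ndS (p := 34754) (l := 0) rfl N34754 D121779
theorem N64261 : nd 64261 = n121781 := ndS (p := 34754) (l := 2) rfl N34754 D121781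
theorem N64262 : nd 64262 = n121783 := ndS (p := 34754) (l := 6) rfl N34754 D121783
theorem N64263 : nd 64263 = n121789 := ndS (p := 34755) (l := 5) rfl N34755 D121789
theorem N64264 : nd 64264 = n121796 := ndS (p := 34756) (l := 0) rfl N34756 D121796
theorem N64265 : nd 64265 = n121797 := ndS (p := 34756) (l := 1) rfl N34756 D121797
theorem N64266 : nd 64266 = n121798 := ndS (p := 34756) (l := 2) rfl N34756 D121798
theorem N64267 : nd 64267 = n121939 := ndS (p := 34757) (l := 3) rfl N34757 D121939
theorem N64268 : nd 64268 = n121941 := ndS (p := 34758) (l := 4) rfl N34758 D121941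
theorem N64269 : nd 64269 = n121944 := ndS (p := 34760) (l := 0) rfl N34760 D121944
theorem N64270 : nd 64270 = n121945 := ndS (p := 34760) (l := 2) rfl N34760 D121945
theorem N64271 : nd 64271 = n121958 := ndS (p := 34761) (l := 4) rfl N34761 D121958
theorem N64272 : nd 64272 = n121959 := ndS (p := 34762) (l := 4) rfl N34762 D121959
theorem N64273 : nd 64273 = n121989 := ndS (p := 34765) (l := 1) rfl N34765 D121989
theorem N64274 : nd 64274 = n121991 := ndS (p := 34765) (l := 7) rfl N34765 D121991
theorem N64275 : nd 64275 = n122298 := ndS (p := 34769) (l := 3) rfl N34769 D122298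
theorem N64276 : nd 64276 = n122299 := ndS (p := 34769) (l := 5) rfl N34769 D122299
theorem N64277 : nd 64277 = n122303 := ndS (p := 34770) (l := 0) rfl N34770 D122303
theorem N64278 : nd 64278 = n122304 := ndS (p := 34770) (l := 1) rfl N34770 D122304
theorem N64279 : nd 64279 = n122307 := ndS (p := 34771) (l := 3) rfl N34771 D122307
theorem N64280 : nd 64280 = n122308 := ndS (p := 34771) (l := 5) rfl N34771 D122308
theorem N64281 : nd 64281 = n122312 := ndS (p := 34773) (l := 4) rfl N34773 D122312
theorem N64282 : nd 64282 = n122314 := ndS (p := 34774) (l := 0) rfl N34774 D122314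
theorem N64283 : nd 64283 = n122315 := ndS (p := 34774) (l := 1) rfl N34774 D122315
theorem N64284 : nd 64284 = n122316 := ndS (p := 34774) (l := 3) rfl N34774 D122316
theorem N64285 : nd 64285 = n122319 := ndS (p := 34775) (l := 3) rfl N34775 D122319
theorem N64286 : nd 64286 = n122320 := ndS (p := 34775) (l := 5) rfl N34775 D122320
theorem N64287 : nd 64287 = n122328 := ndS (p := 34776) (l := 5) rfl N34776 D122328
theorem N64288 : nd 64288 = n122329 := ndS (p := 34777) (l := 0) rfl N34777 D122329
theorem N64289 : nd 64289 = n122330 := ndS (p := 34777) (l := 1) rfl N34777 D122330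
theorem N64290 : nd 64290 = n122333 := ndS (p := 34779) (l := 6) rfl N34779 D122333
theorem N64291 : nd 64291 = n122335 := ndS (p := 34780) (l := 0) rfl N34780 D122335
theorem N64292 : nd 64292 = n122337 := ndS (p := 34780) (l := 5) rfl N34780 D122337
theorem N64293 : nd 64293 = n122341 := ndS (p := 34782) (l := 4) rfl N34782 D122341
theorem N64294 : nd 64294 = n122342 := ndS (p := 34783) (l := 6) rfl N34783 D122342
theorem N64295 : nd 64295 = n122343 := ndS (p := 34784) (l := 6) rfl N34784 D122343
theorem N64296 : nd 64296 = n122344 := ndS (p := 34785) (l := 0) rfl N34785 D122344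
theorem N64297 : nd 64297 = n122345 := ndS (p := 34785) (l := 1) rfl N34785 D122345
theorem N64298 : nd 64298 = n122346 := ndS (p := 34785) (l := 5) rfl N34785 D122346
theorem N64299 : nd 64299 = n122350 := ndS (p := 34786) (l := 4) rfl N34786 D122350
theorem N64300 : nd 64300 = n122357 := ndS (p := 34787) (l := 6) rfl N34787 D122357
theorem N64301 : nd 64301 = n122358 := ndS (p := 34788) (l := 3) rfl N34788 D122358
theorem N64302 : nd 64302 = n122363 := ndS (p := 34789) (l := 4) rfl N34789 D122363
theorem N64303 : nd 64303 = n122364 := ndS (p := 34790) (l := 6) rfl N34790 D122364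
theorem N64304 : nd 64304 = n122374 := ndS (p := 34794) (l := 0) rfl N34794 D122374
theorem N64305 : nd 64305 = n122375 := ndS (p := 34794) (l := 1) rfl N34794 D122375
theorem N64306 : nd 64306 = n122376 := ndS (p := 34794) (l := 5) rfl N34794 D122376
theorem N64307 : nd 64307 = n122377 := ndS (p := 34794) (l := 7) rfl N34794 D122377
theorem N64308 : nd 64308 = n122380 := ndS (p := 34795) (l := 3) rfl N34795 D122380
theorem N64309 : nd 64309 = n122381 := ndS (p := 34795) (l := 5) rfl N34795 D122381
theorem N64310 : nd 64310 = n122387 := ndS (p := 34798) (l := 4) rfl N34798 D122387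
theorem N64311 : nd 64311 = n122392 := ndS (p := 34799) (l := 3) rfl N34799 D122392
theorem N64312 : nd 64312 = n122396 := ndS (p := 34800) (l := 4) rfl N34800 D122396
theorem N64313 : nd 64313 = n122399 := ndS (p := 34801) (l := 4) rfl N34801 D122399
theorem N64314 : nd 64314 = n122400 := ndS (p := 34801) (l := 5) rfl N34801 D122400
theorem N64315 : nd 64315 = n122401 := ndS (p := 34801) (l := 6) rfl N34801 D122401
theorem N64316 : nd 64316 = n122405 := ndS (p := 34802) (l := 5) rfl N34802 D122405
theorem N64317 : nd 64317 = n122407 := ndS (p := 34803) (l := 0) rfl N34803 D122407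
theorem N64318 : nd 64318 = n122409 := ndS (p := 34803) (l := 4) rfl N34803 D122409
theorem N64319 : nd 64319 = n122410 := ndS (p := 34803) (l := 7) rfl N34803 D122410
theorem N64320 : nd 64320 = n122414 := ndS (p := 34805) (l := 5) rfl N34805 D122414
theorem N64321 : nd 64321 = n122415 := ndS (p := 34805) (l := 6) rfl N34805 D122415
theorem N64322 : nd 64322 = n122416 := ndS (p := 34806) (l := 4) rfl N34806 D122416
theorem N64323 : nd 64323 = n122417 := ndS (p := 34806) (l := 6) rfl N34806 D122417
theorem N64324 : nd 64324 = n122423 := ndS (p := 34808) (l := 4) rfl N34808 D122423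
theorem N64325 : nd 64325 = n122424 := ndS (p := 34808) (l := 6) rfl N34808 D122424
theorem N64326 : nd 64326 = n122426 := ndS (p := 34810) (l := 3) rfl N34810 D122426
theorem N64327 : nd 64327 = n122427 := ndS (p := 34810) (l := 4) rfl N34810 D122427
theorem N64328 : nd 64328 = n122428 := ndS (p := 34810) (l := 6) rfl N34810 D122428
theorem N64329 : nd 64329 = n122430 := ndS (p := 34811) (l := 4) rfl N34811 D122430
theorem N64330 : nd 64330 = n122431 := ndS (p := 34811) (l := 6) rfl N34811 D122431
theorem N64331 : nd 64331 = n122432 := ndS (p := 34812) (l := 0) rfl N34812 D122432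
theorem N64332 : nd 64332 = n122433 := ndS (p := 34812) (l := 1) rfl N34812 D122433
theorem N64333 : nd 64333 = n122434 := ndS (p := 34812) (l := 3) rfl N34812 D122434
theorem N64334 : nd 64334 = n122447 := ndS (p := 34813) (l := 0) rfl N34813 D122447
theorem N64335 : nd 64335 = n122449 := ndS (p := 34813) (l := 4) rfl N34813 D122449
theorem N64336 : nd 64336 = n122450 := ndS (p := 34813) (l := 6) rfl N34813 D122450
theorem N64337 : nd 64337 = n122459 := ndS (p := 34815) (l := 2) rfl N34815 D122459
theorem N64338 : nd 64338 = n122460 := ndS (p := 34815) (l := 5) rfl N34815 D122460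
theorem N64339 : nd 64339 = n122461 := ndS (p := 34815) (l := 6) rfl N34815 D122461
theorem N64340 : nd 64340 = n122462 := ndS (p := 34816) (l := 4) rfl N34816 D122462
theorem N64341 : nd 64341 = n122463 := ndS (p := 34816) (l := 6) rfl N34816 D122463
theorem N64342 : nd 64342 = n122467 := ndS (p := 34818) (l := 4) rfl N34818 D122467
theorem N64343 : nd 64343 = n122468 := ndS (p := 34818) (l := 6) rfl N34818 D122468
theorem N64344 : nd 64344 = n122498 := ndS (p := 34822) (l := 6) rfl N34822 D122498
theorem N64345 : nd 64345 = n122555 := ndS (p := 34825) (l := 3) rfl N34825 D122555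
theorem N64346 : nd 64346 = n122556 := ndS (p := 34825) (l := 6) rfl N34825 D122556
theorem N64347 : nd 64347 = n122557 := ndS (p := 34826) (l := 0) rfl N34826 D122557
theorem N64348 : nd 64348 = n122559 := ndS (p := 34826) (l := 5) rfl N34826 D122559
theorem N64349 : nd 64349 = n122562 := ndS (p := 34827) (l := 5) rfl N34827 D122562
theorem N64350 : nd 64350 = n122567 := ndS (p := 34828) (l := 0) rfl N34828 D122567
theorem N64351 : nd 64351 = n122568 := ndS (p := 34828) (l := 4) rfl N34828 D122568
theorem N64352 : nd 64352 = n122581 := ndS (p := 34829) (l := 4) rfl N34829 D122581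
theorem N64353 : nd 64353 = n122582 := ndS (p := 34830) (l := 0) rfl N34830 D122582
theorem N64354 : nd 64354 = n122583 := ndS (p := 34830) (l := 1) rfl N34830 D122583
theorem N64355 : nd 64355 = n122584 := ndS (p := 34830) (l := 3) rfl N34830 D122584
theorem N64356 : nd 64356 = n122585 := ndS (p := 34830) (l := 5) rfl N34830 D122585
theorem N64357 : nd 64357 = n122587 := ndS (p := 34831) (l := 0) rfl N34831 D122587
theorem N64358 : nd 64358 = n122588 := ndS (p := 34831) (l := 1) rfl N34831 D122588
theorem N64359 : nd 64359 = n122589 := ndS (p := 34831) (l := 2) rfl N34831 D122589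
theorem N64360 : nd 64360 = n122590 := ndS (p := 34831) (l := 5) rfl N34831 D122590
theorem N64361 : nd 64361 = n122591 := ndS (p := 34832) (l := 6) rfl N34832 D122591
theorem N64362 : nd 64362 = n122599 := ndS (p := 34834) (l := 6) rfl N34834 D122599
theorem N64363 : nd 64363 = n122600 := ndS (p := 34835) (l := 0) rfl N34835 D122600
theorem N64364 : nd 64364 = n122601 := ndS (p := 34835) (l := 1) rfl N34835 D122601
theorem N64365 : nd 64365 = n122602 := ndS (p := 34835) (l := 5) rfl N34835 D122602
theorem N64366 : nd 64366 = n122613 := ndS (p := 34838) (l := 7) rfl N34838 D122613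
theorem N64367 : nd 64367 = n122615 := ndS (p := 34842) (l := 4) rfl N34842 D122615
theorem N64368 : nd 64368 = n122618 := ndS (p := 34843) (l := 6) rfl N34843 D122618
theorem N64369 : nd 64369 = n122619 := ndS (p := 34844) (l := 6) rfl N34844 D122619
theorem N64370 : nd 64370 = n122620 := ndS (p := 34845) (l := 0) rfl N34845 D122620
theorem N64371 : nd 64371 = n122621 := ndS (p := 34845) (l := 1) rfl N34845 D122621
theorem N64372 : nd 64372 = n122622 := ndS (p := 34845) (l := 5) rfl N34845 D122622
theorem N64373 : nd 64373 = n122624 := ndS (p := 34846) (l := 4) rfl N34846 D122624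
theorem N64374 : nd 64374 = n122636 := ndS (p := 34847) (l := 6) rfl N34847 D122636
theorem N64375 : nd 64375 = n122640 := ndS (p := 34849) (l := 0) rfl N34849 D122640
theorem N64376 : nd 64376 = n122641 := ndS (p := 34849) (l := 1) rfl N34849 D122641
theorem N64377 : nd 64377 = n122643 := ndS (p := 34849) (l := 7) rfl N34849 D122643
theorem N64378 : nd 64378 = n122648 := ndS (p := 34851) (l := 1) rfl N34851 D122648
theorem N64379 : nd 64379 = n122649 := ndS (p := 34851) (l := 5) rfl N34851 D122649
theorem N64380 : nd 64380 = n122650 := ndS (p := 34851) (l := 7) rfl N34851 D122650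
theorem N64381 : nd 64381 = n122651 := ndS (p := 34852) (l := 0) rfl N34852 D122651
theorem N64382 : nd 64382 = n122652 := ndS (p := 34852) (l := 1) rfl N34852 D122652
theorem N64383 : nd 64383 = n122653 := ndS (p := 34852) (l := 5) rfl N34852 D122653
theorem N64384 : nd 64384 = n122657 := ndS (p := 34853) (l := 4) rfl N34853 D122657
theorem N64385 : nd 64385 = n122664 := ndS (p := 34856) (l := 0) rfl N34856 D122664
theorem N64386 : nd 64386 = n122665 := ndS (p := 34856) (l := 6) rfl N34856 D122665
theorem N64387 : nd 64387 = n122668 := ndS (p := 34857) (l := 5) rfl N34857 D122668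
theorem N64388 : nd 64388 = n122672 := ndS (p := 34858) (l := 5) rfl N34858 D122672
theorem N64389 : nd 64389 = n122675 := ndS (p := 34859) (l := 1) rfl N34859 D122675
theorem N64390 : nd 64390 = n122676 := ndS (p := 34859) (l := 5) rfl N34859 D122676
theorem N64391 : nd 64391 = n122677 := ndS (p := 34859) (l := 7) rfl N34859 D122677
theorem N64392 : nd 64392 = n122680 := ndS (p := 34860) (l := 4) rfl N34860 D122680
theorem N64393 : nd 64393 = n122681 := ndS (p := 34860) (l := 5) rfl N34860 D122681
theorem N64394 : nd 64394 = n122682 := ndS (p := 34860) (l := 6) rfl N34860 D122682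
theorem N64395 : nd 64395 = n122685 := ndS (p := 34861) (l := 4) rfl N34861 D122685
theorem N64396 : nd 64396 = n122686 := ndS (p := 34861) (l := 5) rfl N34861 D122686
theorem N64397 : nd 64397 = n122687 := ndS (p := 34861) (l := 6) rfl N34861 D122687
theorem N64398 : nd 64398 = n122688 := ndS (p := 34862) (l := 0) rfl N34862 D122688
theorem N64399 : nd 64399 = n122689 := ndS (p := 34862) (l := 1) rfl N34862 D122689
theorem N64400 : nd 64400 = n122690 := ndS (p := 34862) (l := 4) rfl N34862 D122690
theorem N64401 : nd 64401 = n122693 := ndS (p := 34863) (l := 6) rfl N34863 D122693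
theorem N64402 : nd 64402 = n122696 := ndS (p := 34864) (l := 5) rfl N34864 D122696
theorem N64403 : nd 64403 = n122697 := ndS (p := 34864) (l := 7) rfl N34864 D122697
theorem N64404 : nd 64404 = n122698 := ndS (p := 34865) (l := 6) rfl N34865 D122698
theorem N64405 : nd 64405 = n122699 := ndS (p := 34866) (l := 0) rfl N34866 D122699
theorem N64406 : nd 64406 = n122701 := ndS (p := 34866) (l := 5) rfl N34866 D122701
theorem N64407 : nd 64407 = n122702 := ndS (p := 34866) (l := 7) rfl N34866 D122702
theorem N64408 : nd 64408 = n122704 := ndS (p := 34867) (l := 3) rfl N34867 D122704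
theorem N64409 : nd 64409 = n122706 := ndS (p := 34867) (l := 5) rfl N34867 D122706
theorem N64410 : nd 64410 = n122709 := ndS (p := 34868) (l := 3) rfl N34868 D122709
theorem N64411 : nd 64411 = n122711 := ndS (p := 34868) (l := 5) rfl N34868 D122711
theorem N64412 : nd 64412 = n122712 := ndS (p := 34868) (l := 6) rfl N34868 D122712
theorem N64413 : nd 64413 = n122713 := ndS (p := 34869) (l := 0) rfl N34869 D122713
theorem N64414 : nd 64414 = n122714 := ndS (p := 34869) (l := 1) rfl N34869 D122714
theorem N64415 : nd 64415 = n122715 := ndS (p := 34869) (l := 4) rfl N34869 D122715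
theorem N64416 : nd 64416 = n122716 := ndS (p := 34869) (l := 7) rfl N34869 D122716
theorem N64417 : nd 64417 = n122745 := ndS (p := 34871) (l := 3) rfl N34871 D122745
theorem N64418 : nd 64418 = n122797 := ndS (p := 34872) (l := 6) rfl N34872 D122797
theorem N64419 : nd 64419 = n122798 := ndS (p := 34873) (l := 6) rfl N34873 D122798
theorem N64420 : nd 64420 = n122827 := ndS (p := 34874) (l := 5) rfl N34874 D122827
theorem N64421 : nd 64421 = n122828 := ndS (p := 34874) (l := 6) rfl N34874 D122828
theorem N64422 : nd 64422 = n122834 := ndS (p := 34877) (l := 5) rfl N34877 D122834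
theorem N64423 : nd 64423 = n122837 := ndS (p := 34878) (l := 6) rfl N34878 D122837
theorem N64424 : nd 64424 = n122846 := ndS (p := 34881) (l := 3) rfl N34881 D122846
theorem N64425 : nd 64425 = n122847 := ndS (p := 34881) (l := 6) rfl N34881 D122847
theorem N64426 : nd 64426 = n122849 := ndS (p := 34883) (l := 6) rfl N34883 D122849
theorem N64427 : nd 64427 = n122866 := ndS (p := 34885) (l := 3) rfl N34885 D122866
theorem N64428 : nd 64428 = n122988 := ndS (p := 34887) (l := 3) rfl N34887 D122988
theorem N64429 : nd 64429 = n122991 := ndS (p := 34889) (l := 6) rfl N34889 D122991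
theorem N64430 : nd 64430 = n122992 := ndS (p := 34890) (l := 6) rfl N34890 D122992
theorem N64431 : nd 64431 = n122993 := ndS (p := 34891) (l := 0) rfl N34891 D122993
theorem N64432 : nd 64432 = n123001 := ndS (p := 34893) (l := 3) rfl N34893 D123001
theorem N64433 : nd 64433 = n123007 := ndS (p := 34895) (l := 3) rfl N34895 D123007
theorem N64434 : nd 64434 = n123008 := ndS (p := 34895) (l := 5) rfl N34895 D123008
theorem N64435 : nd 64435 = n123013 := ndS (p := 34897) (l := 0) rfl N34897 D123013
theorem N64436 : nd 64436 = n123014 := ndS (p := 34897) (l := 3) rfl N34897 D123014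
theorem N64437 : nd 64437 = n123017 := ndS (p := 34898) (l := 6) rfl N34898 D123017
theorem N64438 : nd 64438 = n123018 := ndS (p := 34899) (l := 0) rfl N34899 D123018
theorem N64439 : nd 64439 = n123019 := ndS (p := 34899) (l := 1) rfl N34899 D123019
theorem N64440 : nd 64440 = n123020 := ndS (p := 34899) (l := 5) rfl N34899 D123020
theorem N64441 : nd 64441 = n123028 := ndS (p := 34901) (l := 3) rfl N34901 D123028
theorem N64442 : nd 64442 = n123030 := ndS (p := 34902) (l := 0) rfl N34902 D123030
theorem N64443 : nd 64443 = n123031 := ndS (p := 34902) (l := 1) rfl N34902 D123031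
theorem N64444 : nd 64444 = n123037 := ndS (p := 34903) (l := 4) rfl N34903 D123037
theorem N64445 : nd 64445 = n123040 := ndS (p := 34904) (l := 1) rfl N34904 D123040
theorem N64446 : nd 64446 = n123041 := ndS (p := 34904) (l := 3) rfl N34904 D123041
theorem N64447 : nd 64447 = n123044 := ndS (p := 34905) (l := 3) rfl N34905 D123044
theorem N64448 : nd 64448 = n123046 := ndS (p := 34906) (l := 6) rfl N34906 D123046
theorem N64449 : nd 64449 = n123047 := ndS (p := 34907) (l := 6) rfl N34907 D123047
theorem N64450 : nd 64450 = n123048 := ndS (p := 34908) (l := 0) rfl N34908 D123048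
theorem N64451 : nd 64451 = n123060 := ndS (p := 34911) (l := 4) rfl N34911 D123060
theorem N64452 : nd 64452 = n123062 := ndS (p := 34912) (l := 6) rfl N34912 D123062
theorem N64453 : nd 64453 = n123064 := ndS (p := 34914) (l := 4) rfl N34914 D123064
theorem N64454 : nd 64454 = n123065 := ndS (p := 34914) (l := 6) rfl N34914 D123065
theorem N64455 : nd 64455 = n123067 := ndS (p := 34915) (l := 1) rfl N34915 D123067
theorem N64456 : nd 64456 = n123068 := ndS (p := 34915) (l := 5) rfl N34915 D123068
theorem N64457 : nd 64457 = n123074 := ndS (p := 34917) (l := 0) rfl N34917 D123074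
theorem N64458 : nd 64458 = n123077 := ndS (p := 34918) (l := 6) rfl N34918 D123077
theorem N64459 : nd 64459 = n123080 := ndS (p := 34920) (l := 0) rfl N34920 D123080
theorem N64460 : nd 64460 = n123082 := ndS (p := 34920) (l := 5) rfl N34920 D123082
theorem N64461 : nd 64461 = n123083 := ndS (p := 34920) (l := 7) rfl N34920 D123083
theorem N64462 : nd 64462 = n123084 := ndS (p := 34921) (l := 0) rfl N34921 D123084
theorem N64463 : nd 64463 = n123085 := ndS (p := 34921) (l := 5) rfl N34921 D123085
theorem N64464 : nd 64464 = n123087 := ndS (p := 34922) (l := 6) rfl N34922 D123087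
theorem N64465 : nd 64465 = n123088 := ndS (p := 34923) (l := 4) rfl N34923 D123088
theorem N64466 : nd 64466 = n123089 := ndS (p := 34923) (l := 6) rfl N34923 D123089
theorem N64467 : nd 64467 = n123092 := ndS (p := 34924) (l := 5) rfl N34924 D123092
theorem N64468 : nd 64468 = n123094 := ndS (p := 34925) (l := 6) rfl N34925 D123094
theorem N64469 : nd 64469 = n123095 := ndS (p := 34926) (l := 0) rfl N34926 D123095
theorem N64470 : nd 64470 = n123096 := ndS (p := 34926) (l := 1) rfl N34926 D123096
theorem N64471 : nd 64471 = n123097 := ndS (p := 34926) (l := 5) rfl N34926 D123097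
theorem N64472 : nd 64472 = n123098 := ndS (p := 34926) (l := 7) rfl N34926 D123098
theorem N64473 : nd 64473 = n123099 := ndS (p := 34927) (l := 6) rfl N34927 D123099
theorem N64474 : nd 64474 = n123100 := ndS (p := 34928) (l := 4) rfl N34928 D123100
theorem N64475 : nd 64475 = n123101 := ndS (p := 34928) (l := 6) rfl N34928 D123101
theorem N64476 : nd 64476 = n123102 := ndS (p := 34929) (l := 0) rfl N34929 D123102
theorem N64477 : nd 64477 = n123103 := ndS (p := 34929) (l := 1) rfl N34929 D123103
theorem N64478 : nd 64478 = n123104 := ndS (p := 34929) (l := 5) rfl N34929 D123104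
theorem N64479 : nd 64479 = n123105 := ndS (p := 34929) (l := 7) rfl N34929 D123105
theorem N64480 : nd 64480 = n123107 := ndS (p := 34930) (l := 4) rfl N34930 D123107
theorem N64481 : nd 64481 = n123108 := ndS (p := 34930) (l := 5) rfl N34930 D123108
theorem N64482 : nd 64482 = n123111 := ndS (p := 34931) (l := 3) rfl N34931 D123111
theorem N64483 : nd 64483 = n123112 := ndS (p := 34931) (l := 4) rfl N34931 D123112
theorem N64484 : nd 64484 = n123113 := ndS (p := 34931) (l := 5) rfl N34931 D123113
theorem N64485 : nd 64485 = n123114 := ndS (p := 34931) (l := 6) rfl N34931 D123114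
theorem N64486 : nd 64486 = n123115 := ndS (p := 34932) (l := 0) rfl N34932 D123115
theorem N64487 : nd 64487 = n123116 := ndS (p := 34932) (l := 1) rfl N34932 D123116
theorem N64488 : nd 64488 = n123117 := ndS (p := 34932) (l := 4) rfl N34932 D123117
theorem N64489 : nd 64489 = n123118 := ndS (p := 34932) (l := 7) rfl N34932 D123118
theorem N64490 : nd 64490 = n123121 := ndS (p := 34934) (l := 4) rfl N34934 D123121
theorem N64491 : nd 64491 = n123122 := ndS (p := 34934) (l := 5) rfl N34934 D123122
theorem N64492 : nd 64492 = n123123 := ndS (p := 34934) (l := 6) rfl N34934 D123123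
theorem N64493 : nd 64493 = n123129 := ndS (p := 34935) (l := 0) rfl N34935 D123129
theorem N64494 : nd 64494 = n123130 := ndS (p := 34935) (l := 1) rfl N34935 D123130
theorem N64495 : nd 64495 = n123131 := ndS (p := 34935) (l := 4) rfl N34935 D123131
theorem N64496 : nd 64496 = n123132 := ndS (p := 34935) (l := 7) rfl N34935 D123132
theorem N64497 : nd 64497 = n123133 := ndS (p := 34937) (l := 0) rfl N34937 D123133
theorem N64498 : nd 64498 = n123136 := ndS (p := 34937) (l := 5) rfl N34937 D123136
theorem N64499 : nd 64499 = n123139 := ndS (p := 34938) (l := 4) rfl N34938 D123139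
theorem N64500 : nd 64500 = n123140 := ndS (p := 34938) (l := 6) rfl N34938 D123140
theorem N64501 : nd 64501 = n123146 := ndS (p := 34939) (l := 4) rfl N34939 D123146
theorem N64502 : nd 64502 = n123147 := ndS (p := 34939) (l := 6) rfl N34939 D123147
theorem N64503 : nd 64503 = n123148 := ndS (p := 34941) (l := 3) rfl N34941 D123148
theorem N64504 : nd 64504 = n123149 := ndS (p := 34941) (l := 4) rfl N34941 D123149
theorem N64505 : nd 64505 = n123150 := ndS (p := 34941) (l := 6) rfl N34941 D123150
theorem N64506 : nd 64506 = n123152 := ndS (p := 34942) (l := 4) rfl N34942 D123152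
theorem N64507 : nd 64507 = n123153 := ndS (p := 34942) (l := 6) rfl N34942 D123153
theorem N64508 : nd 64508 = n123155 := ndS (p := 34943) (l := 1) rfl N34943 D123155
theorem N64509 : nd 64509 = n123156 := ndS (p := 34943) (l := 3) rfl N34943 D123156
theorem N64510 : nd 64510 = n123157 := ndS (p := 34944) (l := 6) rfl N34944 D123157
theorem N64511 : nd 64511 = n123171 := ndS (p := 34945) (l := 1) rfl N34945 D123171
theorem N64512 : nd 64512 = n123172 := ndS (p := 34945) (l := 2) rfl N34945 D123172
theorem N64513 : nd 64513 = n123173 := ndS (p := 34945) (l := 5) rfl N34945 D123173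
theorem N64514 : nd 64514 = n123174 := ndS (p := 34945) (l := 6) rfl N34945 D123174
theorem N64515 : nd 64515 = n123176 := ndS (p := 34946) (l := 6) rfl N34946 D123176
theorem N64516 : nd 64516 = n123177 := ndS (p := 34947) (l := 5) rfl N34947 D123177
theorem N64517 : nd 64517 = n123178 := ndS (p := 34948) (l := 6) rfl N34948 D123178
theorem N64518 : nd 64518 = n123179 := ndS (p := 34949) (l := 6) rfl N34949 D123179
theorem N64519 : nd 64519 = n123185 := ndS (p := 34951) (l := 4) rfl N34951 D123185
theorem N64520 : nd 64520 = n123188 := ndS (p := 34952) (l := 4) rfl N34952 D123188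
theorem N64521 : nd 64521 = n123195 := ndS (p := 34953) (l := 3) rfl N34953 D123195
theorem N64522 : nd 64522 = n123196 := ndS (p := 34953) (l := 5) rfl N34953 D123196
theorem N64523 : nd 64523 = n123198 := ndS (p := 34955) (l := 3) rfl N34955 D123198
theorem N64524 : nd 64524 = n123199 := ndS (p := 34955) (l := 6) rfl N34955 D123199
theorem N64525 : nd 64525 = n123203 := ndS (p := 34957) (l := 5) rfl N34957 D123203
theorem N64526 : nd 64526 = n123205 := ndS (p := 34958) (l := 0) rfl N34958 D123205
theorem N64527 : nd 64527 = n123206 := ndS (p := 34958) (l := 4) rfl N34958 D123206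
theorem N64528 : nd 64528 = n123208 := ndS (p := 34959) (l := 6) rfl N34959 D123208
theorem N64529 : nd 64529 = n123209 := ndS (p := 34960) (l := 0) rfl N34960 D123209
theorem N64530 : nd 64530 = n123210 := ndS (p := 34960) (l := 1) rfl N34960 D123210
theorem N64531 : nd 64531 = n123211 := ndS (p := 34960) (l := 5) rfl N34960 D123211
theorem N64532 : nd 64532 = n123212 := ndS (p := 34961) (l := 4) rfl N34961 D123212
theorem N64533 : nd 64533 = n123213 := ndS (p := 34962) (l := 6) rfl N34962 D123213
theorem N64534 : nd 64534 = n123214 := ndS (p := 34963) (l := 0) rfl N34963 D123214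
theorem N64535 : nd 64535 = n123216 := ndS (p := 34963) (l := 5) rfl N34963 D123216
theorem N64536 : nd 64536 = n123217 := ndS (p := 34963) (l := 7) rfl N34963 D123217
theorem N64537 : nd 64537 = n123218 := ndS (p := 34964) (l := 6) rfl N34964 D123218
theorem N64538 : nd 64538 = n123221 := ndS (p := 34965) (l := 5) rfl N34965 D123221
theorem N64539 : nd 64539 = n123223 := ndS (p := 34966) (l := 0) rfl N34966 D123223
theorem N64540 : nd 64540 = n123224 := ndS (p := 34966) (l := 1) rfl N34966 D123224
theorem N64541 : nd 64541 = n123225 := ndS (p := 34966) (l := 5) rfl N34966 D123225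
theorem N64542 : nd 64542 = n123226 := ndS (p := 34966) (l := 7) rfl N34966 D123226
theorem N64543 : nd 64543 = n123227 := ndS (p := 34967) (l := 0) rfl N34967 D123227
theorem N64544 : nd 64544 = n123228 := ndS (p := 34967) (l := 1) rfl N34967 D123228
theorem N64545 : nd 64545 = n123230 := ndS (p := 34967) (l := 7) rfl N34967 D123230
theorem N64546 : nd 64546 = n123232 := ndS (p := 34968) (l := 3) rfl N34968 D123232
theorem N64547 : nd 64547 = n123233 := ndS (p := 34968) (l := 4) rfl N34968 D123233
theorem N64548 : nd 64548 = n123234 := ndS (p := 34968) (l := 5) rfl N34968 D123234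
theorem N64549 : nd 64549 = n123235 := ndS (p := 34968) (l := 6) rfl N34968 D123235
theorem N64550 : nd 64550 = n123237 := ndS (p := 34969) (l := 3) rfl N34969 D123237
theorem N64551 : nd 64551 = n123239 := ndS (p := 34969) (l := 5) rfl N34969 D123239
theorem N64552 : nd 64552 = n123240 := ndS (p := 34969) (l := 6) rfl N34969 D123240
theorem N64553 : nd 64553 = n123241 := ndS (p := 34970) (l := 0) rfl N34970 D123241
theorem N64554 : nd 64554 = n123242 := ndS (p := 34970) (l := 1) rfl N34970 D123242
theorem N64555 : nd 64555 = n123243 := ndS (p := 34970) (l := 4) rfl N34970 D123243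
theorem N64556 : nd 64556 = n123245 := ndS (p := 34972) (l := 6) rfl N34972 D123245
theorem N64557 : nd 64557 = n123248 := ndS (p := 34973) (l := 5) rfl N34973 D123248
theorem N64558 : nd 64558 = n123249 := ndS (p := 34973) (l := 7) rfl N34973 D123249
theorem N64559 : nd 64559 = n123250 := ndS (p := 34974) (l := 0) rfl N34974 D123250
theorem N64560 : nd 64560 = n123251 := ndS (p := 34974) (l := 1) rfl N34974 D123251
theorem N64561 : nd 64561 = n123252 := ndS (p := 34974) (l := 5) rfl N34974 D123252
theorem N64562 : nd 64562 = n123253 := ndS (p := 34974) (l := 7) rfl N34974 D123253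
theorem N64563 : nd 64563 = n123270 := ndS (p := 34976) (l := 2) rfl N34976 D123270
theorem N64564 : nd 64564 = n123272 := ndS (p := 34976) (l := 6) rfl N34976 D123272
theorem N64565 : nd 64565 = n123275 := ndS (p := 34977) (l := 6) rfl N34977 D123275
theorem N64566 : nd 64566 = n123276 := ndS (p := 34979) (l := 1) rfl N34979 D123276
theorem N64567 : nd 64567 = n123277 := ndS (p := 34979) (l := 2) rfl N34979 D123277
theorem N64568 : nd 64568 = n123278 := ndS (p := 34979) (l := 4) rfl N34979 D123278
theorem N64569 : nd 64569 = n123279 := ndS (p := 34979) (l := 5) rfl N34979 D123279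
theorem N64570 : nd 64570 = n123285 := ndS (p := 34981) (l := 5) rfl N34981 D123285
theorem N64571 : nd 64571 = n123303 := ndS (p := 34982) (l := 5) rfl N34982 D123303
theorem N64572 : nd 64572 = n123304 := ndS (p := 34982) (l := 6) rfl N34982 D123304
theorem N64573 : nd 64573 = n123306 := ndS (p := 34983) (l := 4) rfl N34983 D123306
theorem N64574 : nd 64574 = n123307 := ndS (p := 34983) (l := 6) rfl N34983 D123307
theorem N64575 : nd 64575 = n123309 := ndS (p := 34985) (l := 0) rfl N34985 D123309
theorem N64576 : nd 64576 = n123310 := ndS (p := 34985) (l := 1) rfl N34985 D123310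
theorem N64577 : nd 64577 = n123311 := ndS (p := 34985) (l := 3) rfl N34985 D123311
theorem N64578 : nd 64578 = n123314 := ndS (p := 34986) (l := 4) rfl N34986 D123314
theorem N64579 : nd 64579 = n123323 := ndS (p := 34989) (l := 4) rfl N34989 D123323
theorem N64580 : nd 64580 = n123325 := ndS (p := 34990) (l := 3) rfl N34990 D123325
theorem N64581 : nd 64581 = n123332 := ndS (p := 34992) (l := 3) rfl N34992 D123332
theorem N64582 : nd 64582 = n123335 := ndS (p := 34993) (l := 0) rfl N34993 D123335
theorem N64583 : nd 64583 = n123336 := ndS (p := 34993) (l := 1) rfl N34993 D123336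
theorem N64584 : nd 64584 = n123337 := ndS (p := 34993) (l := 2) rfl N34993 D123337
theorem N64585 : nd 64585 = n123338 := ndS (p := 34993) (l := 5) rfl N34993 D123338
theorem N64586 : nd 64586 = n123339 := ndS (p := 34993) (l := 7) rfl N34993 D123339
theorem N64587 : nd 64587 = n123377 := ndS (p := 35001) (l := 1) rfl N35001 D123377
theorem N64588 : nd 64588 = n123379 := ndS (p := 35002) (l := 6) rfl N35002 D123379
theorem N64589 : nd 64589 = n123382 := ndS (p := 35003) (l := 5) rfl N35003 D123382
theorem N64590 : nd 64590 = n123385 := ndS (p := 35004) (l := 5) rfl N35004 D123385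
theorem N64591 : nd 64591 = n123387 := ndS (p := 35005) (l := 6) rfl N35005 D123387
theorem N64592 : nd 64592 = n123390 := ndS (p := 35006) (l := 5) rfl N35006 D123390
theorem N64593 : nd 64593 = n123392 := ndS (p := 35007) (l := 3) rfl N35007 D123392
theorem N64594 : nd 64594 = n123395 := ndS (p := 35008) (l := 6) rfl N35008 D123395
theorem N64595 : nd 64595 = n123399 := ndS (p := 35009) (l := 7) rfl N35009 D123399
theorem N64596 : nd 64596 = n123407 := ndS (p := 35011) (l := 0) rfl N35011 D123407
theorem N64597 : nd 64597 = n123408 := ndS (p := 35011) (l := 1) rfl N35011 D123408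
theorem N64598 : nd 64598 = n123428 := ndS (p := 35013) (l := 5) rfl N35013 D123428
theorem N64599 : nd 64599 = n123431 := ndS (p := 35014) (l := 0) rfl N35014 D123431
theorem N64600 : nd 64600 = n123443 := ndS (p := 35016) (l := 3) rfl N35016 D123443
theorem N64601 : nd 64601 = n123444 := ndS (p := 35016) (l := 4) rfl N35016 D123444
theorem N64602 : nd 64602 = n123445 := ndS (p := 35016) (l := 5) rfl N35016 D123445
theorem N64603 : nd 64603 = n123446 := ndS (p := 35016) (l := 6) rfl N35016 D123446
theorem N64604 : nd 64604 = n123447 := ndS (p := 35017) (l := 3) rfl N35017 D123447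
theorem N64605 : nd 64605 = n123448 := ndS (p := 35017) (l := 4) rfl N35017 D123448
theorem N64606 : nd 64606 = n123449 := ndS (p := 35017) (l := 6) rfl N35017 D123449
theorem N64607 : nd 64607 = n123472 := ndS (p := 35019) (l := 5) rfl N35019 D123472
theorem N64608 : nd 64608 = n123476 := ndS (p := 35021) (l := 3) rfl N35021 D123476
theorem N64609 : nd 64609 = n123479 := ndS (p := 35022) (l := 5) rfl N35022 D123479
theorem N64610 : nd 64610 = n123480 := ndS (p := 35022) (l := 6) rfl N35022 D123480
theorem N64611 : nd 64611 = n123482 := ndS (p := 35024) (l := 3) rfl N35024 D123482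
theorem N64612 : nd 64612 = n123483 := ndS (p := 35024) (l := 5) rfl N35024 D123483
theorem N64613 : nd 64613 = n123484 := ndS (p := 35024) (l := 6) rfl N35024 D123484
theorem N64614 : nd 64614 = n123485 := ndS (p := 35026) (l := 3) rfl N35026 D123485
theorem N64615 : nd 64615 = n123487 := ndS (p := 35026) (l := 5) rfl N35026 D123487
theorem N64616 : nd 64616 = n123490 := ndS (p := 35027) (l := 5) rfl N35027 D123490
theorem N64617 : nd 64617 = n123492 := ndS (p := 35028) (l := 0) rfl N35028 D123492
theorem N64618 : nd 64618 = n123493 := ndS (p := 35028) (l := 1) rfl N35028 D123493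
theorem N64619 : nd 64619 = n123494 := ndS (p := 35028) (l := 2) rfl N35028 D123494
theorem N64620 : nd 64620 = n123495 := ndS (p := 35028) (l := 5) rfl N35028 D123495
theorem N64621 : nd 64621 = n123496 := ndS (p := 35028) (l := 7) rfl N35028 D123496
theorem N64622 : nd 64622 = n123504 := ndS (p := 35033) (l := 0) rfl N35033 D123504
theorem N64623 : nd 64623 = n123505 := ndS (p := 35033) (l := 3) rfl N35033 D123505
theorem N64624 : nd 64624 = n123506 := ndS (p := 35033) (l := 5) rfl N35033 D123506
theorem N64625 : nd 64625 = n123507 := ndS (p := 35033) (l := 6) rfl N35033 D123507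
theorem N64626 : nd 64626 = n123508 := ndS (p := 35034) (l := 6) rfl N35034 D123508
theorem N64627 : nd 64627 = n123509 := ndS (p := 35035) (l := 0) rfl N35035 D123509
theorem N64628 : nd 64628 = n123511 := ndS (p := 35035) (l := 5) rfl N35035 D123511
theorem N64629 : nd 64629 = n123512 := ndS (p := 35035) (l := 7) rfl N35035 D123512
theorem N64630 : nd 64630 = n123513 := ndS (p := 35036) (l := 6) rfl N35036 D123513
theorem N64631 : nd 64631 = n123518 := ndS (p := 35039) (l := 5) rfl N35039 D123518
theorem N64632 : nd 64632 = n123521 := ndS (p := 35041) (l := 6) rfl N35041 D123521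
theorem N64633 : nd 64633 = n123522 := ndS (p := 35042) (l := 0) rfl N35042 D123522
theorem N64634 : nd 64634 = n123523 := ndS (p := 35042) (l := 1) rfl N35042 D123523
theorem N64635 : nd 64635 = n123524 := ndS (p := 35042) (l := 5) rfl N35042 D123524
theorem N64636 : nd 64636 = n123525 := ndS (p := 35042) (l := 7) rfl N35042 D123525
theorem N64637 : nd 64637 = n123528 := ndS (p := 35044) (l := 6) rfl N35044 D123528
theorem N64638 : nd 64638 = n123529 := ndS (p := 35045) (l := 1) rfl N35045 D123529
theorem N64639 : nd 64639 = n123531 := ndS (p := 35045) (l := 7) rfl N35045 D123531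
theorem N64640 : nd 64640 = n123532 := ndS (p := 35046) (l := 6) rfl N35046 D123532
theorem N64641 : nd 64641 = n123534 := ndS (p := 35047) (l := 6) rfl N35047 D123534
theorem N64642 : nd 64642 = n123535 := ndS (p := 35048) (l := 0) rfl N35048 D123535
theorem N64643 : nd 64643 = n123536 := ndS (p := 35048) (l := 1) rfl N35048 D123536
theorem N64644 : nd 64644 = n123538 := ndS (p := 35048) (l := 7) rfl N35048 D123538
theorem N64645 : nd 64645 = n123540 := ndS (p := 35049) (l := 3) rfl N35049 D123540
theorem N64646 : nd 64646 = n123541 := ndS (p := 35049) (l := 4) rfl N35049 D123541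
theorem N64647 : nd 64647 = n123542 := ndS (p := 35049) (l := 5) rfl N35049 D123542
theorem N64648 : nd 64648 = n123543 := ndS (p := 35049) (l := 6) rfl N35049 D123543
theorem N64649 : nd 64649 = n123545 := ndS (p := 35050) (l := 3) rfl N35050 D123545
theorem N64650 : nd 64650 = n123546 := ndS (p := 35050) (l := 4) rfl N35050 D123546
theorem N64651 : nd 64651 = n123547 := ndS (p := 35050) (l := 5) rfl N35050 D123547
theorem N64652 : nd 64652 = n123548 := ndS (p := 35050) (l := 6) rfl N35050 D123548
theorem N64653 : nd 64653 = n123549 := ndS (p := 35051) (l := 0) rfl N35051 D123549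
theorem N64654 : nd 64654 = n123550 := ndS (p := 35051) (l := 1) rfl N35051 D123550
theorem N64655 : nd 64655 = n123551 := ndS (p := 35051) (l := 4) rfl N35051 D123551
theorem N64656 : nd 64656 = n123552 := ndS (p := 35051) (l := 7) rfl N35051 D123552
theorem N64657 : nd 64657 = n123576 := ndS (p := 35054) (l := 6) rfl N35054 D123576
theorem N64658 : nd 64658 = n123578 := ndS (p := 35056) (l := 3) rfl N35056 D123578
theorem N64659 : nd 64659 = n123579 := ndS (p := 35056) (l := 6) rfl N35056 D123579
theorem N64660 : nd 64660 = n123580 := ndS (p := 35057) (l := 6) rfl N35057 D123580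
theorem N64661 : nd 64661 = n123583 := ndS (p := 35058) (l := 5) rfl N35058 D123583
theorem N64662 : nd 64662 = n123597 := ndS (p := 35063) (l := 3) rfl N35063 D123597
theorem N64663 : nd 64663 = n123598 := ndS (p := 35063) (l := 6) rfl N35063 D123598
theorem N64664 : nd 64664 = n123600 := ndS (p := 35064) (l := 1) rfl N35064 D123600
theorem N64665 : nd 64665 = n123601 := ndS (p := 35064) (l := 5) rfl N35064 D123601
theorem N64666 : nd 64666 = n123603 := ndS (p := 35065) (l := 6) rfl N35065 D123603
theorem N64667 : nd 64667 = n123604 := ndS (p := 35066) (l := 6) rfl N35066 D123604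
theorem N64668 : nd 64668 = n123605 := ndS (p := 35067) (l := 0) rfl N35067 D123605
theorem N64669 : nd 64669 = n123606 := ndS (p := 35067) (l := 1) rfl N35067 D123606
theorem N64670 : nd 64670 = n123607 := ndS (p := 35067) (l := 5) rfl N35067 D123607
theorem N64671 : nd 64671 = n123608 := ndS (p := 35067) (l := 7) rfl N35067 D123608
theorem N64672 : nd 64672 = n123619 := ndS (p := 35068) (l := 0) rfl N35068 D123619
theorem N64673 : nd 64673 = n123620 := ndS (p := 35068) (l := 1) rfl N35068 D123620
theorem N64674 : nd 64674 = n123621 := ndS (p := 35068) (l := 4) rfl N35068 D123621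
theorem N64675 : nd 64675 = n123637 := ndS (p := 35071) (l := 3) rfl N35071 D123637
theorem N64676 : nd 64676 = n123638 := ndS (p := 35071) (l := 6) rfl N35071 D123638
theorem N64677 : nd 64677 = n123639 := ndS (p := 35072) (l := 3) rfl N35072 D123639
theorem N64678 : nd 64678 = n123640 := ndS (p := 35072) (l := 6) rfl N35072 D123640
theorem N64679 : nd 64679 = n123641 := ndS (p := 35073) (l := 0) rfl N35073 D123641
theorem N64680 : nd 64680 = n123642 := ndS (p := 35073) (l := 1) rfl N35073 D123642
theorem N64681 : nd 64681 = n123643 := ndS (p := 35073) (l := 3) rfl N35073 D123643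
theorem N64682 : nd 64682 = n123645 := ndS (p := 35073) (l := 7) rfl N35073 D123645
theorem N64683 : nd 64683 = n123649 := ndS (p := 35077) (l := 6) rfl N35077 D123649
theorem N64684 : nd 64684 = n123654 := ndS (p := 35079) (l := 6) rfl N35079 D123654
theorem N64685 : nd 64685 = n123655 := ndS (p := 35080) (l := 0) rfl N35080 D123655
theorem N64686 : nd 64686 = n123657 := ndS (p := 35080) (l := 5) rfl N35080 D123657
theorem N64687 : nd 64687 = n123658 := ndS (p := 35080) (l := 7) rfl N35080 D123658
theorem N64688 : nd 64688 = n123659 := ndS (p := 35081) (l := 5) rfl N35081 D123659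
theorem N64689 : nd 64689 = n123662 := ndS (p := 35082) (l := 4) rfl N35082 D123662
theorem N64690 : nd 64690 = n123664 := ndS (p := 35084) (l := 6) rfl N35084 D123664
theorem N64691 : nd 64691 = n123668 := ndS (p := 35086) (l := 5) rfl N35086 D123668
theorem N64692 : nd 64692 = n123670 := ndS (p := 35087) (l := 6) rfl N35087 D123670
theorem N64693 : nd 64693 = n123672 := ndS (p := 35088) (l := 1) rfl N35088 D123672
theorem N64694 : nd 64694 = n123673 := ndS (p := 35088) (l := 5) rfl N35088 D123673
theorem N64695 : nd 64695 = n123674 := ndS (p := 35088) (l := 7) rfl N35088 D123674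
theorem N64696 : nd 64696 = n123678 := ndS (p := 35089) (l := 1) rfl N35089 D123678
theorem N64697 : nd 64697 = n123679 := ndS (p := 35089) (l := 4) rfl N35089 D123679
theorem N64698 : nd 64698 = n123681 := ndS (p := 35090) (l := 0) rfl N35090 D123681
theorem N64699 : nd 64699 = n123682 := ndS (p := 35090) (l := 1) rfl N35090 D123682
theorem N64700 : nd 64700 = n123683 := ndS (p := 35090) (l := 5) rfl N35090 D123683
theorem N64701 : nd 64701 = n123684 := ndS (p := 35090) (l := 7) rfl N35090 D123684
theorem N64702 : nd 64702 = n123694 := ndS (p := 35093) (l := 4) rfl N35093 D123694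
theorem N64703 : nd 64703 = n123695 := ndS (p := 35093) (l := 7) rfl N35093 D123695
theorem N64704 : nd 64704 = n123697 := ndS (p := 35095) (l := 6) rfl N35095 D123697
theorem N64705 : nd 64705 = n123698 := ndS (p := 35096) (l := 0) rfl N35096 D123698
theorem N64706 : nd 64706 = n123699 := ndS (p := 35096) (l := 1) rfl N35096 D123699
theorem N64707 : nd 64707 = n123700 := ndS (p := 35096) (l := 5) rfl N35096 D123700
theorem N64708 : nd 64708 = n123708 := ndS (p := 35099) (l := 0) rfl N35099 D123708
theorem N64709 : nd 64709 = n123709 := ndS (p := 35099) (l := 1) rfl N35099 D123709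
theorem N64710 : nd 64710 = n123710 := ndS (p := 35099) (l := 6) rfl N35099 D123710
theorem N64711 : nd 64711 = n123711 := ndS (p := 35100) (l := 0) rfl N35100 D123711
theorem N64712 : nd 64712 = n123712 := ndS (p := 35100) (l := 1) rfl N35100 D123712
theorem N64713 : nd 64713 = n123713 := ndS (p := 35100) (l := 5) rfl N35100 D123713
theorem N64714 : nd 64714 = n123714 := ndS (p := 35100) (l := 7) rfl N35100 D123714
theorem N64715 : nd 64715 = n123716 := ndS (p := 35101) (l := 3) rfl N35101 D123716
theorem N64716 : nd 64716 = n123717 := ndS (p := 35101) (l := 4) rfl N35101 D123717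
theorem N64717 : nd 64717 = n123718 := ndS (p := 35101) (l := 5) rfl N35101 D123718
theorem N64718 : nd 64718 = n123719 := ndS (p := 35101) (l := 6) rfl N35101 D123719
theorem N64719 : nd 64719 = n123721 := ndS (p := 35102) (l := 3) rfl N35102 D123721
theorem N64720 : nd 64720 = n123722 := ndS (p := 35102) (l := 4) rfl N35102 D123722
theorem N64721 : nd 64721 = n123723 := ndS (p := 35102) (l := 5) rfl N35102 D123723
theorem N64722 : nd 64722 = n123724 := ndS (p := 35102) (l := 6) rfl N35102 D123724
theorem N64723 : nd 64723 = n123726 := ndS (p := 35103) (l := 1) rfl N35103 D123726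
theorem N64724 : nd 64724 = n123727 := ndS (p := 35103) (l := 4) rfl N35103 D123727
theorem N64725 : nd 64725 = n123728 := ndS (p := 35103) (l := 7) rfl N35103 D123728
theorem N64726 : nd 64726 = n123735 := ndS (p := 35105) (l := 3) rfl N35105 D123735
theorem N64727 : nd 64727 = n123747 := ndS (p := 35107) (l := 1) rfl N35107 D123747
theorem N64728 : nd 64728 = n123748 := ndS (p := 35107) (l := 2) rfl N35107 D123748
theorem N64729 : nd 64729 = n123750 := ndS (p := 35107) (l := 5) rfl N35107 D123750
theorem N64730 : nd 64730 = n123751 := ndS (p := 35107) (l := 6) rfl N35107 D123751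
theorem N64731 : nd 64731 = n123753 := ndS (p := 35108) (l := 6) rfl N35108 D123753
theorem N64732 : nd 64732 = n123754 := ndS (p := 35109) (l := 4) rfl N35109 D123754
theorem N64733 : nd 64733 = n123755 := ndS (p := 35109) (l := 6) rfl N35109 D123755
theorem N64734 : nd 64734 = n123757 := ndS (p := 35110) (l := 5) rfl N35110 D123757
theorem N64735 : nd 64735 = n123761 := ndS (p := 35111) (l := 4) rfl N35111 D123761
theorem N64736 : nd 64736 = n123763 := ndS (p := 35111) (l := 6) rfl N35111 D123763
theorem N64737 : nd 64737 = n123765 := ndS (p := 35112) (l := 3) rfl N35112 D123765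
theorem N64738 : nd 64738 = n123766 := ndS (p := 35112) (l := 4) rfl N35112 D123766
theorem N64739 : nd 64739 = n123768 := ndS (p := 35112) (l := 6) rfl N35112 D123768
theorem N64740 : nd 64740 = n123769 := ndS (p := 35113) (l := 0) rfl N35113 D123769
theorem N64741 : nd 64741 = n123770 := ndS (p := 35113) (l := 1) rfl N35113 D123770
theorem N64742 : nd 64742 = n123771 := ndS (p := 35113) (l := 3) rfl N35113 D123771
theorem N64743 : nd 64743 = n123772 := ndS (p := 35113) (l := 5) rfl N35113 D123772
theorem N64744 : nd 64744 = n123773 := ndS (p := 35113) (l := 7) rfl N35113 D123773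
theorem N64745 : nd 64745 = n123774 := ndS (p := 35114) (l := 6) rfl N35114 D123774
theorem N64746 : nd 64746 = n123775 := ndS (p := 35115) (l := 6) rfl N35115 D123775
theorem N64747 : nd 64747 = n123776 := ndS (p := 35116) (l := 0) rfl N35116 D123776
theorem N64748 : nd 64748 = n123777 := ndS (p := 35116) (l := 6) rfl N35116 D123777
theorem N64749 : nd 64749 = n123778 := ndS (p := 35117) (l := 0) rfl N35117 D123778
theorem N64750 : nd 64750 = n123780 := ndS (p := 35117) (l := 5) rfl N35117 D123780
theorem N64751 : nd 64751 = n123781 := ndS (p := 35117) (l := 7) rfl N35117 D123781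
theorem N64752 : nd 64752 = n123783 := ndS (p := 35118) (l := 3) rfl N35118 D123783
theorem N64753 : nd 64753 = n123785 := ndS (p := 35118) (l := 5) rfl N35118 D123785
theorem N64754 : nd 64754 = n123790 := ndS (p := 35119) (l := 5) rfl N35119 D123790
theorem N64755 : nd 64755 = n123791 := ndS (p := 35119) (l := 6) rfl N35119 D123791
theorem N64756 : nd 64756 = n123792 := ndS (p := 35120) (l := 0) rfl N35120 D123792
theorem N64757 : nd 64757 = n123793 := ndS (p := 35120) (l := 1) rfl N35120 D123793
theorem N64758 : nd 64758 = n123794 := ndS (p := 35120) (l := 4) rfl N35120 D123794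
theorem N64759 : nd 64759 = n123795 := ndS (p := 35120) (l := 7) rfl N35120 D123795
theorem N64760 : nd 64760 = n123806 := ndS (p := 35124) (l := 3) rfl N35124 D123806
theorem N64761 : nd 64761 = n123808 := ndS (p := 35124) (l := 5) rfl N35124 D123808
theorem N64762 : nd 64762 = n123809 := ndS (p := 35124) (l := 6) rfl N35124 D123809
theorem N64763 : nd 64763 = n123814 := ndS (p := 35126) (l := 6) rfl N35126 D123814
theorem N64764 : nd 64764 = n123815 := ndS (p := 35127) (l := 3) rfl N35127 D123815
theorem N64765 : nd 64765 = n123816 := ndS (p := 35127) (l := 4) rfl N35127 D123816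
theorem N64766 : nd 64766 = n123817 := ndS (p := 35127) (l := 6) rfl N35127 D123817
theorem N64767 : nd 64767 = n123818 := ndS (p := 35128) (l := 0) rfl N35128 D123818
theorem N64768 : nd 64768 = n123819 := ndS (p := 35128) (l := 1) rfl N35128 D123819
theorem N64769 : nd 64769 = n123820 := ndS (p := 35128) (l := 5) rfl N35128 D123820
theorem N64770 : nd 64770 = n123821 := ndS (p := 35128) (l := 7) rfl N35128 D123821
theorem N64771 : nd 64771 = n123825 := ndS (p := 35129) (l := 5) rfl N35129 D123825
theorem N64772 : nd 64772 = n123826 := ndS (p := 35129) (l := 6) rfl N35129 D123826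
theorem N64773 : nd 64773 = n123828 := ndS (p := 35130) (l := 3) rfl N35130 D123828
theorem N64774 : nd 64774 = n123830 := ndS (p := 35130) (l := 5) rfl N35130 D123830
theorem N64775 : nd 64775 = n123832 := ndS (p := 35131) (l := 0) rfl N35131 D123832
theorem N64776 : nd 64776 = n123833 := ndS (p := 35131) (l := 1) rfl N35131 D123833
theorem N64777 : nd 64777 = n123834 := ndS (p := 35131) (l := 4) rfl N35131 D123834
theorem N64778 : nd 64778 = n123835 := ndS (p := 35131) (l := 7) rfl N35131 D123835
theorem N64779 : nd 64779 = n123845 := ndS (p := 35133) (l := 4) rfl N35133 D123845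
theorem N64780 : nd 64780 = n123846 := ndS (p := 35133) (l := 5) rfl N35133 D123846
theorem N64781 : nd 64781 = n123847 := ndS (p := 35133) (l := 6) rfl N35133 D123847
theorem N64782 : nd 64782 = n123849 := ndS (p := 35134) (l := 0) rfl N35134 D123849
theorem N64783 : nd 64783 = n123851 := ndS (p := 35134) (l := 3) rfl N35134 D123851
theorem N64784 : nd 64784 = n123852 := ndS (p := 35134) (l := 5) rfl N35134 D123852
theorem N64785 : nd 64785 = n123855 := ndS (p := 35135) (l := 0) rfl N35135 D123855
theorem N64786 : nd 64786 = n123856 := ndS (p := 35135) (l := 1) rfl N35135 D123856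
theorem N64787 : nd 64787 = n123857 := ndS (p := 35135) (l := 4) rfl N35135 D123857
theorem N64788 : nd 64788 = n123858 := ndS (p := 35135) (l := 6) rfl N35135 D123858
theorem N64789 : nd 64789 = n123861 := ndS (p := 35136) (l := 1) rfl N35136 D123861
theorem N64790 : nd 64790 = n123862 := ndS (p := 35136) (l := 5) rfl N35136 D123862
theorem N64791 : nd 64791 = n123866 := ndS (p := 35137) (l := 1) rfl N35137 D123866
theorem N64792 : nd 64792 = n123869 := ndS (p := 35137) (l := 5) rfl N35137 D123869
theorem N64793 : nd 64793 = n123872 := ndS (p := 35138) (l := 5) rfl N35138 D123872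
theorem N64794 : nd 64794 = n123874 := ndS (p := 35139) (l := 4) rfl N35139 D123874
theorem N64795 : nd 64795 = n123881 := ndS (p := 35140) (l := 3) rfl N35140 D123881
theorem N64796 : nd 64796 = n123882 := ndS (p := 35140) (l := 4) rfl N35140 D123882
theorem N64797 : nd 64797 = n123883 := ndS (p := 35140) (l := 5) rfl N35140 D123883
theorem N64798 : nd 64798 = n123884 := ndS (p := 35140) (l := 6) rfl N35140 D123884
theorem N64799 : nd 64799 = n123886 := ndS (p := 35141) (l := 3) rfl N35141 D123886
theorem N64800 : nd 64800 = n123887 := ndS (p := 35141) (l := 4) rfl N35141 D123887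
theorem N64801 : nd 64801 = n123888 := ndS (p := 35141) (l := 5) rfl N35141 D123888
theorem N64802 : nd 64802 = n123889 := ndS (p := 35141) (l := 6) rfl N35141 D123889
theorem N64803 : nd 64803 = n123890 := ndS (p := 35142) (l := 0) rfl N35142 D123890
theorem N64804 : nd 64804 = n123891 := ndS (p := 35142) (l := 1) rfl N35142 D123891
theorem N64805 : nd 64805 = n123892 := ndS (p := 35142) (l := 3) rfl N35142 D123892
theorem N64806 : nd 64806 = n123893 := ndS (p := 35142) (l := 5) rfl N35142 D123893
theorem N64807 : nd 64807 = n123894 := ndS (p := 35142) (l := 7) rfl N35142 D123894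
theorem N64808 : nd 64808 = n123895 := ndS (p := 35143) (l := 6) rfl N35143 D123895
theorem N64809 : nd 64809 = n123896 := ndS (p := 35144) (l := 5) rfl N35144 D123896
theorem N64810 : nd 64810 = n123899 := ndS (p := 35145) (l := 4) rfl N35145 D123899
theorem N64811 : nd 64811 = n123900 := ndS (p := 35145) (l := 5) rfl N35145 D123900
theorem N64812 : nd 64812 = n123904 := ndS (p := 35146) (l := 4) rfl N35146 D123904
theorem N64813 : nd 64813 = n123905 := ndS (p := 35146) (l := 5) rfl N35146 D123905
theorem N64814 : nd 64814 = n123907 := ndS (p := 35147) (l := 0) rfl N35147 D123907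
theorem N64815 : nd 64815 = n123908 := ndS (p := 35147) (l := 1) rfl N35147 D123908
theorem N64816 : nd 64816 = n123909 := ndS (p := 35147) (l := 4) rfl N35147 D123909
theorem N64817 : nd 64817 = n123913 := ndS (p := 35148) (l := 5) rfl N35148 D123913
theorem N64818 : nd 64818 = n123927 := ndS (p := 35149) (l := 0) rfl N35149 D123927
theorem N64819 : nd 64819 = n123928 := ndS (p := 35149) (l := 1) rfl N35149 D123928
theorem N64820 : nd 64820 = n123929 := ndS (p := 35149) (l := 4) rfl N35149 D123929
theorem N64821 : nd 64821 = n123930 := ndS (p := 35149) (l := 6) rfl N35149 D123930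
theorem N64822 : nd 64822 = n123931 := ndS (p := 35150) (l := 0) rfl N35150 D123931
theorem N64823 : nd 64823 = n123932 := ndS (p := 35150) (l := 1) rfl N35150 D123932
theorem N64824 : nd 64824 = n123933 := ndS (p := 35150) (l := 5) rfl N35150 D123933
theorem N64825 : nd 64825 = n123944 := ndS (p := 35153) (l := 3) rfl N35153 D123944
theorem N64826 : nd 64826 = n123945 := ndS (p := 35153) (l := 6) rfl N35153 D123945
theorem N64827 : nd 64827 = n123948 := ndS (p := 35154) (l := 5) rfl N35154 D123948
theorem N64828 : nd 64828 = n123949 := ndS (p := 35154) (l := 7) rfl N35154 D123949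
theorem N64829 : nd 64829 = n123950 := ndS (p := 35155) (l := 4) rfl N35155 D123950
theorem N64830 : nd 64830 = n123958 := ndS (p := 35156) (l := 4) rfl N35156 D123958
theorem N64831 : nd 64831 = n123959 := ndS (p := 35156) (l := 5) rfl N35156 D123959
theorem N64832 : nd 64832 = n123962 := ndS (p := 35157) (l := 5) rfl N35157 D123962
theorem N64833 : nd 64833 = n123967 := ndS (p := 35158) (l := 6) rfl N35158 D123967
theorem N64834 : nd 64834 = n123968 := ndS (p := 35159) (l := 0) rfl N35159 D123968
theorem N64835 : nd 64835 = n123970 := ndS (p := 35159) (l := 4) rfl N35159 D123970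
theorem N64836 : nd 64836 = n123971 := ndS (p := 35159) (l := 6) rfl N35159 D123971
theorem N64837 : nd 64837 = n123974 := ndS (p := 35160) (l := 5) rfl N35160 D123974
theorem N64838 : nd 64838 = n123976 := ndS (p := 35162) (l := 3) rfl N35162 D123976
theorem N64839 : nd 64839 = n123977 := ndS (p := 35162) (l := 6) rfl N35162 D123977
theorem N64840 : nd 64840 = n123978 := ndS (p := 35163) (l := 0) rfl N35163 D123978
theorem N64841 : nd 64841 = n123979 := ndS (p := 35163) (l := 1) rfl N35163 D123979
theorem N64842 : nd 64842 = n123980 := ndS (p := 35163) (l := 5) rfl N35163 D123980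
theorem N64843 : nd 64843 = n123981 := ndS (p := 35163) (l := 7) rfl N35163 D123981
theorem N64844 : nd 64844 = n123982 := ndS (p := 35164) (l := 4) rfl N35164 D123982
theorem N64845 : nd 64845 = n123986 := ndS (p := 35166) (l := 4) rfl N35166 D123986
theorem N64846 : nd 64846 = n123988 := ndS (p := 35166) (l := 6) rfl N35166 D123988
theorem N64847 : nd 64847 = n123989 := ndS (p := 35167) (l := 0) rfl N35167 D123989
theorem N64848 : nd 64848 = n123990 := ndS (p := 35167) (l := 1) rfl N35167 D123990
theorem N64849 : nd 64849 = n123991 := ndS (p := 35167) (l := 3) rfl N35167 D123991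
theorem N64850 : nd 64850 = n123992 := ndS (p := 35167) (l := 6) rfl N35167 D123992
theorem N64851 : nd 64851 = n123996 := ndS (p := 35168) (l := 7) rfl N35168 D123996
theorem N64852 : nd 64852 = n123999 := ndS (p := 35169) (l := 2) rfl N35169 D123999
theorem N64853 : nd 64853 = n124000 := ndS (p := 35169) (l := 4) rfl N35169 D124000
theorem N64854 : nd 64854 = n124002 := ndS (p := 35169) (l := 6) rfl N35169 D124002
theorem N64855 : nd 64855 = n124003 := ndS (p := 35170) (l := 3) rfl N35170 D124003
theorem N64856 : nd 64856 = n124004 := ndS (p := 35170) (l := 6) rfl N35170 D124004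
theorem N64857 : nd 64857 = n124005 := ndS (p := 35171) (l := 0) rfl N35171 D124005
theorem N64858 : nd 64858 = n124006 := ndS (p := 35171) (l := 1) rfl N35171 D124006
theorem N64859 : nd 64859 = n124007 := ndS (p := 35171) (l := 5) rfl N35171 D124007
theorem N64860 : nd 64860 = n124008 := ndS (p := 35171) (l := 7) rfl N35171 D124008
theorem N64861 : nd 64861 = n124010 := ndS (p := 35172) (l := 3) rfl N35172 D124010
theorem N64862 : nd 64862 = n124013 := ndS (p := 35173) (l := 3) rfl N35173 D124013
theorem N64863 : nd 64863 = n124014 := ndS (p := 35173) (l := 6) rfl N35173 D124014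
theorem N64864 : nd 64864 = n124015 := ndS (p := 35174) (l := 0) rfl N35174 D124015
theorem N64865 : nd 64865 = n124016 := ndS (p := 35174) (l := 1) rfl N35174 D124016
theorem N64866 : nd 64866 = n124017 := ndS (p := 35174) (l := 2) rfl N35174 D124017
theorem N64867 : nd 64867 = n124018 := ndS (p := 35174) (l := 5) rfl N35174 D124018
theorem N64868 : nd 64868 = n124019 := ndS (p := 35174) (l := 7) rfl N35174 D124019
theorem N64869 : nd 64869 = n124020 := ndS (p := 35175) (l := 6) rfl N35175 D124020
theorem N64870 : nd 64870 = n124021 := ndS (p := 35176) (l := 6) rfl N35176 D124021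
theorem N64871 : nd 64871 = n124023 := ndS (p := 35177) (l := 1) rfl N35177 D124023
theorem N64872 : nd 64872 = n124024 := ndS (p := 35177) (l := 5) rfl N35177 D124024
theorem N64873 : nd 64873 = n124025 := ndS (p := 35178) (l := 4) rfl N35178 D124025
theorem N64874 : nd 64874 = n124029 := ndS (p := 35179) (l := 5) rfl N35179 D124029
theorem N64875 : nd 64875 = n124030 := ndS (p := 35179) (l := 6) rfl N35179 D124030
theorem N64876 : nd 64876 = n124031 := ndS (p := 35180) (l := 0) rfl N35180 D124031
theorem N64877 : nd 64877 = n124032 := ndS (p := 35180) (l := 1) rfl N35180 D124032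
theorem N64878 : nd 64878 = n124033 := ndS (p := 35180) (l := 4) rfl N35180 D124033
theorem N64879 : nd 64879 = n124034 := ndS (p := 35180) (l := 6) rfl N35180 D124034
theorem N64880 : nd 64880 = n124035 := ndS (p := 35181) (l := 5) rfl N35181 D124035
theorem N64881 : nd 64881 = n124042 := ndS (p := 35182) (l := 4) rfl N35182 D124042
theorem N64882 : nd 64882 = n124044 := ndS (p := 35183) (l := 3) rfl N35183 D124044
theorem N64883 : nd 64883 = n124045 := ndS (p := 35183) (l := 4) rfl N35183 D124045
theorem N64884 : nd 64884 = n124046 := ndS (p := 35183) (l := 6) rfl N35183 D124046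
theorem N64885 : nd 64885 = n124047 := ndS (p := 35184) (l := 3) rfl N35184 D124047
theorem N64886 : nd 64886 = n124048 := ndS (p := 35184) (l := 4) rfl N35184 D124048
theorem N64887 : nd 64887 = n124049 := ndS (p := 35184) (l := 6) rfl N35184 D124049
theorem N64888 : nd 64888 = n124050 := ndS (p := 35185) (l := 0) rfl N35185 D124050
theorem N64889 : nd 64889 = n124051 := ndS (p := 35185) (l := 1) rfl N35185 D124051
theorem N64890 : nd 64890 = n124052 := ndS (p := 35185) (l := 3) rfl N35185 D124052
theorem N64891 : nd 64891 = n124053 := ndS (p := 35185) (l := 5) rfl N35185 D124053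
theorem N64892 : nd 64892 = n124054 := ndS (p := 35186) (l := 0) rfl N35186 D124054
theorem N64893 : nd 64893 = n124065 := ndS (p := 35188) (l := 0) rfl N35188 D124065
theorem N64894 : nd 64894 = n124067 := ndS (p := 35188) (l := 2) rfl N35188 D124067
theorem N64895 : nd 64895 = n124069 := ndS (p := 35189) (l := 4) rfl N35189 D124069
theorem N64896 : nd 64896 = n124070 := ndS (p := 35189) (l := 6) rfl N35189 D124070
theorem N64897 : nd 64897 = n124072 := ndS (p := 35190) (l := 3) rfl N35190 D124072
theorem N64898 : nd 64898 = n124073 := ndS (p := 35190) (l := 4) rfl N35190 D124073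
theorem N64899 : nd 64899 = n124074 := ndS (p := 35190) (l := 5) rfl N35190 D124074
theorem N64900 : nd 64900 = n124081 := ndS (p := 35191) (l := 5) rfl N35191 D124081
theorem N64901 : nd 64901 = n124083 := ndS (p := 35192) (l := 0) rfl N35192 D124083
theorem N64902 : nd 64902 = n124084 := ndS (p := 35192) (l := 1) rfl N35192 D124084
theorem N64903 : nd 64903 = n124087 := ndS (p := 35193) (l := 0) rfl N35193 D124087
theorem N64904 : nd 64904 = n124089 := ndS (p := 35193) (l := 5) rfl N35193 D124089
theorem N64905 : nd 64905 = n124140 := ndS (p := 35195) (l := 3) rfl N35195 D124140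
theorem N64906 : nd 64906 = n124141 := ndS (p := 35195) (l := 4) rfl N35195 D124141
theorem N64907 : nd 64907 = n124142 := ndS (p := 35195) (l := 5) rfl N35195 D124142
theorem N64908 : nd 64908 = n124144 := ndS (p := 35196) (l := 5) rfl N35196 D124144
theorem N64909 : nd 64909 = n124145 := ndS (p := 35196) (l := 6) rfl N35196 D124145
theorem N64910 : nd 64910 = n124146 := ndS (p := 35197) (l := 0) rfl N35197 D124146
theorem N64911 : nd 64911 = n124148 := ndS (p := 35197) (l := 4) rfl N35197 D124148
theorem N64912 : nd 64912 = n124149 := ndS (p := 35197) (l := 6) rfl N35197 D124149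
theorem N64913 : nd 64913 = n124151 := ndS (p := 35198) (l := 1) rfl N35198 D124151
theorem N64914 : nd 64914 = n124152 := ndS (p := 35198) (l := 5) rfl N35198 D124152
theorem N64915 : nd 64915 = n124154 := ndS (p := 35199) (l := 3) rfl N35199 D124154
theorem N64916 : nd 64916 = n124155 := ndS (p := 35199) (l := 6) rfl N35199 D124155
theorem N64917 : nd 64917 = n124156 := ndS (p := 35200) (l := 0) rfl N35200 D124156
theorem N64918 : nd 64918 = n124157 := ndS (p := 35200) (l := 1) rfl N35200 D124157
theorem N64919 : nd 64919 = n124158 := ndS (p := 35200) (l := 5) rfl N35200 D124158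
theorem N64920 : nd 64920 = n124159 := ndS (p := 35200) (l := 7) rfl N35200 D124159
theorem N64921 : nd 64921 = n124160 := ndS (p := 35201) (l := 3) rfl N35201 D124160
theorem N64922 : nd 64922 = n124161 := ndS (p := 35202) (l := 4) rfl N35202 D124161
theorem N64923 : nd 64923 = n124168 := ndS (p := 35203) (l := 3) rfl N35203 D124168
theorem N64924 : nd 64924 = n124169 := ndS (p := 35203) (l := 5) rfl N35203 D124169
theorem N64925 : nd 64925 = n124170 := ndS (p := 35204) (l := 3) rfl N35204 D124170
theorem N64926 : nd 64926 = n124171 := ndS (p := 35204) (l := 5) rfl N35204 D124171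
theorem N64927 : nd 64927 = n124173 := ndS (p := 35205) (l := 4) rfl N35205 D124173
theorem N64928 : nd 64928 = n124178 := ndS (p := 35206) (l := 5) rfl N35206 D124178
theorem N64929 : nd 64929 = n124179 := ndS (p := 35206) (l := 6) rfl N35206 D124179
theorem N64930 : nd 64930 = n124182 := ndS (p := 35207) (l := 4) rfl N35207 D124182
theorem N64931 : nd 64931 = n124183 := ndS (p := 35207) (l := 6) rfl N35207 D124183
theorem N64932 : nd 64932 = n124184 := ndS (p := 35208) (l := 5) rfl N35208 D124184
theorem N64933 : nd 64933 = n124188 := ndS (p := 35209) (l := 3) rfl N35209 D124188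
theorem N64934 : nd 64934 = n124189 := ndS (p := 35209) (l := 5) rfl N35209 D124189
theorem N64935 : nd 64935 = n124206 := ndS (p := 35212) (l := 4) rfl N35212 D124206
theorem N64936 : nd 64936 = n124208 := ndS (p := 35213) (l := 0) rfl N35213 D124208
theorem N64937 : nd 64937 = n124209 := ndS (p := 35213) (l := 3) rfl N35213 D124209
theorem N64938 : nd 64938 = n124210 := ndS (p := 35213) (l := 5) rfl N35213 D124210
theorem N64939 : nd 64939 = n124213 := ndS (p := 35214) (l := 1) rfl N35214 D124213
theorem N64940 : nd 64940 = n124214 := ndS (p := 35215) (l := 3) rfl N35215 D124214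
theorem N64941 : nd 64941 = n124215 := ndS (p := 35215) (l := 5) rfl N35215 D124215
theorem N64942 : nd 64942 = n124216 := ndS (p := 35216) (l := 3) rfl N35216 D124216
theorem N64943 : nd 64943 = n124217 := ndS (p := 35216) (l := 5) rfl N35216 D124217
theorem N64944 : nd 64944 = n124219 := ndS (p := 35217) (l := 3) rfl N35217 D124219
theorem N64945 : nd 64945 = n124220 := ndS (p := 35217) (l := 5) rfl N35217 D124220
theorem N64946 : nd 64946 = n124221 := ndS (p := 35218) (l := 0) rfl N35218 D124221
theorem N64947 : nd 64947 = n124222 := ndS (p := 35218) (l := 1) rfl N35218 D124222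
theorem N64948 : nd 64948 = n124223 := ndS (p := 35218) (l := 2) rfl N35218 D124223
theorem N64949 : nd 64949 = n124224 := ndS (p := 35218) (l := 5) rfl N35218 D124224
theorem N64950 : nd 64950 = n124225 := ndS (p := 35219) (l := 0) rfl N35219 D124225
theorem N64951 : nd 64951 = n124226 := ndS (p := 35219) (l := 1) rfl N35219 D124226
theorem N64952 : nd 64952 = n124227 := ndS (p := 35219) (l := 4) rfl N35219 D124227
theorem N64953 : nd 64953 = n124228 := ndS (p := 35219) (l := 6) rfl N35219 D124228
theorem N64954 : nd 64954 = n124230 := ndS (p := 35221) (l := 3) rfl N35221 D124230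
theorem N64955 : nd 64955 = n124231 := ndS (p := 35221) (l := 5) rfl N35221 D124231
theorem N64956 : nd 64956 = n124233 := ndS (p := 35222) (l := 0) rfl N35222 D124233
theorem N64957 : nd 64957 = n124234 := ndS (p := 35222) (l := 1) rfl N35222 D124234
theorem N64958 : nd 64958 = n124235 := ndS (p := 35222) (l := 2) rfl N35222 D124235
theorem N64959 : nd 64959 = n124236 := ndS (p := 35222) (l := 5) rfl N35222 D124236
theorem N64960 : nd 64960 = n124237 := ndS (p := 35223) (l := 6) rfl N35223 D124237
theorem N64961 : nd 64961 = n124242 := ndS (p := 35224) (l := 0) rfl N35224 D124242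
theorem N64962 : nd 64962 = n124243 := ndS (p := 35224) (l := 1) rfl N35224 D124243
theorem N64963 : nd 64963 = n124244 := ndS (p := 35224) (l := 2) rfl N35224 D124244
theorem N64964 : nd 64964 = n124245 := ndS (p := 35224) (l := 5) rfl N35224 D124245
theorem N64965 : nd 64965 = n124246 := ndS (p := 35224) (l := 6) rfl N35224 D124246
theorem N64966 : nd 64966 = n124247 := ndS (p := 35225) (l := 6) rfl N35225 D124247
theorem N64967 : nd 64967 = n124255 := ndS (p := 35228) (l := 0) rfl N35228 D124255
theorem N64968 : nd 64968 = n124256 := ndS (p := 35228) (l := 1) rfl N35228 D124256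
theorem N64969 : nd 64969 = n124257 := ndS (p := 35228) (l := 2) rfl N35228 D124257
theorem N64970 : nd 64970 = n124258 := ndS (p := 35228) (l := 5) rfl N35228 D124258
theorem N64971 : nd 64971 = n124260 := ndS (p := 35229) (l := 6) rfl N35229 D124260
theorem N64972 : nd 64972 = n124274 := ndS (p := 35231) (l := 0) rfl N35231 D124274
theorem N64973 : nd 64973 = n124275 := ndS (p := 35231) (l := 1) rfl N35231 D124275
theorem N64974 : nd 64974 = n124276 := ndS (p := 35231) (l := 2) rfl N35231 D124276
theorem N64975 : nd 64975 = n124277 := ndS (p := 35231) (l := 5) rfl N35231 D124277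
theorem N64976 : nd 64976 = n124278 := ndS (p := 35231) (l := 6) rfl N35231 D124278
theorem N64977 : nd 64977 = n124279 := ndS (p := 35232) (l := 6) rfl N35232 D124279
theorem N64978 : nd 64978 = n124281 := ndS (p := 35234) (l := 0) rfl N35234 D124281
theorem N64979 : nd 64979 = n124282 := ndS (p := 35234) (l := 1) rfl N35234 D124282
theorem N64980 : nd 64980 = n124283 := ndS (p := 35234) (l := 2) rfl N35234 D124283
theorem N64981 : nd 64981 = n124284 := ndS (p := 35234) (l := 5) rfl N35234 D124284
theorem N64982 : nd 64982 = n124286 := ndS (p := 35235) (l := 6) rfl N35235 D124286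
theorem N64983 : nd 64983 = n124293 := ndS (p := 35236) (l := 4) rfl N35236 D124293
theorem N64984 : nd 64984 = n124294 := ndS (p := 35236) (l := 5) rfl N35236 D124294
theorem N64985 : nd 64985 = n124295 := ndS (p := 35236) (l := 6) rfl N35236 D124295
theorem N64986 : nd 64986 = n124297 := ndS (p := 35237) (l := 3) rfl N35237 D124297
theorem N64987 : nd 64987 = n124298 := ndS (p := 35237) (l := 5) rfl N35237 D124298
theorem N64988 : nd 64988 = n124300 := ndS (p := 35238) (l := 5) rfl N35238 D124300
theorem N64989 : nd 64989 = n124301 := ndS (p := 35239) (l := 0) rfl N35239 D124301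
theorem N64990 : nd 64990 = n124302 := ndS (p := 35239) (l := 1) rfl N35239 D124302
theorem N64991 : nd 64991 = n124303 := ndS (p := 35239) (l := 4) rfl N35239 D124303
theorem N64992 : nd 64992 = n124304 := ndS (p := 35239) (l := 6) rfl N35239 D124304
theorem N64993 : nd 64993 = n124305 := ndS (p := 35240) (l := 3) rfl N35240 D124305
theorem N64994 : nd 64994 = n124306 := ndS (p := 35240) (l := 6) rfl N35240 D124306
theorem N64995 : nd 64995 = n124307 := ndS (p := 35241) (l := 3) rfl N35241 D124307
theorem N64996 : nd 64996 = n124308 := ndS (p := 35241) (l := 6) rfl N35241 D124308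
theorem N64997 : nd 64997 = n124309 := ndS (p := 35242) (l := 3) rfl N35242 D124309
theorem N64998 : nd 64998 = n124310 := ndS (p := 35242) (l := 6) rfl N35242 D124310
theorem N64999 : nd 64999 = n124311 := ndS (p := 35243) (l := 0) rfl N35243 D124311
theorem N65000 : nd 65000 = n124312 := ndS (p := 35243) (l := 1) rfl N35243 D124312
theorem N65001 : nd 65001 = n124313 := ndS (p := 35243) (l := 7) rfl N35243 D124313
theorem N65002 : nd 65002 = n124316 := ndS (p := 35246) (l := 0) rfl N35246 D124316
theorem N65003 : nd 65003 = n124318 := ndS (p := 35246) (l := 5) rfl N35246 D124318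
theorem N65004 : nd 65004 = n124322 := ndS (p := 35247) (l := 0) rfl N35247 D124322
theorem N65005 : nd 65005 = n124323 := ndS (p := 35247) (l := 4) rfl N35247 D124323
theorem N65006 : nd 65006 = n124326 := ndS (p := 35248) (l := 5) rfl N35248 D124326
theorem N65007 : nd 65007 = n124333 := ndS (p := 35249) (l := 3) rfl N35249 D124333
theorem N65008 : nd 65008 = n124334 := ndS (p := 35249) (l := 5) rfl N35249 D124334
theorem N65009 : nd 65009 = n124344 := ndS (p := 35250) (l := 4) rfl N35250 D124344
theorem N65010 : nd 65010 = n124355 := ndS (p := 35251) (l := 0) rfl N35251 D124355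
theorem N65011 : nd 65011 = n124356 := ndS (p := 35251) (l := 1) rfl N35251 D124356
theorem N65012 : nd 65012 = n124357 := ndS (p := 35251) (l := 4) rfl N35251 D124357
theorem N65013 : nd 65013 = n124359 := ndS (p := 35252) (l := 0) rfl N35252 D124359
theorem N65014 : nd 65014 = n124361 := ndS (p := 35252) (l := 2) rfl N35252 D124361
theorem N65015 : nd 65015 = n124362 := ndS (p := 35252) (l := 5) rfl N35252 D124362
theorem N65016 : nd 65016 = n124366 := ndS (p := 35253) (l := 4) rfl N35253 D124366
theorem N65017 : nd 65017 = n124367 := ndS (p := 35253) (l := 6) rfl N35253 D124367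
theorem N65018 : nd 65018 = n124371 := ndS (p := 35254) (l := 5) rfl N35254 D124371
theorem N65019 : nd 65019 = n124373 := ndS (p := 35255) (l := 4) rfl N35255 D124373
theorem N65020 : nd 65020 = n124374 := ndS (p := 35255) (l := 6) rfl N35255 D124374
theorem N65021 : nd 65021 = n124378 := ndS (p := 35256) (l := 3) rfl N35256 D124378
theorem N65022 : nd 65022 = n124379 := ndS (p := 35256) (l := 4) rfl N35256 D124379
theorem N65023 : nd 65023 = n124380 := ndS (p := 35256) (l := 6) rfl N35256 D124380
theorem N65024 : nd 65024 = n124381 := ndS (p := 35257) (l := 3) rfl N35257 D124381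
theorem N65025 : nd 65025 = n124382 := ndS (p := 35257) (l := 4) rfl N35257 D124382
theorem N65026 : nd 65026 = n124384 := ndS (p := 35258) (l := 0) rfl N35258 D124384
theorem N65027 : nd 65027 = n124385 := ndS (p := 35258) (l := 1) rfl N35258 D124385
theorem N65028 : nd 65028 = n124386 := ndS (p := 35258) (l := 3) rfl N35258 D124386
theorem N65029 : nd 65029 = n124387 := ndS (p := 35258) (l := 5) rfl N35258 D124387
theorem N65030 : nd 65030 = n124388 := ndS (p := 35258) (l := 7) rfl N35258 D124388
theorem N65031 : nd 65031 = n124389 := ndS (p := 35259) (l := 6) rfl N35259 D124389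
theorem N65032 : nd 65032 = n124401 := ndS (p := 35260) (l := 4) rfl N35260 D124401
theorem N65033 : nd 65033 = n124402 := ndS (p := 35260) (l := 6) rfl N35260 D124402
theorem N65034 : nd 65034 = n124407 := ndS (p := 35261) (l := 0) rfl N35261 D124407
theorem N65035 : nd 65035 = n124408 := ndS (p := 35261) (l := 1) rfl N35261 D124408
theorem N65036 : nd 65036 = n124409 := ndS (p := 35261) (l := 3) rfl N35261 D124409
theorem N65037 : nd 65037 = n124410 := ndS (p := 35261) (l := 5) rfl N35261 D124410
theorem N65038 : nd 65038 = n124412 := ndS (p := 35262) (l := 3) rfl N35262 D124412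
theorem N65039 : nd 65039 = n124413 := ndS (p := 35262) (l := 5) rfl N35262 D124413
theorem N65040 : nd 65040 = n124424 := ndS (p := 35263) (l := 5) rfl N35263 D124424
theorem N65041 : nd 65041 = n124426 := ndS (p := 35264) (l := 4) rfl N35264 D124426
theorem N65042 : nd 65042 = n124427 := ndS (p := 35264) (l := 6) rfl N35264 D124427
theorem N65043 : nd 65043 = n124431 := ndS (p := 35265) (l := 3) rfl N35265 D124431
theorem N65044 : nd 65044 = n124432 := ndS (p := 35265) (l := 5) rfl N35265 D124432
theorem N65045 : nd 65045 = n124437 := ndS (p := 35266) (l := 3) rfl N35266 D124437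
theorem N65046 : nd 65046 = n124438 := ndS (p := 35266) (l := 5) rfl N35266 D124438
theorem N65047 : nd 65047 = n124441 := ndS (p := 35267) (l := 3) rfl N35267 D124441
theorem N65048 : nd 65048 = n124442 := ndS (p := 35267) (l := 5) rfl N35267 D124442
theorem N65049 : nd 65049 = n124446 := ndS (p := 35268) (l := 6) rfl N35268 D124446
theorem N65050 : nd 65050 = n124448 := ndS (p := 35269) (l := 5) rfl N35269 D124448
theorem N65051 : nd 65051 = n124450 := ndS (p := 35270) (l := 0) rfl N35270 D124450
theorem N65052 : nd 65052 = n124451 := ndS (p := 35270) (l := 1) rfl N35270 D124451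
theorem N65053 : nd 65053 = n124452 := ndS (p := 35270) (l := 2) rfl N35270 D124452
theorem N65054 : nd 65054 = n124453 := ndS (p := 35270) (l := 5) rfl N35270 D124453
theorem N65055 : nd 65055 = n124455 := ndS (p := 35271) (l := 0) rfl N35271 D124455
theorem N65056 : nd 65056 = n124456 := ndS (p := 35271) (l := 1) rfl N35271 D124456
theorem N65057 : nd 65057 = n124457 := ndS (p := 35271) (l := 4) rfl N35271 D124457
theorem N65058 : nd 65058 = n124464 := ndS (p := 35273) (l := 4) rfl N35273 D124464
theorem N65059 : nd 65059 = n124466 := ndS (p := 35274) (l := 4) rfl N35274 D124466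
theorem N65060 : nd 65060 = n124469 := ndS (p := 35275) (l := 3) rfl N35275 D124469
theorem N65061 : nd 65061 = n124470 := ndS (p := 35275) (l := 5) rfl N35275 D124470
theorem N65062 : nd 65062 = n124471 := ndS (p := 35276) (l := 0) rfl N35276 D124471
theorem N65063 : nd 65063 = n124472 := ndS (p := 35276) (l := 1) rfl N35276 D124472
theorem N65064 : nd 65064 = n124473 := ndS (p := 35276) (l := 2) rfl N35276 D124473
theorem N65065 : nd 65065 = n124474 := ndS (p := 35277) (l := 0) rfl N35277 D124474
theorem N65066 : nd 65066 = n124475 := ndS (p := 35277) (l := 1) rfl N35277 D124475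
theorem N65067 : nd 65067 = n124476 := ndS (p := 35277) (l := 2) rfl N35277 D124476
theorem N65068 : nd 65068 = n124477 := ndS (p := 35279) (l := 3) rfl N35279 D124477
theorem N65069 : nd 65069 = n124479 := ndS (p := 35280) (l := 5) rfl N35280 D124479
theorem N65070 : nd 65070 = n124480 := ndS (p := 35281) (l := 0) rfl N35281 D124480
theorem N65071 : nd 65071 = n124481 := ndS (p := 35281) (l := 2) rfl N35281 D124481
theorem N65072 : nd 65072 = n124483 := ndS (p := 35281) (l := 4) rfl N35281 D124483
theorem N65073 : nd 65073 = n124484 := ndS (p := 35281) (l := 5) rfl N35281 D124484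
theorem N65074 : nd 65074 = n124485 := ndS (p := 35281) (l := 6) rfl N35281 D124485
theorem N65075 : nd 65075 = n124486 := ndS (p := 35281) (l := 7) rfl N35281 D124486
theorem N65076 : nd 65076 = n124487 := ndS (p := 35282) (l := 3) rfl N35282 D124487
theorem N65077 : nd 65077 = n124488 := ndS (p := 35282) (l := 4) rfl N35282 D124488
theorem N65078 : nd 65078 = n124490 := ndS (p := 35282) (l := 6) rfl N35282 D124490
theorem N65079 : nd 65079 = n124493 := ndS (p := 35283) (l := 5) rfl N35283 D124493
theorem N65080 : nd 65080 = n124494 := ndS (p := 35284) (l := 0) rfl N35284 D124494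
theorem N65081 : nd 65081 = n124495 := ndS (p := 35284) (l := 1) rfl N35284 D124495
theorem N65082 : nd 65082 = n124496 := ndS (p := 35284) (l := 4) rfl N35284 D124496
theorem N65083 : nd 65083 = n124497 := ndS (p := 35284) (l := 6) rfl N35284 D124497
theorem N65084 : nd 65084 = n124498 := ndS (p := 35284) (l := 7) rfl N35284 D124498
theorem N65085 : nd 65085 = n124503 := ndS (p := 35287) (l := 6) rfl N35287 D124503
theorem N65086 : nd 65086 = n124505 := ndS (p := 35288) (l := 1) rfl N35288 D124505
theorem N65087 : nd 65087 = n124506 := ndS (p := 35288) (l := 5) rfl N35288 D124506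
theorem N65088 : nd 65088 = n124508 := ndS (p := 35289) (l := 3) rfl N35289 D124508
theorem N65089 : nd 65089 = n124509 := ndS (p := 35289) (l := 5) rfl N35289 D124509
theorem N65090 : nd 65090 = n124510 := ndS (p := 35290) (l := 0) rfl N35290 D124510
theorem N65091 : nd 65091 = n124511 := ndS (p := 35290) (l := 4) rfl N35290 D124511
theorem N65092 : nd 65092 = n124517 := ndS (p := 35292) (l := 4) rfl N35292 D124517
theorem N65093 : nd 65093 = n124518 := ndS (p := 35293) (l := 1) rfl N35293 D124518
theorem N65094 : nd 65094 = n124519 := ndS (p := 35293) (l := 3) rfl N35293 D124519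
theorem N65095 : nd 65095 = n124520 := ndS (p := 35293) (l := 5) rfl N35293 D124520
theorem N65096 : nd 65096 = n124523 := ndS (p := 35294) (l := 3) rfl N35294 D124523
theorem N65097 : nd 65097 = n124525 := ndS (p := 35294) (l := 5) rfl N35294 D124525
theorem N65098 : nd 65098 = n124532 := ndS (p := 35296) (l := 0) rfl N35296 D124532
theorem N65099 : nd 65099 = n124533 := ndS (p := 35296) (l := 1) rfl N35296 D124533
theorem N65100 : nd 65100 = n124534 := ndS (p := 35296) (l := 4) rfl N35296 D124534
theorem N65101 : nd 65101 = n124536 := ndS (p := 35297) (l := 0) rfl N35297 D124536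
theorem N65102 : nd 65102 = n124539 := ndS (p := 35297) (l := 5) rfl N35297 D124539
theorem N65103 : nd 65103 = n124541 := ndS (p := 35298) (l := 0) rfl N35298 D124541
theorem N65104 : nd 65104 = n124543 := ndS (p := 35298) (l := 4) rfl N35298 D124543
theorem N65105 : nd 65105 = n124550 := ndS (p := 35299) (l := 4) rfl N35299 D124550
theorem N65106 : nd 65106 = n124552 := ndS (p := 35300) (l := 3) rfl N35300 D124552
theorem N65107 : nd 65107 = n124553 := ndS (p := 35300) (l := 4) rfl N35300 D124553
theorem N65108 : nd 65108 = n124554 := ndS (p := 35300) (l := 6) rfl N35300 D124554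
theorem N65109 : nd 65109 = n124556 := ndS (p := 35301) (l := 4) rfl N35301 D124556
theorem N65110 : nd 65110 = n124557 := ndS (p := 35301) (l := 6) rfl N35301 D124557
theorem N65111 : nd 65111 = n124558 := ndS (p := 35302) (l := 0) rfl N35302 D124558
theorem N65112 : nd 65112 = n124559 := ndS (p := 35302) (l := 1) rfl N35302 D124559
theorem N65113 : nd 65113 = n124560 := ndS (p := 35302) (l := 3) rfl N35302 D124560
theorem N65114 : nd 65114 = n124561 := ndS (p := 35302) (l := 5) rfl N35302 D124561
theorem N65115 : nd 65115 = n124562 := ndS (p := 35302) (l := 7) rfl N35302 D124562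
theorem N65116 : nd 65116 = n124584 := ndS (p := 35305) (l := 4) rfl N35305 D124584
theorem N65117 : nd 65117 = n124587 := ndS (p := 35306) (l := 3) rfl N35306 D124587
theorem N65118 : nd 65118 = n124588 := ndS (p := 35306) (l := 5) rfl N35306 D124588
theorem N65119 : nd 65119 = n124592 := ndS (p := 35307) (l := 1) rfl N35307 D124592
theorem N65120 : nd 65120 = n124595 := ndS (p := 35308) (l := 4) rfl N35308 D124595
theorem N65121 : nd 65121 = n124602 := ndS (p := 35310) (l := 5) rfl N35310 D124602
theorem N65122 : nd 65122 = n124606 := ndS (p := 35311) (l := 3) rfl N35311 D124606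
theorem N65123 : nd 65123 = n124607 := ndS (p := 35311) (l := 5) rfl N35311 D124607
theorem N65124 : nd 65124 = n124610 := ndS (p := 35312) (l := 5) rfl N35312 D124610
theorem N65125 : nd 65125 = n124611 := ndS (p := 35312) (l := 6) rfl N35312 D124611
theorem N65126 : nd 65126 = n124612 := ndS (p := 35313) (l := 3) rfl N35313 D124612
theorem N65127 : nd 65127 = n124613 := ndS (p := 35313) (l := 5) rfl N35313 D124613
theorem N65128 : nd 65128 = n124615 := ndS (p := 35314) (l := 0) rfl N35314 D124615
theorem N65129 : nd 65129 = n124617 := ndS (p := 35314) (l := 2) rfl N35314 D124617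
theorem N65130 : nd 65130 = n124618 := ndS (p := 35314) (l := 5) rfl N35314 D124618
theorem N65131 : nd 65131 = n124619 := ndS (p := 35314) (l := 7) rfl N35314 D124619
theorem N65132 : nd 65132 = n124620 := ndS (p := 35315) (l := 0) rfl N35315 D124620
theorem N65133 : nd 65133 = n124621 := ndS (p := 35315) (l := 1) rfl N35315 D124621
theorem N65134 : nd 65134 = n124622 := ndS (p := 35315) (l := 4) rfl N35315 D124622
theorem N65135 : nd 65135 = n124623 := ndS (p := 35315) (l := 6) rfl N35315 D124623
theorem N65136 : nd 65136 = n124624 := ndS (p := 35315) (l := 7) rfl N35315 D124624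
theorem N65137 : nd 65137 = n124626 := ndS (p := 35317) (l := 0) rfl N35317 D124626
theorem N65138 : nd 65138 = n124627 := ndS (p := 35317) (l := 1) rfl N35317 D124627
theorem N65139 : nd 65139 = n124628 := ndS (p := 35317) (l := 2) rfl N35317 D124628
theorem N65140 : nd 65140 = n124631 := ndS (p := 35318) (l := 0) rfl N35318 D124631
theorem N65141 : nd 65141 = n124632 := ndS (p := 35318) (l := 1) rfl N35318 D124632
theorem N65142 : nd 65142 = n124633 := ndS (p := 35318) (l := 4) rfl N35318 D124633
theorem N65143 : nd 65143 = n124634 := ndS (p := 35318) (l := 6) rfl N35318 D124634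
theorem N65144 : nd 65144 = n124639 := ndS (p := 35321) (l := 0) rfl N35321 D124639
theorem N65145 : nd 65145 = n124640 := ndS (p := 35321) (l := 1) rfl N35321 D124640
theorem N65146 : nd 65146 = n124642 := ndS (p := 35321) (l := 5) rfl N35321 D124642
theorem N65147 : nd 65147 = n124643 := ndS (p := 35322) (l := 0) rfl N35322 D124643
theorem N65148 : nd 65148 = n124644 := ndS (p := 35322) (l := 1) rfl N35322 D124644
theorem N65149 : nd 65149 = n124645 := ndS (p := 35322) (l := 2) rfl N35322 D124645
theorem N65150 : nd 65150 = n124646 := ndS (p := 35323) (l := 5) rfl N35323 D124646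
theorem N65151 : nd 65151 = n124647 := ndS (p := 35323) (l := 6) rfl N35323 D124647
theorem N65152 : nd 65152 = n124648 := ndS (p := 35325) (l := 0) rfl N35325 D124648
theorem N65153 : nd 65153 = n124649 := ndS (p := 35325) (l := 2) rfl N35325 D124649
theorem N65154 : nd 65154 = n124650 := ndS (p := 35325) (l := 3) rfl N35325 D124650
theorem N65155 : nd 65155 = n124651 := ndS (p := 35325) (l := 4) rfl N35325 D124651
theorem N65156 : nd 65156 = n124652 := ndS (p := 35325) (l := 5) rfl N35325 D124652
theorem N65157 : nd 65157 = n124653 := ndS (p := 35325) (l := 6) rfl N35325 D124653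
theorem N65158 : nd 65158 = n124654 := ndS (p := 35325) (l := 7) rfl N35325 D124654
theorem N65159 : nd 65159 = n124655 := ndS (p := 35326) (l := 3) rfl N35326 D124655
theorem N65160 : nd 65160 = n124656 := ndS (p := 35326) (l := 4) rfl N35326 D124656
theorem N65161 : nd 65161 = n124657 := ndS (p := 35326) (l := 5) rfl N35326 D124657
theorem N65162 : nd 65162 = n124661 := ndS (p := 35327) (l := 5) rfl N35327 D124661
theorem N65163 : nd 65163 = n124662 := ndS (p := 35328) (l := 0) rfl N35328 D124662
theorem N65164 : nd 65164 = n124663 := ndS (p := 35328) (l := 1) rfl N35328 D124663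
theorem N65165 : nd 65165 = n124664 := ndS (p := 35328) (l := 4) rfl N35328 D124664
theorem N65166 : nd 65166 = n124665 := ndS (p := 35328) (l := 7) rfl N35328 D124665
theorem N65167 : nd 65167 = n124666 := ndS (p := 35329) (l := 6) rfl N35329 D124666
theorem N65168 : nd 65168 = n124667 := ndS (p := 35332) (l := 4) rfl N35332 D124667
theorem N65169 : nd 65169 = n124668 := ndS (p := 35332) (l := 6) rfl N35332 D124668
theorem N65170 : nd 65170 = n124669 := ndS (p := 35334) (l := 5) rfl N35334 D124669
theorem N65171 : nd 65171 = n124670 := ndS (p := 35334) (l := 6) rfl N35334 D124670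
theorem N65172 : nd 65172 = n124671 := ndS (p := 35335) (l := 6) rfl N35335 D124671
theorem N65173 : nd 65173 = n124672 := ndS (p := 35336) (l := 5) rfl N35336 D124672
theorem N65174 : nd 65174 = n124673 := ndS (p := 35337) (l := 6) rfl N35337 D124673
theorem N65175 : nd 65175 = n124676 := ndS (p := 35338) (l := 5) rfl N35338 D124676
theorem N65176 : nd 65176 = n124678 := ndS (p := 35339) (l := 6) rfl N35339 D124678
theorem N65177 : nd 65177 = n124679 := ndS (p := 35340) (l := 6) rfl N35340 D124679
theorem N65178 : nd 65178 = n124681 := ndS (p := 35341) (l := 1) rfl N35341 D124681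
theorem N65179 : nd 65179 = n124682 := ndS (p := 35341) (l := 5) rfl N35341 D124682
theorem N65180 : nd 65180 = n124683 := ndS (p := 35341) (l := 7) rfl N35341 D124683
theorem N65181 : nd 65181 = n124685 := ndS (p := 35342) (l := 1) rfl N35342 D124685
theorem N65182 : nd 65182 = n124686 := ndS (p := 35342) (l := 5) rfl N35342 D124686
theorem N65183 : nd 65183 = n124687 := ndS (p := 35342) (l := 7) rfl N35342 D124687
theorem N65184 : nd 65184 = n124688 := ndS (p := 35343) (l := 3) rfl N35343 D124688
theorem N65185 : nd 65185 = n124689 := ndS (p := 35343) (l := 5) rfl N35343 D124689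
theorem N65186 : nd 65186 = n124690 := ndS (p := 35343) (l := 6) rfl N35343 D124690
theorem N65187 : nd 65187 = n124691 := ndS (p := 35344) (l := 5) rfl N35344 D124691
theorem N65188 : nd 65188 = n124695 := ndS (p := 35345) (l := 4) rfl N35345 D124695
theorem N65189 : nd 65189 = n124699 := ndS (p := 35349) (l := 5) rfl N35349 D124699
theorem N65190 : nd 65190 = n124700 := ndS (p := 35349) (l := 7) rfl N35349 D124700
theorem N65191 : nd 65191 = n124701 := ndS (p := 35350) (l := 6) rfl N35350 D124701
theorem N65192 : nd 65192 = n124702 := ndS (p := 35351) (l := 5) rfl N35351 D124702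
theorem N65193 : nd 65193 = n124705 := ndS (p := 35353) (l := 5) rfl N35353 D124705
theorem N65194 : nd 65194 = n124707 := ndS (p := 35354) (l := 0) rfl N35354 D124707
theorem N65195 : nd 65195 = n124708 := ndS (p := 35354) (l := 1) rfl N35354 D124708
theorem N65196 : nd 65196 = n124709 := ndS (p := 35354) (l := 4) rfl N35354 D124709
theorem N65197 : nd 65197 = n124710 := ndS (p := 35354) (l := 7) rfl N35354 D124710
theorem N65198 : nd 65198 = n124711 := ndS (p := 35356) (l := 6) rfl N35356 D124711
theorem N65199 : nd 65199 = n124712 := ndS (p := 35357) (l := 5) rfl N35357 D124712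
theorem N65200 : nd 65200 = n124713 := ndS (p := 35358) (l := 6) rfl N35358 D124713
theorem N65201 : nd 65201 = n124714 := ndS (p := 35359) (l := 0) rfl N35359 D124714
theorem N65202 : nd 65202 = n124715 := ndS (p := 35359) (l := 1) rfl N35359 D124715
theorem N65203 : nd 65203 = n124717 := ndS (p := 35359) (l := 7) rfl N35359 D124717
theorem N65204 : nd 65204 = n124723 := ndS (p := 35360) (l := 0) rfl N35360 D124723
theorem N65205 : nd 65205 = n124724 := ndS (p := 35360) (l := 1) rfl N35360 D124724
theorem N65206 : nd 65206 = n124725 := ndS (p := 35360) (l := 4) rfl N35360 D124725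
theorem N65207 : nd 65207 = n124729 := ndS (p := 35363) (l := 4) rfl N35363 D124729
theorem N65208 : nd 65208 = n124731 := ndS (p := 35364) (l := 6) rfl N35364 D124731
theorem N65209 : nd 65209 = n124734 := ndS (p := 35365) (l := 5) rfl N35365 D124734
theorem N65210 : nd 65210 = n124735 := ndS (p := 35365) (l := 6) rfl N35365 D124735
theorem N65211 : nd 65211 = n124738 := ndS (p := 35367) (l := 1) rfl N35367 D124738
theorem N65212 : nd 65212 = n124740 := ndS (p := 35367) (l := 6) rfl N35367 D124740
theorem N65213 : nd 65213 = n124744 := ndS (p := 35369) (l := 6) rfl N35369 D124744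
theorem N65214 : nd 65214 = n124745 := ndS (p := 35370) (l := 3) rfl N35370 D124745
theorem N65215 : nd 65215 = n124747 := ndS (p := 35370) (l := 6) rfl N35370 D124747
theorem N65216 : nd 65216 = n124749 := ndS (p := 35371) (l := 6) rfl N35371 D124749
theorem N65217 : nd 65217 = n124759 := ndS (p := 35375) (l := 3) rfl N35375 D124759
theorem N65218 : nd 65218 = n124760 := ndS (p := 35375) (l := 5) rfl N35375 D124760
theorem N65219 : nd 65219 = n124761 := ndS (p := 35375) (l := 7) rfl N35375 D124761
theorem N65220 : nd 65220 = n124762 := ndS (p := 35376) (l := 6) rfl N35376 D124762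
theorem N65221 : nd 65221 = n124766 := ndS (p := 35378) (l := 6) rfl N35378 D124766
theorem N65222 : nd 65222 = n124767 := ndS (p := 35379) (l := 3) rfl N35379 D124767
theorem N65223 : nd 65223 = n124774 := ndS (p := 35380) (l := 1) rfl N35380 D124774
theorem N65224 : nd 65224 = n124775 := ndS (p := 35380) (l := 7) rfl N35380 D124775
theorem N65225 : nd 65225 = n124777 := ndS (p := 35381) (l := 5) rfl N35381 D124777
theorem N65226 : nd 65226 = n124779 := ndS (p := 35382) (l := 2) rfl N35382 D124779
theorem N65227 : nd 65227 = n124780 := ndS (p := 35382) (l := 5) rfl N35382 D124780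
theorem N65228 : nd 65228 = n124784 := ndS (p := 35383) (l := 4) rfl N35383 D124784
theorem N65229 : nd 65229 = n124785 := ndS (p := 35383) (l := 6) rfl N35383 D124785
theorem N65230 : nd 65230 = n124789 := ndS (p := 35384) (l := 4) rfl N35384 D124789
theorem N65231 : nd 65231 = n124791 := ndS (p := 35385) (l := 4) rfl N35385 D124791
theorem N65232 : nd 65232 = n124794 := ndS (p := 35386) (l := 3) rfl N35386 D124794
theorem N65233 : nd 65233 = n124795 := ndS (p := 35386) (l := 5) rfl N35386 D124795
theorem N65234 : nd 65234 = n124796 := ndS (p := 35386) (l := 6) rfl N35386 D124796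
theorem N65235 : nd 65235 = n124797 := ndS (p := 35387) (l := 0) rfl N35387 D124797
theorem N65236 : nd 65236 = n124798 := ndS (p := 35387) (l := 1) rfl N35387 D124798
theorem N65237 : nd 65237 = n124799 := ndS (p := 35387) (l := 5) rfl N35387 D124799
theorem N65238 : nd 65238 = n124800 := ndS (p := 35387) (l := 7) rfl N35387 D124800
theorem N65239 : nd 65239 = n124807 := ndS (p := 35391) (l := 6) rfl N35391 D124807
theorem N65240 : nd 65240 = n124808 := ndS (p := 35392) (l := 3) rfl N35392 D124808
theorem N65241 : nd 65241 = n124809 := ndS (p := 35392) (l := 5) rfl N35392 D124809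
theorem N65242 : nd 65242 = n124810 := ndS (p := 35392) (l := 6) rfl N35392 D124810
theorem N65243 : nd 65243 = n124811 := ndS (p := 35393) (l := 0) rfl N35393 D124811
theorem N65244 : nd 65244 = n124812 := ndS (p := 35393) (l := 1) rfl N35393 D124812
theorem N65245 : nd 65245 = n124813 := ndS (p := 35393) (l := 4) rfl N35393 D124813
theorem N65246 : nd 65246 = n124814 := ndS (p := 35393) (l := 6) rfl N35393 D124814
theorem N65247 : nd 65247 = n124815 := ndS (p := 35394) (l := 0) rfl N35394 D124815
theorem N65248 : nd 65248 = n124817 := ndS (p := 35394) (l := 5) rfl N35394 D124817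
theorem N65249 : nd 65249 = n124818 := ndS (p := 35394) (l := 7) rfl N35394 D124818
theorem N65250 : nd 65250 = n124819 := ndS (p := 35395) (l := 5) rfl N35395 D124819
theorem N65251 : nd 65251 = n124820 := ndS (p := 35395) (l := 6) rfl N35395 D124820
theorem N65252 : nd 65252 = n124821 := ndS (p := 35396) (l := 4) rfl N35396 D124821
theorem N65253 : nd 65253 = n124822 := ndS (p := 35396) (l := 6) rfl N35396 D124822
theorem N65254 : nd 65254 = n124823 := ndS (p := 35397) (l := 0) rfl N35397 D124823
theorem N65255 : nd 65255 = n124825 := ndS (p := 35397) (l := 5) rfl N35397 D124825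
theorem N65256 : nd 65256 = n124827 := ndS (p := 35398) (l := 3) rfl N35398 D124827
theorem N65257 : nd 65257 = n124828 := ndS (p := 35398) (l := 5) rfl N35398 D124828
theorem N65258 : nd 65258 = n124829 := ndS (p := 35398) (l := 6) rfl N35398 D124829
theorem N65259 : nd 65259 = n124831 := ndS (p := 35399) (l := 5) rfl N35399 D124831
theorem N65260 : nd 65260 = n124832 := ndS (p := 35399) (l := 7) rfl N35399 D124832
theorem N65261 : nd 65261 = n124833 := ndS (p := 35400) (l := 4) rfl N35400 D124833
theorem N65262 : nd 65262 = n124842 := ndS (p := 35402) (l := 3) rfl N35402 D124842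
theorem N65263 : nd 65263 = n124843 := ndS (p := 35402) (l := 5) rfl N35402 D124843
theorem N65264 : nd 65264 = n124847 := ndS (p := 35403) (l := 6) rfl N35403 D124847
theorem N65265 : nd 65265 = n124855 := ndS (p := 35404) (l := 4) rfl N35404 D124855
theorem N65266 : nd 65266 = n124856 := ndS (p := 35404) (l := 5) rfl N35404 D124856
theorem N65267 : nd 65267 = n124857 := ndS (p := 35404) (l := 6) rfl N35404 D124857
theorem N65268 : nd 65268 = n124858 := ndS (p := 35405) (l := 3) rfl N35405 D124858
theorem N65269 : nd 65269 = n124859 := ndS (p := 35405) (l := 5) rfl N35405 D124859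
theorem N65270 : nd 65270 = n124860 := ndS (p := 35405) (l := 6) rfl N35405 D124860
theorem N65271 : nd 65271 = n124862 := ndS (p := 35407) (l := 0) rfl N35407 D124862
theorem N65272 : nd 65272 = n124863 := ndS (p := 35407) (l := 1) rfl N35407 D124863
theorem N65273 : nd 65273 = n124865 := ndS (p := 35407) (l := 7) rfl N35407 D124865
theorem N65274 : nd 65274 = n124867 := ndS (p := 35408) (l := 3) rfl N35408 D124867
theorem N65275 : nd 65275 = n124868 := ndS (p := 35408) (l := 5) rfl N35408 D124868
theorem N65276 : nd 65276 = n124873 := ndS (p := 35409) (l := 5) rfl N35409 D124873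
theorem N65277 : nd 65277 = n124874 := ndS (p := 35409) (l := 6) rfl N35409 D124874
theorem N65278 : nd 65278 = n124880 := ndS (p := 35410) (l := 0) rfl N35410 D124880
theorem N65279 : nd 65279 = n124881 := ndS (p := 35410) (l := 1) rfl N35410 D124881
theorem N65280 : nd 65280 = n124882 := ndS (p := 35410) (l := 4) rfl N35410 D124882
theorem N65281 : nd 65281 = n124883 := ndS (p := 35410) (l := 6) rfl N35410 D124883
theorem N65282 : nd 65282 = n124884 := ndS (p := 35410) (l := 7) rfl N35410 D124884
theorem N65283 : nd 65283 = n124885 := ndS (p := 35411) (l := 6) rfl N35411 D124885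
theorem N65284 : nd 65284 = n124886 := ndS (p := 35412) (l := 0) rfl N35412 D124886
theorem N65285 : nd 65285 = n124887 := ndS (p := 35412) (l := 1) rfl N35412 D124887
theorem N65286 : nd 65286 = n124893 := ndS (p := 35414) (l := 4) rfl N35414 D124893
theorem N65287 : nd 65287 = n124894 := ndS (p := 35414) (l := 6) rfl N35414 D124894
theorem N65288 : nd 65288 = n124930 := ndS (p := 35418) (l := 4) rfl N35418 D124930
theorem N65289 : nd 65289 = n124932 := ndS (p := 35418) (l := 6) rfl N35418 D124932
theorem N65290 : nd 65290 = n124935 := ndS (p := 35419) (l := 4) rfl N35419 D124935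
theorem N65291 : nd 65291 = n124940 := ndS (p := 35420) (l := 3) rfl N35420 D124940
theorem N65292 : nd 65292 = n124941 := ndS (p := 35420) (l := 5) rfl N35420 D124941
theorem N65293 : nd 65293 = n124942 := ndS (p := 35420) (l := 6) rfl N35420 D124942
theorem N65294 : nd 65294 = n124943 := ndS (p := 35421) (l := 0) rfl N35421 D124943
theorem N65295 : nd 65295 = n124944 := ndS (p := 35421) (l := 1) rfl N35421 D124944
theorem N65296 : nd 65296 = n124956 := ndS (p := 35422) (l := 4) rfl N35422 D124956
theorem N65297 : nd 65297 = n124958 := ndS (p := 35423) (l := 3) rfl N35423 D124958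
theorem N65298 : nd 65298 = n124959 := ndS (p := 35423) (l := 6) rfl N35423 D124959
theorem N65299 : nd 65299 = n124960 := ndS (p := 35424) (l := 1) rfl N35424 D124960
theorem N65300 : nd 65300 = n124961 := ndS (p := 35425) (l := 3) rfl N35425 D124961
theorem N65301 : nd 65301 = n124963 := ndS (p := 35426) (l := 1) rfl N35426 D124963
theorem N65302 : nd 65302 = n124964 := ndS (p := 35426) (l := 2) rfl N35426 D124964
theorem N65303 : nd 65303 = n124965 := ndS (p := 35426) (l := 6) rfl N35426 D124965
theorem N65304 : nd 65304 = n124970 := ndS (p := 35428) (l := 3) rfl N35428 D124970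
theorem N65305 : nd 65305 = n124974 := ndS (p := 35431) (l := 3) rfl N35431 D124974
theorem N65306 : nd 65306 = n124975 := ndS (p := 35431) (l := 5) rfl N35431 D124975
theorem N65307 : nd 65307 = n124977 := ndS (p := 35432) (l := 3) rfl N35432 D124977
theorem N65308 : nd 65308 = n124978 := ndS (p := 35432) (l := 5) rfl N35432 D124978
theorem N65309 : nd 65309 = n124979 := ndS (p := 35432) (l := 6) rfl N35432 D124979
theorem N65310 : nd 65310 = n124982 := ndS (p := 35434) (l := 5) rfl N35434 D124982
theorem N65311 : nd 65311 = n124983 := ndS (p := 35435) (l := 0) rfl N35435 D124983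
theorem N65312 : nd 65312 = n124984 := ndS (p := 35435) (l := 1) rfl N35435 D124984
theorem N65313 : nd 65313 = n124985 := ndS (p := 35435) (l := 4) rfl N35435 D124985
theorem N65314 : nd 65314 = n124987 := ndS (p := 35436) (l := 0) rfl N35436 D124987
theorem N65315 : nd 65315 = n124988 := ndS (p := 35436) (l := 1) rfl N35436 D124988
theorem N65316 : nd 65316 = n124989 := ndS (p := 35436) (l := 5) rfl N35436 D124989
theorem N65317 : nd 65317 = n124990 := ndS (p := 35436) (l := 7) rfl N35436 D124990
theorem N65318 : nd 65318 = n124994 := ndS (p := 35437) (l := 0) rfl N35437 D124994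
theorem N65319 : nd 65319 = n124995 := ndS (p := 35437) (l := 1) rfl N35437 D124995
theorem N65320 : nd 65320 = n124997 := ndS (p := 35437) (l := 5) rfl N35437 D124997
theorem N65321 : nd 65321 = n125001 := ndS (p := 35439) (l := 4) rfl N35439 D125001
theorem N65322 : nd 65322 = n125003 := ndS (p := 35441) (l := 0) rfl N35441 D125003
theorem N65323 : nd 65323 = n125004 := ndS (p := 35441) (l := 1) rfl N35441 D125004
theorem N65324 : nd 65324 = n125005 := ndS (p := 35441) (l := 2) rfl N35441 D125005
theorem N65325 : nd 65325 = n125006 := ndS (p := 35441) (l := 6) rfl N35441 D125006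
theorem N65326 : nd 65326 = n125019 := ndS (p := 35444) (l := 3) rfl N35444 D125019
theorem N65327 : nd 65327 = n125020 := ndS (p := 35444) (l := 5) rfl N35444 D125020
theorem N65328 : nd 65328 = n125030 := ndS (p := 35445) (l := 6) rfl N35445 D125030
theorem N65329 : nd 65329 = n125043 := ndS (p := 35449) (l := 1) rfl N35449 D125043
theorem N65330 : nd 65330 = n125045 := ndS (p := 35449) (l := 5) rfl N35449 D125045
theorem N65331 : nd 65331 = n125046 := ndS (p := 35449) (l := 6) rfl N35449 D125046
theorem N65332 : nd 65332 = n125051 := ndS (p := 35451) (l := 1) rfl N35451 D125051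
theorem N65333 : nd 65333 = n125052 := ndS (p := 35451) (l := 2) rfl N35451 D125052
theorem N65334 : nd 65334 = n125063 := ndS (p := 35455) (l := 0) rfl N35455 D125063
theorem N65335 : nd 65335 = n125064 := ndS (p := 35455) (l := 1) rfl N35455 D125064
theorem N65336 : nd 65336 = n125082 := ndS (p := 35456) (l := 2) rfl N35456 D125082
theorem N65337 : nd 65337 = n125083 := ndS (p := 35456) (l := 3) rfl N35456 D125083
theorem N65338 : nd 65338 = n125084 := ndS (p := 35456) (l := 4) rfl N35456 D125084
theorem N65339 : nd 65339 = n125085 := ndS (p := 35456) (l := 5) rfl N35456 D125085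
theorem N65340 : nd 65340 = n125086 := ndS (p := 35456) (l := 6) rfl N35456 D125086
theorem N65341 : nd 65341 = n125087 := ndS (p := 35456) (l := 7) rfl N35456 D125087
theorem N65342 : nd 65342 = n125088 := ndS (p := 35457) (l := 3) rfl N35457 D125088
theorem N65343 : nd 65343 = n125089 := ndS (p := 35457) (l := 4) rfl N35457 D125089
theorem N65344 : nd 65344 = n125090 := ndS (p := 35457) (l := 5) rfl N35457 D125090
theorem N65345 : nd 65345 = n125091 := ndS (p := 35457) (l := 6) rfl N35457 D125091
theorem N65346 : nd 65346 = n125094 := ndS (p := 35458) (l := 5) rfl N35458 D125094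
theorem N65347 : nd 65347 = n125095 := ndS (p := 35459) (l := 0) rfl N35459 D125095
theorem N65348 : nd 65348 = n125096 := ndS (p := 35459) (l := 1) rfl N35459 D125096
theorem N65349 : nd 65349 = n125097 := ndS (p := 35459) (l := 4) rfl N35459 D125097
theorem N65350 : nd 65350 = n125098 := ndS (p := 35459) (l := 6) rfl N35459 D125098
theorem N65351 : nd 65351 = n125099 := ndS (p := 35460) (l := 6) rfl N35460 D125099
theorem N65352 : nd 65352 = n125100 := ndS (p := 35461) (l := 0) rfl N35461 D125100
theorem N65353 : nd 65353 = n125101 := ndS (p := 35461) (l := 1) rfl N35461 D125101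
theorem N65354 : nd 65354 = n125111 := ndS (p := 35464) (l := 5) rfl N35464 D125111
theorem N65355 : nd 65355 = n125114 := ndS (p := 35466) (l := 3) rfl N35466 D125114
theorem N65356 : nd 65356 = n125115 := ndS (p := 35466) (l := 5) rfl N35466 D125115
theorem N65357 : nd 65357 = n125120 := ndS (p := 35467) (l := 5) rfl N35467 D125120
theorem N65358 : nd 65358 = n125121 := ndS (p := 35468) (l := 0) rfl N35468 D125121
theorem N65359 : nd 65359 = n125122 := ndS (p := 35468) (l := 1) rfl N35468 D125122
theorem N65360 : nd 65360 = n125125 := ndS (p := 35469) (l := 3) rfl N35469 D125125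
theorem N65361 : nd 65361 = n125126 := ndS (p := 35469) (l := 4) rfl N35469 D125126
theorem N65362 : nd 65362 = n125128 := ndS (p := 35470) (l := 3) rfl N35470 D125128
theorem N65363 : nd 65363 = n125129 := ndS (p := 35470) (l := 4) rfl N35470 D125129
theorem N65364 : nd 65364 = n125130 := ndS (p := 35470) (l := 6) rfl N35470 D125130
theorem N65365 : nd 65365 = n125151 := ndS (p := 35471) (l := 5) rfl N35471 D125151
theorem N65366 : nd 65366 = n125157 := ndS (p := 35473) (l := 4) rfl N35473 D125157
theorem N65367 : nd 65367 = n125158 := ndS (p := 35473) (l := 5) rfl N35473 D125158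
theorem N65368 : nd 65368 = n125159 := ndS (p := 35474) (l := 0) rfl N35474 D125159
theorem N65369 : nd 65369 = n125160 := ndS (p := 35474) (l := 5) rfl N35474 D125160
theorem N65370 : nd 65370 = n125161 := ndS (p := 35475) (l := 0) rfl N35475 D125161
theorem N65371 : nd 65371 = n125163 := ndS (p := 35475) (l := 4) rfl N35475 D125163
theorem N65372 : nd 65372 = n125164 := ndS (p := 35475) (l := 6) rfl N35475 D125164
theorem N65373 : nd 65373 = n125169 := ndS (p := 35478) (l := 3) rfl N35478 D125169
theorem N65374 : nd 65374 = n125170 := ndS (p := 35478) (l := 4) rfl N35478 D125170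
theorem N65375 : nd 65375 = n125171 := ndS (p := 35478) (l := 6) rfl N35478 D125171
theorem N65376 : nd 65376 = n125172 := ndS (p := 35479) (l := 3) rfl N35479 D125172
theorem N65377 : nd 65377 = n125174 := ndS (p := 35480) (l := 0) rfl N35480 D125174
theorem N65378 : nd 65378 = n125175 := ndS (p := 35480) (l := 1) rfl N35480 D125175
theorem N65379 : nd 65379 = n125176 := ndS (p := 35480) (l := 3) rfl N35480 D125176
theorem N65380 : nd 65380 = n125177 := ndS (p := 35480) (l := 5) rfl N35480 D125177
theorem N65381 : nd 65381 = n125178 := ndS (p := 35480) (l := 6) rfl N35480 D125178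
theorem N65382 : nd 65382 = n125179 := ndS (p := 35481) (l := 7) rfl N35481 D125179
theorem N65383 : nd 65383 = n125180 := ndS (p := 35482) (l := 2) rfl N35482 D125180
theorem N65384 : nd 65384 = n125181 := ndS (p := 35482) (l := 4) rfl N35482 D125181
theorem N65385 : nd 65385 = n125182 := ndS (p := 35482) (l := 6) rfl N35482 D125182
theorem N65386 : nd 65386 = n125185 := ndS (p := 35484) (l := 2) rfl N35484 D125185
theorem N65387 : nd 65387 = n125186 := ndS (p := 35484) (l := 4) rfl N35484 D125186
theorem N65388 : nd 65388 = n125187 := ndS (p := 35485) (l := 0) rfl N35485 D125187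
theorem N65389 : nd 65389 = n125188 := ndS (p := 35485) (l := 1) rfl N35485 D125188
theorem N65390 : nd 65390 = n125190 := ndS (p := 35485) (l := 6) rfl N35485 D125190
theorem N65391 : nd 65391 = n125197 := ndS (p := 35488) (l := 3) rfl N35488 D125197
theorem N65392 : nd 65392 = n125200 := ndS (p := 35490) (l := 4) rfl N35490 D125200
theorem N65393 : nd 65393 = n125201 := ndS (p := 35492) (l := 4) rfl N35492 D125201
theorem N65394 : nd 65394 = n125202 := ndS (p := 35492) (l := 6) rfl N35492 D125202
theorem N65395 : nd 65395 = n125214 := ndS (p := 35494) (l := 6) rfl N35494 D125214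
theorem N65396 : nd 65396 = n125248 := ndS (p := 35496) (l := 3) rfl N35496 D125248
theorem N65397 : nd 65397 = n125273 := ndS (p := 35500) (l := 0) rfl N35500 D125273
theorem N65398 : nd 65398 = n125274 := ndS (p := 35500) (l := 1) rfl N35500 D125274
theorem N65399 : nd 65399 = n125275 := ndS (p := 35500) (l := 2) rfl N35500 D125275
theorem N65400 : nd 65400 = n125287 := ndS (p := 35501) (l := 3) rfl N35501 D125287
theorem N65401 : nd 65401 = n125291 := ndS (p := 35502) (l := 2) rfl N35502 D125291
theorem N65402 : nd 65402 = n125292 := ndS (p := 35502) (l := 5) rfl N35502 D125292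
theorem N65403 : nd 65403 = n125295 := ndS (p := 35504) (l := 5) rfl N35504 D125295
theorem N65404 : nd 65404 = n125304 := ndS (p := 35505) (l := 3) rfl N35505 D125304
theorem N65405 : nd 65405 = n125305 := ndS (p := 35505) (l := 5) rfl N35505 D125305
theorem N65406 : nd 65406 = n125311 := ndS (p := 35507) (l := 0) rfl N35507 D125311
theorem N65407 : nd 65407 = n125312 := ndS (p := 35507) (l := 3) rfl N35507 D125312
theorem N65408 : nd 65408 = n125313 := ndS (p := 35507) (l := 5) rfl N35507 D125313
theorem N65409 : nd 65409 = n125334 := ndS (p := 35515) (l := 0) rfl N35515 D125334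
theorem N65410 : nd 65410 = n125348 := ndS (p := 35518) (l := 3) rfl N35518 D125348
theorem N65411 : nd 65411 = n125349 := ndS (p := 35518) (l := 4) rfl N35518 D125349
theorem N65412 : nd 65412 = n125350 := ndS (p := 35518) (l := 5) rfl N35518 D125350
theorem N65413 : nd 65413 = n125351 := ndS (p := 35518) (l := 6) rfl N35518 D125351
theorem N65414 : nd 65414 = n125353 := ndS (p := 35519) (l := 3) rfl N35519 D125353
theorem N65415 : nd 65415 = n125354 := ndS (p := 35519) (l := 4) rfl N35519 D125354
theorem N65416 : nd 65416 = n125355 := ndS (p := 35519) (l := 5) rfl N35519 D125355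
theorem N65417 : nd 65417 = n125357 := ndS (p := 35520) (l := 5) rfl N35520 D125357
theorem N65418 : nd 65418 = n125358 := ndS (p := 35521) (l := 0) rfl N35521 D125358
theorem N65419 : nd 65419 = n125360 := ndS (p := 35521) (l := 4) rfl N35521 D125360
theorem N65420 : nd 65420 = n125366 := ndS (p := 35523) (l := 4) rfl N35523 D125366
theorem N65421 : nd 65421 = n125369 := ndS (p := 35524) (l := 3) rfl N35524 D125369
theorem N65422 : nd 65422 = n125370 := ndS (p := 35524) (l := 4) rfl N35524 D125370
theorem N65423 : nd 65423 = n125372 := ndS (p := 35525) (l := 6) rfl N35525 D125372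
theorem N65424 : nd 65424 = n125373 := ndS (p := 35526) (l := 0) rfl N35526 D125373
theorem N65425 : nd 65425 = n125376 := ndS (p := 35527) (l := 0) rfl N35527 D125376
theorem N65426 : nd 65426 = n125378 := ndS (p := 35527) (l := 5) rfl N35527 D125378
theorem N65427 : nd 65427 = n125380 := ndS (p := 35528) (l := 6) rfl N35528 D125380
theorem N65428 : nd 65428 = n125395 := ndS (p := 35529) (l := 4) rfl N35529 D125395
theorem N65429 : nd 65429 = n125399 := ndS (p := 35530) (l := 3) rfl N35530 D125399
theorem N65430 : nd 65430 = n125400 := ndS (p := 35530) (l := 4) rfl N35530 D125400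
theorem N65431 : nd 65431 = n125404 := ndS (p := 35532) (l := 0) rfl N35532 D125404
theorem N65432 : nd 65432 = n125405 := ndS (p := 35532) (l := 1) rfl N35532 D125405
theorem N65433 : nd 65433 = n125426 := ndS (p := 35534) (l := 6) rfl N35534 D125426
theorem N65434 : nd 65434 = n125428 := ndS (p := 35535) (l := 0) rfl N35535 D125428
theorem N65435 : nd 65435 = n125429 := ndS (p := 35535) (l := 1) rfl N35535 D125429
theorem N65436 : nd 65436 = n125430 := ndS (p := 35535) (l := 3) rfl N35535 D125430
theorem N65437 : nd 65437 = n125431 := ndS (p := 35535) (l := 5) rfl N35535 D125431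
theorem N65438 : nd 65438 = n125432 := ndS (p := 35535) (l := 6) rfl N35535 D125432
theorem N65439 : nd 65439 = n125441 := ndS (p := 35536) (l := 5) rfl N35536 D125441
theorem N65440 : nd 65440 = n125444 := ndS (p := 35537) (l := 0) rfl N35537 D125444
theorem N65441 : nd 65441 = n125446 := ndS (p := 35537) (l := 2) rfl N35537 D125446
theorem N65442 : nd 65442 = n125447 := ndS (p := 35537) (l := 4) rfl N35537 D125447
theorem N65443 : nd 65443 = n125449 := ndS (p := 35537) (l := 6) rfl N35537 D125449
theorem N65444 : nd 65444 = n125451 := ndS (p := 35538) (l := 5) rfl N35538 D125451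
theorem N65445 : nd 65445 = n125456 := ndS (p := 35539) (l := 1) rfl N35539 D125456
theorem N65446 : nd 65446 = n125457 := ndS (p := 35539) (l := 5) rfl N35539 D125457
theorem N65447 : nd 65447 = n125458 := ndS (p := 35539) (l := 7) rfl N35539 D125458
theorem N65448 : nd 65448 = n125459 := ndS (p := 35540) (l := 3) rfl N35540 D125459
theorem N65449 : nd 65449 = n125460 := ndS (p := 35540) (l := 6) rfl N35540 D125460
theorem N65450 : nd 65450 = n125461 := ndS (p := 35541) (l := 0) rfl N35541 D125461
theorem N65451 : nd 65451 = n125462 := ndS (p := 35541) (l := 7) rfl N35541 D125462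
theorem N65452 : nd 65452 = n125463 := ndS (p := 35542) (l := 3) rfl N35542 D125463
theorem N65453 : nd 65453 = n125464 := ndS (p := 35542) (l := 6) rfl N35542 D125464
theorem N65454 : nd 65454 = n125465 := ndS (p := 35544) (l := 0) rfl N35544 D125465
theorem N65455 : nd 65455 = n125466 := ndS (p := 35545) (l := 0) rfl N35545 D125466
theorem N65456 : nd 65456 = n125468 := ndS (p := 35545) (l := 7) rfl N35545 D125468
theorem N65457 : nd 65457 = n125469 := ndS (p := 35546) (l := 0) rfl N35546 D125469
theorem N65458 : nd 65458 = n125470 := ndS (p := 35546) (l := 1) rfl N35546 D125470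
theorem N65459 : nd 65459 = n125471 := ndS (p := 35546) (l := 2) rfl N35546 D125471
theorem N65460 : nd 65460 = n125472 := ndS (p := 35546) (l := 5) rfl N35546 D125472
theorem N65461 : nd 65461 = n125473 := ndS (p := 35547) (l := 6) rfl N35547 D125473
theorem N65462 : nd 65462 = n125474 := ndS (p := 35548) (l := 0) rfl N35548 D125474
theorem N65463 : nd 65463 = n125475 := ndS (p := 35549) (l := 0) rfl N35549 D125475
theorem N65464 : nd 65464 = n125476 := ndS (p := 35549) (l := 1) rfl N35549 D125476
theorem N65465 : nd 65465 = n125477 := ndS (p := 35549) (l := 2) rfl N35549 D125477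
theorem N65466 : nd 65466 = n125478 := ndS (p := 35549) (l := 6) rfl N35549 D125478
theorem N65467 : nd 65467 = n125479 := ndS (p := 35550) (l := 5) rfl N35550 D125479
theorem N65468 : nd 65468 = n125480 := ndS (p := 35551) (l := 4) rfl N35551 D125480
theorem N65469 : nd 65469 = n125481 := ndS (p := 35551) (l := 6) rfl N35551 D125481
theorem N65470 : nd 65470 = n125482 := ndS (p := 35552) (l := 4) rfl N35552 D125482
theorem N65471 : nd 65471 = n125483 := ndS (p := 35554) (l := 0) rfl N35554 D125483
theorem N65472 : nd 65472 = n125484 := ndS (p := 35554) (l := 1) rfl N35554 D125484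
theorem N65473 : nd 65473 = n125487 := ndS (p := 35554) (l := 6) rfl N35554 D125487
theorem N65474 : nd 65474 = n125489 := ndS (p := 35556) (l := 5) rfl N35556 D125489
theorem N65475 : nd 65475 = n125494 := ndS (p := 35557) (l := 6) rfl N35557 D125494
theorem N65476 : nd 65476 = n125496 := ndS (p := 35559) (l := 5) rfl N35559 D125496
theorem N65477 : nd 65477 = n125497 := ndS (p := 35559) (l := 7) rfl N35559 D125497
theorem N65478 : nd 65478 = n125498 := ndS (p := 35560) (l := 0) rfl N35560 D125498
theorem N65479 : nd 65479 = n125499 := ndS (p := 35560) (l := 2) rfl N35560 D125499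
theorem N65480 : nd 65480 = n125500 := ndS (p := 35560) (l := 3) rfl N35560 D125500
theorem N65481 : nd 65481 = n125501 := ndS (p := 35560) (l := 4) rfl N35560 D125501
theorem N65482 : nd 65482 = n125502 := ndS (p := 35560) (l := 5) rfl N35560 D125502
theorem N65483 : nd 65483 = n125503 := ndS (p := 35560) (l := 6) rfl N35560 D125503
theorem N65484 : nd 65484 = n125504 := ndS (p := 35560) (l := 7) rfl N35560 D125504
theorem N65485 : nd 65485 = n125505 := ndS (p := 35561) (l := 3) rfl N35561 D125505
theorem N65486 : nd 65486 = n125506 := ndS (p := 35561) (l := 4) rfl N35561 D125506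
theorem N65487 : nd 65487 = n125507 := ndS (p := 35561) (l := 5) rfl N35561 D125507
theorem N65488 : nd 65488 = n125508 := ndS (p := 35561) (l := 6) rfl N35561 D125508
theorem N65489 : nd 65489 = n125511 := ndS (p := 35562) (l := 5) rfl N35562 D125511
theorem N65490 : nd 65490 = n125512 := ndS (p := 35563) (l := 0) rfl N35563 D125512
theorem N65491 : nd 65491 = n125513 := ndS (p := 35563) (l := 1) rfl N35563 D125513
theorem N65492 : nd 65492 = n125514 := ndS (p := 35563) (l := 4) rfl N35563 D125514
theorem N65493 : nd 65493 = n125515 := ndS (p := 35563) (l := 7) rfl N35563 D125515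
theorem N65494 : nd 65494 = n125518 := ndS (p := 35566) (l := 3) rfl N35566 D125518
theorem N65495 : nd 65495 = n125519 := ndS (p := 35566) (l := 6) rfl N35566 D125519
theorem N65496 : nd 65496 = n125520 := ndS (p := 35567) (l := 3) rfl N35567 D125520
theorem N65497 : nd 65497 = n125521 := ndS (p := 35570) (l := 6) rfl N35570 D125521
theorem N65498 : nd 65498 = n125522 := ndS (p := 35571) (l := 0) rfl N35571 D125522
theorem N65499 : nd 65499 = n125523 := ndS (p := 35571) (l := 1) rfl N35571 D125523
theorem N65500 : nd 65500 = n125524 := ndS (p := 35571) (l := 2) rfl N35571 D125524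
theorem N65501 : nd 65501 = n125525 := ndS (p := 35571) (l := 5) rfl N35571 D125525
theorem N65502 : nd 65502 = n125526 := ndS (p := 35571) (l := 6) rfl N35571 D125526
theorem N65503 : nd 65503 = n125527 := ndS (p := 35572) (l := 6) rfl N35572 D125527
theorem N65504 : nd 65504 = n125528 := ndS (p := 35573) (l := 0) rfl N35573 D125528
theorem N65505 : nd 65505 = n125529 := ndS (p := 35573) (l := 5) rfl N35573 D125529
theorem N65506 : nd 65506 = n125530 := ndS (p := 35574) (l := 0) rfl N35574 D125530
theorem N65507 : nd 65507 = n125531 := ndS (p := 35574) (l := 1) rfl N35574 D125531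
theorem N65508 : nd 65508 = n125532 := ndS (p := 35574) (l := 2) rfl N35574 D125532
theorem N65509 : nd 65509 = n125533 := ndS (p := 35574) (l := 5) rfl N35574 D125533
theorem N65510 : nd 65510 = n125534 := ndS (p := 35574) (l := 6) rfl N35574 D125534
theorem N65511 : nd 65511 = n125535 := ndS (p := 35575) (l := 6) rfl N35575 D125535
theorem N65512 : nd 65512 = n125536 := ndS (p := 35576) (l := 0) rfl N35576 D125536
theorem N65513 : nd 65513 = n125537 := ndS (p := 35576) (l := 5) rfl N35576 D125537
theorem N65514 : nd 65514 = n125538 := ndS (p := 35578) (l := 0) rfl N35578 D125538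
theorem N65515 : nd 65515 = n125539 := ndS (p := 35578) (l := 1) rfl N35578 D125539
theorem N65516 : nd 65516 = n125540 := ndS (p := 35578) (l := 2) rfl N35578 D125540
theorem N65517 : nd 65517 = n125541 := ndS (p := 35578) (l := 5) rfl N35578 D125541
theorem N65518 : nd 65518 = n125542 := ndS (p := 35578) (l := 6) rfl N35578 D125542
theorem N65519 : nd 65519 = n125543 := ndS (p := 35579) (l := 6) rfl N35579 D125543
theorem N65520 : nd 65520 = n125544 := ndS (p := 35580) (l := 0) rfl N35580 D125544
theorem N65521 : nd 65521 = n125545 := ndS (p := 35580) (l := 5) rfl N35580 D125545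
theorem N65522 : nd 65522 = n125546 := ndS (p := 35582) (l := 6) rfl N35582 D125546
theorem N65523 : nd 65523 = n125547 := ndS (p := 35583) (l := 0) rfl N35583 D125547
theorem N65524 : nd 65524 = n125550 := ndS (p := 35583) (l := 7) rfl N35583 D125550
theorem N65525 : nd 65525 = n125551 := ndS (p := 35586) (l := 0) rfl N35586 D125551
theorem N65526 : nd 65526 = n125552 := ndS (p := 35586) (l := 2) rfl N35586 D125552
theorem N65527 : nd 65527 = n125553 := ndS (p := 35586) (l := 3) rfl N35586 D125553
theorem N65528 : nd 65528 = n125554 := ndS (p := 35586) (l := 4) rfl N35586 D125554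
theorem N65529 : nd 65529 = n125555 := ndS (p := 35586) (l := 5) rfl N35586 D125555
theorem N65530 : nd 65530 = n125556 := ndS (p := 35586) (l := 6) rfl N35586 D125556
theorem N65531 : nd 65531 = n125557 := ndS (p := 35586) (l := 7) rfl N35586 D125557
theorem N65532 : nd 65532 = n125558 := ndS (p := 35587) (l := 3) rfl N35587 D125558
theorem N65533 : nd 65533 = n125559 := ndS (p := 35587) (l := 4) rfl N35587 D125559
theorem N65534 : nd 65534 = n125560 := ndS (p := 35587) (l := 5) rfl N35587 D125560
theorem N65535 : nd 65535 = n125561 := ndS (p := 35587) (l := 6) rfl N35587 D125561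
theorem N65536 : nd 65536 = n125564 := ndS (p := 35588) (l := 5) rfl N35588 D125564
theorem N65537 : nd 65537 = n125565 := ndS (p := 35589) (l := 0) rfl N35589 D125565
theorem N65538 : nd 65538 = n125566 := ndS (p := 35589) (l := 1) rfl N35589 D125566
theorem N65539 : nd 65539 = n125567 := ndS (p := 35589) (l := 4) rfl N35589 D125567
theorem N65540 : nd 65540 = n125568 := ndS (p := 35589) (l := 6) rfl N35589 D125568
theorem N65541 : nd 65541 = n125570 := ndS (p := 35591) (l := 0) rfl N35591 D125570
theorem N65542 : nd 65542 = n125571 := ndS (p := 35591) (l := 1) rfl N35591 D125571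
theorem N65543 : nd 65543 = n125572 := ndS (p := 35591) (l := 7) rfl N35591 D125572
theorem N65544 : nd 65544 = n125574 := ndS (p := 35593) (l := 0) rfl N35593 D125574
theorem N65545 : nd 65545 = n125575 := ndS (p := 35593) (l := 1) rfl N35593 D125575
theorem N65546 : nd 65546 = n125576 := ndS (p := 35593) (l := 2) rfl N35593 D125576
theorem N65547 : nd 65547 = n125577 := ndS (p := 35593) (l := 6) rfl N35593 D125577
theorem N65548 : nd 65548 = n125578 := ndS (p := 35594) (l := 5) rfl N35594 D125578
theorem N65549 : nd 65549 = n125579 := ndS (p := 35596) (l := 3) rfl N35596 D125579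
theorem N65550 : nd 65550 = n125580 := ndS (p := 35596) (l := 6) rfl N35596 D125580
theorem N65551 : nd 65551 = n125581 := ndS (p := 35599) (l := 0) rfl N35599 D125581
theorem N65552 : nd 65552 = n125582 := ndS (p := 35599) (l := 1) rfl N35599 D125582
theorem N65553 : nd 65553 = n125583 := ndS (p := 35599) (l := 2) rfl N35599 D125583
theorem N65554 : nd 65554 = n125585 := ndS (p := 35600) (l := 5) rfl N35600 D125585
theorem N65555 : nd 65555 = n125586 := ndS (p := 35603) (l := 0) rfl N35603 D125586
theorem N65556 : nd 65556 = n125587 := ndS (p := 35603) (l := 1) rfl N35603 D125587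
theorem N65557 : nd 65557 = n125588 := ndS (p := 35603) (l := 2) rfl N35603 D125588
theorem N65558 : nd 65558 = n125589 := ndS (p := 35603) (l := 5) rfl N35603 D125589
theorem N65559 : nd 65559 = n125590 := ndS (p := 35603) (l := 6) rfl N35603 D125590
theorem N65560 : nd 65560 = n125591 := ndS (p := 35604) (l := 6) rfl N35604 D125591
theorem N65561 : nd 65561 = n125592 := ndS (p := 35605) (l := 0) rfl N35605 D125592
theorem N65562 : nd 65562 = n125593 := ndS (p := 35605) (l := 1) rfl N35605 D125593
theorem N65563 : nd 65563 = n125594 := ndS (p := 35605) (l := 5) rfl N35605 D125594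
theorem N65564 : nd 65564 = n125595 := ndS (p := 35606) (l := 4) rfl N35606 D125595
theorem N65565 : nd 65565 = n125596 := ndS (p := 35607) (l := 4) rfl N35607 D125596
theorem N65566 : nd 65566 = n125597 := ndS (p := 35609) (l := 0) rfl N35609 D125597
theorem N65567 : nd 65567 = n125598 := ndS (p := 35609) (l := 1) rfl N35609 D125598
theorem N65568 : nd 65568 = n125599 := ndS (p := 35609) (l := 2) rfl N35609 D125599
theorem N65569 : nd 65569 = n125600 := ndS (p := 35609) (l := 5) rfl N35609 D125600
theorem N65570 : nd 65570 = n125601 := ndS (p := 35609) (l := 6) rfl N35609 D125601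
theorem N65571 : nd 65571 = n125602 := ndS (p := 35610) (l := 6) rfl N35610 D125602
theorem N65572 : nd 65572 = n125603 := ndS (p := 35611) (l := 7) rfl N35611 D125603
theorem N65573 : nd 65573 = n125604 := ndS (p := 35612) (l := 0) rfl N35612 D125604
theorem N65574 : nd 65574 = n125605 := ndS (p := 35612) (l := 1) rfl N35612 D125605
theorem N65575 : nd 65575 = n125606 := ndS (p := 35612) (l := 2) rfl N35612 D125606
theorem N65576 : nd 65576 = n125607 := ndS (p := 35612) (l := 5) rfl N35612 D125607
theorem N65577 : nd 65577 = n125608 := ndS (p := 35612) (l := 6) rfl N35612 D125608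
theorem N65578 : nd 65578 = n125609 := ndS (p := 35613) (l := 6) rfl N35613 D125609
theorem N65579 : nd 65579 = n125610 := ndS (p := 35614) (l := 5) rfl N35614 D125610
theorem N65580 : nd 65580 = n125612 := ndS (p := 35615) (l := 3) rfl N35615 D125612
theorem N65581 : nd 65581 = n125613 := ndS (p := 35615) (l := 4) rfl N35615 D125613
theorem N65582 : nd 65582 = n125614 := ndS (p := 35615) (l := 5) rfl N35615 D125614
theorem N65583 : nd 65583 = n125615 := ndS (p := 35615) (l := 6) rfl N35615 D125615
theorem N65584 : nd 65584 = n125617 := ndS (p := 35616) (l := 3) rfl N35616 D125617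
theorem N65585 : nd 65585 = n125618 := ndS (p := 35616) (l := 4) rfl N35616 D125618
theorem N65586 : nd 65586 = n125619 := ndS (p := 35616) (l := 5) rfl N35616 D125619
theorem N65587 : nd 65587 = n125620 := ndS (p := 35616) (l := 6) rfl N35616 D125620
theorem N65588 : nd 65588 = n125621 := ndS (p := 35617) (l := 5) rfl N35617 D125621
theorem N65589 : nd 65589 = n125622 := ndS (p := 35617) (l := 6) rfl N35617 D125622
theorem N65590 : nd 65590 = n125623 := ndS (p := 35618) (l := 0) rfl N35618 D125623
theorem N65591 : nd 65591 = n125624 := ndS (p := 35618) (l := 1) rfl N35618 D125624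
theorem N65592 : nd 65592 = n125625 := ndS (p := 35618) (l := 4) rfl N35618 D125625
theorem N65593 : nd 65593 = n125626 := ndS (p := 35618) (l := 6) rfl N35618 D125626
theorem N65594 : nd 65594 = n125627 := ndS (p := 35619) (l := 0) rfl N35619 D125627
theorem N65595 : nd 65595 = n125628 := ndS (p := 35619) (l := 1) rfl N35619 D125628
theorem N65596 : nd 65596 = n125629 := ndS (p := 35619) (l := 5) rfl N35619 D125629
theorem N65597 : nd 65597 = n125630 := ndS (p := 35619) (l := 7) rfl N35619 D125630
theorem N65598 : nd 65598 = n125631 := ndS (p := 35620) (l := 3) rfl N35620 D125631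
theorem N65599 : nd 65599 = n125632 := ndS (p := 35620) (l := 6) rfl N35620 D125632
theorem N65600 : nd 65600 = n125633 := ndS (p := 35621) (l := 0) rfl N35621 D125633
theorem N65601 : nd 65601 = n125634 := ndS (p := 35621) (l := 1) rfl N35621 D125634
theorem N65602 : nd 65602 = n125635 := ndS (p := 35621) (l := 5) rfl N35621 D125635
theorem N65603 : nd 65603 = n125636 := ndS (p := 35621) (l := 7) rfl N35621 D125636
theorem N65604 : nd 65604 = n125637 := ndS (p := 35622) (l := 3) rfl N35622 D125637
theorem N65605 : nd 65605 = n125638 := ndS (p := 35623) (l := 3) rfl N35623 D125638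
theorem N65606 : nd 65606 = n125639 := ndS (p := 35623) (l := 6) rfl N35623 D125639
theorem N65607 : nd 65607 = n125640 := ndS (p := 35624) (l := 0) rfl N35624 D125640
theorem N65608 : nd 65608 = n125641 := ndS (p := 35624) (l := 1) rfl N35624 D125641
theorem N65609 : nd 65609 = n125642 := ndS (p := 35624) (l := 4) rfl N35624 D125642
theorem N65610 : nd 65610 = n125643 := ndS (p := 35624) (l := 7) rfl N35624 D125643
theorem N65611 : nd 65611 = n125644 := ndS (p := 35626) (l := 3) rfl N35626 D125644
theorem N65612 : nd 65612 = n125646 := ndS (p := 35627) (l := 4) rfl N35627 D125646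
theorem N65613 : nd 65613 = n125649 := ndS (p := 35628) (l := 1) rfl N35628 D125649
theorem N65614 : nd 65614 = n125653 := ndS (p := 35630) (l := 0) rfl N35630 D125653
theorem N65615 : nd 65615 = n125654 := ndS (p := 35630) (l := 1) rfl N35630 D125654
theorem N65616 : nd 65616 = n125656 := ndS (p := 35630) (l := 5) rfl N35630 D125656
theorem N65617 : nd 65617 = n125657 := ndS (p := 35631) (l := 6) rfl N35631 D125657
theorem N65618 : nd 65618 = n125658 := ndS (p := 35634) (l := 0) rfl N35634 D125658
theorem N65619 : nd 65619 = n125659 := ndS (p := 35634) (l := 1) rfl N35634 D125659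
theorem N65620 : nd 65620 = n125660 := ndS (p := 35634) (l := 2) rfl N35634 D125660
theorem N65621 : nd 65621 = n125663 := ndS (p := 35635) (l := 6) rfl N35635 D125663
theorem N65622 : nd 65622 = n125664 := ndS (p := 35636) (l := 5) rfl N35636 D125664
theorem N65623 : nd 65623 = n125665 := ndS (p := 35637) (l := 6) rfl N35637 D125665
theorem N65624 : nd 65624 = n125666 := ndS (p := 35639) (l := 0) rfl N35639 D125666
theorem N65625 : nd 65625 = n125667 := ndS (p := 35639) (l := 1) rfl N35639 D125667
theorem N65626 : nd 65626 = n125668 := ndS (p := 35639) (l := 2) rfl N35639 D125668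
theorem N65627 : nd 65627 = n125669 := ndS (p := 35639) (l := 6) rfl N35639 D125669
theorem N65628 : nd 65628 = n125670 := ndS (p := 35640) (l := 5) rfl N35640 D125670
theorem N65629 : nd 65629 = n125671 := ndS (p := 35643) (l := 3) rfl N35643 D125671
theorem N65630 : nd 65630 = n125672 := ndS (p := 35643) (l := 4) rfl N35643 D125672
theorem N65631 : nd 65631 = n125673 := ndS (p := 35643) (l := 5) rfl N35643 D125673
theorem N65632 : nd 65632 = n125674 := ndS (p := 35643) (l := 6) rfl N35643 D125674
theorem N65633 : nd 65633 = n125675 := ndS (p := 35644) (l := 3) rfl N35644 D125675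
theorem N65634 : nd 65634 = n125678 := ndS (p := 35645) (l := 5) rfl N35645 D125678
theorem N65635 : nd 65635 = n125679 := ndS (p := 35645) (l := 6) rfl N35645 D125679
theorem N65636 : nd 65636 = n125680 := ndS (p := 35646) (l := 0) rfl N35646 D125680
theorem N65637 : nd 65637 = n125681 := ndS (p := 35646) (l := 1) rfl N35646 D125681
theorem N65638 : nd 65638 = n125682 := ndS (p := 35646) (l := 4) rfl N35646 D125682
theorem N65639 : nd 65639 = n125683 := ndS (p := 35646) (l := 6) rfl N35646 D125683
theorem N65640 : nd 65640 = n125684 := ndS (p := 35647) (l := 0) rfl N35647 D125684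
theorem N65641 : nd 65641 = n125685 := ndS (p := 35647) (l := 1) rfl N35647 D125685
theorem N65642 : nd 65642 = n125686 := ndS (p := 35647) (l := 5) rfl N35647 D125686
theorem N65643 : nd 65643 = n125687 := ndS (p := 35647) (l := 7) rfl N35647 D125687
theorem N65644 : nd 65644 = n125688 := ndS (p := 35648) (l := 0) rfl N35648 D125688
theorem N65645 : nd 65645 = n125691 := ndS (p := 35648) (l := 7) rfl N35648 D125691
theorem N65646 : nd 65646 = n125693 := ndS (p := 35649) (l := 5) rfl N35649 D125693
theorem N65647 : nd 65647 = n125694 := ndS (p := 35650) (l := 3) rfl N35650 D125694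
theorem N65648 : nd 65648 = n125695 := ndS (p := 35650) (l := 5) rfl N35650 D125695
theorem N65649 : nd 65649 = n125696 := ndS (p := 35651) (l := 0) rfl N35651 D125696
theorem N65650 : nd 65650 = n125698 := ndS (p := 35651) (l := 4) rfl N35651 D125698
theorem N65651 : nd 65651 = n125699 := ndS (p := 35651) (l := 7) rfl N35651 D125699
theorem N65652 : nd 65652 = n125701 := ndS (p := 35654) (l := 3) rfl N35654 D125701
theorem N65653 : nd 65653 = n125702 := ndS (p := 35654) (l := 6) rfl N35654 D125702
theorem N65654 : nd 65654 = n125703 := ndS (p := 35656) (l := 0) rfl N35656 D125703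
theorem N65655 : nd 65655 = n125704 := ndS (p := 35656) (l := 1) rfl N35656 D125704
theorem N65656 : nd 65656 = n125705 := ndS (p := 35656) (l := 2) rfl N35656 D125705
theorem N65657 : nd 65657 = n125706 := ndS (p := 35656) (l := 6) rfl N35656 D125706
theorem N65658 : nd 65658 = n125707 := ndS (p := 35657) (l := 5) rfl N35657 D125707
theorem N65659 : nd 65659 = n125709 := ndS (p := 35658) (l := 3) rfl N35658 D125709
theorem N65660 : nd 65660 = n125710 := ndS (p := 35658) (l := 4) rfl N35658 D125710
theorem N65661 : nd 65661 = n125712 := ndS (p := 35658) (l := 6) rfl N35658 D125712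
theorem N65662 : nd 65662 = n125714 := ndS (p := 35659) (l := 3) rfl N35659 D125714
theorem N65663 : nd 65663 = n125715 := ndS (p := 35659) (l := 4) rfl N35659 D125715
theorem N65664 : nd 65664 = n125718 := ndS (p := 35660) (l := 5) rfl N35660 D125718
theorem N65665 : nd 65665 = n125719 := ndS (p := 35660) (l := 6) rfl N35660 D125719
theorem N65666 : nd 65666 = n125720 := ndS (p := 35661) (l := 0) rfl N35661 D125720
theorem N65667 : nd 65667 = n125721 := ndS (p := 35661) (l := 1) rfl N35661 D125721
theorem N65668 : nd 65668 = n125722 := ndS (p := 35661) (l := 4) rfl N35661 D125722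
theorem N65669 : nd 65669 = n125723 := ndS (p := 35661) (l := 6) rfl N35661 D125723
theorem N65670 : nd 65670 = n125724 := ndS (p := 35662) (l := 0) rfl N35662 D125724
theorem N65671 : nd 65671 = n125726 := ndS (p := 35662) (l := 5) rfl N35662 D125726
theorem N65672 : nd 65672 = n125727 := ndS (p := 35662) (l := 7) rfl N35662 D125727
theorem N65673 : nd 65673 = n125728 := ndS (p := 35663) (l := 3) rfl N35663 D125728
theorem N65674 : nd 65674 = n125729 := ndS (p := 35663) (l := 6) rfl N35663 D125729
theorem N65675 : nd 65675 = n125730 := ndS (p := 35664) (l := 3) rfl N35664 D125730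
theorem N65676 : nd 65676 = n125732 := ndS (p := 35665) (l := 0) rfl N35665 D125732
theorem N65677 : nd 65677 = n125733 := ndS (p := 35665) (l := 1) rfl N35665 D125733
theorem N65678 : nd 65678 = n125734 := ndS (p := 35665) (l := 5) rfl N35665 D125734
theorem N65679 : nd 65679 = n125735 := ndS (p := 35665) (l := 7) rfl N35665 D125735
theorem N65680 : nd 65680 = n125737 := ndS (p := 35666) (l := 5) rfl N35666 D125737
theorem N65681 : nd 65681 = n125738 := ndS (p := 35667) (l := 3) rfl N35667 D125738
theorem N65682 : nd 65682 = n125739 := ndS (p := 35667) (l := 5) rfl N35667 D125739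
theorem N65683 : nd 65683 = n125740 := ndS (p := 35667) (l := 6) rfl N35667 D125740
theorem N65684 : nd 65684 = n125741 := ndS (p := 35668) (l := 1) rfl N35668 D125741
theorem N65685 : nd 65685 = n125742 := ndS (p := 35668) (l := 4) rfl N35668 D125742
theorem N65686 : nd 65686 = n125743 := ndS (p := 35668) (l := 7) rfl N35668 D125743
theorem N65687 : nd 65687 = n125744 := ndS (p := 35670) (l := 3) rfl N35670 D125744
theorem N65688 : nd 65688 = n125745 := ndS (p := 35670) (l := 5) rfl N35670 D125745
theorem N65689 : nd 65689 = n125746 := ndS (p := 35671) (l := 4) rfl N35671 D125746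
theorem N65690 : nd 65690 = n125747 := ndS (p := 35672) (l := 5) rfl N35672 D125747
theorem N65691 : nd 65691 = n125748 := ndS (p := 35672) (l := 6) rfl N35672 D125748
theorem N65692 : nd 65692 = n125749 := ndS (p := 35674) (l := 1) rfl N35674 D125749
theorem N65693 : nd 65693 = n125750 := ndS (p := 35674) (l := 7) rfl N35674 D125750
theorem N65694 : nd 65694 = n125751 := ndS (p := 35675) (l := 0) rfl N35675 D125751
theorem N65695 : nd 65695 = n125753 := ndS (p := 35675) (l := 2) rfl N35675 D125753
theorem N65696 : nd 65696 = n125755 := ndS (p := 35675) (l := 6) rfl N35675 D125755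
theorem N65697 : nd 65697 = n125757 := ndS (p := 35677) (l := 5) rfl N35677 D125757
theorem N65698 : nd 65698 = n125758 := ndS (p := 35678) (l := 6) rfl N35678 D125758
theorem N65699 : nd 65699 = n125759 := ndS (p := 35680) (l := 0) rfl N35680 D125759
theorem N65700 : nd 65700 = n125760 := ndS (p := 35680) (l := 4) rfl N35680 D125760
theorem N65701 : nd 65701 = n125761 := ndS (p := 35680) (l := 7) rfl N35680 D125761
theorem N65702 : nd 65702 = n125762 := ndS (p := 35682) (l := 3) rfl N35682 D125762
theorem N65703 : nd 65703 = n125763 := ndS (p := 35682) (l := 4) rfl N35682 D125763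
theorem N65704 : nd 65704 = n125766 := ndS (p := 35683) (l := 3) rfl N35683 D125766
theorem N65705 : nd 65705 = n125768 := ndS (p := 35683) (l := 6) rfl N35683 D125768
theorem N65706 : nd 65706 = n125769 := ndS (p := 35684) (l := 5) rfl N35684 D125769
theorem N65707 : nd 65707 = n125772 := ndS (p := 35685) (l := 1) rfl N35685 D125772
theorem N65708 : nd 65708 = n125773 := ndS (p := 35685) (l := 4) rfl N35685 D125773
theorem N65709 : nd 65709 = n125774 := ndS (p := 35685) (l := 6) rfl N35685 D125774
theorem N65710 : nd 65710 = n125777 := ndS (p := 35686) (l := 5) rfl N35686 D125777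
theorem N65711 : nd 65711 = n125780 := ndS (p := 35687) (l := 1) rfl N35687 D125780
theorem N65712 : nd 65712 = n125781 := ndS (p := 35687) (l := 5) rfl N35687 D125781
theorem N65713 : nd 65713 = n125782 := ndS (p := 35687) (l := 7) rfl N35687 D125782
theorem N65714 : nd 65714 = n125785 := ndS (p := 35688) (l := 6) rfl N35688 D125785
theorem N65715 : nd 65715 = n125786 := ndS (p := 35689) (l := 3) rfl N35689 D125786
theorem N65716 : nd 65716 = n125791 := ndS (p := 35693) (l := 3) rfl N35693 D125791
theorem N65717 : nd 65717 = n125792 := ndS (p := 35694) (l := 3) rfl N35694 D125792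
theorem N65718 : nd 65718 = n125796 := ndS (p := 35696) (l := 4) rfl N35696 D125796
theorem N65719 : nd 65719 = n125797 := ndS (p := 35696) (l := 5) rfl N35696 D125797
theorem N65720 : nd 65720 = n125798 := ndS (p := 35696) (l := 6) rfl N35696 D125798
theorem N65721 : nd 65721 = n125800 := ndS (p := 35697) (l := 3) rfl N35697 D125800
theorem N65722 : nd 65722 = n125801 := ndS (p := 35697) (l := 4) rfl N35697 D125801
theorem N65723 : nd 65723 = n125802 := ndS (p := 35697) (l := 5) rfl N35697 D125802
theorem N65724 : nd 65724 = n125804 := ndS (p := 35698) (l := 5) rfl N35698 D125804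
theorem N65725 : nd 65725 = n125806 := ndS (p := 35699) (l := 0) rfl N35699 D125806
theorem N65726 : nd 65726 = n125807 := ndS (p := 35699) (l := 1) rfl N35699 D125807
theorem N65727 : nd 65727 = n125808 := ndS (p := 35699) (l := 4) rfl N35699 D125808
theorem N65728 : nd 65728 = n125809 := ndS (p := 35699) (l := 6) rfl N35699 D125809
theorem N65729 : nd 65729 = n125811 := ndS (p := 35700) (l := 1) rfl N35700 D125811
theorem N65730 : nd 65730 = n125813 := ndS (p := 35700) (l := 7) rfl N35700 D125813
theorem N65731 : nd 65731 = n125814 := ndS (p := 35701) (l := 3) rfl N35701 D125814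
theorem N65732 : nd 65732 = n125815 := ndS (p := 35701) (l := 6) rfl N35701 D125815
theorem N65733 : nd 65733 = n125820 := ndS (p := 35703) (l := 1) rfl N35703 D125820
theorem N65734 : nd 65734 = n125821 := ndS (p := 35703) (l := 4) rfl N35703 D125821
theorem N65735 : nd 65735 = n125822 := ndS (p := 35703) (l := 7) rfl N35703 D125822
theorem N65736 : nd 65736 = n125824 := ndS (p := 35705) (l := 3) rfl N35705 D125824
theorem N65737 : nd 65737 = n125825 := ndS (p := 35705) (l := 5) rfl N35705 D125825
theorem N65738 : nd 65738 = n125828 := ndS (p := 35706) (l := 3) rfl N35706 D125828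
theorem N65739 : nd 65739 = n125829 := ndS (p := 35706) (l := 5) rfl N35706 D125829
theorem N65740 : nd 65740 = n125830 := ndS (p := 35706) (l := 6) rfl N35706 D125830
theorem N65741 : nd 65741 = n125831 := ndS (p := 35707) (l := 5) rfl N35707 D125831
theorem N65742 : nd 65742 = n125832 := ndS (p := 35707) (l := 6) rfl N35707 D125832
theorem N65743 : nd 65743 = n125834 := ndS (p := 35708) (l := 1) rfl N35708 D125834
theorem N65744 : nd 65744 = n125835 := ndS (p := 35708) (l := 6) rfl N35708 D125835
theorem N65745 : nd 65745 = n125836 := ndS (p := 35709) (l := 0) rfl N35709 D125836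
theorem N65746 : nd 65746 = n125837 := ndS (p := 35709) (l := 1) rfl N35709 D125837
theorem N65747 : nd 65747 = n125838 := ndS (p := 35709) (l := 5) rfl N35709 D125838
theorem N65748 : nd 65748 = n125839 := ndS (p := 35709) (l := 7) rfl N35709 D125839
theorem N65749 : nd 65749 = n125841 := ndS (p := 35710) (l := 1) rfl N35710 D125841
theorem N65750 : nd 65750 = n125842 := ndS (p := 35710) (l := 5) rfl N35710 D125842
theorem N65751 : nd 65751 = n125843 := ndS (p := 35710) (l := 7) rfl N35710 D125843
theorem N65752 : nd 65752 = n125846 := ndS (p := 35713) (l := 5) rfl N35713 D125846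
theorem N65753 : nd 65753 = n125847 := ndS (p := 35713) (l := 6) rfl N35713 D125847
theorem N65754 : nd 65754 = n125849 := ndS (p := 35714) (l := 1) rfl N35714 D125849
theorem N65755 : nd 65755 = n125850 := ndS (p := 35714) (l := 2) rfl N35714 D125850
theorem N65756 : nd 65756 = n125851 := ndS (p := 35714) (l := 5) rfl N35714 D125851
theorem N65757 : nd 65757 = n125852 := ndS (p := 35714) (l := 6) rfl N35714 D125852
theorem N65758 : nd 65758 = n125853 := ndS (p := 35714) (l := 7) rfl N35714 D125853
theorem N65759 : nd 65759 = n125854 := ndS (p := 35715) (l := 0) rfl N35715 D125854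
theorem N65760 : nd 65760 = n125855 := ndS (p := 35715) (l := 4) rfl N35715 D125855
theorem N65761 : nd 65761 = n125857 := ndS (p := 35715) (l := 7) rfl N35715 D125857
theorem N65762 : nd 65762 = n125860 := ndS (p := 35716) (l := 5) rfl N35716 D125860
theorem N65763 : nd 65763 = n125864 := ndS (p := 35718) (l := 2) rfl N35718 D125864
theorem N65764 : nd 65764 = n125865 := ndS (p := 35718) (l := 5) rfl N35718 D125865
theorem N65765 : nd 65765 = n125867 := ndS (p := 35719) (l := 4) rfl N35719 D125867
theorem N65766 : nd 65766 = n125868 := ndS (p := 35719) (l := 6) rfl N35719 D125868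
theorem N65767 : nd 65767 = n125873 := ndS (p := 35720) (l := 0) rfl N35720 D125873
theorem N65768 : nd 65768 = n125874 := ndS (p := 35720) (l := 1) rfl N35720 D125874
theorem N65769 : nd 65769 = n125875 := ndS (p := 35720) (l := 4) rfl N35720 D125875
theorem N65770 : nd 65770 = n125876 := ndS (p := 35720) (l := 6) rfl N35720 D125876
theorem N65771 : nd 65771 = n125877 := ndS (p := 35721) (l := 3) rfl N35721 D125877
theorem N65772 : nd 65772 = n125878 := ndS (p := 35721) (l := 4) rfl N35721 D125878
theorem N65773 : nd 65773 = n125879 := ndS (p := 35721) (l := 6) rfl N35721 D125879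
theorem N65774 : nd 65774 = n125880 := ndS (p := 35722) (l := 3) rfl N35722 D125880
theorem N65775 : nd 65775 = n125881 := ndS (p := 35722) (l := 4) rfl N35722 D125881
theorem N65776 : nd 65776 = n125882 := ndS (p := 35722) (l := 6) rfl N35722 D125882
theorem N65777 : nd 65777 = n125883 := ndS (p := 35723) (l := 0) rfl N35723 D125883
theorem N65778 : nd 65778 = n125884 := ndS (p := 35723) (l := 1) rfl N35723 D125884
theorem N65779 : nd 65779 = n125885 := ndS (p := 35723) (l := 3) rfl N35723 D125885
theorem N65780 : nd 65780 = n125886 := ndS (p := 35723) (l := 5) rfl N35723 D125886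
theorem N65781 : nd 65781 = n125887 := ndS (p := 35723) (l := 6) rfl N35723 D125887
theorem N65782 : nd 65782 = n125888 := ndS (p := 35723) (l := 7) rfl N35723 D125888
theorem N65783 : nd 65783 = n125889 := ndS (p := 35724) (l := 0) rfl N35724 D125889
theorem N65784 : nd 65784 = n125890 := ndS (p := 35724) (l := 1) rfl N35724 D125890
theorem N65785 : nd 65785 = n125891 := ndS (p := 35724) (l := 7) rfl N35724 D125891
theorem N65786 : nd 65786 = n125892 := ndS (p := 35725) (l := 6) rfl N35725 D125892
theorem N65787 : nd 65787 = n125893 := ndS (p := 35726) (l := 0) rfl N35726 D125893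
theorem N65788 : nd 65788 = n125894 := ndS (p := 35726) (l := 1) rfl N35726 D125894
theorem N65789 : nd 65789 = n125895 := ndS (p := 35726) (l := 5) rfl N35726 D125895
theorem N65790 : nd 65790 = n125898 := ndS (p := 35727) (l := 2) rfl N35727 D125898
theorem N65791 : nd 65791 = n125899 := ndS (p := 35727) (l := 4) rfl N35727 D125899
theorem N65792 : nd 65792 = n125900 := ndS (p := 35727) (l := 6) rfl N35727 D125900
theorem N65793 : nd 65793 = n125901 := ndS (p := 35728) (l := 0) rfl N35728 D125901
theorem N65794 : nd 65794 = n125902 := ndS (p := 35728) (l := 1) rfl N35728 D125902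
theorem N65795 : nd 65795 = n125903 := ndS (p := 35728) (l := 5) rfl N35728 D125903
theorem N65796 : nd 65796 = n125904 := ndS (p := 35728) (l := 7) rfl N35728 D125904
theorem N65797 : nd 65797 = n125909 := ndS (p := 35730) (l := 0) rfl N35730 D125909
theorem N65798 : nd 65798 = n125910 := ndS (p := 35730) (l := 1) rfl N35730 D125910
theorem N65799 : nd 65799 = n125911 := ndS (p := 35730) (l := 5) rfl N35730 D125911
theorem N65800 : nd 65800 = n125913 := ndS (p := 35731) (l := 0) rfl N35731 D125913
theorem N65801 : nd 65801 = n125914 := ndS (p := 35731) (l := 1) rfl N35731 D125914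
theorem N65802 : nd 65802 = n125915 := ndS (p := 35731) (l := 2) rfl N35731 D125915
theorem N65803 : nd 65803 = n125916 := ndS (p := 35731) (l := 6) rfl N35731 D125916
theorem N65804 : nd 65804 = n125917 := ndS (p := 35732) (l := 0) rfl N35732 D125917
theorem N65805 : nd 65805 = n125918 := ndS (p := 35732) (l := 1) rfl N35732 D125918
theorem N65806 : nd 65806 = n125919 := ndS (p := 35732) (l := 5) rfl N35732 D125919
theorem N65807 : nd 65807 = n125920 := ndS (p := 35732) (l := 7) rfl N35732 D125920
theorem N65808 : nd 65808 = n125922 := ndS (p := 35733) (l := 3) rfl N35733 D125922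
theorem N65809 : nd 65809 = n125924 := ndS (p := 35733) (l := 5) rfl N35733 D125924
theorem N65810 : nd 65810 = n125927 := ndS (p := 35734) (l := 3) rfl N35734 D125927
theorem N65811 : nd 65811 = n125928 := ndS (p := 35734) (l := 4) rfl N35734 D125928
theorem N65812 : nd 65812 = n125929 := ndS (p := 35734) (l := 5) rfl N35734 D125929
theorem N65813 : nd 65813 = n125930 := ndS (p := 35734) (l := 6) rfl N35734 D125930
theorem N65814 : nd 65814 = n125931 := ndS (p := 35735) (l := 6) rfl N35735 D125931
theorem N65815 : nd 65815 = n125932 := ndS (p := 35736) (l := 0) rfl N35736 D125932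
theorem N65816 : nd 65816 = n125933 := ndS (p := 35736) (l := 1) rfl N35736 D125933
theorem N65817 : nd 65817 = n125934 := ndS (p := 35736) (l := 5) rfl N35736 D125934
theorem N65818 : nd 65818 = n125935 := ndS (p := 35737) (l := 0) rfl N35737 D125935
theorem N65819 : nd 65819 = n125936 := ndS (p := 35737) (l := 1) rfl N35737 D125936
theorem N65820 : nd 65820 = n125937 := ndS (p := 35737) (l := 4) rfl N35737 D125937
theorem N65821 : nd 65821 = n125938 := ndS (p := 35738) (l := 5) rfl N35738 D125938
theorem N65822 : nd 65822 = n125939 := ndS (p := 35738) (l := 6) rfl N35738 D125939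
theorem N65823 : nd 65823 = n125940 := ndS (p := 35739) (l := 3) rfl N35739 D125940
theorem N65824 : nd 65824 = n125941 := ndS (p := 35739) (l := 5) rfl N35739 D125941
theorem N65825 : nd 65825 = n125942 := ndS (p := 35739) (l := 6) rfl N35739 D125942
theorem N65826 : nd 65826 = n125943 := ndS (p := 35740) (l := 4) rfl N35740 D125943
theorem N65827 : nd 65827 = n125944 := ndS (p := 35742) (l := 5) rfl N35742 D125944
theorem N65828 : nd 65828 = n125945 := ndS (p := 35742) (l := 6) rfl N35742 D125945
theorem N65829 : nd 65829 = n125946 := ndS (p := 35743) (l := 3) rfl N35743 D125946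
theorem N65830 : nd 65830 = n125947 := ndS (p := 35743) (l := 5) rfl N35743 D125947
theorem N65831 : nd 65831 = n125948 := ndS (p := 35743) (l := 6) rfl N35743 D125948
theorem N65832 : nd 65832 = n125949 := ndS (p := 35744) (l := 4) rfl N35744 D125949
theorem N65833 : nd 65833 = n125954 := ndS (p := 35747) (l := 5) rfl N35747 D125954
theorem N65834 : nd 65834 = n125957 := ndS (p := 35748) (l := 4) rfl N35748 D125957
theorem N65835 : nd 65835 = n125958 := ndS (p := 35748) (l := 5) rfl N35748 D125958
theorem N65836 : nd 65836 = n125959 := ndS (p := 35749) (l := 4) rfl N35749 D125959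
theorem N65837 : nd 65837 = n125961 := ndS (p := 35751) (l := 1) rfl N35751 D125961
theorem N65838 : nd 65838 = n125962 := ndS (p := 35751) (l := 2) rfl N35751 D125962
theorem N65839 : nd 65839 = n125963 := ndS (p := 35751) (l := 6) rfl N35751 D125963
theorem N65840 : nd 65840 = n125965 := ndS (p := 35753) (l := 0) rfl N35753 D125965
theorem N65841 : nd 65841 = n125966 := ndS (p := 35753) (l := 1) rfl N35753 D125966
theorem N65842 : nd 65842 = n125967 := ndS (p := 35754) (l := 0) rfl N35754 D125967
theorem N65843 : nd 65843 = n125968 := ndS (p := 35754) (l := 1) rfl N35754 D125968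
theorem N65844 : nd 65844 = n125969 := ndS (p := 35754) (l := 5) rfl N35754 D125969
theorem N65845 : nd 65845 = n125970 := ndS (p := 35754) (l := 7) rfl N35754 D125970
theorem N65846 : nd 65846 = n125971 := ndS (p := 35755) (l := 3) rfl N35755 D125971
theorem N65847 : nd 65847 = n125972 := ndS (p := 35755) (l := 5) rfl N35755 D125972
theorem N65848 : nd 65848 = n125974 := ndS (p := 35756) (l := 3) rfl N35756 D125974
theorem N65849 : nd 65849 = n125976 := ndS (p := 35756) (l := 6) rfl N35756 D125976
theorem N65850 : nd 65850 = n125977 := ndS (p := 35757) (l := 1) rfl N35757 D125977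
theorem N65851 : nd 65851 = n125978 := ndS (p := 35757) (l := 4) rfl N35757 D125978
theorem N65852 : nd 65852 = n125980 := ndS (p := 35758) (l := 5) rfl N35758 D125980
theorem N65853 : nd 65853 = n125981 := ndS (p := 35759) (l := 0) rfl N35759 D125981
theorem N65854 : nd 65854 = n125982 := ndS (p := 35759) (l := 3) rfl N35759 D125982
theorem N65855 : nd 65855 = n125983 := ndS (p := 35759) (l := 5) rfl N35759 D125983
theorem N65856 : nd 65856 = n125984 := ndS (p := 35760) (l := 4) rfl N35760 D125984
theorem N65857 : nd 65857 = n125985 := ndS (p := 35762) (l := 5) rfl N35762 D125985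
theorem N65858 : nd 65858 = n125986 := ndS (p := 35762) (l := 6) rfl N35762 D125986
theorem N65859 : nd 65859 = n125988 := ndS (p := 35763) (l := 5) rfl N35763 D125988
theorem N65860 : nd 65860 = n125989 := ndS (p := 35763) (l := 6) rfl N35763 D125989
theorem N65861 : nd 65861 = n125990 := ndS (p := 35764) (l := 4) rfl N35764 D125990
theorem N65862 : nd 65862 = n125991 := ndS (p := 35766) (l := 4) rfl N35766 D125991
theorem N65863 : nd 65863 = n125992 := ndS (p := 35767) (l := 3) rfl N35767 D125992
theorem N65864 : nd 65864 = n125993 := ndS (p := 35768) (l := 0) rfl N35768 D125993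
theorem N65865 : nd 65865 = n125994 := ndS (p := 35768) (l := 1) rfl N35768 D125994
theorem N65866 : nd 65866 = n125995 := ndS (p := 35768) (l := 5) rfl N35768 D125995
theorem N65867 : nd 65867 = n125997 := ndS (p := 35769) (l := 6) rfl N35769 D125997
theorem N65868 : nd 65868 = n125998 := ndS (p := 35770) (l := 5) rfl N35770 D125998
theorem N65869 : nd 65869 = n126000 := ndS (p := 35773) (l := 0) rfl N35773 D126000
theorem N65870 : nd 65870 = n126001 := ndS (p := 35773) (l := 1) rfl N35773 D126001
theorem N65871 : nd 65871 = n126002 := ndS (p := 35773) (l := 2) rfl N35773 D126002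
theorem N65872 : nd 65872 = n126003 := ndS (p := 35773) (l := 6) rfl N35773 D126003
theorem N65873 : nd 65873 = n126005 := ndS (p := 35775) (l := 0) rfl N35775 D126005
theorem N65874 : nd 65874 = n126006 := ndS (p := 35775) (l := 1) rfl N35775 D126006
theorem N65875 : nd 65875 = n126009 := ndS (p := 35776) (l := 3) rfl N35776 D126009
theorem N65876 : nd 65876 = n126010 := ndS (p := 35776) (l := 6) rfl N35776 D126010
theorem N65877 : nd 65877 = n126011 := ndS (p := 35777) (l := 3) rfl N35777 D126011
theorem N65878 : nd 65878 = n126012 := ndS (p := 35778) (l := 0) rfl N35778 D126012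
theorem N65879 : nd 65879 = n126014 := ndS (p := 35778) (l := 4) rfl N35778 D126014
theorem N65880 : nd 65880 = n126016 := ndS (p := 35779) (l := 6) rfl N35779 D126016
theorem N65881 : nd 65881 = n126017 := ndS (p := 35780) (l := 3) rfl N35780 D126017
theorem N65882 : nd 65882 = n126018 := ndS (p := 35780) (l := 5) rfl N35780 D126018
theorem N65883 : nd 65883 = n126019 := ndS (p := 35780) (l := 6) rfl N35780 D126019
theorem N65884 : nd 65884 = n126020 := ndS (p := 35783) (l := 3) rfl N35783 D126020
theorem N65885 : nd 65885 = n126021 := ndS (p := 35783) (l := 5) rfl N35783 D126021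
theorem N65886 : nd 65886 = n126023 := ndS (p := 35785) (l := 5) rfl N35785 D126023
theorem N65887 : nd 65887 = n126035 := ndS (p := 35786) (l := 3) rfl N35786 D126035
theorem N65888 : nd 65888 = n126036 := ndS (p := 35786) (l := 5) rfl N35786 D126036
theorem N65889 : nd 65889 = n126037 := ndS (p := 35786) (l := 6) rfl N35786 D126037
theorem N65890 : nd 65890 = n126040 := ndS (p := 35788) (l := 1) rfl N35788 D126040
theorem N65891 : nd 65891 = n126041 := ndS (p := 35788) (l := 2) rfl N35788 D126041
theorem N65892 : nd 65892 = n126042 := ndS (p := 35788) (l := 5) rfl N35788 D126042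
theorem N65893 : nd 65893 = n126043 := ndS (p := 35788) (l := 6) rfl N35788 D126043
theorem N65894 : nd 65894 = n126044 := ndS (p := 35789) (l := 0) rfl N35789 D126044
theorem N65895 : nd 65895 = n126046 := ndS (p := 35789) (l := 4) rfl N35789 D126046
theorem N65896 : nd 65896 = n126047 := ndS (p := 35789) (l := 6) rfl N35789 D126047
theorem N65897 : nd 65897 = n126048 := ndS (p := 35789) (l := 7) rfl N35789 D126048
theorem N65898 : nd 65898 = n126051 := ndS (p := 35790) (l := 5) rfl N35790 D126051
theorem N65899 : nd 65899 = n126054 := ndS (p := 35792) (l := 3) rfl N35792 D126054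
theorem N65900 : nd 65900 = n126055 := ndS (p := 35792) (l := 5) rfl N35792 D126055
theorem N65901 : nd 65901 = n126085 := ndS (p := 35793) (l := 5) rfl N35793 D126085
theorem N65902 : nd 65902 = n126087 := ndS (p := 35794) (l := 4) rfl N35794 D126087
theorem N65903 : nd 65903 = n126088 := ndS (p := 35794) (l := 6) rfl N35794 D126088
theorem N65904 : nd 65904 = n126113 := ndS (p := 35795) (l := 6) rfl N35795 D126113
theorem N65905 : nd 65905 = n126114 := ndS (p := 35797) (l := 5) rfl N35797 D126114
theorem N65906 : nd 65906 = n126128 := ndS (p := 35799) (l := 0) rfl N35799 D126128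
theorem N65907 : nd 65907 = n126129 := ndS (p := 35799) (l := 1) rfl N35799 D126129
theorem N65908 : nd 65908 = n126130 := ndS (p := 35799) (l := 5) rfl N35799 D126130
theorem N65909 : nd 65909 = n126133 := ndS (p := 35800) (l := 4) rfl N35800 D126133
theorem N65910 : nd 65910 = n126138 := ndS (p := 35801) (l := 4) rfl N35801 D126138
theorem N65911 : nd 65911 = n126143 := ndS (p := 35802) (l := 4) rfl N35802 D126143
theorem N65912 : nd 65912 = n126154 := ndS (p := 35806) (l := 4) rfl N35806 D126154
theorem N65913 : nd 65913 = n126155 := ndS (p := 35806) (l := 6) rfl N35806 D126155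
theorem N65914 : nd 65914 = n126156 := ndS (p := 35807) (l := 3) rfl N35807 D126156
theorem N65915 : nd 65915 = n126157 := ndS (p := 35807) (l := 4) rfl N35807 D126157
theorem N65916 : nd 65916 = n126158 := ndS (p := 35807) (l := 6) rfl N35807 D126158
theorem N65917 : nd 65917 = n126159 := ndS (p := 35808) (l := 6) rfl N35808 D126159
theorem N65918 : nd 65918 = n126161 := ndS (p := 35809) (l := 1) rfl N35809 D126161
theorem N65919 : nd 65919 = n126162 := ndS (p := 35809) (l := 5) rfl N35809 D126162
theorem N65920 : nd 65920 = n126163 := ndS (p := 35809) (l := 7) rfl N35809 D126163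
theorem N65921 : nd 65921 = n126164 := ndS (p := 35810) (l := 0) rfl N35810 D126164
theorem N65922 : nd 65922 = n126165 := ndS (p := 35810) (l := 1) rfl N35810 D126165
theorem N65923 : nd 65923 = n126167 := ndS (p := 35810) (l := 7) rfl N35810 D126167
theorem N65924 : nd 65924 = n126168 := ndS (p := 35812) (l := 6) rfl N35812 D126168
theorem N65925 : nd 65925 = n126169 := ndS (p := 35816) (l := 5) rfl N35816 D126169
theorem N65926 : nd 65926 = n126170 := ndS (p := 35817) (l := 3) rfl N35817 D126170
theorem N65927 : nd 65927 = n126171 := ndS (p := 35817) (l := 5) rfl N35817 D126171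
theorem N65928 : nd 65928 = n126172 := ndS (p := 35817) (l := 6) rfl N35817 D126172
theorem N65929 : nd 65929 = n126173 := ndS (p := 35820) (l := 3) rfl N35820 D126173
theorem N65930 : nd 65930 = n126175 := ndS (p := 35821) (l := 4) rfl N35821 D126175
theorem N65931 : nd 65931 = n126176 := ndS (p := 35822) (l := 5) rfl N35822 D126176
theorem N65932 : nd 65932 = n126177 := ndS (p := 35822) (l := 6) rfl N35822 D126177
theorem N65933 : nd 65933 = n126178 := ndS (p := 35823) (l := 4) rfl N35823 D126178
theorem N65934 : nd 65934 = n126179 := ndS (p := 35825) (l := 3) rfl N35825 D126179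
theorem N65935 : nd 65935 = n126180 := ndS (p := 35825) (l := 5) rfl N35825 D126180
theorem N65936 : nd 65936 = n126181 := ndS (p := 35826) (l := 1) rfl N35826 D126181
theorem N65937 : nd 65937 = n126182 := ndS (p := 35826) (l := 7) rfl N35826 D126182
theorem N65938 : nd 65938 = n126183 := ndS (p := 35827) (l := 6) rfl N35827 D126183
theorem N65939 : nd 65939 = n126184 := ndS (p := 35828) (l := 5) rfl N35828 D126184
theorem N65940 : nd 65940 = n126185 := ndS (p := 35829) (l := 6) rfl N35829 D126185
theorem N65941 : nd 65941 = n126186 := ndS (p := 35832) (l := 5) rfl N35832 D126186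
theorem N65942 : nd 65942 = n126188 := ndS (p := 35834) (l := 3) rfl N35834 D126188
theorem N65943 : nd 65943 = n126189 := ndS (p := 35834) (l := 5) rfl N35834 D126189
theorem N65944 : nd 65944 = n126191 := ndS (p := 35835) (l := 4) rfl N35835 D126191
theorem N65945 : nd 65945 = n126192 := ndS (p := 35835) (l := 5) rfl N35835 D126192
theorem N65946 : nd 65946 = n126193 := ndS (p := 35835) (l := 6) rfl N35835 D126193
theorem N65947 : nd 65947 = n126195 := ndS (p := 35836) (l := 3) rfl N35836 D126195
theorem N65948 : nd 65948 = n126196 := ndS (p := 35836) (l := 4) rfl N35836 D126196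
theorem N65949 : nd 65949 = n126197 := ndS (p := 35836) (l := 5) rfl N35836 D126197
theorem N65950 : nd 65950 = n126199 := ndS (p := 35837) (l := 4) rfl N35837 D126199
theorem N65951 : nd 65951 = n126200 := ndS (p := 35837) (l := 5) rfl N35837 D126200
theorem N65952 : nd 65952 = n126201 := ndS (p := 35837) (l := 6) rfl N35837 D126201
theorem N65953 : nd 65953 = n126202 := ndS (p := 35838) (l := 1) rfl N35838 D126202
theorem N65954 : nd 65954 = n126203 := ndS (p := 35838) (l := 5) rfl N35838 D126203
theorem N65955 : nd 65955 = n126207 := ndS (p := 35839) (l := 6) rfl N35839 D126207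
theorem N65956 : nd 65956 = n126208 := ndS (p := 35840) (l := 0) rfl N35840 D126208
theorem N65957 : nd 65957 = n126209 := ndS (p := 35840) (l := 1) rfl N35840 D126209
theorem N65958 : nd 65958 = n126210 := ndS (p := 35840) (l := 5) rfl N35840 D126210
theorem N65959 : nd 65959 = n126211 := ndS (p := 35840) (l := 7) rfl N35840 D126211
theorem N65960 : nd 65960 = n126212 := ndS (p := 35841) (l := 5) rfl N35841 D126212
theorem N65961 : nd 65961 = n126213 := ndS (p := 35841) (l := 7) rfl N35841 D126213
theorem N65962 : nd 65962 = n126214 := ndS (p := 35842) (l := 1) rfl N35842 D126214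
theorem N65963 : nd 65963 = n126215 := ndS (p := 35842) (l := 4) rfl N35842 D126215
theorem N65964 : nd 65964 = n126216 := ndS (p := 35842) (l := 7) rfl N35842 D126216
theorem N65965 : nd 65965 = n126218 := ndS (p := 35844) (l := 3) rfl N35844 D126218
theorem N65966 : nd 65966 = n126219 := ndS (p := 35844) (l := 5) rfl N35844 D126219
theorem N65967 : nd 65967 = n126222 := ndS (p := 35845) (l := 3) rfl N35845 D126222
theorem N65968 : nd 65968 = n126223 := ndS (p := 35845) (l := 5) rfl N35845 D126223
theorem N65969 : nd 65969 = n126224 := ndS (p := 35845) (l := 6) rfl N35845 D126224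
theorem N65970 : nd 65970 = n126225 := ndS (p := 35846) (l := 5) rfl N35846 D126225
theorem N65971 : nd 65971 = n126226 := ndS (p := 35846) (l := 6) rfl N35846 D126226
theorem N65972 : nd 65972 = n126229 := ndS (p := 35847) (l := 4) rfl N35847 D126229
theorem N65973 : nd 65973 = n126231 := ndS (p := 35848) (l := 0) rfl N35848 D126231
theorem N65974 : nd 65974 = n126232 := ndS (p := 35848) (l := 1) rfl N35848 D126232
theorem N65975 : nd 65975 = n126233 := ndS (p := 35848) (l := 5) rfl N35848 D126233
theorem N65976 : nd 65976 = n126234 := ndS (p := 35848) (l := 7) rfl N35848 D126234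
theorem N65977 : nd 65977 = n126237 := ndS (p := 35849) (l := 5) rfl N35849 D126237
theorem N65978 : nd 65978 = n126238 := ndS (p := 35849) (l := 7) rfl N35849 D126238
theorem N65979 : nd 65979 = n126240 := ndS (p := 35850) (l := 7) rfl N35850 D126240
theorem N65980 : nd 65980 = n126242 := ndS (p := 35852) (l := 1) rfl N35852 D126242
theorem N65981 : nd 65981 = n126243 := ndS (p := 35852) (l := 2) rfl N35852 D126243
theorem N65982 : nd 65982 = n126245 := ndS (p := 35852) (l := 6) rfl N35852 D126245
theorem N65983 : nd 65983 = n126246 := ndS (p := 35853) (l := 0) rfl N35853 D126246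
theorem N65984 : nd 65984 = n126247 := ndS (p := 35853) (l := 4) rfl N35853 D126247
theorem N65985 : nd 65985 = n126248 := ndS (p := 35853) (l := 6) rfl N35853 D126248
theorem N65986 : nd 65986 = n126251 := ndS (p := 35854) (l := 5) rfl N35854 D126251
theorem N65987 : nd 65987 = n126254 := ndS (p := 35855) (l := 2) rfl N35855 D126254
theorem N65988 : nd 65988 = n126255 := ndS (p := 35855) (l := 5) rfl N35855 D126255
theorem N65989 : nd 65989 = n126257 := ndS (p := 35856) (l := 4) rfl N35856 D126257
theorem N65990 : nd 65990 = n126258 := ndS (p := 35856) (l := 6) rfl N35856 D126258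
theorem N65991 : nd 65991 = n126263 := ndS (p := 35857) (l := 6) rfl N35857 D126263
theorem N65992 : nd 65992 = n126264 := ndS (p := 35858) (l := 3) rfl N35858 D126264
theorem N65993 : nd 65993 = n126265 := ndS (p := 35858) (l := 4) rfl N35858 D126265
theorem N65994 : nd 65994 = n126266 := ndS (p := 35858) (l := 6) rfl N35858 D126266
theorem N65995 : nd 65995 = n126267 := ndS (p := 35859) (l := 3) rfl N35859 D126267
theorem N65996 : nd 65996 = n126268 := ndS (p := 35859) (l := 4) rfl N35859 D126268
theorem N65997 : nd 65997 = n126269 := ndS (p := 35859) (l := 6) rfl N35859 D126269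
theorem N65998 : nd 65998 = n126270 := ndS (p := 35860) (l := 0) rfl N35860 D126270
theorem N65999 : nd 65999 = n126271 := ndS (p := 35860) (l := 1) rfl N35860 D126271
theorem N66000 : nd 66000 = n126272 := ndS (p := 35860) (l := 6) rfl N35860 D126272
theorem N66001 : nd 66001 = n126275 := ndS (p := 35861) (l := 7) rfl N35861 D126275
theorem N66002 : nd 66002 = n126278 := ndS (p := 35862) (l := 2) rfl N35862 D126278
theorem N66003 : nd 66003 = n126279 := ndS (p := 35862) (l := 4) rfl N35862 D126279
theorem N66004 : nd 66004 = n126280 := ndS (p := 35862) (l := 6) rfl N35862 D126280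
theorem N66005 : nd 66005 = n126284 := ndS (p := 35863) (l := 7) rfl N35863 D126284
theorem N66006 : nd 66006 = n126287 := ndS (p := 35864) (l := 2) rfl N35864 D126287
theorem N66007 : nd 66007 = n126288 := ndS (p := 35864) (l := 6) rfl N35864 D126288
theorem N66008 : nd 66008 = n126291 := ndS (p := 35865) (l := 5) rfl N35865 D126291
theorem N66009 : nd 66009 = n126292 := ndS (p := 35865) (l := 7) rfl N35865 D126292
theorem N66010 : nd 66010 = n126296 := ndS (p := 35866) (l := 5) rfl N35866 D126296
theorem N66011 : nd 66011 = n126297 := ndS (p := 35866) (l := 6) rfl N35866 D126297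
theorem N66012 : nd 66012 = n126299 := ndS (p := 35867) (l := 3) rfl N35867 D126299
theorem N66013 : nd 66013 = n126301 := ndS (p := 35867) (l := 5) rfl N35867 D126301
theorem N66014 : nd 66014 = n126302 := ndS (p := 35867) (l := 6) rfl N35867 D126302
theorem N66015 : nd 66015 = n126303 := ndS (p := 35869) (l := 3) rfl N35869 D126303
theorem N66016 : nd 66016 = n126304 := ndS (p := 35869) (l := 5) rfl N35869 D126304
theorem N66017 : nd 66017 = n126305 := ndS (p := 35869) (l := 6) rfl N35869 D126305
theorem N66018 : nd 66018 = n126308 := ndS (p := 35870) (l := 6) rfl N35870 D126308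
theorem N66019 : nd 66019 = n126309 := ndS (p := 35871) (l := 0) rfl N35871 D126309
theorem N66020 : nd 66020 = n126310 := ndS (p := 35871) (l := 1) rfl N35871 D126310
theorem N66021 : nd 66021 = n126311 := ndS (p := 35871) (l := 4) rfl N35871 D126311
theorem N66022 : nd 66022 = n126312 := ndS (p := 35872) (l := 5) rfl N35872 D126312
theorem N66023 : nd 66023 = n126313 := ndS (p := 35872) (l := 6) rfl N35872 D126313
theorem N66024 : nd 66024 = n126314 := ndS (p := 35873) (l := 4) rfl N35873 D126314
theorem N66025 : nd 66025 = n126315 := ndS (p := 35875) (l := 5) rfl N35875 D126315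
theorem N66026 : nd 66026 = n126316 := ndS (p := 35875) (l := 6) rfl N35875 D126316
theorem N66027 : nd 66027 = n126317 := ndS (p := 35876) (l := 4) rfl N35876 D126317
theorem N66028 : nd 66028 = n126319 := ndS (p := 35878) (l := 5) rfl N35878 D126319
theorem N66029 : nd 66029 = n126324 := ndS (p := 35881) (l := 7) rfl N35881 D126324
theorem N66030 : nd 66030 = n126327 := ndS (p := 35882) (l := 3) rfl N35882 D126327
theorem N66031 : nd 66031 = n126330 := ndS (p := 35883) (l := 1) rfl N35883 D126330
theorem N66032 : nd 66032 = n126333 := ndS (p := 35885) (l := 5) rfl N35885 D126333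
theorem N66033 : nd 66033 = n126334 := ndS (p := 35886) (l := 0) rfl N35886 D126334
theorem N66034 : nd 66034 = n126335 := ndS (p := 35886) (l := 3) rfl N35886 D126335
theorem N66035 : nd 66035 = n126337 := ndS (p := 35887) (l := 4) rfl N35887 D126337
theorem N66036 : nd 66036 = n126339 := ndS (p := 35888) (l := 6) rfl N35888 D126339
theorem N66037 : nd 66037 = n126342 := ndS (p := 35889) (l := 6) rfl N35889 D126342
theorem N66038 : nd 66038 = n126343 := ndS (p := 35890) (l := 4) rfl N35890 D126343
theorem N66039 : nd 66039 = n126344 := ndS (p := 35892) (l := 5) rfl N35892 D126344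
theorem N66040 : nd 66040 = n126345 := ndS (p := 35893) (l := 4) rfl N35893 D126345
theorem N66041 : nd 66041 = n126346 := ndS (p := 35894) (l := 3) rfl N35894 D126346
theorem N66042 : nd 66042 = n126347 := ndS (p := 35895) (l := 0) rfl N35895 D126347
theorem N66043 : nd 66043 = n126348 := ndS (p := 35895) (l := 1) rfl N35895 D126348
theorem N66044 : nd 66044 = n126364 := ndS (p := 35897) (l := 6) rfl N35897 D126364
theorem N66045 : nd 66045 = n126365 := ndS (p := 35898) (l := 3) rfl N35898 D126365
theorem N66046 : nd 66046 = n126367 := ndS (p := 35898) (l := 6) rfl N35898 D126367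
theorem N66047 : nd 66047 = n126377 := ndS (p := 35904) (l := 3) rfl N35904 D126377
theorem N66048 : nd 66048 = n126378 := ndS (p := 35904) (l := 5) rfl N35904 D126378
theorem N66049 : nd 66049 = n126379 := ndS (p := 35904) (l := 6) rfl N35904 D126379
theorem N66050 : nd 66050 = n126380 := ndS (p := 35905) (l := 5) rfl N35905 D126380
theorem N66051 : nd 66051 = n126382 := ndS (p := 35906) (l := 5) rfl N35906 D126382
theorem N66052 : nd 66052 = n126383 := ndS (p := 35906) (l := 6) rfl N35906 D126383
theorem N66053 : nd 66053 = n126384 := ndS (p := 35907) (l := 0) rfl N35907 D126384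
theorem N66054 : nd 66054 = n126385 := ndS (p := 35907) (l := 1) rfl N35907 D126385
theorem N66055 : nd 66055 = n126386 := ndS (p := 35907) (l := 4) rfl N35907 D126386
theorem N66056 : nd 66056 = n126387 := ndS (p := 35907) (l := 6) rfl N35907 D126387
theorem N66057 : nd 66057 = n126390 := ndS (p := 35908) (l := 5) rfl N35908 D126390
theorem N66058 : nd 66058 = n126392 := ndS (p := 35909) (l := 3) rfl N35909 D126392
theorem N66059 : nd 66059 = n126393 := ndS (p := 35909) (l := 5) rfl N35909 D126393
theorem N66060 : nd 66060 = n126418 := ndS (p := 35911) (l := 4) rfl N35911 D126418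
theorem N66061 : nd 66061 = n126419 := ndS (p := 35911) (l := 6) rfl N35911 D126419
theorem N66062 : nd 66062 = n126424 := ndS (p := 35912) (l := 5) rfl N35912 D126424
theorem N66063 : nd 66063 = n126447 := ndS (p := 35916) (l := 6) rfl N35916 D126447
theorem N66064 : nd 66064 = n126452 := ndS (p := 35921) (l := 7) rfl N35921 D126452
theorem N66065 : nd 66065 = n126453 := ndS (p := 35922) (l := 0) rfl N35922 D126453
theorem N66066 : nd 66066 = n126454 := ndS (p := 35922) (l := 1) rfl N35922 D126454
theorem N66067 : nd 66067 = n126455 := ndS (p := 35922) (l := 7) rfl N35922 D126455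
theorem N66068 : nd 66068 = n126456 := ndS (p := 35923) (l := 1) rfl N35923 D126456
theorem N66069 : nd 66069 = n126457 := ndS (p := 35923) (l := 7) rfl N35923 D126457
theorem N66070 : nd 66070 = n126458 := ndS (p := 35924) (l := 0) rfl N35924 D126458
theorem N66071 : nd 66071 = n126459 := ndS (p := 35924) (l := 1) rfl N35924 D126459
theorem N66072 : nd 66072 = n126462 := ndS (p := 35925) (l := 6) rfl N35925 D126462
theorem N66073 : nd 66073 = n126464 := ndS (p := 35927) (l := 3) rfl N35927 D126464
theorem N66074 : nd 66074 = n126465 := ndS (p := 35927) (l := 6) rfl N35927 D126465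
theorem N66075 : nd 66075 = n126466 := ndS (p := 35928) (l := 1) rfl N35928 D126466
theorem N66076 : nd 66076 = n126467 := ndS (p := 35928) (l := 7) rfl N35928 D126467
theorem N66077 : nd 66077 = n126469 := ndS (p := 35929) (l := 7) rfl N35929 D126469
theorem N66078 : nd 66078 = n126470 := ndS (p := 35930) (l := 1) rfl N35930 D126470
theorem N66079 : nd 66079 = n126471 := ndS (p := 35930) (l := 2) rfl N35930 D126471
theorem N66080 : nd 66080 = n126472 := ndS (p := 35931) (l := 6) rfl N35931 D126472
theorem N66081 : nd 66081 = n126473 := ndS (p := 35933) (l := 0) rfl N35933 D126473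
theorem N66082 : nd 66082 = n126474 := ndS (p := 35933) (l := 1) rfl N35933 D126474
theorem N66083 : nd 66083 = n126475 := ndS (p := 35933) (l := 2) rfl N35933 D126475
theorem N66084 : nd 66084 = n126476 := ndS (p := 35933) (l := 5) rfl N35933 D126476
theorem N66085 : nd 66085 = n126477 := ndS (p := 35933) (l := 6) rfl N35933 D126477
theorem N66086 : nd 66086 = n126478 := ndS (p := 35934) (l := 6) rfl N35934 D126478
theorem N66087 : nd 66087 = n126479 := ndS (p := 35935) (l := 0) rfl N35935 D126479
theorem N66088 : nd 66088 = n126480 := ndS (p := 35935) (l := 1) rfl N35935 D126480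
theorem N66089 : nd 66089 = n126481 := ndS (p := 35935) (l := 5) rfl N35935 D126481
theorem N66090 : nd 66090 = n126482 := ndS (p := 35935) (l := 7) rfl N35935 D126482
theorem N66091 : nd 66091 = n126483 := ndS (p := 35937) (l := 0) rfl N35937 D126483
theorem N66092 : nd 66092 = n126484 := ndS (p := 35937) (l := 1) rfl N35937 D126484
theorem N66093 : nd 66093 = n126485 := ndS (p := 35937) (l := 2) rfl N35937 D126485
theorem N66094 : nd 66094 = n126486 := ndS (p := 35937) (l := 5) rfl N35937 D126486
theorem N66095 : nd 66095 = n126487 := ndS (p := 35937) (l := 6) rfl N35937 D126487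
theorem N66096 : nd 66096 = n126488 := ndS (p := 35938) (l := 6) rfl N35938 D126488
theorem N66097 : nd 66097 = n126489 := ndS (p := 35939) (l := 0) rfl N35939 D126489
theorem N66098 : nd 66098 = n126490 := ndS (p := 35939) (l := 1) rfl N35939 D126490
theorem N66099 : nd 66099 = n126491 := ndS (p := 35939) (l := 5) rfl N35939 D126491
theorem N66100 : nd 66100 = n126492 := ndS (p := 35939) (l := 7) rfl N35939 D126492
theorem N66101 : nd 66101 = n126493 := ndS (p := 35940) (l := 4) rfl N35940 D126493
theorem N66102 : nd 66102 = n126494 := ndS (p := 35940) (l := 5) rfl N35940 D126494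
theorem N66103 : nd 66103 = n126496 := ndS (p := 35941) (l := 4) rfl N35941 D126496
theorem N66104 : nd 66104 = n126497 := ndS (p := 35941) (l := 6) rfl N35941 D126497
theorem N66105 : nd 66105 = n126498 := ndS (p := 35943) (l := 0) rfl N35943 D126498
theorem N66106 : nd 66106 = n126499 := ndS (p := 35943) (l := 1) rfl N35943 D126499
theorem N66107 : nd 66107 = n126500 := ndS (p := 35943) (l := 2) rfl N35943 D126500
theorem N66108 : nd 66108 = n126501 := ndS (p := 35943) (l := 5) rfl N35943 D126501
theorem N66109 : nd 66109 = n126502 := ndS (p := 35943) (l := 6) rfl N35943 D126502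
theorem N66110 : nd 66110 = n126503 := ndS (p := 35944) (l := 6) rfl N35944 D126503
theorem N66111 : nd 66111 = n126504 := ndS (p := 35945) (l := 5) rfl N35945 D126504
theorem N66112 : nd 66112 = n126505 := ndS (p := 35945) (l := 7) rfl N35945 D126505
theorem N66113 : nd 66113 = n126506 := ndS (p := 35946) (l := 0) rfl N35946 D126506
theorem N66114 : nd 66114 = n126507 := ndS (p := 35946) (l := 1) rfl N35946 D126507
theorem N66115 : nd 66115 = n126508 := ndS (p := 35946) (l := 2) rfl N35946 D126508
theorem N66116 : nd 66116 = n126510 := ndS (p := 35946) (l := 6) rfl N35946 D126510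
theorem N66117 : nd 66117 = n126512 := ndS (p := 35948) (l := 5) rfl N35948 D126512
theorem N66118 : nd 66118 = n126513 := ndS (p := 35948) (l := 7) rfl N35948 D126513
theorem N66119 : nd 66119 = n126514 := ndS (p := 35949) (l := 0) rfl N35949 D126514
theorem N66120 : nd 66120 = n126515 := ndS (p := 35949) (l := 2) rfl N35949 D126515
theorem N66121 : nd 66121 = n126516 := ndS (p := 35949) (l := 4) rfl N35949 D126516
theorem N66122 : nd 66122 = n126517 := ndS (p := 35949) (l := 6) rfl N35949 D126517
theorem N66123 : nd 66123 = n126518 := ndS (p := 35949) (l := 7) rfl N35949 D126518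
theorem N66124 : nd 66124 = n126519 := ndS (p := 35950) (l := 3) rfl N35950 D126519
theorem N66125 : nd 66125 = n126520 := ndS (p := 35950) (l := 4) rfl N35950 D126520
theorem N66126 : nd 66126 = n126521 := ndS (p := 35950) (l := 5) rfl N35950 D126521
theorem N66127 : nd 66127 = n126522 := ndS (p := 35950) (l := 6) rfl N35950 D126522
theorem N66128 : nd 66128 = n126524 := ndS (p := 35952) (l := 4) rfl N35952 D126524
theorem N66129 : nd 66129 = n126525 := ndS (p := 35952) (l := 6) rfl N35952 D126525
theorem N66130 : nd 66130 = n126526 := ndS (p := 35953) (l := 6) rfl N35953 D126526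
theorem N66131 : nd 66131 = n126527 := ndS (p := 35954) (l := 3) rfl N35954 D126527
theorem N66132 : nd 66132 = n126528 := ndS (p := 35954) (l := 6) rfl N35954 D126528
theorem N66133 : nd 66133 = n126529 := ndS (p := 35955) (l := 6) rfl N35955 D126529
theorem N66134 : nd 66134 = n126530 := ndS (p := 35956) (l := 3) rfl N35956 D126530
theorem N66135 : nd 66135 = n126531 := ndS (p := 35956) (l := 6) rfl N35956 D126531
theorem N66136 : nd 66136 = n126534 := ndS (p := 35957) (l := 7) rfl N35957 D126534
theorem N66137 : nd 66137 = n126535 := ndS (p := 35958) (l := 6) rfl N35958 D126535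
theorem N66138 : nd 66138 = n126536 := ndS (p := 35959) (l := 0) rfl N35959 D126536
theorem N66139 : nd 66139 = n126537 := ndS (p := 35959) (l := 1) rfl N35959 D126537
theorem N66140 : nd 66140 = n126538 := ndS (p := 35959) (l := 5) rfl N35959 D126538
theorem N66141 : nd 66141 = n126539 := ndS (p := 35960) (l := 4) rfl N35960 D126539
theorem N66142 : nd 66142 = n126540 := ndS (p := 35960) (l := 5) rfl N35960 D126540
theorem N66143 : nd 66143 = n126541 := ndS (p := 35960) (l := 6) rfl N35960 D126541
theorem N66144 : nd 66144 = n126542 := ndS (p := 35961) (l := 3) rfl N35961 D126542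
theorem N66145 : nd 66145 = n126543 := ndS (p := 35961) (l := 6) rfl N35961 D126543
theorem N66146 : nd 66146 = n126544 := ndS (p := 35962) (l := 7) rfl N35962 D126544
theorem N66147 : nd 66147 = n126545 := ndS (p := 35963) (l := 1) rfl N35963 D126545
theorem N66148 : nd 66148 = n126546 := ndS (p := 35963) (l := 7) rfl N35963 D126546
theorem N66149 : nd 66149 = n126547 := ndS (p := 35964) (l := 0) rfl N35964 D126547
theorem N66150 : nd 66150 = n126548 := ndS (p := 35964) (l := 1) rfl N35964 D126548
theorem N66151 : nd 66151 = n126549 := ndS (p := 35964) (l := 2) rfl N35964 D126549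
theorem N66152 : nd 66152 = n126552 := ndS (p := 35966) (l := 1) rfl N35966 D126552
theorem N66153 : nd 66153 = n126553 := ndS (p := 35967) (l := 0) rfl N35967 D126553
theorem N66154 : nd 66154 = n126554 := ndS (p := 35967) (l := 1) rfl N35967 D126554
theorem N66155 : nd 66155 = n126555 := ndS (p := 35967) (l := 2) rfl N35967 D126555
theorem N66156 : nd 66156 = n126556 := ndS (p := 35967) (l := 5) rfl N35967 D126556
theorem N66157 : nd 66157 = n126557 := ndS (p := 35967) (l := 6) rfl N35967 D126557
theorem N66158 : nd 66158 = n126558 := ndS (p := 35968) (l := 6) rfl N35968 D126558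
theorem N66159 : nd 66159 = n126559 := ndS (p := 35969) (l := 0) rfl N35969 D126559
theorem N66160 : nd 66160 = n126560 := ndS (p := 35969) (l := 5) rfl N35969 D126560
theorem N66161 : nd 66161 = n126561 := ndS (p := 35969) (l := 7) rfl N35969 D126561
theorem N66162 : nd 66162 = n126562 := ndS (p := 35970) (l := 4) rfl N35970 D126562
theorem N66163 : nd 66163 = n126563 := ndS (p := 35972) (l := 0) rfl N35972 D126563
theorem N66164 : nd 66164 = n126564 := ndS (p := 35972) (l := 1) rfl N35972 D126564
theorem N66165 : nd 66165 = n126565 := ndS (p := 35972) (l := 2) rfl N35972 D126565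
theorem N66166 : nd 66166 = n126566 := ndS (p := 35972) (l := 5) rfl N35972 D126566
theorem N66167 : nd 66167 = n126567 := ndS (p := 35972) (l := 6) rfl N35972 D126567
theorem N66168 : nd 66168 = n126568 := ndS (p := 35973) (l := 6) rfl N35973 D126568
theorem N66169 : nd 66169 = n126569 := ndS (p := 35974) (l := 0) rfl N35974 D126569
theorem N66170 : nd 66170 = n126570 := ndS (p := 35974) (l := 1) rfl N35974 D126570
theorem N66171 : nd 66171 = n126571 := ndS (p := 35974) (l := 5) rfl N35974 D126571
theorem N66172 : nd 66172 = n126572 := ndS (p := 35974) (l := 7) rfl N35974 D126572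
theorem N66173 : nd 66173 = n126573 := ndS (p := 35975) (l := 4) rfl N35975 D126573
theorem N66174 : nd 66174 = n126574 := ndS (p := 35975) (l := 6) rfl N35975 D126574
theorem N66175 : nd 66175 = n126575 := ndS (p := 35976) (l := 4) rfl N35976 D126575
theorem N66176 : nd 66176 = n126576 := ndS (p := 35978) (l := 0) rfl N35978 D126576
theorem N66177 : nd 66177 = n126577 := ndS (p := 35978) (l := 2) rfl N35978 D126577
theorem N66178 : nd 66178 = n126578 := ndS (p := 35978) (l := 5) rfl N35978 D126578
theorem N66179 : nd 66179 = n126579 := ndS (p := 35978) (l := 6) rfl N35978 D126579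
theorem N66180 : nd 66180 = n126580 := ndS (p := 35979) (l := 6) rfl N35979 D126580
theorem N66181 : nd 66181 = n126581 := ndS (p := 35980) (l := 5) rfl N35980 D126581
theorem N66182 : nd 66182 = n126582 := ndS (p := 35980) (l := 7) rfl N35980 D126582
theorem N66183 : nd 66183 = n126583 := ndS (p := 35981) (l := 0) rfl N35981 D126583
theorem N66184 : nd 66184 = n126584 := ndS (p := 35981) (l := 1) rfl N35981 D126584
theorem N66185 : nd 66185 = n126585 := ndS (p := 35981) (l := 2) rfl N35981 D126585
theorem N66186 : nd 66186 = n126586 := ndS (p := 35981) (l := 5) rfl N35981 D126586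
theorem N66187 : nd 66187 = n126587 := ndS (p := 35981) (l := 6) rfl N35981 D126587
theorem N66188 : nd 66188 = n126588 := ndS (p := 35982) (l := 6) rfl N35982 D126588
theorem N66189 : nd 66189 = n126589 := ndS (p := 35983) (l := 5) rfl N35983 D126589
theorem N66190 : nd 66190 = n126590 := ndS (p := 35983) (l := 7) rfl N35983 D126590
theorem N66191 : nd 66191 = n126591 := ndS (p := 35984) (l := 0) rfl N35984 D126591
theorem N66192 : nd 66192 = n126592 := ndS (p := 35984) (l := 2) rfl N35984 D126592
theorem N66193 : nd 66193 = n126593 := ndS (p := 35984) (l := 3) rfl N35984 D126593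
theorem N66194 : nd 66194 = n126594 := ndS (p := 35984) (l := 4) rfl N35984 D126594
theorem N66195 : nd 66195 = n126595 := ndS (p := 35984) (l := 5) rfl N35984 D126595
theorem N66196 : nd 66196 = n126596 := ndS (p := 35984) (l := 6) rfl N35984 D126596
theorem N66197 : nd 66197 = n126597 := ndS (p := 35984) (l := 7) rfl N35984 D126597
theorem N66198 : nd 66198 = n126598 := ndS (p := 35985) (l := 3) rfl N35985 D126598
theorem N66199 : nd 66199 = n126599 := ndS (p := 35985) (l := 4) rfl N35985 D126599
theorem N66200 : nd 66200 = n126600 := ndS (p := 35985) (l := 5) rfl N35985 D126600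
theorem N66201 : nd 66201 = n126601 := ndS (p := 35985) (l := 6) rfl N35985 D126601
theorem N66202 : nd 66202 = n126604 := ndS (p := 35987) (l := 0) rfl N35987 D126604
theorem N66203 : nd 66203 = n126607 := ndS (p := 35988) (l := 6) rfl N35988 D126607
theorem N66204 : nd 66204 = n126608 := ndS (p := 35989) (l := 6) rfl N35989 D126608
theorem N66205 : nd 66205 = n126609 := ndS (p := 35990) (l := 3) rfl N35990 D126609
theorem N66206 : nd 66206 = n126610 := ndS (p := 35990) (l := 6) rfl N35990 D126610
theorem N66207 : nd 66207 = n126611 := ndS (p := 35991) (l := 6) rfl N35991 D126611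
theorem N66208 : nd 66208 = n126612 := ndS (p := 35992) (l := 0) rfl N35992 D126612
theorem N66209 : nd 66209 = n126613 := ndS (p := 35992) (l := 1) rfl N35992 D126613
theorem N66210 : nd 66210 = n126614 := ndS (p := 35992) (l := 7) rfl N35992 D126614
theorem N66211 : nd 66211 = n126615 := ndS (p := 35993) (l := 6) rfl N35993 D126615
theorem N66212 : nd 66212 = n126616 := ndS (p := 35994) (l := 0) rfl N35994 D126616
theorem N66213 : nd 66213 = n126617 := ndS (p := 35994) (l := 1) rfl N35994 D126617
theorem N66214 : nd 66214 = n126618 := ndS (p := 35994) (l := 5) rfl N35994 D126618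
theorem N66215 : nd 66215 = n126619 := ndS (p := 35995) (l := 4) rfl N35995 D126619
theorem N66216 : nd 66216 = n126620 := ndS (p := 35995) (l := 5) rfl N35995 D126620
theorem N66217 : nd 66217 = n126621 := ndS (p := 35995) (l := 6) rfl N35995 D126621
theorem N66218 : nd 66218 = n126622 := ndS (p := 35996) (l := 0) rfl N35996 D126622
theorem N66219 : nd 66219 = n126623 := ndS (p := 35996) (l := 1) rfl N35996 D126623
theorem N66220 : nd 66220 = n126624 := ndS (p := 35996) (l := 2) rfl N35996 D126624
theorem N66221 : nd 66221 = n126625 := ndS (p := 35996) (l := 5) rfl N35996 D126625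
theorem N66222 : nd 66222 = n126627 := ndS (p := 35997) (l := 6) rfl N35997 D126627
theorem N66223 : nd 66223 = n126628 := ndS (p := 35998) (l := 5) rfl N35998 D126628
theorem N66224 : nd 66224 = n126629 := ndS (p := 35999) (l := 0) rfl N35999 D126629
theorem N66225 : nd 66225 = n126630 := ndS (p := 35999) (l := 1) rfl N35999 D126630
theorem N66226 : nd 66226 = n126631 := ndS (p := 35999) (l := 2) rfl N35999 D126631
theorem N66227 : nd 66227 = n126632 := ndS (p := 35999) (l := 5) rfl N35999 D126632
theorem N66228 : nd 66228 = n126633 := ndS (p := 35999) (l := 6) rfl N35999 D126633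
theorem N66229 : nd 66229 = n126634 := ndS (p := 36000) (l := 6) rfl N36000 D126634
theorem N66230 : nd 66230 = n126636 := ndS (p := 36002) (l := 0) rfl N36002 D126636
theorem N66231 : nd 66231 = n126638 := ndS (p := 36002) (l := 2) rfl N36002 D126638
theorem N66232 : nd 66232 = n126639 := ndS (p := 36002) (l := 5) rfl N36002 D126639
theorem N66233 : nd 66233 = n126640 := ndS (p := 36002) (l := 6) rfl N36002 D126640
theorem N66234 : nd 66234 = n126641 := ndS (p := 36003) (l := 6) rfl N36003 D126641
theorem N66235 : nd 66235 = n126643 := ndS (p := 36004) (l := 7) rfl N36004 D126643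
theorem N66236 : nd 66236 = n126644 := ndS (p := 36005) (l := 6) rfl N36005 D126644
theorem N66237 : nd 66237 = n126645 := ndS (p := 36007) (l := 6) rfl N36007 D126645
theorem N66238 : nd 66238 = n126646 := ndS (p := 36008) (l := 0) rfl N36008 D126646
theorem N66239 : nd 66239 = n126647 := ndS (p := 36008) (l := 5) rfl N36008 D126647
theorem N66240 : nd 66240 = n126648 := ndS (p := 36008) (l := 7) rfl N36008 D126648
theorem N66241 : nd 66241 = n126649 := ndS (p := 36009) (l := 4) rfl N36009 D126649
theorem N66242 : nd 66242 = n126650 := ndS (p := 36011) (l := 0) rfl N36011 D126650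
theorem N66243 : nd 66243 = n126651 := ndS (p := 36011) (l := 1) rfl N36011 D126651
theorem N66244 : nd 66244 = n126652 := ndS (p := 36011) (l := 2) rfl N36011 D126652
theorem N66245 : nd 66245 = n126653 := ndS (p := 36011) (l := 5) rfl N36011 D126653
theorem N66246 : nd 66246 = n126654 := ndS (p := 36011) (l := 6) rfl N36011 D126654
theorem N66247 : nd 66247 = n126657 := ndS (p := 36013) (l := 7) rfl N36013 D126657
theorem N66248 : nd 66248 = n126658 := ndS (p := 36014) (l := 0) rfl N36014 D126658
theorem N66249 : nd 66249 = n126659 := ndS (p := 36014) (l := 2) rfl N36014 D126659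
theorem N66250 : nd 66250 = n126660 := ndS (p := 36014) (l := 4) rfl N36014 D126660
theorem N66251 : nd 66251 = n126662 := ndS (p := 36014) (l := 6) rfl N36014 D126662
theorem N66252 : nd 66252 = n126663 := ndS (p := 36014) (l := 7) rfl N36014 D126663
theorem N66253 : nd 66253 = n126664 := ndS (p := 36015) (l := 3) rfl N36015 D126664
theorem N66254 : nd 66254 = n126665 := ndS (p := 36015) (l := 4) rfl N36015 D126665
theorem N66255 : nd 66255 = n126667 := ndS (p := 36015) (l := 6) rfl N36015 D126667
theorem N66256 : nd 66256 = n126670 := ndS (p := 36016) (l := 5) rfl N36016 D126670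
theorem N66257 : nd 66257 = n126672 := ndS (p := 36017) (l := 1) rfl N36017 D126672
theorem N66258 : nd 66258 = n126673 := ndS (p := 36017) (l := 4) rfl N36017 D126673
theorem N66259 : nd 66259 = n126674 := ndS (p := 36017) (l := 6) rfl N36017 D126674
theorem N66260 : nd 66260 = n126675 := ndS (p := 36018) (l := 6) rfl N36018 D126675
theorem N66261 : nd 66261 = n126676 := ndS (p := 36019) (l := 3) rfl N36019 D126676
theorem N66262 : nd 66262 = n126682 := ndS (p := 36022) (l := 1) rfl N36022 D126682
theorem N66263 : nd 66263 = n126683 := ndS (p := 36022) (l := 7) rfl N36022 D126683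
theorem N66264 : nd 66264 = n126684 := ndS (p := 36023) (l := 0) rfl N36023 D126684
theorem N66265 : nd 66265 = n126685 := ndS (p := 36023) (l := 1) rfl N36023 D126685
theorem N66266 : nd 66266 = n126686 := ndS (p := 36023) (l := 2) rfl N36023 D126686
theorem N66267 : nd 66267 = n126687 := ndS (p := 36023) (l := 6) rfl N36023 D126687
theorem N66268 : nd 66268 = n126688 := ndS (p := 36024) (l := 5) rfl N36024 D126688
theorem N66269 : nd 66269 = n126689 := ndS (p := 36026) (l := 6) rfl N36026 D126689
theorem N66270 : nd 66270 = n126690 := ndS (p := 36029) (l := 1) rfl N36029 D126690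
theorem N66271 : nd 66271 = n126691 := ndS (p := 36029) (l := 7) rfl N36029 D126691
theorem N66272 : nd 66272 = n126692 := ndS (p := 36030) (l := 0) rfl N36030 D126692
theorem N66273 : nd 66273 = n126693 := ndS (p := 36030) (l := 1) rfl N36030 D126693
theorem N66274 : nd 66274 = n126694 := ndS (p := 36030) (l := 2) rfl N36030 D126694
theorem N66275 : nd 66275 = n126695 := ndS (p := 36030) (l := 6) rfl N36030 D126695
theorem N66276 : nd 66276 = n126696 := ndS (p := 36031) (l := 5) rfl N36031 D126696
theorem N66277 : nd 66277 = n126697 := ndS (p := 36033) (l := 0) rfl N36033 D126697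
theorem N66278 : nd 66278 = n126698 := ndS (p := 36033) (l := 7) rfl N36033 D126698
theorem N66279 : nd 66279 = n126699 := ndS (p := 36035) (l := 0) rfl N36035 D126699
theorem N66280 : nd 66280 = n126700 := ndS (p := 36035) (l := 1) rfl N36035 D126700
theorem N66281 : nd 66281 = n126701 := ndS (p := 36035) (l := 2) rfl N36035 D126701
theorem N66282 : nd 66282 = n126702 := ndS (p := 36035) (l := 5) rfl N36035 D126702
theorem N66283 : nd 66283 = n126703 := ndS (p := 36035) (l := 6) rfl N36035 D126703
theorem N66284 : nd 66284 = n126704 := ndS (p := 36036) (l := 6) rfl N36036 D126704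
theorem N66285 : nd 66285 = n126705 := ndS (p := 36037) (l := 0) rfl N36037 D126705
theorem N66286 : nd 66286 = n126706 := ndS (p := 36037) (l := 1) rfl N36037 D126706
theorem N66287 : nd 66287 = n126707 := ndS (p := 36037) (l := 5) rfl N36037 D126707
theorem N66288 : nd 66288 = n126708 := ndS (p := 36037) (l := 7) rfl N36037 D126708
theorem N66289 : nd 66289 = n126710 := ndS (p := 36039) (l := 4) rfl N36039 D126710
theorem N66290 : nd 66290 = n126711 := ndS (p := 36041) (l := 0) rfl N36041 D126711
theorem N66291 : nd 66291 = n126712 := ndS (p := 36041) (l := 1) rfl N36041 D126712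
theorem N66292 : nd 66292 = n126713 := ndS (p := 36041) (l := 2) rfl N36041 D126713
theorem N66293 : nd 66293 = n126714 := ndS (p := 36041) (l := 5) rfl N36041 D126714
theorem N66294 : nd 66294 = n126715 := ndS (p := 36041) (l := 6) rfl N36041 D126715
theorem N66295 : nd 66295 = n126716 := ndS (p := 36042) (l := 6) rfl N36042 D126716
theorem N66296 : nd 66296 = n126717 := ndS (p := 36043) (l := 5) rfl N36043 D126717
theorem N66297 : nd 66297 = n126718 := ndS (p := 36043) (l := 7) rfl N36043 D126718
theorem N66298 : nd 66298 = n126719 := ndS (p := 36044) (l := 0) rfl N36044 D126719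
theorem N66299 : nd 66299 = n126720 := ndS (p := 36044) (l := 1) rfl N36044 D126720
theorem N66300 : nd 66300 = n126727 := ndS (p := 36047) (l := 3) rfl N36047 D126727
theorem N66301 : nd 66301 = n126728 := ndS (p := 36047) (l := 4) rfl N36047 D126728
theorem N66302 : nd 66302 = n126729 := ndS (p := 36047) (l := 5) rfl N36047 D126729
theorem N66303 : nd 66303 = n126730 := ndS (p := 36047) (l := 6) rfl N36047 D126730
theorem N66304 : nd 66304 = n126731 := ndS (p := 36048) (l := 3) rfl N36048 D126731
theorem N66305 : nd 66305 = n126732 := ndS (p := 36048) (l := 4) rfl N36048 D126732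
theorem N66306 : nd 66306 = n126733 := ndS (p := 36048) (l := 5) rfl N36048 D126733
theorem N66307 : nd 66307 = n126734 := ndS (p := 36048) (l := 6) rfl N36048 D126734
theorem N66308 : nd 66308 = n126735 := ndS (p := 36049) (l := 5) rfl N36049 D126735
theorem N66309 : nd 66309 = n126736 := ndS (p := 36049) (l := 6) rfl N36049 D126736
theorem N66310 : nd 66310 = n126737 := ndS (p := 36050) (l := 0) rfl N36050 D126737
theorem N66311 : nd 66311 = n126738 := ndS (p := 36050) (l := 1) rfl N36050 D126738
theorem N66312 : nd 66312 = n126739 := ndS (p := 36050) (l := 4) rfl N36050 D126739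
theorem N66313 : nd 66313 = n126740 := ndS (p := 36050) (l := 6) rfl N36050 D126740
theorem N66314 : nd 66314 = n126741 := ndS (p := 36051) (l := 0) rfl N36051 D126741
theorem N66315 : nd 66315 = n126742 := ndS (p := 36051) (l := 1) rfl N36051 D126742
theorem N66316 : nd 66316 = n126743 := ndS (p := 36051) (l := 5) rfl N36051 D126743
theorem N66317 : nd 66317 = n126744 := ndS (p := 36051) (l := 7) rfl N36051 D126744
theorem N66318 : nd 66318 = n126745 := ndS (p := 36052) (l := 3) rfl N36052 D126745
theorem N66319 : nd 66319 = n126746 := ndS (p := 36052) (l := 6) rfl N36052 D126746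
theorem N66320 : nd 66320 = n126747 := ndS (p := 36053) (l := 0) rfl N36053 D126747
theorem N66321 : nd 66321 = n126748 := ndS (p := 36053) (l := 1) rfl N36053 D126748
theorem N66322 : nd 66322 = n126749 := ndS (p := 36053) (l := 5) rfl N36053 D126749
theorem N66323 : nd 66323 = n126750 := ndS (p := 36053) (l := 7) rfl N36053 D126750
theorem N66324 : nd 66324 = n126751 := ndS (p := 36054) (l := 3) rfl N36054 D126751
theorem N66325 : nd 66325 = n126752 := ndS (p := 36054) (l := 5) rfl N36054 D126752
theorem N66326 : nd 66326 = n126753 := ndS (p := 36055) (l := 3) rfl N36055 D126753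
theorem N66327 : nd 66327 = n126754 := ndS (p := 36055) (l := 5) rfl N36055 D126754
theorem N66328 : nd 66328 = n126755 := ndS (p := 36055) (l := 6) rfl N36055 D126755
theorem N66329 : nd 66329 = n126756 := ndS (p := 36056) (l := 0) rfl N36056 D126756
theorem N66330 : nd 66330 = n126757 := ndS (p := 36056) (l := 1) rfl N36056 D126757
theorem N66331 : nd 66331 = n126758 := ndS (p := 36056) (l := 4) rfl N36056 D126758
theorem N66332 : nd 66332 = n126759 := ndS (p := 36056) (l := 7) rfl N36056 D126759
theorem N66333 : nd 66333 = n126762 := ndS (p := 36059) (l := 4) rfl N36059 D126762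
theorem N66334 : nd 66334 = n126763 := ndS (p := 36059) (l := 6) rfl N36059 D126763
theorem N66335 : nd 66335 = n126764 := ndS (p := 36060) (l := 0) rfl N36060 D126764
theorem N66336 : nd 66336 = n126765 := ndS (p := 36060) (l := 1) rfl N36060 D126765
theorem N66337 : nd 66337 = n126766 := ndS (p := 36060) (l := 3) rfl N36060 D126766
theorem N66338 : nd 66338 = n126767 := ndS (p := 36060) (l := 5) rfl N36060 D126767
theorem N66339 : nd 66339 = n126768 := ndS (p := 36060) (l := 7) rfl N36060 D126768
theorem N66340 : nd 66340 = n126769 := ndS (p := 36062) (l := 0) rfl N36062 D126769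
theorem N66341 : nd 66341 = n126770 := ndS (p := 36062) (l := 1) rfl N36062 D126770
theorem N66342 : nd 66342 = n126771 := ndS (p := 36062) (l := 2) rfl N36062 D126771
theorem N66343 : nd 66343 = n126772 := ndS (p := 36063) (l := 6) rfl N36063 D126772
theorem N66344 : nd 66344 = n126773 := ndS (p := 36066) (l := 0) rfl N36066 D126773
theorem N66345 : nd 66345 = n126774 := ndS (p := 36066) (l := 1) rfl N36066 D126774
theorem N66346 : nd 66346 = n126775 := ndS (p := 36066) (l := 2) rfl N36066 D126775
theorem N66347 : nd 66347 = n126776 := ndS (p := 36066) (l := 5) rfl N36066 D126776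
theorem N66348 : nd 66348 = n126780 := ndS (p := 36069) (l := 6) rfl N36069 D126780
theorem N66349 : nd 66349 = n126781 := ndS (p := 36071) (l := 0) rfl N36071 D126781
theorem N66350 : nd 66350 = n126782 := ndS (p := 36071) (l := 1) rfl N36071 D126782
theorem N66351 : nd 66351 = n126783 := ndS (p := 36071) (l := 2) rfl N36071 D126783
theorem N66352 : nd 66352 = n126784 := ndS (p := 36071) (l := 6) rfl N36071 D126784
theorem N66353 : nd 66353 = n126785 := ndS (p := 36072) (l := 5) rfl N36072 D126785
theorem N66354 : nd 66354 = n126786 := ndS (p := 36075) (l := 3) rfl N36075 D126786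
theorem N66355 : nd 66355 = n126787 := ndS (p := 36075) (l := 4) rfl N36075 D126787
theorem N66356 : nd 66356 = n126788 := ndS (p := 36075) (l := 5) rfl N36075 D126788
theorem N66357 : nd 66357 = n126789 := ndS (p := 36075) (l := 6) rfl N36075 D126789
theorem N66358 : nd 66358 = n126793 := ndS (p := 36077) (l := 5) rfl N36077 D126793
theorem N66359 : nd 66359 = n126794 := ndS (p := 36077) (l := 6) rfl N36077 D126794
theorem N66360 : nd 66360 = n126795 := ndS (p := 36078) (l := 0) rfl N36078 D126795
theorem N66361 : nd 66361 = n126796 := ndS (p := 36078) (l := 1) rfl N36078 D126796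
theorem N66362 : nd 66362 = n126798 := ndS (p := 36079) (l := 0) rfl N36079 D126798
theorem N66363 : nd 66363 = n126800 := ndS (p := 36079) (l := 5) rfl N36079 D126800
theorem N66364 : nd 66364 = n126802 := ndS (p := 36080) (l := 0) rfl N36080 D126802
theorem N66365 : nd 66365 = n126803 := ndS (p := 36080) (l := 1) rfl N36080 D126803
theorem N66366 : nd 66366 = n126805 := ndS (p := 36080) (l := 7) rfl N36080 D126805
theorem N66367 : nd 66367 = n126806 := ndS (p := 36081) (l := 3) rfl N36081 D126806
theorem N66368 : nd 66368 = n126807 := ndS (p := 36081) (l := 5) rfl N36081 D126807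
theorem N66369 : nd 66369 = n126808 := ndS (p := 36081) (l := 6) rfl N36081 D126808
theorem N66370 : nd 66370 = n126809 := ndS (p := 36082) (l := 3) rfl N36082 D126809
theorem N66371 : nd 66371 = n126810 := ndS (p := 36082) (l := 5) rfl N36082 D126810
theorem N66372 : nd 66372 = n126811 := ndS (p := 36083) (l := 0) rfl N36083 D126811
theorem N66373 : nd 66373 = n126815 := ndS (p := 36085) (l := 3) rfl N36085 D126815
theorem N66374 : nd 66374 = n126816 := ndS (p := 36085) (l := 5) rfl N36085 D126816
theorem N66375 : nd 66375 = n126818 := ndS (p := 36087) (l := 3) rfl N36087 D126818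
theorem N66376 : nd 66376 = n126819 := ndS (p := 36087) (l := 5) rfl N36087 D126819
theorem N66377 : nd 66377 = n126820 := ndS (p := 36087) (l := 6) rfl N36087 D126820
theorem N66378 : nd 66378 = n126821 := ndS (p := 36090) (l := 0) rfl N36090 D126821
theorem N66379 : nd 66379 = n126822 := ndS (p := 36090) (l := 1) rfl N36090 D126822
theorem N66380 : nd 66380 = n126823 := ndS (p := 36090) (l := 2) rfl N36090 D126823
theorem N66381 : nd 66381 = n126827 := ndS (p := 36092) (l := 3) rfl N36092 D126827
theorem N66382 : nd 66382 = n126828 := ndS (p := 36092) (l := 4) rfl N36092 D126828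
theorem N66383 : nd 66383 = n126830 := ndS (p := 36092) (l := 6) rfl N36092 D126830
theorem N66384 : nd 66384 = n126832 := ndS (p := 36093) (l := 3) rfl N36093 D126832
theorem N66385 : nd 66385 = n126833 := ndS (p := 36093) (l := 4) rfl N36093 D126833
theorem N66386 : nd 66386 = n126836 := ndS (p := 36094) (l := 5) rfl N36094 D126836
theorem N66387 : nd 66387 = n126838 := ndS (p := 36095) (l := 0) rfl N36095 D126838
theorem N66388 : nd 66388 = n126839 := ndS (p := 36095) (l := 1) rfl N36095 D126839
theorem N66389 : nd 66389 = n126840 := ndS (p := 36095) (l := 4) rfl N36095 D126840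
theorem N66390 : nd 66390 = n126846 := ndS (p := 36096) (l := 3) rfl N36096 D126846
theorem N66391 : nd 66391 = n126847 := ndS (p := 36096) (l := 6) rfl N36096 D126847
theorem N66392 : nd 66392 = n126848 := ndS (p := 36097) (l := 3) rfl N36097 D126848
theorem N66393 : nd 66393 = n126849 := ndS (p := 36097) (l := 6) rfl N36097 D126849
theorem N66394 : nd 66394 = n126850 := ndS (p := 36098) (l := 0) rfl N36098 D126850
theorem N66395 : nd 66395 = n126851 := ndS (p := 36098) (l := 1) rfl N36098 D126851
theorem N66396 : nd 66396 = n126853 := ndS (p := 36098) (l := 7) rfl N36098 D126853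
theorem N66397 : nd 66397 = n126854 := ndS (p := 36099) (l := 3) rfl N36099 D126854
theorem N66398 : nd 66398 = n126855 := ndS (p := 36099) (l := 5) rfl N36099 D126855
theorem N66399 : nd 66399 = n126857 := ndS (p := 36100) (l := 5) rfl N36100 D126857
theorem N66400 : nd 66400 = n126863 := ndS (p := 36102) (l := 3) rfl N36102 D126863
theorem N66401 : nd 66401 = n126864 := ndS (p := 36102) (l := 5) rfl N36102 D126864
theorem N66402 : nd 66402 = n126865 := ndS (p := 36103) (l := 0) rfl N36103 D126865
theorem N66403 : nd 66403 = n126866 := ndS (p := 36103) (l := 4) rfl N36103 D126866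
theorem N66404 : nd 66404 = n126868 := ndS (p := 36104) (l := 6) rfl N36104 D126868
theorem N66405 : nd 66405 = n126869 := ndS (p := 36105) (l := 4) rfl N36105 D126869
theorem N66406 : nd 66406 = n126870 := ndS (p := 36107) (l := 1) rfl N36107 D126870
theorem N66407 : nd 66407 = n126871 := ndS (p := 36107) (l := 3) rfl N36107 D126871
theorem N66408 : nd 66408 = n126872 := ndS (p := 36107) (l := 5) rfl N36107 D126872
theorem N66409 : nd 66409 = n126873 := ndS (p := 36108) (l := 0) rfl N36108 D126873
theorem N66410 : nd 66410 = n126874 := ndS (p := 36108) (l := 1) rfl N36108 D126874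
theorem N66411 : nd 66411 = n126875 := ndS (p := 36108) (l := 2) rfl N36108 D126875
theorem N66412 : nd 66412 = n126876 := ndS (p := 36108) (l := 5) rfl N36108 D126876
theorem N66413 : nd 66413 = n126877 := ndS (p := 36108) (l := 6) rfl N36108 D126877
theorem N66414 : nd 66414 = n126878 := ndS (p := 36109) (l := 6) rfl N36109 D126878
theorem N66415 : nd 66415 = n126879 := ndS (p := 36110) (l := 5) rfl N36110 D126879
theorem N66416 : nd 66416 = n126880 := ndS (p := 36111) (l := 6) rfl N36111 D126880
theorem N66417 : nd 66417 = n126881 := ndS (p := 36114) (l := 3) rfl N36114 D126881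
theorem N66418 : nd 66418 = n126882 := ndS (p := 36114) (l := 4) rfl N36114 D126882
theorem N66419 : nd 66419 = n126887 := ndS (p := 36116) (l := 5) rfl N36116 D126887
theorem N66420 : nd 66420 = n126888 := ndS (p := 36116) (l := 6) rfl N36116 D126888
theorem N66421 : nd 66421 = n126889 := ndS (p := 36117) (l := 0) rfl N36117 D126889
theorem N66422 : nd 66422 = n126892 := ndS (p := 36118) (l := 0) rfl N36118 D126892
theorem N66423 : nd 66423 = n126893 := ndS (p := 36118) (l := 1) rfl N36118 D126893
theorem N66424 : nd 66424 = n126895 := ndS (p := 36118) (l := 7) rfl N36118 D126895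
theorem N66425 : nd 66425 = n126897 := ndS (p := 36119) (l := 1) rfl N36119 D126897
theorem N66426 : nd 66426 = n126899 := ndS (p := 36119) (l := 7) rfl N36119 D126899
theorem N66427 : nd 66427 = n126902 := ndS (p := 36120) (l := 6) rfl N36120 D126902
theorem N66428 : nd 66428 = n126903 := ndS (p := 36121) (l := 3) rfl N36121 D126903
theorem N66429 : nd 66429 = n126904 := ndS (p := 36121) (l := 5) rfl N36121 D126904
theorem N66430 : nd 66430 = n126905 := ndS (p := 36122) (l := 0) rfl N36122 D126905
theorem N66431 : nd 66431 = n126906 := ndS (p := 36122) (l := 1) rfl N36122 D126906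
theorem N66432 : nd 66432 = n126907 := ndS (p := 36122) (l := 4) rfl N36122 D126907
theorem N66433 : nd 66433 = n126908 := ndS (p := 36122) (l := 7) rfl N36122 D126908
theorem N66434 : nd 66434 = n126911 := ndS (p := 36126) (l := 3) rfl N36126 D126911
theorem N66435 : nd 66435 = n126912 := ndS (p := 36126) (l := 5) rfl N36126 D126912
theorem N66436 : nd 66436 = n126913 := ndS (p := 36127) (l := 4) rfl N36127 D126913
theorem N66437 : nd 66437 = n126914 := ndS (p := 36127) (l := 6) rfl N36127 D126914
theorem N66438 : nd 66438 = n126915 := ndS (p := 36128) (l := 0) rfl N36128 D126915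
theorem N66439 : nd 66439 = n126916 := ndS (p := 36128) (l := 1) rfl N36128 D126916
theorem N66440 : nd 66440 = n126917 := ndS (p := 36128) (l := 3) rfl N36128 D126917
theorem N66441 : nd 66441 = n126918 := ndS (p := 36128) (l := 5) rfl N36128 D126918
theorem N66442 : nd 66442 = n126919 := ndS (p := 36128) (l := 7) rfl N36128 D126919
theorem N66443 : nd 66443 = n126921 := ndS (p := 36130) (l := 4) rfl N36130 D126921
theorem N66444 : nd 66444 = n126922 := ndS (p := 36130) (l := 5) rfl N36130 D126922
theorem N66445 : nd 66445 = n126923 := ndS (p := 36130) (l := 6) rfl N36130 D126923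
theorem N66446 : nd 66446 = n126925 := ndS (p := 36131) (l := 3) rfl N36131 D126925
theorem N66447 : nd 66447 = n126926 := ndS (p := 36131) (l := 4) rfl N36131 D126926
theorem N66448 : nd 66448 = n126927 := ndS (p := 36131) (l := 5) rfl N36131 D126927
theorem N66449 : nd 66449 = n126929 := ndS (p := 36132) (l := 4) rfl N36132 D126929
theorem N66450 : nd 66450 = n126930 := ndS (p := 36132) (l := 5) rfl N36132 D126930
theorem N66451 : nd 66451 = n126931 := ndS (p := 36132) (l := 6) rfl N36132 D126931
theorem N66452 : nd 66452 = n126932 := ndS (p := 36133) (l := 1) rfl N36133 D126932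
theorem N66453 : nd 66453 = n126933 := ndS (p := 36133) (l := 5) rfl N36133 D126933
theorem N66454 : nd 66454 = n126934 := ndS (p := 36133) (l := 6) rfl N36133 D126934
theorem N66455 : nd 66455 = n126935 := ndS (p := 36134) (l := 0) rfl N36134 D126935
theorem N66456 : nd 66456 = n126936 := ndS (p := 36134) (l := 1) rfl N36134 D126936
theorem N66457 : nd 66457 = n126937 := ndS (p := 36134) (l := 4) rfl N36134 D126937
theorem N66458 : nd 66458 = n126938 := ndS (p := 36134) (l := 6) rfl N36134 D126938
theorem N66459 : nd 66459 = n126940 := ndS (p := 36135) (l := 1) rfl N36135 D126940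
theorem N66460 : nd 66460 = n126942 := ndS (p := 36135) (l := 7) rfl N36135 D126942
theorem N66461 : nd 66461 = n126945 := ndS (p := 36137) (l := 0) rfl N36137 D126945
theorem N66462 : nd 66462 = n126947 := ndS (p := 36137) (l := 5) rfl N36137 D126947
theorem N66463 : nd 66463 = n126948 := ndS (p := 36137) (l := 7) rfl N36137 D126948
theorem N66464 : nd 66464 = n126951 := ndS (p := 36138) (l := 4) rfl N36138 D126951
theorem N66465 : nd 66465 = n126952 := ndS (p := 36138) (l := 7) rfl N36138 D126952
theorem N66466 : nd 66466 = n126953 := ndS (p := 36140) (l := 3) rfl N36140 D126953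
theorem N66467 : nd 66467 = n126955 := ndS (p := 36141) (l := 3) rfl N36141 D126955
theorem N66468 : nd 66468 = n126956 := ndS (p := 36141) (l := 6) rfl N36141 D126956
theorem N66469 : nd 66469 = n126957 := ndS (p := 36142) (l := 5) rfl N36142 D126957
theorem N66470 : nd 66470 = n126959 := ndS (p := 36143) (l := 1) rfl N36143 D126959
theorem N66471 : nd 66471 = n126969 := ndS (p := 36146) (l := 0) rfl N36146 D126969
theorem N66472 : nd 66472 = n126970 := ndS (p := 36146) (l := 1) rfl N36146 D126970
theorem N66473 : nd 66473 = n126971 := ndS (p := 36146) (l := 4) rfl N36146 D126971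
theorem N66474 : nd 66474 = n126972 := ndS (p := 36146) (l := 7) rfl N36146 D126972
theorem N66475 : nd 66475 = n126975 := ndS (p := 36149) (l := 1) rfl N36149 D126975
theorem N66476 : nd 66476 = n126976 := ndS (p := 36149) (l := 2) rfl N36149 D126976
theorem N66477 : nd 66477 = n126978 := ndS (p := 36149) (l := 6) rfl N36149 D126978
theorem N66478 : nd 66478 = n126991 := ndS (p := 36151) (l := 2) rfl N36151 D126991
theorem N66479 : nd 66479 = n126997 := ndS (p := 36152) (l := 1) rfl N36152 D126997
theorem N66480 : nd 66480 = n127004 := ndS (p := 36154) (l := 3) rfl N36154 D127004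
theorem N66481 : nd 66481 = n127007 := ndS (p := 36155) (l := 3) rfl N36155 D127007
theorem N66482 : nd 66482 = n127025 := ndS (p := 36157) (l := 2) rfl N36157 D127025
theorem N66483 : nd 66483 = n127026 := ndS (p := 36157) (l := 4) rfl N36157 D127026
theorem N66484 : nd 66484 = n127027 := ndS (p := 36157) (l := 6) rfl N36157 D127027
theorem N66485 : nd 66485 = n127032 := ndS (p := 36159) (l := 6) rfl N36159 D127032
theorem N66486 : nd 66486 = n127037 := ndS (p := 36161) (l := 0) rfl N36161 D127037
theorem N66487 : nd 66487 = n127038 := ndS (p := 36161) (l := 1) rfl N36161 D127038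
theorem N66488 : nd 66488 = n127039 := ndS (p := 36161) (l := 2) rfl N36161 D127039
theorem N66489 : nd 66489 = n127043 := ndS (p := 36162) (l := 5) rfl N36162 D127043
theorem N66490 : nd 66490 = n127044 := ndS (p := 36162) (l := 7) rfl N36162 D127044
theorem N66491 : nd 66491 = n127051 := ndS (p := 36163) (l := 3) rfl N36163 D127051
theorem N66492 : nd 66492 = n127056 := ndS (p := 36165) (l := 0) rfl N36165 D127056
theorem N66493 : nd 66493 = n127059 := ndS (p := 36166) (l := 3) rfl N36166 D127059
theorem N66494 : nd 66494 = n127061 := ndS (p := 36166) (l := 6) rfl N36166 D127061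
theorem N66495 : nd 66495 = n127062 := ndS (p := 36167) (l := 3) rfl N36167 D127062
theorem N66496 : nd 66496 = n127064 := ndS (p := 36167) (l := 6) rfl N36167 D127064
theorem N66497 : nd 66497 = n127068 := ndS (p := 36168) (l := 5) rfl N36168 D127068
theorem N66498 : nd 66498 = n127069 := ndS (p := 36168) (l := 6) rfl N36168 D127069
theorem N66499 : nd 66499 = n127070 := ndS (p := 36169) (l := 3) rfl N36169 D127070
theorem N66500 : nd 66500 = n127071 := ndS (p := 36169) (l := 5) rfl N36169 D127071
theorem N66501 : nd 66501 = n127072 := ndS (p := 36169) (l := 6) rfl N36169 D127072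
theorem N66502 : nd 66502 = n127073 := ndS (p := 36170) (l := 0) rfl N36170 D127073
theorem N66503 : nd 66503 = n127074 := ndS (p := 36170) (l := 4) rfl N36170 D127074
theorem N66504 : nd 66504 = n127075 := ndS (p := 36172) (l := 5) rfl N36172 D127075
theorem N66505 : nd 66505 = n127076 := ndS (p := 36173) (l := 3) rfl N36173 D127076
theorem N66506 : nd 66506 = n127077 := ndS (p := 36173) (l := 5) rfl N36173 D127077
theorem N66507 : nd 66507 = n127078 := ndS (p := 36174) (l := 4) rfl N36174 D127078
theorem N66508 : nd 66508 = n127079 := ndS (p := 36175) (l := 5) rfl N36175 D127079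
theorem N66509 : nd 66509 = n127080 := ndS (p := 36176) (l := 3) rfl N36176 D127080
theorem N66510 : nd 66510 = n127081 := ndS (p := 36176) (l := 5) rfl N36176 D127081
theorem N66511 : nd 66511 = n127085 := ndS (p := 36178) (l := 3) rfl N36178 D127085
theorem N66512 : nd 66512 = n127086 := ndS (p := 36178) (l := 5) rfl N36178 D127086
theorem N66513 : nd 66513 = n127087 := ndS (p := 36178) (l := 6) rfl N36178 D127087
theorem N66514 : nd 66514 = n127089 := ndS (p := 36180) (l := 3) rfl N36180 D127089
theorem N66515 : nd 66515 = n127090 := ndS (p := 36180) (l := 5) rfl N36180 D127090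
theorem N66516 : nd 66516 = n127091 := ndS (p := 36181) (l := 5) rfl N36181 D127091
theorem N66517 : nd 66517 = n127092 := ndS (p := 36182) (l := 4) rfl N36182 D127092
theorem N66518 : nd 66518 = n127093 := ndS (p := 36183) (l := 3) rfl N36183 D127093
theorem N66519 : nd 66519 = n127094 := ndS (p := 36184) (l := 3) rfl N36184 D127094
theorem N66520 : nd 66520 = n127096 := ndS (p := 36185) (l := 1) rfl N36185 D127096
theorem N66521 : nd 66521 = n127100 := ndS (p := 36186) (l := 6) rfl N36186 D127100
theorem N66522 : nd 66522 = n127104 := ndS (p := 36192) (l := 0) rfl N36192 D127104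
theorem N66523 : nd 66523 = n127105 := ndS (p := 36192) (l := 1) rfl N36192 D127105
theorem N66524 : nd 66524 = n127106 := ndS (p := 36192) (l := 2) rfl N36192 D127106
theorem N66525 : nd 66525 = n127107 := ndS (p := 36192) (l := 6) rfl N36192 D127107
theorem N66526 : nd 66526 = n127108 := ndS (p := 36193) (l := 5) rfl N36193 D127108
theorem N66527 : nd 66527 = n127109 := ndS (p := 36194) (l := 0) rfl N36194 D127109
theorem N66528 : nd 66528 = n127110 := ndS (p := 36194) (l := 1) rfl N36194 D127110
theorem N66529 : nd 66529 = n127111 := ndS (p := 36194) (l := 5) rfl N36194 D127111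
theorem N66530 : nd 66530 = n127112 := ndS (p := 36194) (l := 7) rfl N36194 D127112
theorem N66531 : nd 66531 = n127113 := ndS (p := 36195) (l := 3) rfl N36195 D127113
theorem N66532 : nd 66532 = n127114 := ndS (p := 36195) (l := 5) rfl N36195 D127114
theorem N66533 : nd 66533 = n127115 := ndS (p := 36195) (l := 6) rfl N36195 D127115
theorem N66534 : nd 66534 = n127116 := ndS (p := 36196) (l := 3) rfl N36196 D127116
theorem N66535 : nd 66535 = n127117 := ndS (p := 36196) (l := 5) rfl N36196 D127117
theorem N66536 : nd 66536 = n127122 := ndS (p := 36199) (l := 6) rfl N36199 D127122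
theorem N66537 : nd 66537 = n127123 := ndS (p := 36200) (l := 3) rfl N36200 D127123
theorem N66538 : nd 66538 = n127124 := ndS (p := 36200) (l := 5) rfl N36200 D127124
theorem N66539 : nd 66539 = n127125 := ndS (p := 36200) (l := 6) rfl N36200 D127125
theorem N66540 : nd 66540 = n127126 := ndS (p := 36203) (l := 3) rfl N36203 D127126
theorem N66541 : nd 66541 = n127127 := ndS (p := 36203) (l := 5) rfl N36203 D127127
theorem N66542 : nd 66542 = n127128 := ndS (p := 36204) (l := 5) rfl N36204 D127128
theorem N66543 : nd 66543 = n127130 := ndS (p := 36206) (l := 5) rfl N36206 D127130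
theorem N66544 : nd 66544 = n127131 := ndS (p := 36206) (l := 6) rfl N36206 D127131
theorem N66545 : nd 66545 = n127144 := ndS (p := 36211) (l := 1) rfl N36211 D127144
theorem N66546 : nd 66546 = n127145 := ndS (p := 36211) (l := 4) rfl N36211 D127145
theorem N66547 : nd 66547 = n127146 := ndS (p := 36211) (l := 6) rfl N36211 D127146
theorem N66548 : nd 66548 = n127147 := ndS (p := 36212) (l := 0) rfl N36212 D127147
theorem N66549 : nd 66549 = n127148 := ndS (p := 36212) (l := 1) rfl N36212 D127148
theorem N66550 : nd 66550 = n127149 := ndS (p := 36212) (l := 5) rfl N36212 D127149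
theorem N66551 : nd 66551 = n127150 := ndS (p := 36212) (l := 7) rfl N36212 D127150
theorem N66552 : nd 66552 = n127151 := ndS (p := 36213) (l := 3) rfl N36213 D127151
theorem N66553 : nd 66553 = n127156 := ndS (p := 36214) (l := 1) rfl N36214 D127156
theorem N66554 : nd 66554 = n127157 := ndS (p := 36214) (l := 2) rfl N36214 D127157
theorem N66555 : nd 66555 = n127158 := ndS (p := 36214) (l := 6) rfl N36214 D127158
theorem N66556 : nd 66556 = n127202 := ndS (p := 36222) (l := 5) rfl N36222 D127202
theorem N66557 : nd 66557 = n127203 := ndS (p := 36222) (l := 6) rfl N36222 D127203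
theorem N66558 : nd 66558 = n127204 := ndS (p := 36223) (l := 3) rfl N36223 D127204
theorem N66559 : nd 66559 = n127205 := ndS (p := 36223) (l := 5) rfl N36223 D127205
theorem N66560 : nd 66560 = n127206 := ndS (p := 36223) (l := 6) rfl N36223 D127206
theorem N66561 : nd 66561 = n127207 := ndS (p := 36224) (l := 0) rfl N36224 D127207
theorem N66562 : nd 66562 = n127208 := ndS (p := 36224) (l := 4) rfl N36224 D127208
theorem N66563 : nd 66563 = n127210 := ndS (p := 36225) (l := 0) rfl N36225 D127210
theorem N66564 : nd 66564 = n127211 := ndS (p := 36225) (l := 1) rfl N36225 D127211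
theorem N66565 : nd 66565 = n127215 := ndS (p := 36226) (l := 6) rfl N36226 D127215
theorem N66566 : nd 66566 = n127219 := ndS (p := 36227) (l := 1) rfl N36227 D127219
theorem N66567 : nd 66567 = n127294 := ndS (p := 36229) (l := 3) rfl N36229 D127294
theorem N66568 : nd 66568 = n127306 := ndS (p := 36231) (l := 0) rfl N36231 D127306
theorem N66569 : nd 66569 = n127309 := ndS (p := 36231) (l := 4) rfl N36231 D127309
theorem N66570 : nd 66570 = n127311 := ndS (p := 36231) (l := 6) rfl N36231 D127311
theorem N66571 : nd 66571 = n127321 := ndS (p := 36233) (l := 1) rfl N36233 D127321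
theorem N66572 : nd 66572 = n127322 := ndS (p := 36233) (l := 2) rfl N36233 D127322
theorem N66573 : nd 66573 = n127323 := ndS (p := 36233) (l := 4) rfl N36233 D127323
theorem N66574 : nd 66574 = n127334 := ndS (p := 36235) (l := 3) rfl N36235 D127334
theorem N66575 : nd 66575 = n127337 := ndS (p := 36237) (l := 4) rfl N36237 D127337
theorem N66576 : nd 66576 = n127339 := ndS (p := 36239) (l := 5) rfl N36239 D127339
theorem N66577 : nd 66577 = n127340 := ndS (p := 36240) (l := 4) rfl N36240 D127340
theorem N66578 : nd 66578 = n127342 := ndS (p := 36245) (l := 4) rfl N36245 D127342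
theorem N66579 : nd 66579 = n127343 := ndS (p := 36246) (l := 3) rfl N36246 D127343
theorem N66580 : nd 66580 = n127344 := ndS (p := 36250) (l := 6) rfl N36250 D127344
theorem N66581 : nd 66581 = n127347 := ndS (p := 36255) (l := 5) rfl N36255 D127347
theorem N66582 : nd 66582 = n127351 := ndS (p := 36256) (l := 0) rfl N36256 D127351
theorem N66583 : nd 66583 = n127352 := ndS (p := 36256) (l := 1) rfl N36256 D127352
theorem N66584 : nd 66584 = n127353 := ndS (p := 36256) (l := 2) rfl N36256 D127353
theorem N66585 : nd 66585 = n127354 := ndS (p := 36257) (l := 4) rfl N36257 D127354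
theorem N66586 : nd 66586 = n127355 := ndS (p := 36257) (l := 6) rfl N36257 D127355
theorem N66587 : nd 66587 = n127356 := ndS (p := 36258) (l := 3) rfl N36258 D127356
theorem N66588 : nd 66588 = n127357 := ndS (p := 36258) (l := 6) rfl N36258 D127357
theorem N66589 : nd 66589 = n127358 := ndS (p := 36259) (l := 5) rfl N36259 D127358
theorem N66590 : nd 66590 = n127359 := ndS (p := 36259) (l := 6) rfl N36259 D127359
theorem N66591 : nd 66591 = n127360 := ndS (p := 36260) (l := 0) rfl N36260 D127360
theorem N66592 : nd 66592 = n127361 := ndS (p := 36260) (l := 1) rfl N36260 D127361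
theorem N66593 : nd 66593 = n127362 := ndS (p := 36260) (l := 4) rfl N36260 D127362
theorem N66594 : nd 66594 = n127363 := ndS (p := 36260) (l := 6) rfl N36260 D127363
theorem N66595 : nd 66595 = n127364 := ndS (p := 36261) (l := 0) rfl N36261 D127364
theorem N66596 : nd 66596 = n127366 := ndS (p := 36261) (l := 5) rfl N36261 D127366
theorem N66597 : nd 66597 = n127367 := ndS (p := 36261) (l := 7) rfl N36261 D127367
theorem N66598 : nd 66598 = n127369 := ndS (p := 36262) (l := 1) rfl N36262 D127369
theorem N66599 : nd 66599 = n127370 := ndS (p := 36262) (l := 5) rfl N36262 D127370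
theorem N66600 : nd 66600 = n127371 := ndS (p := 36262) (l := 7) rfl N36262 D127371
theorem N66601 : nd 66601 = n127372 := ndS (p := 36263) (l := 3) rfl N36263 D127372
theorem N66602 : nd 66602 = n127373 := ndS (p := 36263) (l := 5) rfl N36263 D127373
theorem N66603 : nd 66603 = n127374 := ndS (p := 36264) (l := 0) rfl N36264 D127374
theorem N66604 : nd 66604 = n127375 := ndS (p := 36264) (l := 1) rfl N36264 D127375
theorem N66605 : nd 66605 = n127376 := ndS (p := 36264) (l := 4) rfl N36264 D127376
theorem N66606 : nd 66606 = n127377 := ndS (p := 36264) (l := 7) rfl N36264 D127377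
theorem N66607 : nd 66607 = n127378 := ndS (p := 36266) (l := 4) rfl N36266 D127378
theorem N66608 : nd 66608 = n127379 := ndS (p := 36266) (l := 6) rfl N36266 D127379
theorem N66609 : nd 66609 = n127380 := ndS (p := 36267) (l := 3) rfl N36267 D127380
theorem N66610 : nd 66610 = n127381 := ndS (p := 36267) (l := 5) rfl N36267 D127381
theorem N66611 : nd 66611 = n127382 := ndS (p := 36267) (l := 6) rfl N36267 D127382
theorem N66612 : nd 66612 = n127383 := ndS (p := 36268) (l := 0) rfl N36268 D127383
theorem N66613 : nd 66613 = n127384 := ndS (p := 36268) (l := 1) rfl N36268 D127384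
theorem N66614 : nd 66614 = n127385 := ndS (p := 36268) (l := 7) rfl N36268 D127385
theorem N66615 : nd 66615 = n127386 := ndS (p := 36269) (l := 0) rfl N36269 D127386
theorem N66616 : nd 66616 = n127387 := ndS (p := 36269) (l := 1) rfl N36269 D127387
theorem N66617 : nd 66617 = n127388 := ndS (p := 36269) (l := 2) rfl N36269 D127388
theorem N66618 : nd 66618 = n127389 := ndS (p := 36269) (l := 6) rfl N36269 D127389
theorem N66619 : nd 66619 = n127393 := ndS (p := 36270) (l := 7) rfl N36270 D127393
theorem N66620 : nd 66620 = n127394 := ndS (p := 36271) (l := 3) rfl N36271 D127394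
theorem N66621 : nd 66621 = n127396 := ndS (p := 36271) (l := 5) rfl N36271 D127396
theorem N66622 : nd 66622 = n127397 := ndS (p := 36272) (l := 3) rfl N36272 D127397
theorem N66623 : nd 66623 = n127399 := ndS (p := 36272) (l := 5) rfl N36272 D127399
theorem N66624 : nd 66624 = n127400 := ndS (p := 36272) (l := 6) rfl N36272 D127400
theorem N66625 : nd 66625 = n127401 := ndS (p := 36274) (l := 6) rfl N36274 D127401
theorem N66626 : nd 66626 = n127403 := ndS (p := 36275) (l := 2) rfl N36275 D127403
theorem N66627 : nd 66627 = n127405 := ndS (p := 36276) (l := 0) rfl N36276 D127405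
theorem N66628 : nd 66628 = n127406 := ndS (p := 36276) (l := 1) rfl N36276 D127406
theorem N66629 : nd 66629 = n127407 := ndS (p := 36276) (l := 5) rfl N36276 D127407
theorem N66630 : nd 66630 = n127408 := ndS (p := 36276) (l := 7) rfl N36276 D127408
theorem N66631 : nd 66631 = n127409 := ndS (p := 36277) (l := 3) rfl N36277 D127409
theorem N66632 : nd 66632 = n127410 := ndS (p := 36277) (l := 5) rfl N36277 D127410
theorem N66633 : nd 66633 = n127411 := ndS (p := 36277) (l := 6) rfl N36277 D127411
theorem N66634 : nd 66634 = n127412 := ndS (p := 36278) (l := 3) rfl N36278 D127412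
theorem N66635 : nd 66635 = n127415 := ndS (p := 36281) (l := 0) rfl N36281 D127415
theorem N66636 : nd 66636 = n127417 := ndS (p := 36281) (l := 5) rfl N36281 D127417
theorem N66637 : nd 66637 = n127418 := ndS (p := 36281) (l := 7) rfl N36281 D127418
theorem N66638 : nd 66638 = n127419 := ndS (p := 36282) (l := 4) rfl N36282 D127419
theorem N66639 : nd 66639 = n127420 := ndS (p := 36283) (l := 3) rfl N36283 D127420
theorem N66640 : nd 66640 = n127421 := ndS (p := 36283) (l := 5) rfl N36283 D127421
theorem N66641 : nd 66641 = n127426 := ndS (p := 36284) (l := 6) rfl N36284 D127426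
theorem N66642 : nd 66642 = n127427 := ndS (p := 36285) (l := 6) rfl N36285 D127427
theorem N66643 : nd 66643 = n127430 := ndS (p := 36287) (l := 0) rfl N36287 D127430
theorem N66644 : nd 66644 = n127431 := ndS (p := 36287) (l := 1) rfl N36287 D127431
theorem N66645 : nd 66645 = n127432 := ndS (p := 36287) (l := 5) rfl N36287 D127432
theorem N66646 : nd 66646 = n127434 := ndS (p := 36289) (l := 6) rfl N36289 D127434
theorem N66647 : nd 66647 = n127435 := ndS (p := 36290) (l := 3) rfl N36290 D127435
theorem N66648 : nd 66648 = n127436 := ndS (p := 36290) (l := 6) rfl N36290 D127436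
theorem N66649 : nd 66649 = n127437 := ndS (p := 36291) (l := 0) rfl N36291 D127437
theorem N66650 : nd 66650 = n127443 := ndS (p := 36293) (l := 1) rfl N36293 D127443
theorem N66651 : nd 66651 = n127444 := ndS (p := 36293) (l := 7) rfl N36293 D127444
theorem N66652 : nd 66652 = n127445 := ndS (p := 36294) (l := 3) rfl N36294 D127445
theorem N66653 : nd 66653 = n127447 := ndS (p := 36295) (l := 3) rfl N36295 D127447
theorem N66654 : nd 66654 = n127458 := ndS (p := 36299) (l := 6) rfl N36299 D127458
theorem N66655 : nd 66655 = n127471 := ndS (p := 36302) (l := 6) rfl N36302 D127471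
theorem N66656 : nd 66656 = n127472 := ndS (p := 36303) (l := 4) rfl N36303 D127472
theorem N66657 : nd 66657 = n127473 := ndS (p := 36303) (l := 6) rfl N36303 D127473
theorem N66658 : nd 66658 = n127474 := ndS (p := 36305) (l := 6) rfl N36305 D127474
theorem N66659 : nd 66659 = n127475 := ndS (p := 36306) (l := 3) rfl N36306 D127475
theorem N66660 : nd 66660 = n127476 := ndS (p := 36306) (l := 5) rfl N36306 D127476
theorem N66661 : nd 66661 = n127477 := ndS (p := 36306) (l := 6) rfl N36306 D127477
theorem N66662 : nd 66662 = n127478 := ndS (p := 36307) (l := 0) rfl N36307 D127478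
theorem N66663 : nd 66663 = n127479 := ndS (p := 36307) (l := 1) rfl N36307 D127479
theorem N66664 : nd 66664 = n127480 := ndS (p := 36307) (l := 7) rfl N36307 D127480
theorem N66665 : nd 66665 = n127482 := ndS (p := 36309) (l := 0) rfl N36309 D127482
theorem N66666 : nd 66666 = n127483 := ndS (p := 36309) (l := 1) rfl N36309 D127483
theorem N66667 : nd 66667 = n127484 := ndS (p := 36309) (l := 7) rfl N36309 D127484
theorem N66668 : nd 66668 = n127485 := ndS (p := 36310) (l := 0) rfl N36310 D127485
theorem N66669 : nd 66669 = n127486 := ndS (p := 36310) (l := 1) rfl N36310 D127486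
theorem N66670 : nd 66670 = n127487 := ndS (p := 36310) (l := 2) rfl N36310 D127487
theorem N66671 : nd 66671 = n127488 := ndS (p := 36310) (l := 5) rfl N36310 D127488
theorem N66672 : nd 66672 = n127489 := ndS (p := 36310) (l := 6) rfl N36310 D127489
theorem N66673 : nd 66673 = n127490 := ndS (p := 36311) (l := 6) rfl N36311 D127490
theorem N66674 : nd 66674 = n127491 := ndS (p := 36312) (l := 0) rfl N36312 D127491
theorem N66675 : nd 66675 = n127493 := ndS (p := 36312) (l := 5) rfl N36312 D127493
theorem N66676 : nd 66676 = n127494 := ndS (p := 36312) (l := 7) rfl N36312 D127494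
theorem N66677 : nd 66677 = n127503 := ndS (p := 36313) (l := 5) rfl N36313 D127503
theorem N66678 : nd 66678 = n127529 := ndS (p := 36319) (l := 3) rfl N36319 D127529
theorem N66679 : nd 66679 = n127530 := ndS (p := 36319) (l := 4) rfl N36319 D127530
theorem N66680 : nd 66680 = n127531 := ndS (p := 36319) (l := 5) rfl N36319 D127531
theorem N66681 : nd 66681 = n127534 := ndS (p := 36320) (l := 4) rfl N36320 D127534
theorem N66682 : nd 66682 = n127535 := ndS (p := 36320) (l := 6) rfl N36320 D127535
theorem N66683 : nd 66683 = n127536 := ndS (p := 36322) (l := 0) rfl N36322 D127536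
theorem N66684 : nd 66684 = n127537 := ndS (p := 36322) (l := 1) rfl N36322 D127537
theorem N66685 : nd 66685 = n127546 := ndS (p := 36324) (l := 6) rfl N36324 D127546
theorem N66686 : nd 66686 = n127554 := ndS (p := 36325) (l := 5) rfl N36325 D127554
theorem N66687 : nd 66687 = n127555 := ndS (p := 36325) (l := 6) rfl N36325 D127555
theorem N66688 : nd 66688 = n127593 := ndS (p := 36327) (l := 0) rfl N36327 D127593
theorem N66689 : nd 66689 = n127594 := ndS (p := 36327) (l := 1) rfl N36327 D127594
theorem N66690 : nd 66690 = n127597 := ndS (p := 36328) (l := 6) rfl N36328 D127597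
theorem N66691 : nd 66691 = n127606 := ndS (p := 36329) (l := 3) rfl N36329 D127606
theorem N66692 : nd 66692 = n127608 := ndS (p := 36329) (l := 5) rfl N36329 D127608
theorem N66693 : nd 66693 = n127611 := ndS (p := 36331) (l := 5) rfl N36331 D127611
theorem N66694 : nd 66694 = n127612 := ndS (p := 36331) (l := 6) rfl N36331 D127612
theorem N66695 : nd 66695 = n127613 := ndS (p := 36332) (l := 0) rfl N36332 D127613
theorem N66696 : nd 66696 = n127614 := ndS (p := 36332) (l := 6) rfl N36332 D127614
theorem N66697 : nd 66697 = n127615 := ndS (p := 36333) (l := 0) rfl N36333 D127615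
theorem N66698 : nd 66698 = n127616 := ndS (p := 36333) (l := 1) rfl N36333 D127616
theorem N66699 : nd 66699 = n127617 := ndS (p := 36333) (l := 5) rfl N36333 D127617
theorem N66700 : nd 66700 = n127618 := ndS (p := 36333) (l := 7) rfl N36333 D127618
theorem N66701 : nd 66701 = n127619 := ndS (p := 36335) (l := 3) rfl N36335 D127619
theorem N66702 : nd 66702 = n127621 := ndS (p := 36336) (l := 0) rfl N36336 D127621
theorem N66703 : nd 66703 = n127622 := ndS (p := 36336) (l := 1) rfl N36336 D127622
theorem N66704 : nd 66704 = n127623 := ndS (p := 36336) (l := 5) rfl N36336 D127623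
theorem N66705 : nd 66705 = n127625 := ndS (p := 36337) (l := 6) rfl N36337 D127625
theorem N66706 : nd 66706 = n127628 := ndS (p := 36338) (l := 3) rfl N36338 D127628
theorem N66707 : nd 66707 = n127629 := ndS (p := 36338) (l := 5) rfl N36338 D127629
theorem N66708 : nd 66708 = n127633 := ndS (p := 36339) (l := 4) rfl N36339 D127633
theorem N66709 : nd 66709 = n127635 := ndS (p := 36340) (l := 6) rfl N36340 D127635
theorem N66710 : nd 66710 = n127636 := ndS (p := 36341) (l := 0) rfl N36341 D127636
theorem N66711 : nd 66711 = n127645 := ndS (p := 36342) (l := 0) rfl N36342 D127645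
theorem N66712 : nd 66712 = n127647 := ndS (p := 36342) (l := 5) rfl N36342 D127647
theorem N66713 : nd 66713 = n127650 := ndS (p := 36343) (l := 0) rfl N36343 D127650
theorem N66714 : nd 66714 = n127651 := ndS (p := 36343) (l := 3) rfl N36343 D127651
theorem N66715 : nd 66715 = n127652 := ndS (p := 36343) (l := 5) rfl N36343 D127652
theorem N66716 : nd 66716 = n127655 := ndS (p := 36344) (l := 0) rfl N36344 D127655
theorem N66717 : nd 66717 = n127656 := ndS (p := 36344) (l := 4) rfl N36344 D127656
theorem N66718 : nd 66718 = n127657 := ndS (p := 36344) (l := 6) rfl N36344 D127657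
theorem N66719 : nd 66719 = n127666 := ndS (p := 36345) (l := 2) rfl N36345 D127666
theorem N66720 : nd 66720 = n127667 := ndS (p := 36345) (l := 4) rfl N36345 D127667
theorem N66721 : nd 66721 = n127668 := ndS (p := 36345) (l := 5) rfl N36345 D127668
theorem N66722 : nd 66722 = n127669 := ndS (p := 36345) (l := 6) rfl N36345 D127669
theorem N66723 : nd 66723 = n127670 := ndS (p := 36346) (l := 3) rfl N36346 D127670
theorem N66724 : nd 66724 = n127671 := ndS (p := 36346) (l := 5) rfl N36346 D127671
theorem N66725 : nd 66725 = n127672 := ndS (p := 36346) (l := 6) rfl N36346 D127672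
theorem N66726 : nd 66726 = n127673 := ndS (p := 36347) (l := 4) rfl N36347 D127673
theorem N66727 : nd 66727 = n127674 := ndS (p := 36348) (l := 0) rfl N36348 D127674
theorem N66728 : nd 66728 = n127679 := ndS (p := 36350) (l := 3) rfl N36350 D127679
theorem N66729 : nd 66729 = n127680 := ndS (p := 36350) (l := 4) rfl N36350 D127680
theorem N66730 : nd 66730 = n127682 := ndS (p := 36350) (l := 6) rfl N36350 D127682
theorem N66731 : nd 66731 = n127685 := ndS (p := 36351) (l := 4) rfl N36351 D127685
theorem N66732 : nd 66732 = n127690 := ndS (p := 36352) (l := 4) rfl N36352 D127690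
theorem N66733 : nd 66733 = n127691 := ndS (p := 36353) (l := 6) rfl N36353 D127691
theorem N66734 : nd 66734 = n127692 := ndS (p := 36355) (l := 6) rfl N36355 D127692
theorem N66735 : nd 66735 = n127693 := ndS (p := 36356) (l := 6) rfl N36356 D127693
theorem N66736 : nd 66736 = n127694 := ndS (p := 36357) (l := 3) rfl N36357 D127694
theorem N66737 : nd 66737 = n127695 := ndS (p := 36358) (l := 1) rfl N36358 D127695
theorem N66738 : nd 66738 = n127697 := ndS (p := 36359) (l := 0) rfl N36359 D127697
theorem N66739 : nd 66739 = n127698 := ndS (p := 36359) (l := 1) rfl N36359 D127698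
theorem N66740 : nd 66740 = n127704 := ndS (p := 36360) (l := 0) rfl N36360 D127704
theorem N66741 : nd 66741 = n127705 := ndS (p := 36360) (l := 2) rfl N36360 D127705
theorem N66742 : nd 66742 = n127706 := ndS (p := 36360) (l := 4) rfl N36360 D127706
theorem N66743 : nd 66743 = n127708 := ndS (p := 36361) (l := 3) rfl N36361 D127708
theorem N66744 : nd 66744 = n127714 := ndS (p := 36362) (l := 0) rfl N36362 D127714
theorem N66745 : nd 66745 = n127716 := ndS (p := 36362) (l := 5) rfl N36362 D127716
theorem N66746 : nd 66746 = n127717 := ndS (p := 36362) (l := 7) rfl N36362 D127717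
theorem N66747 : nd 66747 = n127719 := ndS (p := 36363) (l := 3) rfl N36363 D127719
theorem N66748 : nd 66748 = n127720 := ndS (p := 36363) (l := 4) rfl N36363 D127720
theorem N66749 : nd 66749 = n127721 := ndS (p := 36363) (l := 5) rfl N36363 D127721
theorem N66750 : nd 66750 = n127724 := ndS (p := 36364) (l := 3) rfl N36364 D127724
theorem N66751 : nd 66751 = n127725 := ndS (p := 36364) (l := 4) rfl N36364 D127725
theorem N66752 : nd 66752 = n127729 := ndS (p := 36365) (l := 1) rfl N36365 D127729
theorem N66753 : nd 66753 = n127732 := ndS (p := 36367) (l := 3) rfl N36367 D127732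
theorem N66754 : nd 66754 = n127733 := ndS (p := 36368) (l := 4) rfl N36368 D127733
theorem N66755 : nd 66755 = n127734 := ndS (p := 36369) (l := 0) rfl N36369 D127734
theorem N66756 : nd 66756 = n127738 := ndS (p := 36372) (l := 4) rfl N36372 D127738
theorem N66757 : nd 66757 = n127739 := ndS (p := 36373) (l := 4) rfl N36373 D127739
theorem N66758 : nd 66758 = n127740 := ndS (p := 36373) (l := 6) rfl N36373 D127740
theorem N66759 : nd 66759 = n127742 := ndS (p := 36374) (l := 1) rfl N36374 D127742
theorem N66760 : nd 66760 = n127745 := ndS (p := 36375) (l := 0) rfl N36375 D127745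
theorem N66761 : nd 66761 = n127746 := ndS (p := 36375) (l := 1) rfl N36375 D127746
theorem N66762 : nd 66762 = n127755 := ndS (p := 36378) (l := 4) rfl N36378 D127755
theorem N66763 : nd 66763 = n127762 := ndS (p := 36381) (l := 4) rfl N36381 D127762
theorem N66764 : nd 66764 = n127765 := ndS (p := 36385) (l := 3) rfl N36385 D127765
theorem N66765 : nd 66765 = n127766 := ndS (p := 36386) (l := 0) rfl N36386 D127766
theorem N66766 : nd 66766 = n127767 := ndS (p := 36386) (l := 1) rfl N36386 D127767
theorem N66767 : nd 66767 = n127768 := ndS (p := 36386) (l := 2) rfl N36386 D127768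
theorem N66768 : nd 66768 = n127773 := ndS (p := 36387) (l := 5) rfl N36387 D127773
theorem N66769 : nd 66769 = n127774 := ndS (p := 36387) (l := 6) rfl N36387 D127774
theorem N66770 : nd 66770 = n127775 := ndS (p := 36388) (l := 0) rfl N36388 D127775
theorem N66771 : nd 66771 = n127776 := ndS (p := 36388) (l := 1) rfl N36388 D127776
theorem N66772 : nd 66772 = n127777 := ndS (p := 36388) (l := 4) rfl N36388 D127777
theorem N66773 : nd 66773 = n127778 := ndS (p := 36388) (l := 6) rfl N36388 D127778
theorem N66774 : nd 66774 = n127779 := ndS (p := 36389) (l := 1) rfl N36389 D127779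
theorem N66775 : nd 66775 = n127780 := ndS (p := 36390) (l := 4) rfl N36390 D127780
theorem N66776 : nd 66776 = n127781 := ndS (p := 36390) (l := 5) rfl N36390 D127781
theorem N66777 : nd 66777 = n127782 := ndS (p := 36390) (l := 6) rfl N36390 D127782
theorem N66778 : nd 66778 = n127783 := ndS (p := 36391) (l := 4) rfl N36391 D127783
theorem N66779 : nd 66779 = n127784 := ndS (p := 36391) (l := 6) rfl N36391 D127784
theorem N66780 : nd 66780 = n127785 := ndS (p := 36392) (l := 7) rfl N36392 D127785
theorem N66781 : nd 66781 = n127786 := ndS (p := 36393) (l := 3) rfl N36393 D127786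
theorem N66782 : nd 66782 = n127787 := ndS (p := 36393) (l := 6) rfl N36393 D127787
theorem N66783 : nd 66783 = n127788 := ndS (p := 36394) (l := 3) rfl N36394 D127788
theorem N66784 : nd 66784 = n127789 := ndS (p := 36394) (l := 6) rfl N36394 D127789
theorem N66785 : nd 66785 = n127790 := ndS (p := 36395) (l := 0) rfl N36395 D127790
theorem N66786 : nd 66786 = n127791 := ndS (p := 36395) (l := 1) rfl N36395 D127791
theorem N66787 : nd 66787 = n127794 := ndS (p := 36395) (l := 7) rfl N36395 D127794
theorem N66788 : nd 66788 = n127795 := ndS (p := 36396) (l := 6) rfl N36396 D127795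
theorem N66789 : nd 66789 = n127796 := ndS (p := 36397) (l := 5) rfl N36397 D127796
theorem N66790 : nd 66790 = n127797 := ndS (p := 36398) (l := 0) rfl N36398 D127797
theorem N66791 : nd 66791 = n127798 := ndS (p := 36398) (l := 1) rfl N36398 D127798
theorem N66792 : nd 66792 = n127799 := ndS (p := 36398) (l := 4) rfl N36398 D127799
theorem N66793 : nd 66793 = n127800 := ndS (p := 36398) (l := 6) rfl N36398 D127800
theorem N66794 : nd 66794 = n127801 := ndS (p := 36399) (l := 3) rfl N36399 D127801
theorem N66795 : nd 66795 = n127802 := ndS (p := 36399) (l := 6) rfl N36399 D127802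
theorem N66796 : nd 66796 = n127804 := ndS (p := 36400) (l := 1) rfl N36400 D127804
theorem N66797 : nd 66797 = n127805 := ndS (p := 36400) (l := 7) rfl N36400 D127805
theorem N66798 : nd 66798 = n127806 := ndS (p := 36401) (l := 3) rfl N36401 D127806
theorem N66799 : nd 66799 = n127808 := ndS (p := 36402) (l := 0) rfl N36402 D127808
theorem N66800 : nd 66800 = n127809 := ndS (p := 36402) (l := 1) rfl N36402 D127809
theorem N66801 : nd 66801 = n127810 := ndS (p := 36402) (l := 7) rfl N36402 D127810
theorem N66802 : nd 66802 = n127811 := ndS (p := 36403) (l := 2) rfl N36403 D127811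
theorem N66803 : nd 66803 = n127812 := ndS (p := 36403) (l := 4) rfl N36403 D127812
theorem N66804 : nd 66804 = n127814 := ndS (p := 36404) (l := 0) rfl N36404 D127814
theorem N66805 : nd 66805 = n127815 := ndS (p := 36404) (l := 1) rfl N36404 D127815
theorem N66806 : nd 66806 = n127816 := ndS (p := 36404) (l := 5) rfl N36404 D127816
theorem N66807 : nd 66807 = n127817 := ndS (p := 36404) (l := 7) rfl N36404 D127817
theorem N66808 : nd 66808 = n127818 := ndS (p := 36405) (l := 0) rfl N36405 D127818
theorem N66809 : nd 66809 = n127820 := ndS (p := 36406) (l := 6) rfl N36406 D127820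
theorem N66810 : nd 66810 = n127823 := ndS (p := 36408) (l := 0) rfl N36408 D127823
theorem N66811 : nd 66811 = n127824 := ndS (p := 36408) (l := 1) rfl N36408 D127824
theorem N66812 : nd 66812 = n127825 := ndS (p := 36408) (l := 2) rfl N36408 D127825
theorem N66813 : nd 66813 = n127826 := ndS (p := 36409) (l := 0) rfl N36409 D127826
theorem N66814 : nd 66814 = n127827 := ndS (p := 36409) (l := 1) rfl N36409 D127827
theorem N66815 : nd 66815 = n127830 := ndS (p := 36411) (l := 1) rfl N36411 D127830
theorem N66816 : nd 66816 = n127831 := ndS (p := 36411) (l := 7) rfl N36411 D127831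
theorem N66817 : nd 66817 = n127838 := ndS (p := 36416) (l := 4) rfl N36416 D127838
theorem N66818 : nd 66818 = n127839 := ndS (p := 36417) (l := 3) rfl N36417 D127839
theorem N66819 : nd 66819 = n127841 := ndS (p := 36419) (l := 1) rfl N36419 D127841
theorem N66820 : nd 66820 = n127842 := ndS (p := 36419) (l := 5) rfl N36419 D127842
theorem N66821 : nd 66821 = n127843 := ndS (p := 36419) (l := 7) rfl N36419 D127843
theorem N66822 : nd 66822 = n127845 := ndS (p := 36420) (l := 6) rfl N36420 D127845
theorem N66823 : nd 66823 = n127848 := ndS (p := 36421) (l := 6) rfl N36421 D127848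
theorem N66824 : nd 66824 = n127853 := ndS (p := 36424) (l := 6) rfl N36424 D127853
theorem N66825 : nd 66825 = n127855 := ndS (p := 36426) (l := 6) rfl N36426 D127855
theorem N66826 : nd 66826 = n127856 := ndS (p := 36427) (l := 6) rfl N36427 D127856
theorem N66827 : nd 66827 = n127857 := ndS (p := 36428) (l := 6) rfl N36428 D127857
theorem N66828 : nd 66828 = n127860 := ndS (p := 36430) (l := 6) rfl N36430 D127860
theorem N66829 : nd 66829 = n127862 := ndS (p := 36433) (l := 1) rfl N36433 D127862
theorem N66830 : nd 66830 = n127863 := ndS (p := 36433) (l := 7) rfl N36433 D127863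
theorem N66831 : nd 66831 = n127868 := ndS (p := 36435) (l := 6) rfl N36435 D127868
theorem N66832 : nd 66832 = n127869 := ndS (p := 36436) (l := 1) rfl N36436 D127869
theorem N66833 : nd 66833 = n127870 := ndS (p := 36436) (l := 5) rfl N36436 D127870
theorem N66834 : nd 66834 = n127871 := ndS (p := 36436) (l := 7) rfl N36436 D127871
theorem N66835 : nd 66835 = n127878 := ndS (p := 36437) (l := 4) rfl N36437 D127878
theorem N66836 : nd 66836 = n127880 := ndS (p := 36439) (l := 0) rfl N36439 D127880
theorem N66837 : nd 66837 = n127882 := ndS (p := 36439) (l := 6) rfl N36439 D127882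
theorem N66838 : nd 66838 = n127885 := ndS (p := 36441) (l := 5) rfl N36441 D127885
theorem N66839 : nd 66839 = n127886 := ndS (p := 36441) (l := 7) rfl N36441 D127886
theorem N66840 : nd 66840 = n127891 := ndS (p := 36443) (l := 5) rfl N36443 D127891
theorem N66841 : nd 66841 = n127892 := ndS (p := 36443) (l := 7) rfl N36443 D127892
theorem N66842 : nd 66842 = n127898 := ndS (p := 36445) (l := 6) rfl N36445 D127898
theorem N66843 : nd 66843 = n127899 := ndS (p := 36446) (l := 6) rfl N36446 D127899
theorem N66844 : nd 66844 = n127901 := ndS (p := 36447) (l := 6) rfl N36447 D127901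
theorem N66845 : nd 66845 = n127902 := ndS (p := 36448) (l := 0) rfl N36448 D127902
theorem N66846 : nd 66846 = n127903 := ndS (p := 36448) (l := 1) rfl N36448 D127903
theorem N66847 : nd 66847 = n127905 := ndS (p := 36448) (l := 7) rfl N36448 D127905
theorem N66848 : nd 66848 = n127921 := ndS (p := 36452) (l := 7) rfl N36452 D127921
theorem N66849 : nd 66849 = n127928 := ndS (p := 36456) (l := 4) rfl N36456 D127928
theorem N66850 : nd 66850 = n127929 := ndS (p := 36457) (l := 6) rfl N36457 D127929
theorem N66851 : nd 66851 = n127930 := ndS (p := 36458) (l := 0) rfl N36458 D127930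
theorem N66852 : nd 66852 = n127931 := ndS (p := 36458) (l := 1) rfl N36458 D127931
theorem N66853 : nd 66853 = n127935 := ndS (p := 36459) (l := 6) rfl N36459 D127935
theorem N66854 : nd 66854 = n127936 := ndS (p := 36460) (l := 0) rfl N36460 D127936
theorem N66855 : nd 66855 = n127937 := ndS (p := 36460) (l := 1) rfl N36460 D127937
theorem N66856 : nd 66856 = n127938 := ndS (p := 36460) (l := 7) rfl N36460 D127938
theorem N66857 : nd 66857 = n127941 := ndS (p := 36461) (l := 1) rfl N36461 D127941
theorem N66858 : nd 66858 = n127948 := ndS (p := 36463) (l := 3) rfl N36463 D127948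
theorem N66859 : nd 66859 = n127949 := ndS (p := 36463) (l := 5) rfl N36463 D127949
theorem N66860 : nd 66860 = n127955 := ndS (p := 36466) (l := 5) rfl N36466 D127955
theorem N66861 : nd 66861 = n127957 := ndS (p := 36467) (l := 4) rfl N36467 D127957
theorem N66862 : nd 66862 = n127958 := ndS (p := 36468) (l := 0) rfl N36468 D127958
theorem N66863 : nd 66863 = n127960 := ndS (p := 36468) (l := 7) rfl N36468 D127960
theorem N66864 : nd 66864 = n127962 := ndS (p := 36469) (l := 6) rfl N36469 D127962
theorem N66865 : nd 66865 = n127964 := ndS (p := 36471) (l := 5) rfl N36471 D127964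
theorem N66866 : nd 66866 = n127965 := ndS (p := 36471) (l := 6) rfl N36471 D127965
theorem N66867 : nd 66867 = n127966 := ndS (p := 36472) (l := 5) rfl N36472 D127966
theorem N66868 : nd 66868 = n127967 := ndS (p := 36472) (l := 6) rfl N36472 D127967
theorem N66869 : nd 66869 = n127971 := ndS (p := 36475) (l := 6) rfl N36475 D127971
theorem N66870 : nd 66870 = n127973 := ndS (p := 36476) (l := 5) rfl N36476 D127973
theorem N66871 : nd 66871 = n127976 := ndS (p := 36478) (l := 5) rfl N36478 D127976
theorem N66872 : nd 66872 = n127977 := ndS (p := 36478) (l := 6) rfl N36478 D127977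
theorem N66873 : nd 66873 = n127979 := ndS (p := 36479) (l := 1) rfl N36479 D127979
theorem N66874 : nd 66874 = n127980 := ndS (p := 36479) (l := 4) rfl N36479 D127980
theorem N66875 : nd 66875 = n127983 := ndS (p := 36481) (l := 3) rfl N36481 D127983
theorem N66876 : nd 66876 = n127984 := ndS (p := 36481) (l := 5) rfl N36481 D127984
theorem N66877 : nd 66877 = n127985 := ndS (p := 36482) (l := 5) rfl N36482 D127985
theorem N66878 : nd 66878 = n127990 := ndS (p := 36485) (l := 5) rfl N36485 D127990
theorem N66879 : nd 66879 = n127998 := ndS (p := 36486) (l := 6) rfl N36486 D127998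
theorem N66880 : nd 66880 = n127999 := ndS (p := 36487) (l := 3) rfl N36487 D127999
theorem N66881 : nd 66881 = n128000 := ndS (p := 36487) (l := 5) rfl N36487 D128000
theorem N66882 : nd 66882 = n128001 := ndS (p := 36487) (l := 6) rfl N36487 D128001
theorem N66883 : nd 66883 = n128003 := ndS (p := 36488) (l := 1) rfl N36488 D128003
theorem N66884 : nd 66884 = n128005 := ndS (p := 36488) (l := 7) rfl N36488 D128005
theorem N66885 : nd 66885 = n128008 := ndS (p := 36490) (l := 6) rfl N36490 D128008
theorem N66886 : nd 66886 = n128009 := ndS (p := 36491) (l := 4) rfl N36491 D128009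
theorem N66887 : nd 66887 = n128010 := ndS (p := 36493) (l := 4) rfl N36493 D128010
theorem N66888 : nd 66888 = n128012 := ndS (p := 36494) (l := 0) rfl N36494 D128012
theorem N66889 : nd 66889 = n128013 := ndS (p := 36494) (l := 1) rfl N36494 D128013
theorem N66890 : nd 66890 = n128017 := ndS (p := 36495) (l := 6) rfl N36495 D128017
theorem N66891 : nd 66891 = n128020 := ndS (p := 36496) (l := 6) rfl N36496 D128020
theorem N66892 : nd 66892 = n128030 := ndS (p := 36499) (l := 3) rfl N36499 D128030
theorem N66893 : nd 66893 = n128031 := ndS (p := 36499) (l := 5) rfl N36499 D128031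
theorem N66894 : nd 66894 = n128032 := ndS (p := 36499) (l := 6) rfl N36499 D128032
theorem N66895 : nd 66895 = n128033 := ndS (p := 36500) (l := 3) rfl N36500 D128033
theorem N66896 : nd 66896 = n128034 := ndS (p := 36500) (l := 5) rfl N36500 D128034
theorem N66897 : nd 66897 = n128036 := ndS (p := 36501) (l := 0) rfl N36501 D128036
theorem N66898 : nd 66898 = n128037 := ndS (p := 36501) (l := 1) rfl N36501 D128037
theorem N66899 : nd 66899 = n128039 := ndS (p := 36501) (l := 5) rfl N36501 D128039
theorem N66900 : nd 66900 = n128040 := ndS (p := 36501) (l := 7) rfl N36501 D128040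
theorem N66901 : nd 66901 = n128041 := ndS (p := 36502) (l := 1) rfl N36502 D128041
theorem N66902 : nd 66902 = n128042 := ndS (p := 36502) (l := 4) rfl N36502 D128042
theorem N66903 : nd 66903 = n128043 := ndS (p := 36502) (l := 6) rfl N36502 D128043
theorem N66904 : nd 66904 = n128044 := ndS (p := 36502) (l := 7) rfl N36502 D128044
theorem N66905 : nd 66905 = n128045 := ndS (p := 36503) (l := 6) rfl N36503 D128045
theorem N66906 : nd 66906 = n128047 := ndS (p := 36504) (l := 1) rfl N36504 D128047
theorem N66907 : nd 66907 = n128050 := ndS (p := 36507) (l := 5) rfl N36507 D128050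
theorem N66908 : nd 66908 = n128051 := ndS (p := 36508) (l := 4) rfl N36508 D128051
theorem N66909 : nd 66909 = n128052 := ndS (p := 36509) (l := 5) rfl N36509 D128052
theorem N66910 : nd 66910 = n128053 := ndS (p := 36511) (l := 3) rfl N36511 D128053
theorem N66911 : nd 66911 = n128054 := ndS (p := 36511) (l := 5) rfl N36511 D128054
theorem N66912 : nd 66912 = n128056 := ndS (p := 36512) (l := 5) rfl N36512 D128056
theorem N66913 : nd 66913 = n128057 := ndS (p := 36512) (l := 6) rfl N36512 D128057
theorem N66914 : nd 66914 = n128058 := ndS (p := 36513) (l := 0) rfl N36513 D128058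
theorem N66915 : nd 66915 = n128060 := ndS (p := 36513) (l := 5) rfl N36513 D128060
theorem N66916 : nd 66916 = n128061 := ndS (p := 36513) (l := 7) rfl N36513 D128061
theorem N66917 : nd 66917 = n128063 := ndS (p := 36514) (l := 5) rfl N36514 D128063
theorem N66918 : nd 66918 = n128065 := ndS (p := 36515) (l := 0) rfl N36515 D128065
theorem N66919 : nd 66919 = n128066 := ndS (p := 36515) (l := 1) rfl N36515 D128066
theorem N66920 : nd 66920 = n128067 := ndS (p := 36515) (l := 4) rfl N36515 D128067
theorem N66921 : nd 66921 = n128068 := ndS (p := 36515) (l := 7) rfl N36515 D128068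
theorem N66922 : nd 66922 = n128073 := ndS (p := 36518) (l := 5) rfl N36518 D128073
theorem N66923 : nd 66923 = n128079 := ndS (p := 36519) (l := 5) rfl N36519 D128079
theorem N66924 : nd 66924 = n128083 := ndS (p := 36521) (l := 5) rfl N36521 D128083
theorem N66925 : nd 66925 = n128085 := ndS (p := 36522) (l := 3) rfl N36522 D128085
theorem N66926 : nd 66926 = n128086 := ndS (p := 36522) (l := 5) rfl N36522 D128086
theorem N66927 : nd 66927 = n128087 := ndS (p := 36522) (l := 6) rfl N36522 D128087
theorem N66928 : nd 66928 = n128088 := ndS (p := 36523) (l := 0) rfl N36523 D128088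
theorem N66929 : nd 66929 = n128089 := ndS (p := 36523) (l := 1) rfl N36523 D128089
theorem N66930 : nd 66930 = n128090 := ndS (p := 36523) (l := 4) rfl N36523 D128090
theorem N66931 : nd 66931 = n128091 := ndS (p := 36523) (l := 7) rfl N36523 D128091
theorem N66932 : nd 66932 = n128092 := ndS (p := 36525) (l := 0) rfl N36525 D128092
theorem N66933 : nd 66933 = n128093 := ndS (p := 36525) (l := 6) rfl N36525 D128093
theorem N66934 : nd 66934 = n128096 := ndS (p := 36528) (l := 5) rfl N36528 D128096
theorem N66935 : nd 66935 = n128101 := ndS (p := 36530) (l := 7) rfl N36530 D128101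
theorem N66936 : nd 66936 = n128102 := ndS (p := 36531) (l := 3) rfl N36531 D128102
theorem N66937 : nd 66937 = n128103 := ndS (p := 36531) (l := 6) rfl N36531 D128103
theorem N66938 : nd 66938 = n128104 := ndS (p := 36532) (l := 3) rfl N36532 D128104
theorem N66939 : nd 66939 = n128105 := ndS (p := 36532) (l := 6) rfl N36532 D128105
theorem N66940 : nd 66940 = n128106 := ndS (p := 36533) (l := 0) rfl N36533 D128106
theorem N66941 : nd 66941 = n128110 := ndS (p := 36534) (l := 3) rfl N36534 D128110
theorem N66942 : nd 66942 = n128116 := ndS (p := 36536) (l := 0) rfl N36536 D128116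
theorem N66943 : nd 66943 = n128117 := ndS (p := 36536) (l := 1) rfl N36536 D128117
theorem N66944 : nd 66944 = n128118 := ndS (p := 36536) (l := 4) rfl N36536 D128118
theorem N66945 : nd 66945 = n128119 := ndS (p := 36536) (l := 7) rfl N36536 D128119
theorem N66946 : nd 66946 = n128121 := ndS (p := 36538) (l := 5) rfl N36538 D128121
theorem N66947 : nd 66947 = n128123 := ndS (p := 36539) (l := 4) rfl N36539 D128123
theorem N66948 : nd 66948 = n128125 := ndS (p := 36540) (l := 4) rfl N36540 D128125
theorem N66949 : nd 66949 = n128126 := ndS (p := 36540) (l := 5) rfl N36540 D128126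
theorem N66950 : nd 66950 = n128127 := ndS (p := 36541) (l := 0) rfl N36541 D128127
theorem N66951 : nd 66951 = n128128 := ndS (p := 36541) (l := 1) rfl N36541 D128128
theorem N66952 : nd 66952 = n128129 := ndS (p := 36541) (l := 5) rfl N36541 D128129
theorem N66953 : nd 66953 = n128130 := ndS (p := 36541) (l := 7) rfl N36541 D128130
theorem N66954 : nd 66954 = n128131 := ndS (p := 36542) (l := 6) rfl N36542 D128131
theorem N66955 : nd 66955 = n128132 := ndS (p := 36543) (l := 6) rfl N36543 D128132
theorem N66956 : nd 66956 = n128133 := ndS (p := 36544) (l := 5) rfl N36544 D128133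
theorem N66957 : nd 66957 = n128134 := ndS (p := 36545) (l := 5) rfl N36545 D128134
theorem N66958 : nd 66958 = n128137 := ndS (p := 36548) (l := 6) rfl N36548 D128137
theorem N66959 : nd 66959 = n128140 := ndS (p := 36550) (l := 0) rfl N36550 D128140
theorem N66960 : nd 66960 = n128143 := ndS (p := 36551) (l := 0) rfl N36551 D128143
theorem N66961 : nd 66961 = n128144 := ndS (p := 36551) (l := 1) rfl N36551 D128144
theorem N66962 : nd 66962 = n128146 := ndS (p := 36551) (l := 7) rfl N36551 D128146
theorem N66963 : nd 66963 = n128148 := ndS (p := 36552) (l := 5) rfl N36552 D128148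
theorem N66964 : nd 66964 = n128149 := ndS (p := 36552) (l := 6) rfl N36552 D128149
theorem N66965 : nd 66965 = n128150 := ndS (p := 36553) (l := 3) rfl N36553 D128150
theorem N66966 : nd 66966 = n128151 := ndS (p := 36553) (l := 5) rfl N36553 D128151
theorem N66967 : nd 66967 = n128154 := ndS (p := 36554) (l := 1) rfl N36554 D128154
theorem N66968 : nd 66968 = n128155 := ndS (p := 36554) (l := 4) rfl N36554 D128155
theorem N66969 : nd 66969 = n128156 := ndS (p := 36554) (l := 7) rfl N36554 D128156
theorem N66970 : nd 66970 = n128157 := ndS (p := 36556) (l := 3) rfl N36556 D128157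
theorem N66971 : nd 66971 = n128158 := ndS (p := 36556) (l := 5) rfl N36556 D128158
theorem N66972 : nd 66972 = n128163 := ndS (p := 36559) (l := 6) rfl N36559 D128163
theorem N66973 : nd 66973 = n128164 := ndS (p := 36560) (l := 3) rfl N36560 D128164
theorem N66974 : nd 66974 = n128165 := ndS (p := 36560) (l := 6) rfl N36560 D128165
theorem N66975 : nd 66975 = n128166 := ndS (p := 36561) (l := 6) rfl N36561 D128166
theorem N66976 : nd 66976 = n128167 := ndS (p := 36562) (l := 6) rfl N36562 D128167
theorem N66977 : nd 66977 = n128168 := ndS (p := 36563) (l := 0) rfl N36563 D128168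
theorem N66978 : nd 66978 = n128169 := ndS (p := 36563) (l := 1) rfl N36563 D128169
theorem N66979 : nd 66979 = n128170 := ndS (p := 36563) (l := 5) rfl N36563 D128170
theorem N66980 : nd 66980 = n128171 := ndS (p := 36563) (l := 7) rfl N36563 D128171
theorem N66981 : nd 66981 = n128172 := ndS (p := 36564) (l := 0) rfl N36564 D128172
theorem N66982 : nd 66982 = n128173 := ndS (p := 36564) (l := 1) rfl N36564 D128173
theorem N66983 : nd 66983 = n128174 := ndS (p := 36564) (l := 5) rfl N36564 D128174
theorem N66984 : nd 66984 = n128175 := ndS (p := 36564) (l := 7) rfl N36564 D128175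
theorem N66985 : nd 66985 = n128176 := ndS (p := 36565) (l := 0) rfl N36565 D128176
theorem N66986 : nd 66986 = n128177 := ndS (p := 36565) (l := 1) rfl N36565 D128177
theorem N66987 : nd 66987 = n128178 := ndS (p := 36565) (l := 4) rfl N36565 D128178
theorem N66988 : nd 66988 = n128179 := ndS (p := 36565) (l := 7) rfl N36565 D128179
theorem N66989 : nd 66989 = n128182 := ndS (p := 36568) (l := 6) rfl N36568 D128182
theorem N66990 : nd 66990 = n128191 := ndS (p := 36571) (l := 7) rfl N36571 D128191
theorem N66991 : nd 66991 = n128197 := ndS (p := 36575) (l := 0) rfl N36575 D128197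
theorem N66992 : nd 66992 = n128198 := ndS (p := 36575) (l := 1) rfl N36575 D128198
theorem N66993 : nd 66993 = n128200 := ndS (p := 36575) (l := 7) rfl N36575 D128200
theorem N66994 : nd 66994 = n128201 := ndS (p := 36576) (l := 6) rfl N36576 D128201
theorem N66995 : nd 66995 = n128205 := ndS (p := 36577) (l := 7) rfl N36577 D128205
theorem N66996 : nd 66996 = n128208 := ndS (p := 36578) (l := 4) rfl N36578 D128208
theorem N66997 : nd 66997 = n128210 := ndS (p := 36578) (l := 6) rfl N36578 D128210
theorem N66998 : nd 66998 = n128212 := ndS (p := 36579) (l := 3) rfl N36579 D128212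
theorem N66999 : nd 66999 = n128213 := ndS (p := 36579) (l := 4) rfl N36579 D128213
theorem N67000 : nd 67000 = n128215 := ndS (p := 36579) (l := 6) rfl N36579 D128215
theorem N67001 : nd 67001 = n128216 := ndS (p := 36580) (l := 0) rfl N36580 D128216
theorem N67002 : nd 67002 = n128217 := ndS (p := 36580) (l := 1) rfl N36580 D128217
theorem N67003 : nd 67003 = n128218 := ndS (p := 36580) (l := 4) rfl N36580 D128218
theorem N67004 : nd 67004 = n128219 := ndS (p := 36580) (l := 7) rfl N36580 D128219
theorem N67005 : nd 67005 = n128220 := ndS (p := 36581) (l := 6) rfl N36581 D128220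
theorem N67006 : nd 67006 = n128221 := ndS (p := 36582) (l := 0) rfl N36582 D128221
theorem N67007 : nd 67007 = n128222 := ndS (p := 36582) (l := 1) rfl N36582 D128222
theorem N67008 : nd 67008 = n128223 := ndS (p := 36582) (l := 5) rfl N36582 D128223
theorem N67009 : nd 67009 = n128224 := ndS (p := 36583) (l := 0) rfl N36583 D128224
theorem N67010 : nd 67010 = n128226 := ndS (p := 36583) (l := 2) rfl N36583 D128226
theorem N67011 : nd 67011 = n128228 := ndS (p := 36583) (l := 6) rfl N36583 D128228
theorem N67012 : nd 67012 = n128229 := ndS (p := 36584) (l := 0) rfl N36584 D128229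
theorem N67013 : nd 67013 = n128230 := ndS (p := 36584) (l := 1) rfl N36584 D128230
theorem N67014 : nd 67014 = n128231 := ndS (p := 36584) (l := 4) rfl N36584 D128231
theorem N67015 : nd 67015 = n128235 := ndS (p := 36585) (l := 5) rfl N36585 D128235
theorem N67016 : nd 67016 = n128238 := ndS (p := 36586) (l := 1) rfl N36586 D128238
theorem N67017 : nd 67017 = n128239 := ndS (p := 36586) (l := 2) rfl N36586 D128239
theorem N67018 : nd 67018 = n128240 := ndS (p := 36586) (l := 5) rfl N36586 D128240
theorem N67019 : nd 67019 = n128242 := ndS (p := 36587) (l := 4) rfl N36587 D128242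
theorem N67020 : nd 67020 = n128243 := ndS (p := 36587) (l := 6) rfl N36587 D128243
theorem N67021 : nd 67021 = n128249 := ndS (p := 36588) (l := 3) rfl N36588 D128249
theorem N67022 : nd 67022 = n128250 := ndS (p := 36588) (l := 4) rfl N36588 D128250
theorem N67023 : nd 67023 = n128251 := ndS (p := 36588) (l := 5) rfl N36588 D128251
theorem N67024 : nd 67024 = n128254 := ndS (p := 36589) (l := 3) rfl N36589 D128254
theorem N67025 : nd 67025 = n128255 := ndS (p := 36589) (l := 4) rfl N36589 D128255
theorem N67026 : nd 67026 = n128256 := ndS (p := 36589) (l := 5) rfl N36589 D128256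
theorem N67027 : nd 67027 = n128257 := ndS (p := 36589) (l := 6) rfl N36589 D128257
theorem N67028 : nd 67028 = n128259 := ndS (p := 36590) (l := 1) rfl N36590 D128259
theorem N67029 : nd 67029 = n128260 := ndS (p := 36590) (l := 3) rfl N36590 D128260
theorem N67030 : nd 67030 = n128261 := ndS (p := 36590) (l := 5) rfl N36590 D128261
theorem N67031 : nd 67031 = n128262 := ndS (p := 36590) (l := 7) rfl N36590 D128262
theorem N67032 : nd 67032 = n128267 := ndS (p := 36593) (l := 3) rfl N36593 D128267
theorem N67033 : nd 67033 = n128268 := ndS (p := 36593) (l := 5) rfl N36593 D128268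
theorem N67034 : nd 67034 = n128269 := ndS (p := 36593) (l := 6) rfl N36593 D128269
theorem N67035 : nd 67035 = n128270 := ndS (p := 36594) (l := 0) rfl N36594 D128270
theorem N67036 : nd 67036 = n128271 := ndS (p := 36594) (l := 1) rfl N36594 D128271
theorem N67037 : nd 67037 = n128272 := ndS (p := 36594) (l := 4) rfl N36594 D128272
theorem N67038 : nd 67038 = n128273 := ndS (p := 36596) (l := 0) rfl N36596 D128273
theorem N67039 : nd 67039 = n128274 := ndS (p := 36596) (l := 1) rfl N36596 D128274
theorem N67040 : nd 67040 = n128275 := ndS (p := 36596) (l := 4) rfl N36596 D128275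
theorem N67041 : nd 67041 = n128278 := ndS (p := 36597) (l := 1) rfl N36597 D128278
theorem N67042 : nd 67042 = n128280 := ndS (p := 36597) (l := 7) rfl N36597 D128280
theorem N67043 : nd 67043 = n128281 := ndS (p := 36598) (l := 3) rfl N36598 D128281
theorem N67044 : nd 67044 = n128282 := ndS (p := 36598) (l := 5) rfl N36598 D128282
theorem N67045 : nd 67045 = n128286 := ndS (p := 36599) (l := 5) rfl N36599 D128286
theorem N67046 : nd 67046 = n128287 := ndS (p := 36599) (l := 6) rfl N36599 D128287
theorem N67047 : nd 67047 = n128288 := ndS (p := 36600) (l := 0) rfl N36600 D128288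
theorem N67048 : nd 67048 = n128290 := ndS (p := 36600) (l := 4) rfl N36600 D128290
theorem N67049 : nd 67049 = n128291 := ndS (p := 36600) (l := 6) rfl N36600 D128291
theorem N67050 : nd 67050 = n128293 := ndS (p := 36601) (l := 5) rfl N36601 D128293
theorem N67051 : nd 67051 = n128296 := ndS (p := 36602) (l := 6) rfl N36602 D128296
theorem N67052 : nd 67052 = n128308 := ndS (p := 36606) (l := 5) rfl N36606 D128308
theorem N67053 : nd 67053 = n128313 := ndS (p := 36608) (l := 0) rfl N36608 D128313
theorem N67054 : nd 67054 = n128314 := ndS (p := 36608) (l := 1) rfl N36608 D128314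
theorem N67055 : nd 67055 = n128316 := ndS (p := 36608) (l := 6) rfl N36608 D128316
theorem N67056 : nd 67056 = n128325 := ndS (p := 36609) (l := 4) rfl N36609 D128325
theorem N67057 : nd 67057 = n128326 := ndS (p := 36609) (l := 6) rfl N36609 D128326
theorem N67058 : nd 67058 = n128334 := ndS (p := 36610) (l := 5) rfl N36610 D128334
theorem N67059 : nd 67059 = n128336 := ndS (p := 36612) (l := 5) rfl N36612 D128336
theorem N67060 : nd 67060 = n128337 := ndS (p := 36612) (l := 6) rfl N36612 D128337
theorem N67061 : nd 67061 = n128342 := ndS (p := 36613) (l := 6) rfl N36613 D128342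
theorem N67062 : nd 67062 = n128343 := ndS (p := 36614) (l := 5) rfl N36614 D128343
theorem N67063 : nd 67063 = n128345 := ndS (p := 36615) (l := 6) rfl N36615 D128345
theorem N67064 : nd 67064 = n128361 := ndS (p := 36620) (l := 3) rfl N36620 D128361
theorem N67065 : nd 67065 = n128362 := ndS (p := 36620) (l := 5) rfl N36620 D128362
theorem N67066 : nd 67066 = n128363 := ndS (p := 36621) (l := 4) rfl N36621 D128363
theorem N67067 : nd 67067 = n128365 := ndS (p := 36622) (l := 3) rfl N36622 D128365
theorem N67068 : nd 67068 = n128370 := ndS (p := 36623) (l := 6) rfl N36623 D128370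
theorem N67069 : nd 67069 = n128371 := ndS (p := 36624) (l := 3) rfl N36624 D128371
theorem N67070 : nd 67070 = n128372 := ndS (p := 36624) (l := 5) rfl N36624 D128372
theorem N67071 : nd 67071 = n128373 := ndS (p := 36624) (l := 6) rfl N36624 D128373
theorem N67072 : nd 67072 = n128374 := ndS (p := 36625) (l := 0) rfl N36625 D128374
theorem N67073 : nd 67073 = n128375 := ndS (p := 36625) (l := 1) rfl N36625 D128375
theorem N67074 : nd 67074 = n128376 := ndS (p := 36625) (l := 7) rfl N36625 D128376
theorem N67075 : nd 67075 = n128377 := ndS (p := 36626) (l := 3) rfl N36626 D128377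
theorem N67076 : nd 67076 = n128378 := ndS (p := 36626) (l := 5) rfl N36626 D128378
theorem N67077 : nd 67077 = n128379 := ndS (p := 36626) (l := 6) rfl N36626 D128379
theorem N67078 : nd 67078 = n128380 := ndS (p := 36627) (l := 0) rfl N36627 D128380
theorem N67079 : nd 67079 = n128381 := ndS (p := 36627) (l := 1) rfl N36627 D128381
theorem N67080 : nd 67080 = n128382 := ndS (p := 36627) (l := 7) rfl N36627 D128382
theorem N67081 : nd 67081 = n128383 := ndS (p := 36628) (l := 3) rfl N36628 D128383
theorem N67082 : nd 67082 = n128384 := ndS (p := 36628) (l := 5) rfl N36628 D128384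
theorem N67083 : nd 67083 = n128385 := ndS (p := 36628) (l := 6) rfl N36628 D128385
theorem N67084 : nd 67084 = n128386 := ndS (p := 36629) (l := 3) rfl N36629 D128386
theorem N67085 : nd 67085 = n128387 := ndS (p := 36629) (l := 5) rfl N36629 D128387
theorem N67086 : nd 67086 = n128388 := ndS (p := 36630) (l := 0) rfl N36630 D128388
theorem N67087 : nd 67087 = n128389 := ndS (p := 36630) (l := 1) rfl N36630 D128389
theorem N67088 : nd 67088 = n128390 := ndS (p := 36630) (l := 2) rfl N36630 D128390
theorem N67089 : nd 67089 = n128391 := ndS (p := 36630) (l := 5) rfl N36630 D128391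
theorem N67090 : nd 67090 = n128392 := ndS (p := 36631) (l := 6) rfl N36631 D128392
theorem N67091 : nd 67091 = n128412 := ndS (p := 36636) (l := 3) rfl N36636 D128412
theorem N67092 : nd 67092 = n128432 := ndS (p := 36640) (l := 5) rfl N36640 D128432
theorem N67093 : nd 67093 = n128452 := ndS (p := 36642) (l := 3) rfl N36642 D128452
theorem N67094 : nd 67094 = n128454 := ndS (p := 36642) (l := 5) rfl N36642 D128454
theorem N67095 : nd 67095 = n128455 := ndS (p := 36643) (l := 4) rfl N36643 D128455
theorem N67096 : nd 67096 = n128456 := ndS (p := 36643) (l := 6) rfl N36643 D128456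
theorem N67097 : nd 67097 = n128459 := ndS (p := 36644) (l := 3) rfl N36644 D128459
theorem N67098 : nd 67098 = n128460 := ndS (p := 36644) (l := 5) rfl N36644 D128460
theorem N67099 : nd 67099 = n128484 := ndS (p := 36648) (l := 5) rfl N36648 D128484
theorem N67100 : nd 67100 = n128485 := ndS (p := 36649) (l := 6) rfl N36649 D128485
theorem N67101 : nd 67101 = n128487 := ndS (p := 36650) (l := 3) rfl N36650 D128487
theorem N67102 : nd 67102 = n128489 := ndS (p := 36650) (l := 5) rfl N36650 D128489
theorem N67103 : nd 67103 = n128494 := ndS (p := 36653) (l := 1) rfl N36653 D128494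
theorem N67104 : nd 67104 = n128495 := ndS (p := 36653) (l := 5) rfl N36653 D128495
theorem N67105 : nd 67105 = n128496 := ndS (p := 36653) (l := 6) rfl N36653 D128496
theorem N67106 : nd 67106 = n128501 := ndS (p := 36657) (l := 3) rfl N36657 D128501
theorem N67107 : nd 67107 = n128502 := ndS (p := 36657) (l := 4) rfl N36657 D128502
theorem N67108 : nd 67108 = n128503 := ndS (p := 36657) (l := 5) rfl N36657 D128503
theorem N67109 : nd 67109 = n128506 := ndS (p := 36658) (l := 3) rfl N36658 D128506
theorem N67110 : nd 67110 = n128507 := ndS (p := 36658) (l := 4) rfl N36658 D128507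
theorem N67111 : nd 67111 = n128508 := ndS (p := 36658) (l := 5) rfl N36658 D128508
theorem N67112 : nd 67112 = n128509 := ndS (p := 36658) (l := 6) rfl N36658 D128509
theorem N67113 : nd 67113 = n128510 := ndS (p := 36659) (l := 5) rfl N36659 D128510
theorem N67114 : nd 67114 = n128511 := ndS (p := 36660) (l := 0) rfl N36660 D128511
theorem N67115 : nd 67115 = n128512 := ndS (p := 36660) (l := 1) rfl N36660 D128512
theorem N67116 : nd 67116 = n128513 := ndS (p := 36660) (l := 4) rfl N36660 D128513
theorem N67117 : nd 67117 = n128514 := ndS (p := 36660) (l := 6) rfl N36660 D128514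
theorem N67118 : nd 67118 = n128515 := ndS (p := 36666) (l := 0) rfl N36666 D128515
theorem N67119 : nd 67119 = n128516 := ndS (p := 36666) (l := 3) rfl N36666 D128516
theorem N67120 : nd 67120 = n128517 := ndS (p := 36666) (l := 6) rfl N36666 D128517
theorem N67121 : nd 67121 = n128518 := ndS (p := 36667) (l := 0) rfl N36667 D128518
theorem N67122 : nd 67122 = n128520 := ndS (p := 36667) (l := 7) rfl N36667 D128520
theorem N67123 : nd 67123 = n128521 := ndS (p := 36669) (l := 7) rfl N36669 D128521
theorem N67124 : nd 67124 = n128522 := ndS (p := 36670) (l := 7) rfl N36670 D128522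
theorem N67125 : nd 67125 = n128525 := ndS (p := 36671) (l := 2) rfl N36671 D128525
theorem N67126 : nd 67126 = n128526 := ndS (p := 36671) (l := 5) rfl N36671 D128526
theorem N67127 : nd 67127 = n128528 := ndS (p := 36672) (l := 6) rfl N36672 D128528
theorem N67128 : nd 67128 = n128530 := ndS (p := 36673) (l := 7) rfl N36673 D128530
theorem N67129 : nd 67129 = n128531 := ndS (p := 36674) (l := 1) rfl N36674 D128531
theorem N67130 : nd 67130 = n128532 := ndS (p := 36674) (l := 2) rfl N36674 D128532
theorem N67131 : nd 67131 = n128533 := ndS (p := 36674) (l := 5) rfl N36674 D128533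
theorem N67132 : nd 67132 = n128534 := ndS (p := 36674) (l := 6) rfl N36674 D128534
theorem N67133 : nd 67133 = n128535 := ndS (p := 36675) (l := 6) rfl N36675 D128535
theorem N67134 : nd 67134 = n128536 := ndS (p := 36676) (l := 5) rfl N36676 D128536
theorem N67135 : nd 67135 = n128537 := ndS (p := 36676) (l := 7) rfl N36676 D128537
theorem N67136 : nd 67136 = n128539 := ndS (p := 36677) (l := 3) rfl N36677 D128539
theorem N67137 : nd 67137 = n128540 := ndS (p := 36677) (l := 4) rfl N36677 D128540
theorem N67138 : nd 67138 = n128542 := ndS (p := 36677) (l := 6) rfl N36677 D128542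
theorem N67139 : nd 67139 = n128544 := ndS (p := 36678) (l := 3) rfl N36678 D128544
theorem N67140 : nd 67140 = n128545 := ndS (p := 36678) (l := 4) rfl N36678 D128545
theorem N67141 : nd 67141 = n128547 := ndS (p := 36678) (l := 6) rfl N36678 D128547
theorem N67142 : nd 67142 = n128553 := ndS (p := 36681) (l := 3) rfl N36681 D128553
theorem N67143 : nd 67143 = n128557 := ndS (p := 36683) (l := 0) rfl N36683 D128557
theorem N67144 : nd 67144 = n128558 := ndS (p := 36683) (l := 1) rfl N36683 D128558
theorem N67145 : nd 67145 = n128560 := ndS (p := 36684) (l := 0) rfl N36684 D128560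
theorem N67146 : nd 67146 = n128561 := ndS (p := 36684) (l := 1) rfl N36684 D128561
theorem N67147 : nd 67147 = n128562 := ndS (p := 36684) (l := 2) rfl N36684 D128562
theorem N67148 : nd 67148 = n128563 := ndS (p := 36684) (l := 5) rfl N36684 D128563
theorem N67149 : nd 67149 = n128564 := ndS (p := 36685) (l := 6) rfl N36685 D128564
theorem N67150 : nd 67150 = n128565 := ndS (p := 36686) (l := 6) rfl N36686 D128565
theorem N67151 : nd 67151 = n128566 := ndS (p := 36687) (l := 5) rfl N36687 D128566
theorem N67152 : nd 67152 = n128567 := ndS (p := 36687) (l := 7) rfl N36687 D128567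
theorem N67153 : nd 67153 = n128569 := ndS (p := 36688) (l := 5) rfl N36688 D128569
theorem N67154 : nd 67154 = n128571 := ndS (p := 36689) (l := 5) rfl N36689 D128571
theorem N67155 : nd 67155 = n128572 := ndS (p := 36689) (l := 6) rfl N36689 D128572
theorem N67156 : nd 67156 = n128573 := ndS (p := 36690) (l := 5) rfl N36690 D128573
theorem N67157 : nd 67157 = n128574 := ndS (p := 36691) (l := 0) rfl N36691 D128574
theorem N67158 : nd 67158 = n128575 := ndS (p := 36691) (l := 1) rfl N36691 D128575
theorem N67159 : nd 67159 = n128576 := ndS (p := 36691) (l := 4) rfl N36691 D128576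
theorem N67160 : nd 67160 = n128577 := ndS (p := 36691) (l := 6) rfl N36691 D128577
theorem N67161 : nd 67161 = n128580 := ndS (p := 36693) (l := 0) rfl N36693 D128580
theorem N67162 : nd 67162 = n128581 := ndS (p := 36693) (l := 1) rfl N36693 D128581
theorem N67163 : nd 67163 = n128582 := ndS (p := 36693) (l := 7) rfl N36693 D128582
theorem N67164 : nd 67164 = n128583 := ndS (p := 36694) (l := 3) rfl N36694 D128583
theorem N67165 : nd 67165 = n128584 := ndS (p := 36695) (l := 3) rfl N36695 D128584
theorem N67166 : nd 67166 = n128585 := ndS (p := 36696) (l := 0) rfl N36696 D128585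
theorem N67167 : nd 67167 = n128586 := ndS (p := 36696) (l := 1) rfl N36696 D128586
theorem N67168 : nd 67168 = n128587 := ndS (p := 36696) (l := 2) rfl N36696 D128587
theorem N67169 : nd 67169 = n128588 := ndS (p := 36696) (l := 5) rfl N36696 D128588
theorem N67170 : nd 67170 = n128590 := ndS (p := 36698) (l := 0) rfl N36698 D128590
theorem N67171 : nd 67171 = n128591 := ndS (p := 36698) (l := 1) rfl N36698 D128591
theorem N67172 : nd 67172 = n128592 := ndS (p := 36698) (l := 2) rfl N36698 D128592
theorem N67173 : nd 67173 = n128593 := ndS (p := 36698) (l := 5) rfl N36698 D128593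
theorem N67174 : nd 67174 = n128594 := ndS (p := 36698) (l := 6) rfl N36698 D128594
theorem N67175 : nd 67175 = n128595 := ndS (p := 36699) (l := 6) rfl N36699 D128595
theorem N67176 : nd 67176 = n128598 := ndS (p := 36701) (l := 1) rfl N36701 D128598
theorem N67177 : nd 67177 = n128599 := ndS (p := 36701) (l := 2) rfl N36701 D128599
theorem N67178 : nd 67178 = n128600 := ndS (p := 36701) (l := 5) rfl N36701 D128600
theorem N67179 : nd 67179 = n128601 := ndS (p := 36701) (l := 6) rfl N36701 D128601
theorem N67180 : nd 67180 = n128602 := ndS (p := 36702) (l := 6) rfl N36702 D128602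
theorem N67181 : nd 67181 = n128603 := ndS (p := 36703) (l := 0) rfl N36703 D128603
theorem N67182 : nd 67182 = n128604 := ndS (p := 36703) (l := 1) rfl N36703 D128604
theorem N67183 : nd 67183 = n128605 := ndS (p := 36703) (l := 5) rfl N36703 D128605
theorem N67184 : nd 67184 = n128606 := ndS (p := 36703) (l := 7) rfl N36703 D128606
theorem N67185 : nd 67185 = n128607 := ndS (p := 36704) (l := 4) rfl N36704 D128607
theorem N67186 : nd 67186 = n128608 := ndS (p := 36704) (l := 6) rfl N36704 D128608
theorem N67187 : nd 67187 = n128609 := ndS (p := 36706) (l := 0) rfl N36706 D128609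
theorem N67188 : nd 67188 = n128610 := ndS (p := 36706) (l := 1) rfl N36706 D128610
theorem N67189 : nd 67189 = n128611 := ndS (p := 36706) (l := 2) rfl N36706 D128611
theorem N67190 : nd 67190 = n128612 := ndS (p := 36706) (l := 5) rfl N36706 D128612
theorem N67191 : nd 67191 = n128613 := ndS (p := 36706) (l := 6) rfl N36706 D128613
theorem N67192 : nd 67192 = n128614 := ndS (p := 36707) (l := 6) rfl N36707 D128614
theorem N67193 : nd 67193 = n128615 := ndS (p := 36708) (l := 5) rfl N36708 D128615
theorem N67194 : nd 67194 = n128616 := ndS (p := 36708) (l := 7) rfl N36708 D128616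
theorem N67195 : nd 67195 = n128617 := ndS (p := 36709) (l := 0) rfl N36709 D128617
theorem N67196 : nd 67196 = n128618 := ndS (p := 36709) (l := 1) rfl N36709 D128618
theorem N67197 : nd 67197 = n128619 := ndS (p := 36709) (l := 2) rfl N36709 D128619
theorem N67198 : nd 67198 = n128620 := ndS (p := 36709) (l := 5) rfl N36709 D128620
theorem N67199 : nd 67199 = n128621 := ndS (p := 36709) (l := 6) rfl N36709 D128621
theorem N67200 : nd 67200 = n128622 := ndS (p := 36710) (l := 6) rfl N36710 D128622
theorem N67201 : nd 67201 = n128624 := ndS (p := 36711) (l := 7) rfl N36711 D128624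
theorem N67202 : nd 67202 = n128625 := ndS (p := 36712) (l := 0) rfl N36712 D128625
theorem N67203 : nd 67203 = n128626 := ndS (p := 36712) (l := 2) rfl N36712 D128626
theorem N67204 : nd 67204 = n128628 := ndS (p := 36712) (l := 4) rfl N36712 D128628
theorem N67205 : nd 67205 = n128630 := ndS (p := 36712) (l := 6) rfl N36712 D128630
theorem N67206 : nd 67206 = n128631 := ndS (p := 36712) (l := 7) rfl N36712 D128631
theorem N67207 : nd 67207 = n128632 := ndS (p := 36713) (l := 3) rfl N36713 D128632
theorem N67208 : nd 67208 = n128633 := ndS (p := 36713) (l := 4) rfl N36713 D128633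
theorem N67209 : nd 67209 = n128634 := ndS (p := 36713) (l := 5) rfl N36713 D128634
theorem N67210 : nd 67210 = n128635 := ndS (p := 36713) (l := 6) rfl N36713 D128635
theorem N67211 : nd 67211 = n128638 := ndS (p := 36714) (l := 5) rfl N36714 D128638
theorem N67212 : nd 67212 = n128639 := ndS (p := 36715) (l := 0) rfl N36715 D128639
theorem N67213 : nd 67213 = n128640 := ndS (p := 36715) (l := 1) rfl N36715 D128640
theorem N67214 : nd 67214 = n128641 := ndS (p := 36715) (l := 4) rfl N36715 D128641
theorem N67215 : nd 67215 = n128643 := ndS (p := 36716) (l := 6) rfl N36716 D128643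
theorem N67216 : nd 67216 = n128644 := ndS (p := 36717) (l := 3) rfl N36717 D128644
theorem N67217 : nd 67217 = n128646 := ndS (p := 36718) (l := 3) rfl N36718 D128646
theorem N67218 : nd 67218 = n128647 := ndS (p := 36718) (l := 6) rfl N36718 D128647
theorem N67219 : nd 67219 = n128648 := ndS (p := 36719) (l := 0) rfl N36719 D128648
theorem N67220 : nd 67220 = n128649 := ndS (p := 36719) (l := 1) rfl N36719 D128649
theorem N67221 : nd 67221 = n128650 := ndS (p := 36719) (l := 7) rfl N36719 D128650
theorem N67222 : nd 67222 = n128651 := ndS (p := 36720) (l := 5) rfl N36720 D128651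
theorem N67223 : nd 67223 = n128653 := ndS (p := 36722) (l := 0) rfl N36722 D128653
theorem N67224 : nd 67224 = n128654 := ndS (p := 36722) (l := 1) rfl N36722 D128654
theorem N67225 : nd 67225 = n128655 := ndS (p := 36722) (l := 7) rfl N36722 D128655
theorem N67226 : nd 67226 = n128656 := ndS (p := 36724) (l := 3) rfl N36724 D128656
theorem N67227 : nd 67227 = n128657 := ndS (p := 36725) (l := 0) rfl N36725 D128657
theorem N67228 : nd 67228 = n128658 := ndS (p := 36725) (l := 1) rfl N36725 D128658
theorem N67229 : nd 67229 = n128659 := ndS (p := 36725) (l := 2) rfl N36725 D128659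
theorem N67230 : nd 67230 = n128660 := ndS (p := 36725) (l := 5) rfl N36725 D128660
theorem N67231 : nd 67231 = n128663 := ndS (p := 36727) (l := 5) rfl N36727 D128663
theorem N67232 : nd 67232 = n128664 := ndS (p := 36727) (l := 7) rfl N36727 D128664
theorem N67233 : nd 67233 = n128665 := ndS (p := 36729) (l := 6) rfl N36729 D128665
theorem N67234 : nd 67234 = n128666 := ndS (p := 36731) (l := 0) rfl N36731 D128666
theorem N67235 : nd 67235 = n128667 := ndS (p := 36731) (l := 1) rfl N36731 D128667
theorem N67236 : nd 67236 = n128668 := ndS (p := 36731) (l := 2) rfl N36731 D128668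
theorem N67237 : nd 67237 = n128669 := ndS (p := 36731) (l := 6) rfl N36731 D128669
theorem N67238 : nd 67238 = n128671 := ndS (p := 36732) (l := 7) rfl N36732 D128671
theorem N67239 : nd 67239 = n128672 := ndS (p := 36734) (l := 0) rfl N36734 D128672
theorem N67240 : nd 67240 = n128673 := ndS (p := 36734) (l := 1) rfl N36734 D128673
theorem N67241 : nd 67241 = n128674 := ndS (p := 36734) (l := 2) rfl N36734 D128674
theorem N67242 : nd 67242 = n128675 := ndS (p := 36734) (l := 5) rfl N36734 D128675
theorem N67243 : nd 67243 = n128676 := ndS (p := 36734) (l := 6) rfl N36734 D128676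
theorem N67244 : nd 67244 = n128677 := ndS (p := 36735) (l := 6) rfl N36735 D128677
theorem N67245 : nd 67245 = n128678 := ndS (p := 36736) (l := 0) rfl N36736 D128678
theorem N67246 : nd 67246 = n128679 := ndS (p := 36736) (l := 1) rfl N36736 D128679
theorem N67247 : nd 67247 = n128680 := ndS (p := 36736) (l := 5) rfl N36736 D128680
theorem N67248 : nd 67248 = n128681 := ndS (p := 36736) (l := 7) rfl N36736 D128681
theorem N67249 : nd 67249 = n128682 := ndS (p := 36737) (l := 3) rfl N36737 D128682
theorem N67250 : nd 67250 = n128683 := ndS (p := 36737) (l := 4) rfl N36737 D128683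
theorem N67251 : nd 67251 = n128685 := ndS (p := 36738) (l := 4) rfl N36738 D128685
theorem N67252 : nd 67252 = n128686 := ndS (p := 36740) (l := 0) rfl N36740 D128686
theorem N67253 : nd 67253 = n128687 := ndS (p := 36740) (l := 1) rfl N36740 D128687
theorem N67254 : nd 67254 = n128688 := ndS (p := 36740) (l := 2) rfl N36740 D128688
theorem N67255 : nd 67255 = n128689 := ndS (p := 36740) (l := 5) rfl N36740 D128689
theorem N67256 : nd 67256 = n128690 := ndS (p := 36740) (l := 6) rfl N36740 D128690
theorem N67257 : nd 67257 = n128691 := ndS (p := 36741) (l := 6) rfl N36741 D128691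
theorem N67258 : nd 67258 = n128692 := ndS (p := 36742) (l := 5) rfl N36742 D128692
theorem N67259 : nd 67259 = n128693 := ndS (p := 36743) (l := 0) rfl N36743 D128693
theorem N67260 : nd 67260 = n128694 := ndS (p := 36743) (l := 1) rfl N36743 D128694
theorem N67261 : nd 67261 = n128697 := ndS (p := 36743) (l := 6) rfl N36743 D128697
theorem N67262 : nd 67262 = n128700 := ndS (p := 36745) (l := 5) rfl N36745 D128700
theorem N67263 : nd 67263 = n128701 := ndS (p := 36745) (l := 7) rfl N36745 D128701
theorem N67264 : nd 67264 = n128710 := ndS (p := 36749) (l := 3) rfl N36749 D128710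
theorem N67265 : nd 67265 = n128711 := ndS (p := 36749) (l := 4) rfl N36749 D128711
theorem N67266 : nd 67266 = n128712 := ndS (p := 36749) (l := 5) rfl N36749 D128712
theorem N67267 : nd 67267 = n128713 := ndS (p := 36749) (l := 6) rfl N36749 D128713
theorem N67268 : nd 67268 = n128715 := ndS (p := 36750) (l := 3) rfl N36750 D128715
theorem N67269 : nd 67269 = n128716 := ndS (p := 36750) (l := 4) rfl N36750 D128716
theorem N67270 : nd 67270 = n128717 := ndS (p := 36750) (l := 5) rfl N36750 D128717
theorem N67271 : nd 67271 = n128718 := ndS (p := 36750) (l := 6) rfl N36750 D128718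
theorem N67272 : nd 67272 = n128719 := ndS (p := 36751) (l := 5) rfl N36751 D128719
theorem N67273 : nd 67273 = n128720 := ndS (p := 36751) (l := 6) rfl N36751 D128720
theorem N67274 : nd 67274 = n128721 := ndS (p := 36752) (l := 0) rfl N36752 D128721
theorem N67275 : nd 67275 = n128722 := ndS (p := 36752) (l := 1) rfl N36752 D128722
theorem N67276 : nd 67276 = n128723 := ndS (p := 36752) (l := 4) rfl N36752 D128723
theorem N67277 : nd 67277 = n128724 := ndS (p := 36752) (l := 6) rfl N36752 D128724
theorem N67278 : nd 67278 = n128726 := ndS (p := 36753) (l := 1) rfl N36753 D128726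
theorem N67279 : nd 67279 = n128728 := ndS (p := 36753) (l := 7) rfl N36753 D128728
theorem N67280 : nd 67280 = n128731 := ndS (p := 36755) (l := 0) rfl N36755 D128731
theorem N67281 : nd 67281 = n128737 := ndS (p := 36756) (l := 3) rfl N36756 D128737
theorem N67282 : nd 67282 = n128739 := ndS (p := 36756) (l := 6) rfl N36756 D128739
theorem N67283 : nd 67283 = n128747 := ndS (p := 36759) (l := 3) rfl N36759 D128747
theorem N67284 : nd 67284 = n128749 := ndS (p := 36759) (l := 6) rfl N36759 D128749
theorem N67285 : nd 67285 = n128750 := ndS (p := 36762) (l := 1) rfl N36762 D128750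
theorem N67286 : nd 67286 = n128751 := ndS (p := 36762) (l := 7) rfl N36762 D128751
theorem N67287 : nd 67287 = n128761 := ndS (p := 36767) (l := 0) rfl N36767 D128761
theorem N67288 : nd 67288 = n128762 := ndS (p := 36767) (l := 1) rfl N36767 D128762
theorem N67289 : nd 67289 = n128763 := ndS (p := 36767) (l := 2) rfl N36767 D128763
theorem N67290 : nd 67290 = n128765 := ndS (p := 36768) (l := 5) rfl N36768 D128765
theorem N67291 : nd 67291 = n128767 := ndS (p := 36770) (l := 3) rfl N36770 D128767
theorem N67292 : nd 67292 = n128769 := ndS (p := 36770) (l := 5) rfl N36770 D128769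
theorem N67293 : nd 67293 = n128770 := ndS (p := 36770) (l := 6) rfl N36770 D128770
theorem N67294 : nd 67294 = n128774 := ndS (p := 36771) (l := 5) rfl N36771 D128774
theorem N67295 : nd 67295 = n128775 := ndS (p := 36771) (l := 6) rfl N36771 D128775
theorem N67296 : nd 67296 = n128776 := ndS (p := 36772) (l := 5) rfl N36772 D128776
theorem N67297 : nd 67297 = n128778 := ndS (p := 36773) (l := 0) rfl N36773 D128778
theorem N67298 : nd 67298 = n128779 := ndS (p := 36773) (l := 1) rfl N36773 D128779
theorem N67299 : nd 67299 = n128780 := ndS (p := 36773) (l := 4) rfl N36773 D128780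
theorem N67300 : nd 67300 = n128786 := ndS (p := 36774) (l := 0) rfl N36774 D128786
theorem N67301 : nd 67301 = n128787 := ndS (p := 36774) (l := 1) rfl N36774 D128787
theorem N67302 : nd 67302 = n128789 := ndS (p := 36774) (l := 7) rfl N36774 D128789
theorem N67303 : nd 67303 = n128790 := ndS (p := 36775) (l := 3) rfl N36775 D128790
theorem N67304 : nd 67304 = n128792 := ndS (p := 36775) (l := 6) rfl N36775 D128792
theorem N67305 : nd 67305 = n128797 := ndS (p := 36777) (l := 3) rfl N36777 D128797
theorem N67306 : nd 67306 = n128799 := ndS (p := 36777) (l := 6) rfl N36777 D128799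
theorem N67307 : nd 67307 = n128800 := ndS (p := 36779) (l := 4) rfl N36779 D128800
theorem N67308 : nd 67308 = n128801 := ndS (p := 36780) (l := 4) rfl N36780 D128801
theorem N67309 : nd 67309 = n128802 := ndS (p := 36781) (l := 0) rfl N36781 D128802
theorem N67310 : nd 67310 = n128803 := ndS (p := 36781) (l := 1) rfl N36781 D128803
theorem N67311 : nd 67311 = n128804 := ndS (p := 36781) (l := 3) rfl N36781 D128804
theorem N67312 : nd 67312 = n128805 := ndS (p := 36782) (l := 0) rfl N36782 D128805
theorem N67313 : nd 67313 = n128806 := ndS (p := 36782) (l := 1) rfl N36782 D128806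
theorem N67314 : nd 67314 = n128807 := ndS (p := 36782) (l := 2) rfl N36782 D128807
theorem N67315 : nd 67315 = n128808 := ndS (p := 36782) (l := 5) rfl N36782 D128808
theorem N67316 : nd 67316 = n128809 := ndS (p := 36783) (l := 6) rfl N36783 D128809
theorem N67317 : nd 67317 = n128810 := ndS (p := 36784) (l := 0) rfl N36784 D128810
theorem N67318 : nd 67318 = n128811 := ndS (p := 36784) (l := 1) rfl N36784 D128811
theorem N67319 : nd 67319 = n128812 := ndS (p := 36784) (l := 2) rfl N36784 D128812
theorem N67320 : nd 67320 = n128819 := ndS (p := 36786) (l := 5) rfl N36786 D128819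
theorem N67321 : nd 67321 = n128820 := ndS (p := 36787) (l := 5) rfl N36787 D128820
theorem N67322 : nd 67322 = n128822 := ndS (p := 36789) (l := 0) rfl N36789 D128822
theorem N67323 : nd 67323 = n128823 := ndS (p := 36789) (l := 1) rfl N36789 D128823
theorem N67324 : nd 67324 = n128824 := ndS (p := 36789) (l := 6) rfl N36789 D128824
theorem N67325 : nd 67325 = n128825 := ndS (p := 36790) (l := 5) rfl N36790 D128825
theorem N67326 : nd 67326 = n128827 := ndS (p := 36791) (l := 3) rfl N36791 D128827
theorem N67327 : nd 67327 = n128828 := ndS (p := 36791) (l := 4) rfl N36791 D128828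
theorem N67328 : nd 67328 = n128830 := ndS (p := 36791) (l := 6) rfl N36791 D128830
theorem N67329 : nd 67329 = n128832 := ndS (p := 36792) (l := 3) rfl N36792 D128832
theorem N67330 : nd 67330 = n128833 := ndS (p := 36792) (l := 4) rfl N36792 D128833
theorem N67331 : nd 67331 = n128837 := ndS (p := 36793) (l := 6) rfl N36793 D128837
theorem N67332 : nd 67332 = n128838 := ndS (p := 36794) (l := 0) rfl N36794 D128838
theorem N67333 : nd 67333 = n128839 := ndS (p := 36794) (l := 1) rfl N36794 D128839
theorem N67334 : nd 67334 = n128842 := ndS (p := 36795) (l := 0) rfl N36795 D128842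
theorem N67335 : nd 67335 = n128843 := ndS (p := 36795) (l := 1) rfl N36795 D128843
theorem N67336 : nd 67336 = n128844 := ndS (p := 36795) (l := 5) rfl N36795 D128844
theorem N67337 : nd 67337 = n128850 := ndS (p := 36798) (l := 0) rfl N36798 D128850
theorem N67338 : nd 67338 = n128851 := ndS (p := 36798) (l := 1) rfl N36798 D128851
theorem N67339 : nd 67339 = n128852 := ndS (p := 36798) (l := 5) rfl N36798 D128852
theorem N67340 : nd 67340 = n128853 := ndS (p := 36798) (l := 7) rfl N36798 D128853
theorem N67341 : nd 67341 = n128854 := ndS (p := 36799) (l := 3) rfl N36799 D128854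
theorem N67342 : nd 67342 = n128855 := ndS (p := 36799) (l := 5) rfl N36799 D128855
theorem N67343 : nd 67343 = n128856 := ndS (p := 36800) (l := 3) rfl N36800 D128856
theorem N67344 : nd 67344 = n128857 := ndS (p := 36800) (l := 5) rfl N36800 D128857
theorem N67345 : nd 67345 = n128858 := ndS (p := 36800) (l := 6) rfl N36800 D128858
theorem N67346 : nd 67346 = n128859 := ndS (p := 36801) (l := 0) rfl N36801 D128859
theorem N67347 : nd 67347 = n128860 := ndS (p := 36801) (l := 1) rfl N36801 D128860
theorem N67348 : nd 67348 = n128861 := ndS (p := 36801) (l := 4) rfl N36801 D128861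
theorem N67349 : nd 67349 = n128862 := ndS (p := 36801) (l := 7) rfl N36801 D128862
theorem N67350 : nd 67350 = n128863 := ndS (p := 36803) (l := 3) rfl N36803 D128863
theorem N67351 : nd 67351 = n128865 := ndS (p := 36804) (l := 4) rfl N36804 D128865
theorem N67352 : nd 67352 = n128868 := ndS (p := 36805) (l := 6) rfl N36805 D128868
theorem N67353 : nd 67353 = n128869 := ndS (p := 36806) (l := 4) rfl N36806 D128869
theorem N67354 : nd 67354 = n128872 := ndS (p := 36811) (l := 3) rfl N36811 D128872
theorem N67355 : nd 67355 = n128873 := ndS (p := 36811) (l := 4) rfl N36811 D128873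
theorem N67356 : nd 67356 = n128877 := ndS (p := 36812) (l := 3) rfl N36812 D128877
theorem N67357 : nd 67357 = n128881 := ndS (p := 36813) (l := 5) rfl N36813 D128881
theorem N67358 : nd 67358 = n128883 := ndS (p := 36814) (l := 0) rfl N36814 D128883
theorem N67359 : nd 67359 = n128884 := ndS (p := 36814) (l := 1) rfl N36814 D128884
theorem N67360 : nd 67360 = n128885 := ndS (p := 36814) (l := 4) rfl N36814 D128885
theorem N67361 : nd 67361 = n128886 := ndS (p := 36814) (l := 6) rfl N36814 D128886
theorem N67362 : nd 67362 = n128892 := ndS (p := 36816) (l := 1) rfl N36816 D128892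
theorem N67363 : nd 67363 = n128893 := ndS (p := 36816) (l := 5) rfl N36816 D128893
theorem N67364 : nd 67364 = n128894 := ndS (p := 36816) (l := 7) rfl N36816 D128894
theorem N67365 : nd 67365 = n128895 := ndS (p := 36817) (l := 3) rfl N36817 D128895
theorem N67366 : nd 67366 = n128896 := ndS (p := 36817) (l := 5) rfl N36817 D128896
theorem N67367 : nd 67367 = n128898 := ndS (p := 36818) (l := 3) rfl N36818 D128898
theorem N67368 : nd 67368 = n128899 := ndS (p := 36818) (l := 5) rfl N36818 D128899
theorem N67369 : nd 67369 = n128904 := ndS (p := 36821) (l := 3) rfl N36821 D128904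
theorem N67370 : nd 67370 = n128905 := ndS (p := 36821) (l := 5) rfl N36821 D128905
theorem N67371 : nd 67371 = n128906 := ndS (p := 36821) (l := 6) rfl N36821 D128906
theorem N67372 : nd 67372 = n128907 := ndS (p := 36823) (l := 3) rfl N36823 D128907
theorem N67373 : nd 67373 = n128908 := ndS (p := 36823) (l := 5) rfl N36823 D128908
theorem N67374 : nd 67374 = n128910 := ndS (p := 36824) (l := 3) rfl N36824 D128910
theorem N67375 : nd 67375 = n128911 := ndS (p := 36824) (l := 4) rfl N36824 D128911
theorem N67376 : nd 67376 = n128912 := ndS (p := 36824) (l := 5) rfl N36824 D128912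
theorem N67377 : nd 67377 = n128913 := ndS (p := 36824) (l := 6) rfl N36824 D128913
theorem N67378 : nd 67378 = n128915 := ndS (p := 36825) (l := 3) rfl N36825 D128915
theorem N67379 : nd 67379 = n128916 := ndS (p := 36825) (l := 4) rfl N36825 D128916
theorem N67380 : nd 67380 = n128917 := ndS (p := 36825) (l := 5) rfl N36825 D128917
theorem N67381 : nd 67381 = n128919 := ndS (p := 36826) (l := 4) rfl N36826 D128919
theorem N67382 : nd 67382 = n128920 := ndS (p := 36826) (l := 5) rfl N36826 D128920
theorem N67383 : nd 67383 = n128921 := ndS (p := 36826) (l := 6) rfl N36826 D128921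
theorem N67384 : nd 67384 = n128922 := ndS (p := 36827) (l := 0) rfl N36827 D128922
theorem N67385 : nd 67385 = n128924 := ndS (p := 36827) (l := 5) rfl N36827 D128924
theorem N67386 : nd 67386 = n128925 := ndS (p := 36827) (l := 6) rfl N36827 D128925
theorem N67387 : nd 67387 = n128926 := ndS (p := 36828) (l := 0) rfl N36828 D128926
theorem N67388 : nd 67388 = n128928 := ndS (p := 36828) (l := 4) rfl N36828 D128928
theorem N67389 : nd 67389 = n128929 := ndS (p := 36828) (l := 6) rfl N36828 D128929
theorem N67390 : nd 67390 = n128932 := ndS (p := 36829) (l := 5) rfl N36829 D128932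
theorem N67391 : nd 67391 = n128933 := ndS (p := 36829) (l := 7) rfl N36829 D128933
theorem N67392 : nd 67392 = n128934 := ndS (p := 36830) (l := 3) rfl N36830 D128934
theorem N67393 : nd 67393 = n128935 := ndS (p := 36830) (l := 6) rfl N36830 D128935
theorem N67394 : nd 67394 = n128936 := ndS (p := 36831) (l := 3) rfl N36831 D128936
theorem N67395 : nd 67395 = n128937 := ndS (p := 36831) (l := 6) rfl N36831 D128937
theorem N67396 : nd 67396 = n128938 := ndS (p := 36832) (l := 0) rfl N36832 D128938
theorem N67397 : nd 67397 = n128939 := ndS (p := 36832) (l := 1) rfl N36832 D128939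
theorem N67398 : nd 67398 = n128940 := ndS (p := 36832) (l := 5) rfl N36832 D128940
theorem N67399 : nd 67399 = n128941 := ndS (p := 36832) (l := 7) rfl N36832 D128941
theorem N67400 : nd 67400 = n128942 := ndS (p := 36833) (l := 0) rfl N36833 D128942
theorem N67401 : nd 67401 = n128943 := ndS (p := 36833) (l := 1) rfl N36833 D128943
theorem N67402 : nd 67402 = n128944 := ndS (p := 36833) (l := 4) rfl N36833 D128944
theorem N67403 : nd 67403 = n128945 := ndS (p := 36833) (l := 7) rfl N36833 D128945
theorem N67404 : nd 67404 = n128947 := ndS (p := 36835) (l := 3) rfl N36835 D128947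
theorem N67405 : nd 67405 = n128948 := ndS (p := 36835) (l := 4) rfl N36835 D128948
theorem N67406 : nd 67406 = n128949 := ndS (p := 36835) (l := 5) rfl N36835 D128949
theorem N67407 : nd 67407 = n128952 := ndS (p := 36836) (l := 3) rfl N36836 D128952
theorem N67408 : nd 67408 = n128953 := ndS (p := 36836) (l := 4) rfl N36836 D128953
theorem N67409 : nd 67409 = n128954 := ndS (p := 36836) (l := 5) rfl N36836 D128954
theorem N67410 : nd 67410 = n128955 := ndS (p := 36836) (l := 6) rfl N36836 D128955
theorem N67411 : nd 67411 = n128956 := ndS (p := 36837) (l := 5) rfl N36837 D128956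
theorem N67412 : nd 67412 = n128957 := ndS (p := 36837) (l := 6) rfl N36837 D128957
theorem N67413 : nd 67413 = n128958 := ndS (p := 36838) (l := 0) rfl N36838 D128958
theorem N67414 : nd 67414 = n128959 := ndS (p := 36838) (l := 1) rfl N36838 D128959
theorem N67415 : nd 67415 = n128960 := ndS (p := 36838) (l := 4) rfl N36838 D128960
theorem N67416 : nd 67416 = n128961 := ndS (p := 36838) (l := 6) rfl N36838 D128961
theorem N67417 : nd 67417 = n128963 := ndS (p := 36839) (l := 1) rfl N36839 D128963
theorem N67418 : nd 67418 = n128964 := ndS (p := 36839) (l := 5) rfl N36839 D128964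
theorem N67419 : nd 67419 = n128965 := ndS (p := 36839) (l := 7) rfl N36839 D128965
theorem N67420 : nd 67420 = n128967 := ndS (p := 36840) (l := 1) rfl N36840 D128967
theorem N67421 : nd 67421 = n128968 := ndS (p := 36840) (l := 5) rfl N36840 D128968
theorem N67422 : nd 67422 = n128969 := ndS (p := 36840) (l := 7) rfl N36840 D128969
theorem N67423 : nd 67423 = n128974 := ndS (p := 36843) (l := 5) rfl N36843 D128974
theorem N67424 : nd 67424 = n128975 := ndS (p := 36843) (l := 6) rfl N36843 D128975
theorem N67425 : nd 67425 = n128978 := ndS (p := 36844) (l := 3) rfl N36844 D128978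
theorem N67426 : nd 67426 = n128980 := ndS (p := 36844) (l := 5) rfl N36844 D128980
theorem N67427 : nd 67427 = n128981 := ndS (p := 36844) (l := 6) rfl N36844 D128981
theorem N67428 : nd 67428 = n128983 := ndS (p := 36845) (l := 1) rfl N36845 D128983
theorem N67429 : nd 67429 = n128986 := ndS (p := 36845) (l := 6) rfl N36845 D128986
theorem N67430 : nd 67430 = n128990 := ndS (p := 36846) (l := 3) rfl N36846 D128990
theorem N67431 : nd 67431 = n128992 := ndS (p := 36846) (l := 6) rfl N36846 D128992
theorem N67432 : nd 67432 = n128994 := ndS (p := 36847) (l := 0) rfl N36847 D128994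
theorem N67433 : nd 67433 = n128996 := ndS (p := 36847) (l := 4) rfl N36847 D128996
theorem N67434 : nd 67434 = n128997 := ndS (p := 36847) (l := 6) rfl N36847 D128997
theorem N67435 : nd 67435 = n128998 := ndS (p := 36847) (l := 7) rfl N36847 D128998
theorem N67436 : nd 67436 = n129002 := ndS (p := 36848) (l := 7) rfl N36848 D129002
theorem N67437 : nd 67437 = n129003 := ndS (p := 36849) (l := 6) rfl N36849 D129003
theorem N67438 : nd 67438 = n129004 := ndS (p := 36850) (l := 0) rfl N36850 D129004
theorem N67439 : nd 67439 = n129006 := ndS (p := 36850) (l := 2) rfl N36850 D129006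
theorem N67440 : nd 67440 = n129011 := ndS (p := 36851) (l := 6) rfl N36851 D129011
theorem N67441 : nd 67441 = n129012 := ndS (p := 36852) (l := 4) rfl N36852 D129012
theorem N67442 : nd 67442 = n129013 := ndS (p := 36852) (l := 6) rfl N36852 D129013
theorem N67443 : nd 67443 = n129015 := ndS (p := 36853) (l := 1) rfl N36853 D129015
theorem N67444 : nd 67444 = n129016 := ndS (p := 36853) (l := 5) rfl N36853 D129016
theorem N67445 : nd 67445 = n129018 := ndS (p := 36854) (l := 0) rfl N36854 D129018
theorem N67446 : nd 67446 = n129019 := ndS (p := 36854) (l := 1) rfl N36854 D129019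
theorem N67447 : nd 67447 = n129020 := ndS (p := 36854) (l := 6) rfl N36854 D129020
theorem N67448 : nd 67448 = n129022 := ndS (p := 36855) (l := 3) rfl N36855 D129022
theorem N67449 : nd 67449 = n129023 := ndS (p := 36855) (l := 4) rfl N36855 D129023
theorem N67450 : nd 67450 = n129025 := ndS (p := 36855) (l := 6) rfl N36855 D129025
theorem N67451 : nd 67451 = n129027 := ndS (p := 36856) (l := 3) rfl N36856 D129027
theorem N67452 : nd 67452 = n129028 := ndS (p := 36856) (l := 4) rfl N36856 D129028
theorem N67453 : nd 67453 = n129030 := ndS (p := 36856) (l := 6) rfl N36856 D129030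
theorem N67454 : nd 67454 = n129031 := ndS (p := 36857) (l := 0) rfl N36857 D129031
theorem N67455 : nd 67455 = n129032 := ndS (p := 36857) (l := 1) rfl N36857 D129032
theorem N67456 : nd 67456 = n129033 := ndS (p := 36857) (l := 3) rfl N36857 D129033
theorem N67457 : nd 67457 = n129034 := ndS (p := 36857) (l := 6) rfl N36857 D129034
theorem N67458 : nd 67458 = n129035 := ndS (p := 36857) (l := 7) rfl N36857 D129035
theorem N67459 : nd 67459 = n129037 := ndS (p := 36858) (l := 1) rfl N36858 D129037
theorem N67460 : nd 67460 = n129038 := ndS (p := 36858) (l := 7) rfl N36858 D129038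
theorem N67461 : nd 67461 = n129039 := ndS (p := 36859) (l := 6) rfl N36859 D129039
theorem N67462 : nd 67462 = n129040 := ndS (p := 36860) (l := 0) rfl N36860 D129040
theorem N67463 : nd 67463 = n129041 := ndS (p := 36860) (l := 1) rfl N36860 D129041
theorem N67464 : nd 67464 = n129042 := ndS (p := 36860) (l := 5) rfl N36860 D129042
theorem N67465 : nd 67465 = n129045 := ndS (p := 36861) (l := 2) rfl N36861 D129045
theorem N67466 : nd 67466 = n129046 := ndS (p := 36861) (l := 4) rfl N36861 D129046
theorem N67467 : nd 67467 = n129047 := ndS (p := 36861) (l := 6) rfl N36861 D129047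
theorem N67468 : nd 67468 = n129048 := ndS (p := 36862) (l := 0) rfl N36862 D129048
theorem N67469 : nd 67469 = n129049 := ndS (p := 36862) (l := 1) rfl N36862 D129049
theorem N67470 : nd 67470 = n129054 := ndS (p := 36863) (l := 2) rfl N36863 D129054
theorem N67471 : nd 67471 = n129055 := ndS (p := 36863) (l := 4) rfl N36863 D129055
theorem N67472 : nd 67472 = n129056 := ndS (p := 36863) (l := 6) rfl N36863 D129056
theorem N67473 : nd 67473 = n129057 := ndS (p := 36864) (l := 0) rfl N36864 D129057
theorem N67474 : nd 67474 = n129058 := ndS (p := 36864) (l := 1) rfl N36864 D129058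
theorem N67475 : nd 67475 = n129059 := ndS (p := 36864) (l := 5) rfl N36864 D129059
theorem N67476 : nd 67476 = n129060 := ndS (p := 36864) (l := 7) rfl N36864 D129060
theorem N67477 : nd 67477 = n129061 := ndS (p := 36865) (l := 0) rfl N36865 D129061
theorem N67478 : nd 67478 = n129062 := ndS (p := 36865) (l := 1) rfl N36865 D129062
theorem N67479 : nd 67479 = n129063 := ndS (p := 36865) (l := 2) rfl N36865 D129063
theorem N67480 : nd 67480 = n129065 := ndS (p := 36866) (l := 0) rfl N36866 D129065
theorem N67481 : nd 67481 = n129066 := ndS (p := 36866) (l := 1) rfl N36866 D129066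
theorem N67482 : nd 67482 = n129067 := ndS (p := 36866) (l := 5) rfl N36866 D129067
theorem N67483 : nd 67483 = n129068 := ndS (p := 36866) (l := 7) rfl N36866 D129068
theorem N67484 : nd 67484 = n129070 := ndS (p := 36867) (l := 3) rfl N36867 D129070
theorem N67485 : nd 67485 = n129071 := ndS (p := 36867) (l := 4) rfl N36867 D129071
theorem N67486 : nd 67486 = n129072 := ndS (p := 36867) (l := 5) rfl N36867 D129072
theorem N67487 : nd 67487 = n129073 := ndS (p := 36867) (l := 6) rfl N36867 D129073
theorem N67488 : nd 67488 = n129076 := ndS (p := 36868) (l := 4) rfl N36868 D129076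
theorem N67489 : nd 67489 = n129077 := ndS (p := 36868) (l := 5) rfl N36868 D129077
theorem N67490 : nd 67490 = n129078 := ndS (p := 36868) (l := 6) rfl N36868 D129078
theorem N67491 : nd 67491 = n129079 := ndS (p := 36869) (l := 6) rfl N36869 D129079
theorem N67492 : nd 67492 = n129080 := ndS (p := 36870) (l := 0) rfl N36870 D129080
theorem N67493 : nd 67493 = n129081 := ndS (p := 36870) (l := 1) rfl N36870 D129081
theorem N67494 : nd 67494 = n129082 := ndS (p := 36870) (l := 5) rfl N36870 D129082
theorem N67495 : nd 67495 = n129083 := ndS (p := 36871) (l := 3) rfl N36871 D129083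
theorem N67496 : nd 67496 = n129084 := ndS (p := 36871) (l := 5) rfl N36871 D129084
theorem N67497 : nd 67497 = n129085 := ndS (p := 36871) (l := 6) rfl N36871 D129085
theorem N67498 : nd 67498 = n129086 := ndS (p := 36872) (l := 3) rfl N36872 D129086
theorem N67499 : nd 67499 = n129087 := ndS (p := 36872) (l := 5) rfl N36872 D129087
theorem N67500 : nd 67500 = n129089 := ndS (p := 36873) (l := 1) rfl N36873 D129089
theorem N67501 : nd 67501 = n129090 := ndS (p := 36873) (l := 4) rfl N36873 D129090
theorem N67502 : nd 67502 = n129091 := ndS (p := 36874) (l := 5) rfl N36874 D129091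
theorem N67503 : nd 67503 = n129092 := ndS (p := 36874) (l := 6) rfl N36874 D129092
theorem N67504 : nd 67504 = n129093 := ndS (p := 36875) (l := 3) rfl N36875 D129093
theorem N67505 : nd 67505 = n129094 := ndS (p := 36875) (l := 5) rfl N36875 D129094
theorem N67506 : nd 67506 = n129095 := ndS (p := 36875) (l := 6) rfl N36875 D129095
theorem N67507 : nd 67507 = n129096 := ndS (p := 36876) (l := 4) rfl N36876 D129096
theorem N67508 : nd 67508 = n129100 := ndS (p := 36878) (l := 4) rfl N36878 D129100
theorem N67509 : nd 67509 = n129101 := ndS (p := 36879) (l := 1) rfl N36879 D129101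
theorem N67510 : nd 67510 = n129102 := ndS (p := 36879) (l := 2) rfl N36879 D129102
theorem N67511 : nd 67511 = n129103 := ndS (p := 36879) (l := 5) rfl N36879 D129103
theorem N67512 : nd 67512 = n129104 := ndS (p := 36879) (l := 6) rfl N36879 D129104
theorem N67513 : nd 67513 = n129106 := ndS (p := 36881) (l := 0) rfl N36881 D129106
theorem N67514 : nd 67514 = n129107 := ndS (p := 36881) (l := 1) rfl N36881 D129107
theorem N67515 : nd 67515 = n129108 := ndS (p := 36881) (l := 5) rfl N36881 D129108
theorem N67516 : nd 67516 = n129109 := ndS (p := 36881) (l := 7) rfl N36881 D129109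
theorem N67517 : nd 67517 = n129110 := ndS (p := 36882) (l := 4) rfl N36882 D129110
theorem N67518 : nd 67518 = n129111 := ndS (p := 36882) (l := 5) rfl N36882 D129111
theorem N67519 : nd 67519 = n129112 := ndS (p := 36883) (l := 4) rfl N36883 D129112
theorem N67520 : nd 67520 = n129113 := ndS (p := 36885) (l := 3) rfl N36885 D129113
theorem N67521 : nd 67521 = n129114 := ndS (p := 36886) (l := 0) rfl N36886 D129114
theorem N67522 : nd 67522 = n129115 := ndS (p := 36886) (l := 1) rfl N36886 D129115
theorem N67523 : nd 67523 = n129116 := ndS (p := 36886) (l := 2) rfl N36886 D129116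
theorem N67524 : nd 67524 = n129117 := ndS (p := 36886) (l := 6) rfl N36886 D129117
theorem N67525 : nd 67525 = n129118 := ndS (p := 36887) (l := 6) rfl N36887 D129118
theorem N67526 : nd 67526 = n129119 := ndS (p := 36888) (l := 1) rfl N36888 D129119
theorem N67527 : nd 67527 = n129120 := ndS (p := 36888) (l := 5) rfl N36888 D129120
theorem N67528 : nd 67528 = n129121 := ndS (p := 36888) (l := 7) rfl N36888 D129121
theorem N67529 : nd 67529 = n129122 := ndS (p := 36889) (l := 4) rfl N36889 D129122
theorem N67530 : nd 67530 = n129123 := ndS (p := 36891) (l := 0) rfl N36891 D129123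
theorem N67531 : nd 67531 = n129124 := ndS (p := 36891) (l := 1) rfl N36891 D129124
theorem N67532 : nd 67532 = n129127 := ndS (p := 36891) (l := 6) rfl N36891 D129127
theorem N67533 : nd 67533 = n129130 := ndS (p := 36893) (l := 5) rfl N36893 D129130
theorem N67534 : nd 67534 = n129131 := ndS (p := 36893) (l := 7) rfl N36893 D129131
theorem N67535 : nd 67535 = n129132 := ndS (p := 36894) (l := 6) rfl N36894 D129132
theorem N67536 : nd 67536 = n129133 := ndS (p := 36895) (l := 6) rfl N36895 D129133
theorem N67537 : nd 67537 = n129134 := ndS (p := 36896) (l := 5) rfl N36896 D129134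
theorem N67538 : nd 67538 = n129135 := ndS (p := 36896) (l := 7) rfl N36896 D129135
theorem N67539 : nd 67539 = n129137 := ndS (p := 36897) (l := 3) rfl N36897 D129137
theorem N67540 : nd 67540 = n129138 := ndS (p := 36897) (l := 4) rfl N36897 D129138
theorem N67541 : nd 67541 = n129139 := ndS (p := 36897) (l := 5) rfl N36897 D129139
theorem N67542 : nd 67542 = n129140 := ndS (p := 36897) (l := 6) rfl N36897 D129140
theorem N67543 : nd 67543 = n129142 := ndS (p := 36898) (l := 3) rfl N36898 D129142
theorem N67544 : nd 67544 = n129143 := ndS (p := 36898) (l := 5) rfl N36898 D129143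
theorem N67545 : nd 67545 = n129144 := ndS (p := 36898) (l := 6) rfl N36898 D129144
theorem N67546 : nd 67546 = n129145 := ndS (p := 36899) (l := 5) rfl N36899 D129145
theorem N67547 : nd 67547 = n129146 := ndS (p := 36899) (l := 6) rfl N36899 D129146
theorem N67548 : nd 67548 = n129147 := ndS (p := 36900) (l := 0) rfl N36900 D129147
theorem N67549 : nd 67549 = n129148 := ndS (p := 36900) (l := 1) rfl N36900 D129148
theorem N67550 : nd 67550 = n129149 := ndS (p := 36900) (l := 4) rfl N36900 D129149
theorem N67551 : nd 67551 = n129150 := ndS (p := 36900) (l := 6) rfl N36900 D129150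
theorem N67552 : nd 67552 = n129151 := ndS (p := 36901) (l := 0) rfl N36901 D129151
theorem N67553 : nd 67553 = n129152 := ndS (p := 36901) (l := 1) rfl N36901 D129152
theorem N67554 : nd 67554 = n129153 := ndS (p := 36901) (l := 5) rfl N36901 D129153
theorem N67555 : nd 67555 = n129155 := ndS (p := 36902) (l := 0) rfl N36902 D129155
theorem N67556 : nd 67556 = n129156 := ndS (p := 36902) (l := 1) rfl N36902 D129156
theorem N67557 : nd 67557 = n129157 := ndS (p := 36902) (l := 5) rfl N36902 D129157
theorem N67558 : nd 67558 = n129158 := ndS (p := 36902) (l := 7) rfl N36902 D129158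
theorem N67559 : nd 67559 = n129159 := ndS (p := 36903) (l := 3) rfl N36903 D129159
theorem N67560 : nd 67560 = n129160 := ndS (p := 36903) (l := 5) rfl N36903 D129160
theorem N67561 : nd 67561 = n129161 := ndS (p := 36904) (l := 3) rfl N36904 D129161
theorem N67562 : nd 67562 = n129162 := ndS (p := 36904) (l := 5) rfl N36904 D129162
theorem N67563 : nd 67563 = n129163 := ndS (p := 36904) (l := 6) rfl N36904 D129163
theorem N67564 : nd 67564 = n129164 := ndS (p := 36905) (l := 0) rfl N36905 D129164
theorem N67565 : nd 67565 = n129165 := ndS (p := 36905) (l := 1) rfl N36905 D129165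
theorem N67566 : nd 67566 = n129166 := ndS (p := 36905) (l := 4) rfl N36905 D129166
theorem N67567 : nd 67567 = n129167 := ndS (p := 36905) (l := 7) rfl N36905 D129167
theorem N67568 : nd 67568 = n129168 := ndS (p := 36908) (l := 0) rfl N36908 D129168
theorem N67569 : nd 67569 = n129169 := ndS (p := 36908) (l := 3) rfl N36908 D129169
theorem N67570 : nd 67570 = n129170 := ndS (p := 36908) (l := 5) rfl N36908 D129170
theorem N67571 : nd 67571 = n129171 := ndS (p := 36909) (l := 6) rfl N36909 D129171
theorem N67572 : nd 67572 = n129172 := ndS (p := 36910) (l := 3) rfl N36910 D129172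
theorem N67573 : nd 67573 = n129173 := ndS (p := 36910) (l := 5) rfl N36910 D129173
theorem N67574 : nd 67574 = n129174 := ndS (p := 36910) (l := 6) rfl N36910 D129174
theorem N67575 : nd 67575 = n129175 := ndS (p := 36912) (l := 0) rfl N36912 D129175
theorem N67576 : nd 67576 = n129176 := ndS (p := 36912) (l := 1) rfl N36912 D129176
theorem N67577 : nd 67577 = n129177 := ndS (p := 36912) (l := 2) rfl N36912 D129177
theorem N67578 : nd 67578 = n129182 := ndS (p := 36914) (l := 1) rfl N36914 D129182
theorem N67579 : nd 67579 = n129183 := ndS (p := 36914) (l := 5) rfl N36914 D129183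
theorem N67580 : nd 67580 = n129185 := ndS (p := 36915) (l := 4) rfl N36915 D129185
theorem N67581 : nd 67581 = n129186 := ndS (p := 36916) (l := 3) rfl N36916 D129186
theorem N67582 : nd 67582 = n129187 := ndS (p := 36916) (l := 4) rfl N36916 D129187
theorem N67583 : nd 67583 = n129189 := ndS (p := 36917) (l := 3) rfl N36917 D129189
theorem N67584 : nd 67584 = n129190 := ndS (p := 36917) (l := 4) rfl N36917 D129190
theorem N67585 : nd 67585 = n129192 := ndS (p := 36917) (l := 6) rfl N36917 D129192
theorem N67586 : nd 67586 = n129194 := ndS (p := 36918) (l := 3) rfl N36918 D129194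
theorem N67587 : nd 67587 = n129195 := ndS (p := 36918) (l := 4) rfl N36918 D129195
theorem N67588 : nd 67588 = n129197 := ndS (p := 36918) (l := 6) rfl N36918 D129197
theorem N67589 : nd 67589 = n129199 := ndS (p := 36919) (l := 6) rfl N36919 D129199
theorem N67590 : nd 67590 = n129204 := ndS (p := 36921) (l := 0) rfl N36921 D129204
theorem N67591 : nd 67591 = n129205 := ndS (p := 36921) (l := 1) rfl N36921 D129205
theorem N67592 : nd 67592 = n129207 := ndS (p := 36921) (l := 7) rfl N36921 D129207
theorem N67593 : nd 67593 = n129214 := ndS (p := 36924) (l := 3) rfl N36924 D129214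
theorem N67594 : nd 67594 = n129217 := ndS (p := 36927) (l := 4) rfl N36927 D129217
theorem N67595 : nd 67595 = n129218 := ndS (p := 36928) (l := 3) rfl N36928 D129218
theorem N67596 : nd 67596 = n129220 := ndS (p := 36929) (l := 3) rfl N36929 D129220
theorem N67597 : nd 67597 = n129224 := ndS (p := 36930) (l := 4) rfl N36930 D129224
theorem N67598 : nd 67598 = n129226 := ndS (p := 36930) (l := 6) rfl N36930 D129226
theorem N67599 : nd 67599 = n129229 := ndS (p := 36931) (l := 4) rfl N36931 D129229
theorem N67600 : nd 67600 = n129233 := ndS (p := 36932) (l := 6) rfl N36932 D129233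
theorem N67601 : nd 67601 = n129238 := ndS (p := 36934) (l := 1) rfl N36934 D129238
theorem N67602 : nd 67602 = n129239 := ndS (p := 36934) (l := 5) rfl N36934 D129239
theorem N67603 : nd 67603 = n129245 := ndS (p := 36936) (l := 3) rfl N36936 D129245
theorem N67604 : nd 67604 = n129253 := ndS (p := 36937) (l := 6) rfl N36937 D129253
theorem N67605 : nd 67605 = n129256 := ndS (p := 36938) (l := 6) rfl N36938 D129256
theorem N67606 : nd 67606 = n129265 := ndS (p := 36941) (l := 0) rfl N36941 D129265
theorem N67607 : nd 67607 = n129266 := ndS (p := 36941) (l := 1) rfl N36941 D129266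
theorem N67608 : nd 67608 = n129268 := ndS (p := 36941) (l := 7) rfl N36941 D129268
theorem N67609 : nd 67609 = n129269 := ndS (p := 36942) (l := 0) rfl N36942 D129269
theorem N67610 : nd 67610 = n129275 := ndS (p := 36945) (l := 3) rfl N36945 D129275
theorem N67611 : nd 67611 = n129276 := ndS (p := 36945) (l := 4) rfl N36945 D129276
theorem N67612 : nd 67612 = n129278 := ndS (p := 36945) (l := 6) rfl N36945 D129278
theorem N67613 : nd 67613 = n129280 := ndS (p := 36946) (l := 3) rfl N36946 D129280
theorem N67614 : nd 67614 = n129281 := ndS (p := 36946) (l := 4) rfl N36946 D129281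
theorem N67615 : nd 67615 = n129283 := ndS (p := 36946) (l := 6) rfl N36946 D129283
theorem N67616 : nd 67616 = n129286 := ndS (p := 36948) (l := 0) rfl N36948 D129286
theorem N67617 : nd 67617 = n129287 := ndS (p := 36948) (l := 1) rfl N36948 D129287
theorem N67618 : nd 67618 = n129288 := ndS (p := 36948) (l := 5) rfl N36948 D129288
theorem N67619 : nd 67619 = n129291 := ndS (p := 36949) (l := 4) rfl N36949 D129291
theorem N67620 : nd 67620 = n129296 := ndS (p := 36951) (l := 1) rfl N36951 D129296
theorem N67621 : nd 67621 = n129297 := ndS (p := 36951) (l := 2) rfl N36951 D129297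
theorem N67622 : nd 67622 = n129300 := ndS (p := 36952) (l := 0) rfl N36952 D129300
theorem N67623 : nd 67623 = n129301 := ndS (p := 36952) (l := 1) rfl N36952 D129301
theorem N67624 : nd 67624 = n129302 := ndS (p := 36952) (l := 6) rfl N36952 D129302
theorem N67625 : nd 67625 = n129305 := ndS (p := 36954) (l := 0) rfl N36954 D129305
theorem N67626 : nd 67626 = n129311 := ndS (p := 36955) (l := 2) rfl N36955 D129311
theorem N67627 : nd 67627 = n129312 := ndS (p := 36955) (l := 4) rfl N36955 D129312
theorem N67628 : nd 67628 = n129314 := ndS (p := 36955) (l := 6) rfl N36955 D129314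
theorem N67629 : nd 67629 = n129315 := ndS (p := 36956) (l := 3) rfl N36956 D129315
theorem N67630 : nd 67630 = n129316 := ndS (p := 36956) (l := 5) rfl N36956 D129316
theorem N67631 : nd 67631 = n129317 := ndS (p := 36956) (l := 6) rfl N36956 D129317
theorem N67632 : nd 67632 = n129321 := ndS (p := 36958) (l := 1) rfl N36958 D129321
theorem N67633 : nd 67633 = n129322 := ndS (p := 36958) (l := 5) rfl N36958 D129322
theorem N67634 : nd 67634 = n129323 := ndS (p := 36958) (l := 7) rfl N36958 D129323
theorem N67635 : nd 67635 = n129330 := ndS (p := 36960) (l := 3) rfl N36960 D129330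
theorem N67636 : nd 67636 = n129335 := ndS (p := 36961) (l := 6) rfl N36961 D129335
theorem N67637 : nd 67637 = n129340 := ndS (p := 36962) (l := 0) rfl N36962 D129340
theorem N67638 : nd 67638 = n129345 := ndS (p := 36963) (l := 3) rfl N36963 D129345
theorem N67639 : nd 67639 = n129346 := ndS (p := 36963) (l := 4) rfl N36963 D129346
theorem N67640 : nd 67640 = n129350 := ndS (p := 36964) (l := 3) rfl N36964 D129350
theorem N67641 : nd 67641 = n129351 := ndS (p := 36964) (l := 4) rfl N36964 D129351
theorem N67642 : nd 67642 = n129353 := ndS (p := 36964) (l := 6) rfl N36964 D129353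
theorem N67643 : nd 67643 = n129358 := ndS (p := 36965) (l := 3) rfl N36965 D129358
theorem N67644 : nd 67644 = n129360 := ndS (p := 36965) (l := 6) rfl N36965 D129360
theorem N67645 : nd 67645 = n129361 := ndS (p := 36966) (l := 3) rfl N36966 D129361
theorem N67646 : nd 67646 = n129370 := ndS (p := 36968) (l := 2) rfl N36968 D129370
theorem N67647 : nd 67647 = n129376 := ndS (p := 36969) (l := 1) rfl N36969 D129376
theorem N67648 : nd 67648 = n129377 := ndS (p := 36969) (l := 2) rfl N36969 D129377
theorem N67649 : nd 67649 = n129378 := ndS (p := 36969) (l := 4) rfl N36969 D129378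
theorem N67650 : nd 67650 = n129394 := ndS (p := 36971) (l := 3) rfl N36971 D129394
theorem N67651 : nd 67651 = n129396 := ndS (p := 36972) (l := 0) rfl N36972 D129396
theorem N67652 : nd 67652 = n129398 := ndS (p := 36972) (l := 2) rfl N36972 D129398
theorem N67653 : nd 67653 = n129403 := ndS (p := 36973) (l := 1) rfl N36973 D129403
theorem N67654 : nd 67654 = n129404 := ndS (p := 36973) (l := 2) rfl N36973 D129404
theorem N67655 : nd 67655 = n129406 := ndS (p := 36973) (l := 6) rfl N36973 D129406
theorem N67656 : nd 67656 = n129410 := ndS (p := 36975) (l := 0) rfl N36975 D129410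
theorem N67657 : nd 67657 = n129411 := ndS (p := 36975) (l := 1) rfl N36975 D129411
theorem N67658 : nd 67658 = n129412 := ndS (p := 36975) (l := 2) rfl N36975 D129412
theorem N67659 : nd 67659 = n129413 := ndS (p := 36975) (l := 5) rfl N36975 D129413
theorem N67660 : nd 67660 = n129414 := ndS (p := 36975) (l := 6) rfl N36975 D129414
theorem N67661 : nd 67661 = n129415 := ndS (p := 36976) (l := 6) rfl N36976 D129415
theorem N67662 : nd 67662 = n129416 := ndS (p := 36977) (l := 5) rfl N36977 D129416
theorem N67663 : nd 67663 = n129417 := ndS (p := 36978) (l := 0) rfl N36978 D129417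
theorem N67664 : nd 67664 = n129418 := ndS (p := 36978) (l := 1) rfl N36978 D129418
theorem N67665 : nd 67665 = n129419 := ndS (p := 36978) (l := 2) rfl N36978 D129419
theorem N67666 : nd 67666 = n129420 := ndS (p := 36978) (l := 5) rfl N36978 D129420
theorem N67667 : nd 67667 = n129421 := ndS (p := 36978) (l := 6) rfl N36978 D129421
theorem N67668 : nd 67668 = n129422 := ndS (p := 36979) (l := 6) rfl N36979 D129422
theorem N67669 : nd 67669 = n129423 := ndS (p := 36980) (l := 5) rfl N36980 D129423
theorem N67670 : nd 67670 = n129424 := ndS (p := 36981) (l := 0) rfl N36981 D129424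
theorem N67671 : nd 67671 = n129425 := ndS (p := 36981) (l := 1) rfl N36981 D129425
theorem N67672 : nd 67672 = n129426 := ndS (p := 36981) (l := 2) rfl N36981 D129426
theorem N67673 : nd 67673 = n129427 := ndS (p := 36981) (l := 5) rfl N36981 D129427
theorem N67674 : nd 67674 = n129429 := ndS (p := 36982) (l := 6) rfl N36982 D129429
theorem N67675 : nd 67675 = n129430 := ndS (p := 36983) (l := 1) rfl N36983 D129430
theorem N67676 : nd 67676 = n129431 := ndS (p := 36983) (l := 5) rfl N36983 D129431
theorem N67677 : nd 67677 = n129432 := ndS (p := 36984) (l := 0) rfl N36984 D129432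
theorem N67678 : nd 67678 = n129433 := ndS (p := 36984) (l := 1) rfl N36984 D129433
theorem N67679 : nd 67679 = n129434 := ndS (p := 36984) (l := 2) rfl N36984 D129434
theorem N67680 : nd 67680 = n129435 := ndS (p := 36984) (l := 5) rfl N36984 D129435
theorem N67681 : nd 67681 = n129436 := ndS (p := 36984) (l := 6) rfl N36984 D129436
theorem N67682 : nd 67682 = n129437 := ndS (p := 36985) (l := 6) rfl N36985 D129437
theorem N67683 : nd 67683 = n129438 := ndS (p := 36986) (l := 0) rfl N36986 D129438
theorem N67684 : nd 67684 = n129439 := ndS (p := 36986) (l := 1) rfl N36986 D129439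
theorem N67685 : nd 67685 = n129440 := ndS (p := 36986) (l := 5) rfl N36986 D129440
theorem N67686 : nd 67686 = n129441 := ndS (p := 36986) (l := 7) rfl N36986 D129441
theorem N67687 : nd 67687 = n129442 := ndS (p := 36987) (l := 4) rfl N36987 D129442
theorem N67688 : nd 67688 = n129443 := ndS (p := 36987) (l := 5) rfl N36987 D129443
theorem N67689 : nd 67689 = n129444 := ndS (p := 36989) (l := 0) rfl N36989 D129444
theorem N67690 : nd 67690 = n129445 := ndS (p := 36989) (l := 1) rfl N36989 D129445
theorem N67691 : nd 67691 = n129446 := ndS (p := 36989) (l := 2) rfl N36989 D129446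
theorem N67692 : nd 67692 = n129447 := ndS (p := 36989) (l := 5) rfl N36989 D129447
theorem N67693 : nd 67693 = n129448 := ndS (p := 36989) (l := 6) rfl N36989 D129448
theorem N67694 : nd 67694 = n129449 := ndS (p := 36990) (l := 6) rfl N36990 D129449
theorem N67695 : nd 67695 = n129450 := ndS (p := 36991) (l := 5) rfl N36991 D129450
theorem N67696 : nd 67696 = n129451 := ndS (p := 36992) (l := 0) rfl N36992 D129451
theorem N67697 : nd 67697 = n129452 := ndS (p := 36992) (l := 1) rfl N36992 D129452
theorem N67698 : nd 67698 = n129453 := ndS (p := 36992) (l := 2) rfl N36992 D129453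
theorem N67699 : nd 67699 = n129454 := ndS (p := 36992) (l := 5) rfl N36992 D129454
theorem N67700 : nd 67700 = n129455 := ndS (p := 36992) (l := 6) rfl N36992 D129455
theorem N67701 : nd 67701 = n129456 := ndS (p := 36993) (l := 6) rfl N36993 D129456
theorem N67702 : nd 67702 = n129457 := ndS (p := 36994) (l := 5) rfl N36994 D129457
theorem N67703 : nd 67703 = n129458 := ndS (p := 36994) (l := 7) rfl N36994 D129458
theorem N67704 : nd 67704 = n129460 := ndS (p := 36995) (l := 3) rfl N36995 D129460
theorem N67705 : nd 67705 = n129461 := ndS (p := 36995) (l := 4) rfl N36995 D129461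
theorem N67706 : nd 67706 = n129462 := ndS (p := 36995) (l := 5) rfl N36995 D129462
theorem N67707 : nd 67707 = n129463 := ndS (p := 36995) (l := 6) rfl N36995 D129463
theorem N67708 : nd 67708 = n129465 := ndS (p := 36996) (l := 3) rfl N36996 D129465
theorem N67709 : nd 67709 = n129466 := ndS (p := 36996) (l := 5) rfl N36996 D129466
theorem N67710 : nd 67710 = n129467 := ndS (p := 36996) (l := 6) rfl N36996 D129467
theorem N67711 : nd 67711 = n129468 := ndS (p := 36997) (l := 5) rfl N36997 D129468
theorem N67712 : nd 67712 = n129469 := ndS (p := 36997) (l := 6) rfl N36997 D129469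
theorem N67713 : nd 67713 = n129470 := ndS (p := 36998) (l := 0) rfl N36998 D129470
theorem N67714 : nd 67714 = n129471 := ndS (p := 36998) (l := 1) rfl N36998 D129471
theorem N67715 : nd 67715 = n129472 := ndS (p := 36998) (l := 4) rfl N36998 D129472
theorem N67716 : nd 67716 = n129473 := ndS (p := 36998) (l := 6) rfl N36998 D129473
theorem N67717 : nd 67717 = n129474 := ndS (p := 36999) (l := 0) rfl N36999 D129474
theorem N67718 : nd 67718 = n129476 := ndS (p := 36999) (l := 5) rfl N36999 D129476
theorem N67719 : nd 67719 = n129477 := ndS (p := 36999) (l := 7) rfl N36999 D129477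
theorem N67720 : nd 67720 = n129478 := ndS (p := 37000) (l := 0) rfl N37000 D129478
theorem N67721 : nd 67721 = n129479 := ndS (p := 37000) (l := 1) rfl N37000 D129479
theorem N67722 : nd 67722 = n129480 := ndS (p := 37000) (l := 5) rfl N37000 D129480
theorem N67723 : nd 67723 = n129481 := ndS (p := 37000) (l := 7) rfl N37000 D129481
theorem N67724 : nd 67724 = n129482 := ndS (p := 37001) (l := 3) rfl N37001 D129482
theorem N67725 : nd 67725 = n129483 := ndS (p := 37001) (l := 5) rfl N37001 D129483
theorem N67726 : nd 67726 = n129484 := ndS (p := 37002) (l := 0) rfl N37002 D129484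
theorem N67727 : nd 67727 = n129485 := ndS (p := 37002) (l := 1) rfl N37002 D129485
theorem N67728 : nd 67728 = n129486 := ndS (p := 37002) (l := 4) rfl N37002 D129486
theorem N67729 : nd 67729 = n129487 := ndS (p := 37002) (l := 7) rfl N37002 D129487
theorem N67730 : nd 67730 = n129488 := ndS (p := 37005) (l := 3) rfl N37005 D129488
theorem N67731 : nd 67731 = n129489 := ndS (p := 37005) (l := 5) rfl N37005 D129489
theorem N67732 : nd 67732 = n129490 := ndS (p := 37006) (l := 3) rfl N37006 D129490
theorem N67733 : nd 67733 = n129491 := ndS (p := 37006) (l := 4) rfl N37006 D129491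
theorem N67734 : nd 67734 = n129492 := ndS (p := 37007) (l := 3) rfl N37007 D129492
theorem N67735 : nd 67735 = n129493 := ndS (p := 37007) (l := 4) rfl N37007 D129493
theorem N67736 : nd 67736 = n129494 := ndS (p := 37008) (l := 0) rfl N37008 D129494
theorem N67737 : nd 67737 = n129495 := ndS (p := 37008) (l := 1) rfl N37008 D129495
theorem N67738 : nd 67738 = n129502 := ndS (p := 37009) (l := 6) rfl N37009 D129502
theorem N67739 : nd 67739 = n129513 := ndS (p := 37010) (l := 6) rfl N37010 D129513
theorem N67740 : nd 67740 = n129515 := ndS (p := 37011) (l := 0) rfl N37011 D129515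
theorem N67741 : nd 67741 = n129516 := ndS (p := 37011) (l := 1) rfl N37011 D129516
theorem N67742 : nd 67742 = n129517 := ndS (p := 37011) (l := 3) rfl N37011 D129517
theorem N67743 : nd 67743 = n129518 := ndS (p := 37011) (l := 5) rfl N37011 D129518
theorem N67744 : nd 67744 = n129519 := ndS (p := 37011) (l := 6) rfl N37011 D129519
theorem N67745 : nd 67745 = n129528 := ndS (p := 37013) (l := 5) rfl N37013 D129528
theorem N67746 : nd 67746 = n129531 := ndS (p := 37014) (l := 0) rfl N37014 D129531
theorem N67747 : nd 67747 = n129534 := ndS (p := 37014) (l := 4) rfl N37014 D129534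
theorem N67748 : nd 67748 = n129537 := ndS (p := 37015) (l := 3) rfl N37015 D129537
theorem N67749 : nd 67749 = n129538 := ndS (p := 37015) (l := 5) rfl N37015 D129538
theorem N67750 : nd 67750 = n129539 := ndS (p := 37015) (l := 6) rfl N37015 D129539
theorem N67751 : nd 67751 = n129543 := ndS (p := 37017) (l := 1) rfl N37017 D129543
theorem N67752 : nd 67752 = n129545 := ndS (p := 37017) (l := 7) rfl N37017 D129545
theorem N67753 : nd 67753 = n129546 := ndS (p := 37018) (l := 4) rfl N37018 D129546
theorem N67754 : nd 67754 = n129547 := ndS (p := 37018) (l := 6) rfl N37018 D129547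
theorem N67755 : nd 67755 = n129550 := ndS (p := 37019) (l := 5) rfl N37019 D129550
theorem N67756 : nd 67756 = n129559 := ndS (p := 37022) (l := 0) rfl N37022 D129559
theorem N67757 : nd 67757 = n129560 := ndS (p := 37022) (l := 1) rfl N37022 D129560
theorem N67758 : nd 67758 = n129562 := ndS (p := 37022) (l := 6) rfl N37022 D129562
theorem N67759 : nd 67759 = n129564 := ndS (p := 37023) (l := 1) rfl N37023 D129564
theorem N67760 : nd 67760 = n129565 := ndS (p := 37023) (l := 5) rfl N37023 D129565
theorem N67761 : nd 67761 = n129566 := ndS (p := 37023) (l := 7) rfl N37023 D129566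
theorem N67762 : nd 67762 = n129569 := ndS (p := 37024) (l := 4) rfl N37024 D129569
theorem N67763 : nd 67763 = n129570 := ndS (p := 37024) (l := 5) rfl N37024 D129570
theorem N67764 : nd 67764 = n129578 := ndS (p := 37025) (l := 1) rfl N37025 D129578
theorem N67765 : nd 67765 = n129581 := ndS (p := 37027) (l := 3) rfl N37027 D129581
theorem N67766 : nd 67766 = n129584 := ndS (p := 37028) (l := 3) rfl N37028 D129584
theorem N67767 : nd 67767 = n129591 := ndS (p := 37031) (l := 0) rfl N37031 D129591
theorem N67768 : nd 67768 = n129594 := ndS (p := 37031) (l := 4) rfl N37031 D129594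
theorem N67769 : nd 67769 = n129614 := ndS (p := 37035) (l := 4) rfl N37035 D129614
theorem N67770 : nd 67770 = n129639 := ndS (p := 37036) (l := 0) rfl N37036 D129639
theorem N67771 : nd 67771 = n129640 := ndS (p := 37036) (l := 1) rfl N37036 D129640
theorem N67772 : nd 67772 = n129641 := ndS (p := 37036) (l := 6) rfl N37036 D129641
theorem N67773 : nd 67773 = n129642 := ndS (p := 37037) (l := 5) rfl N37037 D129642
theorem N67774 : nd 67774 = n129644 := ndS (p := 37038) (l := 3) rfl N37038 D129644
theorem N67775 : nd 67775 = n129647 := ndS (p := 37038) (l := 6) rfl N37038 D129647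
theorem N67776 : nd 67776 = n129649 := ndS (p := 37039) (l := 3) rfl N37039 D129649
theorem N67777 : nd 67777 = n129651 := ndS (p := 37040) (l := 5) rfl N37040 D129651
theorem N67778 : nd 67778 = n129652 := ndS (p := 37040) (l := 6) rfl N37040 D129652
theorem N67779 : nd 67779 = n129653 := ndS (p := 37041) (l := 0) rfl N37041 D129653
theorem N67780 : nd 67780 = n129654 := ndS (p := 37041) (l := 1) rfl N37041 D129654
theorem N67781 : nd 67781 = n129655 := ndS (p := 37041) (l := 4) rfl N37041 D129655
theorem N67782 : nd 67782 = n129656 := ndS (p := 37041) (l := 6) rfl N37041 D129656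
theorem N67783 : nd 67783 = n129657 := ndS (p := 37042) (l := 0) rfl N37042 D129657
theorem N67784 : nd 67784 = n129658 := ndS (p := 37042) (l := 1) rfl N37042 D129658
theorem N67785 : nd 67785 = n129659 := ndS (p := 37042) (l := 5) rfl N37042 D129659
theorem N67786 : nd 67786 = n129660 := ndS (p := 37042) (l := 7) rfl N37042 D129660
theorem N67787 : nd 67787 = n129661 := ndS (p := 37043) (l := 6) rfl N37043 D129661
theorem N67788 : nd 67788 = n129662 := ndS (p := 37044) (l := 0) rfl N37044 D129662
theorem N67789 : nd 67789 = n129664 := ndS (p := 37044) (l := 5) rfl N37044 D129664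
theorem N67790 : nd 67790 = n129665 := ndS (p := 37044) (l := 7) rfl N37044 D129665
theorem N67791 : nd 67791 = n129666 := ndS (p := 37045) (l := 3) rfl N37045 D129666
theorem N67792 : nd 67792 = n129667 := ndS (p := 37045) (l := 5) rfl N37045 D129667
theorem N67793 : nd 67793 = n129668 := ndS (p := 37045) (l := 6) rfl N37045 D129668
theorem N67794 : nd 67794 = n129670 := ndS (p := 37046) (l := 5) rfl N37046 D129670
theorem N67795 : nd 67795 = n129671 := ndS (p := 37046) (l := 6) rfl N37046 D129671
theorem N67796 : nd 67796 = n129672 := ndS (p := 37047) (l := 0) rfl N37047 D129672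
theorem N67797 : nd 67797 = n129673 := ndS (p := 37047) (l := 1) rfl N37047 D129673
theorem N67798 : nd 67798 = n129674 := ndS (p := 37047) (l := 4) rfl N37047 D129674
theorem N67799 : nd 67799 = n129675 := ndS (p := 37047) (l := 7) rfl N37047 D129675
theorem N67800 : nd 67800 = n129676 := ndS (p := 37049) (l := 5) rfl N37049 D129676
theorem N67801 : nd 67801 = n129677 := ndS (p := 37050) (l := 3) rfl N37050 D129677
theorem N67802 : nd 67802 = n129678 := ndS (p := 37050) (l := 5) rfl N37050 D129678
theorem N67803 : nd 67803 = n129679 := ndS (p := 37050) (l := 6) rfl N37050 D129679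
theorem N67804 : nd 67804 = n129680 := ndS (p := 37051) (l := 4) rfl N37051 D129680
theorem N67805 : nd 67805 = n129681 := ndS (p := 37053) (l := 4) rfl N37053 D129681
theorem N67806 : nd 67806 = n129682 := ndS (p := 37053) (l := 6) rfl N37053 D129682
theorem N67807 : nd 67807 = n129683 := ndS (p := 37054) (l := 3) rfl N37054 D129683
theorem N67808 : nd 67808 = n129684 := ndS (p := 37054) (l := 5) rfl N37054 D129684
theorem N67809 : nd 67809 = n129685 := ndS (p := 37054) (l := 6) rfl N37054 D129685
theorem N67810 : nd 67810 = n129686 := ndS (p := 37055) (l := 4) rfl N37055 D129686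
theorem N67811 : nd 67811 = n129687 := ndS (p := 37057) (l := 2) rfl N37057 D129687
theorem N67812 : nd 67812 = n129688 := ndS (p := 37057) (l := 6) rfl N37057 D129688
theorem N67813 : nd 67813 = n129689 := ndS (p := 37058) (l := 1) rfl N37058 D129689
theorem N67814 : nd 67814 = n129690 := ndS (p := 37058) (l := 6) rfl N37058 D129690
theorem N67815 : nd 67815 = n129691 := ndS (p := 37059) (l := 0) rfl N37059 D129691
theorem N67816 : nd 67816 = n129696 := ndS (p := 37060) (l := 4) rfl N37060 D129696
theorem N67817 : nd 67817 = n129705 := ndS (p := 37063) (l := 0) rfl N37063 D129705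
theorem N67818 : nd 67818 = n129706 := ndS (p := 37063) (l := 1) rfl N37063 D129706
theorem N67819 : nd 67819 = n129707 := ndS (p := 37063) (l := 5) rfl N37063 D129707
theorem N67820 : nd 67820 = n129708 := ndS (p := 37063) (l := 7) rfl N37063 D129708
theorem N67821 : nd 67821 = n129709 := ndS (p := 37064) (l := 3) rfl N37064 D129709
theorem N67822 : nd 67822 = n129713 := ndS (p := 37065) (l := 4) rfl N37065 D129713
theorem N67823 : nd 67823 = n129724 := ndS (p := 37066) (l := 3) rfl N37066 D129724
theorem N67824 : nd 67824 = n129725 := ndS (p := 37066) (l := 4) rfl N37066 D129725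
theorem N67825 : nd 67825 = n129726 := ndS (p := 37066) (l := 5) rfl N37066 D129726
theorem N67826 : nd 67826 = n129729 := ndS (p := 37067) (l := 3) rfl N37067 D129729
theorem N67827 : nd 67827 = n129730 := ndS (p := 37067) (l := 4) rfl N37067 D129730
theorem N67828 : nd 67828 = n129731 := ndS (p := 37067) (l := 5) rfl N37067 D129731
theorem N67829 : nd 67829 = n129732 := ndS (p := 37067) (l := 6) rfl N37067 D129732
theorem N67830 : nd 67830 = n129733 := ndS (p := 37068) (l := 0) rfl N37068 D129733
theorem N67831 : nd 67831 = n129734 := ndS (p := 37068) (l := 1) rfl N37068 D129734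
theorem N67832 : nd 67832 = n129735 := ndS (p := 37068) (l := 4) rfl N37068 D129735
theorem N67833 : nd 67833 = n129736 := ndS (p := 37068) (l := 7) rfl N37068 D129736
theorem N67834 : nd 67834 = n129740 := ndS (p := 37070) (l := 6) rfl N37070 D129740
theorem N67835 : nd 67835 = n129748 := ndS (p := 37073) (l := 0) rfl N37073 D129748
theorem N67836 : nd 67836 = n129769 := ndS (p := 37075) (l := 4) rfl N37075 D129769
theorem N67837 : nd 67837 = n129783 := ndS (p := 37078) (l := 3) rfl N37078 D129783
theorem N67838 : nd 67838 = n129792 := ndS (p := 37081) (l := 3) rfl N37081 D129792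
theorem N67839 : nd 67839 = n129793 := ndS (p := 37081) (l := 5) rfl N37081 D129793
theorem N67840 : nd 67840 = n129794 := ndS (p := 37082) (l := 4) rfl N37082 D129794
theorem N67841 : nd 67841 = n129798 := ndS (p := 37083) (l := 5) rfl N37083 D129798
theorem N67842 : nd 67842 = n129801 := ndS (p := 37085) (l := 3) rfl N37085 D129801
theorem N67843 : nd 67843 = n129803 := ndS (p := 37086) (l := 1) rfl N37086 D129803
theorem N67844 : nd 67844 = n129804 := ndS (p := 37086) (l := 2) rfl N37086 D129804
theorem N67845 : nd 67845 = n129806 := ndS (p := 37086) (l := 6) rfl N37086 D129806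
theorem N67846 : nd 67846 = n129809 := ndS (p := 37089) (l := 0) rfl N37089 D129809
theorem N67847 : nd 67847 = n129810 := ndS (p := 37089) (l := 1) rfl N37089 D129810
theorem N67848 : nd 67848 = n129811 := ndS (p := 37089) (l := 2) rfl N37089 D129811
theorem N67849 : nd 67849 = n129812 := ndS (p := 37089) (l := 5) rfl N37089 D129812
theorem N67850 : nd 67850 = n129813 := ndS (p := 37089) (l := 6) rfl N37089 D129813
theorem N67851 : nd 67851 = n129814 := ndS (p := 37090) (l := 6) rfl N37090 D129814
theorem N67852 : nd 67852 = n129815 := ndS (p := 37091) (l := 0) rfl N37091 D129815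
theorem N67853 : nd 67853 = n129816 := ndS (p := 37091) (l := 5) rfl N37091 D129816
theorem N67854 : nd 67854 = n129817 := ndS (p := 37091) (l := 7) rfl N37091 D129817
theorem N67855 : nd 67855 = n129818 := ndS (p := 37092) (l := 4) rfl N37092 D129818
theorem N67856 : nd 67856 = n129819 := ndS (p := 37094) (l := 0) rfl N37094 D129819
theorem N67857 : nd 67857 = n129820 := ndS (p := 37094) (l := 1) rfl N37094 D129820
theorem N67858 : nd 67858 = n129821 := ndS (p := 37094) (l := 2) rfl N37094 D129821
theorem N67859 : nd 67859 = n129822 := ndS (p := 37094) (l := 6) rfl N37094 D129822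
theorem N67860 : nd 67860 = n129823 := ndS (p := 37095) (l := 5) rfl N37095 D129823
theorem N67861 : nd 67861 = n129825 := ndS (p := 37096) (l := 3) rfl N37096 D129825
theorem N67862 : nd 67862 = n129829 := ndS (p := 37097) (l := 3) rfl N37097 D129829
theorem N67863 : nd 67863 = n129830 := ndS (p := 37097) (l := 6) rfl N37097 D129830
theorem N67864 : nd 67864 = n129831 := ndS (p := 37098) (l := 5) rfl N37098 D129831
theorem N67865 : nd 67865 = n129832 := ndS (p := 37098) (l := 6) rfl N37098 D129832
theorem N67866 : nd 67866 = n129833 := ndS (p := 37099) (l := 0) rfl N37099 D129833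
theorem N67867 : nd 67867 = n129834 := ndS (p := 37099) (l := 1) rfl N37099 D129834
theorem N67868 : nd 67868 = n129835 := ndS (p := 37099) (l := 4) rfl N37099 D129835
theorem N67869 : nd 67869 = n129836 := ndS (p := 37099) (l := 6) rfl N37099 D129836
theorem N67870 : nd 67870 = n129837 := ndS (p := 37100) (l := 0) rfl N37100 D129837
theorem N67871 : nd 67871 = n129838 := ndS (p := 37100) (l := 1) rfl N37100 D129838
theorem N67872 : nd 67872 = n129839 := ndS (p := 37100) (l := 5) rfl N37100 D129839
theorem N67873 : nd 67873 = n129841 := ndS (p := 37101) (l := 3) rfl N37101 D129841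
theorem N67874 : nd 67874 = n129842 := ndS (p := 37101) (l := 6) rfl N37101 D129842
theorem N67875 : nd 67875 = n129843 := ndS (p := 37102) (l := 3) rfl N37102 D129843
theorem N67876 : nd 67876 = n129844 := ndS (p := 37102) (l := 6) rfl N37102 D129844
theorem N67877 : nd 67877 = n129845 := ndS (p := 37103) (l := 0) rfl N37103 D129845
theorem N67878 : nd 67878 = n129846 := ndS (p := 37103) (l := 1) rfl N37103 D129846
theorem N67879 : nd 67879 = n129847 := ndS (p := 37103) (l := 5) rfl N37103 D129847
theorem N67880 : nd 67880 = n129848 := ndS (p := 37103) (l := 7) rfl N37103 D129848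
theorem N67881 : nd 67881 = n129849 := ndS (p := 37104) (l := 3) rfl N37104 D129849
theorem N67882 : nd 67882 = n129850 := ndS (p := 37104) (l := 6) rfl N37104 D129850
theorem N67883 : nd 67883 = n129851 := ndS (p := 37105) (l := 3) rfl N37105 D129851
theorem N67884 : nd 67884 = n129852 := ndS (p := 37106) (l := 0) rfl N37106 D129852
theorem N67885 : nd 67885 = n129853 := ndS (p := 37106) (l := 1) rfl N37106 D129853
theorem N67886 : nd 67886 = n129854 := ndS (p := 37106) (l := 4) rfl N37106 D129854
theorem N67887 : nd 67887 = n129855 := ndS (p := 37106) (l := 7) rfl N37106 D129855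
theorem N67888 : nd 67888 = n129856 := ndS (p := 37108) (l := 6) rfl N37108 D129856
theorem N67889 : nd 67889 = n129857 := ndS (p := 37109) (l := 0) rfl N37109 D129857
theorem N67890 : nd 67890 = n129858 := ndS (p := 37109) (l := 3) rfl N37109 D129858
theorem N67891 : nd 67891 = n129859 := ndS (p := 37109) (l := 5) rfl N37109 D129859
theorem N67892 : nd 67892 = n129860 := ndS (p := 37109) (l := 6) rfl N37109 D129860
theorem N67893 : nd 67893 = n129861 := ndS (p := 37112) (l := 3) rfl N37112 D129861
theorem N67894 : nd 67894 = n129862 := ndS (p := 37112) (l := 5) rfl N37112 D129862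
theorem N67895 : nd 67895 = n129866 := ndS (p := 37114) (l := 0) rfl N37114 D129866
theorem N67896 : nd 67896 = n129867 := ndS (p := 37114) (l := 1) rfl N37114 D129867
theorem N67897 : nd 67897 = n129869 := ndS (p := 37114) (l := 5) rfl N37114 D129869
theorem N67898 : nd 67898 = n129875 := ndS (p := 37115) (l := 6) rfl N37115 D129875
theorem N67899 : nd 67899 = n129876 := ndS (p := 37116) (l := 5) rfl N37116 D129876
theorem N67900 : nd 67900 = n129877 := ndS (p := 37116) (l := 6) rfl N37116 D129877
theorem N67901 : nd 67901 = n129882 := ndS (p := 37118) (l := 4) rfl N37118 D129882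
theorem N67902 : nd 67902 = n129883 := ndS (p := 37118) (l := 6) rfl N37118 D129883
theorem N67903 : nd 67903 = n129895 := ndS (p := 37121) (l := 4) rfl N37121 D129895
theorem N67904 : nd 67904 = n129898 := ndS (p := 37122) (l := 1) rfl N37122 D129898
theorem N67905 : nd 67905 = n129901 := ndS (p := 37123) (l := 0) rfl N37123 D129901
theorem N67906 : nd 67906 = n129902 := ndS (p := 37123) (l := 1) rfl N37123 D129902
theorem N67907 : nd 67907 = n129906 := ndS (p := 37124) (l := 3) rfl N37124 D129906
theorem N67908 : nd 67908 = n129907 := ndS (p := 37124) (l := 4) rfl N37124 D129907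
theorem N67909 : nd 67909 = n129909 := ndS (p := 37124) (l := 6) rfl N37124 D129909
theorem N67910 : nd 67910 = n129911 := ndS (p := 37125) (l := 3) rfl N37125 D129911
theorem N67911 : nd 67911 = n129912 := ndS (p := 37125) (l := 4) rfl N37125 D129912
theorem N67912 : nd 67912 = n129950 := ndS (p := 37129) (l := 0) rfl N37129 D129950
theorem N67913 : nd 67913 = n129952 := ndS (p := 37129) (l := 2) rfl N37129 D129952
theorem N67914 : nd 67914 = n129956 := ndS (p := 37131) (l := 3) rfl N37131 D129956
theorem N67915 : nd 67915 = n129991 := ndS (p := 37133) (l := 4) rfl N37133 D129991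
theorem N67916 : nd 67916 = n130043 := ndS (p := 37138) (l := 3) rfl N37138 D130043
theorem N67917 : nd 67917 = n130045 := ndS (p := 37138) (l := 5) rfl N37138 D130045
theorem N67918 : nd 67918 = n130046 := ndS (p := 37138) (l := 6) rfl N37138 D130046
theorem N67919 : nd 67919 = n130059 := ndS (p := 37142) (l := 4) rfl N37142 D130059
theorem N67920 : nd 67920 = n130060 := ndS (p := 37142) (l := 6) rfl N37142 D130060
theorem N67921 : nd 67921 = n130069 := ndS (p := 37145) (l := 5) rfl N37145 D130069
theorem N67922 : nd 67922 = n130071 := ndS (p := 37146) (l := 3) rfl N37146 D130071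
theorem N67923 : nd 67923 = n130072 := ndS (p := 37146) (l := 5) rfl N37146 D130072
theorem N67924 : nd 67924 = n130073 := ndS (p := 37146) (l := 6) rfl N37146 D130073
theorem N67925 : nd 67925 = n130075 := ndS (p := 37147) (l := 5) rfl N37147 D130075
theorem N67926 : nd 67926 = n130080 := ndS (p := 37149) (l := 3) rfl N37149 D130080
theorem N67927 : nd 67927 = n130082 := ndS (p := 37150) (l := 6) rfl N37150 D130082
theorem N67928 : nd 67928 = n130084 := ndS (p := 37151) (l := 3) rfl N37151 D130084
theorem N67929 : nd 67929 = n130087 := ndS (p := 37152) (l := 6) rfl N37152 D130087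
theorem N67930 : nd 67930 = n130096 := ndS (p := 37153) (l := 5) rfl N37153 D130096
theorem N67931 : nd 67931 = n130099 := ndS (p := 37154) (l := 0) rfl N37154 D130099
theorem N67932 : nd 67932 = n130104 := ndS (p := 37155) (l := 4) rfl N37155 D130104
theorem N67933 : nd 67933 = n130112 := ndS (p := 37156) (l := 0) rfl N37156 D130112
theorem N67934 : nd 67934 = n130113 := ndS (p := 37156) (l := 2) rfl N37156 D130113
theorem N67935 : nd 67935 = n130116 := ndS (p := 37157) (l := 5) rfl N37157 D130116
theorem N67936 : nd 67936 = n130117 := ndS (p := 37157) (l := 6) rfl N37157 D130117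
theorem N67937 : nd 67937 = n130124 := ndS (p := 37159) (l := 5) rfl N37159 D130124
theorem N67938 : nd 67938 = n130125 := ndS (p := 37159) (l := 6) rfl N37159 D130125
theorem N67939 : nd 67939 = n130128 := ndS (p := 37160) (l := 0) rfl N37160 D130128
theorem N67940 : nd 67940 = n130130 := ndS (p := 37160) (l := 5) rfl N37160 D130130
theorem N67941 : nd 67941 = n130131 := ndS (p := 37160) (l := 7) rfl N37160 D130131
theorem N67942 : nd 67942 = n130132 := ndS (p := 37161) (l := 3) rfl N37161 D130132
theorem N67943 : nd 67943 = n130133 := ndS (p := 37161) (l := 5) rfl N37161 D130133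
theorem N67944 : nd 67944 = n130135 := ndS (p := 37162) (l := 6) rfl N37162 D130135
theorem N67945 : nd 67945 = n130137 := ndS (p := 37163) (l := 4) rfl N37163 D130137
theorem N67946 : nd 67946 = n130138 := ndS (p := 37163) (l := 6) rfl N37163 D130138
theorem N67947 : nd 67947 = n130139 := ndS (p := 37164) (l := 0) rfl N37164 D130139
theorem N67948 : nd 67948 = n130141 := ndS (p := 37164) (l := 5) rfl N37164 D130141
theorem N67949 : nd 67949 = n130142 := ndS (p := 37164) (l := 7) rfl N37164 D130142
theorem N67950 : nd 67950 = n130144 := ndS (p := 37165) (l := 3) rfl N37165 D130144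
theorem N67951 : nd 67951 = n130148 := ndS (p := 37166) (l := 3) rfl N37166 D130148
theorem N67952 : nd 67952 = n130149 := ndS (p := 37166) (l := 4) rfl N37166 D130149
theorem N67953 : nd 67953 = n130150 := ndS (p := 37166) (l := 6) rfl N37166 D130150
theorem N67954 : nd 67954 = n130155 := ndS (p := 37167) (l := 0) rfl N37167 D130155
theorem N67955 : nd 67955 = n130156 := ndS (p := 37167) (l := 1) rfl N37167 D130156
theorem N67956 : nd 67956 = n130161 := ndS (p := 37168) (l := 4) rfl N37168 D130161
theorem N67957 : nd 67957 = n130163 := ndS (p := 37168) (l := 6) rfl N37168 D130163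
theorem N67958 : nd 67958 = n130165 := ndS (p := 37169) (l := 3) rfl N37169 D130165
theorem N67959 : nd 67959 = n130167 := ndS (p := 37169) (l := 5) rfl N37169 D130167
theorem N67960 : nd 67960 = n130193 := ndS (p := 37172) (l := 5) rfl N37172 D130193
theorem N67961 : nd 67961 = n130195 := ndS (p := 37173) (l := 6) rfl N37173 D130195
theorem N67962 : nd 67962 = n130197 := ndS (p := 37174) (l := 1) rfl N37174 D130197
theorem N67963 : nd 67963 = n130199 := ndS (p := 37174) (l := 6) rfl N37174 D130199
theorem N67964 : nd 67964 = n130206 := ndS (p := 37176) (l := 5) rfl N37176 D130206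
theorem N67965 : nd 67965 = n130209 := ndS (p := 37177) (l := 5) rfl N37177 D130209
theorem N67966 : nd 67966 = n130211 := ndS (p := 37178) (l := 5) rfl N37178 D130211
theorem N67967 : nd 67967 = n130212 := ndS (p := 37178) (l := 6) rfl N37178 D130212
theorem N67968 : nd 67968 = n130213 := ndS (p := 37179) (l := 3) rfl N37179 D130213
theorem N67969 : nd 67969 = n130214 := ndS (p := 37179) (l := 5) rfl N37179 D130214
theorem N67970 : nd 67970 = n130215 := ndS (p := 37179) (l := 6) rfl N37179 D130215
theorem N67971 : nd 67971 = n130219 := ndS (p := 37180) (l := 6) rfl N37180 D130219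
theorem N67972 : nd 67972 = n130221 := ndS (p := 37181) (l := 0) rfl N37181 D130221
theorem N67973 : nd 67973 = n130222 := ndS (p := 37181) (l := 1) rfl N37181 D130222
theorem N67974 : nd 67974 = n130223 := ndS (p := 37181) (l := 5) rfl N37181 D130223
theorem N67975 : nd 67975 = n130224 := ndS (p := 37181) (l := 7) rfl N37181 D130224
theorem N67976 : nd 67976 = n130225 := ndS (p := 37182) (l := 6) rfl N37182 D130225
theorem N67977 : nd 67977 = n130226 := ndS (p := 37183) (l := 3) rfl N37183 D130226
theorem N67978 : nd 67978 = n130227 := ndS (p := 37183) (l := 5) rfl N37183 D130227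
theorem N67979 : nd 67979 = n130228 := ndS (p := 37183) (l := 6) rfl N37183 D130228
theorem N67980 : nd 67980 = n130229 := ndS (p := 37184) (l := 5) rfl N37184 D130229
theorem N67981 : nd 67981 = n130231 := ndS (p := 37185) (l := 1) rfl N37185 D130231
theorem N67982 : nd 67982 = n130232 := ndS (p := 37185) (l := 2) rfl N37185 D130232
theorem N67983 : nd 67983 = n130233 := ndS (p := 37185) (l := 5) rfl N37185 D130233
theorem N67984 : nd 67984 = n130234 := ndS (p := 37185) (l := 6) rfl N37185 D130234
theorem N67985 : nd 67985 = n130235 := ndS (p := 37185) (l := 7) rfl N37185 D130235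
theorem N67986 : nd 67986 = n130238 := ndS (p := 37186) (l := 4) rfl N37186 D130238
theorem N67987 : nd 67987 = n130239 := ndS (p := 37186) (l := 6) rfl N37186 D130239
theorem N67988 : nd 67988 = n130240 := ndS (p := 37186) (l := 7) rfl N37186 D130240
theorem N67989 : nd 67989 = n130241 := ndS (p := 37187) (l := 0) rfl N37187 D130241
theorem N67990 : nd 67990 = n130242 := ndS (p := 37187) (l := 1) rfl N37187 D130242
theorem N67991 : nd 67991 = n130244 := ndS (p := 37187) (l := 7) rfl N37187 D130244
theorem N67992 : nd 67992 = n130245 := ndS (p := 37188) (l := 6) rfl N37188 D130245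
theorem N67993 : nd 67993 = n130262 := ndS (p := 37190) (l := 0) rfl N37190 D130262
theorem N67994 : nd 67994 = n130264 := ndS (p := 37190) (l := 5) rfl N37190 D130264
theorem N67995 : nd 67995 = n130265 := ndS (p := 37190) (l := 7) rfl N37190 D130265
theorem N67996 : nd 67996 = n130266 := ndS (p := 37191) (l := 6) rfl N37191 D130266
theorem N67997 : nd 67997 = n130277 := ndS (p := 37193) (l := 0) rfl N37193 D130277
theorem N67998 : nd 67998 = n130287 := ndS (p := 37197) (l := 5) rfl N37197 D130287
theorem N67999 : nd 67999 = n130288 := ndS (p := 37197) (l := 6) rfl N37197 D130288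
theorem N68000 : nd 68000 = n130289 := ndS (p := 37198) (l := 3) rfl N37198 D130289
theorem N68001 : nd 68001 = n130290 := ndS (p := 37198) (l := 5) rfl N37198 D130290
theorem N68002 : nd 68002 = n130291 := ndS (p := 37198) (l := 6) rfl N37198 D130291
theorem N68003 : nd 68003 = n130292 := ndS (p := 37199) (l := 0) rfl N37199 D130292
theorem N68004 : nd 68004 = n130294 := ndS (p := 37199) (l := 4) rfl N37199 D130294
theorem N68005 : nd 68005 = n130295 := ndS (p := 37199) (l := 6) rfl N37199 D130295
theorem N68006 : nd 68006 = n130299 := ndS (p := 37200) (l := 7) rfl N37200 D130299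
theorem N68007 : nd 68007 = n130302 := ndS (p := 37201) (l := 6) rfl N37201 D130302
theorem N68008 : nd 68008 = n130304 := ndS (p := 37202) (l := 6) rfl N37202 D130304
theorem N68009 : nd 68009 = n130306 := ndS (p := 37203) (l := 1) rfl N37203 D130306
theorem N68010 : nd 68010 = n130307 := ndS (p := 37203) (l := 5) rfl N37203 D130307
theorem N68011 : nd 68011 = n130308 := ndS (p := 37203) (l := 7) rfl N37203 D130308
theorem N68012 : nd 68012 = n130311 := ndS (p := 37204) (l := 1) rfl N37204 D130311
theorem N68013 : nd 68013 = n130312 := ndS (p := 37204) (l := 5) rfl N37204 D130312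
theorem N68014 : nd 68014 = n130313 := ndS (p := 37204) (l := 7) rfl N37204 D130313
theorem N68015 : nd 68015 = n130326 := ndS (p := 37206) (l := 4) rfl N37206 D130326
theorem N68016 : nd 68016 = n130329 := ndS (p := 37209) (l := 0) rfl N37209 D130329
theorem N68017 : nd 68017 = n130330 := ndS (p := 37209) (l := 1) rfl N37209 D130330
theorem N68018 : nd 68018 = n130341 := ndS (p := 37210) (l := 6) rfl N37210 D130341
theorem N68019 : nd 68019 = n130345 := ndS (p := 37211) (l := 3) rfl N37211 D130345
theorem N68020 : nd 68020 = n130366 := ndS (p := 37214) (l := 1) rfl N37214 D130366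
theorem N68021 : nd 68021 = n130368 := ndS (p := 37214) (l := 7) rfl N37214 D130368
theorem N68022 : nd 68022 = n130374 := ndS (p := 37216) (l := 3) rfl N37216 D130374
theorem N68023 : nd 68023 = n130375 := ndS (p := 37216) (l := 6) rfl N37216 D130375
theorem N68024 : nd 68024 = n130381 := ndS (p := 37217) (l := 3) rfl N37217 D130381
theorem N68025 : nd 68025 = n130383 := ndS (p := 37217) (l := 5) rfl N37217 D130383
theorem N68026 : nd 68026 = n130388 := ndS (p := 37218) (l := 5) rfl N37218 D130388
theorem N68027 : nd 68027 = n130392 := ndS (p := 37220) (l := 4) rfl N37220 D130392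
theorem N68028 : nd 68028 = n130393 := ndS (p := 37220) (l := 5) rfl N37220 D130393
theorem N68029 : nd 68029 = n130394 := ndS (p := 37220) (l := 6) rfl N37220 D130394
theorem N68030 : nd 68030 = n130396 := ndS (p := 37221) (l := 3) rfl N37221 D130396
theorem N68031 : nd 68031 = n130397 := ndS (p := 37221) (l := 4) rfl N37221 D130397
theorem N68032 : nd 68032 = n130398 := ndS (p := 37221) (l := 5) rfl N37221 D130398
theorem N68033 : nd 68033 = n130400 := ndS (p := 37222) (l := 0) rfl N37222 D130400
theorem N68034 : nd 68034 = n130401 := ndS (p := 37222) (l := 1) rfl N37222 D130401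
theorem N68035 : nd 68035 = n130423 := ndS (p := 37223) (l := 3) rfl N37223 D130423
theorem N68036 : nd 68036 = n130425 := ndS (p := 37223) (l := 6) rfl N37223 D130425
theorem N68037 : nd 68037 = n130437 := ndS (p := 37226) (l := 5) rfl N37226 D130437
theorem N68038 : nd 68038 = n130438 := ndS (p := 37226) (l := 6) rfl N37226 D130438
theorem N68039 : nd 68039 = n130440 := ndS (p := 37227) (l := 1) rfl N37227 D130440
theorem N68040 : nd 68040 = n130442 := ndS (p := 37227) (l := 7) rfl N37227 D130442
theorem N68041 : nd 68041 = n130446 := ndS (p := 37229) (l := 3) rfl N37229 D130446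
theorem N68042 : nd 68042 = n130476 := ndS (p := 37232) (l := 1) rfl N37232 D130476
theorem N68043 : nd 68043 = n130477 := ndS (p := 37232) (l := 5) rfl N37232 D130477
theorem N68044 : nd 68044 = n130478 := ndS (p := 37232) (l := 7) rfl N37232 D130478
theorem N68045 : nd 68045 = n130484 := ndS (p := 37233) (l := 6) rfl N37233 D130484
theorem N68046 : nd 68046 = n130488 := ndS (p := 37235) (l := 7) rfl N37235 D130488
theorem N68047 : nd 68047 = n130492 := ndS (p := 37236) (l := 4) rfl N37236 D130492
theorem N68048 : nd 68048 = n130502 := ndS (p := 37237) (l := 3) rfl N37237 D130502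
theorem N68049 : nd 68049 = n130503 := ndS (p := 37237) (l := 5) rfl N37237 D130503
theorem N68050 : nd 68050 = n130504 := ndS (p := 37238) (l := 4) rfl N37238 D130504
theorem N68051 : nd 68051 = n130512 := ndS (p := 37240) (l := 3) rfl N37240 D130512
theorem N68052 : nd 68052 = n130513 := ndS (p := 37241) (l := 3) rfl N37241 D130513
theorem N68053 : nd 68053 = n130514 := ndS (p := 37241) (l := 6) rfl N37241 D130514
theorem N68054 : nd 68054 = n130515 := ndS (p := 37242) (l := 0) rfl N37242 D130515
theorem N68055 : nd 68055 = n130516 := ndS (p := 37242) (l := 1) rfl N37242 D130516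
theorem N68056 : nd 68056 = n130517 := ndS (p := 37243) (l := 3) rfl N37243 D130517
theorem N68057 : nd 68057 = n130518 := ndS (p := 37244) (l := 0) rfl N37244 D130518
theorem N68058 : nd 68058 = n130519 := ndS (p := 37244) (l := 1) rfl N37244 D130519
theorem N68059 : nd 68059 = n130520 := ndS (p := 37244) (l := 2) rfl N37244 D130520
theorem N68060 : nd 68060 = n130521 := ndS (p := 37244) (l := 6) rfl N37244 D130521
theorem N68061 : nd 68061 = n130522 := ndS (p := 37245) (l := 5) rfl N37245 D130522
theorem N68062 : nd 68062 = n130523 := ndS (p := 37245) (l := 7) rfl N37245 D130523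
theorem N68063 : nd 68063 = n130524 := ndS (p := 37246) (l := 4) rfl N37246 D130524
theorem N68064 : nd 68064 = n130525 := ndS (p := 37247) (l := 4) rfl N37247 D130525
theorem N68065 : nd 68065 = n130526 := ndS (p := 37247) (l := 6) rfl N37247 D130526
theorem N68066 : nd 68066 = n130527 := ndS (p := 37249) (l := 0) rfl N37249 D130527
theorem N68067 : nd 68067 = n130528 := ndS (p := 37249) (l := 1) rfl N37249 D130528
theorem N68068 : nd 68068 = n130529 := ndS (p := 37249) (l := 2) rfl N37249 D130529
theorem N68069 : nd 68069 = n130530 := ndS (p := 37249) (l := 5) rfl N37249 D130530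
theorem N68070 : nd 68070 = n130531 := ndS (p := 37249) (l := 6) rfl N37249 D130531
theorem N68071 : nd 68071 = n130532 := ndS (p := 37250) (l := 6) rfl N37250 D130532
theorem N68072 : nd 68072 = n130533 := ndS (p := 37251) (l := 0) rfl N37251 D130533
theorem N68073 : nd 68073 = n130534 := ndS (p := 37251) (l := 1) rfl N37251 D130534
theorem N68074 : nd 68074 = n130536 := ndS (p := 37251) (l := 7) rfl N37251 D130536
theorem N68075 : nd 68075 = n130537 := ndS (p := 37252) (l := 4) rfl N37252 D130537
theorem N68076 : nd 68076 = n130540 := ndS (p := 37253) (l := 4) rfl N37253 D130540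
theorem N68077 : nd 68077 = n130541 := ndS (p := 37256) (l := 0) rfl N37256 D130541
theorem N68078 : nd 68078 = n130542 := ndS (p := 37256) (l := 1) rfl N37256 D130542
theorem N68079 : nd 68079 = n130543 := ndS (p := 37256) (l := 2) rfl N37256 D130543
theorem N68080 : nd 68080 = n130544 := ndS (p := 37256) (l := 5) rfl N37256 D130544
theorem N68081 : nd 68081 = n130545 := ndS (p := 37256) (l := 6) rfl N37256 D130545
theorem N68082 : nd 68082 = n130546 := ndS (p := 37257) (l := 6) rfl N37257 D130546
theorem N68083 : nd 68083 = n130547 := ndS (p := 37258) (l := 5) rfl N37258 D130547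
theorem N68084 : nd 68084 = n130548 := ndS (p := 37259) (l := 0) rfl N37259 D130548
theorem N68085 : nd 68085 = n130549 := ndS (p := 37259) (l := 1) rfl N37259 D130549
theorem N68086 : nd 68086 = n130550 := ndS (p := 37259) (l := 2) rfl N37259 D130550
theorem N68087 : nd 68087 = n130551 := ndS (p := 37259) (l := 5) rfl N37259 D130551
theorem N68088 : nd 68088 = n130552 := ndS (p := 37259) (l := 6) rfl N37259 D130552
theorem N68089 : nd 68089 = n130553 := ndS (p := 37260) (l := 6) rfl N37260 D130553
theorem N68090 : nd 68090 = n130554 := ndS (p := 37261) (l := 5) rfl N37261 D130554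
theorem N68091 : nd 68091 = n130555 := ndS (p := 37262) (l := 0) rfl N37262 D130555
theorem N68092 : nd 68092 = n130556 := ndS (p := 37262) (l := 1) rfl N37262 D130556
theorem N68093 : nd 68093 = n130557 := ndS (p := 37262) (l := 2) rfl N37262 D130557
theorem N68094 : nd 68094 = n130558 := ndS (p := 37262) (l := 4) rfl N37262 D130558
theorem N68095 : nd 68095 = n130559 := ndS (p := 37262) (l := 5) rfl N37262 D130559
theorem N68096 : nd 68096 = n130560 := ndS (p := 37263) (l := 6) rfl N37263 D130560
theorem N68097 : nd 68097 = n130563 := ndS (p := 37264) (l := 5) rfl N37264 D130563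
theorem N68098 : nd 68098 = n130564 := ndS (p := 37264) (l := 6) rfl N37264 D130564
theorem N68099 : nd 68099 = n130566 := ndS (p := 37265) (l := 3) rfl N37265 D130566
theorem N68100 : nd 68100 = n130568 := ndS (p := 37265) (l := 5) rfl N37265 D130568
theorem N68101 : nd 68101 = n130569 := ndS (p := 37265) (l := 6) rfl N37265 D130569
theorem N68102 : nd 68102 = n130570 := ndS (p := 37266) (l := 5) rfl N37266 D130570
theorem N68103 : nd 68103 = n130572 := ndS (p := 37267) (l := 0) rfl N37267 D130572
theorem N68104 : nd 68104 = n130573 := ndS (p := 37267) (l := 1) rfl N37267 D130573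
theorem N68105 : nd 68105 = n130574 := ndS (p := 37267) (l := 4) rfl N37267 D130574
theorem N68106 : nd 68106 = n130575 := ndS (p := 37267) (l := 6) rfl N37267 D130575
theorem N68107 : nd 68107 = n130577 := ndS (p := 37268) (l := 1) rfl N37268 D130577
theorem N68108 : nd 68108 = n130578 := ndS (p := 37268) (l := 5) rfl N37268 D130578
theorem N68109 : nd 68109 = n130579 := ndS (p := 37268) (l := 7) rfl N37268 D130579
theorem N68110 : nd 68110 = n130580 := ndS (p := 37269) (l := 0) rfl N37269 D130580
theorem N68111 : nd 68111 = n130581 := ndS (p := 37269) (l := 1) rfl N37269 D130581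
theorem N68112 : nd 68112 = n130582 := ndS (p := 37269) (l := 5) rfl N37269 D130582
theorem N68113 : nd 68113 = n130583 := ndS (p := 37269) (l := 7) rfl N37269 D130583
theorem N68114 : nd 68114 = n130586 := ndS (p := 37271) (l := 3) rfl N37271 D130586
theorem N68115 : nd 68115 = n130587 := ndS (p := 37271) (l := 5) rfl N37271 D130587
theorem N68116 : nd 68116 = n130588 := ndS (p := 37271) (l := 6) rfl N37271 D130588
theorem N68117 : nd 68117 = n130589 := ndS (p := 37272) (l := 4) rfl N37272 D130589
theorem N68118 : nd 68118 = n130590 := ndS (p := 37272) (l := 7) rfl N37272 D130590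
theorem N68119 : nd 68119 = n130591 := ndS (p := 37274) (l := 3) rfl N37274 D130591
theorem N68120 : nd 68120 = n130592 := ndS (p := 37275) (l := 6) rfl N37275 D130592
theorem N68121 : nd 68121 = n130593 := ndS (p := 37276) (l := 3) rfl N37276 D130593
theorem N68122 : nd 68122 = n130594 := ndS (p := 37276) (l := 6) rfl N37276 D130594
theorem N68123 : nd 68123 = n130595 := ndS (p := 37278) (l := 0) rfl N37278 D130595
theorem N68124 : nd 68124 = n130596 := ndS (p := 37278) (l := 1) rfl N37278 D130596
theorem N68125 : nd 68125 = n130597 := ndS (p := 37278) (l := 7) rfl N37278 D130597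
theorem N68126 : nd 68126 = n130598 := ndS (p := 37280) (l := 6) rfl N37280 D130598
theorem N68127 : nd 68127 = n130599 := ndS (p := 37281) (l := 0) rfl N37281 D130599
theorem N68128 : nd 68128 = n130600 := ndS (p := 37281) (l := 1) rfl N37281 D130600
theorem N68129 : nd 68129 = n130601 := ndS (p := 37281) (l := 7) rfl N37281 D130601
theorem N68130 : nd 68130 = n130602 := ndS (p := 37282) (l := 4) rfl N37282 D130602
theorem N68131 : nd 68131 = n130603 := ndS (p := 37282) (l := 6) rfl N37282 D130603
theorem N68132 : nd 68132 = n130604 := ndS (p := 37283) (l := 0) rfl N37283 D130604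
theorem N68133 : nd 68133 = n130605 := ndS (p := 37283) (l := 1) rfl N37283 D130605
theorem N68134 : nd 68134 = n130606 := ndS (p := 37283) (l := 7) rfl N37283 D130606
theorem N68135 : nd 68135 = n130607 := ndS (p := 37287) (l := 4) rfl N37287 D130607
theorem N68136 : nd 68136 = n130608 := ndS (p := 37287) (l := 6) rfl N37287 D130608
theorem N68137 : nd 68137 = n130609 := ndS (p := 37288) (l := 0) rfl N37288 D130609
theorem N68138 : nd 68138 = n130610 := ndS (p := 37288) (l := 1) rfl N37288 D130610
theorem N68139 : nd 68139 = n130611 := ndS (p := 37288) (l := 7) rfl N37288 D130611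
theorem N68140 : nd 68140 = n130612 := ndS (p := 37289) (l := 5) rfl N37289 D130612
theorem N68141 : nd 68141 = n130613 := ndS (p := 37290) (l := 4) rfl N37290 D130613
theorem N68142 : nd 68142 = n130614 := ndS (p := 37290) (l := 6) rfl N37290 D130614
theorem N68143 : nd 68143 = n130615 := ndS (p := 37292) (l := 4) rfl N37292 D130615
theorem N68144 : nd 68144 = n130616 := ndS (p := 37292) (l := 6) rfl N37292 D130616
theorem N68145 : nd 68145 = n130617 := ndS (p := 37293) (l := 3) rfl N37293 D130617
theorem N68146 : nd 68146 = n130618 := ndS (p := 37293) (l := 5) rfl N37293 D130618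
theorem N68147 : nd 68147 = n130619 := ndS (p := 37293) (l := 6) rfl N37293 D130619
theorem N68148 : nd 68148 = n130620 := ndS (p := 37294) (l := 0) rfl N37294 D130620
theorem N68149 : nd 68149 = n130621 := ndS (p := 37294) (l := 1) rfl N37294 D130621
theorem N68150 : nd 68150 = n130622 := ndS (p := 37294) (l := 7) rfl N37294 D130622
theorem N68151 : nd 68151 = n130623 := ndS (p := 37295) (l := 0) rfl N37295 D130623
theorem N68152 : nd 68152 = n130624 := ndS (p := 37295) (l := 1) rfl N37295 D130624
theorem N68153 : nd 68153 = n130625 := ndS (p := 37295) (l := 2) rfl N37295 D130625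
theorem N68154 : nd 68154 = n130626 := ndS (p := 37295) (l := 6) rfl N37295 D130626
theorem N68155 : nd 68155 = n130627 := ndS (p := 37296) (l := 0) rfl N37296 D130627
theorem N68156 : nd 68156 = n130628 := ndS (p := 37296) (l := 1) rfl N37296 D130628
theorem N68157 : nd 68157 = n130629 := ndS (p := 37296) (l := 5) rfl N37296 D130629
theorem N68158 : nd 68158 = n130630 := ndS (p := 37296) (l := 7) rfl N37296 D130630
theorem N68159 : nd 68159 = n130631 := ndS (p := 37297) (l := 3) rfl N37297 D130631
theorem N68160 : nd 68160 = n130632 := ndS (p := 37297) (l := 4) rfl N37297 D130632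
theorem N68161 : nd 68161 = n130633 := ndS (p := 37297) (l := 5) rfl N37297 D130633
theorem N68162 : nd 68162 = n130634 := ndS (p := 37298) (l := 4) rfl N37298 D130634
theorem N68163 : nd 68163 = n130635 := ndS (p := 37298) (l := 5) rfl N37298 D130635
theorem N68164 : nd 68164 = n130636 := ndS (p := 37298) (l := 6) rfl N37298 D130636
theorem N68165 : nd 68165 = n130637 := ndS (p := 37300) (l := 0) rfl N37300 D130637
theorem N68166 : nd 68166 = n130638 := ndS (p := 37300) (l := 1) rfl N37300 D130638
theorem N68167 : nd 68167 = n130639 := ndS (p := 37300) (l := 7) rfl N37300 D130639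
theorem N68168 : nd 68168 = n130641 := ndS (p := 37301) (l := 1) rfl N37301 D130641
theorem N68169 : nd 68169 = n130642 := ndS (p := 37301) (l := 2) rfl N37301 D130642
theorem N68170 : nd 68170 = n130644 := ndS (p := 37301) (l := 6) rfl N37301 D130644
theorem N68171 : nd 68171 = n130646 := ndS (p := 37303) (l := 0) rfl N37303 D130646
theorem N68172 : nd 68172 = n130647 := ndS (p := 37303) (l := 1) rfl N37303 D130647
theorem N68173 : nd 68173 = n130648 := ndS (p := 37303) (l := 5) rfl N37303 D130648
theorem N68174 : nd 68174 = n130649 := ndS (p := 37303) (l := 7) rfl N37303 D130649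
theorem N68175 : nd 68175 = n130650 := ndS (p := 37304) (l := 4) rfl N37304 D130650
theorem N68176 : nd 68176 = n130651 := ndS (p := 37305) (l := 4) rfl N37305 D130651
theorem N68177 : nd 68177 = n130652 := ndS (p := 37307) (l := 0) rfl N37307 D130652
theorem N68178 : nd 68178 = n130653 := ndS (p := 37307) (l := 1) rfl N37307 D130653
theorem N68179 : nd 68179 = n130654 := ndS (p := 37307) (l := 2) rfl N37307 D130654
theorem N68180 : nd 68180 = n130655 := ndS (p := 37307) (l := 5) rfl N37307 D130655
theorem N68181 : nd 68181 = n130656 := ndS (p := 37307) (l := 6) rfl N37307 D130656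
theorem N68182 : nd 68182 = n130657 := ndS (p := 37308) (l := 6) rfl N37308 D130657
theorem N68183 : nd 68183 = n130658 := ndS (p := 37309) (l := 1) rfl N37309 D130658
theorem N68184 : nd 68184 = n130659 := ndS (p := 37309) (l := 5) rfl N37309 D130659
theorem N68185 : nd 68185 = n130661 := ndS (p := 37310) (l := 1) rfl N37310 D130661
theorem N68186 : nd 68186 = n130662 := ndS (p := 37310) (l := 2) rfl N37310 D130662
theorem N68187 : nd 68187 = n130664 := ndS (p := 37310) (l := 5) rfl N37310 D130664
theorem N68188 : nd 68188 = n130668 := ndS (p := 37312) (l := 5) rfl N37312 D130668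
theorem N68189 : nd 68189 = n130669 := ndS (p := 37312) (l := 7) rfl N37312 D130669
theorem N68190 : nd 68190 = n130674 := ndS (p := 37313) (l := 6) rfl N37313 D130674
theorem N68191 : nd 68191 = n130675 := ndS (p := 37314) (l := 6) rfl N37314 D130675
theorem N68192 : nd 68192 = n130676 := ndS (p := 37315) (l := 5) rfl N37315 D130676
theorem N68193 : nd 68193 = n130680 := ndS (p := 37316) (l := 6) rfl N37316 D130680
theorem N68194 : nd 68194 = n130682 := ndS (p := 37317) (l := 3) rfl N37317 D130682
theorem N68195 : nd 68195 = n130684 := ndS (p := 37317) (l := 6) rfl N37317 D130684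
theorem N68196 : nd 68196 = n130686 := ndS (p := 37318) (l := 6) rfl N37318 D130686
theorem N68197 : nd 68197 = n130691 := ndS (p := 37319) (l := 0) rfl N37319 D130691
theorem N68198 : nd 68198 = n130692 := ndS (p := 37319) (l := 1) rfl N37319 D130692
theorem N68199 : nd 68199 = n130696 := ndS (p := 37320) (l := 6) rfl N37320 D130696
theorem N68200 : nd 68200 = n130699 := ndS (p := 37321) (l := 5) rfl N37321 D130699
theorem N68201 : nd 68201 = n130701 := ndS (p := 37322) (l := 3) rfl N37322 D130701
theorem N68202 : nd 68202 = n130702 := ndS (p := 37322) (l := 5) rfl N37322 D130702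
theorem N68203 : nd 68203 = n130703 := ndS (p := 37323) (l := 3) rfl N37323 D130703
theorem N68204 : nd 68204 = n130704 := ndS (p := 37323) (l := 5) rfl N37323 D130704
theorem N68205 : nd 68205 = n130705 := ndS (p := 37323) (l := 6) rfl N37323 D130705
theorem N68206 : nd 68206 = n130706 := ndS (p := 37324) (l := 0) rfl N37324 D130706
theorem N68207 : nd 68207 = n130707 := ndS (p := 37324) (l := 1) rfl N37324 D130707
theorem N68208 : nd 68208 = n130708 := ndS (p := 37324) (l := 4) rfl N37324 D130708
theorem N68209 : nd 68209 = n130709 := ndS (p := 37324) (l := 7) rfl N37324 D130709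
theorem N68210 : nd 68210 = n130710 := ndS (p := 37326) (l := 4) rfl N37326 D130710
theorem N68211 : nd 68211 = n130712 := ndS (p := 37327) (l := 3) rfl N37327 D130712
theorem N68212 : nd 68212 = n130713 := ndS (p := 37327) (l := 5) rfl N37327 D130713
theorem N68213 : nd 68213 = n130714 := ndS (p := 37328) (l := 3) rfl N37328 D130714
theorem N68214 : nd 68214 = n130717 := ndS (p := 37330) (l := 0) rfl N37330 D130717
theorem N68215 : nd 68215 = n130718 := ndS (p := 37330) (l := 1) rfl N37330 D130718
theorem N68216 : nd 68216 = n130719 := ndS (p := 37330) (l := 2) rfl N37330 D130719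
theorem N68217 : nd 68217 = n130720 := ndS (p := 37330) (l := 5) rfl N37330 D130720
theorem N68218 : nd 68218 = n130721 := ndS (p := 37330) (l := 6) rfl N37330 D130721
theorem N68219 : nd 68219 = n130722 := ndS (p := 37331) (l := 6) rfl N37331 D130722
theorem N68220 : nd 68220 = n130723 := ndS (p := 37332) (l := 0) rfl N37332 D130723
theorem N68221 : nd 68221 = n130725 := ndS (p := 37332) (l := 5) rfl N37332 D130725
theorem N68222 : nd 68222 = n130726 := ndS (p := 37332) (l := 7) rfl N37332 D130726
theorem N68223 : nd 68223 = n130727 := ndS (p := 37333) (l := 4) rfl N37333 D130727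
theorem N68224 : nd 68224 = n130728 := ndS (p := 37334) (l := 3) rfl N37334 D130728
theorem N68225 : nd 68225 = n130732 := ndS (p := 37336) (l := 4) rfl N37336 D130732
theorem N68226 : nd 68226 = n130736 := ndS (p := 37337) (l := 3) rfl N37337 D130736
theorem N68227 : nd 68227 = n130737 := ndS (p := 37337) (l := 4) rfl N37337 D130737
theorem N68228 : nd 68228 = n130739 := ndS (p := 37337) (l := 6) rfl N37337 D130739
theorem N68229 : nd 68229 = n130740 := ndS (p := 37338) (l := 6) rfl N37338 D130740
theorem N68230 : nd 68230 = n130741 := ndS (p := 37339) (l := 0) rfl N37339 D130741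
theorem N68231 : nd 68231 = n130742 := ndS (p := 37339) (l := 1) rfl N37339 D130742
theorem N68232 : nd 68232 = n130744 := ndS (p := 37340) (l := 3) rfl N37340 D130744
theorem N68233 : nd 68233 = n130746 := ndS (p := 37341) (l := 3) rfl N37341 D130746
theorem N68234 : nd 68234 = n130749 := ndS (p := 37344) (l := 3) rfl N37344 D130749
theorem N68235 : nd 68235 = n130750 := ndS (p := 37345) (l := 0) rfl N37345 D130750
theorem N68236 : nd 68236 = n130752 := ndS (p := 37345) (l := 2) rfl N37345 D130752
theorem N68237 : nd 68237 = n130756 := ndS (p := 37346) (l := 3) rfl N37346 D130756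
theorem N68238 : nd 68238 = n130757 := ndS (p := 37346) (l := 4) rfl N37346 D130757
theorem N68239 : nd 68239 = n130775 := ndS (p := 37348) (l := 6) rfl N37348 D130775
theorem N68240 : nd 68240 = n130781 := ndS (p := 37349) (l := 6) rfl N37349 D130781
theorem N68241 : nd 68241 = n130788 := ndS (p := 37350) (l := 0) rfl N37350 D130788
theorem N68242 : nd 68242 = n130791 := ndS (p := 37350) (l := 7) rfl N37350 D130791
theorem N68243 : nd 68243 = n130793 := ndS (p := 37351) (l := 0) rfl N37351 D130793
theorem N68244 : nd 68244 = n130799 := ndS (p := 37352) (l := 3) rfl N37352 D130799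
theorem N68245 : nd 68245 = n130800 := ndS (p := 37352) (l := 5) rfl N37352 D130800
theorem N68246 : nd 68246 = n130801 := ndS (p := 37352) (l := 6) rfl N37352 D130801
theorem N68247 : nd 68247 = n130805 := ndS (p := 37353) (l := 1) rfl N37353 D130805
theorem N68248 : nd 68248 = n130808 := ndS (p := 37354) (l := 0) rfl N37354 D130808
theorem N68249 : nd 68249 = n130809 := ndS (p := 37354) (l := 1) rfl N37354 D130809
theorem N68250 : nd 68250 = n130810 := ndS (p := 37354) (l := 5) rfl N37354 D130810
theorem N68251 : nd 68251 = n130811 := ndS (p := 37354) (l := 7) rfl N37354 D130811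
theorem N68252 : nd 68252 = n130813 := ndS (p := 37355) (l := 3) rfl N37355 D130813
theorem N68253 : nd 68253 = n130814 := ndS (p := 37355) (l := 4) rfl N37355 D130814
theorem N68254 : nd 68254 = n130818 := ndS (p := 37356) (l := 3) rfl N37356 D130818
theorem N68255 : nd 68255 = n130819 := ndS (p := 37356) (l := 4) rfl N37356 D130819
theorem N68256 : nd 68256 = n130820 := ndS (p := 37356) (l := 5) rfl N37356 D130820
theorem N68257 : nd 68257 = n130821 := ndS (p := 37356) (l := 6) rfl N37356 D130821
theorem N68258 : nd 68258 = n130831 := ndS (p := 37359) (l := 3) rfl N37359 D130831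
theorem N68259 : nd 68259 = n130832 := ndS (p := 37359) (l := 5) rfl N37359 D130832
theorem N68260 : nd 68260 = n130833 := ndS (p := 37360) (l := 0) rfl N37360 D130833
theorem N68261 : nd 68261 = n130835 := ndS (p := 37360) (l := 2) rfl N37360 D130835
theorem N68262 : nd 68262 = n130837 := ndS (p := 37361) (l := 3) rfl N37361 D130837
theorem N68263 : nd 68263 = n130839 := ndS (p := 37361) (l := 6) rfl N37361 D130839
theorem N68264 : nd 68264 = n130843 := ndS (p := 37363) (l := 6) rfl N37363 D130843
theorem N68265 : nd 68265 = n130844 := ndS (p := 37365) (l := 3) rfl N37365 D130844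
theorem N68266 : nd 68266 = n130850 := ndS (p := 37367) (l := 3) rfl N37367 D130850
theorem N68267 : nd 68267 = n130852 := ndS (p := 37370) (l := 3) rfl N37370 D130852
theorem N68268 : nd 68268 = n130857 := ndS (p := 37373) (l := 5) rfl N37373 D130857
theorem N68269 : nd 68269 = n130859 := ndS (p := 37375) (l := 4) rfl N37375 D130859
theorem N68270 : nd 68270 = n130860 := ndS (p := 37375) (l := 6) rfl N37375 D130860
theorem N68271 : nd 68271 = n130862 := ndS (p := 37377) (l := 5) rfl N37377 D130862
theorem N68272 : nd 68272 = n130863 := ndS (p := 37377) (l := 6) rfl N37377 D130863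
theorem N68273 : nd 68273 = n130865 := ndS (p := 37378) (l := 7) rfl N37378 D130865
theorem N68274 : nd 68274 = n130866 := ndS (p := 37379) (l := 3) rfl N37379 D130866
theorem N68275 : nd 68275 = n130868 := ndS (p := 37379) (l := 6) rfl N37379 D130868
theorem N68276 : nd 68276 = n130869 := ndS (p := 37380) (l := 0) rfl N37380 D130869
theorem N68277 : nd 68277 = n130870 := ndS (p := 37380) (l := 1) rfl N37380 D130870
theorem N68278 : nd 68278 = n130871 := ndS (p := 37380) (l := 4) rfl N37380 D130871
theorem N68279 : nd 68279 = n130872 := ndS (p := 37380) (l := 6) rfl N37380 D130872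
theorem N68280 : nd 68280 = n130873 := ndS (p := 37381) (l := 0) rfl N37381 D130873
theorem N68281 : nd 68281 = n130874 := ndS (p := 37381) (l := 1) rfl N37381 D130874
theorem N68282 : nd 68282 = n130875 := ndS (p := 37381) (l := 5) rfl N37381 D130875
theorem N68283 : nd 68283 = n130876 := ndS (p := 37381) (l := 7) rfl N37381 D130876
theorem N68284 : nd 68284 = n130878 := ndS (p := 37382) (l := 3) rfl N37382 D130878
theorem N68285 : nd 68285 = n130879 := ndS (p := 37382) (l := 4) rfl N37382 D130879
theorem N68286 : nd 68286 = n130880 := ndS (p := 37382) (l := 5) rfl N37382 D130880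
theorem N68287 : nd 68287 = n130884 := ndS (p := 37383) (l := 4) rfl N37383 D130884
theorem N68288 : nd 68288 = n130885 := ndS (p := 37383) (l := 5) rfl N37383 D130885
theorem N68289 : nd 68289 = n130886 := ndS (p := 37383) (l := 6) rfl N37383 D130886
theorem N68290 : nd 68290 = n130890 := ndS (p := 37385) (l := 4) rfl N37385 D130890
theorem N68291 : nd 68291 = n130891 := ndS (p := 37385) (l := 5) rfl N37385 D130891
theorem N68292 : nd 68292 = n130892 := ndS (p := 37385) (l := 6) rfl N37385 D130892
theorem N68293 : nd 68293 = n130897 := ndS (p := 37389) (l := 1) rfl N37389 D130897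
theorem N68294 : nd 68294 = n130898 := ndS (p := 37389) (l := 2) rfl N37389 D130898
theorem N68295 : nd 68295 = n130899 := ndS (p := 37389) (l := 4) rfl N37389 D130899
theorem N68296 : nd 68296 = n130900 := ndS (p := 37389) (l := 6) rfl N37389 D130900
theorem N68297 : nd 68297 = n130901 := ndS (p := 37390) (l := 3) rfl N37390 D130901
theorem N68298 : nd 68298 = n130904 := ndS (p := 37391) (l := 7) rfl N37391 D130904
theorem N68299 : nd 68299 = n130905 := ndS (p := 37393) (l := 0) rfl N37393 D130905
theorem N68300 : nd 68300 = n130906 := ndS (p := 37393) (l := 1) rfl N37393 D130906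
theorem N68301 : nd 68301 = n130907 := ndS (p := 37394) (l := 0) rfl N37394 D130907
theorem N68302 : nd 68302 = n130908 := ndS (p := 37394) (l := 1) rfl N37394 D130908
theorem N68303 : nd 68303 = n130909 := ndS (p := 37394) (l := 2) rfl N37394 D130909
theorem N68304 : nd 68304 = n130910 := ndS (p := 37394) (l := 6) rfl N37394 D130910
theorem N68305 : nd 68305 = n130911 := ndS (p := 37395) (l := 6) rfl N37395 D130911
theorem N68306 : nd 68306 = n130914 := ndS (p := 37396) (l := 5) rfl N37396 D130914
theorem N68307 : nd 68307 = n130917 := ndS (p := 37399) (l := 1) rfl N37399 D130917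
theorem N68308 : nd 68308 = n130918 := ndS (p := 37399) (l := 2) rfl N37399 D130918
theorem N68309 : nd 68309 = n130922 := ndS (p := 37401) (l := 0) rfl N37401 D130922
theorem N68310 : nd 68310 = n130923 := ndS (p := 37401) (l := 1) rfl N37401 D130923
theorem N68311 : nd 68311 = n130924 := ndS (p := 37401) (l := 2) rfl N37401 D130924
theorem N68312 : nd 68312 = n130926 := ndS (p := 37401) (l := 6) rfl N37401 D130926
theorem N68313 : nd 68313 = n130931 := ndS (p := 37404) (l := 4) rfl N37404 D130931
theorem N68314 : nd 68314 = n130934 := ndS (p := 37406) (l := 5) rfl N37406 D130934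
theorem N68315 : nd 68315 = n130935 := ndS (p := 37406) (l := 6) rfl N37406 D130935
theorem N68316 : nd 68316 = n130936 := ndS (p := 37407) (l := 4) rfl N37407 D130936
theorem N68317 : nd 68317 = n130937 := ndS (p := 37407) (l := 6) rfl N37407 D130937
theorem N68318 : nd 68318 = n130938 := ndS (p := 37408) (l := 0) rfl N37408 D130938
theorem N68319 : nd 68319 = n130940 := ndS (p := 37408) (l := 5) rfl N37408 D130940
theorem N68320 : nd 68320 = n130941 := ndS (p := 37408) (l := 7) rfl N37408 D130941
theorem N68321 : nd 68321 = n130942 := ndS (p := 37409) (l := 0) rfl N37409 D130942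
theorem N68322 : nd 68322 = n130944 := ndS (p := 37409) (l := 5) rfl N37409 D130944
theorem N68323 : nd 68323 = n130945 := ndS (p := 37409) (l := 7) rfl N37409 D130945
theorem N68324 : nd 68324 = n130946 := ndS (p := 37410) (l := 3) rfl N37410 D130946
theorem N68325 : nd 68325 = n130947 := ndS (p := 37410) (l := 5) rfl N37410 D130947
theorem N68326 : nd 68326 = n130948 := ndS (p := 37411) (l := 0) rfl N37411 D130948
theorem N68327 : nd 68327 = n130949 := ndS (p := 37411) (l := 1) rfl N37411 D130949
theorem N68328 : nd 68328 = n130950 := ndS (p := 37411) (l := 4) rfl N37411 D130950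
theorem N68329 : nd 68329 = n130951 := ndS (p := 37411) (l := 7) rfl N37411 D130951
theorem N68330 : nd 68330 = n130952 := ndS (p := 37414) (l := 3) rfl N37414 D130952
theorem N68331 : nd 68331 = n130953 := ndS (p := 37414) (l := 5) rfl N37414 D130953
theorem N68332 : nd 68332 = n130954 := ndS (p := 37415) (l := 3) rfl N37415 D130954
theorem N68333 : nd 68333 = n130955 := ndS (p := 37415) (l := 4) rfl N37415 D130955
theorem N68334 : nd 68334 = n130956 := ndS (p := 37416) (l := 4) rfl N37416 D130956
theorem N68335 : nd 68335 = n130957 := ndS (p := 37417) (l := 0) rfl N37417 D130957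
theorem N68336 : nd 68336 = n130959 := ndS (p := 37417) (l := 3) rfl N37417 D130959
theorem N68337 : nd 68337 = n130961 := ndS (p := 37419) (l := 0) rfl N37419 D130961
theorem N68338 : nd 68338 = n130963 := ndS (p := 37420) (l := 6) rfl N37420 D130963
theorem N68339 : nd 68339 = n130971 := ndS (p := 37421) (l := 1) rfl N37421 D130971
theorem N68340 : nd 68340 = n130973 := ndS (p := 37421) (l := 5) rfl N37421 D130973
theorem N68341 : nd 68341 = n130975 := ndS (p := 37422) (l := 0) rfl N37422 D130975
theorem N68342 : nd 68342 = n130976 := ndS (p := 37422) (l := 1) rfl N37422 D130976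
theorem N68343 : nd 68343 = n130992 := ndS (p := 37426) (l := 3) rfl N37426 D130992
theorem N68344 : nd 68344 = n131006 := ndS (p := 37430) (l := 3) rfl N37430 D131006
theorem N68345 : nd 68345 = n131007 := ndS (p := 37430) (l := 4) rfl N37430 D131007
theorem N68346 : nd 68346 = n131008 := ndS (p := 37430) (l := 5) rfl N37430 D131008
theorem N68347 : nd 68347 = n131028 := ndS (p := 37432) (l := 4) rfl N37432 D131028
theorem N68348 : nd 68348 = n131029 := ndS (p := 37433) (l := 4) rfl N37433 D131029
theorem N68349 : nd 68349 = n131030 := ndS (p := 37434) (l := 0) rfl N37434 D131030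
theorem N68350 : nd 68350 = n131038 := ndS (p := 37435) (l := 4) rfl N37435 D131038
theorem N68351 : nd 68351 = n131040 := ndS (p := 37436) (l := 4) rfl N37436 D131040
theorem N68352 : nd 68352 = n131043 := ndS (p := 37437) (l := 1) rfl N37437 D131043
theorem N68353 : nd 68353 = n131052 := ndS (p := 37438) (l := 4) rfl N37438 D131052
theorem N68354 : nd 68354 = n131073 := ndS (p := 37441) (l := 6) rfl N37441 D131073
theorem N68355 : nd 68355 = n131088 := ndS (p := 37443) (l := 0) rfl N37443 D131088
theorem N68356 : nd 68356 = n131090 := ndS (p := 37443) (l := 5) rfl N37443 D131090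
theorem N68357 : nd 68357 = n131091 := ndS (p := 37443) (l := 6) rfl N37443 D131091
theorem N68358 : nd 68358 = n131092 := ndS (p := 37444) (l := 3) rfl N37444 D131092
theorem N68359 : nd 68359 = n131094 := ndS (p := 37444) (l := 6) rfl N37444 D131094
theorem N68360 : nd 68360 = n131096 := ndS (p := 37445) (l := 6) rfl N37445 D131096
theorem N68361 : nd 68361 = n131098 := ndS (p := 37446) (l := 7) rfl N37446 D131098
theorem N68362 : nd 68362 = n131099 := ndS (p := 37447) (l := 3) rfl N37447 D131099
theorem N68363 : nd 68363 = n131106 := ndS (p := 37450) (l := 0) rfl N37450 D131106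
theorem N68364 : nd 68364 = n131107 := ndS (p := 37450) (l := 1) rfl N37450 D131107
theorem N68365 : nd 68365 = n131108 := ndS (p := 37451) (l := 6) rfl N37451 D131108
theorem N68366 : nd 68366 = n131113 := ndS (p := 37455) (l := 4) rfl N37455 D131113
theorem N68367 : nd 68367 = n131114 := ndS (p := 37455) (l := 6) rfl N37455 D131114
theorem N68368 : nd 68368 = n131115 := ndS (p := 37456) (l := 4) rfl N37456 D131115
theorem N68369 : nd 68369 = n131116 := ndS (p := 37456) (l := 6) rfl N37456 D131116
theorem N68370 : nd 68370 = n131117 := ndS (p := 37457) (l := 0) rfl N37457 D131117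
theorem N68371 : nd 68371 = n131120 := ndS (p := 37457) (l := 6) rfl N37457 D131120
theorem N68372 : nd 68372 = n131121 := ndS (p := 37458) (l := 0) rfl N37458 D131121
theorem N68373 : nd 68373 = n131122 := ndS (p := 37458) (l := 1) rfl N37458 D131122
theorem N68374 : nd 68374 = n131123 := ndS (p := 37458) (l := 7) rfl N37458 D131123
theorem N68375 : nd 68375 = n131124 := ndS (p := 37459) (l := 3) rfl N37459 D131124
theorem N68376 : nd 68376 = n131125 := ndS (p := 37459) (l := 6) rfl N37459 D131125
theorem N68377 : nd 68377 = n131126 := ndS (p := 37460) (l := 0) rfl N37460 D131126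
theorem N68378 : nd 68378 = n131127 := ndS (p := 37460) (l := 1) rfl N37460 D131127
theorem N68379 : nd 68379 = n131128 := ndS (p := 37460) (l := 7) rfl N37460 D131128
theorem N68380 : nd 68380 = n131129 := ndS (p := 37461) (l := 3) rfl N37461 D131129
theorem N68381 : nd 68381 = n131130 := ndS (p := 37461) (l := 6) rfl N37461 D131130
theorem N68382 : nd 68382 = n131131 := ndS (p := 37462) (l := 1) rfl N37462 D131131
theorem N68383 : nd 68383 = n131132 := ndS (p := 37462) (l := 7) rfl N37462 D131132
theorem N68384 : nd 68384 = n131133 := ndS (p := 37463) (l := 3) rfl N37463 D131133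
theorem N68385 : nd 68385 = n131134 := ndS (p := 37463) (l := 6) rfl N37463 D131134
theorem N68386 : nd 68386 = n131135 := ndS (p := 37464) (l := 3) rfl N37464 D131135
theorem N68387 : nd 68387 = n131136 := ndS (p := 37464) (l := 6) rfl N37464 D131136
theorem N68388 : nd 68388 = n131138 := ndS (p := 37465) (l := 1) rfl N37465 D131138
theorem N68389 : nd 68389 = n131139 := ndS (p := 37465) (l := 2) rfl N37465 D131139
theorem N68390 : nd 68390 = n131140 := ndS (p := 37465) (l := 6) rfl N37465 D131140
theorem N68391 : nd 68391 = n131144 := ndS (p := 37466) (l := 7) rfl N37466 D131144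
theorem N68392 : nd 68392 = n131147 := ndS (p := 37467) (l := 6) rfl N37467 D131147
theorem N68393 : nd 68393 = n131149 := ndS (p := 37469) (l := 5) rfl N37469 D131149
theorem N68394 : nd 68394 = n131160 := ndS (p := 37470) (l := 4) rfl N37470 D131160
theorem N68395 : nd 68395 = n131161 := ndS (p := 37470) (l := 6) rfl N37470 D131161
theorem N68396 : nd 68396 = n131162 := ndS (p := 37471) (l := 0) rfl N37471 D131162
theorem N68397 : nd 68397 = n131164 := ndS (p := 37471) (l := 5) rfl N37471 D131164
theorem N68398 : nd 68398 = n131165 := ndS (p := 37471) (l := 7) rfl N37471 D131165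
theorem N68399 : nd 68399 = n131166 := ndS (p := 37472) (l := 3) rfl N37472 D131166
theorem N68400 : nd 68400 = n131167 := ndS (p := 37472) (l := 4) rfl N37472 D131167
theorem N68401 : nd 68401 = n131169 := ndS (p := 37473) (l := 4) rfl N37473 D131169
theorem N68402 : nd 68402 = n131173 := ndS (p := 37475) (l := 5) rfl N37475 D131173
theorem N68403 : nd 68403 = n131177 := ndS (p := 37478) (l := 6) rfl N37478 D131177
theorem N68404 : nd 68404 = n131179 := ndS (p := 37479) (l := 5) rfl N37479 D131179
theorem N68405 : nd 68405 = n131182 := ndS (p := 37480) (l := 1) rfl N37480 D131182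
theorem N68406 : nd 68406 = n131183 := ndS (p := 37480) (l := 7) rfl N37480 D131183
theorem N68407 : nd 68407 = n131185 := ndS (p := 37483) (l := 4) rfl N37483 D131185
theorem N68408 : nd 68408 = n131232 := ndS (p := 37486) (l := 3) rfl N37486 D131232
theorem N68409 : nd 68409 = n131233 := ndS (p := 37486) (l := 5) rfl N37486 D131233
theorem N68410 : nd 68410 = n131236 := ndS (p := 37487) (l := 4) rfl N37487 D131236
theorem N68411 : nd 68411 = n131247 := ndS (p := 37494) (l := 1) rfl N37494 D131247
theorem N68412 : nd 68412 = n131248 := ndS (p := 37494) (l := 5) rfl N37494 D131248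
theorem N68413 : nd 68413 = n131251 := ndS (p := 37495) (l := 1) rfl N37495 D131251
theorem N68414 : nd 68414 = n131252 := ndS (p := 37495) (l := 7) rfl N37495 D131252
theorem N68415 : nd 68415 = n131253 := ndS (p := 37496) (l := 3) rfl N37496 D131253
theorem N68416 : nd 68416 = n131256 := ndS (p := 37497) (l := 5) rfl N37497 D131256
theorem N68417 : nd 68417 = n131258 := ndS (p := 37498) (l := 3) rfl N37498 D131258
theorem N68418 : nd 68418 = n131260 := ndS (p := 37498) (l := 6) rfl N37498 D131260
theorem N68419 : nd 68419 = n131262 := ndS (p := 37499) (l := 3) rfl N37499 D131262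
theorem N68420 : nd 68420 = n131268 := ndS (p := 37502) (l := 6) rfl N37502 D131268
theorem N68421 : nd 68421 = n131269 := ndS (p := 37503) (l := 5) rfl N37503 D131269
theorem N68422 : nd 68422 = n131271 := ndS (p := 37504) (l := 0) rfl N37504 D131271
theorem N68423 : nd 68423 = n131272 := ndS (p := 37504) (l := 1) rfl N37504 D131272
theorem N68424 : nd 68424 = n131285 := ndS (p := 37509) (l := 6) rfl N37509 D131285
theorem N68425 : nd 68425 = n131286 := ndS (p := 37510) (l := 4) rfl N37510 D131286
theorem N68426 : nd 68426 = n131287 := ndS (p := 37510) (l := 6) rfl N37510 D131287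
theorem N68427 : nd 68427 = n131289 := ndS (p := 37511) (l := 5) rfl N37511 D131289
theorem N68428 : nd 68428 = n131293 := ndS (p := 37513) (l := 4) rfl N37513 D131293
theorem N68429 : nd 68429 = n131294 := ndS (p := 37513) (l := 6) rfl N37513 D131294
theorem N68430 : nd 68430 = n131298 := ndS (p := 37515) (l := 4) rfl N37515 D131298
theorem N68431 : nd 68431 = n131299 := ndS (p := 37515) (l := 6) rfl N37515 D131299
theorem N68432 : nd 68432 = n131300 := ndS (p := 37516) (l := 4) rfl N37516 D131300
theorem N68433 : nd 68433 = n131301 := ndS (p := 37516) (l := 6) rfl N37516 D131301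
theorem N68434 : nd 68434 = n131302 := ndS (p := 37517) (l := 0) rfl N37517 D131302
theorem N68435 : nd 68435 = n131303 := ndS (p := 37517) (l := 1) rfl N37517 D131303
theorem N68436 : nd 68436 = n131304 := ndS (p := 37517) (l := 3) rfl N37517 D131304
theorem N68437 : nd 68437 = n131305 := ndS (p := 37517) (l := 5) rfl N37517 D131305
theorem N68438 : nd 68438 = n131306 := ndS (p := 37517) (l := 6) rfl N37517 D131306
theorem N68439 : nd 68439 = n131307 := ndS (p := 37518) (l := 0) rfl N37518 D131307
theorem N68440 : nd 68440 = n131308 := ndS (p := 37518) (l := 1) rfl N37518 D131308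
theorem N68441 : nd 68441 = n131309 := ndS (p := 37518) (l := 7) rfl N37518 D131309
theorem N68442 : nd 68442 = n131317 := ndS (p := 37520) (l := 5) rfl N37520 D131317
theorem N68443 : nd 68443 = n131326 := ndS (p := 37522) (l := 4) rfl N37522 D131326
theorem N68444 : nd 68444 = n131335 := ndS (p := 37524) (l := 5) rfl N37524 D131335
theorem N68445 : nd 68445 = n131337 := ndS (p := 37526) (l := 0) rfl N37526 D131337
theorem N68446 : nd 68446 = n131339 := ndS (p := 37526) (l := 2) rfl N37526 D131339
theorem N68447 : nd 68447 = n131340 := ndS (p := 37526) (l := 4) rfl N37526 D131340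
theorem N68448 : nd 68448 = n131344 := ndS (p := 37529) (l := 5) rfl N37529 D131344
theorem N68449 : nd 68449 = n131350 := ndS (p := 37531) (l := 3) rfl N37531 D131350
theorem N68450 : nd 68450 = n131352 := ndS (p := 37531) (l := 6) rfl N37531 D131352
theorem N68451 : nd 68451 = n131353 := ndS (p := 37533) (l := 6) rfl N37533 D131353
theorem N68452 : nd 68452 = n131354 := ndS (p := 37534) (l := 5) rfl N37534 D131354
theorem N68453 : nd 68453 = n131355 := ndS (p := 37535) (l := 4) rfl N37535 D131355
theorem N68454 : nd 68454 = n131357 := ndS (p := 37536) (l := 3) rfl N37536 D131357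
theorem N68455 : nd 68455 = n131360 := ndS (p := 37537) (l := 0) rfl N37537 D131360
theorem N68456 : nd 68456 = n131362 := ndS (p := 37537) (l := 5) rfl N37537 D131362
theorem N68457 : nd 68457 = n131363 := ndS (p := 37537) (l := 7) rfl N37537 D131363
theorem N68458 : nd 68458 = n131366 := ndS (p := 37541) (l := 6) rfl N37541 D131366
theorem N68459 : nd 68459 = n131367 := ndS (p := 37542) (l := 0) rfl N37542 D131367
theorem N68460 : nd 68460 = n131369 := ndS (p := 37542) (l := 7) rfl N37542 D131369
theorem N68461 : nd 68461 = n131370 := ndS (p := 37543) (l := 6) rfl N37543 D131370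
theorem N68462 : nd 68462 = n131374 := ndS (p := 37544) (l := 3) rfl N37544 D131374
theorem N68463 : nd 68463 = n131375 := ndS (p := 37544) (l := 5) rfl N37544 D131375
theorem N68464 : nd 68464 = n131376 := ndS (p := 37544) (l := 6) rfl N37544 D131376
theorem N68465 : nd 68465 = n131379 := ndS (p := 37545) (l := 2) rfl N37545 D131379
theorem N68466 : nd 68466 = n131380 := ndS (p := 37545) (l := 5) rfl N37545 D131380
theorem N68467 : nd 68467 = n131381 := ndS (p := 37545) (l := 6) rfl N37545 D131381
theorem N68468 : nd 68468 = n131382 := ndS (p := 37545) (l := 7) rfl N37545 D131382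
theorem N68469 : nd 68469 = n131388 := ndS (p := 37547) (l := 1) rfl N37547 D131388
theorem N68470 : nd 68470 = n131389 := ndS (p := 37547) (l := 5) rfl N37547 D131389
theorem N68471 : nd 68471 = n131390 := ndS (p := 37547) (l := 7) rfl N37547 D131390
theorem N68472 : nd 68472 = n131391 := ndS (p := 37548) (l := 6) rfl N37548 D131391
theorem N68473 : nd 68473 = n131392 := ndS (p := 37549) (l := 4) rfl N37549 D131392
theorem N68474 : nd 68474 = n131396 := ndS (p := 37550) (l := 4) rfl N37550 D131396
theorem N68475 : nd 68475 = n131397 := ndS (p := 37550) (l := 7) rfl N37550 D131397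
theorem N68476 : nd 68476 = n131398 := ndS (p := 37554) (l := 4) rfl N37554 D131398
theorem N68477 : nd 68477 = n131399 := ndS (p := 37554) (l := 6) rfl N37554 D131399
theorem N68478 : nd 68478 = n131401 := ndS (p := 37555) (l := 5) rfl N37555 D131401
theorem N68479 : nd 68479 = n131403 := ndS (p := 37556) (l := 0) rfl N37556 D131403
theorem N68480 : nd 68480 = n131404 := ndS (p := 37556) (l := 1) rfl N37556 D131404
theorem N68481 : nd 68481 = n131405 := ndS (p := 37556) (l := 7) rfl N37556 D131405
theorem N68482 : nd 68482 = n131407 := ndS (p := 37557) (l := 6) rfl N37557 D131407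
theorem N68483 : nd 68483 = n131410 := ndS (p := 37558) (l := 7) rfl N37558 D131410
theorem N68484 : nd 68484 = n131412 := ndS (p := 37559) (l := 1) rfl N37559 D131412
theorem N68485 : nd 68485 = n131420 := ndS (p := 37561) (l := 4) rfl N37561 D131420
theorem N68486 : nd 68486 = n131421 := ndS (p := 37561) (l := 5) rfl N37561 D131421
theorem N68487 : nd 68487 = n131424 := ndS (p := 37563) (l := 5) rfl N37563 D131424
theorem N68488 : nd 68488 = n131425 := ndS (p := 37563) (l := 6) rfl N37563 D131425
theorem N68489 : nd 68489 = n131428 := ndS (p := 37564) (l := 7) rfl N37564 D131428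
theorem N68490 : nd 68490 = n131430 := ndS (p := 37565) (l := 5) rfl N37565 D131430
theorem N68491 : nd 68491 = n131431 := ndS (p := 37565) (l := 6) rfl N37565 D131431
theorem N68492 : nd 68492 = n131433 := ndS (p := 37566) (l := 5) rfl N37566 D131433
theorem N68493 : nd 68493 = n131435 := ndS (p := 37567) (l := 0) rfl N37567 D131435
theorem N68494 : nd 68494 = n131436 := ndS (p := 37567) (l := 1) rfl N37567 D131436
theorem N68495 : nd 68495 = n131438 := ndS (p := 37567) (l := 5) rfl N37567 D131438
theorem N68496 : nd 68496 = n131440 := ndS (p := 37568) (l := 0) rfl N37568 D131440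
theorem N68497 : nd 68497 = n131441 := ndS (p := 37568) (l := 1) rfl N37568 D131441
theorem N68498 : nd 68498 = n131442 := ndS (p := 37568) (l := 6) rfl N37568 D131442
theorem N68499 : nd 68499 = n131452 := ndS (p := 37571) (l := 6) rfl N37571 D131452
theorem N68500 : nd 68500 = n131453 := ndS (p := 37573) (l := 6) rfl N37573 D131453
theorem N68501 : nd 68501 = n131454 := ndS (p := 37574) (l := 3) rfl N37574 D131454
theorem N68502 : nd 68502 = n131455 := ndS (p := 37574) (l := 5) rfl N37574 D131455
theorem N68503 : nd 68503 = n131456 := ndS (p := 37574) (l := 6) rfl N37574 D131456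
theorem N68504 : nd 68504 = n131457 := ndS (p := 37575) (l := 0) rfl N37575 D131457
theorem N68505 : nd 68505 = n131458 := ndS (p := 37575) (l := 1) rfl N37575 D131458
theorem N68506 : nd 68506 = n131459 := ndS (p := 37575) (l := 7) rfl N37575 D131459
theorem N68507 : nd 68507 = n131464 := ndS (p := 37578) (l := 0) rfl N37578 D131464
theorem N68508 : nd 68508 = n131465 := ndS (p := 37578) (l := 1) rfl N37578 D131465
theorem N68509 : nd 68509 = n131467 := ndS (p := 37578) (l := 5) rfl N37578 D131467
theorem N68510 : nd 68510 = n131468 := ndS (p := 37578) (l := 6) rfl N37578 D131468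
theorem N68511 : nd 68511 = n131469 := ndS (p := 37579) (l := 0) rfl N37579 D131469
theorem N68512 : nd 68512 = n131472 := ndS (p := 37580) (l := 0) rfl N37580 D131472
theorem N68513 : nd 68513 = n131473 := ndS (p := 37580) (l := 1) rfl N37580 D131473
theorem N68514 : nd 68514 = n131474 := ndS (p := 37580) (l := 5) rfl N37580 D131474
theorem N68515 : nd 68515 = n131475 := ndS (p := 37580) (l := 7) rfl N37580 D131475
theorem N68516 : nd 68516 = n131478 := ndS (p := 37581) (l := 4) rfl N37581 D131478
theorem N68517 : nd 68517 = n131479 := ndS (p := 37581) (l := 5) rfl N37581 D131479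
theorem N68518 : nd 68518 = n131480 := ndS (p := 37581) (l := 6) rfl N37581 D131480
theorem N68519 : nd 68519 = n131483 := ndS (p := 37582) (l := 4) rfl N37582 D131483
theorem N68520 : nd 68520 = n131484 := ndS (p := 37582) (l := 5) rfl N37582 D131484
theorem N68521 : nd 68521 = n131485 := ndS (p := 37582) (l := 6) rfl N37582 D131485
theorem N68522 : nd 68522 = n131487 := ndS (p := 37584) (l := 5) rfl N37584 D131487
theorem N68523 : nd 68523 = n131488 := ndS (p := 37584) (l := 6) rfl N37584 D131488
theorem N68524 : nd 68524 = n131489 := ndS (p := 37585) (l := 0) rfl N37585 D131489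
theorem N68525 : nd 68525 = n131490 := ndS (p := 37585) (l := 1) rfl N37585 D131490
theorem N68526 : nd 68526 = n131491 := ndS (p := 37585) (l := 7) rfl N37585 D131491
theorem N68527 : nd 68527 = n131500 := ndS (p := 37587) (l := 5) rfl N37587 D131500
theorem N68528 : nd 68528 = n131503 := ndS (p := 37588) (l := 5) rfl N37588 D131503
theorem N68529 : nd 68529 = n131508 := ndS (p := 37590) (l := 5) rfl N37590 D131508
theorem N68530 : nd 68530 = n131509 := ndS (p := 37590) (l := 6) rfl N37590 D131509
theorem N68531 : nd 68531 = n131510 := ndS (p := 37591) (l := 6) rfl N37591 D131510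
theorem N68532 : nd 68532 = n131511 := ndS (p := 37592) (l := 6) rfl N37592 D131511
theorem N68533 : nd 68533 = n131514 := ndS (p := 37593) (l := 5) rfl N37593 D131514
theorem N68534 : nd 68534 = n131515 := ndS (p := 37593) (l := 7) rfl N37593 D131515
theorem N68535 : nd 68535 = n131522 := ndS (p := 37595) (l := 6) rfl N37595 D131522
theorem N68536 : nd 68536 = n131525 := ndS (p := 37596) (l := 5) rfl N37596 D131525
theorem N68537 : nd 68537 = n131530 := ndS (p := 37597) (l := 5) rfl N37597 D131530
theorem N68538 : nd 68538 = n131531 := ndS (p := 37597) (l := 6) rfl N37597 D131531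
theorem N68539 : nd 68539 = n131533 := ndS (p := 37598) (l := 3) rfl N37598 D131533
theorem N68540 : nd 68540 = n131534 := ndS (p := 37598) (l := 5) rfl N37598 D131534
theorem N68541 : nd 68541 = n131535 := ndS (p := 37598) (l := 6) rfl N37598 D131535
theorem N68542 : nd 68542 = n131540 := ndS (p := 37600) (l := 4) rfl N37600 D131540
theorem N68543 : nd 68543 = n131541 := ndS (p := 37600) (l := 6) rfl N37600 D131541
theorem N68544 : nd 68544 = n131546 := ndS (p := 37601) (l := 3) rfl N37601 D131546
theorem N68545 : nd 68545 = n131550 := ndS (p := 37603) (l := 3) rfl N37603 D131550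
theorem N68546 : nd 68546 = n131551 := ndS (p := 37603) (l := 6) rfl N37603 D131551
theorem N68547 : nd 68547 = n131552 := ndS (p := 37604) (l := 0) rfl N37604 D131552
theorem N68548 : nd 68548 = n131553 := ndS (p := 37604) (l := 1) rfl N37604 D131553
theorem N68549 : nd 68549 = n131554 := ndS (p := 37604) (l := 5) rfl N37604 D131554
theorem N68550 : nd 68550 = n131555 := ndS (p := 37604) (l := 7) rfl N37604 D131555
theorem N68551 : nd 68551 = n131556 := ndS (p := 37605) (l := 6) rfl N37605 D131556
theorem N68552 : nd 68552 = n131571 := ndS (p := 37609) (l := 6) rfl N37609 D131571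
theorem N68553 : nd 68553 = n131572 := ndS (p := 37610) (l := 0) rfl N37610 D131572
theorem N68554 : nd 68554 = n131573 := ndS (p := 37610) (l := 1) rfl N37610 D131573
theorem N68555 : nd 68555 = n131578 := ndS (p := 37611) (l := 4) rfl N37611 D131578
theorem N68556 : nd 68556 = n131593 := ndS (p := 37613) (l := 0) rfl N37613 D131593
theorem N68557 : nd 68557 = n131596 := ndS (p := 37613) (l := 7) rfl N37613 D131596
theorem N68558 : nd 68558 = n131598 := ndS (p := 37615) (l := 3) rfl N37615 D131598
theorem N68559 : nd 68559 = n131601 := ndS (p := 37615) (l := 6) rfl N37615 D131601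
theorem N68560 : nd 68560 = n131603 := ndS (p := 37616) (l := 3) rfl N37616 D131603
theorem N68561 : nd 68561 = n131606 := ndS (p := 37616) (l := 6) rfl N37616 D131606
theorem N68562 : nd 68562 = n131608 := ndS (p := 37617) (l := 1) rfl N37617 D131608
theorem N68563 : nd 68563 = n131609 := ndS (p := 37617) (l := 5) rfl N37617 D131609
theorem N68564 : nd 68564 = n131610 := ndS (p := 37617) (l := 7) rfl N37617 D131610
theorem N68565 : nd 68565 = n131612 := ndS (p := 37618) (l := 3) rfl N37618 D131612
theorem N68566 : nd 68566 = n131613 := ndS (p := 37618) (l := 4) rfl N37618 D131613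
theorem N68567 : nd 68567 = n131615 := ndS (p := 37618) (l := 6) rfl N37618 D131615
theorem N68568 : nd 68568 = n131617 := ndS (p := 37619) (l := 3) rfl N37619 D131617
theorem N68569 : nd 68569 = n131618 := ndS (p := 37619) (l := 4) rfl N37619 D131618
theorem N68570 : nd 68570 = n131619 := ndS (p := 37619) (l := 5) rfl N37619 D131619
theorem N68571 : nd 68571 = n131620 := ndS (p := 37619) (l := 6) rfl N37619 D131620
theorem N68572 : nd 68572 = n131633 := ndS (p := 37624) (l := 0) rfl N37624 D131633
theorem N68573 : nd 68573 = n131634 := ndS (p := 37624) (l := 7) rfl N37624 D131634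
theorem N68574 : nd 68574 = n131639 := ndS (p := 37626) (l := 7) rfl N37626 D131639
theorem N68575 : nd 68575 = n131641 := ndS (p := 37628) (l := 1) rfl N37628 D131641
theorem N68576 : nd 68576 = n131642 := ndS (p := 37628) (l := 4) rfl N37628 D131642
theorem N68577 : nd 68577 = n131655 := ndS (p := 37634) (l := 1) rfl N37634 D131655
theorem N68578 : nd 68578 = n131666 := ndS (p := 37635) (l := 6) rfl N37635 D131666
theorem N68579 : nd 68579 = n131668 := ndS (p := 37636) (l := 0) rfl N37636 D131668
theorem N68580 : nd 68580 = n131670 := ndS (p := 37636) (l := 3) rfl N37636 D131670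
theorem N68581 : nd 68581 = n131671 := ndS (p := 37636) (l := 5) rfl N37636 D131671
theorem N68582 : nd 68582 = n131672 := ndS (p := 37636) (l := 6) rfl N37636 D131672
theorem N68583 : nd 68583 = n131679 := ndS (p := 37637) (l := 0) rfl N37637 D131679
theorem N68584 : nd 68584 = n131682 := ndS (p := 37637) (l := 7) rfl N37637 D131682
theorem N68585 : nd 68585 = n131684 := ndS (p := 37638) (l := 0) rfl N37638 D131684
theorem N68586 : nd 68586 = n131686 := ndS (p := 37638) (l := 2) rfl N37638 D131686
theorem N68587 : nd 68587 = n131687 := ndS (p := 37638) (l := 4) rfl N37638 D131687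
theorem N68588 : nd 68588 = n131688 := ndS (p := 37638) (l := 6) rfl N37638 D131688
theorem N68589 : nd 68589 = n131691 := ndS (p := 37639) (l := 6) rfl N37639 D131691
theorem N68590 : nd 68590 = n131694 := ndS (p := 37640) (l := 5) rfl N37640 D131694
theorem N68591 : nd 68591 = n131695 := ndS (p := 37640) (l := 7) rfl N37640 D131695
theorem N68592 : nd 68592 = n131709 := ndS (p := 37643) (l := 6) rfl N37643 D131709
theorem N68593 : nd 68593 = n131740 := ndS (p := 37644) (l := 0) rfl N37644 D131740
theorem N68594 : nd 68594 = n131741 := ndS (p := 37644) (l := 7) rfl N37644 D131741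
theorem N68595 : nd 68595 = n131778 := ndS (p := 37649) (l := 6) rfl N37649 D131778
theorem N68596 : nd 68596 = n131787 := ndS (p := 37653) (l := 7) rfl N37653 D131787
theorem N68597 : nd 68597 = n131788 := ndS (p := 37655) (l := 0) rfl N37655 D131788
theorem N68598 : nd 68598 = n131789 := ndS (p := 37655) (l := 1) rfl N37655 D131789
theorem N68599 : nd 68599 = n131795 := ndS (p := 37659) (l := 6) rfl N37659 D131795
theorem N68600 : nd 68600 = n131796 := ndS (p := 37661) (l := 0) rfl N37661 D131796
theorem N68601 : nd 68601 = n131797 := ndS (p := 37661) (l := 1) rfl N37661 D131797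
theorem N68602 : nd 68602 = n131798 := ndS (p := 37661) (l := 2) rfl N37661 D131798
theorem N68603 : nd 68603 = n131799 := ndS (p := 37661) (l := 5) rfl N37661 D131799
theorem N68604 : nd 68604 = n131800 := ndS (p := 37661) (l := 6) rfl N37661 D131800
theorem N68605 : nd 68605 = n131801 := ndS (p := 37662) (l := 6) rfl N37662 D131801
theorem N68606 : nd 68606 = n131802 := ndS (p := 37663) (l := 0) rfl N37663 D131802
theorem N68607 : nd 68607 = n131803 := ndS (p := 37663) (l := 1) rfl N37663 D131803
theorem N68608 : nd 68608 = n131804 := ndS (p := 37663) (l := 7) rfl N37663 D131804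
theorem N68609 : nd 68609 = n131805 := ndS (p := 37664) (l := 3) rfl N37664 D131805
theorem N68610 : nd 68610 = n131806 := ndS (p := 37664) (l := 4) rfl N37664 D131806
theorem N68611 : nd 68611 = n131808 := ndS (p := 37665) (l := 4) rfl N37665 D131808
theorem N68612 : nd 68612 = n131809 := ndS (p := 37667) (l := 0) rfl N37667 D131809
theorem N68613 : nd 68613 = n131810 := ndS (p := 37667) (l := 1) rfl N37667 D131810
theorem N68614 : nd 68614 = n131811 := ndS (p := 37667) (l := 2) rfl N37667 D131811
theorem N68615 : nd 68615 = n131812 := ndS (p := 37667) (l := 5) rfl N37667 D131812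
theorem N68616 : nd 68616 = n131813 := ndS (p := 37668) (l := 6) rfl N37668 D131813
theorem N68617 : nd 68617 = n131814 := ndS (p := 37669) (l := 0) rfl N37669 D131814
theorem N68618 : nd 68618 = n131815 := ndS (p := 37669) (l := 1) rfl N37669 D131815
theorem N68619 : nd 68619 = n131816 := ndS (p := 37669) (l := 2) rfl N37669 D131816
theorem N68620 : nd 68620 = n131817 := ndS (p := 37669) (l := 5) rfl N37669 D131817
theorem N68621 : nd 68621 = n131818 := ndS (p := 37669) (l := 6) rfl N37669 D131818
theorem N68622 : nd 68622 = n131819 := ndS (p := 37670) (l := 6) rfl N37670 D131819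
theorem N68623 : nd 68623 = n131820 := ndS (p := 37671) (l := 7) rfl N37671 D131820
theorem N68624 : nd 68624 = n131821 := ndS (p := 37672) (l := 0) rfl N37672 D131821
theorem N68625 : nd 68625 = n131822 := ndS (p := 37672) (l := 1) rfl N37672 D131822
theorem N68626 : nd 68626 = n131823 := ndS (p := 37672) (l := 2) rfl N37672 D131823
theorem N68627 : nd 68627 = n131824 := ndS (p := 37672) (l := 5) rfl N37672 D131824
theorem N68628 : nd 68628 = n131825 := ndS (p := 37672) (l := 6) rfl N37672 D131825
theorem N68629 : nd 68629 = n131826 := ndS (p := 37673) (l := 6) rfl N37673 D131826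
theorem N68630 : nd 68630 = n131829 := ndS (p := 37675) (l := 3) rfl N37675 D131829
theorem N68631 : nd 68631 = n131830 := ndS (p := 37675) (l := 4) rfl N37675 D131830
theorem N68632 : nd 68632 = n131831 := ndS (p := 37675) (l := 5) rfl N37675 D131831
theorem N68633 : nd 68633 = n131832 := ndS (p := 37675) (l := 6) rfl N37675 D131832
theorem N68634 : nd 68634 = n131835 := ndS (p := 37676) (l := 4) rfl N37676 D131835
theorem N68635 : nd 68635 = n131836 := ndS (p := 37676) (l := 5) rfl N37676 D131836
theorem N68636 : nd 68636 = n131838 := ndS (p := 37677) (l := 5) rfl N37677 D131838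
theorem N68637 : nd 68637 = n131840 := ndS (p := 37678) (l := 0) rfl N37678 D131840
theorem N68638 : nd 68638 = n131841 := ndS (p := 37678) (l := 1) rfl N37678 D131841
theorem N68639 : nd 68639 = n131842 := ndS (p := 37678) (l := 4) rfl N37678 D131842
theorem N68640 : nd 68640 = n131848 := ndS (p := 37680) (l := 0) rfl N37680 D131848
theorem N68641 : nd 68641 = n131849 := ndS (p := 37680) (l := 1) rfl N37680 D131849
theorem N68642 : nd 68642 = n131851 := ndS (p := 37680) (l := 7) rfl N37680 D131851
theorem N68643 : nd 68643 = n131852 := ndS (p := 37681) (l := 3) rfl N37681 D131852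
theorem N68644 : nd 68644 = n131853 := ndS (p := 37682) (l := 3) rfl N37682 D131853
theorem N68645 : nd 68645 = n131854 := ndS (p := 37682) (l := 6) rfl N37682 D131854
theorem N68646 : nd 68646 = n131855 := ndS (p := 37683) (l := 0) rfl N37683 D131855
theorem N68647 : nd 68647 = n131856 := ndS (p := 37683) (l := 1) rfl N37683 D131856
theorem N68648 : nd 68648 = n131859 := ndS (p := 37685) (l := 3) rfl N37685 D131859
theorem N68649 : nd 68649 = n131860 := ndS (p := 37686) (l := 3) rfl N37686 D131860
theorem N68650 : nd 68650 = n131861 := ndS (p := 37686) (l := 6) rfl N37686 D131861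
theorem N68651 : nd 68651 = n131863 := ndS (p := 37688) (l := 1) rfl N37688 D131863
theorem N68652 : nd 68652 = n131869 := ndS (p := 37689) (l := 5) rfl N37689 D131869
theorem N68653 : nd 68653 = n131870 := ndS (p := 37690) (l := 6) rfl N37690 D131870
theorem N68654 : nd 68654 = n131871 := ndS (p := 37691) (l := 0) rfl N37691 D131871
theorem N68655 : nd 68655 = n131873 := ndS (p := 37691) (l := 7) rfl N37691 D131873
theorem N68656 : nd 68656 = n131879 := ndS (p := 37693) (l := 3) rfl N37693 D131879
theorem N68657 : nd 68657 = n131881 := ndS (p := 37693) (l := 5) rfl N37693 D131881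
theorem N68658 : nd 68658 = n131884 := ndS (p := 37694) (l := 6) rfl N37694 D131884
theorem N68659 : nd 68659 = n131888 := ndS (p := 37695) (l := 6) rfl N37695 D131888
theorem N68660 : nd 68660 = n131889 := ndS (p := 37696) (l := 0) rfl N37696 D131889
theorem N68661 : nd 68661 = n131890 := ndS (p := 37696) (l := 1) rfl N37696 D131890
theorem N68662 : nd 68662 = n131891 := ndS (p := 37696) (l := 5) rfl N37696 D131891
theorem N68663 : nd 68663 = n131892 := ndS (p := 37696) (l := 7) rfl N37696 D131892
theorem N68664 : nd 68664 = n131893 := ndS (p := 37697) (l := 0) rfl N37697 D131893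
theorem N68665 : nd 68665 = n131894 := ndS (p := 37697) (l := 1) rfl N37697 D131894
theorem N68666 : nd 68666 = n131895 := ndS (p := 37697) (l := 5) rfl N37697 D131895
theorem N68667 : nd 68667 = n131897 := ndS (p := 37698) (l := 3) rfl N37698 D131897
theorem N68668 : nd 68668 = n131898 := ndS (p := 37698) (l := 5) rfl N37698 D131898
theorem N68669 : nd 68669 = n131899 := ndS (p := 37698) (l := 6) rfl N37698 D131899
theorem N68670 : nd 68670 = n131901 := ndS (p := 37699) (l := 5) rfl N37699 D131901
theorem N68671 : nd 68671 = n131906 := ndS (p := 37702) (l := 3) rfl N37702 D131906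
theorem N68672 : nd 68672 = n131907 := ndS (p := 37702) (l := 5) rfl N37702 D131907
theorem N68673 : nd 68673 = n131908 := ndS (p := 37702) (l := 6) rfl N37702 D131908
theorem N68674 : nd 68674 = n131909 := ndS (p := 37704) (l := 3) rfl N37704 D131909
theorem N68675 : nd 68675 = n131910 := ndS (p := 37704) (l := 5) rfl N37704 D131910
theorem N68676 : nd 68676 = n131911 := ndS (p := 37707) (l := 0) rfl N37707 D131911
theorem N68677 : nd 68677 = n131912 := ndS (p := 37707) (l := 1) rfl N37707 D131912
theorem N68678 : nd 68678 = n131913 := ndS (p := 37707) (l := 3) rfl N37707 D131913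
theorem N68679 : nd 68679 = n131914 := ndS (p := 37707) (l := 5) rfl N37707 D131914
theorem N68680 : nd 68680 = n131915 := ndS (p := 37707) (l := 7) rfl N37707 D131915
theorem N68681 : nd 68681 = n131916 := ndS (p := 37709) (l := 0) rfl N37709 D131916
theorem N68682 : nd 68682 = n131917 := ndS (p := 37709) (l := 1) rfl N37709 D131917
theorem N68683 : nd 68683 = n131918 := ndS (p := 37709) (l := 2) rfl N37709 D131918
theorem N68684 : nd 68684 = n131919 := ndS (p := 37710) (l := 0) rfl N37710 D131919
theorem N68685 : nd 68685 = n131920 := ndS (p := 37710) (l := 1) rfl N37710 D131920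
theorem N68686 : nd 68686 = n131921 := ndS (p := 37710) (l := 2) rfl N37710 D131921
theorem N68687 : nd 68687 = n131922 := ndS (p := 37710) (l := 5) rfl N37710 D131922
theorem N68688 : nd 68688 = n131924 := ndS (p := 37711) (l := 6) rfl N37711 D131924
theorem N68689 : nd 68689 = n131925 := ndS (p := 37712) (l := 1) rfl N37712 D131925
theorem N68690 : nd 68690 = n131926 := ndS (p := 37712) (l := 5) rfl N37712 D131926
theorem N68691 : nd 68691 = n131927 := ndS (p := 37712) (l := 7) rfl N37712 D131927
theorem N68692 : nd 68692 = n131928 := ndS (p := 37713) (l := 5) rfl N37713 D131928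
theorem N68693 : nd 68693 = n131929 := ndS (p := 37714) (l := 3) rfl N37714 D131929
theorem N68694 : nd 68694 = n131930 := ndS (p := 37714) (l := 5) rfl N37714 D131930
theorem N68695 : nd 68695 = n131931 := ndS (p := 37714) (l := 6) rfl N37714 D131931
theorem N68696 : nd 68696 = n131933 := ndS (p := 37716) (l := 3) rfl N37716 D131933
theorem N68697 : nd 68697 = n131934 := ndS (p := 37716) (l := 4) rfl N37716 D131934
theorem N68698 : nd 68698 = n131936 := ndS (p := 37716) (l := 6) rfl N37716 D131936
theorem N68699 : nd 68699 = n131938 := ndS (p := 37717) (l := 3) rfl N37717 D131938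
theorem N68700 : nd 68700 = n131939 := ndS (p := 37717) (l := 4) rfl N37717 D131939
theorem N68701 : nd 68701 = n131942 := ndS (p := 37718) (l := 5) rfl N37718 D131942
theorem N68702 : nd 68702 = n131943 := ndS (p := 37718) (l := 6) rfl N37718 D131943
theorem N68703 : nd 68703 = n131944 := ndS (p := 37719) (l := 0) rfl N37719 D131944
theorem N68704 : nd 68704 = n131945 := ndS (p := 37719) (l := 1) rfl N37719 D131945
theorem N68705 : nd 68705 = n131946 := ndS (p := 37719) (l := 4) rfl N37719 D131946
theorem N68706 : nd 68706 = n131947 := ndS (p := 37719) (l := 6) rfl N37719 D131947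
theorem N68707 : nd 68707 = n131949 := ndS (p := 37720) (l := 1) rfl N37720 D131949
theorem N68708 : nd 68708 = n131950 := ndS (p := 37720) (l := 5) rfl N37720 D131950
theorem N68709 : nd 68709 = n131951 := ndS (p := 37720) (l := 7) rfl N37720 D131951
theorem N68710 : nd 68710 = n131952 := ndS (p := 37721) (l := 3) rfl N37721 D131952
theorem N68711 : nd 68711 = n131953 := ndS (p := 37721) (l := 6) rfl N37721 D131953
theorem N68712 : nd 68712 = n131954 := ndS (p := 37722) (l := 3) rfl N37722 D131954
theorem N68713 : nd 68713 = n131955 := ndS (p := 37722) (l := 6) rfl N37722 D131955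
theorem N68714 : nd 68714 = n131956 := ndS (p := 37723) (l := 0) rfl N37723 D131956
theorem N68715 : nd 68715 = n131957 := ndS (p := 37723) (l := 1) rfl N37723 D131957
theorem N68716 : nd 68716 = n131958 := ndS (p := 37723) (l := 5) rfl N37723 D131958
theorem N68717 : nd 68717 = n131959 := ndS (p := 37723) (l := 7) rfl N37723 D131959
theorem N68718 : nd 68718 = n131960 := ndS (p := 37724) (l := 3) rfl N37724 D131960
theorem N68719 : nd 68719 = n131961 := ndS (p := 37724) (l := 5) rfl N37724 D131961
theorem N68720 : nd 68720 = n131962 := ndS (p := 37725) (l := 3) rfl N37725 D131962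
theorem N68721 : nd 68721 = n131963 := ndS (p := 37725) (l := 5) rfl N37725 D131963
theorem N68722 : nd 68722 = n131965 := ndS (p := 37726) (l := 1) rfl N37726 D131965
theorem N68723 : nd 68723 = n131966 := ndS (p := 37726) (l := 4) rfl N37726 D131966
theorem N68724 : nd 68724 = n131967 := ndS (p := 37726) (l := 7) rfl N37726 D131967
theorem N68725 : nd 68725 = n131968 := ndS (p := 37728) (l := 3) rfl N37728 D131968
theorem N68726 : nd 68726 = n131969 := ndS (p := 37728) (l := 5) rfl N37728 D131969
theorem N68727 : nd 68727 = n131970 := ndS (p := 37729) (l := 4) rfl N37729 D131970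
theorem N68728 : nd 68728 = n131971 := ndS (p := 37730) (l := 3) rfl N37730 D131971
theorem N68729 : nd 68729 = n131972 := ndS (p := 37730) (l := 5) rfl N37730 D131972
theorem N68730 : nd 68730 = n131973 := ndS (p := 37730) (l := 6) rfl N37730 D131973
theorem N68731 : nd 68731 = n131974 := ndS (p := 37732) (l := 6) rfl N37732 D131974
theorem N68732 : nd 68732 = n131976 := ndS (p := 37736) (l := 3) rfl N37736 D131976
theorem N68733 : nd 68733 = n131980 := ndS (p := 37737) (l := 5) rfl N37737 D131980
theorem N68734 : nd 68734 = n131981 := ndS (p := 37737) (l := 6) rfl N37737 D131981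
theorem N68735 : nd 68735 = n131982 := ndS (p := 37738) (l := 0) rfl N37738 D131982
theorem N68736 : nd 68736 = n131983 := ndS (p := 37738) (l := 1) rfl N37738 D131983
theorem N68737 : nd 68737 = n131984 := ndS (p := 37738) (l := 4) rfl N37738 D131984
theorem N68738 : nd 68738 = n131985 := ndS (p := 37738) (l := 6) rfl N37738 D131985
theorem N68739 : nd 68739 = n131986 := ndS (p := 37739) (l := 0) rfl N37739 D131986
theorem N68740 : nd 68740 = n131987 := ndS (p := 37739) (l := 1) rfl N37739 D131987
theorem N68741 : nd 68741 = n131989 := ndS (p := 37739) (l := 7) rfl N37739 D131989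
theorem N68742 : nd 68742 = n131991 := ndS (p := 37740) (l := 1) rfl N37740 D131991
theorem N68743 : nd 68743 = n131993 := ndS (p := 37740) (l := 7) rfl N37740 D131993
theorem N68744 : nd 68744 = n131997 := ndS (p := 37741) (l := 3) rfl N37741 D131997
theorem N68745 : nd 68745 = n132001 := ndS (p := 37743) (l := 3) rfl N37743 D132001
theorem N68746 : nd 68746 = n132003 := ndS (p := 37743) (l := 6) rfl N37743 D132003
theorem N68747 : nd 68747 = n132004 := ndS (p := 37745) (l := 3) rfl N37745 D132004
theorem N68748 : nd 68748 = n132007 := ndS (p := 37746) (l := 3) rfl N37746 D132007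
theorem N68749 : nd 68749 = n132008 := ndS (p := 37746) (l := 4) rfl N37746 D132008
theorem N68750 : nd 68750 = n132009 := ndS (p := 37746) (l := 5) rfl N37746 D132009
theorem N68751 : nd 68751 = n132010 := ndS (p := 37746) (l := 6) rfl N37746 D132010
theorem N68752 : nd 68752 = n132012 := ndS (p := 37747) (l := 3) rfl N37747 D132012
theorem N68753 : nd 68753 = n132013 := ndS (p := 37747) (l := 4) rfl N37747 D132013
theorem N68754 : nd 68754 = n132014 := ndS (p := 37747) (l := 5) rfl N37747 D132014
theorem N68755 : nd 68755 = n132022 := ndS (p := 37749) (l := 0) rfl N37749 D132022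
theorem N68756 : nd 68756 = n132023 := ndS (p := 37749) (l := 1) rfl N37749 D132023
theorem N68757 : nd 68757 = n132025 := ndS (p := 37749) (l := 7) rfl N37749 D132025
theorem N68758 : nd 68758 = n132032 := ndS (p := 37751) (l := 1) rfl N37751 D132032
theorem N68759 : nd 68759 = n132033 := ndS (p := 37751) (l := 4) rfl N37751 D132033
theorem N68760 : nd 68760 = n132034 := ndS (p := 37751) (l := 7) rfl N37751 D132034
theorem N68761 : nd 68761 = n132036 := ndS (p := 37753) (l := 3) rfl N37753 D132036
theorem N68762 : nd 68762 = n132037 := ndS (p := 37753) (l := 4) rfl N37753 D132037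
theorem N68763 : nd 68763 = n132038 := ndS (p := 37753) (l := 5) rfl N37753 D132038
theorem N68764 : nd 68764 = n132041 := ndS (p := 37754) (l := 3) rfl N37754 D132041
theorem N68765 : nd 68765 = n132042 := ndS (p := 37754) (l := 4) rfl N37754 D132042
theorem N68766 : nd 68766 = n132043 := ndS (p := 37754) (l := 5) rfl N37754 D132043
theorem N68767 : nd 68767 = n132044 := ndS (p := 37754) (l := 6) rfl N37754 D132044
theorem N68768 : nd 68768 = n132045 := ndS (p := 37755) (l := 5) rfl N37755 D132045
theorem N68769 : nd 68769 = n132047 := ndS (p := 37756) (l := 0) rfl N37756 D132047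
theorem N68770 : nd 68770 = n132048 := ndS (p := 37756) (l := 1) rfl N37756 D132048
theorem N68771 : nd 68771 = n132049 := ndS (p := 37756) (l := 4) rfl N37756 D132049
theorem N68772 : nd 68772 = n132061 := ndS (p := 37760) (l := 6) rfl N37760 D132061
theorem N68773 : nd 68773 = n132064 := ndS (p := 37761) (l := 3) rfl N37761 D132064
theorem N68774 : nd 68774 = n132066 := ndS (p := 37761) (l := 5) rfl N37761 D132066
theorem N68775 : nd 68775 = n132067 := ndS (p := 37761) (l := 6) rfl N37761 D132067
theorem N68776 : nd 68776 = n132071 := ndS (p := 37762) (l := 5) rfl N37762 D132071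
theorem N68777 : nd 68777 = n132072 := ndS (p := 37762) (l := 6) rfl N37762 D132072
theorem N68778 : nd 68778 = n132074 := ndS (p := 37763) (l := 0) rfl N37763 D132074
theorem N68779 : nd 68779 = n132077 := ndS (p := 37763) (l := 6) rfl N37763 D132077
theorem N68780 : nd 68780 = n132078 := ndS (p := 37763) (l := 7) rfl N37763 D132078
theorem N68781 : nd 68781 = n132079 := ndS (p := 37764) (l := 0) rfl N37764 D132079
theorem N68782 : nd 68782 = n132081 := ndS (p := 37764) (l := 4) rfl N37764 D132081
theorem N68783 : nd 68783 = n132082 := ndS (p := 37764) (l := 6) rfl N37764 D132082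
theorem N68784 : nd 68784 = n132083 := ndS (p := 37764) (l := 7) rfl N37764 D132083
theorem N68785 : nd 68785 = n132084 := ndS (p := 37765) (l := 0) rfl N37765 D132084
theorem N68786 : nd 68786 = n132086 := ndS (p := 37765) (l := 5) rfl N37765 D132086
theorem N68787 : nd 68787 = n132087 := ndS (p := 37765) (l := 7) rfl N37765 D132087
theorem N68788 : nd 68788 = n132088 := ndS (p := 37766) (l := 6) rfl N37766 D132088
theorem N68789 : nd 68789 = n132089 := ndS (p := 37767) (l := 0) rfl N37767 D132089
theorem N68790 : nd 68790 = n132091 := ndS (p := 37767) (l := 2) rfl N37767 D132091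
theorem N68791 : nd 68791 = n132092 := ndS (p := 37767) (l := 4) rfl N37767 D132092
theorem N68792 : nd 68792 = n132093 := ndS (p := 37767) (l := 5) rfl N37767 D132093
theorem N68793 : nd 68793 = n132094 := ndS (p := 37767) (l := 6) rfl N37767 D132094
theorem N68794 : nd 68794 = n132095 := ndS (p := 37768) (l := 5) rfl N37768 D132095
theorem N68795 : nd 68795 = n132096 := ndS (p := 37768) (l := 6) rfl N37768 D132096
theorem N68796 : nd 68796 = n132097 := ndS (p := 37769) (l := 4) rfl N37769 D132097
theorem N68797 : nd 68797 = n132098 := ndS (p := 37769) (l := 6) rfl N37769 D132098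
theorem N68798 : nd 68798 = n132100 := ndS (p := 37770) (l := 1) rfl N37770 D132100
theorem N68799 : nd 68799 = n132101 := ndS (p := 37770) (l := 5) rfl N37770 D132101
theorem N68800 : nd 68800 = n132102 := ndS (p := 37770) (l := 7) rfl N37770 D132102
theorem N68801 : nd 68801 = n132103 := ndS (p := 37771) (l := 4) rfl N37771 D132103
theorem N68802 : nd 68802 = n132104 := ndS (p := 37771) (l := 6) rfl N37771 D132104
theorem N68803 : nd 68803 = n132107 := ndS (p := 37772) (l := 4) rfl N37772 D132107
theorem N68804 : nd 68804 = n132110 := ndS (p := 37773) (l := 3) rfl N37773 D132110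
theorem N68805 : nd 68805 = n132111 := ndS (p := 37773) (l := 4) rfl N37773 D132111
theorem N68806 : nd 68806 = n132113 := ndS (p := 37773) (l := 6) rfl N37773 D132113
theorem N68807 : nd 68807 = n132115 := ndS (p := 37774) (l := 1) rfl N37774 D132115
theorem N68808 : nd 68808 = n132116 := ndS (p := 37774) (l := 5) rfl N37774 D132116
theorem N68809 : nd 68809 = n132117 := ndS (p := 37774) (l := 6) rfl N37774 D132117
theorem N68810 : nd 68810 = n132119 := ndS (p := 37775) (l := 1) rfl N37775 D132119
theorem N68811 : nd 68811 = n132120 := ndS (p := 37775) (l := 7) rfl N37775 D132120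
theorem N68812 : nd 68812 = n132121 := ndS (p := 37776) (l := 0) rfl N37776 D132121
theorem N68813 : nd 68813 = n132122 := ndS (p := 37776) (l := 1) rfl N37776 D132122
theorem N68814 : nd 68814 = n132123 := ndS (p := 37776) (l := 5) rfl N37776 D132123
theorem N68815 : nd 68815 = n132125 := ndS (p := 37777) (l := 2) rfl N37777 D132125
theorem N68816 : nd 68816 = n132126 := ndS (p := 37777) (l := 4) rfl N37777 D132126
theorem N68817 : nd 68817 = n132128 := ndS (p := 37778) (l := 0) rfl N37778 D132128
theorem N68818 : nd 68818 = n132131 := ndS (p := 37778) (l := 7) rfl N37778 D132131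
theorem N68819 : nd 68819 = n132134 := ndS (p := 37779) (l := 2) rfl N37779 D132134
theorem N68820 : nd 68820 = n132135 := ndS (p := 37779) (l := 4) rfl N37779 D132135
theorem N68821 : nd 68821 = n132136 := ndS (p := 37779) (l := 6) rfl N37779 D132136
theorem N68822 : nd 68822 = n132138 := ndS (p := 37780) (l := 1) rfl N37780 D132138
theorem N68823 : nd 68823 = n132139 := ndS (p := 37780) (l := 5) rfl N37780 D132139
theorem N68824 : nd 68824 = n132140 := ndS (p := 37780) (l := 7) rfl N37780 D132140
theorem N68825 : nd 68825 = n132142 := ndS (p := 37781) (l := 3) rfl N37781 D132142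
theorem N68826 : nd 68826 = n132144 := ndS (p := 37781) (l := 5) rfl N37781 D132144
theorem N68827 : nd 68827 = n132145 := ndS (p := 37781) (l := 6) rfl N37781 D132145
theorem N68828 : nd 68828 = n132147 := ndS (p := 37782) (l := 3) rfl N37782 D132147
theorem N68829 : nd 68829 = n132149 := ndS (p := 37782) (l := 5) rfl N37782 D132149
theorem N68830 : nd 68830 = n132150 := ndS (p := 37782) (l := 6) rfl N37782 D132150
theorem N68831 : nd 68831 = n132151 := ndS (p := 37784) (l := 3) rfl N37784 D132151
theorem N68832 : nd 68832 = n132152 := ndS (p := 37784) (l := 5) rfl N37784 D132152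
theorem N68833 : nd 68833 = n132153 := ndS (p := 37784) (l := 6) rfl N37784 D132153
theorem N68834 : nd 68834 = n132154 := ndS (p := 37785) (l := 3) rfl N37785 D132154
theorem N68835 : nd 68835 = n132155 := ndS (p := 37785) (l := 5) rfl N37785 D132155
theorem N68836 : nd 68836 = n132156 := ndS (p := 37785) (l := 6) rfl N37785 D132156
theorem N68837 : nd 68837 = n132157 := ndS (p := 37786) (l := 0) rfl N37786 D132157
theorem N68838 : nd 68838 = n132158 := ndS (p := 37786) (l := 1) rfl N37786 D132158
theorem N68839 : nd 68839 = n132159 := ndS (p := 37786) (l := 4) rfl N37786 D132159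
theorem N68840 : nd 68840 = n132160 := ndS (p := 37787) (l := 5) rfl N37787 D132160
theorem N68841 : nd 68841 = n132161 := ndS (p := 37788) (l := 3) rfl N37788 D132161
theorem N68842 : nd 68842 = n132162 := ndS (p := 37788) (l := 5) rfl N37788 D132162
theorem N68843 : nd 68843 = n132163 := ndS (p := 37789) (l := 4) rfl N37789 D132163
theorem N68844 : nd 68844 = n132164 := ndS (p := 37790) (l := 5) rfl N37790 D132164
theorem N68845 : nd 68845 = n132165 := ndS (p := 37790) (l := 6) rfl N37790 D132165
theorem N68846 : nd 68846 = n132167 := ndS (p := 37791) (l := 5) rfl N37791 D132167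
theorem N68847 : nd 68847 = n132168 := ndS (p := 37791) (l := 6) rfl N37791 D132168
theorem N68848 : nd 68848 = n132169 := ndS (p := 37792) (l := 4) rfl N37792 D132169
theorem N68849 : nd 68849 = n132170 := ndS (p := 37795) (l := 0) rfl N37795 D132170
theorem N68850 : nd 68850 = n132171 := ndS (p := 37795) (l := 1) rfl N37795 D132171
theorem N68851 : nd 68851 = n132172 := ndS (p := 37795) (l := 2) rfl N37795 D132172
theorem N68852 : nd 68852 = n132173 := ndS (p := 37795) (l := 5) rfl N37795 D132173
theorem N68853 : nd 68853 = n132174 := ndS (p := 37795) (l := 6) rfl N37795 D132174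
theorem N68854 : nd 68854 = n132175 := ndS (p := 37796) (l := 6) rfl N37796 D132175
theorem N68855 : nd 68855 = n132176 := ndS (p := 37797) (l := 5) rfl N37797 D132176
theorem N68856 : nd 68856 = n132177 := ndS (p := 37798) (l := 0) rfl N37798 D132177
theorem N68857 : nd 68857 = n132178 := ndS (p := 37798) (l := 1) rfl N37798 D132178
theorem N68858 : nd 68858 = n132179 := ndS (p := 37798) (l := 2) rfl N37798 D132179
theorem N68859 : nd 68859 = n132180 := ndS (p := 37798) (l := 5) rfl N37798 D132180
theorem N68860 : nd 68860 = n132181 := ndS (p := 37798) (l := 6) rfl N37798 D132181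
theorem N68861 : nd 68861 = n132182 := ndS (p := 37799) (l := 6) rfl N37799 D132182
theorem N68862 : nd 68862 = n132183 := ndS (p := 37800) (l := 1) rfl N37800 D132183
theorem N68863 : nd 68863 = n132184 := ndS (p := 37800) (l := 5) rfl N37800 D132184
theorem N68864 : nd 68864 = n132185 := ndS (p := 37800) (l := 7) rfl N37800 D132185
theorem N68865 : nd 68865 = n132186 := ndS (p := 37802) (l := 3) rfl N37802 D132186
theorem N68866 : nd 68866 = n132187 := ndS (p := 37803) (l := 3) rfl N37803 D132187
theorem N68867 : nd 68867 = n132189 := ndS (p := 37804) (l := 3) rfl N37804 D132189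
theorem N68868 : nd 68868 = n132195 := ndS (p := 37806) (l := 0) rfl N37806 D132195
theorem N68869 : nd 68869 = n132196 := ndS (p := 37806) (l := 1) rfl N37806 D132196
theorem N68870 : nd 68870 = n132197 := ndS (p := 37806) (l := 2) rfl N37806 D132197
theorem N68871 : nd 68871 = n132198 := ndS (p := 37806) (l := 5) rfl N37806 D132198
theorem N68872 : nd 68872 = n132199 := ndS (p := 37806) (l := 6) rfl N37806 D132199
theorem N68873 : nd 68873 = n132200 := ndS (p := 37807) (l := 6) rfl N37807 D132200
theorem N68874 : nd 68874 = n132201 := ndS (p := 37808) (l := 0) rfl N37808 D132201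
theorem N68875 : nd 68875 = n132202 := ndS (p := 37808) (l := 1) rfl N37808 D132202
theorem N68876 : nd 68876 = n132203 := ndS (p := 37808) (l := 5) rfl N37808 D132203
theorem N68877 : nd 68877 = n132204 := ndS (p := 37808) (l := 7) rfl N37808 D132204
theorem N68878 : nd 68878 = n132205 := ndS (p := 37809) (l := 4) rfl N37809 D132205
theorem N68879 : nd 68879 = n132206 := ndS (p := 37810) (l := 4) rfl N37810 D132206
theorem N68880 : nd 68880 = n132207 := ndS (p := 37812) (l := 3) rfl N37812 D132207
theorem N68881 : nd 68881 = n132208 := ndS (p := 37814) (l := 0) rfl N37814 D132208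
theorem N68882 : nd 68882 = n132209 := ndS (p := 37814) (l := 1) rfl N37814 D132209
theorem N68883 : nd 68883 = n132210 := ndS (p := 37814) (l := 2) rfl N37814 D132210
theorem N68884 : nd 68884 = n132211 := ndS (p := 37814) (l := 5) rfl N37814 D132211
theorem N68885 : nd 68885 = n132212 := ndS (p := 37814) (l := 6) rfl N37814 D132212
theorem N68886 : nd 68886 = n132213 := ndS (p := 37815) (l := 6) rfl N37815 D132213
theorem N68887 : nd 68887 = n132214 := ndS (p := 37816) (l := 1) rfl N37816 D132214
theorem N68888 : nd 68888 = n132215 := ndS (p := 37816) (l := 5) rfl N37816 D132215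
theorem N68889 : nd 68889 = n132216 := ndS (p := 37817) (l := 0) rfl N37817 D132216
theorem N68890 : nd 68890 = n132217 := ndS (p := 37817) (l := 1) rfl N37817 D132217
theorem N68891 : nd 68891 = n132218 := ndS (p := 37817) (l := 2) rfl N37817 D132218
theorem N68892 : nd 68892 = n132219 := ndS (p := 37817) (l := 6) rfl N37817 D132219
theorem N68893 : nd 68893 = n132220 := ndS (p := 37818) (l := 7) rfl N37818 D132220
theorem N68894 : nd 68894 = n132221 := ndS (p := 37819) (l := 0) rfl N37819 D132221
theorem N68895 : nd 68895 = n132222 := ndS (p := 37819) (l := 1) rfl N37819 D132222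
theorem N68896 : nd 68896 = n132223 := ndS (p := 37819) (l := 2) rfl N37819 D132223
theorem N68897 : nd 68897 = n132224 := ndS (p := 37819) (l := 6) rfl N37819 D132224
theorem N68898 : nd 68898 = n132225 := ndS (p := 37820) (l := 5) rfl N37820 D132225
theorem N68899 : nd 68899 = n132226 := ndS (p := 37821) (l := 3) rfl N37821 D132226
theorem N68900 : nd 68900 = n132227 := ndS (p := 37821) (l := 4) rfl N37821 D132227
theorem N68901 : nd 68901 = n132228 := ndS (p := 37821) (l := 6) rfl N37821 D132228
theorem N68902 : nd 68902 = n132229 := ndS (p := 37822) (l := 3) rfl N37822 D132229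
theorem N68903 : nd 68903 = n132230 := ndS (p := 37822) (l := 6) rfl N37822 D132230
theorem N68904 : nd 68904 = n132231 := ndS (p := 37823) (l := 5) rfl N37823 D132231
theorem N68905 : nd 68905 = n132233 := ndS (p := 37824) (l := 0) rfl N37824 D132233
theorem N68906 : nd 68906 = n132234 := ndS (p := 37824) (l := 1) rfl N37824 D132234
theorem N68907 : nd 68907 = n132235 := ndS (p := 37824) (l := 4) rfl N37824 D132235
theorem N68908 : nd 68908 = n132236 := ndS (p := 37824) (l := 6) rfl N37824 D132236
theorem N68909 : nd 68909 = n132241 := ndS (p := 37826) (l := 3) rfl N37826 D132241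
theorem N68910 : nd 68910 = n132242 := ndS (p := 37826) (l := 6) rfl N37826 D132242
theorem N68911 : nd 68911 = n132243 := ndS (p := 37827) (l := 3) rfl N37827 D132243
theorem N68912 : nd 68912 = n132244 := ndS (p := 37827) (l := 6) rfl N37827 D132244
theorem N68913 : nd 68913 = n132245 := ndS (p := 37828) (l := 0) rfl N37828 D132245
theorem N68914 : nd 68914 = n132246 := ndS (p := 37828) (l := 1) rfl N37828 D132246
theorem N68915 : nd 68915 = n132247 := ndS (p := 37828) (l := 5) rfl N37828 D132247
theorem N68916 : nd 68916 = n132248 := ndS (p := 37828) (l := 7) rfl N37828 D132248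
theorem N68917 : nd 68917 = n132249 := ndS (p := 37829) (l := 3) rfl N37829 D132249
theorem N68918 : nd 68918 = n132250 := ndS (p := 37829) (l := 5) rfl N37829 D132250
theorem N68919 : nd 68919 = n132251 := ndS (p := 37830) (l := 3) rfl N37830 D132251
theorem N68920 : nd 68920 = n132252 := ndS (p := 37830) (l := 5) rfl N37830 D132252
theorem N68921 : nd 68921 = n132253 := ndS (p := 37830) (l := 6) rfl N37830 D132253
theorem N68922 : nd 68922 = n132254 := ndS (p := 37831) (l := 0) rfl N37831 D132254
theorem N68923 : nd 68923 = n132255 := ndS (p := 37831) (l := 1) rfl N37831 D132255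
theorem N68924 : nd 68924 = n132256 := ndS (p := 37831) (l := 4) rfl N37831 D132256
theorem N68925 : nd 68925 = n132258 := ndS (p := 37834) (l := 0) rfl N37834 D132258
theorem N68926 : nd 68926 = n132259 := ndS (p := 37834) (l := 3) rfl N37834 D132259
theorem N68927 : nd 68927 = n132260 := ndS (p := 37834) (l := 5) rfl N37834 D132260
theorem N68928 : nd 68928 = n132261 := ndS (p := 37835) (l := 6) rfl N37835 D132261
theorem N68929 : nd 68929 = n132262 := ndS (p := 37836) (l := 3) rfl N37836 D132262
theorem N68930 : nd 68930 = n132263 := ndS (p := 37836) (l := 5) rfl N37836 D132263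
theorem N68931 : nd 68931 = n132264 := ndS (p := 37836) (l := 6) rfl N37836 D132264
theorem N68932 : nd 68932 = n132265 := ndS (p := 37838) (l := 0) rfl N37838 D132265
theorem N68933 : nd 68933 = n132266 := ndS (p := 37838) (l := 1) rfl N37838 D132266
theorem N68934 : nd 68934 = n132267 := ndS (p := 37838) (l := 2) rfl N37838 D132267
theorem N68935 : nd 68935 = n132268 := ndS (p := 37838) (l := 6) rfl N37838 D132268
theorem N68936 : nd 68936 = n132269 := ndS (p := 37839) (l := 0) rfl N37839 D132269
theorem N68937 : nd 68937 = n132270 := ndS (p := 37839) (l := 1) rfl N37839 D132270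
theorem N68938 : nd 68938 = n132271 := ndS (p := 37839) (l := 5) rfl N37839 D132271
theorem N68939 : nd 68939 = n132272 := ndS (p := 37840) (l := 3) rfl N37840 D132272
theorem N68940 : nd 68940 = n132273 := ndS (p := 37840) (l := 4) rfl N37840 D132273
theorem N68941 : nd 68941 = n132274 := ndS (p := 37841) (l := 3) rfl N37841 D132274
theorem N68942 : nd 68942 = n132275 := ndS (p := 37841) (l := 4) rfl N37841 D132275
theorem N68943 : nd 68943 = n132278 := ndS (p := 37842) (l := 4) rfl N37842 D132278
theorem N68944 : nd 68944 = n132280 := ndS (p := 37843) (l := 3) rfl N37843 D132280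
theorem N68945 : nd 68945 = n132281 := ndS (p := 37843) (l := 4) rfl N37843 D132281
theorem N68946 : nd 68946 = n132282 := ndS (p := 37843) (l := 6) rfl N37843 D132282
theorem N68947 : nd 68947 = n132283 := ndS (p := 37844) (l := 6) rfl N37844 D132283
theorem N68948 : nd 68948 = n132284 := ndS (p := 37845) (l := 0) rfl N37845 D132284
theorem N68949 : nd 68949 = n132285 := ndS (p := 37845) (l := 1) rfl N37845 D132285
theorem N68950 : nd 68950 = n132286 := ndS (p := 37845) (l := 7) rfl N37845 D132286
theorem N68951 : nd 68951 = n132287 := ndS (p := 37846) (l := 3) rfl N37846 D132287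
theorem N68952 : nd 68952 = n132288 := ndS (p := 37846) (l := 5) rfl N37846 D132288
theorem N68953 : nd 68953 = n132291 := ndS (p := 37849) (l := 4) rfl N37849 D132291
theorem N68954 : nd 68954 = n132293 := ndS (p := 37850) (l := 3) rfl N37850 D132293
theorem N68955 : nd 68955 = n132294 := ndS (p := 37850) (l := 4) rfl N37850 D132294
theorem N68956 : nd 68956 = n132295 := ndS (p := 37850) (l := 6) rfl N37850 D132295
theorem N68957 : nd 68957 = n132297 := ndS (p := 37851) (l := 3) rfl N37851 D132297
theorem N68958 : nd 68958 = n132298 := ndS (p := 37851) (l := 4) rfl N37851 D132298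
theorem N68959 : nd 68959 = n132299 := ndS (p := 37851) (l := 6) rfl N37851 D132299
theorem N68960 : nd 68960 = n132302 := ndS (p := 37853) (l := 6) rfl N37853 D132302
theorem N68961 : nd 68961 = n132303 := ndS (p := 37854) (l := 0) rfl N37854 D132303
theorem N68962 : nd 68962 = n132304 := ndS (p := 37854) (l := 1) rfl N37854 D132304
theorem N68963 : nd 68963 = n132305 := ndS (p := 37854) (l := 3) rfl N37854 D132305
theorem N68964 : nd 68964 = n132306 := ndS (p := 37854) (l := 5) rfl N37854 D132306
theorem N68965 : nd 68965 = n132307 := ndS (p := 37854) (l := 6) rfl N37854 D132307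
theorem N68966 : nd 68966 = n132308 := ndS (p := 37855) (l := 0) rfl N37855 D132308
theorem N68967 : nd 68967 = n132311 := ndS (p := 37855) (l := 7) rfl N37855 D132311
theorem N68968 : nd 68968 = n132315 := ndS (p := 37856) (l := 4) rfl N37856 D132315
theorem N68969 : nd 68969 = n132317 := ndS (p := 37857) (l := 3) rfl N37857 D132317
theorem N68970 : nd 68970 = n132318 := ndS (p := 37857) (l := 5) rfl N37857 D132318
theorem N68971 : nd 68971 = n132319 := ndS (p := 37857) (l := 6) rfl N37857 D132319
theorem N68972 : nd 68972 = n132321 := ndS (p := 37858) (l := 1) rfl N37858 D132321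
theorem N68973 : nd 68973 = n132322 := ndS (p := 37858) (l := 5) rfl N37858 D132322
theorem N68974 : nd 68974 = n132323 := ndS (p := 37858) (l := 7) rfl N37858 D132323
theorem N68975 : nd 68975 = n132324 := ndS (p := 37859) (l := 4) rfl N37859 D132324
theorem N68976 : nd 68976 = n132325 := ndS (p := 37859) (l := 6) rfl N37859 D132325
theorem N68977 : nd 68977 = n132334 := ndS (p := 37861) (l := 3) rfl N37861 D132334
theorem N68978 : nd 68978 = n132335 := ndS (p := 37861) (l := 4) rfl N37861 D132335
theorem N68979 : nd 68979 = n132336 := ndS (p := 37862) (l := 0) rfl N37862 D132336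
theorem N68980 : nd 68980 = n132342 := ndS (p := 37863) (l := 7) rfl N37863 D132342
theorem N68981 : nd 68981 = n132344 := ndS (p := 37864) (l := 3) rfl N37864 D132344
theorem N68982 : nd 68982 = n132345 := ndS (p := 37864) (l := 4) rfl N37864 D132345
theorem N68983 : nd 68983 = n132349 := ndS (p := 37865) (l := 3) rfl N37865 D132349
theorem N68984 : nd 68984 = n132350 := ndS (p := 37865) (l := 4) rfl N37865 D132350
theorem N68985 : nd 68985 = n132369 := ndS (p := 37868) (l := 3) rfl N37868 D132369
theorem N68986 : nd 68986 = n132371 := ndS (p := 37869) (l := 0) rfl N37869 D132371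
theorem N68987 : nd 68987 = n132373 := ndS (p := 37869) (l := 2) rfl N37869 D132373
theorem N68988 : nd 68988 = n132375 := ndS (p := 37870) (l := 1) rfl N37870 D132375
theorem N68989 : nd 68989 = n132376 := ndS (p := 37870) (l := 2) rfl N37870 D132376
theorem N68990 : nd 68990 = n132377 := ndS (p := 37870) (l := 6) rfl N37870 D132377
theorem N68991 : nd 68991 = n132379 := ndS (p := 37872) (l := 2) rfl N37872 D132379
theorem N68992 : nd 68992 = n132380 := ndS (p := 37872) (l := 5) rfl N37872 D132380
theorem N68993 : nd 68993 = n132381 := ndS (p := 37873) (l := 6) rfl N37873 D132381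
theorem N68994 : nd 68994 = n132382 := ndS (p := 37874) (l := 1) rfl N37874 D132382
theorem N68995 : nd 68995 = n132383 := ndS (p := 37874) (l := 6) rfl N37874 D132383
theorem N68996 : nd 68996 = n132385 := ndS (p := 37876) (l := 0) rfl N37876 D132385
theorem N68997 : nd 68997 = n132386 := ndS (p := 37876) (l := 1) rfl N37876 D132386
theorem N68998 : nd 68998 = n132387 := ndS (p := 37876) (l := 5) rfl N37876 D132387
theorem N68999 : nd 68999 = n132388 := ndS (p := 37876) (l := 7) rfl N37876 D132388
theorem N69000 : nd 69000 = n132389 := ndS (p := 37877) (l := 4) rfl N37877 D132389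
theorem N69001 : nd 69001 = n132390 := ndS (p := 37879) (l := 0) rfl N37879 D132390
theorem N69002 : nd 69002 = n132391 := ndS (p := 37879) (l := 1) rfl N37879 D132391
theorem N69003 : nd 69003 = n132392 := ndS (p := 37879) (l := 6) rfl N37879 D132392
theorem N69004 : nd 69004 = n132393 := ndS (p := 37880) (l := 5) rfl N37880 D132393
theorem N69005 : nd 69005 = n132394 := ndS (p := 37881) (l := 5) rfl N37881 D132394
theorem N69006 : nd 69006 = n132395 := ndS (p := 37881) (l := 7) rfl N37881 D132395
theorem N69007 : nd 69007 = n132397 := ndS (p := 37882) (l := 3) rfl N37882 D132397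
theorem N69008 : nd 69008 = n132398 := ndS (p := 37882) (l := 4) rfl N37882 D132398
theorem N69009 : nd 69009 = n132400 := ndS (p := 37882) (l := 6) rfl N37882 D132400
theorem N69010 : nd 69010 = n132402 := ndS (p := 37883) (l := 3) rfl N37883 D132402
theorem N69011 : nd 69011 = n132403 := ndS (p := 37883) (l := 6) rfl N37883 D132403
theorem N69012 : nd 69012 = n132404 := ndS (p := 37884) (l := 5) rfl N37884 D132404
theorem N69013 : nd 69013 = n132405 := ndS (p := 37884) (l := 6) rfl N37884 D132405
theorem N69014 : nd 69014 = n132406 := ndS (p := 37885) (l := 0) rfl N37885 D132406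
theorem N69015 : nd 69015 = n132407 := ndS (p := 37885) (l := 1) rfl N37885 D132407
theorem N69016 : nd 69016 = n132408 := ndS (p := 37885) (l := 6) rfl N37885 D132408
theorem N69017 : nd 69017 = n132409 := ndS (p := 37886) (l := 0) rfl N37886 D132409
theorem N69018 : nd 69018 = n132411 := ndS (p := 37886) (l := 5) rfl N37886 D132411
theorem N69019 : nd 69019 = n132412 := ndS (p := 37886) (l := 7) rfl N37886 D132412
theorem N69020 : nd 69020 = n132413 := ndS (p := 37887) (l := 0) rfl N37887 D132413
theorem N69021 : nd 69021 = n132414 := ndS (p := 37887) (l := 1) rfl N37887 D132414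
theorem N69022 : nd 69022 = n132415 := ndS (p := 37887) (l := 5) rfl N37887 D132415
theorem N69023 : nd 69023 = n132416 := ndS (p := 37887) (l := 7) rfl N37887 D132416
theorem N69024 : nd 69024 = n132417 := ndS (p := 37888) (l := 3) rfl N37888 D132417
theorem N69025 : nd 69025 = n132418 := ndS (p := 37888) (l := 5) rfl N37888 D132418
theorem N69026 : nd 69026 = n132419 := ndS (p := 37889) (l := 0) rfl N37889 D132419
theorem N69027 : nd 69027 = n132420 := ndS (p := 37889) (l := 1) rfl N37889 D132420
theorem N69028 : nd 69028 = n132421 := ndS (p := 37889) (l := 4) rfl N37889 D132421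
theorem N69029 : nd 69029 = n132422 := ndS (p := 37889) (l := 7) rfl N37889 D132422
theorem N69030 : nd 69030 = n132424 := ndS (p := 37891) (l := 5) rfl N37891 D132424
theorem N69031 : nd 69031 = n132425 := ndS (p := 37892) (l := 3) rfl N37892 D132425
theorem N69032 : nd 69032 = n132426 := ndS (p := 37892) (l := 4) rfl N37892 D132426
theorem N69033 : nd 69033 = n132427 := ndS (p := 37892) (l := 5) rfl N37892 D132427
theorem N69034 : nd 69034 = n132428 := ndS (p := 37893) (l := 3) rfl N37893 D132428
theorem N69035 : nd 69035 = n132429 := ndS (p := 37893) (l := 4) rfl N37893 D132429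
theorem N69036 : nd 69036 = n132430 := ndS (p := 37894) (l := 0) rfl N37894 D132430
theorem N69037 : nd 69037 = n132431 := ndS (p := 37894) (l := 1) rfl N37894 D132431
theorem N69038 : nd 69038 = n132432 := ndS (p := 37894) (l := 3) rfl N37894 D132432
theorem N69039 : nd 69039 = n132433 := ndS (p := 37894) (l := 5) rfl N37894 D132433
theorem N69040 : nd 69040 = n132437 := ndS (p := 37895) (l := 5) rfl N37895 D132437
theorem N69041 : nd 69041 = n132440 := ndS (p := 37897) (l := 1) rfl N37897 D132440
theorem N69042 : nd 69042 = n132442 := ndS (p := 37898) (l := 6) rfl N37898 D132442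
theorem N69043 : nd 69043 = n132445 := ndS (p := 37899) (l := 5) rfl N37899 D132445
theorem N69044 : nd 69044 = n132447 := ndS (p := 37900) (l := 0) rfl N37900 D132447
theorem N69045 : nd 69045 = n132449 := ndS (p := 37900) (l := 2) rfl N37900 D132449
theorem N69046 : nd 69046 = n132450 := ndS (p := 37900) (l := 4) rfl N37900 D132450
theorem N69047 : nd 69047 = n132451 := ndS (p := 37900) (l := 6) rfl N37900 D132451
theorem N69048 : nd 69048 = n132452 := ndS (p := 37901) (l := 3) rfl N37901 D132452
theorem N69049 : nd 69049 = n132453 := ndS (p := 37901) (l := 6) rfl N37901 D132453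
theorem N69050 : nd 69050 = n132455 := ndS (p := 37902) (l := 1) rfl N37902 D132455
theorem N69051 : nd 69051 = n132457 := ndS (p := 37902) (l := 7) rfl N37902 D132457
theorem N69052 : nd 69052 = n132464 := ndS (p := 37905) (l := 3) rfl N37905 D132464
theorem N69053 : nd 69053 = n132475 := ndS (p := 37906) (l := 1) rfl N37906 D132475
theorem N69054 : nd 69054 = n132479 := ndS (p := 37907) (l := 3) rfl N37907 D132479
theorem N69055 : nd 69055 = n132480 := ndS (p := 37907) (l := 4) rfl N37907 D132480
theorem N69056 : nd 69056 = n132481 := ndS (p := 37907) (l := 5) rfl N37907 D132481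
theorem N69057 : nd 69057 = n132505 := ndS (p := 37910) (l := 0) rfl N37910 D132505
theorem N69058 : nd 69058 = n132507 := ndS (p := 37910) (l := 2) rfl N37910 D132507
theorem N69059 : nd 69059 = n132508 := ndS (p := 37910) (l := 5) rfl N37910 D132508
theorem N69060 : nd 69060 = n132511 := ndS (p := 37912) (l := 4) rfl N37912 D132511
theorem N69061 : nd 69061 = n132513 := ndS (p := 37913) (l := 0) rfl N37913 D132513
theorem N69062 : nd 69062 = n132514 := ndS (p := 37913) (l := 1) rfl N37913 D132514
theorem N69063 : nd 69063 = n132522 := ndS (p := 37914) (l := 0) rfl N37914 D132522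
theorem N69064 : nd 69064 = n132523 := ndS (p := 37914) (l := 1) rfl N37914 D132523
theorem N69065 : nd 69065 = n132524 := ndS (p := 37914) (l := 2) rfl N37914 D132524
theorem N69066 : nd 69066 = n132525 := ndS (p := 37914) (l := 5) rfl N37914 D132525
theorem N69067 : nd 69067 = n132526 := ndS (p := 37914) (l := 6) rfl N37914 D132526
theorem N69068 : nd 69068 = n132527 := ndS (p := 37915) (l := 6) rfl N37915 D132527
theorem N69069 : nd 69069 = n132528 := ndS (p := 37916) (l := 0) rfl N37916 D132528
theorem N69070 : nd 69070 = n132529 := ndS (p := 37916) (l := 1) rfl N37916 D132529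
theorem N69071 : nd 69071 = n132530 := ndS (p := 37916) (l := 5) rfl N37916 D132530
theorem N69072 : nd 69072 = n132531 := ndS (p := 37916) (l := 7) rfl N37916 D132531
theorem N69073 : nd 69073 = n132532 := ndS (p := 37917) (l := 4) rfl N37917 D132532
theorem N69074 : nd 69074 = n132533 := ndS (p := 37917) (l := 5) rfl N37917 D132533
theorem N69075 : nd 69075 = n132534 := ndS (p := 37918) (l := 4) rfl N37918 D132534
theorem N69076 : nd 69076 = n132535 := ndS (p := 37920) (l := 0) rfl N37920 D132535
theorem N69077 : nd 69077 = n132536 := ndS (p := 37920) (l := 1) rfl N37920 D132536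
theorem N69078 : nd 69078 = n132537 := ndS (p := 37920) (l := 2) rfl N37920 D132537
theorem N69079 : nd 69079 = n132539 := ndS (p := 37921) (l := 5) rfl N37921 D132539
theorem N69080 : nd 69080 = n132540 := ndS (p := 37922) (l := 3) rfl N37922 D132540
theorem N69081 : nd 69081 = n132541 := ndS (p := 37922) (l := 4) rfl N37922 D132541
theorem N69082 : nd 69082 = n132542 := ndS (p := 37922) (l := 6) rfl N37922 D132542
theorem N69083 : nd 69083 = n132543 := ndS (p := 37923) (l := 3) rfl N37923 D132543
theorem N69084 : nd 69084 = n132545 := ndS (p := 37924) (l := 5) rfl N37924 D132545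
theorem N69085 : nd 69085 = n132546 := ndS (p := 37924) (l := 6) rfl N37924 D132546
theorem N69086 : nd 69086 = n132547 := ndS (p := 37925) (l := 4) rfl N37925 D132547
theorem N69087 : nd 69087 = n132548 := ndS (p := 37925) (l := 6) rfl N37925 D132548
theorem N69088 : nd 69088 = n132549 := ndS (p := 37926) (l := 0) rfl N37926 D132549
theorem N69089 : nd 69089 = n132550 := ndS (p := 37926) (l := 1) rfl N37926 D132550
theorem N69090 : nd 69090 = n132551 := ndS (p := 37926) (l := 5) rfl N37926 D132551
theorem N69091 : nd 69091 = n132552 := ndS (p := 37926) (l := 7) rfl N37926 D132552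
theorem N69092 : nd 69092 = n132553 := ndS (p := 37927) (l := 0) rfl N37927 D132553
theorem N69093 : nd 69093 = n132554 := ndS (p := 37927) (l := 1) rfl N37927 D132554
theorem N69094 : nd 69094 = n132555 := ndS (p := 37927) (l := 5) rfl N37927 D132555
theorem N69095 : nd 69095 = n132556 := ndS (p := 37927) (l := 7) rfl N37927 D132556
theorem N69096 : nd 69096 = n132557 := ndS (p := 37928) (l := 3) rfl N37928 D132557
theorem N69097 : nd 69097 = n132558 := ndS (p := 37928) (l := 5) rfl N37928 D132558
theorem N69098 : nd 69098 = n132559 := ndS (p := 37929) (l := 3) rfl N37929 D132559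
theorem N69099 : nd 69099 = n132560 := ndS (p := 37929) (l := 5) rfl N37929 D132560
theorem N69100 : nd 69100 = n132561 := ndS (p := 37929) (l := 6) rfl N37929 D132561
theorem N69101 : nd 69101 = n132562 := ndS (p := 37930) (l := 1) rfl N37930 D132562
theorem N69102 : nd 69102 = n132563 := ndS (p := 37930) (l := 4) rfl N37930 D132563
theorem N69103 : nd 69103 = n132564 := ndS (p := 37930) (l := 7) rfl N37930 D132564
theorem N69104 : nd 69104 = n132565 := ndS (p := 37932) (l := 5) rfl N37932 D132565
theorem N69105 : nd 69105 = n132566 := ndS (p := 37933) (l := 0) rfl N37933 D132566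
theorem N69106 : nd 69106 = n132567 := ndS (p := 37933) (l := 3) rfl N37933 D132567
theorem N69107 : nd 69107 = n132568 := ndS (p := 37933) (l := 5) rfl N37933 D132568
theorem N69108 : nd 69108 = n132569 := ndS (p := 37934) (l := 4) rfl N37934 D132569
theorem N69109 : nd 69109 = n132571 := ndS (p := 37935) (l := 5) rfl N37935 D132571
theorem N69110 : nd 69110 = n132572 := ndS (p := 37935) (l := 6) rfl N37935 D132572
theorem N69111 : nd 69111 = n132573 := ndS (p := 37936) (l := 3) rfl N37936 D132573
theorem N69112 : nd 69112 = n132574 := ndS (p := 37936) (l := 5) rfl N37936 D132574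
theorem N69113 : nd 69113 = n132575 := ndS (p := 37936) (l := 6) rfl N37936 D132575
theorem N69114 : nd 69114 = n132576 := ndS (p := 37937) (l := 4) rfl N37937 D132576
theorem N69115 : nd 69115 = n132578 := ndS (p := 37939) (l := 1) rfl N37939 D132578
theorem N69116 : nd 69116 = n132580 := ndS (p := 37939) (l := 5) rfl N37939 D132580
theorem N69117 : nd 69117 = n132581 := ndS (p := 37939) (l := 6) rfl N37939 D132581
theorem N69118 : nd 69118 = n132582 := ndS (p := 37940) (l := 0) rfl N37940 D132582
theorem N69119 : nd 69119 = n132587 := ndS (p := 37942) (l := 3) rfl N37942 D132587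
theorem N69120 : nd 69120 = n132588 := ndS (p := 37942) (l := 5) rfl N37942 D132588
theorem N69121 : nd 69121 = n132594 := ndS (p := 37944) (l := 0) rfl N37944 D132594
theorem N69122 : nd 69122 = n132595 := ndS (p := 37944) (l := 1) rfl N37944 D132595
theorem N69123 : nd 69123 = n132596 := ndS (p := 37944) (l := 5) rfl N37944 D132596
theorem N69124 : nd 69124 = n132597 := ndS (p := 37944) (l := 7) rfl N37944 D132597
theorem N69125 : nd 69125 = n132600 := ndS (p := 37945) (l := 4) rfl N37945 D132600
theorem N69126 : nd 69126 = n132601 := ndS (p := 37945) (l := 5) rfl N37945 D132601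
theorem N69127 : nd 69127 = n132602 := ndS (p := 37945) (l := 6) rfl N37945 D132602
theorem N69128 : nd 69128 = n132604 := ndS (p := 37946) (l := 3) rfl N37946 D132604
theorem N69129 : nd 69129 = n132605 := ndS (p := 37946) (l := 4) rfl N37946 D132605
theorem N69130 : nd 69130 = n132606 := ndS (p := 37946) (l := 5) rfl N37946 D132606
theorem N69131 : nd 69131 = n132607 := ndS (p := 37946) (l := 6) rfl N37946 D132607
theorem N69132 : nd 69132 = n132609 := ndS (p := 37947) (l := 1) rfl N37947 D132609
theorem N69133 : nd 69133 = n132626 := ndS (p := 37952) (l := 4) rfl N37952 D132626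
theorem N69134 : nd 69134 = n132631 := ndS (p := 37953) (l := 3) rfl N37953 D132631
theorem N69135 : nd 69135 = n132636 := ndS (p := 37954) (l := 7) rfl N37954 D132636
theorem N69136 : nd 69136 = n132638 := ndS (p := 37956) (l := 3) rfl N37956 D132638
theorem N69137 : nd 69137 = n132639 := ndS (p := 37956) (l := 5) rfl N37956 D132639
theorem N69138 : nd 69138 = n132640 := ndS (p := 37957) (l := 4) rfl N37957 D132640
theorem N69139 : nd 69139 = n132644 := ndS (p := 37958) (l := 5) rfl N37958 D132644
theorem N69140 : nd 69140 = n132647 := ndS (p := 37960) (l := 3) rfl N37960 D132647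
theorem N69141 : nd 69141 = n132649 := ndS (p := 37961) (l := 1) rfl N37961 D132649
theorem N69142 : nd 69142 = n132650 := ndS (p := 37961) (l := 2) rfl N37961 D132650
theorem N69143 : nd 69143 = n132651 := ndS (p := 37961) (l := 5) rfl N37961 D132651
theorem N69144 : nd 69144 = n132652 := ndS (p := 37961) (l := 6) rfl N37961 D132652
theorem N69145 : nd 69145 = n132655 := ndS (p := 37964) (l := 5) rfl N37964 D132655
theorem N69146 : nd 69146 = n132656 := ndS (p := 37965) (l := 3) rfl N37965 D132656
theorem N69147 : nd 69147 = n132658 := ndS (p := 37966) (l := 3) rfl N37966 D132658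
theorem N69148 : nd 69148 = n132659 := ndS (p := 37966) (l := 6) rfl N37966 D132659
theorem N69149 : nd 69149 = n132660 := ndS (p := 37967) (l := 5) rfl N37967 D132660
theorem N69150 : nd 69150 = n132662 := ndS (p := 37968) (l := 4) rfl N37968 D132662
theorem N69151 : nd 69151 = n132663 := ndS (p := 37968) (l := 6) rfl N37968 D132663
theorem N69152 : nd 69152 = n132668 := ndS (p := 37970) (l := 0) rfl N37970 D132668
theorem N69153 : nd 69153 = n132670 := ndS (p := 37970) (l := 5) rfl N37970 D132670
theorem N69154 : nd 69154 = n132671 := ndS (p := 37970) (l := 7) rfl N37970 D132671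
theorem N69155 : nd 69155 = n132672 := ndS (p := 37971) (l := 3) rfl N37971 D132672
theorem N69156 : nd 69156 = n132673 := ndS (p := 37971) (l := 6) rfl N37971 D132673
theorem N69157 : nd 69157 = n132675 := ndS (p := 37973) (l := 0) rfl N37973 D132675
theorem N69158 : nd 69158 = n132676 := ndS (p := 37973) (l := 1) rfl N37973 D132676
theorem N69159 : nd 69159 = n132677 := ndS (p := 37973) (l := 4) rfl N37973 D132677
theorem N69160 : nd 69160 = n132680 := ndS (p := 37976) (l := 3) rfl N37976 D132680
theorem N69161 : nd 69161 = n132681 := ndS (p := 37976) (l := 5) rfl N37976 D132681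
theorem N69162 : nd 69162 = n132682 := ndS (p := 37976) (l := 6) rfl N37976 D132682
theorem N69163 : nd 69163 = n132683 := ndS (p := 37979) (l := 3) rfl N37979 D132683
theorem N69164 : nd 69164 = n132684 := ndS (p := 37979) (l := 5) rfl N37979 D132684
theorem N69165 : nd 69165 = n132690 := ndS (p := 37981) (l := 6) rfl N37981 D132690
theorem N69166 : nd 69166 = n132691 := ndS (p := 37982) (l := 6) rfl N37982 D132691
theorem N69167 : nd 69167 = n132698 := ndS (p := 37985) (l := 0) rfl N37985 D132698
theorem N69168 : nd 69168 = n132711 := ndS (p := 37987) (l := 3) rfl N37987 D132711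
theorem N69169 : nd 69169 = n132714 := ndS (p := 37987) (l := 6) rfl N37987 D132714
theorem N69170 : nd 69170 = n132716 := ndS (p := 37988) (l := 3) rfl N37988 D132716
theorem N69171 : nd 69171 = n132739 := ndS (p := 37991) (l := 0) rfl N37991 D132739
theorem N69172 : nd 69172 = n132741 := ndS (p := 37991) (l := 2) rfl N37991 D132741
theorem N69173 : nd 69173 = n132743 := ndS (p := 37991) (l := 6) rfl N37991 D132743
theorem N69174 : nd 69174 = n132745 := ndS (p := 37993) (l := 3) rfl N37993 D132745
theorem N69175 : nd 69175 = n132752 := ndS (p := 37995) (l := 1) rfl N37995 D132752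
theorem N69176 : nd 69176 = n132753 := ndS (p := 37995) (l := 5) rfl N37995 D132753
theorem N69177 : nd 69177 = n132754 := ndS (p := 37995) (l := 6) rfl N37995 D132754
theorem N69178 : nd 69178 = n132755 := ndS (p := 37996) (l := 1) rfl N37996 D132755
theorem N69179 : nd 69179 = n132756 := ndS (p := 37996) (l := 3) rfl N37996 D132756
theorem N69180 : nd 69180 = n132757 := ndS (p := 37996) (l := 5) rfl N37996 D132757
theorem N69181 : nd 69181 = n132758 := ndS (p := 37996) (l := 6) rfl N37996 D132758
theorem N69182 : nd 69182 = n132759 := ndS (p := 37997) (l := 4) rfl N37997 D132759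
theorem N69183 : nd 69183 = n132761 := ndS (p := 37998) (l := 0) rfl N37998 D132761
theorem N69184 : nd 69184 = n132765 := ndS (p := 37999) (l := 4) rfl N37999 D132765
theorem N69185 : nd 69185 = n132766 := ndS (p := 37999) (l := 5) rfl N37999 D132766
theorem N69186 : nd 69186 = n132768 := ndS (p := 38000) (l := 5) rfl N38000 D132768
theorem N69187 : nd 69187 = n132770 := ndS (p := 38001) (l := 4) rfl N38001 D132770
theorem N69188 : nd 69188 = n132771 := ndS (p := 38001) (l := 6) rfl N38001 D132771
theorem N69189 : nd 69189 = n132776 := ndS (p := 38002) (l := 6) rfl N38002 D132776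
theorem N69190 : nd 69190 = n132779 := ndS (p := 38003) (l := 0) rfl N38003 D132779
theorem N69191 : nd 69191 = n132780 := ndS (p := 38003) (l := 1) rfl N38003 D132780
theorem N69192 : nd 69192 = n132785 := ndS (p := 38006) (l := 4) rfl N38006 D132785
theorem N69193 : nd 69193 = n132786 := ndS (p := 38006) (l := 6) rfl N38006 D132786
theorem N69194 : nd 69194 = n132787 := ndS (p := 38007) (l := 0) rfl N38007 D132787
theorem N69195 : nd 69195 = n132788 := ndS (p := 38007) (l := 1) rfl N38007 D132788
theorem N69196 : nd 69196 = n132789 := ndS (p := 38007) (l := 5) rfl N38007 D132789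
theorem N69197 : nd 69197 = n132790 := ndS (p := 38007) (l := 7) rfl N38007 D132790
theorem N69198 : nd 69198 = n132793 := ndS (p := 38008) (l := 5) rfl N38008 D132793
theorem N69199 : nd 69199 = n132800 := ndS (p := 38009) (l := 3) rfl N38009 D132800
theorem N69200 : nd 69200 = n132801 := ndS (p := 38009) (l := 4) rfl N38009 D132801
theorem N69201 : nd 69201 = n132802 := ndS (p := 38009) (l := 5) rfl N38009 D132802
theorem N69202 : nd 69202 = n132803 := ndS (p := 38009) (l := 6) rfl N38009 D132803
theorem N69203 : nd 69203 = n132805 := ndS (p := 38010) (l := 3) rfl N38010 D132805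
theorem N69204 : nd 69204 = n132806 := ndS (p := 38010) (l := 4) rfl N38010 D132806
theorem N69205 : nd 69205 = n132807 := ndS (p := 38010) (l := 5) rfl N38010 D132807
theorem N69206 : nd 69206 = n132808 := ndS (p := 38010) (l := 6) rfl N38010 D132808
theorem N69207 : nd 69207 = n132810 := ndS (p := 38011) (l := 1) rfl N38011 D132810
theorem N69208 : nd 69208 = n132811 := ndS (p := 38011) (l := 4) rfl N38011 D132811
theorem N69209 : nd 69209 = n132812 := ndS (p := 38011) (l := 7) rfl N38011 D132812
theorem N69210 : nd 69210 = n132822 := ndS (p := 38014) (l := 3) rfl N38014 D132822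
theorem N69211 : nd 69211 = n132823 := ndS (p := 38014) (l := 6) rfl N38014 D132823
theorem N69212 : nd 69212 = n132827 := ndS (p := 38015) (l := 6) rfl N38015 D132827
theorem N69213 : nd 69213 = n132840 := ndS (p := 38018) (l := 0) rfl N38018 D132840
theorem N69214 : nd 69214 = n132841 := ndS (p := 38018) (l := 2) rfl N38018 D132841
theorem N69215 : nd 69215 = n132843 := ndS (p := 38018) (l := 6) rfl N38018 D132843
theorem N69216 : nd 69216 = n132845 := ndS (p := 38019) (l := 6) rfl N38019 D132845
theorem N69217 : nd 69217 = n132856 := ndS (p := 38022) (l := 0) rfl N38022 D132856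
theorem N69218 : nd 69218 = n132858 := ndS (p := 38022) (l := 5) rfl N38022 D132858
theorem N69219 : nd 69219 = n132860 := ndS (p := 38023) (l := 3) rfl N38023 D132860
theorem N69220 : nd 69220 = n132863 := ndS (p := 38024) (l := 3) rfl N38024 D132863
theorem N69221 : nd 69221 = n132865 := ndS (p := 38024) (l := 6) rfl N38024 D132865
theorem N69222 : nd 69222 = n132867 := ndS (p := 38025) (l := 6) rfl N38025 D132867
theorem N69223 : nd 69223 = n132870 := ndS (p := 38026) (l := 5) rfl N38026 D132870
theorem N69224 : nd 69224 = n132880 := ndS (p := 38027) (l := 3) rfl N38027 D132880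
theorem N69225 : nd 69225 = n132882 := ndS (p := 38027) (l := 5) rfl N38027 D132882
theorem N69226 : nd 69226 = n132883 := ndS (p := 38027) (l := 6) rfl N38027 D132883
theorem N69227 : nd 69227 = n132885 := ndS (p := 38028) (l := 3) rfl N38028 D132885
theorem N69228 : nd 69228 = n132887 := ndS (p := 38028) (l := 5) rfl N38028 D132887
theorem N69229 : nd 69229 = n132889 := ndS (p := 38029) (l := 0) rfl N38029 D132889
theorem N69230 : nd 69230 = n132905 := ndS (p := 38032) (l := 5) rfl N38032 D132905
theorem N69231 : nd 69231 = n132906 := ndS (p := 38033) (l := 5) rfl N38033 D132906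
theorem N69232 : nd 69232 = n132907 := ndS (p := 38033) (l := 6) rfl N38033 D132907
theorem N69233 : nd 69233 = n132908 := ndS (p := 38034) (l := 5) rfl N38034 D132908
theorem N69234 : nd 69234 = n132909 := ndS (p := 38034) (l := 6) rfl N38034 D132909
theorem N69235 : nd 69235 = n132910 := ndS (p := 38035) (l := 4) rfl N38035 D132910
theorem N69236 : nd 69236 = n132911 := ndS (p := 38035) (l := 6) rfl N38035 D132911
theorem N69237 : nd 69237 = n132914 := ndS (p := 38036) (l := 5) rfl N38036 D132914
theorem N69238 : nd 69238 = n132916 := ndS (p := 38037) (l := 5) rfl N38037 D132916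
theorem N69239 : nd 69239 = n132919 := ndS (p := 38038) (l := 6) rfl N38038 D132919
theorem N69240 : nd 69240 = n132920 := ndS (p := 38039) (l := 3) rfl N38039 D132920
theorem N69241 : nd 69241 = n132921 := ndS (p := 38039) (l := 5) rfl N38039 D132921
theorem N69242 : nd 69242 = n132928 := ndS (p := 38041) (l := 0) rfl N38041 D132928
theorem N69243 : nd 69243 = n132929 := ndS (p := 38041) (l := 1) rfl N38041 D132929
theorem N69244 : nd 69244 = n132931 := ndS (p := 38041) (l := 7) rfl N38041 D132931
theorem N69245 : nd 69245 = n132932 := ndS (p := 38042) (l := 6) rfl N38042 D132932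
theorem N69246 : nd 69246 = n132933 := ndS (p := 38043) (l := 3) rfl N38043 D132933
theorem N69247 : nd 69247 = n132934 := ndS (p := 38043) (l := 5) rfl N38043 D132934
theorem N69248 : nd 69248 = n132935 := ndS (p := 38043) (l := 6) rfl N38043 D132935
theorem N69249 : nd 69249 = n132936 := ndS (p := 38044) (l := 5) rfl N38044 D132936
theorem N69250 : nd 69250 = n132938 := ndS (p := 38045) (l := 1) rfl N38045 D132938
theorem N69251 : nd 69251 = n132939 := ndS (p := 38045) (l := 2) rfl N38045 D132939
theorem N69252 : nd 69252 = n132940 := ndS (p := 38045) (l := 5) rfl N38045 D132940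
theorem N69253 : nd 69253 = n132941 := ndS (p := 38045) (l := 6) rfl N38045 D132941
theorem N69254 : nd 69254 = n132942 := ndS (p := 38045) (l := 7) rfl N38045 D132942
theorem N69255 : nd 69255 = n132943 := ndS (p := 38046) (l := 0) rfl N38046 D132943
theorem N69256 : nd 69256 = n132944 := ndS (p := 38046) (l := 1) rfl N38046 D132944
theorem N69257 : nd 69257 = n132947 := ndS (p := 38046) (l := 7) rfl N38046 D132947
theorem N69258 : nd 69258 = n132948 := ndS (p := 38047) (l := 0) rfl N38047 D132948
theorem N69259 : nd 69259 = n132951 := ndS (p := 38047) (l := 7) rfl N38047 D132951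
theorem N69260 : nd 69260 = n132952 := ndS (p := 38048) (l := 6) rfl N38048 D132952
theorem N69261 : nd 69261 = n132955 := ndS (p := 38050) (l := 0) rfl N38050 D132955
theorem N69262 : nd 69262 = n132956 := ndS (p := 38050) (l := 1) rfl N38050 D132956
theorem N69263 : nd 69263 = n132958 := ndS (p := 38050) (l := 5) rfl N38050 D132958
theorem N69264 : nd 69264 = n132959 := ndS (p := 38050) (l := 6) rfl N38050 D132959
theorem N69265 : nd 69265 = n132961 := ndS (p := 38051) (l := 0) rfl N38051 D132961
theorem N69266 : nd 69266 = n132962 := ndS (p := 38051) (l := 5) rfl N38051 D132962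
theorem N69267 : nd 69267 = n132964 := ndS (p := 38052) (l := 6) rfl N38052 D132964
theorem N69268 : nd 69268 = n132968 := ndS (p := 38053) (l := 5) rfl N38053 D132968
theorem N69269 : nd 69269 = n132977 := ndS (p := 38054) (l := 7) rfl N38054 D132977
theorem N69270 : nd 69270 = n132982 := ndS (p := 38057) (l := 5) rfl N38057 D132982
theorem N69271 : nd 69271 = n132984 := ndS (p := 38058) (l := 5) rfl N38058 D132984
theorem N69272 : nd 69272 = n132985 := ndS (p := 38058) (l := 6) rfl N38058 D132985
theorem N69273 : nd 69273 = n132986 := ndS (p := 38059) (l := 3) rfl N38059 D132986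
theorem N69274 : nd 69274 = n132987 := ndS (p := 38059) (l := 5) rfl N38059 D132987
theorem N69275 : nd 69275 = n132988 := ndS (p := 38059) (l := 6) rfl N38059 D132988
theorem N69276 : nd 69276 = n132989 := ndS (p := 38060) (l := 4) rfl N38060 D132989
theorem N69277 : nd 69277 = n132990 := ndS (p := 38060) (l := 6) rfl N38060 D132990
theorem N69278 : nd 69278 = n132991 := ndS (p := 38061) (l := 0) rfl N38061 D132991
theorem N69279 : nd 69279 = n132992 := ndS (p := 38061) (l := 1) rfl N38061 D132992
theorem N69280 : nd 69280 = n132993 := ndS (p := 38061) (l := 5) rfl N38061 D132993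
theorem N69281 : nd 69281 = n132994 := ndS (p := 38061) (l := 7) rfl N38061 D132994
theorem N69282 : nd 69282 = n132995 := ndS (p := 38062) (l := 5) rfl N38062 D132995
theorem N69283 : nd 69283 = n132996 := ndS (p := 38062) (l := 6) rfl N38062 D132996
theorem N69284 : nd 69284 = n132998 := ndS (p := 38063) (l := 6) rfl N38063 D132998
theorem N69285 : nd 69285 = n132999 := ndS (p := 38064) (l := 0) rfl N38064 D132999
theorem N69286 : nd 69286 = n133000 := ndS (p := 38064) (l := 1) rfl N38064 D133000
theorem N69287 : nd 69287 = n133001 := ndS (p := 38064) (l := 5) rfl N38064 D133001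
theorem N69288 : nd 69288 = n133002 := ndS (p := 38064) (l := 7) rfl N38064 D133002
theorem N69289 : nd 69289 = n133004 := ndS (p := 38065) (l := 5) rfl N38065 D133004
theorem N69290 : nd 69290 = n133005 := ndS (p := 38065) (l := 6) rfl N38065 D133005
theorem N69291 : nd 69291 = n133007 := ndS (p := 38066) (l := 1) rfl N38066 D133007
theorem N69292 : nd 69292 = n133008 := ndS (p := 38066) (l := 5) rfl N38066 D133008
theorem N69293 : nd 69293 = n133009 := ndS (p := 38066) (l := 7) rfl N38066 D133009
theorem N69294 : nd 69294 = n133022 := ndS (p := 38068) (l := 4) rfl N38068 D133022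
theorem N69295 : nd 69295 = n133024 := ndS (p := 38070) (l := 3) rfl N38070 D133024
theorem N69296 : nd 69296 = n133025 := ndS (p := 38070) (l := 5) rfl N38070 D133025
theorem N69297 : nd 69297 = n133026 := ndS (p := 38070) (l := 6) rfl N38070 D133026
theorem N69298 : nd 69298 = n133035 := ndS (p := 38072) (l := 2) rfl N38072 D133035
theorem N69299 : nd 69299 = n133039 := ndS (p := 38073) (l := 1) rfl N38073 D133039
theorem N69300 : nd 69300 = n133041 := ndS (p := 38073) (l := 5) rfl N38073 D133041
theorem N69301 : nd 69301 = n133044 := ndS (p := 38074) (l := 0) rfl N38074 D133044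
theorem N69302 : nd 69302 = n133045 := ndS (p := 38074) (l := 1) rfl N38074 D133045
theorem N69303 : nd 69303 = n133047 := ndS (p := 38074) (l := 7) rfl N38074 D133047
theorem N69304 : nd 69304 = n133049 := ndS (p := 38075) (l := 2) rfl N38075 D133049
theorem N69305 : nd 69305 = n133051 := ndS (p := 38075) (l := 6) rfl N38075 D133051
theorem N69306 : nd 69306 = n133055 := ndS (p := 38077) (l := 0) rfl N38077 D133055
theorem N69307 : nd 69307 = n133056 := ndS (p := 38077) (l := 1) rfl N38077 D133056
theorem N69308 : nd 69308 = n133057 := ndS (p := 38077) (l := 5) rfl N38077 D133057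
theorem N69309 : nd 69309 = n133058 := ndS (p := 38077) (l := 7) rfl N38077 D133058
theorem N69310 : nd 69310 = n133062 := ndS (p := 38078) (l := 5) rfl N38078 D133062
theorem N69311 : nd 69311 = n133065 := ndS (p := 38079) (l := 3) rfl N38079 D133065
theorem N69312 : nd 69312 = n133067 := ndS (p := 38079) (l := 6) rfl N38079 D133067
theorem N69313 : nd 69313 = n133069 := ndS (p := 38080) (l := 1) rfl N38080 D133069
theorem N69314 : nd 69314 = n133070 := ndS (p := 38080) (l := 4) rfl N38080 D133070
theorem N69315 : nd 69315 = n133073 := ndS (p := 38081) (l := 1) rfl N38081 D133073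
theorem N69316 : nd 69316 = n133074 := ndS (p := 38081) (l := 5) rfl N38081 D133074
theorem N69317 : nd 69317 = n133075 := ndS (p := 38081) (l := 7) rfl N38081 D133075
theorem N69318 : nd 69318 = n133077 := ndS (p := 38082) (l := 3) rfl N38082 D133077
theorem N69319 : nd 69319 = n133078 := ndS (p := 38082) (l := 4) rfl N38082 D133078
theorem N69320 : nd 69320 = n133080 := ndS (p := 38082) (l := 6) rfl N38082 D133080
theorem N69321 : nd 69321 = n133086 := ndS (p := 38084) (l := 4) rfl N38084 D133086
theorem N69322 : nd 69322 = n133087 := ndS (p := 38084) (l := 5) rfl N38084 D133087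
theorem N69323 : nd 69323 = n133090 := ndS (p := 38085) (l := 3) rfl N38085 D133090
theorem N69324 : nd 69324 = n133091 := ndS (p := 38085) (l := 4) rfl N38085 D133091
theorem N69325 : nd 69325 = n133092 := ndS (p := 38085) (l := 5) rfl N38085 D133092
theorem N69326 : nd 69326 = n133093 := ndS (p := 38085) (l := 6) rfl N38085 D133093
theorem N69327 : nd 69327 = n133095 := ndS (p := 38086) (l := 1) rfl N38086 D133095
theorem N69328 : nd 69328 = n133100 := ndS (p := 38088) (l := 1) rfl N38088 D133100
theorem N69329 : nd 69329 = n133102 := ndS (p := 38088) (l := 6) rfl N38088 D133102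
theorem N69330 : nd 69330 = n133103 := ndS (p := 38089) (l := 0) rfl N38089 D133103
theorem N69331 : nd 69331 = n133104 := ndS (p := 38089) (l := 1) rfl N38089 D133104
theorem N69332 : nd 69332 = n133106 := ndS (p := 38089) (l := 7) rfl N38089 D133106
theorem N69333 : nd 69333 = n133107 := ndS (p := 38090) (l := 3) rfl N38090 D133107
theorem N69334 : nd 69334 = n133109 := ndS (p := 38090) (l := 6) rfl N38090 D133109
theorem N69335 : nd 69335 = n133124 := ndS (p := 38093) (l := 1) rfl N38093 D133124
theorem N69336 : nd 69336 = n133130 := ndS (p := 38095) (l := 3) rfl N38095 D133130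
theorem N69337 : nd 69337 = n133133 := ndS (p := 38096) (l := 0) rfl N38096 D133133
theorem N69338 : nd 69338 = n133134 := ndS (p := 38096) (l := 1) rfl N38096 D133134
theorem N69339 : nd 69339 = n133136 := ndS (p := 38096) (l := 7) rfl N38096 D133136
theorem N69340 : nd 69340 = n133141 := ndS (p := 38098) (l := 6) rfl N38098 D133141
theorem N69341 : nd 69341 = n133145 := ndS (p := 38100) (l := 1) rfl N38100 D133145
theorem N69342 : nd 69342 = n133146 := ndS (p := 38100) (l := 5) rfl N38100 D133146
theorem N69343 : nd 69343 = n133147 := ndS (p := 38100) (l := 7) rfl N38100 D133147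
theorem N69344 : nd 69344 = n133152 := ndS (p := 38101) (l := 5) rfl N38101 D133152
theorem N69345 : nd 69345 = n133154 := ndS (p := 38103) (l := 0) rfl N38103 D133154
theorem N69346 : nd 69346 = n133156 := ndS (p := 38103) (l := 7) rfl N38103 D133156
theorem N69347 : nd 69347 = n133160 := ndS (p := 38104) (l := 4) rfl N38104 D133160
theorem N69348 : nd 69348 = n133169 := ndS (p := 38105) (l := 3) rfl N38105 D133169
theorem N69349 : nd 69349 = n133170 := ndS (p := 38105) (l := 5) rfl N38105 D133170
theorem N69350 : nd 69350 = n133171 := ndS (p := 38105) (l := 6) rfl N38105 D133171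
theorem N69351 : nd 69351 = n133172 := ndS (p := 38106) (l := 4) rfl N38106 D133172
theorem N69352 : nd 69352 = n133176 := ndS (p := 38108) (l := 5) rfl N38108 D133176
theorem N69353 : nd 69353 = n133181 := ndS (p := 38110) (l := 0) rfl N38110 D133181
theorem N69354 : nd 69354 = n133182 := ndS (p := 38110) (l := 1) rfl N38110 D133182
theorem N69355 : nd 69355 = n133183 := ndS (p := 38110) (l := 7) rfl N38110 D133183
theorem N69356 : nd 69356 = n133184 := ndS (p := 38111) (l := 6) rfl N38111 D133184
theorem N69357 : nd 69357 = n133185 := ndS (p := 38112) (l := 0) rfl N38112 D133185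
theorem N69358 : nd 69358 = n133186 := ndS (p := 38112) (l := 1) rfl N38112 D133186
theorem N69359 : nd 69359 = n133191 := ndS (p := 38116) (l := 2) rfl N38116 D133191
theorem N69360 : nd 69360 = n133195 := ndS (p := 38118) (l := 4) rfl N38118 D133195
theorem N69361 : nd 69361 = n133208 := ndS (p := 38123) (l := 6) rfl N38123 D133208
theorem N69362 : nd 69362 = n133209 := ndS (p := 38124) (l := 4) rfl N38124 D133209
theorem N69363 : nd 69363 = n133210 := ndS (p := 38124) (l := 6) rfl N38124 D133210
theorem N69364 : nd 69364 = n133211 := ndS (p := 38125) (l := 0) rfl N38125 D133211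
theorem N69365 : nd 69365 = n133212 := ndS (p := 38125) (l := 1) rfl N38125 D133212
theorem N69366 : nd 69366 = n133213 := ndS (p := 38125) (l := 5) rfl N38125 D133213
theorem N69367 : nd 69367 = n133214 := ndS (p := 38125) (l := 7) rfl N38125 D133214
theorem N69368 : nd 69368 = n133215 := ndS (p := 38126) (l := 0) rfl N38126 D133215
theorem N69369 : nd 69369 = n133216 := ndS (p := 38126) (l := 1) rfl N38126 D133216
theorem N69370 : nd 69370 = n133217 := ndS (p := 38126) (l := 5) rfl N38126 D133217
theorem N69371 : nd 69371 = n133218 := ndS (p := 38126) (l := 7) rfl N38126 D133218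
theorem N69372 : nd 69372 = n133219 := ndS (p := 38127) (l := 3) rfl N38127 D133219
theorem N69373 : nd 69373 = n133220 := ndS (p := 38127) (l := 5) rfl N38127 D133220
theorem N69374 : nd 69374 = n133221 := ndS (p := 38128) (l := 3) rfl N38128 D133221
theorem N69375 : nd 69375 = n133222 := ndS (p := 38128) (l := 5) rfl N38128 D133222
theorem N69376 : nd 69376 = n133223 := ndS (p := 38128) (l := 6) rfl N38128 D133223
theorem N69377 : nd 69377 = n133225 := ndS (p := 38129) (l := 1) rfl N38129 D133225
theorem N69378 : nd 69378 = n133226 := ndS (p := 38129) (l := 4) rfl N38129 D133226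
theorem N69379 : nd 69379 = n133227 := ndS (p := 38129) (l := 7) rfl N38129 D133227
theorem N69380 : nd 69380 = n133228 := ndS (p := 38132) (l := 0) rfl N38132 D133228
theorem N69381 : nd 69381 = n133229 := ndS (p := 38132) (l := 3) rfl N38132 D133229
theorem N69382 : nd 69382 = n133230 := ndS (p := 38132) (l := 5) rfl N38132 D133230
theorem N69383 : nd 69383 = n133231 := ndS (p := 38133) (l := 3) rfl N38133 D133231
theorem N69384 : nd 69384 = n133232 := ndS (p := 38133) (l := 5) rfl N38133 D133232
theorem N69385 : nd 69385 = n133240 := ndS (p := 38136) (l := 3) rfl N38136 D133240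
theorem N69386 : nd 69386 = n133242 := ndS (p := 38138) (l := 4) rfl N38138 D133242
theorem N69387 : nd 69387 = n133243 := ndS (p := 38139) (l := 6) rfl N38139 D133243
theorem N69388 : nd 69388 = n133244 := ndS (p := 38140) (l := 1) rfl N38140 D133244
theorem N69389 : nd 69389 = n133245 := ndS (p := 38140) (l := 6) rfl N38140 D133245
theorem N69390 : nd 69390 = n133246 := ndS (p := 38141) (l := 0) rfl N38141 D133246
theorem N69391 : nd 69391 = n133247 := ndS (p := 38141) (l := 1) rfl N38141 D133247
theorem N69392 : nd 69392 = n133248 := ndS (p := 38141) (l := 3) rfl N38141 D133248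
theorem N69393 : nd 69393 = n133255 := ndS (p := 38143) (l := 0) rfl N38143 D133255
theorem N69394 : nd 69394 = n133256 := ndS (p := 38143) (l := 2) rfl N38143 D133256
theorem N69395 : nd 69395 = n133257 := ndS (p := 38143) (l := 4) rfl N38143 D133257
theorem N69396 : nd 69396 = n133258 := ndS (p := 38143) (l := 6) rfl N38143 D133258
theorem N69397 : nd 69397 = n133260 := ndS (p := 38144) (l := 5) rfl N38144 D133260
theorem N69398 : nd 69398 = n133264 := ndS (p := 38145) (l := 5) rfl N38145 D133264
theorem N69399 : nd 69399 = n133266 := ndS (p := 38146) (l := 0) rfl N38146 D133266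
theorem N69400 : nd 69400 = n133267 := ndS (p := 38146) (l := 1) rfl N38146 D133267
theorem N69401 : nd 69401 = n133268 := ndS (p := 38146) (l := 5) rfl N38146 D133268
theorem N69402 : nd 69402 = n133269 := ndS (p := 38146) (l := 7) rfl N38146 D133269
theorem N69403 : nd 69403 = n133272 := ndS (p := 38147) (l := 4) rfl N38147 D133272
theorem N69404 : nd 69404 = n133276 := ndS (p := 38148) (l := 3) rfl N38148 D133276
theorem N69405 : nd 69405 = n133277 := ndS (p := 38148) (l := 4) rfl N38148 D133277
theorem N69406 : nd 69406 = n133278 := ndS (p := 38148) (l := 5) rfl N38148 D133278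
theorem N69407 : nd 69407 = n133279 := ndS (p := 38148) (l := 6) rfl N38148 D133279
theorem N69408 : nd 69408 = n133288 := ndS (p := 38151) (l := 5) rfl N38151 D133288
theorem N69409 : nd 69409 = n133289 := ndS (p := 38151) (l := 6) rfl N38151 D133289
theorem N69410 : nd 69410 = n133290 := ndS (p := 38153) (l := 4) rfl N38153 D133290
theorem N69411 : nd 69411 = n133291 := ndS (p := 38153) (l := 6) rfl N38153 D133291
theorem N69412 : nd 69412 = n133305 := ndS (p := 38155) (l := 5) rfl N38155 D133305
theorem N69413 : nd 69413 = n133308 := ndS (p := 38156) (l := 3) rfl N38156 D133308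
theorem N69414 : nd 69414 = n133310 := ndS (p := 38156) (l := 5) rfl N38156 D133310
theorem N69415 : nd 69415 = n133311 := ndS (p := 38156) (l := 6) rfl N38156 D133311
theorem N69416 : nd 69416 = n133316 := ndS (p := 38158) (l := 5) rfl N38158 D133316
theorem N69417 : nd 69417 = n133320 := ndS (p := 38161) (l := 1) rfl N38161 D133320
theorem N69418 : nd 69418 = n133321 := ndS (p := 38161) (l := 2) rfl N38161 D133321
theorem N69419 : nd 69419 = n133322 := ndS (p := 38161) (l := 4) rfl N38161 D133322
theorem N69420 : nd 69420 = n133323 := ndS (p := 38161) (l := 6) rfl N38161 D133323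
theorem N69421 : nd 69421 = n133324 := ndS (p := 38162) (l := 7) rfl N38162 D133324
theorem N69422 : nd 69422 = n133325 := ndS (p := 38163) (l := 0) rfl N38163 D133325
theorem N69423 : nd 69423 = n133326 := ndS (p := 38163) (l := 1) rfl N38163 D133326
theorem N69424 : nd 69424 = n133328 := ndS (p := 38165) (l := 0) rfl N38165 D133328
theorem N69425 : nd 69425 = n133331 := ndS (p := 38165) (l := 5) rfl N38165 D133331
theorem N69426 : nd 69426 = n133333 := ndS (p := 38166) (l := 6) rfl N38166 D133333
theorem N69427 : nd 69427 = n133334 := ndS (p := 38167) (l := 0) rfl N38167 D133334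
theorem N69428 : nd 69428 = n133335 := ndS (p := 38167) (l := 5) rfl N38167 D133335
theorem N69429 : nd 69429 = n133337 := ndS (p := 38169) (l := 0) rfl N38169 D133337
theorem N69430 : nd 69430 = n133338 := ndS (p := 38169) (l := 7) rfl N38169 D133338
theorem N69431 : nd 69431 = n133339 := ndS (p := 38171) (l := 0) rfl N38171 D133339
theorem N69432 : nd 69432 = n133340 := ndS (p := 38171) (l := 1) rfl N38171 D133340
theorem N69433 : nd 69433 = n133341 := ndS (p := 38171) (l := 2) rfl N38171 D133341
theorem N69434 : nd 69434 = n133344 := ndS (p := 38173) (l := 1) rfl N38173 D133344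
theorem N69435 : nd 69435 = n133345 := ndS (p := 38174) (l := 0) rfl N38174 D133345
theorem N69436 : nd 69436 = n133346 := ndS (p := 38174) (l := 1) rfl N38174 D133346
theorem N69437 : nd 69437 = n133347 := ndS (p := 38174) (l := 2) rfl N38174 D133347
theorem N69438 : nd 69438 = n133349 := ndS (p := 38175) (l := 0) rfl N38175 D133349
theorem N69439 : nd 69439 = n133351 := ndS (p := 38176) (l := 5) rfl N38176 D133351
theorem N69440 : nd 69440 = n133352 := ndS (p := 38179) (l := 0) rfl N38179 D133352
theorem N69441 : nd 69441 = n133353 := ndS (p := 38179) (l := 1) rfl N38179 D133353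
theorem N69442 : nd 69442 = n133354 := ndS (p := 38179) (l := 2) rfl N38179 D133354
theorem N69443 : nd 69443 = n133357 := ndS (p := 38180) (l := 5) rfl N38180 D133357
theorem N69444 : nd 69444 = n133358 := ndS (p := 38180) (l := 6) rfl N38180 D133358
theorem N69445 : nd 69445 = n133360 := ndS (p := 38181) (l := 3) rfl N38181 D133360
theorem N69446 : nd 69446 = n133362 := ndS (p := 38181) (l := 5) rfl N38181 D133362
theorem N69447 : nd 69447 = n133363 := ndS (p := 38181) (l := 6) rfl N38181 D133363
theorem N69448 : nd 69448 = n133364 := ndS (p := 38182) (l := 5) rfl N38182 D133364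
theorem N69449 : nd 69449 = n133366 := ndS (p := 38183) (l := 0) rfl N38183 D133366
theorem N69450 : nd 69450 = n133367 := ndS (p := 38183) (l := 1) rfl N38183 D133367
theorem N69451 : nd 69451 = n133368 := ndS (p := 38183) (l := 4) rfl N38183 D133368
theorem N69452 : nd 69452 = n133369 := ndS (p := 38183) (l := 6) rfl N38183 D133369
theorem N69453 : nd 69453 = n133370 := ndS (p := 38184) (l := 0) rfl N38184 D133370
theorem N69454 : nd 69454 = n133371 := ndS (p := 38184) (l := 1) rfl N38184 D133371
theorem N69455 : nd 69455 = n133372 := ndS (p := 38184) (l := 5) rfl N38184 D133372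
theorem N69456 : nd 69456 = n133374 := ndS (p := 38185) (l := 0) rfl N38185 D133374
theorem N69457 : nd 69457 = n133375 := ndS (p := 38185) (l := 1) rfl N38185 D133375
theorem N69458 : nd 69458 = n133376 := ndS (p := 38185) (l := 5) rfl N38185 D133376
theorem N69459 : nd 69459 = n133377 := ndS (p := 38185) (l := 7) rfl N38185 D133377
theorem N69460 : nd 69460 = n133378 := ndS (p := 38186) (l := 3) rfl N38186 D133378
theorem N69461 : nd 69461 = n133379 := ndS (p := 38186) (l := 5) rfl N38186 D133379
theorem N69462 : nd 69462 = n133380 := ndS (p := 38187) (l := 0) rfl N38187 D133380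
theorem N69463 : nd 69463 = n133381 := ndS (p := 38187) (l := 1) rfl N38187 D133381
theorem N69464 : nd 69464 = n133382 := ndS (p := 38187) (l := 4) rfl N38187 D133382
theorem N69465 : nd 69465 = n133383 := ndS (p := 38187) (l := 7) rfl N38187 D133383
theorem N69466 : nd 69466 = n133384 := ndS (p := 38189) (l := 3) rfl N38189 D133384
theorem N69467 : nd 69467 = n133385 := ndS (p := 38189) (l := 5) rfl N38189 D133385
theorem N69468 : nd 69468 = n133386 := ndS (p := 38192) (l := 5) rfl N38192 D133386
theorem N69469 : nd 69469 = n133387 := ndS (p := 38194) (l := 3) rfl N38194 D133387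
theorem N69470 : nd 69470 = n133388 := ndS (p := 38194) (l := 5) rfl N38194 D133388
theorem N69471 : nd 69471 = n133389 := ndS (p := 38196) (l := 0) rfl N38196 D133389
theorem N69472 : nd 69472 = n133390 := ndS (p := 38196) (l := 1) rfl N38196 D133390
theorem N69473 : nd 69473 = n133391 := ndS (p := 38196) (l := 2) rfl N38196 D133391
theorem N69474 : nd 69474 = n133392 := ndS (p := 38197) (l := 0) rfl N38197 D133392
theorem N69475 : nd 69475 = n133393 := ndS (p := 38197) (l := 1) rfl N38197 D133393
theorem N69476 : nd 69476 = n133394 := ndS (p := 38197) (l := 7) rfl N38197 D133394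
theorem N69477 : nd 69477 = n133395 := ndS (p := 38198) (l := 5) rfl N38198 D133395
theorem N69478 : nd 69478 = n133396 := ndS (p := 38199) (l := 4) rfl N38199 D133396
theorem N69479 : nd 69479 = n133397 := ndS (p := 38199) (l := 6) rfl N38199 D133397
theorem N69480 : nd 69480 = n133398 := ndS (p := 38201) (l := 1) rfl N38201 D133398
theorem N69481 : nd 69481 = n133399 := ndS (p := 38201) (l := 7) rfl N38201 D133399
theorem N69482 : nd 69482 = n133400 := ndS (p := 38202) (l := 5) rfl N38202 D133400
theorem N69483 : nd 69483 = n133401 := ndS (p := 38203) (l := 5) rfl N38203 D133401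
theorem N69484 : nd 69484 = n133404 := ndS (p := 38207) (l := 3) rfl N38207 D133404
theorem N69485 : nd 69485 = n133406 := ndS (p := 38207) (l := 6) rfl N38207 D133406
theorem N69486 : nd 69486 = n133407 := ndS (p := 38208) (l := 0) rfl N38208 D133407
theorem N69487 : nd 69487 = n133408 := ndS (p := 38208) (l := 1) rfl N38208 D133408
theorem N69488 : nd 69488 = n133409 := ndS (p := 38208) (l := 7) rfl N38208 D133409
theorem N69489 : nd 69489 = n133410 := ndS (p := 38209) (l := 4) rfl N38209 D133410
theorem N69490 : nd 69490 = n133411 := ndS (p := 38209) (l := 6) rfl N38209 D133411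
theorem N69491 : nd 69491 = n133412 := ndS (p := 38210) (l := 0) rfl N38210 D133412
theorem N69492 : nd 69492 = n133413 := ndS (p := 38210) (l := 1) rfl N38210 D133413
theorem N69493 : nd 69493 = n133414 := ndS (p := 38210) (l := 7) rfl N38210 D133414
theorem N69494 : nd 69494 = n133415 := ndS (p := 38211) (l := 0) rfl N38211 D133415
theorem N69495 : nd 69495 = n133416 := ndS (p := 38211) (l := 1) rfl N38211 D133416
theorem N69496 : nd 69496 = n133418 := ndS (p := 38211) (l := 6) rfl N38211 D133418
theorem N69497 : nd 69497 = n133419 := ndS (p := 38212) (l := 0) rfl N38212 D133419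
theorem N69498 : nd 69498 = n133420 := ndS (p := 38212) (l := 1) rfl N38212 D133420
theorem N69499 : nd 69499 = n133421 := ndS (p := 38212) (l := 5) rfl N38212 D133421
theorem N69500 : nd 69500 = n133422 := ndS (p := 38212) (l := 7) rfl N38212 D133422
theorem N69501 : nd 69501 = n133425 := ndS (p := 38213) (l := 4) rfl N38213 D133425
theorem N69502 : nd 69502 = n133426 := ndS (p := 38213) (l := 5) rfl N38213 D133426
theorem N69503 : nd 69503 = n133427 := ndS (p := 38213) (l := 6) rfl N38213 D133427
theorem N69504 : nd 69504 = n133429 := ndS (p := 38214) (l := 3) rfl N38214 D133429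
theorem N69505 : nd 69505 = n133430 := ndS (p := 38214) (l := 4) rfl N38214 D133430
theorem N69506 : nd 69506 = n133431 := ndS (p := 38214) (l := 5) rfl N38214 D133431
theorem N69507 : nd 69507 = n133432 := ndS (p := 38214) (l := 6) rfl N38214 D133432
theorem N69508 : nd 69508 = n133435 := ndS (p := 38217) (l := 0) rfl N38217 D133435
theorem N69509 : nd 69509 = n133436 := ndS (p := 38217) (l := 1) rfl N38217 D133436
theorem N69510 : nd 69510 = n133437 := ndS (p := 38217) (l := 2) rfl N38217 D133437
theorem N69511 : nd 69511 = n133439 := ndS (p := 38218) (l := 6) rfl N38218 D133439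
theorem N69512 : nd 69512 = n133440 := ndS (p := 38219) (l := 0) rfl N38219 D133440
theorem N69513 : nd 69513 = n133441 := ndS (p := 38219) (l := 1) rfl N38219 D133441
theorem N69514 : nd 69514 = n133442 := ndS (p := 38219) (l := 2) rfl N38219 D133442
theorem N69515 : nd 69515 = n133443 := ndS (p := 38219) (l := 5) rfl N38219 D133443
theorem N69516 : nd 69516 = n133444 := ndS (p := 38219) (l := 6) rfl N38219 D133444
theorem N69517 : nd 69517 = n133446 := ndS (p := 38221) (l := 0) rfl N38221 D133446
theorem N69518 : nd 69518 = n133447 := ndS (p := 38221) (l := 1) rfl N38221 D133447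
theorem N69519 : nd 69519 = n133448 := ndS (p := 38221) (l := 5) rfl N38221 D133448
theorem N69520 : nd 69520 = n133449 := ndS (p := 38221) (l := 7) rfl N38221 D133449
theorem N69521 : nd 69521 = n133450 := ndS (p := 38222) (l := 4) rfl N38222 D133450
theorem N69522 : nd 69522 = n133451 := ndS (p := 38224) (l := 0) rfl N38224 D133451
theorem N69523 : nd 69523 = n133453 := ndS (p := 38224) (l := 2) rfl N38224 D133453
theorem N69524 : nd 69524 = n133454 := ndS (p := 38224) (l := 5) rfl N38224 D133454
theorem N69525 : nd 69525 = n133455 := ndS (p := 38224) (l := 6) rfl N38224 D133455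
theorem N69526 : nd 69526 = n133456 := ndS (p := 38225) (l := 6) rfl N38225 D133456
theorem N69527 : nd 69527 = n133457 := ndS (p := 38226) (l := 5) rfl N38226 D133457
theorem N69528 : nd 69528 = n133462 := ndS (p := 38227) (l := 6) rfl N38227 D133462
theorem N69529 : nd 69529 = n133464 := ndS (p := 38229) (l := 5) rfl N38229 D133464
theorem N69530 : nd 69530 = n133465 := ndS (p := 38229) (l := 7) rfl N38229 D133465
theorem N69531 : nd 69531 = n133467 := ndS (p := 38230) (l := 6) rfl N38230 D133467
theorem N69532 : nd 69532 = n133468 := ndS (p := 38231) (l := 3) rfl N38231 D133468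
theorem N69533 : nd 69533 = n133469 := ndS (p := 38231) (l := 6) rfl N38231 D133469
theorem N69534 : nd 69534 = n133479 := ndS (p := 38234) (l := 6) rfl N38234 D133479
theorem N69535 : nd 69535 = n133481 := ndS (p := 38235) (l := 6) rfl N38235 D133481
theorem N69536 : nd 69536 = n133500 := ndS (p := 38240) (l := 3) rfl N38240 D133500
theorem N69537 : nd 69537 = n133502 := ndS (p := 38241) (l := 3) rfl N38241 D133502
theorem N69538 : nd 69538 = n133503 := ndS (p := 38242) (l := 0) rfl N38242 D133503
theorem N69539 : nd 69539 = n133506 := ndS (p := 38242) (l := 5) rfl N38242 D133506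
theorem N69540 : nd 69540 = n133507 := ndS (p := 38243) (l := 6) rfl N38243 D133507
theorem N69541 : nd 69541 = n133514 := ndS (p := 38244) (l := 1) rfl N38244 D133514
theorem N69542 : nd 69542 = n133516 := ndS (p := 38244) (l := 6) rfl N38244 D133516
theorem N69543 : nd 69543 = n133518 := ndS (p := 38245) (l := 0) rfl N38245 D133518
theorem N69544 : nd 69544 = n133519 := ndS (p := 38245) (l := 1) rfl N38245 D133519
theorem N69545 : nd 69545 = n133522 := ndS (p := 38245) (l := 6) rfl N38245 D133522
theorem N69546 : nd 69546 = n133529 := ndS (p := 38247) (l := 0) rfl N38247 D133529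
theorem N69547 : nd 69547 = n133531 := ndS (p := 38247) (l := 2) rfl N38247 D133531
theorem N69548 : nd 69548 = n133532 := ndS (p := 38247) (l := 4) rfl N38247 D133532
theorem N69549 : nd 69549 = n133533 := ndS (p := 38247) (l := 6) rfl N38247 D133533
theorem N69550 : nd 69550 = n133534 := ndS (p := 38248) (l := 3) rfl N38248 D133534
theorem N69551 : nd 69551 = n133536 := ndS (p := 38248) (l := 6) rfl N38248 D133536
theorem N69552 : nd 69552 = n133538 := ndS (p := 38249) (l := 1) rfl N38249 D133538
theorem N69553 : nd 69553 = n133540 := ndS (p := 38249) (l := 7) rfl N38249 D133540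
theorem N69554 : nd 69554 = n133543 := ndS (p := 38250) (l := 5) rfl N38250 D133543
theorem N69555 : nd 69555 = n133567 := ndS (p := 38256) (l := 4) rfl N38256 D133567
theorem N69556 : nd 69556 = n133569 := ndS (p := 38257) (l := 5) rfl N38257 D133569
theorem N69557 : nd 69557 = n133570 := ndS (p := 38258) (l := 4) rfl N38258 D133570
theorem N69558 : nd 69558 = n133571 := ndS (p := 38259) (l := 4) rfl N38259 D133571
theorem N69559 : nd 69559 = n133572 := ndS (p := 38260) (l := 0) rfl N38260 D133572
theorem N69560 : nd 69560 = n133573 := ndS (p := 38260) (l := 1) rfl N38260 D133573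
theorem N69561 : nd 69561 = n133575 := ndS (p := 38261) (l := 3) rfl N38261 D133575
theorem N69562 : nd 69562 = n133576 := ndS (p := 38261) (l := 4) rfl N38261 D133576
theorem N69563 : nd 69563 = n133579 := ndS (p := 38262) (l := 4) rfl N38262 D133579
theorem N69564 : nd 69564 = n133581 := ndS (p := 38263) (l := 6) rfl N38263 D133581
theorem N69565 : nd 69565 = n133582 := ndS (p := 38264) (l := 3) rfl N38264 D133582
theorem N69566 : nd 69566 = n133583 := ndS (p := 38264) (l := 5) rfl N38264 D133583
theorem N69567 : nd 69567 = n133586 := ndS (p := 38265) (l := 5) rfl N38265 D133586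
theorem N69568 : nd 69568 = n133587 := ndS (p := 38265) (l := 6) rfl N38265 D133587
theorem N69569 : nd 69569 = n133588 := ndS (p := 38266) (l := 4) rfl N38266 D133588
theorem N69570 : nd 69570 = n133589 := ndS (p := 38266) (l := 6) rfl N38266 D133589
theorem N69571 : nd 69571 = n133590 := ndS (p := 38267) (l := 0) rfl N38267 D133590
theorem N69572 : nd 69572 = n133592 := ndS (p := 38267) (l := 5) rfl N38267 D133592
theorem N69573 : nd 69573 = n133593 := ndS (p := 38267) (l := 7) rfl N38267 D133593
theorem N69574 : nd 69574 = n133594 := ndS (p := 38268) (l := 4) rfl N38268 D133594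
theorem N69575 : nd 69575 = n133595 := ndS (p := 38268) (l := 6) rfl N38268 D133595
theorem N69576 : nd 69576 = n133596 := ndS (p := 38270) (l := 4) rfl N38270 D133596
theorem N69577 : nd 69577 = n133598 := ndS (p := 38272) (l := 1) rfl N38272 D133598
theorem N69578 : nd 69578 = n133599 := ndS (p := 38272) (l := 7) rfl N38272 D133599
theorem N69579 : nd 69579 = n133605 := ndS (p := 38275) (l := 5) rfl N38275 D133605
theorem N69580 : nd 69580 = n133610 := ndS (p := 38276) (l := 3) rfl N38276 D133610
theorem N69581 : nd 69581 = n133627 := ndS (p := 38280) (l := 4) rfl N38280 D133627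
theorem N69582 : nd 69582 = n133629 := ndS (p := 38280) (l := 6) rfl N38280 D133629
theorem N69583 : nd 69583 = n133639 := ndS (p := 38283) (l := 4) rfl N38283 D133639
theorem N69584 : nd 69584 = n133640 := ndS (p := 38283) (l := 6) rfl N38283 D133640
theorem N69585 : nd 69585 = n133641 := ndS (p := 38284) (l := 3) rfl N38284 D133641
theorem N69586 : nd 69586 = n133642 := ndS (p := 38284) (l := 5) rfl N38284 D133642
theorem N69587 : nd 69587 = n133643 := ndS (p := 38284) (l := 6) rfl N38284 D133643
theorem N69588 : nd 69588 = n133644 := ndS (p := 38285) (l := 0) rfl N38285 D133644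
theorem N69589 : nd 69589 = n133645 := ndS (p := 38285) (l := 1) rfl N38285 D133645
theorem N69590 : nd 69590 = n133646 := ndS (p := 38285) (l := 5) rfl N38285 D133646
theorem N69591 : nd 69591 = n133647 := ndS (p := 38285) (l := 7) rfl N38285 D133647
theorem N69592 : nd 69592 = n133648 := ndS (p := 38286) (l := 4) rfl N38286 D133648
theorem N69593 : nd 69593 = n133649 := ndS (p := 38287) (l := 0) rfl N38287 D133649
theorem N69594 : nd 69594 = n133651 := ndS (p := 38287) (l := 2) rfl N38287 D133651
theorem N69595 : nd 69595 = n133652 := ndS (p := 38287) (l := 6) rfl N38287 D133652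
theorem N69596 : nd 69596 = n133653 := ndS (p := 38288) (l := 0) rfl N38288 D133653
theorem N69597 : nd 69597 = n133654 := ndS (p := 38288) (l := 1) rfl N38288 D133654
theorem N69598 : nd 69598 = n133655 := ndS (p := 38288) (l := 5) rfl N38288 D133655
theorem N69599 : nd 69599 = n133656 := ndS (p := 38288) (l := 7) rfl N38288 D133656
theorem N69600 : nd 69600 = n133657 := ndS (p := 38289) (l := 3) rfl N38289 D133657
theorem N69601 : nd 69601 = n133658 := ndS (p := 38289) (l := 4) rfl N38289 D133658
theorem N69602 : nd 69602 = n133659 := ndS (p := 38289) (l := 5) rfl N38289 D133659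
theorem N69603 : nd 69603 = n133660 := ndS (p := 38289) (l := 6) rfl N38289 D133660
theorem N69604 : nd 69604 = n133661 := ndS (p := 38290) (l := 3) rfl N38290 D133661
theorem N69605 : nd 69605 = n133662 := ndS (p := 38290) (l := 4) rfl N38290 D133662
theorem N69606 : nd 69606 = n133663 := ndS (p := 38291) (l := 0) rfl N38291 D133663
theorem N69607 : nd 69607 = n133664 := ndS (p := 38291) (l := 1) rfl N38291 D133664
theorem N69608 : nd 69608 = n133665 := ndS (p := 38291) (l := 7) rfl N38291 D133665
theorem N69609 : nd 69609 = n133669 := ndS (p := 38293) (l := 0) rfl N38293 D133669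
theorem N69610 : nd 69610 = n133670 := ndS (p := 38293) (l := 1) rfl N38293 D133670
theorem N69611 : nd 69611 = n133671 := ndS (p := 38294) (l := 3) rfl N38294 D133671
theorem N69612 : nd 69612 = n133672 := ndS (p := 38294) (l := 6) rfl N38294 D133672
theorem N69613 : nd 69613 = n133675 := ndS (p := 38296) (l := 4) rfl N38296 D133675
theorem N69614 : nd 69614 = n133676 := ndS (p := 38296) (l := 6) rfl N38296 D133676
theorem N69615 : nd 69615 = n133677 := ndS (p := 38297) (l := 0) rfl N38297 D133677
theorem N69616 : nd 69616 = n133678 := ndS (p := 38297) (l := 7) rfl N38297 D133678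
theorem N69617 : nd 69617 = n133680 := ndS (p := 38298) (l := 6) rfl N38298 D133680
theorem N69618 : nd 69618 = n133682 := ndS (p := 38302) (l := 0) rfl N38302 D133682
theorem N69619 : nd 69619 = n133683 := ndS (p := 38302) (l := 5) rfl N38302 D133683
theorem N69620 : nd 69620 = n133684 := ndS (p := 38303) (l := 4) rfl N38303 D133684
theorem N69621 : nd 69621 = n133686 := ndS (p := 38303) (l := 6) rfl N38303 D133686
theorem N69622 : nd 69622 = n133693 := ndS (p := 38308) (l := 4) rfl N38308 D133693
theorem N69623 : nd 69623 = n133694 := ndS (p := 38308) (l := 6) rfl N38308 D133694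
theorem N69624 : nd 69624 = n133698 := ndS (p := 38309) (l := 0) rfl N38309 D133698
theorem N69625 : nd 69625 = n133702 := ndS (p := 38311) (l := 4) rfl N38311 D133702
theorem N69626 : nd 69626 = n133703 := ndS (p := 38311) (l := 6) rfl N38311 D133703
theorem N69627 : nd 69627 = n133707 := ndS (p := 38312) (l := 4) rfl N38312 D133707
theorem N69628 : nd 69628 = n133709 := ndS (p := 38313) (l := 6) rfl N38313 D133709
theorem N69629 : nd 69629 = n133710 := ndS (p := 38314) (l := 0) rfl N38314 D133710
theorem N69630 : nd 69630 = n133712 := ndS (p := 38314) (l := 7) rfl N38314 D133712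
theorem N69631 : nd 69631 = n133715 := ndS (p := 38316) (l := 0) rfl N38316 D133715
theorem N69632 : nd 69632 = n133716 := ndS (p := 38316) (l := 1) rfl N38316 D133716
theorem N69633 : nd 69633 = n133718 := ndS (p := 38316) (l := 5) rfl N38316 D133718
theorem N69634 : nd 69634 = n133719 := ndS (p := 38316) (l := 6) rfl N38316 D133719
theorem N69635 : nd 69635 = n133726 := ndS (p := 38318) (l := 6) rfl N38318 D133726
theorem N69636 : nd 69636 = n133728 := ndS (p := 38319) (l := 5) rfl N38319 D133728
theorem N69637 : nd 69637 = n133731 := ndS (p := 38320) (l := 5) rfl N38320 D133731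
theorem N69638 : nd 69638 = n133733 := ndS (p := 38321) (l := 3) rfl N38321 D133733
theorem N69639 : nd 69639 = n133735 := ndS (p := 38322) (l := 4) rfl N38322 D133735
theorem N69640 : nd 69640 = n133738 := ndS (p := 38323) (l := 1) rfl N38323 D133738
theorem N69641 : nd 69641 = n133747 := ndS (p := 38325) (l := 3) rfl N38325 D133747
theorem N69642 : nd 69642 = n133751 := ndS (p := 38328) (l := 4) rfl N38328 D133751
theorem N69643 : nd 69643 = n133757 := ndS (p := 38331) (l := 7) rfl N38331 D133757
theorem N69644 : nd 69644 = n133758 := ndS (p := 38332) (l := 6) rfl N38332 D133758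
theorem N69645 : nd 69645 = n133762 := ndS (p := 38333) (l := 7) rfl N38333 D133762
theorem N69646 : nd 69646 = n133769 := ndS (p := 38338) (l := 4) rfl N38338 D133769
theorem N69647 : nd 69647 = n133772 := ndS (p := 38340) (l := 4) rfl N38340 D133772
theorem N69648 : nd 69648 = n133774 := ndS (p := 38341) (l := 5) rfl N38341 D133774
theorem N69649 : nd 69649 = n133775 := ndS (p := 38341) (l := 6) rfl N38341 D133775
theorem N69650 : nd 69650 = n133776 := ndS (p := 38342) (l := 0) rfl N38342 D133776
theorem N69651 : nd 69651 = n133777 := ndS (p := 38342) (l := 1) rfl N38342 D133777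
theorem N69652 : nd 69652 = n133778 := ndS (p := 38342) (l := 7) rfl N38342 D133778
theorem N69653 : nd 69653 = n133782 := ndS (p := 38345) (l := 4) rfl N38345 D133782
theorem N69654 : nd 69654 = n133783 := ndS (p := 38345) (l := 6) rfl N38345 D133783
theorem N69655 : nd 69655 = n133784 := ndS (p := 38346) (l := 3) rfl N38346 D133784
theorem N69656 : nd 69656 = n133817 := ndS (p := 38350) (l := 6) rfl N38350 D133817
theorem N69657 : nd 69657 = n133818 := ndS (p := 38351) (l := 0) rfl N38351 D133818
theorem N69658 : nd 69658 = n133819 := ndS (p := 38351) (l := 1) rfl N38351 D133819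
theorem N69659 : nd 69659 = n133820 := ndS (p := 38351) (l := 7) rfl N38351 D133820
theorem N69660 : nd 69660 = n133821 := ndS (p := 38352) (l := 4) rfl N38352 D133821
theorem N69661 : nd 69661 = n133822 := ndS (p := 38352) (l := 6) rfl N38352 D133822
theorem N69662 : nd 69662 = n133824 := ndS (p := 38353) (l := 1) rfl N38353 D133824
theorem N69663 : nd 69663 = n133833 := ndS (p := 38355) (l := 3) rfl N38355 D133833
theorem N69664 : nd 69664 = n133834 := ndS (p := 38355) (l := 4) rfl N38355 D133834
theorem N69665 : nd 69665 = n133836 := ndS (p := 38355) (l := 6) rfl N38355 D133836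
theorem N69666 : nd 69666 = n133840 := ndS (p := 38357) (l := 4) rfl N38357 D133840
theorem N69667 : nd 69667 = n133841 := ndS (p := 38357) (l := 5) rfl N38357 D133841
theorem N69668 : nd 69668 = n133842 := ndS (p := 38357) (l := 6) rfl N38357 D133842
theorem N69669 : nd 69669 = n133852 := ndS (p := 38364) (l := 7) rfl N38364 D133852
theorem N69670 : nd 69670 = n133857 := ndS (p := 38370) (l := 1) rfl N38370 D133857
theorem N69671 : nd 69671 = n133858 := ndS (p := 38370) (l := 2) rfl N38370 D133858
theorem N69672 : nd 69672 = n133860 := ndS (p := 38371) (l := 0) rfl N38371 D133860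
theorem N69673 : nd 69673 = n133862 := ndS (p := 38371) (l := 3) rfl N38371 D133862
theorem N69674 : nd 69674 = n133863 := ndS (p := 38371) (l := 6) rfl N38371 D133863
theorem N69675 : nd 69675 = n133864 := ndS (p := 38372) (l := 0) rfl N38372 D133864
theorem N69676 : nd 69676 = n133867 := ndS (p := 38372) (l := 7) rfl N38372 D133867
theorem N69677 : nd 69677 = n133871 := ndS (p := 38373) (l := 6) rfl N38373 D133871
theorem N69678 : nd 69678 = n133875 := ndS (p := 38375) (l := 5) rfl N38375 D133875
theorem N69679 : nd 69679 = n133945 := ndS (p := 38378) (l := 4) rfl N38378 D133945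
theorem N69680 : nd 69680 = n133946 := ndS (p := 38381) (l := 6) rfl N38381 D133946
theorem N69681 : nd 69681 = n133949 := ndS (p := 38382) (l := 0) rfl N38382 D133949
theorem N69682 : nd 69682 = n133950 := ndS (p := 38382) (l := 1) rfl N38382 D133950
theorem N69683 : nd 69683 = n133965 := ndS (p := 38384) (l := 6) rfl N38384 D133965
theorem N69684 : nd 69684 = n133969 := ndS (p := 38388) (l := 0) rfl N38388 D133969
theorem N69685 : nd 69685 = n133970 := ndS (p := 38388) (l := 1) rfl N38388 D133970
theorem N69686 : nd 69686 = n133971 := ndS (p := 38388) (l := 2) rfl N38388 D133971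
theorem N69687 : nd 69687 = n133972 := ndS (p := 38388) (l := 5) rfl N38388 D133972
theorem N69688 : nd 69688 = n133973 := ndS (p := 38389) (l := 6) rfl N38389 D133973
theorem N69689 : nd 69689 = n133974 := ndS (p := 38390) (l := 4) rfl N38390 D133974
theorem N69690 : nd 69690 = n133975 := ndS (p := 38390) (l := 5) rfl N38390 D133975
theorem N69691 : nd 69691 = n133976 := ndS (p := 38390) (l := 6) rfl N38390 D133976
theorem N69692 : nd 69692 = n133977 := ndS (p := 38391) (l := 3) rfl N38391 D133977
theorem N69693 : nd 69693 = n133978 := ndS (p := 38391) (l := 4) rfl N38391 D133978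
theorem N69694 : nd 69694 = n133979 := ndS (p := 38391) (l := 5) rfl N38391 D133979
theorem N69695 : nd 69695 = n133980 := ndS (p := 38391) (l := 6) rfl N38391 D133980
theorem N69696 : nd 69696 = n133981 := ndS (p := 38392) (l := 5) rfl N38392 D133981
theorem N69697 : nd 69697 = n133982 := ndS (p := 38393) (l := 0) rfl N38393 D133982
theorem N69698 : nd 69698 = n133983 := ndS (p := 38393) (l := 1) rfl N38393 D133983
theorem N69699 : nd 69699 = n133984 := ndS (p := 38393) (l := 4) rfl N38393 D133984
theorem N69700 : nd 69700 = n133986 := ndS (p := 38394) (l := 3) rfl N38394 D133986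
theorem N69701 : nd 69701 = n133991 := ndS (p := 38395) (l := 0) rfl N38395 D133991
theorem N69702 : nd 69702 = n133992 := ndS (p := 38395) (l := 1) rfl N38395 D133992
theorem N69703 : nd 69703 = n133993 := ndS (p := 38395) (l := 2) rfl N38395 D133993
theorem N69704 : nd 69704 = n133994 := ndS (p := 38395) (l := 5) rfl N38395 D133994
theorem N69705 : nd 69705 = n133995 := ndS (p := 38396) (l := 6) rfl N38396 D133995
theorem N69706 : nd 69706 = n133996 := ndS (p := 38397) (l := 7) rfl N38397 D133996
theorem N69707 : nd 69707 = n133997 := ndS (p := 38398) (l := 6) rfl N38398 D133997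
theorem N69708 : nd 69708 = n134000 := ndS (p := 38400) (l := 3) rfl N38400 D134000
theorem N69709 : nd 69709 = n134001 := ndS (p := 38400) (l := 4) rfl N38400 D134001
theorem N69710 : nd 69710 = n134002 := ndS (p := 38400) (l := 5) rfl N38400 D134002
theorem N69711 : nd 69711 = n134003 := ndS (p := 38400) (l := 6) rfl N38400 D134003
theorem N69712 : nd 69712 = n134004 := ndS (p := 38401) (l := 4) rfl N38401 D134004
theorem N69713 : nd 69713 = n134005 := ndS (p := 38401) (l := 5) rfl N38401 D134005
theorem N69714 : nd 69714 = n134006 := ndS (p := 38401) (l := 6) rfl N38401 D134006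
theorem N69715 : nd 69715 = n134007 := ndS (p := 38402) (l := 5) rfl N38402 D134007
theorem N69716 : nd 69716 = n134009 := ndS (p := 38403) (l := 1) rfl N38403 D134009
theorem N69717 : nd 69717 = n134010 := ndS (p := 38403) (l := 4) rfl N38403 D134010
theorem N69718 : nd 69718 = n134011 := ndS (p := 38403) (l := 6) rfl N38403 D134011
theorem N69719 : nd 69719 = n134012 := ndS (p := 38404) (l := 3) rfl N38404 D134012
theorem N69720 : nd 69720 = n134013 := ndS (p := 38404) (l := 6) rfl N38404 D134013
theorem N69721 : nd 69721 = n134014 := ndS (p := 38405) (l := 0) rfl N38405 D134014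
theorem N69722 : nd 69722 = n134015 := ndS (p := 38405) (l := 1) rfl N38405 D134015
theorem N69723 : nd 69723 = n134017 := ndS (p := 38406) (l := 3) rfl N38406 D134017
theorem N69724 : nd 69724 = n134018 := ndS (p := 38406) (l := 6) rfl N38406 D134018
theorem N69725 : nd 69725 = n134019 := ndS (p := 38407) (l := 1) rfl N38407 D134019
theorem N69726 : nd 69726 = n134020 := ndS (p := 38407) (l := 7) rfl N38407 D134020
theorem N69727 : nd 69727 = n134022 := ndS (p := 38408) (l := 0) rfl N38408 D134022
theorem N69728 : nd 69728 = n134023 := ndS (p := 38408) (l := 1) rfl N38408 D134023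
theorem N69729 : nd 69729 = n134024 := ndS (p := 38408) (l := 2) rfl N38408 D134024
theorem N69730 : nd 69730 = n134025 := ndS (p := 38408) (l := 5) rfl N38408 D134025
theorem N69731 : nd 69731 = n134027 := ndS (p := 38410) (l := 0) rfl N38410 D134027
theorem N69732 : nd 69732 = n134029 := ndS (p := 38410) (l := 2) rfl N38410 D134029
theorem N69733 : nd 69733 = n134030 := ndS (p := 38410) (l := 5) rfl N38410 D134030
theorem N69734 : nd 69734 = n134031 := ndS (p := 38410) (l := 6) rfl N38410 D134031
theorem N69735 : nd 69735 = n134033 := ndS (p := 38412) (l := 0) rfl N38412 D134033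
theorem N69736 : nd 69736 = n134035 := ndS (p := 38413) (l := 0) rfl N38413 D134035
theorem N69737 : nd 69737 = n134036 := ndS (p := 38413) (l := 1) rfl N38413 D134036
theorem N69738 : nd 69738 = n134037 := ndS (p := 38413) (l := 2) rfl N38413 D134037
theorem N69739 : nd 69739 = n134038 := ndS (p := 38413) (l := 5) rfl N38413 D134038
theorem N69740 : nd 69740 = n134039 := ndS (p := 38413) (l := 6) rfl N38413 D134039
theorem N69741 : nd 69741 = n134040 := ndS (p := 38414) (l := 6) rfl N38414 D134040
theorem N69742 : nd 69742 = n134041 := ndS (p := 38415) (l := 0) rfl N38415 D134041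
theorem N69743 : nd 69743 = n134042 := ndS (p := 38415) (l := 5) rfl N38415 D134042
theorem N69744 : nd 69744 = n134043 := ndS (p := 38415) (l := 7) rfl N38415 D134043
theorem N69745 : nd 69745 = n134044 := ndS (p := 38416) (l := 6) rfl N38416 D134044
theorem N69746 : nd 69746 = n134045 := ndS (p := 38418) (l := 0) rfl N38418 D134045
theorem N69747 : nd 69747 = n134046 := ndS (p := 38418) (l := 1) rfl N38418 D134046
theorem N69748 : nd 69748 = n134047 := ndS (p := 38418) (l := 2) rfl N38418 D134047
theorem N69749 : nd 69749 = n134048 := ndS (p := 38418) (l := 5) rfl N38418 D134048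
theorem N69750 : nd 69750 = n134049 := ndS (p := 38418) (l := 6) rfl N38418 D134049
theorem N69751 : nd 69751 = n134050 := ndS (p := 38419) (l := 6) rfl N38419 D134050
theorem N69752 : nd 69752 = n134051 := ndS (p := 38420) (l := 5) rfl N38420 D134051
theorem N69753 : nd 69753 = n134052 := ndS (p := 38420) (l := 7) rfl N38420 D134052
theorem N69754 : nd 69754 = n134053 := ndS (p := 38421) (l := 0) rfl N38421 D134053
theorem N69755 : nd 69755 = n134054 := ndS (p := 38421) (l := 2) rfl N38421 D134054
theorem N69756 : nd 69756 = n134055 := ndS (p := 38421) (l := 3) rfl N38421 D134055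
theorem N69757 : nd 69757 = n134056 := ndS (p := 38421) (l := 4) rfl N38421 D134056
theorem N69758 : nd 69758 = n134058 := ndS (p := 38421) (l := 6) rfl N38421 D134058
theorem N69759 : nd 69759 = n134059 := ndS (p := 38421) (l := 7) rfl N38421 D134059
theorem N69760 : nd 69760 = n134060 := ndS (p := 38422) (l := 3) rfl N38422 D134060
theorem N69761 : nd 69761 = n134061 := ndS (p := 38422) (l := 4) rfl N38422 D134061
theorem N69762 : nd 69762 = n134062 := ndS (p := 38422) (l := 5) rfl N38422 D134062
theorem N69763 : nd 69763 = n134063 := ndS (p := 38422) (l := 6) rfl N38422 D134063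
theorem N69764 : nd 69764 = n134066 := ndS (p := 38423) (l := 5) rfl N38423 D134066
theorem N69765 : nd 69765 = n134068 := ndS (p := 38424) (l := 1) rfl N38424 D134068
theorem N69766 : nd 69766 = n134069 := ndS (p := 38424) (l := 4) rfl N38424 D134069
theorem N69767 : nd 69767 = n134070 := ndS (p := 38424) (l := 6) rfl N38424 D134070
theorem N69768 : nd 69768 = n134071 := ndS (p := 38425) (l := 6) rfl N38425 D134071
theorem N69769 : nd 69769 = n134072 := ndS (p := 38426) (l := 3) rfl N38426 D134072
theorem N69770 : nd 69770 = n134073 := ndS (p := 38426) (l := 6) rfl N38426 D134073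
theorem N69771 : nd 69771 = n134076 := ndS (p := 38427) (l := 7) rfl N38427 D134076
theorem N69772 : nd 69772 = n134077 := ndS (p := 38428) (l := 5) rfl N38428 D134077
theorem N69773 : nd 69773 = n134078 := ndS (p := 38429) (l := 0) rfl N38429 D134078
theorem N69774 : nd 69774 = n134079 := ndS (p := 38429) (l := 1) rfl N38429 D134079
theorem N69775 : nd 69775 = n134080 := ndS (p := 38429) (l := 2) rfl N38429 D134080
theorem N69776 : nd 69776 = n134083 := ndS (p := 38432) (l := 6) rfl N38432 D134083
theorem N69777 : nd 69777 = n134084 := ndS (p := 38435) (l := 0) rfl N38435 D134084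
theorem N69778 : nd 69778 = n134085 := ndS (p := 38436) (l := 0) rfl N38436 D134085
theorem N69779 : nd 69779 = n134087 := ndS (p := 38436) (l := 2) rfl N38436 D134087
theorem N69780 : nd 69780 = n134089 := ndS (p := 38437) (l := 5) rfl N38437 D134089
theorem N69781 : nd 69781 = n134090 := ndS (p := 38437) (l := 7) rfl N38437 D134090
theorem N69782 : nd 69782 = n134091 := ndS (p := 38439) (l := 6) rfl N38439 D134091
theorem N69783 : nd 69783 = n134092 := ndS (p := 38441) (l := 0) rfl N38441 D134092
theorem N69784 : nd 69784 = n134093 := ndS (p := 38441) (l := 1) rfl N38441 D134093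
theorem N69785 : nd 69785 = n134094 := ndS (p := 38441) (l := 2) rfl N38441 D134094
theorem N69786 : nd 69786 = n134104 := ndS (p := 38445) (l := 0) rfl N38445 D134104
theorem N69787 : nd 69787 = n134105 := ndS (p := 38445) (l := 2) rfl N38445 D134105
theorem N69788 : nd 69788 = n134111 := ndS (p := 38446) (l := 0) rfl N38446 D134111
theorem N69789 : nd 69789 = n134112 := ndS (p := 38446) (l := 1) rfl N38446 D134112
theorem N69790 : nd 69790 = n134113 := ndS (p := 38446) (l := 2) rfl N38446 D134113
theorem N69791 : nd 69791 = n134115 := ndS (p := 38446) (l := 6) rfl N38446 D134115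
theorem N69792 : nd 69792 = n134120 := ndS (p := 38448) (l := 4) rfl N38448 D134120
theorem N69793 : nd 69793 = n134124 := ndS (p := 38449) (l := 3) rfl N38449 D134124
theorem N69794 : nd 69794 = n134125 := ndS (p := 38449) (l := 4) rfl N38449 D134125
theorem N69795 : nd 69795 = n134127 := ndS (p := 38449) (l := 6) rfl N38449 D134127
theorem N69796 : nd 69796 = n134130 := ndS (p := 38451) (l := 0) rfl N38451 D134130
theorem N69797 : nd 69797 = n134131 := ndS (p := 38451) (l := 1) rfl N38451 D134131
theorem N69798 : nd 69798 = n134132 := ndS (p := 38451) (l := 4) rfl N38451 D134132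
theorem N69799 : nd 69799 = n134138 := ndS (p := 38452) (l := 3) rfl N38452 D134138
theorem N69800 : nd 69800 = n134144 := ndS (p := 38453) (l := 3) rfl N38453 D134144
theorem N69801 : nd 69801 = n134146 := ndS (p := 38454) (l := 3) rfl N38454 D134146
theorem N69802 : nd 69802 = n134148 := ndS (p := 38454) (l := 6) rfl N38454 D134148
theorem N69803 : nd 69803 = n134153 := ndS (p := 38456) (l := 3) rfl N38456 D134153
theorem N69804 : nd 69804 = n134155 := ndS (p := 38458) (l := 0) rfl N38458 D134155
theorem N69805 : nd 69805 = n134156 := ndS (p := 38458) (l := 1) rfl N38458 D134156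
theorem N69806 : nd 69806 = n134157 := ndS (p := 38458) (l := 2) rfl N38458 D134157
theorem N69807 : nd 69807 = n134158 := ndS (p := 38458) (l := 5) rfl N38458 D134158
theorem N69808 : nd 69808 = n134159 := ndS (p := 38458) (l := 6) rfl N38458 D134159
theorem N69809 : nd 69809 = n134160 := ndS (p := 38459) (l := 6) rfl N38459 D134160
theorem N69810 : nd 69810 = n134161 := ndS (p := 38460) (l := 5) rfl N38460 D134161
theorem N69811 : nd 69811 = n134162 := ndS (p := 38461) (l := 6) rfl N38461 D134162
theorem N69812 : nd 69812 = n134163 := ndS (p := 38464) (l := 0) rfl N38464 D134163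
theorem N69813 : nd 69813 = n134164 := ndS (p := 38464) (l := 1) rfl N38464 D134164
theorem N69814 : nd 69814 = n134165 := ndS (p := 38464) (l := 2) rfl N38464 D134165
theorem N69815 : nd 69815 = n134166 := ndS (p := 38464) (l := 6) rfl N38464 D134166
theorem N69816 : nd 69816 = n134167 := ndS (p := 38465) (l := 5) rfl N38465 D134167
theorem N69817 : nd 69817 = n134168 := ndS (p := 38467) (l := 1) rfl N38467 D134168
theorem N69818 : nd 69818 = n134169 := ndS (p := 38467) (l := 4) rfl N38467 D134169
theorem N69819 : nd 69819 = n134170 := ndS (p := 38467) (l := 7) rfl N38467 D134170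
theorem N69820 : nd 69820 = n134171 := ndS (p := 38470) (l := 3) rfl N38470 D134171
theorem N69821 : nd 69821 = n134172 := ndS (p := 38470) (l := 4) rfl N38470 D134172
theorem N69822 : nd 69822 = n134173 := ndS (p := 38470) (l := 5) rfl N38470 D134173
theorem N69823 : nd 69823 = n134174 := ndS (p := 38470) (l := 6) rfl N38470 D134174
theorem N69824 : nd 69824 = n134175 := ndS (p := 38471) (l := 3) rfl N38471 D134175
theorem N69825 : nd 69825 = n134178 := ndS (p := 38472) (l := 5) rfl N38472 D134178
theorem N69826 : nd 69826 = n134179 := ndS (p := 38472) (l := 6) rfl N38472 D134179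
theorem N69827 : nd 69827 = n134180 := ndS (p := 38473) (l := 0) rfl N38473 D134180
theorem N69828 : nd 69828 = n134181 := ndS (p := 38473) (l := 1) rfl N38473 D134181
theorem N69829 : nd 69829 = n134183 := ndS (p := 38473) (l := 6) rfl N38473 D134183
theorem N69830 : nd 69830 = n134184 := ndS (p := 38474) (l := 0) rfl N38474 D134184
theorem N69831 : nd 69831 = n134187 := ndS (p := 38474) (l := 7) rfl N38474 D134187
theorem N69832 : nd 69832 = n134190 := ndS (p := 38475) (l := 5) rfl N38475 D134190
theorem N69833 : nd 69833 = n134195 := ndS (p := 38477) (l := 3) rfl N38477 D134195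
theorem N69834 : nd 69834 = n134196 := ndS (p := 38477) (l := 5) rfl N38477 D134196
theorem N69835 : nd 69835 = n134197 := ndS (p := 38478) (l := 0) rfl N38478 D134197
theorem N69836 : nd 69836 = n134198 := ndS (p := 38478) (l := 1) rfl N38478 D134198
theorem N69837 : nd 69837 = n134201 := ndS (p := 38480) (l := 3) rfl N38480 D134201
theorem N69838 : nd 69838 = n134203 := ndS (p := 38481) (l := 4) rfl N38481 D134203
theorem N69839 : nd 69839 = n134204 := ndS (p := 38482) (l := 0) rfl N38482 D134204
theorem N69840 : nd 69840 = n134205 := ndS (p := 38482) (l := 1) rfl N38482 D134205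
theorem N69841 : nd 69841 = n134206 := ndS (p := 38482) (l := 3) rfl N38482 D134206
theorem N69842 : nd 69842 = n134207 := ndS (p := 38482) (l := 5) rfl N38482 D134207
theorem N69843 : nd 69843 = n134208 := ndS (p := 38482) (l := 7) rfl N38482 D134208
theorem N69844 : nd 69844 = n134209 := ndS (p := 38484) (l := 0) rfl N38484 D134209
theorem N69845 : nd 69845 = n134210 := ndS (p := 38484) (l := 1) rfl N38484 D134210
theorem N69846 : nd 69846 = n134211 := ndS (p := 38484) (l := 2) rfl N38484 D134211
theorem N69847 : nd 69847 = n134212 := ndS (p := 38484) (l := 5) rfl N38484 D134212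
theorem N69848 : nd 69848 = n134213 := ndS (p := 38485) (l := 6) rfl N38485 D134213
theorem N69849 : nd 69849 = n134214 := ndS (p := 38488) (l := 0) rfl N38488 D134214
theorem N69850 : nd 69850 = n134215 := ndS (p := 38488) (l := 2) rfl N38488 D134215
theorem N69851 : nd 69851 = n134216 := ndS (p := 38488) (l := 6) rfl N38488 D134216
theorem N69852 : nd 69852 = n134217 := ndS (p := 38489) (l := 5) rfl N38489 D134217
theorem N69853 : nd 69853 = n134219 := ndS (p := 38490) (l := 3) rfl N38490 D134219
theorem N69854 : nd 69854 = n134220 := ndS (p := 38490) (l := 4) rfl N38490 D134220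
theorem N69855 : nd 69855 = n134222 := ndS (p := 38490) (l := 6) rfl N38490 D134222
theorem N69856 : nd 69856 = n134224 := ndS (p := 38491) (l := 3) rfl N38491 D134224
theorem N69857 : nd 69857 = n134225 := ndS (p := 38491) (l := 4) rfl N38491 D134225
theorem N69858 : nd 69858 = n134229 := ndS (p := 38492) (l := 6) rfl N38492 D134229
theorem N69859 : nd 69859 = n134232 := ndS (p := 38493) (l := 4) rfl N38493 D134232
theorem N69860 : nd 69860 = n134233 := ndS (p := 38493) (l := 6) rfl N38493 D134233
theorem N69861 : nd 69861 = n134235 := ndS (p := 38494) (l := 1) rfl N38494 D134235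
theorem N69862 : nd 69862 = n134236 := ndS (p := 38494) (l := 5) rfl N38494 D134236
theorem N69863 : nd 69863 = n134237 := ndS (p := 38494) (l := 7) rfl N38494 D134237
theorem N69864 : nd 69864 = n134238 := ndS (p := 38495) (l := 3) rfl N38495 D134238
theorem N69865 : nd 69865 = n134242 := ndS (p := 38496) (l := 0) rfl N38496 D134242
theorem N69866 : nd 69866 = n134243 := ndS (p := 38496) (l := 1) rfl N38496 D134243
theorem N69867 : nd 69867 = n134245 := ndS (p := 38496) (l := 7) rfl N38496 D134245
theorem N69868 : nd 69868 = n134246 := ndS (p := 38497) (l := 3) rfl N38497 D134246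
theorem N69869 : nd 69869 = n134247 := ndS (p := 38497) (l := 5) rfl N38497 D134247
theorem N69870 : nd 69870 = n134249 := ndS (p := 38498) (l := 5) rfl N38498 D134249
theorem N69871 : nd 69871 = n134250 := ndS (p := 38498) (l := 6) rfl N38498 D134250
theorem N69872 : nd 69872 = n134251 := ndS (p := 38499) (l := 0) rfl N38499 D134251
theorem N69873 : nd 69873 = n134252 := ndS (p := 38499) (l := 1) rfl N38499 D134252
theorem N69874 : nd 69874 = n134253 := ndS (p := 38499) (l := 4) rfl N38499 D134253
theorem N69875 : nd 69875 = n134254 := ndS (p := 38499) (l := 7) rfl N38499 D134254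
theorem N69876 : nd 69876 = n134255 := ndS (p := 38501) (l := 3) rfl N38501 D134255
theorem N69877 : nd 69877 = n134256 := ndS (p := 38501) (l := 5) rfl N38501 D134256
theorem N69878 : nd 69878 = n134258 := ndS (p := 38503) (l := 5) rfl N38503 D134258
theorem N69879 : nd 69879 = n134260 := ndS (p := 38505) (l := 0) rfl N38505 D134260
theorem N69880 : nd 69880 = n134261 := ndS (p := 38505) (l := 1) rfl N38505 D134261
theorem N69881 : nd 69881 = n134262 := ndS (p := 38505) (l := 2) rfl N38505 D134262
theorem N69882 : nd 69882 = n134263 := ndS (p := 38505) (l := 5) rfl N38505 D134263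
theorem N69883 : nd 69883 = n134264 := ndS (p := 38505) (l := 6) rfl N38505 D134264
theorem N69884 : nd 69884 = n134265 := ndS (p := 38506) (l := 6) rfl N38506 D134265
theorem N69885 : nd 69885 = n134266 := ndS (p := 38507) (l := 5) rfl N38507 D134266
theorem N69886 : nd 69886 = n134267 := ndS (p := 38508) (l := 6) rfl N38508 D134267
theorem N69887 : nd 69887 = n134268 := ndS (p := 38511) (l := 3) rfl N38511 D134268
theorem N69888 : nd 69888 = n134269 := ndS (p := 38511) (l := 4) rfl N38511 D134269
theorem N69889 : nd 69889 = n134272 := ndS (p := 38512) (l := 3) rfl N38512 D134272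
theorem N69890 : nd 69890 = n134274 := ndS (p := 38512) (l := 6) rfl N38512 D134274
theorem N69891 : nd 69891 = n134275 := ndS (p := 38513) (l := 5) rfl N38513 D134275
theorem N69892 : nd 69892 = n134276 := ndS (p := 38513) (l := 6) rfl N38513 D134276
theorem N69893 : nd 69893 = n134277 := ndS (p := 38514) (l := 0) rfl N38514 D134277
theorem N69894 : nd 69894 = n134278 := ndS (p := 38514) (l := 1) rfl N38514 D134278
theorem N69895 : nd 69895 = n134279 := ndS (p := 38514) (l := 4) rfl N38514 D134279
theorem N69896 : nd 69896 = n134280 := ndS (p := 38514) (l := 6) rfl N38514 D134280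
theorem N69897 : nd 69897 = n134281 := ndS (p := 38515) (l := 0) rfl N38515 D134281
theorem N69898 : nd 69898 = n134282 := ndS (p := 38515) (l := 1) rfl N38515 D134282
theorem N69899 : nd 69899 = n134283 := ndS (p := 38515) (l := 5) rfl N38515 D134283
theorem N69900 : nd 69900 = n134284 := ndS (p := 38515) (l := 7) rfl N38515 D134284
theorem N69901 : nd 69901 = n134285 := ndS (p := 38516) (l := 0) rfl N38516 D134285
theorem N69902 : nd 69902 = n134288 := ndS (p := 38516) (l := 7) rfl N38516 D134288
theorem N69903 : nd 69903 = n134289 := ndS (p := 38517) (l := 3) rfl N38517 D134289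
theorem N69904 : nd 69904 = n134290 := ndS (p := 38517) (l := 5) rfl N38517 D134290
theorem N69905 : nd 69905 = n134291 := ndS (p := 38517) (l := 6) rfl N38517 D134291
theorem N69906 : nd 69906 = n134292 := ndS (p := 38518) (l := 3) rfl N38518 D134292
theorem N69907 : nd 69907 = n134294 := ndS (p := 38519) (l := 0) rfl N38519 D134294
theorem N69908 : nd 69908 = n134295 := ndS (p := 38519) (l := 1) rfl N38519 D134295
theorem N69909 : nd 69909 = n134296 := ndS (p := 38519) (l := 4) rfl N38519 D134296
theorem N69910 : nd 69910 = n134297 := ndS (p := 38519) (l := 7) rfl N38519 D134297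
theorem N69911 : nd 69911 = n134300 := ndS (p := 38523) (l := 3) rfl N38523 D134300
theorem N69912 : nd 69912 = n134303 := ndS (p := 38524) (l := 4) rfl N38524 D134303
theorem N69913 : nd 69913 = n134304 := ndS (p := 38524) (l := 5) rfl N38524 D134304
theorem N69914 : nd 69914 = n134305 := ndS (p := 38524) (l := 6) rfl N38524 D134305
theorem N69915 : nd 69915 = n134307 := ndS (p := 38525) (l := 3) rfl N38525 D134307
theorem N69916 : nd 69916 = n134308 := ndS (p := 38525) (l := 4) rfl N38525 D134308
theorem N69917 : nd 69917 = n134309 := ndS (p := 38525) (l := 5) rfl N38525 D134309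
theorem N69918 : nd 69918 = n134311 := ndS (p := 38526) (l := 5) rfl N38526 D134311
theorem N69919 : nd 69919 = n134312 := ndS (p := 38526) (l := 6) rfl N38526 D134312
theorem N69920 : nd 69920 = n134313 := ndS (p := 38527) (l := 0) rfl N38527 D134313
theorem N69921 : nd 69921 = n134314 := ndS (p := 38527) (l := 1) rfl N38527 D134314
theorem N69922 : nd 69922 = n134317 := ndS (p := 38528) (l := 0) rfl N38528 D134317
theorem N69923 : nd 69923 = n134318 := ndS (p := 38528) (l := 1) rfl N38528 D134318
theorem N69924 : nd 69924 = n134319 := ndS (p := 38528) (l := 5) rfl N38528 D134319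
theorem N69925 : nd 69925 = n134320 := ndS (p := 38528) (l := 7) rfl N38528 D134320
theorem N69926 : nd 69926 = n134321 := ndS (p := 38529) (l := 3) rfl N38529 D134321
theorem N69927 : nd 69927 = n134323 := ndS (p := 38530) (l := 0) rfl N38530 D134323
theorem N69928 : nd 69928 = n134324 := ndS (p := 38530) (l := 1) rfl N38530 D134324
theorem N69929 : nd 69929 = n134326 := ndS (p := 38530) (l := 7) rfl N38530 D134326
theorem N69930 : nd 69930 = n134327 := ndS (p := 38531) (l := 0) rfl N38531 D134327
theorem N69931 : nd 69931 = n134328 := ndS (p := 38531) (l := 1) rfl N38531 D134328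
theorem N69932 : nd 69932 = n134329 := ndS (p := 38531) (l := 4) rfl N38531 D134329
theorem N69933 : nd 69933 = n134330 := ndS (p := 38531) (l := 7) rfl N38531 D134330
theorem N69934 : nd 69934 = n134332 := ndS (p := 38533) (l := 3) rfl N38533 D134332
theorem N69935 : nd 69935 = n134333 := ndS (p := 38533) (l := 5) rfl N38533 D134333
theorem N69936 : nd 69936 = n134336 := ndS (p := 38534) (l := 3) rfl N38534 D134336
theorem N69937 : nd 69937 = n134337 := ndS (p := 38534) (l := 5) rfl N38534 D134337
theorem N69938 : nd 69938 = n134338 := ndS (p := 38534) (l := 6) rfl N38534 D134338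
theorem N69939 : nd 69939 = n134339 := ndS (p := 38535) (l := 5) rfl N38535 D134339
theorem N69940 : nd 69940 = n134340 := ndS (p := 38535) (l := 6) rfl N38535 D134340
theorem N69941 : nd 69941 = n134341 := ndS (p := 38536) (l := 0) rfl N38536 D134341
theorem N69942 : nd 69942 = n134342 := ndS (p := 38536) (l := 1) rfl N38536 D134342
theorem N69943 : nd 69943 = n134343 := ndS (p := 38536) (l := 4) rfl N38536 D134343
theorem N69944 : nd 69944 = n134344 := ndS (p := 38536) (l := 6) rfl N38536 D134344
theorem N69945 : nd 69945 = n134345 := ndS (p := 38537) (l := 0) rfl N38537 D134345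
theorem N69946 : nd 69946 = n134347 := ndS (p := 38537) (l := 5) rfl N38537 D134347
theorem N69947 : nd 69947 = n134348 := ndS (p := 38537) (l := 7) rfl N38537 D134348
theorem N69948 : nd 69948 = n134349 := ndS (p := 38538) (l := 0) rfl N38538 D134349
theorem N69949 : nd 69949 = n134350 := ndS (p := 38538) (l := 1) rfl N38538 D134350
theorem N69950 : nd 69950 = n134352 := ndS (p := 38538) (l := 7) rfl N38538 D134352
theorem N69951 : nd 69951 = n134353 := ndS (p := 38539) (l := 1) rfl N38539 D134353
theorem N69952 : nd 69952 = n134354 := ndS (p := 38539) (l := 4) rfl N38539 D134354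
theorem N69953 : nd 69953 = n134355 := ndS (p := 38539) (l := 7) rfl N38539 D134355
theorem N69954 : nd 69954 = n134357 := ndS (p := 38541) (l := 6) rfl N38541 D134357
theorem N69955 : nd 69955 = n134359 := ndS (p := 38542) (l := 5) rfl N38542 D134359
theorem N69956 : nd 69956 = n134360 := ndS (p := 38542) (l := 6) rfl N38542 D134360
theorem N69957 : nd 69957 = n134361 := ndS (p := 38543) (l := 0) rfl N38543 D134361
theorem N69958 : nd 69958 = n134363 := ndS (p := 38543) (l := 4) rfl N38543 D134363
theorem N69959 : nd 69959 = n134364 := ndS (p := 38543) (l := 6) rfl N38543 D134364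
theorem N69960 : nd 69960 = n134365 := ndS (p := 38543) (l := 7) rfl N38543 D134365
theorem N69961 : nd 69961 = n134366 := ndS (p := 38544) (l := 0) rfl N38544 D134366
theorem N69962 : nd 69962 = n134368 := ndS (p := 38544) (l := 5) rfl N38544 D134368
theorem N69963 : nd 69963 = n134369 := ndS (p := 38544) (l := 7) rfl N38544 D134369
theorem N69964 : nd 69964 = n134372 := ndS (p := 38546) (l := 2) rfl N38546 D134372
theorem N69965 : nd 69965 = n134374 := ndS (p := 38546) (l := 6) rfl N38546 D134374
theorem N69966 : nd 69966 = n134375 := ndS (p := 38547) (l := 4) rfl N38547 D134375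
theorem N69967 : nd 69967 = n134376 := ndS (p := 38547) (l := 6) rfl N38547 D134376
theorem N69968 : nd 69968 = n134379 := ndS (p := 38548) (l := 5) rfl N38548 D134379
theorem N69969 : nd 69969 = n134383 := ndS (p := 38549) (l := 4) rfl N38549 D134383
theorem N69970 : nd 69970 = n134384 := ndS (p := 38549) (l := 6) rfl N38549 D134384
theorem N69971 : nd 69971 = n134391 := ndS (p := 38551) (l := 0) rfl N38551 D134391
theorem N69972 : nd 69972 = n134392 := ndS (p := 38551) (l := 1) rfl N38551 D134392
theorem N69973 : nd 69973 = n134393 := ndS (p := 38551) (l := 3) rfl N38551 D134393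
theorem N69974 : nd 69974 = n134394 := ndS (p := 38551) (l := 5) rfl N38551 D134394
theorem N69975 : nd 69975 = n134395 := ndS (p := 38551) (l := 6) rfl N38551 D134395
theorem N69976 : nd 69976 = n134396 := ndS (p := 38551) (l := 7) rfl N38551 D134396
theorem N69977 : nd 69977 = n134397 := ndS (p := 38552) (l := 0) rfl N38552 D134397
theorem N69978 : nd 69978 = n134398 := ndS (p := 38552) (l := 1) rfl N38552 D134398
theorem N69979 : nd 69979 = n134399 := ndS (p := 38552) (l := 7) rfl N38552 D134399
theorem N69980 : nd 69980 = n134401 := ndS (p := 38554) (l := 0) rfl N38554 D134401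
theorem N69981 : nd 69981 = n134403 := ndS (p := 38554) (l := 5) rfl N38554 D134403
theorem N69982 : nd 69982 = n134406 := ndS (p := 38555) (l := 2) rfl N38555 D134406
theorem N69983 : nd 69983 = n134415 := ndS (p := 38556) (l := 2) rfl N38556 D134415
theorem N69984 : nd 69984 = n134416 := ndS (p := 38556) (l := 4) rfl N38556 D134416
theorem N69985 : nd 69985 = n134419 := ndS (p := 38557) (l := 1) rfl N38557 D134419
theorem N69986 : nd 69986 = n134422 := ndS (p := 38558) (l := 0) rfl N38558 D134422
theorem N69987 : nd 69987 = n134424 := ndS (p := 38558) (l := 2) rfl N38558 D134424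
theorem N69988 : nd 69988 = n134425 := ndS (p := 38558) (l := 6) rfl N38558 D134425
theorem N69989 : nd 69989 = n134427 := ndS (p := 38559) (l := 1) rfl N38559 D134427
theorem N69990 : nd 69990 = n134428 := ndS (p := 38559) (l := 5) rfl N38559 D134428
theorem N69991 : nd 69991 = n134431 := ndS (p := 38560) (l := 3) rfl N38560 D134431
theorem N69992 : nd 69992 = n134433 := ndS (p := 38560) (l := 5) rfl N38560 D134433
theorem N69993 : nd 69993 = n134436 := ndS (p := 38561) (l := 3) rfl N38561 D134436
theorem N69994 : nd 69994 = n134438 := ndS (p := 38561) (l := 5) rfl N38561 D134438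
theorem N69995 : nd 69995 = n134443 := ndS (p := 38563) (l := 5) rfl N38563 D134443
theorem N69996 : nd 69996 = n134444 := ndS (p := 38564) (l := 3) rfl N38564 D134444
theorem N69997 : nd 69997 = n134445 := ndS (p := 38564) (l := 5) rfl N38564 D134445
theorem N69998 : nd 69998 = n134446 := ndS (p := 38564) (l := 6) rfl N38564 D134446
theorem N69999 : nd 69999 = n134447 := ndS (p := 38565) (l := 3) rfl N38565 D134447
theorem N70000 : nd 70000 = n134448 := ndS (p := 38565) (l := 5) rfl N38565 D134448

end Cfsg.Agent.Helper17.ONTC
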