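import Cfsg.Agent.Helper17.ONTC.Fin7

set_option autoImplicit false
set_option linter.all false
set_option maxRecDepth 100000

noncomputable section

namespace Cfsg.Agent.Helper17.ONTC

theorem N70001 : nd 70001 = n134450 := ndS (p := 38566) (l := 0) rfl N38566 D134450
theorem N70002 : nd 70002 = n134451 := ndS (p := 38566) (l := 1) rfl N38566 D134451
theorem N70003 : nd 70003 = n134452 := ndS (p := 38566) (l := 4) rfl N38566 D134452
theorem N70004 : nd 70004 = n134453 := ndS (p := 38567) (l := 3) rfl N38567 D134453
theorem N70005 : nd 70005 = n134454 := ndS (p := 38567) (l := 5) rfl N38567 D134454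
theorem N70006 : nd 70006 = n134455 := ndS (p := 38567) (l := 6) rfl N38567 D134455
theorem N70007 : nd 70007 = n134456 := ndS (p := 38568) (l := 4) rfl N38568 D134456
theorem N70008 : nd 70008 = n134457 := ndS (p := 38570) (l := 5) rfl N38570 D134457
theorem N70009 : nd 70009 = n134458 := ndS (p := 38571) (l := 3) rfl N38571 D134458
theorem N70010 : nd 70010 = n134459 := ndS (p := 38571) (l := 5) rfl N38571 D134459
theorem N70011 : nd 70011 = n134460 := ndS (p := 38572) (l := 4) rfl N38572 D134460
theorem N70012 : nd 70012 = n134461 := ndS (p := 38573) (l := 0) rfl N38573 D134461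
theorem N70013 : nd 70013 = n134463 := ndS (p := 38573) (l := 2) rfl N38573 D134463
theorem N70014 : nd 70014 = n134464 := ndS (p := 38573) (l := 6) rfl N38573 D134464
theorem N70015 : nd 70015 = n134465 := ndS (p := 38574) (l := 5) rfl N38574 D134465
theorem N70016 : nd 70016 = n134472 := ndS (p := 38577) (l := 3) rfl N38577 D134472
theorem N70017 : nd 70017 = n134473 := ndS (p := 38577) (l := 5) rfl N38577 D134473
theorem N70018 : nd 70018 = n134474 := ndS (p := 38577) (l := 6) rfl N38577 D134474
theorem N70019 : nd 70019 = n134478 := ndS (p := 38579) (l := 5) rfl N38579 D134478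
theorem N70020 : nd 70020 = n134479 := ndS (p := 38580) (l := 3) rfl N38580 D134479
theorem N70021 : nd 70021 = n134480 := ndS (p := 38580) (l := 5) rfl N38580 D134480
theorem N70022 : nd 70022 = n134481 := ndS (p := 38581) (l := 4) rfl N38581 D134481
theorem N70023 : nd 70023 = n134482 := ndS (p := 38582) (l := 3) rfl N38582 D134482
theorem N70024 : nd 70024 = n134483 := ndS (p := 38582) (l := 5) rfl N38582 D134483
theorem N70025 : nd 70025 = n134484 := ndS (p := 38582) (l := 6) rfl N38582 D134484
theorem N70026 : nd 70026 = n134485 := ndS (p := 38583) (l := 4) rfl N38583 D134485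
theorem N70027 : nd 70027 = n134487 := ndS (p := 38586) (l := 4) rfl N38586 D134487
theorem N70028 : nd 70028 = n134491 := ndS (p := 38588) (l := 2) rfl N38588 D134491
theorem N70029 : nd 70029 = n134492 := ndS (p := 38588) (l := 6) rfl N38588 D134492
theorem N70030 : nd 70030 = n134493 := ndS (p := 38589) (l := 5) rfl N38589 D134493
theorem N70031 : nd 70031 = n134494 := ndS (p := 38590) (l := 0) rfl N38590 D134494
theorem N70032 : nd 70032 = n134495 := ndS (p := 38590) (l := 1) rfl N38590 D134495
theorem N70033 : nd 70033 = n134496 := ndS (p := 38590) (l := 5) rfl N38590 D134496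
theorem N70034 : nd 70034 = n134497 := ndS (p := 38590) (l := 7) rfl N38590 D134497
theorem N70035 : nd 70035 = n134498 := ndS (p := 38591) (l := 3) rfl N38591 D134498
theorem N70036 : nd 70036 = n134499 := ndS (p := 38591) (l := 6) rfl N38591 D134499
theorem N70037 : nd 70037 = n134500 := ndS (p := 38592) (l := 3) rfl N38592 D134500
theorem N70038 : nd 70038 = n134501 := ndS (p := 38593) (l := 0) rfl N38593 D134501
theorem N70039 : nd 70039 = n134502 := ndS (p := 38593) (l := 1) rfl N38593 D134502
theorem N70040 : nd 70040 = n134505 := ndS (p := 38595) (l := 6) rfl N38595 D134505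
theorem N70041 : nd 70041 = n134506 := ndS (p := 38596) (l := 3) rfl N38596 D134506
theorem N70042 : nd 70042 = n134508 := ndS (p := 38596) (l := 6) rfl N38596 D134508
theorem N70043 : nd 70043 = n134509 := ndS (p := 38598) (l := 3) rfl N38598 D134509
theorem N70044 : nd 70044 = n134515 := ndS (p := 38600) (l := 5) rfl N38600 D134515
theorem N70045 : nd 70045 = n134525 := ndS (p := 38602) (l := 5) rfl N38602 D134525
theorem N70046 : nd 70046 = n134527 := ndS (p := 38603) (l := 1) rfl N38603 D134527
theorem N70047 : nd 70047 = n134528 := ndS (p := 38603) (l := 4) rfl N38603 D134528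
theorem N70048 : nd 70048 = n134530 := ndS (p := 38604) (l := 0) rfl N38604 D134530
theorem N70049 : nd 70049 = n134531 := ndS (p := 38604) (l := 1) rfl N38604 D134531
theorem N70050 : nd 70050 = n134533 := ndS (p := 38604) (l := 7) rfl N38604 D134533
theorem N70051 : nd 70051 = n134534 := ndS (p := 38605) (l := 3) rfl N38605 D134534
theorem N70052 : nd 70052 = n134536 := ndS (p := 38605) (l := 6) rfl N38605 D134536
theorem N70053 : nd 70053 = n134537 := ndS (p := 38606) (l := 5) rfl N38606 D134537
theorem N70054 : nd 70054 = n134539 := ndS (p := 38607) (l := 1) rfl N38607 D134539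
theorem N70055 : nd 70055 = n134540 := ndS (p := 38607) (l := 2) rfl N38607 D134540
theorem N70056 : nd 70056 = n134541 := ndS (p := 38607) (l := 5) rfl N38607 D134541
theorem N70057 : nd 70057 = n134542 := ndS (p := 38607) (l := 6) rfl N38607 D134542
theorem N70058 : nd 70058 = n134543 := ndS (p := 38608) (l := 0) rfl N38608 D134543
theorem N70059 : nd 70059 = n134544 := ndS (p := 38608) (l := 1) rfl N38608 D134544
theorem N70060 : nd 70060 = n134547 := ndS (p := 38608) (l := 7) rfl N38608 D134547
theorem N70061 : nd 70061 = n134548 := ndS (p := 38609) (l := 0) rfl N38609 D134548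
theorem N70062 : nd 70062 = n134549 := ndS (p := 38609) (l := 1) rfl N38609 D134549
theorem N70063 : nd 70063 = n134550 := ndS (p := 38609) (l := 5) rfl N38609 D134550
theorem N70064 : nd 70064 = n134551 := ndS (p := 38609) (l := 7) rfl N38609 D134551
theorem N70065 : nd 70065 = n134552 := ndS (p := 38610) (l := 6) rfl N38610 D134552
theorem N70066 : nd 70066 = n134564 := ndS (p := 38612) (l := 6) rfl N38612 D134564
theorem N70067 : nd 70067 = n134568 := ndS (p := 38613) (l := 5) rfl N38613 D134568
theorem N70068 : nd 70068 = n134575 := ndS (p := 38614) (l := 0) rfl N38614 D134575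
theorem N70069 : nd 70069 = n134576 := ndS (p := 38614) (l := 4) rfl N38614 D134576
theorem N70070 : nd 70070 = n134577 := ndS (p := 38614) (l := 7) rfl N38614 D134577
theorem N70071 : nd 70071 = n134585 := ndS (p := 38618) (l := 6) rfl N38618 D134585
theorem N70072 : nd 70072 = n134593 := ndS (p := 38620) (l := 1) rfl N38620 D134593
theorem N70073 : nd 70073 = n134594 := ndS (p := 38620) (l := 5) rfl N38620 D134594
theorem N70074 : nd 70074 = n134597 := ndS (p := 38621) (l := 5) rfl N38621 D134597
theorem N70075 : nd 70075 = n134598 := ndS (p := 38621) (l := 6) rfl N38621 D134598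
theorem N70076 : nd 70076 = n134599 := ndS (p := 38622) (l := 4) rfl N38622 D134599
theorem N70077 : nd 70077 = n134600 := ndS (p := 38622) (l := 6) rfl N38622 D134600
theorem N70078 : nd 70078 = n134602 := ndS (p := 38623) (l := 1) rfl N38623 D134602
theorem N70079 : nd 70079 = n134603 := ndS (p := 38623) (l := 5) rfl N38623 D134603
theorem N70080 : nd 70080 = n134604 := ndS (p := 38623) (l := 7) rfl N38623 D134604
theorem N70081 : nd 70081 = n134609 := ndS (p := 38624) (l := 1) rfl N38624 D134609
theorem N70082 : nd 70082 = n134610 := ndS (p := 38624) (l := 5) rfl N38624 D134610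
theorem N70083 : nd 70083 = n134620 := ndS (p := 38625) (l := 5) rfl N38625 D134620
theorem N70084 : nd 70084 = n134624 := ndS (p := 38626) (l := 4) rfl N38626 D134624
theorem N70085 : nd 70085 = n134626 := ndS (p := 38628) (l := 3) rfl N38628 D134626
theorem N70086 : nd 70086 = n134627 := ndS (p := 38628) (l := 5) rfl N38628 D134627
theorem N70087 : nd 70087 = n134628 := ndS (p := 38628) (l := 6) rfl N38628 D134628
theorem N70088 : nd 70088 = n134638 := ndS (p := 38630) (l := 6) rfl N38630 D134638
theorem N70089 : nd 70089 = n134640 := ndS (p := 38631) (l := 0) rfl N38631 D134640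
theorem N70090 : nd 70090 = n134641 := ndS (p := 38631) (l := 1) rfl N38631 D134641
theorem N70091 : nd 70091 = n134642 := ndS (p := 38631) (l := 3) rfl N38631 D134642
theorem N70092 : nd 70092 = n134643 := ndS (p := 38631) (l := 5) rfl N38631 D134643
theorem N70093 : nd 70093 = n134646 := ndS (p := 38632) (l := 0) rfl N38632 D134646
theorem N70094 : nd 70094 = n134649 := ndS (p := 38632) (l := 7) rfl N38632 D134649
theorem N70095 : nd 70095 = n134655 := ndS (p := 38633) (l := 5) rfl N38633 D134655
theorem N70096 : nd 70096 = n134661 := ndS (p := 38634) (l := 3) rfl N38634 D134661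
theorem N70097 : nd 70097 = n134663 := ndS (p := 38634) (l := 6) rfl N38634 D134663
theorem N70098 : nd 70098 = n134664 := ndS (p := 38635) (l := 3) rfl N38635 D134664
theorem N70099 : nd 70099 = n134665 := ndS (p := 38635) (l := 5) rfl N38635 D134665
theorem N70100 : nd 70100 = n134667 := ndS (p := 38636) (l := 0) rfl N38636 D134667
theorem N70101 : nd 70101 = n134669 := ndS (p := 38636) (l := 4) rfl N38636 D134669
theorem N70102 : nd 70102 = n134671 := ndS (p := 38637) (l := 0) rfl N38637 D134671
theorem N70103 : nd 70103 = n134672 := ndS (p := 38637) (l := 1) rfl N38637 D134672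
theorem N70104 : nd 70104 = n134673 := ndS (p := 38637) (l := 5) rfl N38637 D134673
theorem N70105 : nd 70105 = n134676 := ndS (p := 38638) (l := 3) rfl N38638 D134676
theorem N70106 : nd 70106 = n134678 := ndS (p := 38638) (l := 5) rfl N38638 D134678
theorem N70107 : nd 70107 = n134679 := ndS (p := 38638) (l := 6) rfl N38638 D134679
theorem N70108 : nd 70108 = n134683 := ndS (p := 38639) (l := 5) rfl N38639 D134683
theorem N70109 : nd 70109 = n134686 := ndS (p := 38640) (l := 3) rfl N38640 D134686
theorem N70110 : nd 70110 = n134687 := ndS (p := 38640) (l := 4) rfl N38640 D134687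
theorem N70111 : nd 70111 = n134699 := ndS (p := 38641) (l := 6) rfl N38641 D134699
theorem N70112 : nd 70112 = n134703 := ndS (p := 38643) (l := 1) rfl N38643 D134703
theorem N70113 : nd 70113 = n134704 := ndS (p := 38643) (l := 5) rfl N38643 D134704
theorem N70114 : nd 70114 = n134705 := ndS (p := 38643) (l := 7) rfl N38643 D134705
theorem N70115 : nd 70115 = n134711 := ndS (p := 38645) (l := 7) rfl N38645 D134711
theorem N70116 : nd 70116 = n134716 := ndS (p := 38647) (l := 4) rfl N38647 D134716
theorem N70117 : nd 70117 = n134718 := ndS (p := 38648) (l := 0) rfl N38648 D134718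
theorem N70118 : nd 70118 = n134719 := ndS (p := 38648) (l := 1) rfl N38648 D134719
theorem N70119 : nd 70119 = n134720 := ndS (p := 38648) (l := 2) rfl N38648 D134720
theorem N70120 : nd 70120 = n134721 := ndS (p := 38648) (l := 5) rfl N38648 D134721
theorem N70121 : nd 70121 = n134723 := ndS (p := 38650) (l := 6) rfl N38650 D134723
theorem N70122 : nd 70122 = n134724 := ndS (p := 38651) (l := 5) rfl N38651 D134724
theorem N70123 : nd 70123 = n134725 := ndS (p := 38651) (l := 7) rfl N38651 D134725
theorem N70124 : nd 70124 = n134726 := ndS (p := 38652) (l := 0) rfl N38652 D134726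
theorem N70125 : nd 70125 = n134727 := ndS (p := 38652) (l := 1) rfl N38652 D134727
theorem N70126 : nd 70126 = n134728 := ndS (p := 38652) (l := 2) rfl N38652 D134728
theorem N70127 : nd 70127 = n134729 := ndS (p := 38652) (l := 5) rfl N38652 D134729
theorem N70128 : nd 70128 = n134730 := ndS (p := 38652) (l := 6) rfl N38652 D134730
theorem N70129 : nd 70129 = n134731 := ndS (p := 38653) (l := 6) rfl N38653 D134731
theorem N70130 : nd 70130 = n134732 := ndS (p := 38654) (l := 5) rfl N38654 D134732
theorem N70131 : nd 70131 = n134733 := ndS (p := 38655) (l := 3) rfl N38655 D134733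
theorem N70132 : nd 70132 = n134734 := ndS (p := 38655) (l := 5) rfl N38655 D134734
theorem N70133 : nd 70133 = n134735 := ndS (p := 38655) (l := 6) rfl N38655 D134735
theorem N70134 : nd 70134 = n134736 := ndS (p := 38656) (l := 5) rfl N38656 D134736
theorem N70135 : nd 70135 = n134737 := ndS (p := 38656) (l := 6) rfl N38656 D134737
theorem N70136 : nd 70136 = n134738 := ndS (p := 38657) (l := 5) rfl N38657 D134738
theorem N70137 : nd 70137 = n134739 := ndS (p := 38658) (l := 0) rfl N38658 D134739
theorem N70138 : nd 70138 = n134740 := ndS (p := 38658) (l := 1) rfl N38658 D134740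
theorem N70139 : nd 70139 = n134741 := ndS (p := 38658) (l := 4) rfl N38658 D134741
theorem N70140 : nd 70140 = n134742 := ndS (p := 38658) (l := 6) rfl N38658 D134742
theorem N70141 : nd 70141 = n134743 := ndS (p := 38659) (l := 3) rfl N38659 D134743
theorem N70142 : nd 70142 = n134744 := ndS (p := 38659) (l := 6) rfl N38659 D134744
theorem N70143 : nd 70143 = n134745 := ndS (p := 38660) (l := 3) rfl N38660 D134745
theorem N70144 : nd 70144 = n134746 := ndS (p := 38660) (l := 6) rfl N38660 D134746
theorem N70145 : nd 70145 = n134747 := ndS (p := 38661) (l := 0) rfl N38661 D134747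
theorem N70146 : nd 70146 = n134748 := ndS (p := 38661) (l := 1) rfl N38661 D134748
theorem N70147 : nd 70147 = n134749 := ndS (p := 38661) (l := 7) rfl N38661 D134749
theorem N70148 : nd 70148 = n134750 := ndS (p := 38662) (l := 1) rfl N38662 D134750
theorem N70149 : nd 70149 = n134751 := ndS (p := 38662) (l := 7) rfl N38662 D134751
theorem N70150 : nd 70150 = n134753 := ndS (p := 38663) (l := 1) rfl N38663 D134753
theorem N70151 : nd 70151 = n134754 := ndS (p := 38663) (l := 2) rfl N38663 D134754
theorem N70152 : nd 70152 = n134756 := ndS (p := 38664) (l := 6) rfl N38664 D134756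
theorem N70153 : nd 70153 = n134757 := ndS (p := 38666) (l := 0) rfl N38666 D134757
theorem N70154 : nd 70154 = n134758 := ndS (p := 38666) (l := 1) rfl N38666 D134758
theorem N70155 : nd 70155 = n134759 := ndS (p := 38666) (l := 2) rfl N38666 D134759
theorem N70156 : nd 70156 = n134760 := ndS (p := 38666) (l := 5) rfl N38666 D134760
theorem N70157 : nd 70157 = n134762 := ndS (p := 38668) (l := 0) rfl N38668 D134762
theorem N70158 : nd 70158 = n134763 := ndS (p := 38668) (l := 1) rfl N38668 D134763
theorem N70159 : nd 70159 = n134764 := ndS (p := 38668) (l := 2) rfl N38668 D134764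
theorem N70160 : nd 70160 = n134765 := ndS (p := 38668) (l := 5) rfl N38668 D134765
theorem N70161 : nd 70161 = n134766 := ndS (p := 38668) (l := 6) rfl N38668 D134766
theorem N70162 : nd 70162 = n134767 := ndS (p := 38669) (l := 6) rfl N38669 D134767
theorem N70163 : nd 70163 = n134768 := ndS (p := 38670) (l := 0) rfl N38670 D134768
theorem N70164 : nd 70164 = n134770 := ndS (p := 38671) (l := 0) rfl N38671 D134770
theorem N70165 : nd 70165 = n134771 := ndS (p := 38671) (l := 1) rfl N38671 D134771
theorem N70166 : nd 70166 = n134772 := ndS (p := 38671) (l := 2) rfl N38671 D134772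
theorem N70167 : nd 70167 = n134773 := ndS (p := 38671) (l := 5) rfl N38671 D134773
theorem N70168 : nd 70168 = n134779 := ndS (p := 38673) (l := 6) rfl N38673 D134779
theorem N70169 : nd 70169 = n134780 := ndS (p := 38675) (l := 0) rfl N38675 D134780
theorem N70170 : nd 70170 = n134781 := ndS (p := 38675) (l := 1) rfl N38675 D134781
theorem N70171 : nd 70171 = n134782 := ndS (p := 38675) (l := 2) rfl N38675 D134782
theorem N70172 : nd 70172 = n134783 := ndS (p := 38675) (l := 5) rfl N38675 D134783
theorem N70173 : nd 70173 = n134784 := ndS (p := 38675) (l := 6) rfl N38675 D134784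
theorem N70174 : nd 70174 = n134788 := ndS (p := 38678) (l := 0) rfl N38678 D134788
theorem N70175 : nd 70175 = n134789 := ndS (p := 38678) (l := 2) rfl N38678 D134789
theorem N70176 : nd 70176 = n134790 := ndS (p := 38678) (l := 3) rfl N38678 D134790
theorem N70177 : nd 70177 = n134791 := ndS (p := 38678) (l := 4) rfl N38678 D134791
theorem N70178 : nd 70178 = n134792 := ndS (p := 38678) (l := 5) rfl N38678 D134792
theorem N70179 : nd 70179 = n134793 := ndS (p := 38678) (l := 6) rfl N38678 D134793
theorem N70180 : nd 70180 = n134794 := ndS (p := 38678) (l := 7) rfl N38678 D134794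
theorem N70181 : nd 70181 = n134795 := ndS (p := 38679) (l := 3) rfl N38679 D134795
theorem N70182 : nd 70182 = n134796 := ndS (p := 38679) (l := 4) rfl N38679 D134796
theorem N70183 : nd 70183 = n134797 := ndS (p := 38679) (l := 5) rfl N38679 D134797
theorem N70184 : nd 70184 = n134798 := ndS (p := 38679) (l := 6) rfl N38679 D134798
theorem N70185 : nd 70185 = n134801 := ndS (p := 38680) (l := 5) rfl N38680 D134801
theorem N70186 : nd 70186 = n134802 := ndS (p := 38681) (l := 0) rfl N38681 D134802
theorem N70187 : nd 70187 = n134803 := ndS (p := 38681) (l := 1) rfl N38681 D134803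
theorem N70188 : nd 70188 = n134804 := ndS (p := 38681) (l := 4) rfl N38681 D134804
theorem N70189 : nd 70189 = n134805 := ndS (p := 38681) (l := 6) rfl N38681 D134805
theorem N70190 : nd 70190 = n134806 := ndS (p := 38681) (l := 7) rfl N38681 D134806
theorem N70191 : nd 70191 = n134807 := ndS (p := 38682) (l := 6) rfl N38682 D134807
theorem N70192 : nd 70192 = n134808 := ndS (p := 38683) (l := 3) rfl N38683 D134808
theorem N70193 : nd 70193 = n134810 := ndS (p := 38684) (l := 3) rfl N38684 D134810
theorem N70194 : nd 70194 = n134811 := ndS (p := 38684) (l := 6) rfl N38684 D134811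
theorem N70195 : nd 70195 = n134812 := ndS (p := 38685) (l := 0) rfl N38685 D134812
theorem N70196 : nd 70196 = n134814 := ndS (p := 38685) (l := 7) rfl N38685 D134814
theorem N70197 : nd 70197 = n134815 := ndS (p := 38686) (l := 6) rfl N38686 D134815
theorem N70198 : nd 70198 = n134816 := ndS (p := 38687) (l := 5) rfl N38687 D134816
theorem N70199 : nd 70199 = n134817 := ndS (p := 38688) (l := 0) rfl N38688 D134817
theorem N70200 : nd 70200 = n134818 := ndS (p := 38688) (l := 1) rfl N38688 D134818
theorem N70201 : nd 70201 = n134819 := ndS (p := 38688) (l := 2) rfl N38688 D134819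
theorem N70202 : nd 70202 = n134820 := ndS (p := 38688) (l := 5) rfl N38688 D134820
theorem N70203 : nd 70203 = n134821 := ndS (p := 38689) (l := 6) rfl N38689 D134821
theorem N70204 : nd 70204 = n134822 := ndS (p := 38690) (l := 7) rfl N38690 D134822
theorem N70205 : nd 70205 = n134823 := ndS (p := 38691) (l := 0) rfl N38691 D134823
theorem N70206 : nd 70206 = n134824 := ndS (p := 38691) (l := 7) rfl N38691 D134824
theorem N70207 : nd 70207 = n134825 := ndS (p := 38692) (l := 0) rfl N38692 D134825
theorem N70208 : nd 70208 = n134826 := ndS (p := 38692) (l := 1) rfl N38692 D134826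
theorem N70209 : nd 70209 = n134827 := ndS (p := 38692) (l := 2) rfl N38692 D134827
theorem N70210 : nd 70210 = n134828 := ndS (p := 38692) (l := 6) rfl N38692 D134828
theorem N70211 : nd 70211 = n134829 := ndS (p := 38693) (l := 5) rfl N38693 D134829
theorem N70212 : nd 70212 = n134830 := ndS (p := 38693) (l := 7) rfl N38693 D134830
theorem N70213 : nd 70213 = n134831 := ndS (p := 38695) (l := 6) rfl N38695 D134831
theorem N70214 : nd 70214 = n134832 := ndS (p := 38697) (l := 0) rfl N38697 D134832
theorem N70215 : nd 70215 = n134833 := ndS (p := 38697) (l := 7) rfl N38697 D134833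
theorem N70216 : nd 70216 = n134834 := ndS (p := 38698) (l := 0) rfl N38698 D134834
theorem N70217 : nd 70217 = n134835 := ndS (p := 38698) (l := 1) rfl N38698 D134835
theorem N70218 : nd 70218 = n134836 := ndS (p := 38698) (l := 2) rfl N38698 D134836
theorem N70219 : nd 70219 = n134837 := ndS (p := 38698) (l := 6) rfl N38698 D134837
theorem N70220 : nd 70220 = n134841 := ndS (p := 38703) (l := 5) rfl N38703 D134841
theorem N70221 : nd 70221 = n134842 := ndS (p := 38704) (l := 6) rfl N38704 D134842
theorem N70222 : nd 70222 = n134843 := ndS (p := 38706) (l := 0) rfl N38706 D134843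
theorem N70223 : nd 70223 = n134844 := ndS (p := 38706) (l := 7) rfl N38706 D134844
theorem N70224 : nd 70224 = n134845 := ndS (p := 38707) (l := 6) rfl N38707 D134845
theorem N70225 : nd 70225 = n134846 := ndS (p := 38710) (l := 0) rfl N38710 D134846
theorem N70226 : nd 70226 = n134847 := ndS (p := 38710) (l := 2) rfl N38710 D134847
theorem N70227 : nd 70227 = n134848 := ndS (p := 38710) (l := 3) rfl N38710 D134848
theorem N70228 : nd 70228 = n134849 := ndS (p := 38710) (l := 4) rfl N38710 D134849
theorem N70229 : nd 70229 = n134850 := ndS (p := 38710) (l := 5) rfl N38710 D134850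
theorem N70230 : nd 70230 = n134851 := ndS (p := 38710) (l := 6) rfl N38710 D134851
theorem N70231 : nd 70231 = n134852 := ndS (p := 38710) (l := 7) rfl N38710 D134852
theorem N70232 : nd 70232 = n134853 := ndS (p := 38711) (l := 3) rfl N38711 D134853
theorem N70233 : nd 70233 = n134854 := ndS (p := 38711) (l := 4) rfl N38711 D134854
theorem N70234 : nd 70234 = n134855 := ndS (p := 38711) (l := 5) rfl N38711 D134855
theorem N70235 : nd 70235 = n134856 := ndS (p := 38711) (l := 6) rfl N38711 D134856
theorem N70236 : nd 70236 = n134860 := ndS (p := 38713) (l := 0) rfl N38713 D134860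
theorem N70237 : nd 70237 = n134861 := ndS (p := 38713) (l := 1) rfl N38713 D134861
theorem N70238 : nd 70238 = n134864 := ndS (p := 38714) (l := 6) rfl N38714 D134864
theorem N70239 : nd 70239 = n134865 := ndS (p := 38715) (l := 0) rfl N38715 D134865
theorem N70240 : nd 70240 = n134866 := ndS (p := 38715) (l := 1) rfl N38715 D134866
theorem N70241 : nd 70241 = n134868 := ndS (p := 38716) (l := 5) rfl N38716 D134868
theorem N70242 : nd 70242 = n134869 := ndS (p := 38717) (l := 5) rfl N38717 D134869
theorem N70243 : nd 70243 = n134870 := ndS (p := 38718) (l := 5) rfl N38718 D134870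
theorem N70244 : nd 70244 = n134871 := ndS (p := 38719) (l := 0) rfl N38719 D134871
theorem N70245 : nd 70245 = n134872 := ndS (p := 38719) (l := 1) rfl N38719 D134872
theorem N70246 : nd 70246 = n134873 := ndS (p := 38719) (l := 2) rfl N38719 D134873
theorem N70247 : nd 70247 = n134874 := ndS (p := 38719) (l := 5) rfl N38719 D134874
theorem N70248 : nd 70248 = n134875 := ndS (p := 38719) (l := 6) rfl N38719 D134875
theorem N70249 : nd 70249 = n134876 := ndS (p := 38720) (l := 6) rfl N38720 D134876
theorem N70250 : nd 70250 = n134877 := ndS (p := 38721) (l := 0) rfl N38721 D134877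
theorem N70251 : nd 70251 = n134878 := ndS (p := 38721) (l := 1) rfl N38721 D134878
theorem N70252 : nd 70252 = n134879 := ndS (p := 38721) (l := 7) rfl N38721 D134879
theorem N70253 : nd 70253 = n134880 := ndS (p := 38722) (l := 4) rfl N38722 D134880
theorem N70254 : nd 70254 = n134881 := ndS (p := 38723) (l := 4) rfl N38723 D134881
theorem N70255 : nd 70255 = n134882 := ndS (p := 38725) (l := 0) rfl N38725 D134882
theorem N70256 : nd 70256 = n134883 := ndS (p := 38725) (l := 1) rfl N38725 D134883
theorem N70257 : nd 70257 = n134884 := ndS (p := 38725) (l := 2) rfl N38725 D134884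
theorem N70258 : nd 70258 = n134885 := ndS (p := 38725) (l := 5) rfl N38725 D134885
theorem N70259 : nd 70259 = n134886 := ndS (p := 38725) (l := 6) rfl N38725 D134886
theorem N70260 : nd 70260 = n134887 := ndS (p := 38726) (l := 6) rfl N38726 D134887
theorem N70261 : nd 70261 = n134888 := ndS (p := 38727) (l := 7) rfl N38727 D134888
theorem N70262 : nd 70262 = n134889 := ndS (p := 38728) (l := 0) rfl N38728 D134889
theorem N70263 : nd 70263 = n134890 := ndS (p := 38728) (l := 1) rfl N38728 D134890
theorem N70264 : nd 70264 = n134891 := ndS (p := 38728) (l := 2) rfl N38728 D134891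
theorem N70265 : nd 70265 = n134892 := ndS (p := 38728) (l := 5) rfl N38728 D134892
theorem N70266 : nd 70266 = n134894 := ndS (p := 38729) (l := 6) rfl N38729 D134894
theorem N70267 : nd 70267 = n134895 := ndS (p := 38730) (l := 5) rfl N38730 D134895
theorem N70268 : nd 70268 = n134897 := ndS (p := 38731) (l := 3) rfl N38731 D134897
theorem N70269 : nd 70269 = n134898 := ndS (p := 38731) (l := 4) rfl N38731 D134898
theorem N70270 : nd 70270 = n134899 := ndS (p := 38731) (l := 5) rfl N38731 D134899
theorem N70271 : nd 70271 = n134900 := ndS (p := 38731) (l := 6) rfl N38731 D134900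
theorem N70272 : nd 70272 = n134902 := ndS (p := 38732) (l := 3) rfl N38732 D134902
theorem N70273 : nd 70273 = n134903 := ndS (p := 38732) (l := 4) rfl N38732 D134903
theorem N70274 : nd 70274 = n134904 := ndS (p := 38732) (l := 5) rfl N38732 D134904
theorem N70275 : nd 70275 = n134905 := ndS (p := 38732) (l := 6) rfl N38732 D134905
theorem N70276 : nd 70276 = n134906 := ndS (p := 38733) (l := 5) rfl N38733 D134906
theorem N70277 : nd 70277 = n134907 := ndS (p := 38733) (l := 6) rfl N38733 D134907
theorem N70278 : nd 70278 = n134908 := ndS (p := 38734) (l := 0) rfl N38734 D134908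
theorem N70279 : nd 70279 = n134909 := ndS (p := 38734) (l := 1) rfl N38734 D134909
theorem N70280 : nd 70280 = n134910 := ndS (p := 38734) (l := 4) rfl N38734 D134910
theorem N70281 : nd 70281 = n134911 := ndS (p := 38734) (l := 6) rfl N38734 D134911
theorem N70282 : nd 70282 = n134913 := ndS (p := 38735) (l := 1) rfl N38735 D134913
theorem N70283 : nd 70283 = n134914 := ndS (p := 38735) (l := 5) rfl N38735 D134914
theorem N70284 : nd 70284 = n134915 := ndS (p := 38735) (l := 7) rfl N38735 D134915
theorem N70285 : nd 70285 = n134917 := ndS (p := 38736) (l := 1) rfl N38736 D134917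
theorem N70286 : nd 70286 = n134920 := ndS (p := 38737) (l := 3) rfl N38737 D134920
theorem N70287 : nd 70287 = n134921 := ndS (p := 38738) (l := 3) rfl N38738 D134921
theorem N70288 : nd 70288 = n134922 := ndS (p := 38738) (l := 6) rfl N38738 D134922
theorem N70289 : nd 70289 = n134927 := ndS (p := 38741) (l := 3) rfl N38741 D134927
theorem N70290 : nd 70290 = n134928 := ndS (p := 38743) (l := 0) rfl N38743 D134928
theorem N70291 : nd 70291 = n134929 := ndS (p := 38743) (l := 1) rfl N38743 D134929
theorem N70292 : nd 70292 = n134930 := ndS (p := 38743) (l := 2) rfl N38743 D134930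
theorem N70293 : nd 70293 = n134931 := ndS (p := 38743) (l := 6) rfl N38743 D134931
theorem N70294 : nd 70294 = n134933 := ndS (p := 38746) (l := 0) rfl N38746 D134933
theorem N70295 : nd 70295 = n134934 := ndS (p := 38746) (l := 1) rfl N38746 D134934
theorem N70296 : nd 70296 = n134935 := ndS (p := 38746) (l := 7) rfl N38746 D134935
theorem N70297 : nd 70297 = n134936 := ndS (p := 38748) (l := 3) rfl N38748 D134936
theorem N70298 : nd 70298 = n134937 := ndS (p := 38748) (l := 4) rfl N38748 D134937
theorem N70299 : nd 70299 = n134938 := ndS (p := 38748) (l := 5) rfl N38748 D134938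
theorem N70300 : nd 70300 = n134939 := ndS (p := 38748) (l := 6) rfl N38748 D134939
theorem N70301 : nd 70301 = n134940 := ndS (p := 38749) (l := 3) rfl N38749 D134940
theorem N70302 : nd 70302 = n134941 := ndS (p := 38749) (l := 5) rfl N38749 D134941
theorem N70303 : nd 70303 = n134942 := ndS (p := 38749) (l := 6) rfl N38749 D134942
theorem N70304 : nd 70304 = n134943 := ndS (p := 38750) (l := 5) rfl N38750 D134943
theorem N70305 : nd 70305 = n134944 := ndS (p := 38750) (l := 6) rfl N38750 D134944
theorem N70306 : nd 70306 = n134945 := ndS (p := 38751) (l := 0) rfl N38751 D134945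
theorem N70307 : nd 70307 = n134946 := ndS (p := 38751) (l := 1) rfl N38751 D134946
theorem N70308 : nd 70308 = n134947 := ndS (p := 38751) (l := 4) rfl N38751 D134947
theorem N70309 : nd 70309 = n134948 := ndS (p := 38751) (l := 6) rfl N38751 D134948
theorem N70310 : nd 70310 = n134949 := ndS (p := 38752) (l := 0) rfl N38752 D134949
theorem N70311 : nd 70311 = n134950 := ndS (p := 38752) (l := 1) rfl N38752 D134950
theorem N70312 : nd 70312 = n134951 := ndS (p := 38752) (l := 5) rfl N38752 D134951
theorem N70313 : nd 70313 = n134952 := ndS (p := 38752) (l := 7) rfl N38752 D134952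
theorem N70314 : nd 70314 = n134953 := ndS (p := 38753) (l := 0) rfl N38753 D134953
theorem N70315 : nd 70315 = n134954 := ndS (p := 38753) (l := 1) rfl N38753 D134954
theorem N70316 : nd 70316 = n134957 := ndS (p := 38754) (l := 3) rfl N38754 D134957
theorem N70317 : nd 70317 = n134960 := ndS (p := 38755) (l := 3) rfl N38755 D134960
theorem N70318 : nd 70318 = n134966 := ndS (p := 38758) (l := 3) rfl N38758 D134966
theorem N70319 : nd 70319 = n134968 := ndS (p := 38759) (l := 4) rfl N38759 D134968
theorem N70320 : nd 70320 = n134969 := ndS (p := 38760) (l := 0) rfl N38760 D134969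
theorem N70321 : nd 70321 = n134970 := ndS (p := 38760) (l := 1) rfl N38760 D134970
theorem N70322 : nd 70322 = n134971 := ndS (p := 38760) (l := 3) rfl N38760 D134971
theorem N70323 : nd 70323 = n134974 := ndS (p := 38762) (l := 0) rfl N38762 D134974
theorem N70324 : nd 70324 = n134976 := ndS (p := 38762) (l := 2) rfl N38762 D134976
theorem N70325 : nd 70325 = n134979 := ndS (p := 38763) (l := 0) rfl N38763 D134979
theorem N70326 : nd 70326 = n134980 := ndS (p := 38763) (l := 1) rfl N38763 D134980
theorem N70327 : nd 70327 = n134981 := ndS (p := 38763) (l := 2) rfl N38763 D134981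
theorem N70328 : nd 70328 = n134982 := ndS (p := 38763) (l := 6) rfl N38763 D134982
theorem N70329 : nd 70329 = n134983 := ndS (p := 38764) (l := 5) rfl N38764 D134983
theorem N70330 : nd 70330 = n134985 := ndS (p := 38765) (l := 3) rfl N38765 D134985
theorem N70331 : nd 70331 = n134986 := ndS (p := 38765) (l := 4) rfl N38765 D134986
theorem N70332 : nd 70332 = n134988 := ndS (p := 38765) (l := 6) rfl N38765 D134988
theorem N70333 : nd 70333 = n134990 := ndS (p := 38766) (l := 3) rfl N38766 D134990
theorem N70334 : nd 70334 = n134991 := ndS (p := 38766) (l := 4) rfl N38766 D134991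
theorem N70335 : nd 70335 = n134994 := ndS (p := 38767) (l := 5) rfl N38767 D134994
theorem N70336 : nd 70336 = n134996 := ndS (p := 38768) (l := 0) rfl N38768 D134996
theorem N70337 : nd 70337 = n134997 := ndS (p := 38768) (l := 1) rfl N38768 D134997
theorem N70338 : nd 70338 = n134998 := ndS (p := 38768) (l := 4) rfl N38768 D134998
theorem N70339 : nd 70339 = n135004 := ndS (p := 38770) (l := 3) rfl N38770 D135004
theorem N70340 : nd 70340 = n135005 := ndS (p := 38770) (l := 6) rfl N38770 D135005
theorem N70341 : nd 70341 = n135006 := ndS (p := 38771) (l := 3) rfl N38771 D135006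
theorem N70342 : nd 70342 = n135007 := ndS (p := 38771) (l := 6) rfl N38771 D135007
theorem N70343 : nd 70343 = n135012 := ndS (p := 38772) (l := 3) rfl N38772 D135012
theorem N70344 : nd 70344 = n135016 := ndS (p := 38773) (l := 6) rfl N38773 D135016
theorem N70345 : nd 70345 = n135020 := ndS (p := 38774) (l := 3) rfl N38774 D135020
theorem N70346 : nd 70346 = n135025 := ndS (p := 38778) (l := 6) rfl N38778 D135025
theorem N70347 : nd 70347 = n135026 := ndS (p := 38781) (l := 3) rfl N38781 D135026
theorem N70348 : nd 70348 = n135027 := ndS (p := 38781) (l := 4) rfl N38781 D135027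
theorem N70349 : nd 70349 = n135030 := ndS (p := 38782) (l := 3) rfl N38782 D135030
theorem N70350 : nd 70350 = n135032 := ndS (p := 38782) (l := 6) rfl N38782 D135032
theorem N70351 : nd 70351 = n135033 := ndS (p := 38783) (l := 5) rfl N38783 D135033
theorem N70352 : nd 70352 = n135035 := ndS (p := 38784) (l := 0) rfl N38784 D135035
theorem N70353 : nd 70353 = n135036 := ndS (p := 38784) (l := 1) rfl N38784 D135036
theorem N70354 : nd 70354 = n135037 := ndS (p := 38784) (l := 4) rfl N38784 D135037
theorem N70355 : nd 70355 = n135038 := ndS (p := 38784) (l := 6) rfl N38784 D135038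
theorem N70356 : nd 70356 = n135039 := ndS (p := 38785) (l := 0) rfl N38785 D135039
theorem N70357 : nd 70357 = n135040 := ndS (p := 38785) (l := 1) rfl N38785 D135040
theorem N70358 : nd 70358 = n135042 := ndS (p := 38785) (l := 7) rfl N38785 D135042
theorem N70359 : nd 70359 = n135050 := ndS (p := 38788) (l := 3) rfl N38788 D135050
theorem N70360 : nd 70360 = n135055 := ndS (p := 38791) (l := 6) rfl N38791 D135055
theorem N70361 : nd 70361 = n135056 := ndS (p := 38793) (l := 3) rfl N38793 D135056
theorem N70362 : nd 70362 = n135059 := ndS (p := 38794) (l := 4) rfl N38794 D135059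
theorem N70363 : nd 70363 = n135060 := ndS (p := 38794) (l := 5) rfl N38794 D135060
theorem N70364 : nd 70364 = n135061 := ndS (p := 38794) (l := 6) rfl N38794 D135061
theorem N70365 : nd 70365 = n135063 := ndS (p := 38795) (l := 3) rfl N38795 D135063
theorem N70366 : nd 70366 = n135064 := ndS (p := 38795) (l := 4) rfl N38795 D135064
theorem N70367 : nd 70367 = n135065 := ndS (p := 38795) (l := 5) rfl N38795 D135065
theorem N70368 : nd 70368 = n135067 := ndS (p := 38796) (l := 5) rfl N38796 D135067
theorem N70369 : nd 70369 = n135068 := ndS (p := 38796) (l := 6) rfl N38796 D135068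
theorem N70370 : nd 70370 = n135069 := ndS (p := 38797) (l := 0) rfl N38797 D135069
theorem N70371 : nd 70371 = n135070 := ndS (p := 38797) (l := 1) rfl N38797 D135070
theorem N70372 : nd 70372 = n135071 := ndS (p := 38797) (l := 4) rfl N38797 D135071
theorem N70373 : nd 70373 = n135073 := ndS (p := 38798) (l := 0) rfl N38798 D135073
theorem N70374 : nd 70374 = n135074 := ndS (p := 38798) (l := 1) rfl N38798 D135074
theorem N70375 : nd 70375 = n135077 := ndS (p := 38799) (l := 3) rfl N38799 D135077
theorem N70376 : nd 70376 = n135078 := ndS (p := 38799) (l := 6) rfl N38799 D135078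
theorem N70377 : nd 70377 = n135087 := ndS (p := 38800) (l := 3) rfl N38800 D135087
theorem N70378 : nd 70378 = n135088 := ndS (p := 38800) (l := 5) rfl N38800 D135088
theorem N70379 : nd 70379 = n135091 := ndS (p := 38801) (l := 3) rfl N38801 D135091
theorem N70380 : nd 70380 = n135092 := ndS (p := 38801) (l := 5) rfl N38801 D135092
theorem N70381 : nd 70381 = n135093 := ndS (p := 38801) (l := 6) rfl N38801 D135093
theorem N70382 : nd 70382 = n135110 := ndS (p := 38803) (l := 5) rfl N38803 D135110
theorem N70383 : nd 70383 = n135113 := ndS (p := 38804) (l := 1) rfl N38804 D135113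
theorem N70384 : nd 70384 = n135114 := ndS (p := 38804) (l := 2) rfl N38804 D135114
theorem N70385 : nd 70385 = n135115 := ndS (p := 38804) (l := 5) rfl N38804 D135115
theorem N70386 : nd 70386 = n135116 := ndS (p := 38804) (l := 6) rfl N38804 D135116
theorem N70387 : nd 70387 = n135117 := ndS (p := 38804) (l := 7) rfl N38804 D135117
theorem N70388 : nd 70388 = n135118 := ndS (p := 38805) (l := 0) rfl N38805 D135118
theorem N70389 : nd 70389 = n135119 := ndS (p := 38805) (l := 4) rfl N38805 D135119
theorem N70390 : nd 70390 = n135121 := ndS (p := 38805) (l := 7) rfl N38805 D135121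
theorem N70391 : nd 70391 = n135126 := ndS (p := 38807) (l := 6) rfl N38807 D135126
theorem N70392 : nd 70392 = n135131 := ndS (p := 38809) (l := 4) rfl N38809 D135131
theorem N70393 : nd 70393 = n135137 := ndS (p := 38811) (l := 0) rfl N38811 D135137
theorem N70394 : nd 70394 = n135138 := ndS (p := 38811) (l := 1) rfl N38811 D135138
theorem N70395 : nd 70395 = n135139 := ndS (p := 38811) (l := 4) rfl N38811 D135139
theorem N70396 : nd 70396 = n135140 := ndS (p := 38811) (l := 6) rfl N38811 D135140
theorem N70397 : nd 70397 = n135142 := ndS (p := 38812) (l := 3) rfl N38812 D135142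
theorem N70398 : nd 70398 = n135143 := ndS (p := 38812) (l := 4) rfl N38812 D135143
theorem N70399 : nd 70399 = n135144 := ndS (p := 38812) (l := 6) rfl N38812 D135144
theorem N70400 : nd 70400 = n135146 := ndS (p := 38813) (l := 3) rfl N38813 D135146
theorem N70401 : nd 70401 = n135147 := ndS (p := 38813) (l := 4) rfl N38813 D135147
theorem N70402 : nd 70402 = n135148 := ndS (p := 38813) (l := 6) rfl N38813 D135148
theorem N70403 : nd 70403 = n135149 := ndS (p := 38814) (l := 0) rfl N38814 D135149
theorem N70404 : nd 70404 = n135150 := ndS (p := 38814) (l := 1) rfl N38814 D135150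
theorem N70405 : nd 70405 = n135152 := ndS (p := 38814) (l := 5) rfl N38814 D135152
theorem N70406 : nd 70406 = n135154 := ndS (p := 38814) (l := 7) rfl N38814 D135154
theorem N70407 : nd 70407 = n135156 := ndS (p := 38815) (l := 1) rfl N38815 D135156
theorem N70408 : nd 70408 = n135157 := ndS (p := 38815) (l := 7) rfl N38815 D135157
theorem N70409 : nd 70409 = n135158 := ndS (p := 38816) (l := 6) rfl N38816 D135158
theorem N70410 : nd 70410 = n135161 := ndS (p := 38817) (l := 5) rfl N38817 D135161
theorem N70411 : nd 70411 = n135164 := ndS (p := 38818) (l := 2) rfl N38818 D135164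
theorem N70412 : nd 70412 = n135165 := ndS (p := 38818) (l := 4) rfl N38818 D135165
theorem N70413 : nd 70413 = n135166 := ndS (p := 38818) (l := 6) rfl N38818 D135166
theorem N70414 : nd 70414 = n135173 := ndS (p := 38820) (l := 2) rfl N38820 D135173
theorem N70415 : nd 70415 = n135175 := ndS (p := 38820) (l := 6) rfl N38820 D135175
theorem N70416 : nd 70416 = n135184 := ndS (p := 38823) (l := 0) rfl N38823 D135184
theorem N70417 : nd 70417 = n135185 := ndS (p := 38823) (l := 1) rfl N38823 D135185
theorem N70418 : nd 70418 = n135189 := ndS (p := 38824) (l := 3) rfl N38824 D135189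
theorem N70419 : nd 70419 = n135190 := ndS (p := 38824) (l := 4) rfl N38824 D135190
theorem N70420 : nd 70420 = n135192 := ndS (p := 38824) (l := 6) rfl N38824 D135192
theorem N70421 : nd 70421 = n135194 := ndS (p := 38825) (l := 3) rfl N38825 D135194
theorem N70422 : nd 70422 = n135195 := ndS (p := 38825) (l := 4) rfl N38825 D135195
theorem N70423 : nd 70423 = n135198 := ndS (p := 38826) (l := 6) rfl N38826 D135198
theorem N70424 : nd 70424 = n135199 := ndS (p := 38827) (l := 0) rfl N38827 D135199
theorem N70425 : nd 70425 = n135201 := ndS (p := 38827) (l := 5) rfl N38827 D135201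
theorem N70426 : nd 70426 = n135202 := ndS (p := 38828) (l := 3) rfl N38828 D135202
theorem N70427 : nd 70427 = n135203 := ndS (p := 38828) (l := 5) rfl N38828 D135203
theorem N70428 : nd 70428 = n135205 := ndS (p := 38829) (l := 3) rfl N38829 D135205
theorem N70429 : nd 70429 = n135206 := ndS (p := 38829) (l := 5) rfl N38829 D135206
theorem N70430 : nd 70430 = n135207 := ndS (p := 38829) (l := 6) rfl N38829 D135207
theorem N70431 : nd 70431 = n135209 := ndS (p := 38830) (l := 1) rfl N38830 D135209
theorem N70432 : nd 70432 = n135210 := ndS (p := 38830) (l := 4) rfl N38830 D135210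
theorem N70433 : nd 70433 = n135211 := ndS (p := 38831) (l := 3) rfl N38831 D135211
theorem N70434 : nd 70434 = n135212 := ndS (p := 38831) (l := 5) rfl N38831 D135212
theorem N70435 : nd 70435 = n135213 := ndS (p := 38831) (l := 6) rfl N38831 D135213
theorem N70436 : nd 70436 = n135215 := ndS (p := 38834) (l := 5) rfl N38834 D135215
theorem N70437 : nd 70437 = n135216 := ndS (p := 38835) (l := 3) rfl N38835 D135216
theorem N70438 : nd 70438 = n135217 := ndS (p := 38835) (l := 5) rfl N38835 D135217
theorem N70439 : nd 70439 = n135218 := ndS (p := 38836) (l := 4) rfl N38836 D135218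
theorem N70440 : nd 70440 = n135219 := ndS (p := 38837) (l := 6) rfl N38837 D135219
theorem N70441 : nd 70441 = n135220 := ndS (p := 38838) (l := 5) rfl N38838 D135220
theorem N70442 : nd 70442 = n135221 := ndS (p := 38839) (l := 0) rfl N38839 D135221
theorem N70443 : nd 70443 = n135222 := ndS (p := 38839) (l := 1) rfl N38839 D135222
theorem N70444 : nd 70444 = n135223 := ndS (p := 38839) (l := 5) rfl N38839 D135223
theorem N70445 : nd 70445 = n135224 := ndS (p := 38839) (l := 7) rfl N38839 D135224
theorem N70446 : nd 70446 = n135225 := ndS (p := 38840) (l := 3) rfl N38840 D135225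
theorem N70447 : nd 70447 = n135226 := ndS (p := 38840) (l := 5) rfl N38840 D135226
theorem N70448 : nd 70448 = n135228 := ndS (p := 38841) (l := 5) rfl N38841 D135228
theorem N70449 : nd 70449 = n135230 := ndS (p := 38842) (l := 1) rfl N38842 D135230
theorem N70450 : nd 70450 = n135231 := ndS (p := 38842) (l := 4) rfl N38842 D135231
theorem N70451 : nd 70451 = n135232 := ndS (p := 38842) (l := 7) rfl N38842 D135232
theorem N70452 : nd 70452 = n135233 := ndS (p := 38844) (l := 5) rfl N38844 D135233
theorem N70453 : nd 70453 = n135234 := ndS (p := 38845) (l := 3) rfl N38845 D135234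
theorem N70454 : nd 70454 = n135235 := ndS (p := 38845) (l := 5) rfl N38845 D135235
theorem N70455 : nd 70455 = n135236 := ndS (p := 38846) (l := 4) rfl N38846 D135236
theorem N70456 : nd 70456 = n135240 := ndS (p := 38848) (l := 4) rfl N38848 D135240
theorem N70457 : nd 70457 = n135241 := ndS (p := 38849) (l := 5) rfl N38849 D135241
theorem N70458 : nd 70458 = n135242 := ndS (p := 38850) (l := 4) rfl N38850 D135242
theorem N70459 : nd 70459 = n135243 := ndS (p := 38851) (l := 3) rfl N38851 D135243
theorem N70460 : nd 70460 = n135245 := ndS (p := 38852) (l := 1) rfl N38852 D135245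
theorem N70461 : nd 70461 = n135246 := ndS (p := 38852) (l := 2) rfl N38852 D135246
theorem N70462 : nd 70462 = n135247 := ndS (p := 38853) (l := 0) rfl N38853 D135247
theorem N70463 : nd 70463 = n135251 := ndS (p := 38854) (l := 5) rfl N38854 D135251
theorem N70464 : nd 70464 = n135252 := ndS (p := 38855) (l := 3) rfl N38855 D135252
theorem N70465 : nd 70465 = n135253 := ndS (p := 38855) (l := 6) rfl N38855 D135253
theorem N70466 : nd 70466 = n135254 := ndS (p := 38856) (l := 0) rfl N38856 D135254
theorem N70467 : nd 70467 = n135258 := ndS (p := 38857) (l := 3) rfl N38857 D135258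
theorem N70468 : nd 70468 = n135260 := ndS (p := 38858) (l := 3) rfl N38858 D135260
theorem N70469 : nd 70469 = n135261 := ndS (p := 38859) (l := 0) rfl N38859 D135261
theorem N70470 : nd 70470 = n135262 := ndS (p := 38859) (l := 1) rfl N38859 D135262
theorem N70471 : nd 70471 = n135263 := ndS (p := 38859) (l := 4) rfl N38859 D135263
theorem N70472 : nd 70472 = n135264 := ndS (p := 38859) (l := 7) rfl N38859 D135264
theorem N70473 : nd 70473 = n135269 := ndS (p := 38862) (l := 3) rfl N38862 D135269
theorem N70474 : nd 70474 = n135270 := ndS (p := 38862) (l := 5) rfl N38862 D135270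
theorem N70475 : nd 70475 = n135273 := ndS (p := 38865) (l := 5) rfl N38865 D135273
theorem N70476 : nd 70476 = n135274 := ndS (p := 38865) (l := 6) rfl N38865 D135274
theorem N70477 : nd 70477 = n135275 := ndS (p := 38866) (l := 5) rfl N38866 D135275
theorem N70478 : nd 70478 = n135281 := ndS (p := 38868) (l := 5) rfl N38868 D135281
theorem N70479 : nd 70479 = n135287 := ndS (p := 38870) (l := 0) rfl N38870 D135287
theorem N70480 : nd 70480 = n135288 := ndS (p := 38870) (l := 1) rfl N38870 D135288
theorem N70481 : nd 70481 = n135289 := ndS (p := 38870) (l := 5) rfl N38870 D135289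
theorem N70482 : nd 70482 = n135290 := ndS (p := 38870) (l := 7) rfl N38870 D135290
theorem N70483 : nd 70483 = n135291 := ndS (p := 38871) (l := 3) rfl N38871 D135291
theorem N70484 : nd 70484 = n135292 := ndS (p := 38871) (l := 5) rfl N38871 D135292
theorem N70485 : nd 70485 = n135294 := ndS (p := 38872) (l := 5) rfl N38872 D135294
theorem N70486 : nd 70486 = n135296 := ndS (p := 38873) (l := 1) rfl N38873 D135296
theorem N70487 : nd 70487 = n135300 := ndS (p := 38874) (l := 0) rfl N38874 D135300
theorem N70488 : nd 70488 = n135301 := ndS (p := 38874) (l := 1) rfl N38874 D135301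
theorem N70489 : nd 70489 = n135302 := ndS (p := 38874) (l := 4) rfl N38874 D135302
theorem N70490 : nd 70490 = n135305 := ndS (p := 38875) (l := 0) rfl N38875 D135305
theorem N70491 : nd 70491 = n135315 := ndS (p := 38878) (l := 5) rfl N38878 D135315
theorem N70492 : nd 70492 = n135318 := ndS (p := 38879) (l := 0) rfl N38879 D135318
theorem N70493 : nd 70493 = n135320 := ndS (p := 38879) (l := 5) rfl N38879 D135320
theorem N70494 : nd 70494 = n135322 := ndS (p := 38880) (l := 6) rfl N38880 D135322
theorem N70495 : nd 70495 = n135326 := ndS (p := 38881) (l := 5) rfl N38881 D135326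
theorem N70496 : nd 70496 = n135333 := ndS (p := 38882) (l := 0) rfl N38882 D135333
theorem N70497 : nd 70497 = n135335 := ndS (p := 38882) (l := 7) rfl N38882 D135335
theorem N70498 : nd 70498 = n135340 := ndS (p := 38885) (l := 5) rfl N38885 D135340
theorem N70499 : nd 70499 = n135343 := ndS (p := 38886) (l := 6) rfl N38886 D135343
theorem N70500 : nd 70500 = n135344 := ndS (p := 38887) (l := 3) rfl N38887 D135344
theorem N70501 : nd 70501 = n135345 := ndS (p := 38887) (l := 5) rfl N38887 D135345
theorem N70502 : nd 70502 = n135346 := ndS (p := 38887) (l := 6) rfl N38887 D135346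
theorem N70503 : nd 70503 = n135348 := ndS (p := 38888) (l := 4) rfl N38888 D135348
theorem N70504 : nd 70504 = n135349 := ndS (p := 38888) (l := 6) rfl N38888 D135349
theorem N70505 : nd 70505 = n135350 := ndS (p := 38889) (l := 0) rfl N38889 D135350
theorem N70506 : nd 70506 = n135351 := ndS (p := 38889) (l := 1) rfl N38889 D135351
theorem N70507 : nd 70507 = n135352 := ndS (p := 38889) (l := 5) rfl N38889 D135352
theorem N70508 : nd 70508 = n135353 := ndS (p := 38889) (l := 7) rfl N38889 D135353
theorem N70509 : nd 70509 = n135355 := ndS (p := 38890) (l := 5) rfl N38890 D135355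
theorem N70510 : nd 70510 = n135356 := ndS (p := 38890) (l := 6) rfl N38890 D135356
theorem N70511 : nd 70511 = n135357 := ndS (p := 38891) (l := 4) rfl N38891 D135357
theorem N70512 : nd 70512 = n135363 := ndS (p := 38893) (l := 3) rfl N38893 D135363
theorem N70513 : nd 70513 = n135364 := ndS (p := 38893) (l := 5) rfl N38893 D135364
theorem N70514 : nd 70514 = n135365 := ndS (p := 38893) (l := 6) rfl N38893 D135365
theorem N70515 : nd 70515 = n135367 := ndS (p := 38894) (l := 1) rfl N38894 D135367
theorem N70516 : nd 70516 = n135368 := ndS (p := 38894) (l := 5) rfl N38894 D135368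
theorem N70517 : nd 70517 = n135369 := ndS (p := 38894) (l := 7) rfl N38894 D135369
theorem N70518 : nd 70518 = n135382 := ndS (p := 38896) (l := 4) rfl N38896 D135382
theorem N70519 : nd 70519 = n135384 := ndS (p := 38898) (l := 3) rfl N38898 D135384
theorem N70520 : nd 70520 = n135385 := ndS (p := 38898) (l := 5) rfl N38898 D135385
theorem N70521 : nd 70521 = n135386 := ndS (p := 38898) (l := 6) rfl N38898 D135386
theorem N70522 : nd 70522 = n135387 := ndS (p := 38899) (l := 0) rfl N38899 D135387
theorem N70523 : nd 70523 = n135388 := ndS (p := 38899) (l := 1) rfl N38899 D135388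
theorem N70524 : nd 70524 = n135392 := ndS (p := 38901) (l := 1) rfl N38901 D135392
theorem N70525 : nd 70525 = n135393 := ndS (p := 38901) (l := 3) rfl N38901 D135393
theorem N70526 : nd 70526 = n135394 := ndS (p := 38901) (l := 5) rfl N38901 D135394
theorem N70527 : nd 70527 = n135396 := ndS (p := 38902) (l := 0) rfl N38902 D135396
theorem N70528 : nd 70528 = n135399 := ndS (p := 38902) (l := 7) rfl N38902 D135399
theorem N70529 : nd 70529 = n135400 := ndS (p := 38903) (l := 2) rfl N38903 D135400
theorem N70530 : nd 70530 = n135402 := ndS (p := 38903) (l := 6) rfl N38903 D135402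
theorem N70531 : nd 70531 = n135404 := ndS (p := 38904) (l := 5) rfl N38904 D135404
theorem N70532 : nd 70532 = n135405 := ndS (p := 38904) (l := 6) rfl N38904 D135405
theorem N70533 : nd 70533 = n135407 := ndS (p := 38905) (l := 1) rfl N38905 D135407
theorem N70534 : nd 70534 = n135408 := ndS (p := 38905) (l := 5) rfl N38905 D135408
theorem N70535 : nd 70535 = n135409 := ndS (p := 38905) (l := 7) rfl N38905 D135409
theorem N70536 : nd 70536 = n135411 := ndS (p := 38906) (l := 3) rfl N38906 D135411
theorem N70537 : nd 70537 = n135413 := ndS (p := 38906) (l := 5) rfl N38906 D135413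
theorem N70538 : nd 70538 = n135416 := ndS (p := 38907) (l := 5) rfl N38907 D135416
theorem N70539 : nd 70539 = n135417 := ndS (p := 38907) (l := 6) rfl N38907 D135417
theorem N70540 : nd 70540 = n135418 := ndS (p := 38908) (l := 0) rfl N38908 D135418
theorem N70541 : nd 70541 = n135420 := ndS (p := 38908) (l := 4) rfl N38908 D135420
theorem N70542 : nd 70542 = n135421 := ndS (p := 38908) (l := 6) rfl N38908 D135421
theorem N70543 : nd 70543 = n135422 := ndS (p := 38909) (l := 0) rfl N38909 D135422
theorem N70544 : nd 70544 = n135424 := ndS (p := 38909) (l := 5) rfl N38909 D135424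
theorem N70545 : nd 70545 = n135427 := ndS (p := 38910) (l := 3) rfl N38910 D135427
theorem N70546 : nd 70546 = n135428 := ndS (p := 38910) (l := 4) rfl N38910 D135428
theorem N70547 : nd 70547 = n135429 := ndS (p := 38910) (l := 5) rfl N38910 D135429
theorem N70548 : nd 70548 = n135430 := ndS (p := 38910) (l := 6) rfl N38910 D135430
theorem N70549 : nd 70549 = n135433 := ndS (p := 38911) (l := 4) rfl N38911 D135433
theorem N70550 : nd 70550 = n135435 := ndS (p := 38911) (l := 6) rfl N38911 D135435
theorem N70551 : nd 70551 = n135437 := ndS (p := 38913) (l := 3) rfl N38913 D135437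
theorem N70552 : nd 70552 = n135442 := ndS (p := 38914) (l := 3) rfl N38914 D135442
theorem N70553 : nd 70553 = n135444 := ndS (p := 38914) (l := 5) rfl N38914 D135444
theorem N70554 : nd 70554 = n135453 := ndS (p := 38915) (l := 5) rfl N38915 D135453
theorem N70555 : nd 70555 = n135454 := ndS (p := 38915) (l := 6) rfl N38915 D135454
theorem N70556 : nd 70556 = n135458 := ndS (p := 38917) (l := 1) rfl N38917 D135458
theorem N70557 : nd 70557 = n135459 := ndS (p := 38917) (l := 5) rfl N38917 D135459
theorem N70558 : nd 70558 = n135460 := ndS (p := 38917) (l := 7) rfl N38917 D135460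
theorem N70559 : nd 70559 = n135463 := ndS (p := 38920) (l := 0) rfl N38920 D135463
theorem N70560 : nd 70560 = n135464 := ndS (p := 38920) (l := 5) rfl N38920 D135464
theorem N70561 : nd 70561 = n135465 := ndS (p := 38920) (l := 7) rfl N38920 D135465
theorem N70562 : nd 70562 = n135470 := ndS (p := 38922) (l := 4) rfl N38922 D135470
theorem N70563 : nd 70563 = n135472 := ndS (p := 38924) (l := 0) rfl N38924 D135472
theorem N70564 : nd 70564 = n135473 := ndS (p := 38925) (l := 0) rfl N38925 D135473
theorem N70565 : nd 70565 = n135474 := ndS (p := 38925) (l := 1) rfl N38925 D135474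
theorem N70566 : nd 70566 = n135475 := ndS (p := 38925) (l := 2) rfl N38925 D135475
theorem N70567 : nd 70567 = n135476 := ndS (p := 38925) (l := 6) rfl N38925 D135476
theorem N70568 : nd 70568 = n135477 := ndS (p := 38926) (l := 5) rfl N38926 D135477
theorem N70569 : nd 70569 = n135478 := ndS (p := 38928) (l := 6) rfl N38928 D135478
theorem N70570 : nd 70570 = n135479 := ndS (p := 38930) (l := 6) rfl N38930 D135479
theorem N70571 : nd 70571 = n135480 := ndS (p := 38931) (l := 5) rfl N38931 D135480
theorem N70572 : nd 70572 = n135481 := ndS (p := 38933) (l := 5) rfl N38933 D135481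
theorem N70573 : nd 70573 = n135482 := ndS (p := 38934) (l := 6) rfl N38934 D135482
theorem N70574 : nd 70574 = n135483 := ndS (p := 38938) (l := 5) rfl N38938 D135483
theorem N70575 : nd 70575 = n135484 := ndS (p := 38939) (l := 2) rfl N38939 D135484
theorem N70576 : nd 70576 = n135485 := ndS (p := 38939) (l := 6) rfl N38939 D135485
theorem N70577 : nd 70577 = n135486 := ndS (p := 38940) (l := 5) rfl N38940 D135486
theorem N70578 : nd 70578 = n135487 := ndS (p := 38940) (l := 7) rfl N38940 D135487
theorem N70579 : nd 70579 = n135488 := ndS (p := 38941) (l := 6) rfl N38941 D135488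
theorem N70580 : nd 70580 = n135489 := ndS (p := 38943) (l := 5) rfl N38943 D135489
theorem N70581 : nd 70581 = n135490 := ndS (p := 38943) (l := 6) rfl N38943 D135490
theorem N70582 : nd 70582 = n135492 := ndS (p := 38945) (l := 3) rfl N38945 D135492
theorem N70583 : nd 70583 = n135495 := ndS (p := 38945) (l := 6) rfl N38945 D135495
theorem N70584 : nd 70584 = n135497 := ndS (p := 38946) (l := 3) rfl N38946 D135497
theorem N70585 : nd 70585 = n135499 := ndS (p := 38946) (l := 6) rfl N38946 D135499
theorem N70586 : nd 70586 = n135500 := ndS (p := 38949) (l := 5) rfl N38949 D135500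
theorem N70587 : nd 70587 = n135502 := ndS (p := 38950) (l := 3) rfl N38950 D135502
theorem N70588 : nd 70588 = n135503 := ndS (p := 38950) (l := 4) rfl N38950 D135503
theorem N70589 : nd 70589 = n135507 := ndS (p := 38951) (l := 3) rfl N38951 D135507
theorem N70590 : nd 70590 = n135508 := ndS (p := 38951) (l := 4) rfl N38951 D135508
theorem N70591 : nd 70591 = n135509 := ndS (p := 38951) (l := 5) rfl N38951 D135509
theorem N70592 : nd 70592 = n135511 := ndS (p := 38952) (l := 5) rfl N38952 D135511
theorem N70593 : nd 70593 = n135512 := ndS (p := 38952) (l := 6) rfl N38952 D135512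
theorem N70594 : nd 70594 = n135514 := ndS (p := 38953) (l := 4) rfl N38953 D135514
theorem N70595 : nd 70595 = n135515 := ndS (p := 38953) (l := 6) rfl N38953 D135515
theorem N70596 : nd 70596 = n135516 := ndS (p := 38954) (l := 0) rfl N38954 D135516
theorem N70597 : nd 70597 = n135517 := ndS (p := 38954) (l := 1) rfl N38954 D135517
theorem N70598 : nd 70598 = n135518 := ndS (p := 38954) (l := 5) rfl N38954 D135518
theorem N70599 : nd 70599 = n135519 := ndS (p := 38954) (l := 7) rfl N38954 D135519
theorem N70600 : nd 70600 = n135520 := ndS (p := 38955) (l := 0) rfl N38955 D135520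
theorem N70601 : nd 70601 = n135521 := ndS (p := 38955) (l := 1) rfl N38955 D135521
theorem N70602 : nd 70602 = n135522 := ndS (p := 38955) (l := 5) rfl N38955 D135522
theorem N70603 : nd 70603 = n135523 := ndS (p := 38955) (l := 7) rfl N38955 D135523
theorem N70604 : nd 70604 = n135524 := ndS (p := 38956) (l := 3) rfl N38956 D135524
theorem N70605 : nd 70605 = n135525 := ndS (p := 38957) (l := 3) rfl N38957 D135525
theorem N70606 : nd 70606 = n135526 := ndS (p := 38957) (l := 6) rfl N38957 D135526
theorem N70607 : nd 70607 = n135528 := ndS (p := 38958) (l := 1) rfl N38958 D135528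
theorem N70608 : nd 70608 = n135529 := ndS (p := 38958) (l := 4) rfl N38958 D135529
theorem N70609 : nd 70609 = n135530 := ndS (p := 38958) (l := 7) rfl N38958 D135530
theorem N70610 : nd 70610 = n135531 := ndS (p := 38960) (l := 0) rfl N38960 D135531
theorem N70611 : nd 70611 = n135532 := ndS (p := 38960) (l := 3) rfl N38960 D135532
theorem N70612 : nd 70612 = n135533 := ndS (p := 38960) (l := 5) rfl N38960 D135533
theorem N70613 : nd 70613 = n135534 := ndS (p := 38961) (l := 3) rfl N38961 D135534
theorem N70614 : nd 70614 = n135535 := ndS (p := 38961) (l := 5) rfl N38961 D135535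
theorem N70615 : nd 70615 = n135538 := ndS (p := 38963) (l := 3) rfl N38963 D135538
theorem N70616 : nd 70616 = n135539 := ndS (p := 38963) (l := 4) rfl N38963 D135539
theorem N70617 : nd 70617 = n135541 := ndS (p := 38963) (l := 6) rfl N38963 D135541
theorem N70618 : nd 70618 = n135543 := ndS (p := 38964) (l := 3) rfl N38964 D135543
theorem N70619 : nd 70619 = n135544 := ndS (p := 38964) (l := 4) rfl N38964 D135544
theorem N70620 : nd 70620 = n135547 := ndS (p := 38965) (l := 5) rfl N38965 D135547
theorem N70621 : nd 70621 = n135548 := ndS (p := 38965) (l := 6) rfl N38965 D135548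
theorem N70622 : nd 70622 = n135550 := ndS (p := 38966) (l := 1) rfl N38966 D135550
theorem N70623 : nd 70623 = n135551 := ndS (p := 38966) (l := 4) rfl N38966 D135551
theorem N70624 : nd 70624 = n135552 := ndS (p := 38966) (l := 6) rfl N38966 D135552
theorem N70625 : nd 70625 = n135553 := ndS (p := 38967) (l := 0) rfl N38967 D135553
theorem N70626 : nd 70626 = n135554 := ndS (p := 38967) (l := 1) rfl N38967 D135554
theorem N70627 : nd 70627 = n135555 := ndS (p := 38967) (l := 5) rfl N38967 D135555
theorem N70628 : nd 70628 = n135556 := ndS (p := 38967) (l := 7) rfl N38967 D135556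
theorem N70629 : nd 70629 = n135557 := ndS (p := 38968) (l := 0) rfl N38968 D135557
theorem N70630 : nd 70630 = n135558 := ndS (p := 38968) (l := 1) rfl N38968 D135558
theorem N70631 : nd 70631 = n135559 := ndS (p := 38968) (l := 5) rfl N38968 D135559
theorem N70632 : nd 70632 = n135560 := ndS (p := 38968) (l := 7) rfl N38968 D135560
theorem N70633 : nd 70633 = n135561 := ndS (p := 38969) (l := 3) rfl N38969 D135561
theorem N70634 : nd 70634 = n135562 := ndS (p := 38969) (l := 5) rfl N38969 D135562
theorem N70635 : nd 70635 = n135563 := ndS (p := 38970) (l := 3) rfl N38970 D135563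
theorem N70636 : nd 70636 = n135564 := ndS (p := 38970) (l := 5) rfl N38970 D135564
theorem N70637 : nd 70637 = n135566 := ndS (p := 38971) (l := 1) rfl N38971 D135566
theorem N70638 : nd 70638 = n135567 := ndS (p := 38971) (l := 4) rfl N38971 D135567
theorem N70639 : nd 70639 = n135568 := ndS (p := 38971) (l := 7) rfl N38971 D135568
theorem N70640 : nd 70640 = n135569 := ndS (p := 38973) (l := 3) rfl N38973 D135569
theorem N70641 : nd 70641 = n135570 := ndS (p := 38973) (l := 5) rfl N38973 D135570
theorem N70642 : nd 70642 = n135571 := ndS (p := 38974) (l := 4) rfl N38974 D135571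
theorem N70643 : nd 70643 = n135572 := ndS (p := 38975) (l := 3) rfl N38975 D135572
theorem N70644 : nd 70644 = n135573 := ndS (p := 38975) (l := 5) rfl N38975 D135573
theorem N70645 : nd 70645 = n135576 := ndS (p := 38978) (l := 1) rfl N38978 D135576
theorem N70646 : nd 70646 = n135577 := ndS (p := 38978) (l := 3) rfl N38978 D135577
theorem N70647 : nd 70647 = n135578 := ndS (p := 38978) (l := 5) rfl N38978 D135578
theorem N70648 : nd 70648 = n135579 := ndS (p := 38978) (l := 7) rfl N38978 D135579
theorem N70649 : nd 70649 = n135580 := ndS (p := 38980) (l := 3) rfl N38980 D135580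
theorem N70650 : nd 70650 = n135581 := ndS (p := 38980) (l := 4) rfl N38980 D135581
theorem N70651 : nd 70651 = n135582 := ndS (p := 38980) (l := 5) rfl N38980 D135582
theorem N70652 : nd 70652 = n135585 := ndS (p := 38982) (l := 5) rfl N38982 D135585
theorem N70653 : nd 70653 = n135588 := ndS (p := 38983) (l := 6) rfl N38983 D135588
theorem N70654 : nd 70654 = n135591 := ndS (p := 38984) (l := 5) rfl N38984 D135591
theorem N70655 : nd 70655 = n135593 := ndS (p := 38985) (l := 0) rfl N38985 D135593
theorem N70656 : nd 70656 = n135595 := ndS (p := 38985) (l := 5) rfl N38985 D135595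
theorem N70657 : nd 70657 = n135596 := ndS (p := 38985) (l := 7) rfl N38985 D135596
theorem N70658 : nd 70658 = n135597 := ndS (p := 38986) (l := 1) rfl N38986 D135597
theorem N70659 : nd 70659 = n135598 := ndS (p := 38986) (l := 4) rfl N38986 D135598
theorem N70660 : nd 70660 = n135599 := ndS (p := 38986) (l := 7) rfl N38986 D135599
theorem N70661 : nd 70661 = n135600 := ndS (p := 38988) (l := 4) rfl N38988 D135600
theorem N70662 : nd 70662 = n135601 := ndS (p := 38988) (l := 5) rfl N38988 D135601
theorem N70663 : nd 70663 = n135603 := ndS (p := 38989) (l := 3) rfl N38989 D135603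
theorem N70664 : nd 70664 = n135604 := ndS (p := 38989) (l := 4) rfl N38989 D135604
theorem N70665 : nd 70665 = n135605 := ndS (p := 38989) (l := 5) rfl N38989 D135605
theorem N70666 : nd 70666 = n135606 := ndS (p := 38989) (l := 6) rfl N38989 D135606
theorem N70667 : nd 70667 = n135607 := ndS (p := 38990) (l := 5) rfl N38990 D135607
theorem N70668 : nd 70668 = n135608 := ndS (p := 38990) (l := 6) rfl N38990 D135608
theorem N70669 : nd 70669 = n135609 := ndS (p := 38991) (l := 0) rfl N38991 D135609
theorem N70670 : nd 70670 = n135611 := ndS (p := 38991) (l := 4) rfl N38991 D135611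
theorem N70671 : nd 70671 = n135612 := ndS (p := 38991) (l := 6) rfl N38991 D135612
theorem N70672 : nd 70672 = n135613 := ndS (p := 38992) (l := 0) rfl N38992 D135613
theorem N70673 : nd 70673 = n135614 := ndS (p := 38992) (l := 1) rfl N38992 D135614
theorem N70674 : nd 70674 = n135615 := ndS (p := 38992) (l := 5) rfl N38992 D135615
theorem N70675 : nd 70675 = n135616 := ndS (p := 38992) (l := 7) rfl N38992 D135616
theorem N70676 : nd 70676 = n135618 := ndS (p := 38993) (l := 1) rfl N38993 D135618
theorem N70677 : nd 70677 = n135619 := ndS (p := 38993) (l := 5) rfl N38993 D135619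
theorem N70678 : nd 70678 = n135620 := ndS (p := 38993) (l := 7) rfl N38993 D135620
theorem N70679 : nd 70679 = n135621 := ndS (p := 38994) (l := 0) rfl N38994 D135621
theorem N70680 : nd 70680 = n135622 := ndS (p := 38994) (l := 1) rfl N38994 D135622
theorem N70681 : nd 70681 = n135623 := ndS (p := 38994) (l := 4) rfl N38994 D135623
theorem N70682 : nd 70682 = n135624 := ndS (p := 38994) (l := 7) rfl N38994 D135624
theorem N70683 : nd 70683 = n135625 := ndS (p := 38996) (l := 2) rfl N38996 D135625
theorem N70684 : nd 70684 = n135626 := ndS (p := 38996) (l := 6) rfl N38996 D135626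
theorem N70685 : nd 70685 = n135627 := ndS (p := 38997) (l := 0) rfl N38997 D135627
theorem N70686 : nd 70686 = n135629 := ndS (p := 38997) (l := 5) rfl N38997 D135629
theorem N70687 : nd 70687 = n135630 := ndS (p := 38997) (l := 7) rfl N38997 D135630
theorem N70688 : nd 70688 = n135631 := ndS (p := 38998) (l := 0) rfl N38998 D135631
theorem N70689 : nd 70689 = n135632 := ndS (p := 38998) (l := 2) rfl N38998 D135632
theorem N70690 : nd 70690 = n135633 := ndS (p := 38998) (l := 4) rfl N38998 D135633
theorem N70691 : nd 70691 = n135634 := ndS (p := 38998) (l := 6) rfl N38998 D135634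
theorem N70692 : nd 70692 = n135636 := ndS (p := 38999) (l := 1) rfl N38999 D135636
theorem N70693 : nd 70693 = n135637 := ndS (p := 38999) (l := 5) rfl N38999 D135637
theorem N70694 : nd 70694 = n135638 := ndS (p := 38999) (l := 7) rfl N38999 D135638
theorem N70695 : nd 70695 = n135640 := ndS (p := 39000) (l := 6) rfl N39000 D135640
theorem N70696 : nd 70696 = n135641 := ndS (p := 39001) (l := 0) rfl N39001 D135641
theorem N70697 : nd 70697 = n135642 := ndS (p := 39001) (l := 1) rfl N39001 D135642
theorem N70698 : nd 70698 = n135643 := ndS (p := 39001) (l := 5) rfl N39001 D135643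
theorem N70699 : nd 70699 = n135644 := ndS (p := 39001) (l := 7) rfl N39001 D135644
theorem N70700 : nd 70700 = n135645 := ndS (p := 39002) (l := 2) rfl N39002 D135645
theorem N70701 : nd 70701 = n135646 := ndS (p := 39002) (l := 4) rfl N39002 D135646
theorem N70702 : nd 70702 = n135649 := ndS (p := 39003) (l := 1) rfl N39003 D135649
theorem N70703 : nd 70703 = n135650 := ndS (p := 39003) (l := 5) rfl N39003 D135650
theorem N70704 : nd 70704 = n135651 := ndS (p := 39003) (l := 7) rfl N39003 D135651
theorem N70705 : nd 70705 = n135652 := ndS (p := 39004) (l := 0) rfl N39004 D135652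
theorem N70706 : nd 70706 = n135653 := ndS (p := 39004) (l := 1) rfl N39004 D135653
theorem N70707 : nd 70707 = n135654 := ndS (p := 39004) (l := 5) rfl N39004 D135654
theorem N70708 : nd 70708 = n135657 := ndS (p := 39005) (l := 4) rfl N39005 D135657
theorem N70709 : nd 70709 = n135662 := ndS (p := 39006) (l := 4) rfl N39006 D135662
theorem N70710 : nd 70710 = n135664 := ndS (p := 39006) (l := 6) rfl N39006 D135664
theorem N70711 : nd 70711 = n135668 := ndS (p := 39008) (l := 3) rfl N39008 D135668
theorem N70712 : nd 70712 = n135670 := ndS (p := 39008) (l := 6) rfl N39008 D135670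
theorem N70713 : nd 70713 = n135671 := ndS (p := 39009) (l := 0) rfl N39009 D135671
theorem N70714 : nd 70714 = n135677 := ndS (p := 39011) (l := 4) rfl N39011 D135677
theorem N70715 : nd 70715 = n135678 := ndS (p := 39013) (l := 5) rfl N39013 D135678
theorem N70716 : nd 70716 = n135681 := ndS (p := 39018) (l := 3) rfl N39018 D135681
theorem N70717 : nd 70717 = n135682 := ndS (p := 39018) (l := 4) rfl N39018 D135682
theorem N70718 : nd 70718 = n135684 := ndS (p := 39018) (l := 6) rfl N39018 D135684
theorem N70719 : nd 70719 = n135686 := ndS (p := 39019) (l := 3) rfl N39019 D135686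
theorem N70720 : nd 70720 = n135687 := ndS (p := 39019) (l := 4) rfl N39019 D135687
theorem N70721 : nd 70721 = n135689 := ndS (p := 39019) (l := 6) rfl N39019 D135689
theorem N70722 : nd 70722 = n135690 := ndS (p := 39020) (l := 5) rfl N39020 D135690
theorem N70723 : nd 70723 = n135691 := ndS (p := 39021) (l := 0) rfl N39021 D135691
theorem N70724 : nd 70724 = n135692 := ndS (p := 39021) (l := 1) rfl N39021 D135692
theorem N70725 : nd 70725 = n135695 := ndS (p := 39022) (l := 0) rfl N39022 D135695
theorem N70726 : nd 70726 = n135696 := ndS (p := 39022) (l := 1) rfl N39022 D135696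
theorem N70727 : nd 70727 = n135697 := ndS (p := 39022) (l := 7) rfl N39022 D135697
theorem N70728 : nd 70728 = n135700 := ndS (p := 39023) (l := 4) rfl N39023 D135700
theorem N70729 : nd 70729 = n135704 := ndS (p := 39024) (l := 3) rfl N39024 D135704
theorem N70730 : nd 70730 = n135705 := ndS (p := 39024) (l := 4) rfl N39024 D135705
theorem N70731 : nd 70731 = n135707 := ndS (p := 39024) (l := 6) rfl N39024 D135707
theorem N70732 : nd 70732 = n135708 := ndS (p := 39025) (l := 5) rfl N39025 D135708
theorem N70733 : nd 70733 = n135710 := ndS (p := 39026) (l := 1) rfl N39026 D135710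
theorem N70734 : nd 70734 = n135711 := ndS (p := 39026) (l := 4) rfl N39026 D135711
theorem N70735 : nd 70735 = n135712 := ndS (p := 39026) (l := 6) rfl N39026 D135712
theorem N70736 : nd 70736 = n135715 := ndS (p := 39027) (l := 5) rfl N39027 D135715
theorem N70737 : nd 70737 = n135719 := ndS (p := 39028) (l := 5) rfl N39028 D135719
theorem N70738 : nd 70738 = n135721 := ndS (p := 39029) (l := 3) rfl N39029 D135721
theorem N70739 : nd 70739 = n135722 := ndS (p := 39029) (l := 5) rfl N39029 D135722
theorem N70740 : nd 70740 = n135723 := ndS (p := 39030) (l := 0) rfl N39030 D135723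
theorem N70741 : nd 70741 = n135724 := ndS (p := 39030) (l := 1) rfl N39030 D135724
theorem N70742 : nd 70742 = n135725 := ndS (p := 39030) (l := 4) rfl N39030 D135725
theorem N70743 : nd 70743 = n135726 := ndS (p := 39030) (l := 7) rfl N39030 D135726
theorem N70744 : nd 70744 = n135727 := ndS (p := 39032) (l := 3) rfl N39032 D135727
theorem N70745 : nd 70745 = n135728 := ndS (p := 39032) (l := 5) rfl N39032 D135728
theorem N70746 : nd 70746 = n135729 := ndS (p := 39033) (l := 4) rfl N39033 D135729
theorem N70747 : nd 70747 = n135730 := ndS (p := 39034) (l := 4) rfl N39034 D135730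
theorem N70748 : nd 70748 = n135733 := ndS (p := 39035) (l := 3) rfl N39035 D135733
theorem N70749 : nd 70749 = n135735 := ndS (p := 39037) (l := 0) rfl N39037 D135735
theorem N70750 : nd 70750 = n135736 := ndS (p := 39037) (l := 1) rfl N39037 D135736
theorem N70751 : nd 70751 = n135738 := ndS (p := 39037) (l := 5) rfl N39037 D135738
theorem N70752 : nd 70752 = n135739 := ndS (p := 39037) (l := 7) rfl N39037 D135739
theorem N70753 : nd 70753 = n135740 := ndS (p := 39038) (l := 6) rfl N39038 D135740
theorem N70754 : nd 70754 = n135742 := ndS (p := 39040) (l := 4) rfl N39040 D135742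
theorem N70755 : nd 70755 = n135745 := ndS (p := 39041) (l := 3) rfl N39041 D135745
theorem N70756 : nd 70756 = n135748 := ndS (p := 39042) (l := 5) rfl N39042 D135748
theorem N70757 : nd 70757 = n135749 := ndS (p := 39042) (l := 6) rfl N39042 D135749
theorem N70758 : nd 70758 = n135752 := ndS (p := 39043) (l := 4) rfl N39043 D135752
theorem N70759 : nd 70759 = n135753 := ndS (p := 39043) (l := 6) rfl N39043 D135753
theorem N70760 : nd 70760 = n135754 := ndS (p := 39044) (l := 0) rfl N39044 D135754
theorem N70761 : nd 70761 = n135755 := ndS (p := 39044) (l := 1) rfl N39044 D135755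
theorem N70762 : nd 70762 = n135756 := ndS (p := 39044) (l := 5) rfl N39044 D135756
theorem N70763 : nd 70763 = n135757 := ndS (p := 39044) (l := 7) rfl N39044 D135757
theorem N70764 : nd 70764 = n135758 := ndS (p := 39045) (l := 0) rfl N39045 D135758
theorem N70765 : nd 70765 = n135759 := ndS (p := 39045) (l := 1) rfl N39045 D135759
theorem N70766 : nd 70766 = n135760 := ndS (p := 39045) (l := 5) rfl N39045 D135760
theorem N70767 : nd 70767 = n135761 := ndS (p := 39045) (l := 7) rfl N39045 D135761
theorem N70768 : nd 70768 = n135762 := ndS (p := 39046) (l := 3) rfl N39046 D135762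
theorem N70769 : nd 70769 = n135763 := ndS (p := 39046) (l := 5) rfl N39046 D135763
theorem N70770 : nd 70770 = n135764 := ndS (p := 39046) (l := 6) rfl N39046 D135764
theorem N70771 : nd 70771 = n135767 := ndS (p := 39048) (l := 4) rfl N39048 D135767
theorem N70772 : nd 70772 = n135768 := ndS (p := 39048) (l := 7) rfl N39048 D135768
theorem N70773 : nd 70773 = n135769 := ndS (p := 39050) (l := 3) rfl N39050 D135769
theorem N70774 : nd 70774 = n135770 := ndS (p := 39050) (l := 5) rfl N39050 D135770
theorem N70775 : nd 70775 = n135773 := ndS (p := 39052) (l := 5) rfl N39052 D135773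
theorem N70776 : nd 70776 = n135782 := ndS (p := 39057) (l := 0) rfl N39057 D135782
theorem N70777 : nd 70777 = n135784 := ndS (p := 39057) (l := 5) rfl N39057 D135784
theorem N70778 : nd 70778 = n135785 := ndS (p := 39057) (l := 7) rfl N39057 D135785
theorem N70779 : nd 70779 = n135787 := ndS (p := 39058) (l := 1) rfl N39058 D135787
theorem N70780 : nd 70780 = n135788 := ndS (p := 39058) (l := 5) rfl N39058 D135788
theorem N70781 : nd 70781 = n135789 := ndS (p := 39058) (l := 7) rfl N39058 D135789
theorem N70782 : nd 70782 = n135790 := ndS (p := 39059) (l := 1) rfl N39059 D135790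
theorem N70783 : nd 70783 = n135791 := ndS (p := 39059) (l := 4) rfl N39059 D135791
theorem N70784 : nd 70784 = n135792 := ndS (p := 39059) (l := 7) rfl N39059 D135792
theorem N70785 : nd 70785 = n135793 := ndS (p := 39061) (l := 4) rfl N39061 D135793
theorem N70786 : nd 70786 = n135798 := ndS (p := 39062) (l := 6) rfl N39062 D135798
theorem N70787 : nd 70787 = n135800 := ndS (p := 39063) (l := 6) rfl N39063 D135800
theorem N70788 : nd 70788 = n135802 := ndS (p := 39064) (l := 1) rfl N39064 D135802
theorem N70789 : nd 70789 = n135803 := ndS (p := 39064) (l := 5) rfl N39064 D135803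
theorem N70790 : nd 70790 = n135805 := ndS (p := 39065) (l := 0) rfl N39065 D135805
theorem N70791 : nd 70791 = n135807 := ndS (p := 39065) (l := 5) rfl N39065 D135807
theorem N70792 : nd 70792 = n135808 := ndS (p := 39065) (l := 7) rfl N39065 D135808
theorem N70793 : nd 70793 = n135809 := ndS (p := 39066) (l := 4) rfl N39066 D135809
theorem N70794 : nd 70794 = n135810 := ndS (p := 39066) (l := 7) rfl N39066 D135810
theorem N70795 : nd 70795 = n135811 := ndS (p := 39068) (l := 6) rfl N39068 D135811
theorem N70796 : nd 70796 = n135812 := ndS (p := 39069) (l := 2) rfl N39069 D135812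
theorem N70797 : nd 70797 = n135813 := ndS (p := 39069) (l := 4) rfl N39069 D135813
theorem N70798 : nd 70798 = n135814 := ndS (p := 39069) (l := 6) rfl N39069 D135814
theorem N70799 : nd 70799 = n135815 := ndS (p := 39069) (l := 7) rfl N39069 D135815
theorem N70800 : nd 70800 = n135816 := ndS (p := 39070) (l := 0) rfl N39070 D135816
theorem N70801 : nd 70801 = n135818 := ndS (p := 39070) (l := 3) rfl N39070 D135818
theorem N70802 : nd 70802 = n135820 := ndS (p := 39070) (l := 6) rfl N39070 D135820
theorem N70803 : nd 70803 = n135821 := ndS (p := 39070) (l := 7) rfl N39070 D135821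
theorem N70804 : nd 70804 = n135822 := ndS (p := 39071) (l := 4) rfl N39071 D135822
theorem N70805 : nd 70805 = n135823 := ndS (p := 39071) (l := 6) rfl N39071 D135823
theorem N70806 : nd 70806 = n135824 := ndS (p := 39072) (l := 0) rfl N39072 D135824
theorem N70807 : nd 70807 = n135826 := ndS (p := 39072) (l := 5) rfl N39072 D135826
theorem N70808 : nd 70808 = n135827 := ndS (p := 39072) (l := 7) rfl N39072 D135827
theorem N70809 : nd 70809 = n135828 := ndS (p := 39073) (l := 6) rfl N39073 D135828
theorem N70810 : nd 70810 = n135829 := ndS (p := 39074) (l := 5) rfl N39074 D135829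
theorem N70811 : nd 70811 = n135830 := ndS (p := 39074) (l := 6) rfl N39074 D135830
theorem N70812 : nd 70812 = n135832 := ndS (p := 39075) (l := 6) rfl N39075 D135832
theorem N70813 : nd 70813 = n135833 := ndS (p := 39076) (l := 4) rfl N39076 D135833
theorem N70814 : nd 70814 = n135834 := ndS (p := 39076) (l := 6) rfl N39076 D135834
theorem N70815 : nd 70815 = n135836 := ndS (p := 39077) (l := 1) rfl N39077 D135836
theorem N70816 : nd 70816 = n135837 := ndS (p := 39077) (l := 5) rfl N39077 D135837
theorem N70817 : nd 70817 = n135838 := ndS (p := 39077) (l := 7) rfl N39077 D135838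
theorem N70818 : nd 70818 = n135839 := ndS (p := 39078) (l := 3) rfl N39078 D135839
theorem N70819 : nd 70819 = n135841 := ndS (p := 39078) (l := 6) rfl N39078 D135841
theorem N70820 : nd 70820 = n135842 := ndS (p := 39079) (l := 0) rfl N39079 D135842
theorem N70821 : nd 70821 = n135843 := ndS (p := 39079) (l := 1) rfl N39079 D135843
theorem N70822 : nd 70822 = n135844 := ndS (p := 39079) (l := 7) rfl N39079 D135844
theorem N70823 : nd 70823 = n135845 := ndS (p := 39080) (l := 0) rfl N39080 D135845
theorem N70824 : nd 70824 = n135846 := ndS (p := 39080) (l := 1) rfl N39080 D135846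
theorem N70825 : nd 70825 = n135848 := ndS (p := 39081) (l := 6) rfl N39081 D135848
theorem N70826 : nd 70826 = n135849 := ndS (p := 39082) (l := 0) rfl N39082 D135849
theorem N70827 : nd 70827 = n135850 := ndS (p := 39082) (l := 1) rfl N39082 D135850
theorem N70828 : nd 70828 = n135851 := ndS (p := 39082) (l := 5) rfl N39082 D135851
theorem N70829 : nd 70829 = n135852 := ndS (p := 39082) (l := 7) rfl N39082 D135852
theorem N70830 : nd 70830 = n135855 := ndS (p := 39083) (l := 4) rfl N39083 D135855
theorem N70831 : nd 70831 = n135859 := ndS (p := 39084) (l := 3) rfl N39084 D135859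
theorem N70832 : nd 70832 = n135860 := ndS (p := 39084) (l := 4) rfl N39084 D135860
theorem N70833 : nd 70833 = n135862 := ndS (p := 39084) (l := 6) rfl N39084 D135862
theorem N70834 : nd 70834 = n135870 := ndS (p := 39086) (l := 1) rfl N39086 D135870
theorem N70835 : nd 70835 = n135872 := ndS (p := 39087) (l := 3) rfl N39087 D135872
theorem N70836 : nd 70836 = n135874 := ndS (p := 39087) (l := 6) rfl N39087 D135874
theorem N70837 : nd 70837 = n135875 := ndS (p := 39088) (l := 4) rfl N39088 D135875
theorem N70838 : nd 70838 = n135879 := ndS (p := 39090) (l := 6) rfl N39090 D135879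
theorem N70839 : nd 70839 = n135881 := ndS (p := 39091) (l := 5) rfl N39091 D135881
theorem N70840 : nd 70840 = n135882 := ndS (p := 39092) (l := 0) rfl N39092 D135882
theorem N70841 : nd 70841 = n135883 := ndS (p := 39092) (l := 1) rfl N39092 D135883
theorem N70842 : nd 70842 = n135884 := ndS (p := 39092) (l := 2) rfl N39092 D135884
theorem N70843 : nd 70843 = n135885 := ndS (p := 39092) (l := 5) rfl N39092 D135885
theorem N70844 : nd 70844 = n135886 := ndS (p := 39092) (l := 6) rfl N39092 D135886
theorem N70845 : nd 70845 = n135887 := ndS (p := 39093) (l := 6) rfl N39093 D135887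
theorem N70846 : nd 70846 = n135888 := ndS (p := 39094) (l := 0) rfl N39094 D135888
theorem N70847 : nd 70847 = n135889 := ndS (p := 39094) (l := 1) rfl N39094 D135889
theorem N70848 : nd 70848 = n135890 := ndS (p := 39094) (l := 5) rfl N39094 D135890
theorem N70849 : nd 70849 = n135891 := ndS (p := 39094) (l := 7) rfl N39094 D135891
theorem N70850 : nd 70850 = n135892 := ndS (p := 39095) (l := 4) rfl N39095 D135892
theorem N70851 : nd 70851 = n135893 := ndS (p := 39097) (l := 0) rfl N39097 D135893
theorem N70852 : nd 70852 = n135894 := ndS (p := 39097) (l := 1) rfl N39097 D135894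
theorem N70853 : nd 70853 = n135895 := ndS (p := 39097) (l := 2) rfl N39097 D135895
theorem N70854 : nd 70854 = n135896 := ndS (p := 39097) (l := 5) rfl N39097 D135896
theorem N70855 : nd 70855 = n135897 := ndS (p := 39097) (l := 6) rfl N39097 D135897
theorem N70856 : nd 70856 = n135898 := ndS (p := 39098) (l := 6) rfl N39098 D135898
theorem N70857 : nd 70857 = n135899 := ndS (p := 39099) (l := 5) rfl N39099 D135899
theorem N70858 : nd 70858 = n135900 := ndS (p := 39099) (l := 7) rfl N39099 D135900
theorem N70859 : nd 70859 = n135901 := ndS (p := 39100) (l := 0) rfl N39100 D135901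
theorem N70860 : nd 70860 = n135902 := ndS (p := 39100) (l := 1) rfl N39100 D135902
theorem N70861 : nd 70861 = n135903 := ndS (p := 39100) (l := 2) rfl N39100 D135903
theorem N70862 : nd 70862 = n135904 := ndS (p := 39100) (l := 5) rfl N39100 D135904
theorem N70863 : nd 70863 = n135905 := ndS (p := 39100) (l := 6) rfl N39100 D135905
theorem N70864 : nd 70864 = n135906 := ndS (p := 39101) (l := 6) rfl N39101 D135906
theorem N70865 : nd 70865 = n135907 := ndS (p := 39102) (l := 5) rfl N39102 D135907
theorem N70866 : nd 70866 = n135908 := ndS (p := 39102) (l := 7) rfl N39102 D135908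
theorem N70867 : nd 70867 = n135909 := ndS (p := 39103) (l := 0) rfl N39103 D135909
theorem N70868 : nd 70868 = n135910 := ndS (p := 39103) (l := 2) rfl N39103 D135910
theorem N70869 : nd 70869 = n135911 := ndS (p := 39103) (l := 3) rfl N39103 D135911
theorem N70870 : nd 70870 = n135912 := ndS (p := 39103) (l := 4) rfl N39103 D135912
theorem N70871 : nd 70871 = n135914 := ndS (p := 39103) (l := 6) rfl N39103 D135914
theorem N70872 : nd 70872 = n135915 := ndS (p := 39103) (l := 7) rfl N39103 D135915
theorem N70873 : nd 70873 = n135916 := ndS (p := 39104) (l := 3) rfl N39104 D135916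
theorem N70874 : nd 70874 = n135917 := ndS (p := 39104) (l := 4) rfl N39104 D135917
theorem N70875 : nd 70875 = n135919 := ndS (p := 39104) (l := 6) rfl N39104 D135919
theorem N70876 : nd 70876 = n135922 := ndS (p := 39105) (l := 5) rfl N39105 D135922
theorem N70877 : nd 70877 = n135923 := ndS (p := 39106) (l := 0) rfl N39106 D135923
theorem N70878 : nd 70878 = n135924 := ndS (p := 39106) (l := 1) rfl N39106 D135924
theorem N70879 : nd 70879 = n135925 := ndS (p := 39106) (l := 4) rfl N39106 D135925
theorem N70880 : nd 70880 = n135929 := ndS (p := 39108) (l := 3) rfl N39108 D135929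
theorem N70881 : nd 70881 = n135930 := ndS (p := 39108) (l := 6) rfl N39108 D135930
theorem N70882 : nd 70882 = n135931 := ndS (p := 39109) (l := 3) rfl N39109 D135931
theorem N70883 : nd 70883 = n135932 := ndS (p := 39109) (l := 6) rfl N39109 D135932
theorem N70884 : nd 70884 = n135933 := ndS (p := 39110) (l := 0) rfl N39110 D135933
theorem N70885 : nd 70885 = n135934 := ndS (p := 39110) (l := 1) rfl N39110 D135934
theorem N70886 : nd 70886 = n135935 := ndS (p := 39110) (l := 7) rfl N39110 D135935
theorem N70887 : nd 70887 = n135938 := ndS (p := 39113) (l := 0) rfl N39113 D135938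
theorem N70888 : nd 70888 = n135939 := ndS (p := 39113) (l := 1) rfl N39113 D135939
theorem N70889 : nd 70889 = n135940 := ndS (p := 39113) (l := 2) rfl N39113 D135940
theorem N70890 : nd 70890 = n135943 := ndS (p := 39116) (l := 0) rfl N39116 D135943
theorem N70891 : nd 70891 = n135944 := ndS (p := 39116) (l := 1) rfl N39116 D135944
theorem N70892 : nd 70892 = n135945 := ndS (p := 39116) (l := 2) rfl N39116 D135945
theorem N70893 : nd 70893 = n135946 := ndS (p := 39117) (l := 0) rfl N39117 D135946
theorem N70894 : nd 70894 = n135947 := ndS (p := 39117) (l := 1) rfl N39117 D135947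
theorem N70895 : nd 70895 = n135948 := ndS (p := 39117) (l := 2) rfl N39117 D135948
theorem N70896 : nd 70896 = n135949 := ndS (p := 39117) (l := 6) rfl N39117 D135949
theorem N70897 : nd 70897 = n135950 := ndS (p := 39118) (l := 5) rfl N39118 D135950
theorem N70898 : nd 70898 = n135951 := ndS (p := 39118) (l := 7) rfl N39118 D135951
theorem N70899 : nd 70899 = n135952 := ndS (p := 39119) (l := 0) rfl N39119 D135952
theorem N70900 : nd 70900 = n135953 := ndS (p := 39119) (l := 1) rfl N39119 D135953
theorem N70901 : nd 70901 = n135954 := ndS (p := 39119) (l := 2) rfl N39119 D135954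
theorem N70902 : nd 70902 = n135955 := ndS (p := 39119) (l := 6) rfl N39119 D135955
theorem N70903 : nd 70903 = n135956 := ndS (p := 39120) (l := 5) rfl N39120 D135956
theorem N70904 : nd 70904 = n135957 := ndS (p := 39121) (l := 3) rfl N39121 D135957
theorem N70905 : nd 70905 = n135958 := ndS (p := 39121) (l := 4) rfl N39121 D135958
theorem N70906 : nd 70906 = n135961 := ndS (p := 39122) (l := 3) rfl N39122 D135961
theorem N70907 : nd 70907 = n135964 := ndS (p := 39123) (l := 5) rfl N39123 D135964
theorem N70908 : nd 70908 = n135966 := ndS (p := 39124) (l := 0) rfl N39124 D135966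
theorem N70909 : nd 70909 = n135967 := ndS (p := 39124) (l := 1) rfl N39124 D135967
theorem N70910 : nd 70910 = n135968 := ndS (p := 39124) (l := 4) rfl N39124 D135968
theorem N70911 : nd 70911 = n135969 := ndS (p := 39124) (l := 6) rfl N39124 D135969
theorem N70912 : nd 70912 = n135974 := ndS (p := 39125) (l := 3) rfl N39125 D135974
theorem N70913 : nd 70913 = n135975 := ndS (p := 39125) (l := 6) rfl N39125 D135975
theorem N70914 : nd 70914 = n135977 := ndS (p := 39126) (l := 1) rfl N39126 D135977
theorem N70915 : nd 70915 = n135978 := ndS (p := 39126) (l := 5) rfl N39126 D135978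
theorem N70916 : nd 70916 = n135980 := ndS (p := 39127) (l := 3) rfl N39127 D135980
theorem N70917 : nd 70917 = n135981 := ndS (p := 39127) (l := 5) rfl N39127 D135981
theorem N70918 : nd 70918 = n135982 := ndS (p := 39128) (l := 3) rfl N39128 D135982
theorem N70919 : nd 70919 = n135983 := ndS (p := 39128) (l := 5) rfl N39128 D135983
theorem N70920 : nd 70920 = n135985 := ndS (p := 39129) (l := 0) rfl N39129 D135985
theorem N70921 : nd 70921 = n135986 := ndS (p := 39129) (l := 1) rfl N39129 D135986
theorem N70922 : nd 70922 = n135987 := ndS (p := 39129) (l := 4) rfl N39129 D135987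
theorem N70923 : nd 70923 = n135988 := ndS (p := 39129) (l := 7) rfl N39129 D135988
theorem N70924 : nd 70924 = n135990 := ndS (p := 39131) (l := 5) rfl N39131 D135990
theorem N70925 : nd 70925 = n135992 := ndS (p := 39133) (l := 0) rfl N39133 D135992
theorem N70926 : nd 70926 = n135993 := ndS (p := 39133) (l := 1) rfl N39133 D135993
theorem N70927 : nd 70927 = n135994 := ndS (p := 39133) (l := 2) rfl N39133 D135994
theorem N70928 : nd 70928 = n135995 := ndS (p := 39133) (l := 6) rfl N39133 D135995
theorem N70929 : nd 70929 = n135997 := ndS (p := 39136) (l := 3) rfl N39136 D135997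
theorem N70930 : nd 70930 = n135999 := ndS (p := 39136) (l := 6) rfl N39136 D135999
theorem N70931 : nd 70931 = n136001 := ndS (p := 39137) (l := 6) rfl N39137 D136001
theorem N70932 : nd 70932 = n136003 := ndS (p := 39139) (l := 0) rfl N39139 D136003
theorem N70933 : nd 70933 = n136004 := ndS (p := 39139) (l := 1) rfl N39139 D136004
theorem N70934 : nd 70934 = n136005 := ndS (p := 39139) (l := 6) rfl N39139 D136005
theorem N70935 : nd 70935 = n136006 := ndS (p := 39140) (l := 0) rfl N39140 D136006
theorem N70936 : nd 70936 = n136007 := ndS (p := 39140) (l := 1) rfl N39140 D136007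
theorem N70937 : nd 70937 = n136008 := ndS (p := 39140) (l := 5) rfl N39140 D136008
theorem N70938 : nd 70938 = n136010 := ndS (p := 39141) (l := 0) rfl N39141 D136010
theorem N70939 : nd 70939 = n136011 := ndS (p := 39141) (l := 1) rfl N39141 D136011
theorem N70940 : nd 70940 = n136012 := ndS (p := 39141) (l := 5) rfl N39141 D136012
theorem N70941 : nd 70941 = n136013 := ndS (p := 39141) (l := 7) rfl N39141 D136013
theorem N70942 : nd 70942 = n136014 := ndS (p := 39142) (l := 3) rfl N39142 D136014
theorem N70943 : nd 70943 = n136015 := ndS (p := 39142) (l := 5) rfl N39142 D136015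
theorem N70944 : nd 70944 = n136018 := ndS (p := 39143) (l := 5) rfl N39143 D136018
theorem N70945 : nd 70945 = n136019 := ndS (p := 39144) (l := 0) rfl N39144 D136019
theorem N70946 : nd 70946 = n136020 := ndS (p := 39144) (l := 1) rfl N39144 D136020
theorem N70947 : nd 70947 = n136021 := ndS (p := 39144) (l := 4) rfl N39144 D136021
theorem N70948 : nd 70948 = n136022 := ndS (p := 39144) (l := 7) rfl N39144 D136022
theorem N70949 : nd 70949 = n136023 := ndS (p := 39146) (l := 3) rfl N39146 D136023
theorem N70950 : nd 70950 = n136024 := ndS (p := 39146) (l := 5) rfl N39146 D136024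
theorem N70951 : nd 70951 = n136026 := ndS (p := 39151) (l := 1) rfl N39151 D136026
theorem N70952 : nd 70952 = n136027 := ndS (p := 39151) (l := 2) rfl N39151 D136027
theorem N70953 : nd 70953 = n136028 := ndS (p := 39151) (l := 6) rfl N39151 D136028
theorem N70954 : nd 70954 = n136029 := ndS (p := 39152) (l := 5) rfl N39152 D136029
theorem N70955 : nd 70955 = n136030 := ndS (p := 39153) (l := 3) rfl N39153 D136030
theorem N70956 : nd 70956 = n136031 := ndS (p := 39153) (l := 4) rfl N39153 D136031
theorem N70957 : nd 70957 = n136036 := ndS (p := 39155) (l := 5) rfl N39155 D136036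
theorem N70958 : nd 70958 = n136040 := ndS (p := 39156) (l := 4) rfl N39156 D136040
theorem N70959 : nd 70959 = n136041 := ndS (p := 39156) (l := 6) rfl N39156 D136041
theorem N70960 : nd 70960 = n136048 := ndS (p := 39158) (l := 5) rfl N39158 D136048
theorem N70961 : nd 70961 = n136052 := ndS (p := 39159) (l := 3) rfl N39159 D136052
theorem N70962 : nd 70962 = n136054 := ndS (p := 39159) (l := 6) rfl N39159 D136054
theorem N70963 : nd 70963 = n136061 := ndS (p := 39162) (l := 6) rfl N39162 D136061
theorem N70964 : nd 70964 = n136062 := ndS (p := 39164) (l := 6) rfl N39164 D136062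
theorem N70965 : nd 70965 = n136063 := ndS (p := 39166) (l := 3) rfl N39166 D136063
theorem N70966 : nd 70966 = n136066 := ndS (p := 39167) (l := 6) rfl N39167 D136066
theorem N70967 : nd 70967 = n136067 := ndS (p := 39168) (l := 5) rfl N39168 D136067
theorem N70968 : nd 70968 = n136069 := ndS (p := 39169) (l := 6) rfl N39169 D136069
theorem N70969 : nd 70969 = n136077 := ndS (p := 39171) (l := 7) rfl N39171 D136077
theorem N70970 : nd 70970 = n136078 := ndS (p := 39172) (l := 3) rfl N39172 D136078
theorem N70971 : nd 70971 = n136080 := ndS (p := 39172) (l := 6) rfl N39172 D136080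
theorem N70972 : nd 70972 = n136081 := ndS (p := 39173) (l := 3) rfl N39173 D136081
theorem N70973 : nd 70973 = n136088 := ndS (p := 39175) (l := 5) rfl N39175 D136088
theorem N70974 : nd 70974 = n136089 := ndS (p := 39175) (l := 6) rfl N39175 D136089
theorem N70975 : nd 70975 = n136092 := ndS (p := 39177) (l := 4) rfl N39177 D136092
theorem N70976 : nd 70976 = n136093 := ndS (p := 39177) (l := 5) rfl N39177 D136093
theorem N70977 : nd 70977 = n136094 := ndS (p := 39177) (l := 6) rfl N39177 D136094
theorem N70978 : nd 70978 = n136095 := ndS (p := 39178) (l := 3) rfl N39178 D136095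
theorem N70979 : nd 70979 = n136097 := ndS (p := 39178) (l := 5) rfl N39178 D136097
theorem N70980 : nd 70980 = n136099 := ndS (p := 39179) (l := 5) rfl N39179 D136099
theorem N70981 : nd 70981 = n136100 := ndS (p := 39179) (l := 6) rfl N39179 D136100
theorem N70982 : nd 70982 = n136101 := ndS (p := 39180) (l := 0) rfl N39180 D136101
theorem N70983 : nd 70983 = n136102 := ndS (p := 39180) (l := 1) rfl N39180 D136102
theorem N70984 : nd 70984 = n136103 := ndS (p := 39180) (l := 4) rfl N39180 D136103
theorem N70985 : nd 70985 = n136104 := ndS (p := 39180) (l := 6) rfl N39180 D136104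
theorem N70986 : nd 70986 = n136106 := ndS (p := 39181) (l := 1) rfl N39181 D136106
theorem N70987 : nd 70987 = n136116 := ndS (p := 39183) (l := 4) rfl N39183 D136116
theorem N70988 : nd 70988 = n136119 := ndS (p := 39184) (l := 4) rfl N39184 D136119
theorem N70989 : nd 70989 = n136120 := ndS (p := 39184) (l := 5) rfl N39184 D136120
theorem N70990 : nd 70990 = n136124 := ndS (p := 39185) (l := 1) rfl N39185 D136124
theorem N70991 : nd 70991 = n136133 := ndS (p := 39187) (l := 1) rfl N39187 D136133
theorem N70992 : nd 70992 = n136140 := ndS (p := 39188) (l := 6) rfl N39188 D136140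
theorem N70993 : nd 70993 = n136144 := ndS (p := 39189) (l := 4) rfl N39189 D136144
theorem N70994 : nd 70994 = n136150 := ndS (p := 39190) (l := 5) rfl N39190 D136150
theorem N70995 : nd 70995 = n136151 := ndS (p := 39190) (l := 6) rfl N39190 D136151
theorem N70996 : nd 70996 = n136153 := ndS (p := 39191) (l := 0) rfl N39191 D136153
theorem N70997 : nd 70997 = n136156 := ndS (p := 39191) (l := 6) rfl N39191 D136156
theorem N70998 : nd 70998 = n136157 := ndS (p := 39191) (l := 7) rfl N39191 D136157
theorem N70999 : nd 70999 = n136173 := ndS (p := 39195) (l := 5) rfl N39195 D136173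
theorem N71000 : nd 71000 = n136194 := ndS (p := 39198) (l := 3) rfl N39198 D136194
theorem N71001 : nd 71001 = n136195 := ndS (p := 39198) (l := 4) rfl N39198 D136195
theorem N71002 : nd 71002 = n136199 := ndS (p := 39199) (l := 3) rfl N39199 D136199
theorem N71003 : nd 71003 = n136200 := ndS (p := 39199) (l := 4) rfl N39199 D136200
theorem N71004 : nd 71004 = n136202 := ndS (p := 39199) (l := 6) rfl N39199 D136202
theorem N71005 : nd 71005 = n136215 := ndS (p := 39201) (l := 2) rfl N39201 D136215
theorem N71006 : nd 71006 = n136216 := ndS (p := 39201) (l := 4) rfl N39201 D136216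
theorem N71007 : nd 71007 = n136217 := ndS (p := 39201) (l := 6) rfl N39201 D136217
theorem N71008 : nd 71008 = n136220 := ndS (p := 39202) (l := 5) rfl N39202 D136220
theorem N71009 : nd 71009 = n136222 := ndS (p := 39203) (l := 2) rfl N39203 D136222
theorem N71010 : nd 71010 = n136223 := ndS (p := 39203) (l := 4) rfl N39203 D136223
theorem N71011 : nd 71011 = n136224 := ndS (p := 39203) (l := 6) rfl N39203 D136224
theorem N71012 : nd 71012 = n136225 := ndS (p := 39204) (l := 0) rfl N39204 D136225
theorem N71013 : nd 71013 = n136227 := ndS (p := 39204) (l := 5) rfl N39204 D136227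
theorem N71014 : nd 71014 = n136228 := ndS (p := 39204) (l := 7) rfl N39204 D136228
theorem N71015 : nd 71015 = n136230 := ndS (p := 39205) (l := 3) rfl N39205 D136230
theorem N71016 : nd 71016 = n136231 := ndS (p := 39205) (l := 4) rfl N39205 D136231
theorem N71017 : nd 71017 = n136232 := ndS (p := 39205) (l := 5) rfl N39205 D136232
theorem N71018 : nd 71018 = n136239 := ndS (p := 39207) (l := 3) rfl N39207 D136239
theorem N71019 : nd 71019 = n136241 := ndS (p := 39207) (l := 6) rfl N39207 D136241
theorem N71020 : nd 71020 = n136242 := ndS (p := 39208) (l := 3) rfl N39208 D136242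
theorem N71021 : nd 71021 = n136244 := ndS (p := 39208) (l := 6) rfl N39208 D136244
theorem N71022 : nd 71022 = n136246 := ndS (p := 39209) (l := 1) rfl N39209 D136246
theorem N71023 : nd 71023 = n136251 := ndS (p := 39212) (l := 5) rfl N39212 D136251
theorem N71024 : nd 71024 = n136252 := ndS (p := 39212) (l := 6) rfl N39212 D136252
theorem N71025 : nd 71025 = n136253 := ndS (p := 39213) (l := 3) rfl N39213 D136253
theorem N71026 : nd 71026 = n136255 := ndS (p := 39213) (l := 6) rfl N39213 D136255
theorem N71027 : nd 71027 = n136256 := ndS (p := 39214) (l := 4) rfl N39214 D136256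
theorem N71028 : nd 71028 = n136258 := ndS (p := 39216) (l := 1) rfl N39216 D136258
theorem N71029 : nd 71029 = n136259 := ndS (p := 39216) (l := 2) rfl N39216 D136259
theorem N71030 : nd 71030 = n136261 := ndS (p := 39216) (l := 6) rfl N39216 D136261
theorem N71031 : nd 71031 = n136263 := ndS (p := 39218) (l := 5) rfl N39218 D136263
theorem N71032 : nd 71032 = n136264 := ndS (p := 39219) (l := 1) rfl N39219 D136264
theorem N71033 : nd 71033 = n136265 := ndS (p := 39219) (l := 2) rfl N39219 D136265
theorem N71034 : nd 71034 = n136266 := ndS (p := 39219) (l := 5) rfl N39219 D136266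
theorem N71035 : nd 71035 = n136269 := ndS (p := 39221) (l := 5) rfl N39221 D136269
theorem N71036 : nd 71036 = n136270 := ndS (p := 39221) (l := 7) rfl N39221 D136270
theorem N71037 : nd 71037 = n136272 := ndS (p := 39222) (l := 4) rfl N39222 D136272
theorem N71038 : nd 71038 = n136273 := ndS (p := 39222) (l := 6) rfl N39222 D136273
theorem N71039 : nd 71039 = n136275 := ndS (p := 39223) (l := 3) rfl N39223 D136275
theorem N71040 : nd 71040 = n136276 := ndS (p := 39223) (l := 4) rfl N39223 D136276
theorem N71041 : nd 71041 = n136277 := ndS (p := 39223) (l := 5) rfl N39223 D136277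
theorem N71042 : nd 71042 = n136278 := ndS (p := 39223) (l := 6) rfl N39223 D136278
theorem N71043 : nd 71043 = n136280 := ndS (p := 39225) (l := 0) rfl N39225 D136280
theorem N71044 : nd 71044 = n136282 := ndS (p := 39225) (l := 4) rfl N39225 D136282
theorem N71045 : nd 71045 = n136285 := ndS (p := 39226) (l := 6) rfl N39226 D136285
theorem N71046 : nd 71046 = n136286 := ndS (p := 39227) (l := 3) rfl N39227 D136286
theorem N71047 : nd 71047 = n136288 := ndS (p := 39228) (l := 0) rfl N39228 D136288
theorem N71048 : nd 71048 = n136289 := ndS (p := 39228) (l := 1) rfl N39228 D136289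
theorem N71049 : nd 71049 = n136291 := ndS (p := 39229) (l := 6) rfl N39229 D136291
theorem N71050 : nd 71050 = n136292 := ndS (p := 39230) (l := 5) rfl N39230 D136292
theorem N71051 : nd 71051 = n136293 := ndS (p := 39230) (l := 7) rfl N39230 D136293
theorem N71052 : nd 71052 = n136294 := ndS (p := 39231) (l := 3) rfl N39231 D136294
theorem N71053 : nd 71053 = n136296 := ndS (p := 39231) (l := 6) rfl N39231 D136296
theorem N71054 : nd 71054 = n136297 := ndS (p := 39232) (l := 5) rfl N39232 D136297
theorem N71055 : nd 71055 = n136299 := ndS (p := 39233) (l := 5) rfl N39233 D136299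
theorem N71056 : nd 71056 = n136300 := ndS (p := 39234) (l := 0) rfl N39234 D136300
theorem N71057 : nd 71057 = n136301 := ndS (p := 39234) (l := 1) rfl N39234 D136301
theorem N71058 : nd 71058 = n136303 := ndS (p := 39234) (l := 6) rfl N39234 D136303
theorem N71059 : nd 71059 = n136304 := ndS (p := 39235) (l := 3) rfl N39235 D136304
theorem N71060 : nd 71060 = n136305 := ndS (p := 39235) (l := 6) rfl N39235 D136305
theorem N71061 : nd 71061 = n136306 := ndS (p := 39236) (l := 3) rfl N39236 D136306
theorem N71062 : nd 71062 = n136307 := ndS (p := 39236) (l := 6) rfl N39236 D136307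
theorem N71063 : nd 71063 = n136308 := ndS (p := 39237) (l := 0) rfl N39237 D136308
theorem N71064 : nd 71064 = n136310 := ndS (p := 39237) (l := 7) rfl N39237 D136310
theorem N71065 : nd 71065 = n136312 := ndS (p := 39238) (l := 1) rfl N39238 D136312
theorem N71066 : nd 71066 = n136313 := ndS (p := 39238) (l := 2) rfl N39238 D136313
theorem N71067 : nd 71067 = n136314 := ndS (p := 39238) (l := 5) rfl N39238 D136314
theorem N71068 : nd 71068 = n136315 := ndS (p := 39239) (l := 6) rfl N39239 D136315
theorem N71069 : nd 71069 = n136316 := ndS (p := 39240) (l := 1) rfl N39240 D136316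
theorem N71070 : nd 71070 = n136317 := ndS (p := 39240) (l := 2) rfl N39240 D136317
theorem N71071 : nd 71071 = n136318 := ndS (p := 39240) (l := 5) rfl N39240 D136318
theorem N71072 : nd 71072 = n136319 := ndS (p := 39240) (l := 6) rfl N39240 D136319
theorem N71073 : nd 71073 = n136320 := ndS (p := 39241) (l := 6) rfl N39241 D136320
theorem N71074 : nd 71074 = n136321 := ndS (p := 39242) (l := 5) rfl N39242 D136321
theorem N71075 : nd 71075 = n136322 := ndS (p := 39242) (l := 7) rfl N39242 D136322
theorem N71076 : nd 71076 = n136323 := ndS (p := 39243) (l := 6) rfl N39243 D136323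
theorem N71077 : nd 71077 = n136324 := ndS (p := 39245) (l := 6) rfl N39245 D136324
theorem N71078 : nd 71078 = n136325 := ndS (p := 39246) (l := 5) rfl N39246 D136325
theorem N71079 : nd 71079 = n136326 := ndS (p := 39246) (l := 7) rfl N39246 D136326
theorem N71080 : nd 71080 = n136327 := ndS (p := 39247) (l := 5) rfl N39247 D136327
theorem N71081 : nd 71081 = n136328 := ndS (p := 39247) (l := 6) rfl N39247 D136328
theorem N71082 : nd 71082 = n136330 := ndS (p := 39249) (l := 3) rfl N39249 D136330
theorem N71083 : nd 71083 = n136331 := ndS (p := 39249) (l := 4) rfl N39249 D136331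
theorem N71084 : nd 71084 = n136332 := ndS (p := 39249) (l := 5) rfl N39249 D136332
theorem N71085 : nd 71085 = n136333 := ndS (p := 39249) (l := 6) rfl N39249 D136333
theorem N71086 : nd 71086 = n136335 := ndS (p := 39250) (l := 3) rfl N39250 D136335
theorem N71087 : nd 71087 = n136336 := ndS (p := 39250) (l := 4) rfl N39250 D136336
theorem N71088 : nd 71088 = n136337 := ndS (p := 39250) (l := 5) rfl N39250 D136337
theorem N71089 : nd 71089 = n136338 := ndS (p := 39250) (l := 6) rfl N39250 D136338
theorem N71090 : nd 71090 = n136339 := ndS (p := 39251) (l := 5) rfl N39251 D136339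
theorem N71091 : nd 71091 = n136340 := ndS (p := 39252) (l := 0) rfl N39252 D136340
theorem N71092 : nd 71092 = n136341 := ndS (p := 39252) (l := 1) rfl N39252 D136341
theorem N71093 : nd 71093 = n136342 := ndS (p := 39252) (l := 4) rfl N39252 D136342
theorem N71094 : nd 71094 = n136343 := ndS (p := 39253) (l := 0) rfl N39253 D136343
theorem N71095 : nd 71095 = n136344 := ndS (p := 39253) (l := 1) rfl N39253 D136344
theorem N71096 : nd 71096 = n136345 := ndS (p := 39253) (l := 7) rfl N39253 D136345
theorem N71097 : nd 71097 = n136346 := ndS (p := 39254) (l := 0) rfl N39254 D136346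
theorem N71098 : nd 71098 = n136347 := ndS (p := 39254) (l := 1) rfl N39254 D136347
theorem N71099 : nd 71099 = n136350 := ndS (p := 39255) (l := 1) rfl N39255 D136350
theorem N71100 : nd 71100 = n136353 := ndS (p := 39257) (l := 6) rfl N39257 D136353
theorem N71101 : nd 71101 = n136354 := ndS (p := 39259) (l := 0) rfl N39259 D136354
theorem N71102 : nd 71102 = n136355 := ndS (p := 39259) (l := 1) rfl N39259 D136355
theorem N71103 : nd 71103 = n136356 := ndS (p := 39259) (l := 2) rfl N39259 D136356
theorem N71104 : nd 71104 = n136357 := ndS (p := 39259) (l := 5) rfl N39259 D136357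
theorem N71105 : nd 71105 = n136358 := ndS (p := 39259) (l := 6) rfl N39259 D136358
theorem N71106 : nd 71106 = n136359 := ndS (p := 39260) (l := 6) rfl N39260 D136359
theorem N71107 : nd 71107 = n136364 := ndS (p := 39264) (l := 0) rfl N39264 D136364
theorem N71108 : nd 71108 = n136366 := ndS (p := 39264) (l := 2) rfl N39264 D136366
theorem N71109 : nd 71109 = n136367 := ndS (p := 39264) (l := 5) rfl N39264 D136367
theorem N71110 : nd 71110 = n136368 := ndS (p := 39265) (l := 6) rfl N39265 D136368
theorem N71111 : nd 71111 = n136369 := ndS (p := 39266) (l := 0) rfl N39266 D136369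
theorem N71112 : nd 71112 = n136371 := ndS (p := 39266) (l := 2) rfl N39266 D136371
theorem N71113 : nd 71113 = n136372 := ndS (p := 39266) (l := 5) rfl N39266 D136372
theorem N71114 : nd 71114 = n136373 := ndS (p := 39266) (l := 6) rfl N39266 D136373
theorem N71115 : nd 71115 = n136374 := ndS (p := 39267) (l := 6) rfl N39267 D136374
theorem N71116 : nd 71116 = n136375 := ndS (p := 39269) (l := 0) rfl N39269 D136375
theorem N71117 : nd 71117 = n136376 := ndS (p := 39269) (l := 1) rfl N39269 D136376
theorem N71118 : nd 71118 = n136377 := ndS (p := 39269) (l := 2) rfl N39269 D136377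
theorem N71119 : nd 71119 = n136378 := ndS (p := 39269) (l := 5) rfl N39269 D136378
theorem N71120 : nd 71120 = n136379 := ndS (p := 39270) (l := 6) rfl N39270 D136379
theorem N71121 : nd 71121 = n136381 := ndS (p := 39271) (l := 3) rfl N39271 D136381
theorem N71122 : nd 71122 = n136382 := ndS (p := 39271) (l := 4) rfl N39271 D136382
theorem N71123 : nd 71123 = n136383 := ndS (p := 39271) (l := 5) rfl N39271 D136383
theorem N71124 : nd 71124 = n136384 := ndS (p := 39271) (l := 6) rfl N39271 D136384
theorem N71125 : nd 71125 = n136386 := ndS (p := 39272) (l := 3) rfl N39272 D136386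
theorem N71126 : nd 71126 = n136387 := ndS (p := 39272) (l := 4) rfl N39272 D136387
theorem N71127 : nd 71127 = n136388 := ndS (p := 39272) (l := 5) rfl N39272 D136388
theorem N71128 : nd 71128 = n136392 := ndS (p := 39273) (l := 0) rfl N39273 D136392
theorem N71129 : nd 71129 = n136393 := ndS (p := 39273) (l := 1) rfl N39273 D136393
theorem N71130 : nd 71130 = n136394 := ndS (p := 39273) (l := 4) rfl N39273 D136394
theorem N71131 : nd 71131 = n136395 := ndS (p := 39273) (l := 6) rfl N39273 D136395
theorem N71132 : nd 71132 = n136400 := ndS (p := 39274) (l := 3) rfl N39274 D136400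
theorem N71133 : nd 71133 = n136402 := ndS (p := 39275) (l := 3) rfl N39275 D136402
theorem N71134 : nd 71134 = n136403 := ndS (p := 39275) (l := 6) rfl N39275 D136403
theorem N71135 : nd 71135 = n136406 := ndS (p := 39276) (l := 5) rfl N39276 D136406
theorem N71136 : nd 71136 = n136411 := ndS (p := 39277) (l := 4) rfl N39277 D136411
theorem N71137 : nd 71137 = n136413 := ndS (p := 39278) (l := 0) rfl N39278 D136413
theorem N71138 : nd 71138 = n136431 := ndS (p := 39281) (l := 4) rfl N39281 D136431
theorem N71139 : nd 71139 = n136432 := ndS (p := 39281) (l := 6) rfl N39281 D136432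
theorem N71140 : nd 71140 = n136437 := ndS (p := 39282) (l := 0) rfl N39282 D136437
theorem N71141 : nd 71141 = n136438 := ndS (p := 39282) (l := 1) rfl N39282 D136438
theorem N71142 : nd 71142 = n136439 := ndS (p := 39282) (l := 5) rfl N39282 D136439
theorem N71143 : nd 71143 = n136440 := ndS (p := 39282) (l := 7) rfl N39282 D136440
theorem N71144 : nd 71144 = n136441 := ndS (p := 39283) (l := 3) rfl N39283 D136441
theorem N71145 : nd 71145 = n136442 := ndS (p := 39283) (l := 5) rfl N39283 D136442
theorem N71146 : nd 71146 = n136443 := ndS (p := 39284) (l := 0) rfl N39284 D136443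
theorem N71147 : nd 71147 = n136444 := ndS (p := 39284) (l := 1) rfl N39284 D136444
theorem N71148 : nd 71148 = n136445 := ndS (p := 39284) (l := 4) rfl N39284 D136445
theorem N71149 : nd 71149 = n136447 := ndS (p := 39285) (l := 3) rfl N39285 D136447
theorem N71150 : nd 71150 = n136448 := ndS (p := 39285) (l := 5) rfl N39285 D136448
theorem N71151 : nd 71151 = n136449 := ndS (p := 39286) (l := 0) rfl N39286 D136449
theorem N71152 : nd 71152 = n136451 := ndS (p := 39286) (l := 2) rfl N39286 D136451
theorem N71153 : nd 71153 = n136452 := ndS (p := 39286) (l := 6) rfl N39286 D136452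
theorem N71154 : nd 71154 = n136453 := ndS (p := 39287) (l := 1) rfl N39287 D136453
theorem N71155 : nd 71155 = n136454 := ndS (p := 39287) (l := 5) rfl N39287 D136454
theorem N71156 : nd 71156 = n136455 := ndS (p := 39287) (l := 7) rfl N39287 D136455
theorem N71157 : nd 71157 = n136456 := ndS (p := 39288) (l := 5) rfl N39288 D136456
theorem N71158 : nd 71158 = n136457 := ndS (p := 39289) (l := 6) rfl N39289 D136457
theorem N71159 : nd 71159 = n136458 := ndS (p := 39291) (l := 0) rfl N39291 D136458
theorem N71160 : nd 71160 = n136459 := ndS (p := 39291) (l := 1) rfl N39291 D136459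
theorem N71161 : nd 71161 = n136460 := ndS (p := 39291) (l := 2) rfl N39291 D136460
theorem N71162 : nd 71162 = n136461 := ndS (p := 39291) (l := 6) rfl N39291 D136461
theorem N71163 : nd 71163 = n136463 := ndS (p := 39293) (l := 0) rfl N39293 D136463
theorem N71164 : nd 71164 = n136464 := ndS (p := 39293) (l := 1) rfl N39293 D136464
theorem N71165 : nd 71165 = n136465 := ndS (p := 39293) (l := 2) rfl N39293 D136465
theorem N71166 : nd 71166 = n136467 := ndS (p := 39294) (l := 3) rfl N39294 D136467
theorem N71167 : nd 71167 = n136470 := ndS (p := 39294) (l := 6) rfl N39294 D136470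
theorem N71168 : nd 71168 = n136472 := ndS (p := 39295) (l := 3) rfl N39295 D136472
theorem N71169 : nd 71169 = n136476 := ndS (p := 39296) (l := 5) rfl N39296 D136476
theorem N71170 : nd 71170 = n136477 := ndS (p := 39296) (l := 6) rfl N39296 D136477
theorem N71171 : nd 71171 = n136478 := ndS (p := 39297) (l := 0) rfl N39297 D136478
theorem N71172 : nd 71172 = n136479 := ndS (p := 39297) (l := 1) rfl N39297 D136479
theorem N71173 : nd 71173 = n136480 := ndS (p := 39297) (l := 4) rfl N39297 D136480
theorem N71174 : nd 71174 = n136481 := ndS (p := 39297) (l := 6) rfl N39297 D136481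
theorem N71175 : nd 71175 = n136482 := ndS (p := 39298) (l := 0) rfl N39298 D136482
theorem N71176 : nd 71176 = n136483 := ndS (p := 39298) (l := 1) rfl N39298 D136483
theorem N71177 : nd 71177 = n136484 := ndS (p := 39298) (l := 5) rfl N39298 D136484
theorem N71178 : nd 71178 = n136485 := ndS (p := 39298) (l := 7) rfl N39298 D136485
theorem N71179 : nd 71179 = n136486 := ndS (p := 39299) (l := 3) rfl N39299 D136486
theorem N71180 : nd 71180 = n136487 := ndS (p := 39299) (l := 6) rfl N39299 D136487
theorem N71181 : nd 71181 = n136488 := ndS (p := 39300) (l := 3) rfl N39300 D136488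
theorem N71182 : nd 71182 = n136489 := ndS (p := 39300) (l := 6) rfl N39300 D136489
theorem N71183 : nd 71183 = n136490 := ndS (p := 39301) (l := 0) rfl N39301 D136490
theorem N71184 : nd 71184 = n136491 := ndS (p := 39301) (l := 1) rfl N39301 D136491
theorem N71185 : nd 71185 = n136492 := ndS (p := 39301) (l := 5) rfl N39301 D136492
theorem N71186 : nd 71186 = n136493 := ndS (p := 39301) (l := 7) rfl N39301 D136493
theorem N71187 : nd 71187 = n136494 := ndS (p := 39302) (l := 3) rfl N39302 D136494
theorem N71188 : nd 71188 = n136495 := ndS (p := 39302) (l := 5) rfl N39302 D136495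
theorem N71189 : nd 71189 = n136496 := ndS (p := 39303) (l := 3) rfl N39303 D136496
theorem N71190 : nd 71190 = n136497 := ndS (p := 39303) (l := 5) rfl N39303 D136497
theorem N71191 : nd 71191 = n136498 := ndS (p := 39303) (l := 6) rfl N39303 D136498
theorem N71192 : nd 71192 = n136499 := ndS (p := 39304) (l := 1) rfl N39304 D136499
theorem N71193 : nd 71193 = n136500 := ndS (p := 39304) (l := 4) rfl N39304 D136500
theorem N71194 : nd 71194 = n136501 := ndS (p := 39304) (l := 7) rfl N39304 D136501
theorem N71195 : nd 71195 = n136503 := ndS (p := 39306) (l := 5) rfl N39306 D136503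
theorem N71196 : nd 71196 = n136504 := ndS (p := 39307) (l := 4) rfl N39307 D136504
theorem N71197 : nd 71197 = n136505 := ndS (p := 39308) (l := 3) rfl N39308 D136505
theorem N71198 : nd 71198 = n136506 := ndS (p := 39308) (l := 5) rfl N39308 D136506
theorem N71199 : nd 71199 = n136507 := ndS (p := 39308) (l := 6) rfl N39308 D136507
theorem N71200 : nd 71200 = n136509 := ndS (p := 39310) (l := 3) rfl N39310 D136509
theorem N71201 : nd 71201 = n136510 := ndS (p := 39310) (l := 4) rfl N39310 D136510
theorem N71202 : nd 71202 = n136515 := ndS (p := 39311) (l := 4) rfl N39311 D136515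
theorem N71203 : nd 71203 = n136518 := ndS (p := 39312) (l := 5) rfl N39312 D136518
theorem N71204 : nd 71204 = n136519 := ndS (p := 39312) (l := 6) rfl N39312 D136519
theorem N71205 : nd 71205 = n136520 := ndS (p := 39313) (l := 0) rfl N39313 D136520
theorem N71206 : nd 71206 = n136521 := ndS (p := 39313) (l := 1) rfl N39313 D136521
theorem N71207 : nd 71207 = n136522 := ndS (p := 39313) (l := 4) rfl N39313 D136522
theorem N71208 : nd 71208 = n136524 := ndS (p := 39314) (l := 0) rfl N39314 D136524
theorem N71209 : nd 71209 = n136525 := ndS (p := 39314) (l := 1) rfl N39314 D136525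
theorem N71210 : nd 71210 = n136526 := ndS (p := 39314) (l := 5) rfl N39314 D136526
theorem N71211 : nd 71211 = n136527 := ndS (p := 39314) (l := 7) rfl N39314 D136527
theorem N71212 : nd 71212 = n136529 := ndS (p := 39315) (l := 1) rfl N39315 D136529
theorem N71213 : nd 71213 = n136530 := ndS (p := 39315) (l := 5) rfl N39315 D136530
theorem N71214 : nd 71214 = n136531 := ndS (p := 39315) (l := 7) rfl N39315 D136531
theorem N71215 : nd 71215 = n136532 := ndS (p := 39316) (l := 3) rfl N39316 D136532
theorem N71216 : nd 71216 = n136533 := ndS (p := 39316) (l := 6) rfl N39316 D136533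
theorem N71217 : nd 71217 = n136534 := ndS (p := 39317) (l := 3) rfl N39317 D136534
theorem N71218 : nd 71218 = n136535 := ndS (p := 39318) (l := 4) rfl N39318 D136535
theorem N71219 : nd 71219 = n136536 := ndS (p := 39318) (l := 7) rfl N39318 D136536
theorem N71220 : nd 71220 = n136538 := ndS (p := 39320) (l := 5) rfl N39320 D136538
theorem N71221 : nd 71221 = n136539 := ndS (p := 39320) (l := 6) rfl N39320 D136539
theorem N71222 : nd 71222 = n136540 := ndS (p := 39322) (l := 3) rfl N39322 D136540
theorem N71223 : nd 71223 = n136541 := ndS (p := 39322) (l := 5) rfl N39322 D136541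
theorem N71224 : nd 71224 = n136543 := ndS (p := 39323) (l := 3) rfl N39323 D136543
theorem N71225 : nd 71225 = n136544 := ndS (p := 39323) (l := 4) rfl N39323 D136544
theorem N71226 : nd 71226 = n136545 := ndS (p := 39323) (l := 5) rfl N39323 D136545
theorem N71227 : nd 71227 = n136548 := ndS (p := 39324) (l := 3) rfl N39324 D136548
theorem N71228 : nd 71228 = n136549 := ndS (p := 39324) (l := 4) rfl N39324 D136549
theorem N71229 : nd 71229 = n136550 := ndS (p := 39324) (l := 5) rfl N39324 D136550
theorem N71230 : nd 71230 = n136552 := ndS (p := 39325) (l := 5) rfl N39325 D136552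
theorem N71231 : nd 71231 = n136553 := ndS (p := 39325) (l := 6) rfl N39325 D136553
theorem N71232 : nd 71232 = n136554 := ndS (p := 39326) (l := 0) rfl N39326 D136554
theorem N71233 : nd 71233 = n136555 := ndS (p := 39326) (l := 1) rfl N39326 D136555
theorem N71234 : nd 71234 = n136556 := ndS (p := 39326) (l := 4) rfl N39326 D136556
theorem N71235 : nd 71235 = n136557 := ndS (p := 39326) (l := 6) rfl N39326 D136557
theorem N71236 : nd 71236 = n136559 := ndS (p := 39327) (l := 1) rfl N39327 D136559
theorem N71237 : nd 71237 = n136560 := ndS (p := 39327) (l := 5) rfl N39327 D136560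
theorem N71238 : nd 71238 = n136561 := ndS (p := 39327) (l := 7) rfl N39327 D136561
theorem N71239 : nd 71239 = n136564 := ndS (p := 39329) (l := 0) rfl N39329 D136564
theorem N71240 : nd 71240 = n136565 := ndS (p := 39329) (l := 1) rfl N39329 D136565
theorem N71241 : nd 71241 = n136566 := ndS (p := 39329) (l := 5) rfl N39329 D136566
theorem N71242 : nd 71242 = n136567 := ndS (p := 39329) (l := 7) rfl N39329 D136567
theorem N71243 : nd 71243 = n136568 := ndS (p := 39330) (l := 1) rfl N39330 D136568
theorem N71244 : nd 71244 = n136569 := ndS (p := 39330) (l := 4) rfl N39330 D136569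
theorem N71245 : nd 71245 = n136570 := ndS (p := 39330) (l := 7) rfl N39330 D136570
theorem N71246 : nd 71246 = n136573 := ndS (p := 39332) (l := 4) rfl N39332 D136573
theorem N71247 : nd 71247 = n136574 := ndS (p := 39332) (l := 5) rfl N39332 D136574
theorem N71248 : nd 71248 = n136577 := ndS (p := 39333) (l := 3) rfl N39333 D136577
theorem N71249 : nd 71249 = n136578 := ndS (p := 39333) (l := 4) rfl N39333 D136578
theorem N71250 : nd 71250 = n136579 := ndS (p := 39333) (l := 5) rfl N39333 D136579
theorem N71251 : nd 71251 = n136580 := ndS (p := 39333) (l := 6) rfl N39333 D136580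
theorem N71252 : nd 71252 = n136581 := ndS (p := 39334) (l := 5) rfl N39334 D136581
theorem N71253 : nd 71253 = n136582 := ndS (p := 39334) (l := 6) rfl N39334 D136582
theorem N71254 : nd 71254 = n136583 := ndS (p := 39335) (l := 0) rfl N39335 D136583
theorem N71255 : nd 71255 = n136584 := ndS (p := 39335) (l := 1) rfl N39335 D136584
theorem N71256 : nd 71256 = n136585 := ndS (p := 39335) (l := 4) rfl N39335 D136585
theorem N71257 : nd 71257 = n136586 := ndS (p := 39335) (l := 6) rfl N39335 D136586
theorem N71258 : nd 71258 = n136587 := ndS (p := 39336) (l := 0) rfl N39336 D136587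
theorem N71259 : nd 71259 = n136588 := ndS (p := 39336) (l := 1) rfl N39336 D136588
theorem N71260 : nd 71260 = n136589 := ndS (p := 39336) (l := 5) rfl N39336 D136589
theorem N71261 : nd 71261 = n136590 := ndS (p := 39336) (l := 7) rfl N39336 D136590
theorem N71262 : nd 71262 = n136591 := ndS (p := 39337) (l := 0) rfl N39337 D136591
theorem N71263 : nd 71263 = n136592 := ndS (p := 39337) (l := 1) rfl N39337 D136592
theorem N71264 : nd 71264 = n136593 := ndS (p := 39337) (l := 5) rfl N39337 D136593
theorem N71265 : nd 71265 = n136594 := ndS (p := 39337) (l := 7) rfl N39337 D136594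
theorem N71266 : nd 71266 = n136595 := ndS (p := 39338) (l := 4) rfl N39338 D136595
theorem N71267 : nd 71267 = n136596 := ndS (p := 39338) (l := 7) rfl N39338 D136596
theorem N71268 : nd 71268 = n136597 := ndS (p := 39340) (l := 5) rfl N39340 D136597
theorem N71269 : nd 71269 = n136598 := ndS (p := 39340) (l := 6) rfl N39340 D136598
theorem N71270 : nd 71270 = n136601 := ndS (p := 39341) (l := 3) rfl N39341 D136601
theorem N71271 : nd 71271 = n136603 := ndS (p := 39341) (l := 5) rfl N39341 D136603
theorem N71272 : nd 71272 = n136604 := ndS (p := 39341) (l := 6) rfl N39341 D136604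
theorem N71273 : nd 71273 = n136606 := ndS (p := 39342) (l := 1) rfl N39342 D136606
theorem N71274 : nd 71274 = n136608 := ndS (p := 39342) (l := 5) rfl N39342 D136608
theorem N71275 : nd 71275 = n136609 := ndS (p := 39342) (l := 6) rfl N39342 D136609
theorem N71276 : nd 71276 = n136615 := ndS (p := 39343) (l := 6) rfl N39343 D136615
theorem N71277 : nd 71277 = n136618 := ndS (p := 39344) (l := 4) rfl N39344 D136618
theorem N71278 : nd 71278 = n136619 := ndS (p := 39344) (l := 6) rfl N39344 D136619
theorem N71279 : nd 71279 = n136620 := ndS (p := 39344) (l := 7) rfl N39344 D136620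
theorem N71280 : nd 71280 = n136621 := ndS (p := 39345) (l := 0) rfl N39345 D136621
theorem N71281 : nd 71281 = n136623 := ndS (p := 39345) (l := 5) rfl N39345 D136623
theorem N71282 : nd 71282 = n136624 := ndS (p := 39345) (l := 7) rfl N39345 D136624
theorem N71283 : nd 71283 = n136626 := ndS (p := 39347) (l := 0) rfl N39347 D136626
theorem N71284 : nd 71284 = n136628 := ndS (p := 39347) (l := 2) rfl N39347 D136628
theorem N71285 : nd 71285 = n136630 := ndS (p := 39347) (l := 5) rfl N39347 D136630
theorem N71286 : nd 71286 = n136640 := ndS (p := 39349) (l := 0) rfl N39349 D136640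
theorem N71287 : nd 71287 = n136641 := ndS (p := 39349) (l := 1) rfl N39349 D136641
theorem N71288 : nd 71288 = n136642 := ndS (p := 39349) (l := 4) rfl N39349 D136642
theorem N71289 : nd 71289 = n136643 := ndS (p := 39349) (l := 6) rfl N39349 D136643
theorem N71290 : nd 71290 = n136645 := ndS (p := 39350) (l := 3) rfl N39350 D136645
theorem N71291 : nd 71291 = n136646 := ndS (p := 39350) (l := 4) rfl N39350 D136646
theorem N71292 : nd 71292 = n136647 := ndS (p := 39350) (l := 6) rfl N39350 D136647
theorem N71293 : nd 71293 = n136649 := ndS (p := 39351) (l := 3) rfl N39351 D136649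
theorem N71294 : nd 71294 = n136650 := ndS (p := 39351) (l := 4) rfl N39351 D136650
theorem N71295 : nd 71295 = n136651 := ndS (p := 39351) (l := 6) rfl N39351 D136651
theorem N71296 : nd 71296 = n136652 := ndS (p := 39352) (l := 0) rfl N39352 D136652
theorem N71297 : nd 71297 = n136653 := ndS (p := 39352) (l := 1) rfl N39352 D136653
theorem N71298 : nd 71298 = n136654 := ndS (p := 39352) (l := 3) rfl N39352 D136654
theorem N71299 : nd 71299 = n136655 := ndS (p := 39352) (l := 5) rfl N39352 D136655
theorem N71300 : nd 71300 = n136656 := ndS (p := 39352) (l := 6) rfl N39352 D136656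
theorem N71301 : nd 71301 = n136657 := ndS (p := 39352) (l := 7) rfl N39352 D136657
theorem N71302 : nd 71302 = n136658 := ndS (p := 39353) (l := 0) rfl N39353 D136658
theorem N71303 : nd 71303 = n136659 := ndS (p := 39353) (l := 1) rfl N39353 D136659
theorem N71304 : nd 71304 = n136660 := ndS (p := 39355) (l := 0) rfl N39355 D136660
theorem N71305 : nd 71305 = n136661 := ndS (p := 39355) (l := 1) rfl N39355 D136661
theorem N71306 : nd 71306 = n136662 := ndS (p := 39355) (l := 5) rfl N39355 D136662
theorem N71307 : nd 71307 = n136666 := ndS (p := 39356) (l := 4) rfl N39356 D136666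
theorem N71308 : nd 71308 = n136674 := ndS (p := 39358) (l := 2) rfl N39358 D136674
theorem N71309 : nd 71309 = n136675 := ndS (p := 39358) (l := 4) rfl N39358 D136675
theorem N71310 : nd 71310 = n136676 := ndS (p := 39358) (l := 6) rfl N39358 D136676
theorem N71311 : nd 71311 = n136677 := ndS (p := 39359) (l := 0) rfl N39359 D136677
theorem N71312 : nd 71312 = n136678 := ndS (p := 39359) (l := 1) rfl N39359 D136678
theorem N71313 : nd 71313 = n136679 := ndS (p := 39359) (l := 5) rfl N39359 D136679
theorem N71314 : nd 71314 = n136680 := ndS (p := 39359) (l := 7) rfl N39359 D136680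
theorem N71315 : nd 71315 = n136681 := ndS (p := 39360) (l := 6) rfl N39360 D136681
theorem N71316 : nd 71316 = n136682 := ndS (p := 39361) (l := 0) rfl N39361 D136682
theorem N71317 : nd 71317 = n136683 := ndS (p := 39361) (l := 1) rfl N39361 D136683
theorem N71318 : nd 71318 = n136684 := ndS (p := 39361) (l := 5) rfl N39361 D136684
theorem N71319 : nd 71319 = n136686 := ndS (p := 39362) (l := 3) rfl N39362 D136686
theorem N71320 : nd 71320 = n136687 := ndS (p := 39362) (l := 4) rfl N39362 D136687
theorem N71321 : nd 71321 = n136688 := ndS (p := 39362) (l := 5) rfl N39362 D136688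
theorem N71322 : nd 71322 = n136689 := ndS (p := 39362) (l := 6) rfl N39362 D136689
theorem N71323 : nd 71323 = n136691 := ndS (p := 39363) (l := 3) rfl N39363 D136691
theorem N71324 : nd 71324 = n136692 := ndS (p := 39363) (l := 4) rfl N39363 D136692
theorem N71325 : nd 71325 = n136693 := ndS (p := 39363) (l := 5) rfl N39363 D136693
theorem N71326 : nd 71326 = n136694 := ndS (p := 39363) (l := 6) rfl N39363 D136694
theorem N71327 : nd 71327 = n136695 := ndS (p := 39365) (l := 0) rfl N39365 D136695
theorem N71328 : nd 71328 = n136696 := ndS (p := 39365) (l := 1) rfl N39365 D136696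
theorem N71329 : nd 71329 = n136699 := ndS (p := 39367) (l := 5) rfl N39367 D136699
theorem N71330 : nd 71330 = n136700 := ndS (p := 39368) (l := 6) rfl N39368 D136700
theorem N71331 : nd 71331 = n136701 := ndS (p := 39371) (l := 0) rfl N39371 D136701
theorem N71332 : nd 71332 = n136702 := ndS (p := 39371) (l := 1) rfl N39371 D136702
theorem N71333 : nd 71333 = n136704 := ndS (p := 39371) (l := 6) rfl N39371 D136704
theorem N71334 : nd 71334 = n136706 := ndS (p := 39373) (l := 3) rfl N39373 D136706
theorem N71335 : nd 71335 = n136707 := ndS (p := 39373) (l := 4) rfl N39373 D136707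
theorem N71336 : nd 71336 = n136708 := ndS (p := 39373) (l := 6) rfl N39373 D136708
theorem N71337 : nd 71337 = n136710 := ndS (p := 39374) (l := 6) rfl N39374 D136710
theorem N71338 : nd 71338 = n136711 := ndS (p := 39375) (l := 5) rfl N39375 D136711
theorem N71339 : nd 71339 = n136713 := ndS (p := 39376) (l := 1) rfl N39376 D136713
theorem N71340 : nd 71340 = n136714 := ndS (p := 39376) (l := 6) rfl N39376 D136714
theorem N71341 : nd 71341 = n136715 := ndS (p := 39377) (l := 0) rfl N39377 D136715
theorem N71342 : nd 71342 = n136716 := ndS (p := 39377) (l := 1) rfl N39377 D136716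
theorem N71343 : nd 71343 = n136725 := ndS (p := 39379) (l := 6) rfl N39379 D136725
theorem N71344 : nd 71344 = n136728 := ndS (p := 39380) (l := 4) rfl N39380 D136728
theorem N71345 : nd 71345 = n136730 := ndS (p := 39383) (l := 6) rfl N39383 D136730
theorem N71346 : nd 71346 = n136731 := ndS (p := 39386) (l := 6) rfl N39386 D136731
theorem N71347 : nd 71347 = n136733 := ndS (p := 39389) (l := 1) rfl N39389 D136733
theorem N71348 : nd 71348 = n136737 := ndS (p := 39390) (l := 7) rfl N39390 D136737
theorem N71349 : nd 71349 = n136738 := ndS (p := 39392) (l := 0) rfl N39392 D136738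
theorem N71350 : nd 71350 = n136739 := ndS (p := 39392) (l := 1) rfl N39392 D136739
theorem N71351 : nd 71351 = n136741 := ndS (p := 39392) (l := 6) rfl N39392 D136741
theorem N71352 : nd 71352 = n136742 := ndS (p := 39393) (l := 5) rfl N39393 D136742
theorem N71353 : nd 71353 = n136743 := ndS (p := 39393) (l := 7) rfl N39393 D136743
theorem N71354 : nd 71354 = n136744 := ndS (p := 39394) (l := 5) rfl N39394 D136744
theorem N71355 : nd 71355 = n136745 := ndS (p := 39397) (l := 0) rfl N39397 D136745
theorem N71356 : nd 71356 = n136746 := ndS (p := 39397) (l := 1) rfl N39397 D136746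
theorem N71357 : nd 71357 = n136747 := ndS (p := 39397) (l := 2) rfl N39397 D136747
theorem N71358 : nd 71358 = n136749 := ndS (p := 39398) (l := 1) rfl N39398 D136749
theorem N71359 : nd 71359 = n136751 := ndS (p := 39398) (l := 7) rfl N39398 D136751
theorem N71360 : nd 71360 = n136753 := ndS (p := 39401) (l := 3) rfl N39401 D136753
theorem N71361 : nd 71361 = n136754 := ndS (p := 39401) (l := 4) rfl N39401 D136754
theorem N71362 : nd 71362 = n136755 := ndS (p := 39401) (l := 5) rfl N39401 D136755
theorem N71363 : nd 71363 = n136756 := ndS (p := 39401) (l := 6) rfl N39401 D136756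
theorem N71364 : nd 71364 = n136759 := ndS (p := 39402) (l := 4) rfl N39402 D136759
theorem N71365 : nd 71365 = n136760 := ndS (p := 39402) (l := 5) rfl N39402 D136760
theorem N71366 : nd 71366 = n136769 := ndS (p := 39405) (l := 4) rfl N39405 D136769
theorem N71367 : nd 71367 = n136771 := ndS (p := 39407) (l := 3) rfl N39407 D136771
theorem N71368 : nd 71368 = n136772 := ndS (p := 39407) (l := 5) rfl N39407 D136772
theorem N71369 : nd 71369 = n136773 := ndS (p := 39408) (l := 3) rfl N39408 D136773
theorem N71370 : nd 71370 = n136774 := ndS (p := 39408) (l := 5) rfl N39408 D136774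
theorem N71371 : nd 71371 = n136775 := ndS (p := 39408) (l := 6) rfl N39408 D136775
theorem N71372 : nd 71372 = n136776 := ndS (p := 39410) (l := 6) rfl N39410 D136776
theorem N71373 : nd 71373 = n136777 := ndS (p := 39412) (l := 3) rfl N39412 D136777
theorem N71374 : nd 71374 = n136778 := ndS (p := 39412) (l := 5) rfl N39412 D136778
theorem N71375 : nd 71375 = n136779 := ndS (p := 39412) (l := 7) rfl N39412 D136779
theorem N71376 : nd 71376 = n136780 := ndS (p := 39414) (l := 3) rfl N39414 D136780
theorem N71377 : nd 71377 = n136781 := ndS (p := 39415) (l := 0) rfl N39415 D136781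
theorem N71378 : nd 71378 = n136782 := ndS (p := 39415) (l := 1) rfl N39415 D136782
theorem N71379 : nd 71379 = n136783 := ndS (p := 39415) (l := 2) rfl N39415 D136783
theorem N71380 : nd 71380 = n136784 := ndS (p := 39416) (l := 6) rfl N39416 D136784
theorem N71381 : nd 71381 = n136786 := ndS (p := 39417) (l := 3) rfl N39417 D136786
theorem N71382 : nd 71382 = n136787 := ndS (p := 39417) (l := 4) rfl N39417 D136787
theorem N71383 : nd 71383 = n136789 := ndS (p := 39417) (l := 6) rfl N39417 D136789
theorem N71384 : nd 71384 = n136791 := ndS (p := 39418) (l := 3) rfl N39418 D136791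
theorem N71385 : nd 71385 = n136792 := ndS (p := 39418) (l := 4) rfl N39418 D136792
theorem N71386 : nd 71386 = n136794 := ndS (p := 39418) (l := 6) rfl N39418 D136794
theorem N71387 : nd 71387 = n136796 := ndS (p := 39419) (l := 6) rfl N39419 D136796
theorem N71388 : nd 71388 = n136802 := ndS (p := 39420) (l := 1) rfl N39420 D136802
theorem N71389 : nd 71389 = n136804 := ndS (p := 39420) (l := 7) rfl N39420 D136804
theorem N71390 : nd 71390 = n136809 := ndS (p := 39421) (l := 3) rfl N39421 D136809
theorem N71391 : nd 71391 = n136810 := ndS (p := 39421) (l := 5) rfl N39421 D136810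
theorem N71392 : nd 71392 = n136812 := ndS (p := 39422) (l := 3) rfl N39422 D136812
theorem N71393 : nd 71393 = n136813 := ndS (p := 39422) (l := 5) rfl N39422 D136813
theorem N71394 : nd 71394 = n136814 := ndS (p := 39423) (l := 0) rfl N39423 D136814
theorem N71395 : nd 71395 = n136815 := ndS (p := 39423) (l := 4) rfl N39423 D136815
theorem N71396 : nd 71396 = n136816 := ndS (p := 39423) (l := 7) rfl N39423 D136816
theorem N71397 : nd 71397 = n136818 := ndS (p := 39426) (l := 5) rfl N39426 D136818
theorem N71398 : nd 71398 = n136819 := ndS (p := 39427) (l := 3) rfl N39427 D136819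
theorem N71399 : nd 71399 = n136820 := ndS (p := 39427) (l := 5) rfl N39427 D136820
theorem N71400 : nd 71400 = n136822 := ndS (p := 39429) (l := 3) rfl N39429 D136822
theorem N71401 : nd 71401 = n136824 := ndS (p := 39430) (l := 6) rfl N39430 D136824
theorem N71402 : nd 71402 = n136827 := ndS (p := 39431) (l := 4) rfl N39431 D136827
theorem N71403 : nd 71403 = n136828 := ndS (p := 39431) (l := 6) rfl N39431 D136828
theorem N71404 : nd 71404 = n136829 := ndS (p := 39432) (l := 0) rfl N39432 D136829
theorem N71405 : nd 71405 = n136830 := ndS (p := 39432) (l := 1) rfl N39432 D136830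
theorem N71406 : nd 71406 = n136831 := ndS (p := 39432) (l := 5) rfl N39432 D136831
theorem N71407 : nd 71407 = n136832 := ndS (p := 39433) (l := 0) rfl N39433 D136832
theorem N71408 : nd 71408 = n136833 := ndS (p := 39433) (l := 1) rfl N39433 D136833
theorem N71409 : nd 71409 = n136834 := ndS (p := 39433) (l := 5) rfl N39433 D136834
theorem N71410 : nd 71410 = n136835 := ndS (p := 39433) (l := 7) rfl N39433 D136835
theorem N71411 : nd 71411 = n136836 := ndS (p := 39434) (l := 3) rfl N39434 D136836
theorem N71412 : nd 71412 = n136837 := ndS (p := 39434) (l := 5) rfl N39434 D136837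
theorem N71413 : nd 71413 = n136838 := ndS (p := 39435) (l := 3) rfl N39435 D136838
theorem N71414 : nd 71414 = n136839 := ndS (p := 39435) (l := 5) rfl N39435 D136839
theorem N71415 : nd 71415 = n136840 := ndS (p := 39436) (l := 0) rfl N39436 D136840
theorem N71416 : nd 71416 = n136841 := ndS (p := 39436) (l := 1) rfl N39436 D136841
theorem N71417 : nd 71417 = n136842 := ndS (p := 39436) (l := 4) rfl N39436 D136842
theorem N71418 : nd 71418 = n136844 := ndS (p := 39437) (l := 3) rfl N39437 D136844
theorem N71419 : nd 71419 = n136845 := ndS (p := 39437) (l := 4) rfl N39437 D136845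
theorem N71420 : nd 71420 = n136846 := ndS (p := 39437) (l := 5) rfl N39437 D136846
theorem N71421 : nd 71421 = n136847 := ndS (p := 39437) (l := 6) rfl N39437 D136847
theorem N71422 : nd 71422 = n136849 := ndS (p := 39438) (l := 3) rfl N39438 D136849
theorem N71423 : nd 71423 = n136850 := ndS (p := 39438) (l := 4) rfl N39438 D136850
theorem N71424 : nd 71424 = n136851 := ndS (p := 39438) (l := 5) rfl N39438 D136851
theorem N71425 : nd 71425 = n136852 := ndS (p := 39438) (l := 6) rfl N39438 D136852
theorem N71426 : nd 71426 = n136854 := ndS (p := 39439) (l := 6) rfl N39439 D136854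
theorem N71427 : nd 71427 = n136856 := ndS (p := 39440) (l := 1) rfl N39440 D136856
theorem N71428 : nd 71428 = n136857 := ndS (p := 39440) (l := 4) rfl N39440 D136857
theorem N71429 : nd 71429 = n136859 := ndS (p := 39441) (l := 0) rfl N39441 D136859
theorem N71430 : nd 71430 = n136860 := ndS (p := 39441) (l := 1) rfl N39441 D136860
theorem N71431 : nd 71431 = n136861 := ndS (p := 39441) (l := 5) rfl N39441 D136861
theorem N71432 : nd 71432 = n136862 := ndS (p := 39441) (l := 7) rfl N39441 D136862
theorem N71433 : nd 71433 = n136865 := ndS (p := 39442) (l := 5) rfl N39442 D136865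
theorem N71434 : nd 71434 = n136867 := ndS (p := 39443) (l := 0) rfl N39443 D136867
theorem N71435 : nd 71435 = n136868 := ndS (p := 39443) (l := 4) rfl N39443 D136868
theorem N71436 : nd 71436 = n136869 := ndS (p := 39443) (l := 7) rfl N39443 D136869
theorem N71437 : nd 71437 = n136870 := ndS (p := 39445) (l := 4) rfl N39445 D136870
theorem N71438 : nd 71438 = n136871 := ndS (p := 39445) (l := 5) rfl N39445 D136871
theorem N71439 : nd 71439 = n136873 := ndS (p := 39446) (l := 3) rfl N39446 D136873
theorem N71440 : nd 71440 = n136874 := ndS (p := 39446) (l := 4) rfl N39446 D136874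
theorem N71441 : nd 71441 = n136875 := ndS (p := 39446) (l := 5) rfl N39446 D136875
theorem N71442 : nd 71442 = n136876 := ndS (p := 39446) (l := 6) rfl N39446 D136876
theorem N71443 : nd 71443 = n136877 := ndS (p := 39447) (l := 5) rfl N39447 D136877
theorem N71444 : nd 71444 = n136878 := ndS (p := 39447) (l := 6) rfl N39447 D136878
theorem N71445 : nd 71445 = n136880 := ndS (p := 39448) (l := 1) rfl N39448 D136880
theorem N71446 : nd 71446 = n136881 := ndS (p := 39448) (l := 4) rfl N39448 D136881
theorem N71447 : nd 71447 = n136882 := ndS (p := 39448) (l := 6) rfl N39448 D136882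
theorem N71448 : nd 71448 = n136883 := ndS (p := 39449) (l := 0) rfl N39449 D136883
theorem N71449 : nd 71449 = n136884 := ndS (p := 39449) (l := 1) rfl N39449 D136884
theorem N71450 : nd 71450 = n136885 := ndS (p := 39449) (l := 5) rfl N39449 D136885
theorem N71451 : nd 71451 = n136886 := ndS (p := 39451) (l := 0) rfl N39451 D136886
theorem N71452 : nd 71452 = n136887 := ndS (p := 39451) (l := 1) rfl N39451 D136887
theorem N71453 : nd 71453 = n136888 := ndS (p := 39451) (l := 5) rfl N39451 D136888
theorem N71454 : nd 71454 = n136889 := ndS (p := 39451) (l := 7) rfl N39451 D136889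
theorem N71455 : nd 71455 = n136890 := ndS (p := 39452) (l := 0) rfl N39452 D136890
theorem N71456 : nd 71456 = n136891 := ndS (p := 39452) (l := 1) rfl N39452 D136891
theorem N71457 : nd 71457 = n136892 := ndS (p := 39452) (l := 4) rfl N39452 D136892
theorem N71458 : nd 71458 = n136894 := ndS (p := 39453) (l := 1) rfl N39453 D136894
theorem N71459 : nd 71459 = n136895 := ndS (p := 39453) (l := 2) rfl N39453 D136895
theorem N71460 : nd 71460 = n136896 := ndS (p := 39453) (l := 4) rfl N39453 D136896
theorem N71461 : nd 71461 = n136897 := ndS (p := 39453) (l := 5) rfl N39453 D136897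
theorem N71462 : nd 71462 = n136898 := ndS (p := 39453) (l := 6) rfl N39453 D136898
theorem N71463 : nd 71463 = n136900 := ndS (p := 39454) (l := 1) rfl N39454 D136900
theorem N71464 : nd 71464 = n136901 := ndS (p := 39454) (l := 3) rfl N39454 D136901
theorem N71465 : nd 71465 = n136902 := ndS (p := 39454) (l := 6) rfl N39454 D136902
theorem N71466 : nd 71466 = n136906 := ndS (p := 39456) (l := 5) rfl N39456 D136906
theorem N71467 : nd 71467 = n136907 := ndS (p := 39456) (l := 7) rfl N39456 D136907
theorem N71468 : nd 71468 = n136908 := ndS (p := 39457) (l := 0) rfl N39457 D136908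
theorem N71469 : nd 71469 = n136910 := ndS (p := 39457) (l := 2) rfl N39457 D136910
theorem N71470 : nd 71470 = n136911 := ndS (p := 39457) (l := 4) rfl N39457 D136911
theorem N71471 : nd 71471 = n136913 := ndS (p := 39457) (l := 6) rfl N39457 D136913
theorem N71472 : nd 71472 = n136915 := ndS (p := 39458) (l := 6) rfl N39458 D136915
theorem N71473 : nd 71473 = n136918 := ndS (p := 39460) (l := 5) rfl N39460 D136918
theorem N71474 : nd 71474 = n136919 := ndS (p := 39460) (l := 7) rfl N39460 D136919
theorem N71475 : nd 71475 = n136920 := ndS (p := 39461) (l := 6) rfl N39461 D136920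
theorem N71476 : nd 71476 = n136922 := ndS (p := 39462) (l := 1) rfl N39462 D136922
theorem N71477 : nd 71477 = n136923 := ndS (p := 39462) (l := 5) rfl N39462 D136923
theorem N71478 : nd 71478 = n136925 := ndS (p := 39463) (l := 3) rfl N39463 D136925
theorem N71479 : nd 71479 = n136926 := ndS (p := 39463) (l := 6) rfl N39463 D136926
theorem N71480 : nd 71480 = n136929 := ndS (p := 39465) (l := 0) rfl N39465 D136929
theorem N71481 : nd 71481 = n136930 := ndS (p := 39465) (l := 1) rfl N39465 D136930
theorem N71482 : nd 71482 = n136932 := ndS (p := 39465) (l := 7) rfl N39465 D136932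
theorem N71483 : nd 71483 = n136934 := ndS (p := 39466) (l := 3) rfl N39466 D136934
theorem N71484 : nd 71484 = n136935 := ndS (p := 39466) (l := 4) rfl N39466 D136935
theorem N71485 : nd 71485 = n136936 := ndS (p := 39466) (l := 5) rfl N39466 D136936
theorem N71486 : nd 71486 = n136939 := ndS (p := 39467) (l := 3) rfl N39467 D136939
theorem N71487 : nd 71487 = n136940 := ndS (p := 39467) (l := 4) rfl N39467 D136940
theorem N71488 : nd 71488 = n136941 := ndS (p := 39467) (l := 5) rfl N39467 D136941
theorem N71489 : nd 71489 = n136943 := ndS (p := 39468) (l := 0) rfl N39468 D136943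
theorem N71490 : nd 71490 = n136944 := ndS (p := 39468) (l := 1) rfl N39468 D136944
theorem N71491 : nd 71491 = n136946 := ndS (p := 39468) (l := 7) rfl N39468 D136946
theorem N71492 : nd 71492 = n136948 := ndS (p := 39470) (l := 2) rfl N39470 D136948
theorem N71493 : nd 71493 = n136949 := ndS (p := 39470) (l := 4) rfl N39470 D136949
theorem N71494 : nd 71494 = n136950 := ndS (p := 39470) (l := 6) rfl N39470 D136950
theorem N71495 : nd 71495 = n136953 := ndS (p := 39471) (l := 5) rfl N39471 D136953
theorem N71496 : nd 71496 = n136954 := ndS (p := 39471) (l := 7) rfl N39471 D136954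
theorem N71497 : nd 71497 = n136957 := ndS (p := 39472) (l := 2) rfl N39472 D136957
theorem N71498 : nd 71498 = n136958 := ndS (p := 39472) (l := 4) rfl N39472 D136958
theorem N71499 : nd 71499 = n136959 := ndS (p := 39472) (l := 6) rfl N39472 D136959
theorem N71500 : nd 71500 = n136965 := ndS (p := 39474) (l := 4) rfl N39474 D136965
theorem N71501 : nd 71501 = n136966 := ndS (p := 39474) (l := 5) rfl N39474 D136966
theorem N71502 : nd 71502 = n136969 := ndS (p := 39475) (l := 3) rfl N39475 D136969
theorem N71503 : nd 71503 = n136971 := ndS (p := 39475) (l := 5) rfl N39475 D136971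
theorem N71504 : nd 71504 = n136973 := ndS (p := 39476) (l := 0) rfl N39476 D136973
theorem N71505 : nd 71505 = n136974 := ndS (p := 39476) (l := 1) rfl N39476 D136974
theorem N71506 : nd 71506 = n136975 := ndS (p := 39476) (l := 4) rfl N39476 D136975
theorem N71507 : nd 71507 = n136976 := ndS (p := 39476) (l := 7) rfl N39476 D136976
theorem N71508 : nd 71508 = n136977 := ndS (p := 39478) (l := 0) rfl N39478 D136977
theorem N71509 : nd 71509 = n136979 := ndS (p := 39478) (l := 2) rfl N39478 D136979
theorem N71510 : nd 71510 = n136980 := ndS (p := 39478) (l := 5) rfl N39478 D136980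
theorem N71511 : nd 71511 = n136981 := ndS (p := 39479) (l := 1) rfl N39479 D136981
theorem N71512 : nd 71512 = n136982 := ndS (p := 39479) (l := 4) rfl N39479 D136982
theorem N71513 : nd 71513 = n136986 := ndS (p := 39480) (l := 2) rfl N39480 D136986
theorem N71514 : nd 71514 = n136987 := ndS (p := 39480) (l := 4) rfl N39480 D136987
theorem N71515 : nd 71515 = n136988 := ndS (p := 39480) (l := 5) rfl N39480 D136988
theorem N71516 : nd 71516 = n136989 := ndS (p := 39480) (l := 6) rfl N39480 D136989
theorem N71517 : nd 71517 = n136990 := ndS (p := 39481) (l := 6) rfl N39481 D136990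
theorem N71518 : nd 71518 = n136991 := ndS (p := 39482) (l := 4) rfl N39482 D136991
theorem N71519 : nd 71519 = n136992 := ndS (p := 39482) (l := 6) rfl N39482 D136992
theorem N71520 : nd 71520 = n136996 := ndS (p := 39484) (l := 3) rfl N39484 D136996
theorem N71521 : nd 71521 = n136997 := ndS (p := 39484) (l := 4) rfl N39484 D136997
theorem N71522 : nd 71522 = n136998 := ndS (p := 39484) (l := 6) rfl N39484 D136998
theorem N71523 : nd 71523 = n136999 := ndS (p := 39485) (l := 3) rfl N39485 D136999
theorem N71524 : nd 71524 = n137000 := ndS (p := 39485) (l := 4) rfl N39485 D137000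
theorem N71525 : nd 71525 = n137002 := ndS (p := 39486) (l := 0) rfl N39486 D137002
theorem N71526 : nd 71526 = n137003 := ndS (p := 39486) (l := 1) rfl N39486 D137003
theorem N71527 : nd 71527 = n137004 := ndS (p := 39486) (l := 3) rfl N39486 D137004
theorem N71528 : nd 71528 = n137005 := ndS (p := 39486) (l := 5) rfl N39486 D137005
theorem N71529 : nd 71529 = n137006 := ndS (p := 39486) (l := 7) rfl N39486 D137006
theorem N71530 : nd 71530 = n137007 := ndS (p := 39487) (l := 6) rfl N39487 D137007
theorem N71531 : nd 71531 = n137008 := ndS (p := 39488) (l := 3) rfl N39488 D137008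
theorem N71532 : nd 71532 = n137009 := ndS (p := 39488) (l := 5) rfl N39488 D137009
theorem N71533 : nd 71533 = n137010 := ndS (p := 39489) (l := 0) rfl N39489 D137010
theorem N71534 : nd 71534 = n137013 := ndS (p := 39489) (l := 5) rfl N39489 D137013
theorem N71535 : nd 71535 = n137014 := ndS (p := 39490) (l := 1) rfl N39490 D137014
theorem N71536 : nd 71536 = n137015 := ndS (p := 39490) (l := 4) rfl N39490 D137015
theorem N71537 : nd 71537 = n137017 := ndS (p := 39491) (l := 3) rfl N39491 D137017
theorem N71538 : nd 71538 = n137018 := ndS (p := 39491) (l := 5) rfl N39491 D137018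
theorem N71539 : nd 71539 = n137019 := ndS (p := 39491) (l := 6) rfl N39491 D137019
theorem N71540 : nd 71540 = n137025 := ndS (p := 39493) (l := 4) rfl N39493 D137025
theorem N71541 : nd 71541 = n137026 := ndS (p := 39493) (l := 6) rfl N39493 D137026
theorem N71542 : nd 71542 = n137030 := ndS (p := 39495) (l := 3) rfl N39495 D137030
theorem N71543 : nd 71543 = n137031 := ndS (p := 39495) (l := 5) rfl N39495 D137031
theorem N71544 : nd 71544 = n137032 := ndS (p := 39495) (l := 6) rfl N39495 D137032
theorem N71545 : nd 71545 = n137034 := ndS (p := 39497) (l := 5) rfl N39497 D137034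
theorem N71546 : nd 71546 = n137035 := ndS (p := 39498) (l := 3) rfl N39498 D137035
theorem N71547 : nd 71547 = n137036 := ndS (p := 39498) (l := 6) rfl N39498 D137036
theorem N71548 : nd 71548 = n137037 := ndS (p := 39499) (l := 3) rfl N39499 D137037
theorem N71549 : nd 71549 = n137038 := ndS (p := 39500) (l := 0) rfl N39500 D137038
theorem N71550 : nd 71550 = n137039 := ndS (p := 39500) (l := 1) rfl N39500 D137039
theorem N71551 : nd 71551 = n137040 := ndS (p := 39500) (l := 2) rfl N39500 D137040
theorem N71552 : nd 71552 = n137041 := ndS (p := 39500) (l := 5) rfl N39500 D137041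
theorem N71553 : nd 71553 = n137042 := ndS (p := 39500) (l := 7) rfl N39500 D137042
theorem N71554 : nd 71554 = n137043 := ndS (p := 39501) (l := 0) rfl N39501 D137043
theorem N71555 : nd 71555 = n137044 := ndS (p := 39501) (l := 1) rfl N39501 D137044
theorem N71556 : nd 71556 = n137045 := ndS (p := 39501) (l := 4) rfl N39501 D137045
theorem N71557 : nd 71557 = n137046 := ndS (p := 39501) (l := 6) rfl N39501 D137046
theorem N71558 : nd 71558 = n137047 := ndS (p := 39501) (l := 7) rfl N39501 D137047
theorem N71559 : nd 71559 = n137052 := ndS (p := 39503) (l := 6) rfl N39503 D137052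
theorem N71560 : nd 71560 = n137053 := ndS (p := 39504) (l := 1) rfl N39504 D137053
theorem N71561 : nd 71561 = n137054 := ndS (p := 39504) (l := 2) rfl N39504 D137054
theorem N71562 : nd 71562 = n137055 := ndS (p := 39504) (l := 5) rfl N39504 D137055
theorem N71563 : nd 71563 = n137056 := ndS (p := 39504) (l := 6) rfl N39504 D137056
theorem N71564 : nd 71564 = n137057 := ndS (p := 39505) (l := 6) rfl N39505 D137057
theorem N71565 : nd 71565 = n137058 := ndS (p := 39506) (l := 5) rfl N39506 D137058
theorem N71566 : nd 71566 = n137061 := ndS (p := 39508) (l := 3) rfl N39508 D137061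
theorem N71567 : nd 71567 = n137062 := ndS (p := 39508) (l := 6) rfl N39508 D137062
theorem N71568 : nd 71568 = n137063 := ndS (p := 39510) (l := 3) rfl N39510 D137063
theorem N71569 : nd 71569 = n137064 := ndS (p := 39510) (l := 6) rfl N39510 D137064
theorem N71570 : nd 71570 = n137065 := ndS (p := 39511) (l := 3) rfl N39511 D137065
theorem N71571 : nd 71571 = n137067 := ndS (p := 39512) (l := 6) rfl N39512 D137067
theorem N71572 : nd 71572 = n137068 := ndS (p := 39513) (l := 0) rfl N39513 D137068
theorem N71573 : nd 71573 = n137069 := ndS (p := 39513) (l := 1) rfl N39513 D137069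
theorem N71574 : nd 71574 = n137070 := ndS (p := 39513) (l := 7) rfl N39513 D137070
theorem N71575 : nd 71575 = n137071 := ndS (p := 39514) (l := 1) rfl N39514 D137071
theorem N71576 : nd 71576 = n137072 := ndS (p := 39514) (l := 2) rfl N39514 D137072
theorem N71577 : nd 71577 = n137073 := ndS (p := 39514) (l := 6) rfl N39514 D137073
theorem N71578 : nd 71578 = n137074 := ndS (p := 39515) (l := 5) rfl N39515 D137074
theorem N71579 : nd 71579 = n137075 := ndS (p := 39517) (l := 4) rfl N39517 D137075
theorem N71580 : nd 71580 = n137076 := ndS (p := 39517) (l := 5) rfl N39517 D137076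
theorem N71581 : nd 71581 = n137078 := ndS (p := 39518) (l := 3) rfl N39518 D137078
theorem N71582 : nd 71582 = n137079 := ndS (p := 39518) (l := 4) rfl N39518 D137079
theorem N71583 : nd 71583 = n137080 := ndS (p := 39518) (l := 5) rfl N39518 D137080
theorem N71584 : nd 71584 = n137081 := ndS (p := 39518) (l := 6) rfl N39518 D137081
theorem N71585 : nd 71585 = n137082 := ndS (p := 39519) (l := 5) rfl N39519 D137082
theorem N71586 : nd 71586 = n137083 := ndS (p := 39519) (l := 6) rfl N39519 D137083
theorem N71587 : nd 71587 = n137084 := ndS (p := 39520) (l := 0) rfl N39520 D137084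
theorem N71588 : nd 71588 = n137085 := ndS (p := 39520) (l := 1) rfl N39520 D137085
theorem N71589 : nd 71589 = n137086 := ndS (p := 39520) (l := 4) rfl N39520 D137086
theorem N71590 : nd 71590 = n137087 := ndS (p := 39520) (l := 6) rfl N39520 D137087
theorem N71591 : nd 71591 = n137088 := ndS (p := 39521) (l := 0) rfl N39521 D137088
theorem N71592 : nd 71592 = n137089 := ndS (p := 39521) (l := 1) rfl N39521 D137089
theorem N71593 : nd 71593 = n137090 := ndS (p := 39521) (l := 5) rfl N39521 D137090
theorem N71594 : nd 71594 = n137091 := ndS (p := 39521) (l := 7) rfl N39521 D137091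
theorem N71595 : nd 71595 = n137092 := ndS (p := 39522) (l := 0) rfl N39522 D137092
theorem N71596 : nd 71596 = n137093 := ndS (p := 39522) (l := 1) rfl N39522 D137093
theorem N71597 : nd 71597 = n137094 := ndS (p := 39522) (l := 5) rfl N39522 D137094
theorem N71598 : nd 71598 = n137095 := ndS (p := 39522) (l := 7) rfl N39522 D137095
theorem N71599 : nd 71599 = n137096 := ndS (p := 39523) (l := 3) rfl N39523 D137096
theorem N71600 : nd 71600 = n137097 := ndS (p := 39523) (l := 5) rfl N39523 D137097
theorem N71601 : nd 71601 = n137098 := ndS (p := 39524) (l := 0) rfl N39524 D137098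
theorem N71602 : nd 71602 = n137099 := ndS (p := 39524) (l := 1) rfl N39524 D137099
theorem N71603 : nd 71603 = n137100 := ndS (p := 39524) (l := 4) rfl N39524 D137100
theorem N71604 : nd 71604 = n137101 := ndS (p := 39524) (l := 7) rfl N39524 D137101
theorem N71605 : nd 71605 = n137102 := ndS (p := 39529) (l := 3) rfl N39529 D137102
theorem N71606 : nd 71606 = n137103 := ndS (p := 39529) (l := 4) rfl N39529 D137103
theorem N71607 : nd 71607 = n137104 := ndS (p := 39529) (l := 6) rfl N39529 D137104
theorem N71608 : nd 71608 = n137106 := ndS (p := 39530) (l := 4) rfl N39530 D137106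
theorem N71609 : nd 71609 = n137107 := ndS (p := 39530) (l := 6) rfl N39530 D137107
theorem N71610 : nd 71610 = n137109 := ndS (p := 39532) (l := 0) rfl N39532 D137109
theorem N71611 : nd 71611 = n137110 := ndS (p := 39532) (l := 1) rfl N39532 D137110
theorem N71612 : nd 71612 = n137117 := ndS (p := 39535) (l := 3) rfl N39535 D137117
theorem N71613 : nd 71613 = n137118 := ndS (p := 39535) (l := 5) rfl N39535 D137118
theorem N71614 : nd 71614 = n137119 := ndS (p := 39535) (l := 6) rfl N39535 D137119
theorem N71615 : nd 71615 = n137122 := ndS (p := 39539) (l := 5) rfl N39539 D137122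
theorem N71616 : nd 71616 = n137123 := ndS (p := 39540) (l := 5) rfl N39540 D137123
theorem N71617 : nd 71617 = n137125 := ndS (p := 39542) (l := 1) rfl N39542 D137125
theorem N71618 : nd 71618 = n137126 := ndS (p := 39542) (l := 2) rfl N39542 D137126
theorem N71619 : nd 71619 = n137127 := ndS (p := 39542) (l := 4) rfl N39542 D137127
theorem N71620 : nd 71620 = n137128 := ndS (p := 39542) (l := 5) rfl N39542 D137128
theorem N71621 : nd 71621 = n137130 := ndS (p := 39543) (l := 0) rfl N39543 D137130
theorem N71622 : nd 71622 = n137131 := ndS (p := 39543) (l := 1) rfl N39543 D137131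
theorem N71623 : nd 71623 = n137132 := ndS (p := 39543) (l := 3) rfl N39543 D137132
theorem N71624 : nd 71624 = n137133 := ndS (p := 39543) (l := 5) rfl N39543 D137133
theorem N71625 : nd 71625 = n137137 := ndS (p := 39544) (l := 4) rfl N39544 D137137
theorem N71626 : nd 71626 = n137138 := ndS (p := 39544) (l := 6) rfl N39544 D137138
theorem N71627 : nd 71627 = n137143 := ndS (p := 39545) (l := 6) rfl N39545 D137143
theorem N71628 : nd 71628 = n137144 := ndS (p := 39546) (l := 5) rfl N39546 D137144
theorem N71629 : nd 71629 = n137145 := ndS (p := 39546) (l := 6) rfl N39546 D137145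
theorem N71630 : nd 71630 = n137146 := ndS (p := 39547) (l := 4) rfl N39547 D137146
theorem N71631 : nd 71631 = n137147 := ndS (p := 39547) (l := 6) rfl N39547 D137147
theorem N71632 : nd 71632 = n137150 := ndS (p := 39548) (l := 5) rfl N39548 D137150
theorem N71633 : nd 71633 = n137152 := ndS (p := 39549) (l := 4) rfl N39549 D137152
theorem N71634 : nd 71634 = n137153 := ndS (p := 39549) (l := 6) rfl N39549 D137153
theorem N71635 : nd 71635 = n137154 := ndS (p := 39550) (l := 0) rfl N39550 D137154
theorem N71636 : nd 71636 = n137156 := ndS (p := 39550) (l := 5) rfl N39550 D137156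
theorem N71637 : nd 71637 = n137159 := ndS (p := 39551) (l := 3) rfl N39551 D137159
theorem N71638 : nd 71638 = n137162 := ndS (p := 39551) (l := 6) rfl N39551 D137162
theorem N71639 : nd 71639 = n137164 := ndS (p := 39552) (l := 3) rfl N39552 D137164
theorem N71640 : nd 71640 = n137168 := ndS (p := 39553) (l := 0) rfl N39553 D137168
theorem N71641 : nd 71641 = n137169 := ndS (p := 39553) (l := 1) rfl N39553 D137169
theorem N71642 : nd 71642 = n137170 := ndS (p := 39553) (l := 5) rfl N39553 D137170
theorem N71643 : nd 71643 = n137171 := ndS (p := 39553) (l := 6) rfl N39553 D137171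
theorem N71644 : nd 71644 = n137174 := ndS (p := 39554) (l := 5) rfl N39554 D137174
theorem N71645 : nd 71645 = n137175 := ndS (p := 39554) (l := 7) rfl N39554 D137175
theorem N71646 : nd 71646 = n137177 := ndS (p := 39555) (l := 3) rfl N39555 D137177
theorem N71647 : nd 71647 = n137178 := ndS (p := 39555) (l := 4) rfl N39555 D137178
theorem N71648 : nd 71648 = n137179 := ndS (p := 39555) (l := 5) rfl N39555 D137179
theorem N71649 : nd 71649 = n137182 := ndS (p := 39556) (l := 3) rfl N39556 D137182
theorem N71650 : nd 71650 = n137183 := ndS (p := 39556) (l := 4) rfl N39556 D137183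
theorem N71651 : nd 71651 = n137184 := ndS (p := 39556) (l := 5) rfl N39556 D137184
theorem N71652 : nd 71652 = n137186 := ndS (p := 39557) (l := 0) rfl N39557 D137186
theorem N71653 : nd 71653 = n137188 := ndS (p := 39557) (l := 4) rfl N39557 D137188
theorem N71654 : nd 71654 = n137189 := ndS (p := 39557) (l := 7) rfl N39557 D137189
theorem N71655 : nd 71655 = n137192 := ndS (p := 39559) (l := 4) rfl N39559 D137192
theorem N71656 : nd 71656 = n137193 := ndS (p := 39559) (l := 5) rfl N39559 D137193
theorem N71657 : nd 71657 = n137194 := ndS (p := 39559) (l := 6) rfl N39559 D137194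
theorem N71658 : nd 71658 = n137196 := ndS (p := 39560) (l := 3) rfl N39560 D137196
theorem N71659 : nd 71659 = n137197 := ndS (p := 39560) (l := 4) rfl N39560 D137197
theorem N71660 : nd 71660 = n137198 := ndS (p := 39560) (l := 5) rfl N39560 D137198
theorem N71661 : nd 71661 = n137200 := ndS (p := 39561) (l := 0) rfl N39561 D137200
theorem N71662 : nd 71662 = n137201 := ndS (p := 39561) (l := 1) rfl N39561 D137201
theorem N71663 : nd 71663 = n137202 := ndS (p := 39561) (l := 4) rfl N39561 D137202
theorem N71664 : nd 71664 = n137203 := ndS (p := 39561) (l := 7) rfl N39561 D137203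
theorem N71665 : nd 71665 = n137204 := ndS (p := 39563) (l := 0) rfl N39563 D137204
theorem N71666 : nd 71666 = n137206 := ndS (p := 39563) (l := 2) rfl N39563 D137206
theorem N71667 : nd 71667 = n137207 := ndS (p := 39563) (l := 5) rfl N39563 D137207
theorem N71668 : nd 71668 = n137208 := ndS (p := 39563) (l := 6) rfl N39563 D137208
theorem N71669 : nd 71669 = n137209 := ndS (p := 39564) (l := 5) rfl N39564 D137209
theorem N71670 : nd 71670 = n137210 := ndS (p := 39564) (l := 6) rfl N39564 D137210
theorem N71671 : nd 71671 = n137211 := ndS (p := 39565) (l := 0) rfl N39565 D137211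
theorem N71672 : nd 71672 = n137212 := ndS (p := 39565) (l := 1) rfl N39565 D137212
theorem N71673 : nd 71673 = n137213 := ndS (p := 39565) (l := 4) rfl N39565 D137213
theorem N71674 : nd 71674 = n137214 := ndS (p := 39565) (l := 6) rfl N39565 D137214
theorem N71675 : nd 71675 = n137216 := ndS (p := 39567) (l := 1) rfl N39567 D137216
theorem N71676 : nd 71676 = n137217 := ndS (p := 39567) (l := 2) rfl N39567 D137217
theorem N71677 : nd 71677 = n137218 := ndS (p := 39567) (l := 5) rfl N39567 D137218
theorem N71678 : nd 71678 = n137219 := ndS (p := 39568) (l := 4) rfl N39568 D137219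
theorem N71679 : nd 71679 = n137220 := ndS (p := 39568) (l := 6) rfl N39568 D137220
theorem N71680 : nd 71680 = n137221 := ndS (p := 39569) (l := 3) rfl N39569 D137221
theorem N71681 : nd 71681 = n137222 := ndS (p := 39569) (l := 4) rfl N39569 D137222
theorem N71682 : nd 71682 = n137223 := ndS (p := 39569) (l := 6) rfl N39569 D137223
theorem N71683 : nd 71683 = n137224 := ndS (p := 39570) (l := 3) rfl N39570 D137224
theorem N71684 : nd 71684 = n137225 := ndS (p := 39570) (l := 4) rfl N39570 D137225
theorem N71685 : nd 71685 = n137226 := ndS (p := 39570) (l := 6) rfl N39570 D137226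
theorem N71686 : nd 71686 = n137227 := ndS (p := 39571) (l := 0) rfl N39571 D137227
theorem N71687 : nd 71687 = n137228 := ndS (p := 39571) (l := 1) rfl N39571 D137228
theorem N71688 : nd 71688 = n137229 := ndS (p := 39571) (l := 3) rfl N39571 D137229
theorem N71689 : nd 71689 = n137230 := ndS (p := 39571) (l := 5) rfl N39571 D137230
theorem N71690 : nd 71690 = n137231 := ndS (p := 39571) (l := 7) rfl N39571 D137231
theorem N71691 : nd 71691 = n137232 := ndS (p := 39572) (l := 6) rfl N39572 D137232
theorem N71692 : nd 71692 = n137233 := ndS (p := 39573) (l := 3) rfl N39573 D137233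
theorem N71693 : nd 71693 = n137234 := ndS (p := 39573) (l := 5) rfl N39573 D137234
theorem N71694 : nd 71694 = n137237 := ndS (p := 39574) (l := 2) rfl N39574 D137237
theorem N71695 : nd 71695 = n137238 := ndS (p := 39574) (l := 5) rfl N39574 D137238
theorem N71696 : nd 71696 = n137239 := ndS (p := 39574) (l := 6) rfl N39574 D137239
theorem N71697 : nd 71697 = n137240 := ndS (p := 39575) (l := 0) rfl N39575 D137240
theorem N71698 : nd 71698 = n137241 := ndS (p := 39575) (l := 1) rfl N39575 D137241
theorem N71699 : nd 71699 = n137242 := ndS (p := 39575) (l := 4) rfl N39575 D137242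
theorem N71700 : nd 71700 = n137243 := ndS (p := 39575) (l := 6) rfl N39575 D137243
theorem N71701 : nd 71701 = n137245 := ndS (p := 39577) (l := 1) rfl N39577 D137245
theorem N71702 : nd 71702 = n137251 := ndS (p := 39579) (l := 5) rfl N39579 D137251
theorem N71703 : nd 71703 = n137253 := ndS (p := 39580) (l := 5) rfl N39580 D137253
theorem N71704 : nd 71704 = n137255 := ndS (p := 39581) (l := 4) rfl N39581 D137255
theorem N71705 : nd 71705 = n137257 := ndS (p := 39581) (l := 6) rfl N39581 D137257
theorem N71706 : nd 71706 = n137258 := ndS (p := 39582) (l := 3) rfl N39582 D137258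
theorem N71707 : nd 71707 = n137259 := ndS (p := 39582) (l := 5) rfl N39582 D137259
theorem N71708 : nd 71708 = n137260 := ndS (p := 39583) (l := 0) rfl N39583 D137260
theorem N71709 : nd 71709 = n137261 := ndS (p := 39583) (l := 1) rfl N39583 D137261
theorem N71710 : nd 71710 = n137262 := ndS (p := 39583) (l := 2) rfl N39583 D137262
theorem N71711 : nd 71711 = n137263 := ndS (p := 39583) (l := 5) rfl N39583 D137263
theorem N71712 : nd 71712 = n137264 := ndS (p := 39583) (l := 7) rfl N39583 D137264
theorem N71713 : nd 71713 = n137265 := ndS (p := 39584) (l := 0) rfl N39584 D137265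
theorem N71714 : nd 71714 = n137266 := ndS (p := 39584) (l := 4) rfl N39584 D137266
theorem N71715 : nd 71715 = n137267 := ndS (p := 39584) (l := 6) rfl N39584 D137267
theorem N71716 : nd 71716 = n137268 := ndS (p := 39584) (l := 7) rfl N39584 D137268
theorem N71717 : nd 71717 = n137269 := ndS (p := 39586) (l := 1) rfl N39586 D137269
theorem N71718 : nd 71718 = n137270 := ndS (p := 39586) (l := 2) rfl N39586 D137270
theorem N71719 : nd 71719 = n137271 := ndS (p := 39586) (l := 5) rfl N39586 D137271
theorem N71720 : nd 71720 = n137272 := ndS (p := 39586) (l := 6) rfl N39586 D137272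
theorem N71721 : nd 71721 = n137273 := ndS (p := 39587) (l := 6) rfl N39587 D137273
theorem N71722 : nd 71722 = n137274 := ndS (p := 39588) (l := 5) rfl N39588 D137274
theorem N71723 : nd 71723 = n137275 := ndS (p := 39589) (l := 0) rfl N39589 D137275
theorem N71724 : nd 71724 = n137276 := ndS (p := 39589) (l := 1) rfl N39589 D137276
theorem N71725 : nd 71725 = n137277 := ndS (p := 39589) (l := 2) rfl N39589 D137277
theorem N71726 : nd 71726 = n137278 := ndS (p := 39589) (l := 5) rfl N39589 D137278
theorem N71727 : nd 71727 = n137279 := ndS (p := 39589) (l := 6) rfl N39589 D137279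
theorem N71728 : nd 71728 = n137280 := ndS (p := 39590) (l := 6) rfl N39590 D137280
theorem N71729 : nd 71729 = n137281 := ndS (p := 39591) (l := 5) rfl N39591 D137281
theorem N71730 : nd 71730 = n137282 := ndS (p := 39592) (l := 3) rfl N39592 D137282
theorem N71731 : nd 71731 = n137283 := ndS (p := 39592) (l := 4) rfl N39592 D137283
theorem N71732 : nd 71732 = n137284 := ndS (p := 39592) (l := 5) rfl N39592 D137284
theorem N71733 : nd 71733 = n137285 := ndS (p := 39592) (l := 6) rfl N39592 D137285
theorem N71734 : nd 71734 = n137286 := ndS (p := 39593) (l := 4) rfl N39593 D137286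
theorem N71735 : nd 71735 = n137287 := ndS (p := 39593) (l := 5) rfl N39593 D137287
theorem N71736 : nd 71736 = n137292 := ndS (p := 39595) (l := 6) rfl N39595 D137292
theorem N71737 : nd 71737 = n137293 := ndS (p := 39596) (l := 6) rfl N39596 D137293
theorem N71738 : nd 71738 = n137297 := ndS (p := 39599) (l := 3) rfl N39599 D137297
theorem N71739 : nd 71739 = n137298 := ndS (p := 39599) (l := 4) rfl N39599 D137298
theorem N71740 : nd 71740 = n137299 := ndS (p := 39599) (l := 6) rfl N39599 D137299
theorem N71741 : nd 71741 = n137302 := ndS (p := 39601) (l := 6) rfl N39601 D137302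
theorem N71742 : nd 71742 = n137303 := ndS (p := 39602) (l := 6) rfl N39602 D137303
theorem N71743 : nd 71743 = n137304 := ndS (p := 39603) (l := 0) rfl N39603 D137304
theorem N71744 : nd 71744 = n137305 := ndS (p := 39603) (l := 1) rfl N39603 D137305
theorem N71745 : nd 71745 = n137306 := ndS (p := 39603) (l := 5) rfl N39603 D137306
theorem N71746 : nd 71746 = n137307 := ndS (p := 39603) (l := 7) rfl N39603 D137307
theorem N71747 : nd 71747 = n137313 := ndS (p := 39606) (l := 3) rfl N39606 D137313
theorem N71748 : nd 71748 = n137315 := ndS (p := 39606) (l := 6) rfl N39606 D137315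
theorem N71749 : nd 71749 = n137316 := ndS (p := 39607) (l := 1) rfl N39607 D137316
theorem N71750 : nd 71750 = n137318 := ndS (p := 39607) (l := 7) rfl N39607 D137318
theorem N71751 : nd 71751 = n137319 := ndS (p := 39609) (l := 4) rfl N39609 D137319
theorem N71752 : nd 71752 = n137320 := ndS (p := 39611) (l := 4) rfl N39611 D137320
theorem N71753 : nd 71753 = n137321 := ndS (p := 39612) (l := 7) rfl N39612 D137321
theorem N71754 : nd 71754 = n137323 := ndS (p := 39614) (l := 4) rfl N39614 D137323
theorem N71755 : nd 71755 = n137325 := ndS (p := 39614) (l := 6) rfl N39614 D137325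
theorem N71756 : nd 71756 = n137327 := ndS (p := 39615) (l := 3) rfl N39615 D137327
theorem N71757 : nd 71757 = n137329 := ndS (p := 39615) (l := 6) rfl N39615 D137329
theorem N71758 : nd 71758 = n137330 := ndS (p := 39616) (l := 6) rfl N39616 D137330
theorem N71759 : nd 71759 = n137331 := ndS (p := 39617) (l := 0) rfl N39617 D137331
theorem N71760 : nd 71760 = n137332 := ndS (p := 39617) (l := 1) rfl N39617 D137332
theorem N71761 : nd 71761 = n137336 := ndS (p := 39618) (l := 4) rfl N39618 D137336
theorem N71762 : nd 71762 = n137337 := ndS (p := 39619) (l := 4) rfl N39619 D137337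
theorem N71763 : nd 71763 = n137338 := ndS (p := 39619) (l := 5) rfl N39619 D137338
theorem N71764 : nd 71764 = n137340 := ndS (p := 39620) (l := 3) rfl N39620 D137340
theorem N71765 : nd 71765 = n137341 := ndS (p := 39620) (l := 4) rfl N39620 D137341
theorem N71766 : nd 71766 = n137342 := ndS (p := 39620) (l := 5) rfl N39620 D137342
theorem N71767 : nd 71767 = n137343 := ndS (p := 39620) (l := 6) rfl N39620 D137343
theorem N71768 : nd 71768 = n137344 := ndS (p := 39622) (l := 2) rfl N39622 D137344
theorem N71769 : nd 71769 = n137345 := ndS (p := 39622) (l := 6) rfl N39622 D137345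
theorem N71770 : nd 71770 = n137346 := ndS (p := 39623) (l := 3) rfl N39623 D137346
theorem N71771 : nd 71771 = n137347 := ndS (p := 39623) (l := 5) rfl N39623 D137347
theorem N71772 : nd 71772 = n137351 := ndS (p := 39624) (l := 5) rfl N39624 D137351
theorem N71773 : nd 71773 = n137355 := ndS (p := 39625) (l := 4) rfl N39625 D137355
theorem N71774 : nd 71774 = n137357 := ndS (p := 39626) (l := 5) rfl N39626 D137357
theorem N71775 : nd 71775 = n137364 := ndS (p := 39628) (l := 0) rfl N39628 D137364
theorem N71776 : nd 71776 = n137365 := ndS (p := 39628) (l := 1) rfl N39628 D137365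
theorem N71777 : nd 71777 = n137366 := ndS (p := 39628) (l := 5) rfl N39628 D137366
theorem N71778 : nd 71778 = n137368 := ndS (p := 39629) (l := 3) rfl N39629 D137368
theorem N71779 : nd 71779 = n137371 := ndS (p := 39631) (l := 6) rfl N39631 D137371
theorem N71780 : nd 71780 = n137374 := ndS (p := 39632) (l := 5) rfl N39632 D137374
theorem N71781 : nd 71781 = n137377 := ndS (p := 39633) (l := 3) rfl N39633 D137377
theorem N71782 : nd 71782 = n137378 := ndS (p := 39633) (l := 4) rfl N39633 D137378
theorem N71783 : nd 71783 = n137379 := ndS (p := 39633) (l := 5) rfl N39633 D137379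
theorem N71784 : nd 71784 = n137380 := ndS (p := 39633) (l := 6) rfl N39633 D137380
theorem N71785 : nd 71785 = n137382 := ndS (p := 39634) (l := 3) rfl N39634 D137382
theorem N71786 : nd 71786 = n137384 := ndS (p := 39634) (l := 5) rfl N39634 D137384
theorem N71787 : nd 71787 = n137385 := ndS (p := 39634) (l := 6) rfl N39634 D137385
theorem N71788 : nd 71788 = n137386 := ndS (p := 39635) (l := 0) rfl N39635 D137386
theorem N71789 : nd 71789 = n137387 := ndS (p := 39635) (l := 1) rfl N39635 D137387
theorem N71790 : nd 71790 = n137388 := ndS (p := 39635) (l := 4) rfl N39635 D137388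
theorem N71791 : nd 71791 = n137389 := ndS (p := 39635) (l := 7) rfl N39635 D137389
theorem N71792 : nd 71792 = n137391 := ndS (p := 39637) (l := 4) rfl N39637 D137391
theorem N71793 : nd 71793 = n137392 := ndS (p := 39637) (l := 6) rfl N39637 D137392
theorem N71794 : nd 71794 = n137393 := ndS (p := 39638) (l := 0) rfl N39638 D137393
theorem N71795 : nd 71795 = n137394 := ndS (p := 39638) (l := 1) rfl N39638 D137394
theorem N71796 : nd 71796 = n137395 := ndS (p := 39638) (l := 5) rfl N39638 D137395
theorem N71797 : nd 71797 = n137396 := ndS (p := 39638) (l := 7) rfl N39638 D137396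
theorem N71798 : nd 71798 = n137399 := ndS (p := 39639) (l := 2) rfl N39639 D137399
theorem N71799 : nd 71799 = n137400 := ndS (p := 39639) (l := 4) rfl N39639 D137400
theorem N71800 : nd 71800 = n137401 := ndS (p := 39639) (l := 6) rfl N39639 D137401
theorem N71801 : nd 71801 = n137409 := ndS (p := 39641) (l := 5) rfl N39641 D137409
theorem N71802 : nd 71802 = n137410 := ndS (p := 39641) (l := 6) rfl N39641 D137410
theorem N71803 : nd 71803 = n137412 := ndS (p := 39642) (l := 3) rfl N39642 D137412
theorem N71804 : nd 71804 = n137414 := ndS (p := 39642) (l := 5) rfl N39642 D137414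
theorem N71805 : nd 71805 = n137419 := ndS (p := 39643) (l := 7) rfl N39643 D137419
theorem N71806 : nd 71806 = n137420 := ndS (p := 39645) (l := 0) rfl N39645 D137420
theorem N71807 : nd 71807 = n137422 := ndS (p := 39645) (l := 2) rfl N39645 D137422
theorem N71808 : nd 71808 = n137435 := ndS (p := 39646) (l := 6) rfl N39646 D137435
theorem N71809 : nd 71809 = n137440 := ndS (p := 39648) (l := 3) rfl N39648 D137440
theorem N71810 : nd 71810 = n137442 := ndS (p := 39648) (l := 6) rfl N39648 D137442
theorem N71811 : nd 71811 = n137465 := ndS (p := 39653) (l := 1) rfl N39653 D137465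
theorem N71812 : nd 71812 = n137466 := ndS (p := 39653) (l := 2) rfl N39653 D137466
theorem N71813 : nd 71813 = n137468 := ndS (p := 39653) (l := 6) rfl N39653 D137468
theorem N71814 : nd 71814 = n137471 := ndS (p := 39654) (l := 0) rfl N39654 D137471
theorem N71815 : nd 71815 = n137473 := ndS (p := 39654) (l := 5) rfl N39654 D137473
theorem N71816 : nd 71816 = n137478 := ndS (p := 39655) (l := 6) rfl N39655 D137478
theorem N71817 : nd 71817 = n137487 := ndS (p := 39659) (l := 3) rfl N39659 D137487
theorem N71818 : nd 71818 = n137489 := ndS (p := 39659) (l := 6) rfl N39659 D137489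
theorem N71819 : nd 71819 = n137490 := ndS (p := 39660) (l := 5) rfl N39660 D137490
theorem N71820 : nd 71820 = n137492 := ndS (p := 39661) (l := 0) rfl N39661 D137492
theorem N71821 : nd 71821 = n137493 := ndS (p := 39661) (l := 1) rfl N39661 D137493
theorem N71822 : nd 71822 = n137494 := ndS (p := 39661) (l := 4) rfl N39661 D137494
theorem N71823 : nd 71823 = n137495 := ndS (p := 39661) (l := 6) rfl N39661 D137495
theorem N71824 : nd 71824 = n137500 := ndS (p := 39662) (l := 0) rfl N39662 D137500
theorem N71825 : nd 71825 = n137501 := ndS (p := 39662) (l := 1) rfl N39662 D137501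
theorem N71826 : nd 71826 = n137502 := ndS (p := 39662) (l := 5) rfl N39662 D137502
theorem N71827 : nd 71827 = n137503 := ndS (p := 39662) (l := 7) rfl N39662 D137503
theorem N71828 : nd 71828 = n137504 := ndS (p := 39663) (l := 3) rfl N39663 D137504
theorem N71829 : nd 71829 = n137505 := ndS (p := 39663) (l := 5) rfl N39663 D137505
theorem N71830 : nd 71830 = n137506 := ndS (p := 39663) (l := 6) rfl N39663 D137506
theorem N71831 : nd 71831 = n137507 := ndS (p := 39664) (l := 3) rfl N39664 D137507
theorem N71832 : nd 71832 = n137508 := ndS (p := 39664) (l := 5) rfl N39664 D137508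
theorem N71833 : nd 71833 = n137509 := ndS (p := 39665) (l := 4) rfl N39665 D137509
theorem N71834 : nd 71834 = n137512 := ndS (p := 39668) (l := 2) rfl N39668 D137512
theorem N71835 : nd 71835 = n137515 := ndS (p := 39669) (l := 0) rfl N39669 D137515
theorem N71836 : nd 71836 = n137517 := ndS (p := 39669) (l := 3) rfl N39669 D137517
theorem N71837 : nd 71837 = n137518 := ndS (p := 39669) (l := 5) rfl N39669 D137518
theorem N71838 : nd 71838 = n137529 := ndS (p := 39670) (l := 6) rfl N39670 D137529
theorem N71839 : nd 71839 = n137530 := ndS (p := 39671) (l := 5) rfl N39671 D137530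
theorem N71840 : nd 71840 = n137531 := ndS (p := 39671) (l := 6) rfl N39671 D137531
theorem N71841 : nd 71841 = n137538 := ndS (p := 39673) (l := 4) rfl N39673 D137538
theorem N71842 : nd 71842 = n137545 := ndS (p := 39674) (l := 3) rfl N39674 D137545
theorem N71843 : nd 71843 = n137550 := ndS (p := 39675) (l := 3) rfl N39675 D137550
theorem N71844 : nd 71844 = n137551 := ndS (p := 39675) (l := 4) rfl N39675 D137551
theorem N71845 : nd 71845 = n137553 := ndS (p := 39675) (l := 6) rfl N39675 D137553
theorem N71846 : nd 71846 = n137554 := ndS (p := 39676) (l := 0) rfl N39676 D137554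
theorem N71847 : nd 71847 = n137555 := ndS (p := 39676) (l := 1) rfl N39676 D137555
theorem N71848 : nd 71848 = n137556 := ndS (p := 39676) (l := 5) rfl N39676 D137556
theorem N71849 : nd 71849 = n137577 := ndS (p := 39677) (l := 3) rfl N39677 D137577
theorem N71850 : nd 71850 = n137580 := ndS (p := 39677) (l := 6) rfl N39677 D137580
theorem N71851 : nd 71851 = n137582 := ndS (p := 39678) (l := 3) rfl N39678 D137582
theorem N71852 : nd 71852 = n137583 := ndS (p := 39678) (l := 4) rfl N39678 D137583
theorem N71853 : nd 71853 = n137585 := ndS (p := 39678) (l := 6) rfl N39678 D137585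
theorem N71854 : nd 71854 = n137590 := ndS (p := 39680) (l := 0) rfl N39680 D137590
theorem N71855 : nd 71855 = n137592 := ndS (p := 39680) (l := 2) rfl N39680 D137592
theorem N71856 : nd 71856 = n137593 := ndS (p := 39680) (l := 5) rfl N39680 D137593
theorem N71857 : nd 71857 = n137594 := ndS (p := 39680) (l := 6) rfl N39680 D137594
theorem N71858 : nd 71858 = n137595 := ndS (p := 39681) (l := 6) rfl N39681 D137595
theorem N71859 : nd 71859 = n137596 := ndS (p := 39682) (l := 4) rfl N39682 D137596
theorem N71860 : nd 71860 = n137598 := ndS (p := 39683) (l := 1) rfl N39683 D137598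
theorem N71861 : nd 71861 = n137601 := ndS (p := 39684) (l := 2) rfl N39684 D137601
theorem N71862 : nd 71862 = n137602 := ndS (p := 39684) (l := 5) rfl N39684 D137602
theorem N71863 : nd 71863 = n137617 := ndS (p := 39686) (l := 0) rfl N39686 D137617
theorem N71864 : nd 71864 = n137620 := ndS (p := 39686) (l := 5) rfl N39686 D137620
theorem N71865 : nd 71865 = n137621 := ndS (p := 39686) (l := 6) rfl N39686 D137621
theorem N71866 : nd 71866 = n137623 := ndS (p := 39687) (l := 1) rfl N39687 D137623
theorem N71867 : nd 71867 = n137624 := ndS (p := 39687) (l := 4) rfl N39687 D137624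
theorem N71868 : nd 71868 = n137625 := ndS (p := 39687) (l := 6) rfl N39687 D137625
theorem N71869 : nd 71869 = n137626 := ndS (p := 39688) (l := 1) rfl N39688 D137626
theorem N71870 : nd 71870 = n137627 := ndS (p := 39688) (l := 5) rfl N39688 D137627
theorem N71871 : nd 71871 = n137632 := ndS (p := 39690) (l := 4) rfl N39690 D137632
theorem N71872 : nd 71872 = n137634 := ndS (p := 39691) (l := 0) rfl N39691 D137634
theorem N71873 : nd 71873 = n137636 := ndS (p := 39691) (l := 5) rfl N39691 D137636
theorem N71874 : nd 71874 = n137638 := ndS (p := 39692) (l := 5) rfl N39692 D137638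
theorem N71875 : nd 71875 = n137640 := ndS (p := 39694) (l := 3) rfl N39694 D137640
theorem N71876 : nd 71876 = n137641 := ndS (p := 39694) (l := 5) rfl N39694 D137641
theorem N71877 : nd 71877 = n137642 := ndS (p := 39695) (l := 3) rfl N39695 D137642
theorem N71878 : nd 71878 = n137643 := ndS (p := 39695) (l := 5) rfl N39695 D137643
theorem N71879 : nd 71879 = n137644 := ndS (p := 39695) (l := 6) rfl N39695 D137644
theorem N71880 : nd 71880 = n137645 := ndS (p := 39696) (l := 0) rfl N39696 D137645
theorem N71881 : nd 71881 = n137646 := ndS (p := 39696) (l := 1) rfl N39696 D137646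
theorem N71882 : nd 71882 = n137647 := ndS (p := 39696) (l := 2) rfl N39696 D137647
theorem N71883 : nd 71883 = n137648 := ndS (p := 39696) (l := 5) rfl N39696 D137648
theorem N71884 : nd 71884 = n137649 := ndS (p := 39696) (l := 7) rfl N39696 D137649
theorem N71885 : nd 71885 = n137651 := ndS (p := 39697) (l := 6) rfl N39697 D137651
theorem N71886 : nd 71886 = n137652 := ndS (p := 39697) (l := 7) rfl N39697 D137652
theorem N71887 : nd 71887 = n137653 := ndS (p := 39699) (l := 1) rfl N39699 D137653
theorem N71888 : nd 71888 = n137654 := ndS (p := 39699) (l := 6) rfl N39699 D137654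
theorem N71889 : nd 71889 = n137655 := ndS (p := 39700) (l := 0) rfl N39700 D137655
theorem N71890 : nd 71890 = n137656 := ndS (p := 39700) (l := 1) rfl N39700 D137656
theorem N71891 : nd 71891 = n137657 := ndS (p := 39700) (l := 3) rfl N39700 D137657
theorem N71892 : nd 71892 = n137658 := ndS (p := 39700) (l := 5) rfl N39700 D137658
theorem N71893 : nd 71893 = n137659 := ndS (p := 39700) (l := 6) rfl N39700 D137659
theorem N71894 : nd 71894 = n137660 := ndS (p := 39701) (l := 6) rfl N39701 D137660
theorem N71895 : nd 71895 = n137661 := ndS (p := 39702) (l := 0) rfl N39702 D137661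
theorem N71896 : nd 71896 = n137667 := ndS (p := 39703) (l := 4) rfl N39703 D137667
theorem N71897 : nd 71897 = n137668 := ndS (p := 39703) (l := 5) rfl N39703 D137668
theorem N71898 : nd 71898 = n137670 := ndS (p := 39704) (l := 5) rfl N39704 D137670
theorem N71899 : nd 71899 = n137672 := ndS (p := 39705) (l := 6) rfl N39705 D137672
theorem N71900 : nd 71900 = n137677 := ndS (p := 39706) (l := 5) rfl N39706 D137677
theorem N71901 : nd 71901 = n137678 := ndS (p := 39706) (l := 6) rfl N39706 D137678
theorem N71902 : nd 71902 = n137679 := ndS (p := 39707) (l := 4) rfl N39707 D137679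
theorem N71903 : nd 71903 = n137685 := ndS (p := 39709) (l := 5) rfl N39709 D137685
theorem N71904 : nd 71904 = n137686 := ndS (p := 39709) (l := 6) rfl N39709 D137686
theorem N71905 : nd 71905 = n137690 := ndS (p := 39711) (l := 0) rfl N39711 D137690
theorem N71906 : nd 71906 = n137691 := ndS (p := 39711) (l := 1) rfl N39711 D137691
theorem N71907 : nd 71907 = n137692 := ndS (p := 39711) (l := 6) rfl N39711 D137692
theorem N71908 : nd 71908 = n137693 := ndS (p := 39712) (l := 0) rfl N39712 D137693
theorem N71909 : nd 71909 = n137694 := ndS (p := 39712) (l := 1) rfl N39712 D137694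
theorem N71910 : nd 71910 = n137697 := ndS (p := 39713) (l := 5) rfl N39713 D137697
theorem N71911 : nd 71911 = n137698 := ndS (p := 39714) (l := 3) rfl N39714 D137698
theorem N71912 : nd 71912 = n137699 := ndS (p := 39714) (l := 5) rfl N39714 D137699
theorem N71913 : nd 71913 = n137700 := ndS (p := 39714) (l := 6) rfl N39714 D137700
theorem N71914 : nd 71914 = n137701 := ndS (p := 39715) (l := 0) rfl N39715 D137701
theorem N71915 : nd 71915 = n137702 := ndS (p := 39715) (l := 1) rfl N39715 D137702
theorem N71916 : nd 71916 = n137703 := ndS (p := 39715) (l := 6) rfl N39715 D137703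
theorem N71917 : nd 71917 = n137709 := ndS (p := 39717) (l := 3) rfl N39717 D137709
theorem N71918 : nd 71918 = n137710 := ndS (p := 39717) (l := 4) rfl N39717 D137710
theorem N71919 : nd 71919 = n137712 := ndS (p := 39717) (l := 6) rfl N39717 D137712
theorem N71920 : nd 71920 = n137714 := ndS (p := 39718) (l := 3) rfl N39718 D137714
theorem N71921 : nd 71921 = n137715 := ndS (p := 39718) (l := 4) rfl N39718 D137715
theorem N71922 : nd 71922 = n137717 := ndS (p := 39718) (l := 6) rfl N39718 D137717
theorem N71923 : nd 71923 = n137722 := ndS (p := 39719) (l := 7) rfl N39719 D137722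
theorem N71924 : nd 71924 = n137729 := ndS (p := 39721) (l := 0) rfl N39721 D137729
theorem N71925 : nd 71925 = n137730 := ndS (p := 39721) (l := 1) rfl N39721 D137730
theorem N71926 : nd 71926 = n137731 := ndS (p := 39721) (l := 5) rfl N39721 D137731
theorem N71927 : nd 71927 = n137734 := ndS (p := 39722) (l := 4) rfl N39722 D137734
theorem N71928 : nd 71928 = n137735 := ndS (p := 39722) (l := 6) rfl N39722 D137735
theorem N71929 : nd 71929 = n137774 := ndS (p := 39727) (l := 6) rfl N39727 D137774
theorem N71930 : nd 71930 = n137780 := ndS (p := 39728) (l := 4) rfl N39728 D137780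
theorem N71931 : nd 71931 = n137781 := ndS (p := 39728) (l := 5) rfl N39728 D137781
theorem N71932 : nd 71932 = n137782 := ndS (p := 39728) (l := 6) rfl N39728 D137782
theorem N71933 : nd 71933 = n137784 := ndS (p := 39729) (l := 6) rfl N39729 D137784
theorem N71934 : nd 71934 = n137786 := ndS (p := 39730) (l := 6) rfl N39730 D137786
theorem N71935 : nd 71935 = n137788 := ndS (p := 39731) (l := 1) rfl N39731 D137788
theorem N71936 : nd 71936 = n137789 := ndS (p := 39731) (l := 5) rfl N39731 D137789
theorem N71937 : nd 71937 = n137791 := ndS (p := 39732) (l := 5) rfl N39732 D137791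
theorem N71938 : nd 71938 = n137801 := ndS (p := 39735) (l := 3) rfl N39735 D137801
theorem N71939 : nd 71939 = n137802 := ndS (p := 39735) (l := 5) rfl N39735 D137802
theorem N71940 : nd 71940 = n137803 := ndS (p := 39735) (l := 6) rfl N39735 D137803
theorem N71941 : nd 71941 = n137804 := ndS (p := 39736) (l := 0) rfl N39736 D137804
theorem N71942 : nd 71942 = n137805 := ndS (p := 39736) (l := 1) rfl N39736 D137805
theorem N71943 : nd 71943 = n137808 := ndS (p := 39737) (l := 0) rfl N39737 D137808
theorem N71944 : nd 71944 = n137809 := ndS (p := 39737) (l := 1) rfl N39737 D137809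
theorem N71945 : nd 71945 = n137810 := ndS (p := 39737) (l := 5) rfl N39737 D137810
theorem N71946 : nd 71946 = n137811 := ndS (p := 39737) (l := 7) rfl N39737 D137811
theorem N71947 : nd 71947 = n137815 := ndS (p := 39738) (l := 5) rfl N39738 D137815
theorem N71948 : nd 71948 = n137816 := ndS (p := 39738) (l := 6) rfl N39738 D137816
theorem N71949 : nd 71949 = n137818 := ndS (p := 39739) (l := 3) rfl N39739 D137818
theorem N71950 : nd 71950 = n137820 := ndS (p := 39739) (l := 5) rfl N39739 D137820
theorem N71951 : nd 71951 = n137821 := ndS (p := 39739) (l := 6) rfl N39739 D137821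
theorem N71952 : nd 71952 = n137823 := ndS (p := 39740) (l := 1) rfl N39740 D137823
theorem N71953 : nd 71953 = n137825 := ndS (p := 39740) (l := 6) rfl N39740 D137825
theorem N71954 : nd 71954 = n137837 := ndS (p := 39742) (l := 4) rfl N39742 D137837
theorem N71955 : nd 71955 = n137838 := ndS (p := 39742) (l := 5) rfl N39742 D137838
theorem N71956 : nd 71956 = n137839 := ndS (p := 39742) (l := 6) rfl N39742 D137839
theorem N71957 : nd 71957 = n137844 := ndS (p := 39744) (l := 6) rfl N39744 D137844
theorem N71958 : nd 71958 = n137846 := ndS (p := 39747) (l := 3) rfl N39747 D137846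
theorem N71959 : nd 71959 = n137849 := ndS (p := 39747) (l := 6) rfl N39747 D137849
theorem N71960 : nd 71960 = n137869 := ndS (p := 39751) (l := 4) rfl N39751 D137869
theorem N71961 : nd 71961 = n137870 := ndS (p := 39751) (l := 6) rfl N39751 D137870
theorem N71962 : nd 71962 = n137871 := ndS (p := 39752) (l := 5) rfl N39752 D137871
theorem N71963 : nd 71963 = n137872 := ndS (p := 39753) (l := 5) rfl N39753 D137872
theorem N71964 : nd 71964 = n137873 := ndS (p := 39753) (l := 6) rfl N39753 D137873
theorem N71965 : nd 71965 = n137874 := ndS (p := 39754) (l := 4) rfl N39754 D137874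
theorem N71966 : nd 71966 = n137878 := ndS (p := 39755) (l := 5) rfl N39755 D137878
theorem N71967 : nd 71967 = n137880 := ndS (p := 39756) (l := 5) rfl N39756 D137880
theorem N71968 : nd 71968 = n137882 := ndS (p := 39757) (l := 5) rfl N39757 D137882
theorem N71969 : nd 71969 = n137883 := ndS (p := 39757) (l := 6) rfl N39757 D137883
theorem N71970 : nd 71970 = n137885 := ndS (p := 39758) (l := 1) rfl N39758 D137885
theorem N71971 : nd 71971 = n137886 := ndS (p := 39758) (l := 4) rfl N39758 D137886
theorem N71972 : nd 71972 = n137887 := ndS (p := 39758) (l := 6) rfl N39758 D137887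
theorem N71973 : nd 71973 = n137888 := ndS (p := 39758) (l := 7) rfl N39758 D137888
theorem N71974 : nd 71974 = n137889 := ndS (p := 39759) (l := 0) rfl N39759 D137889
theorem N71975 : nd 71975 = n137891 := ndS (p := 39759) (l := 5) rfl N39759 D137891
theorem N71976 : nd 71976 = n137892 := ndS (p := 39759) (l := 7) rfl N39759 D137892
theorem N71977 : nd 71977 = n137895 := ndS (p := 39761) (l := 6) rfl N39761 D137895
theorem N71978 : nd 71978 = n137896 := ndS (p := 39762) (l := 5) rfl N39762 D137896
theorem N71979 : nd 71979 = n137898 := ndS (p := 39763) (l := 0) rfl N39763 D137898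
theorem N71980 : nd 71980 = n137899 := ndS (p := 39763) (l := 4) rfl N39763 D137899
theorem N71981 : nd 71981 = n137900 := ndS (p := 39763) (l := 6) rfl N39763 D137900
theorem N71982 : nd 71982 = n137901 := ndS (p := 39763) (l := 7) rfl N39763 D137901
theorem N71983 : nd 71983 = n137904 := ndS (p := 39764) (l := 5) rfl N39764 D137904
theorem N71984 : nd 71984 = n137905 := ndS (p := 39764) (l := 7) rfl N39764 D137905
theorem N71985 : nd 71985 = n137907 := ndS (p := 39766) (l := 4) rfl N39766 D137907
theorem N71986 : nd 71986 = n137908 := ndS (p := 39766) (l := 6) rfl N39766 D137908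
theorem N71987 : nd 71987 = n137909 := ndS (p := 39767) (l := 0) rfl N39767 D137909
theorem N71988 : nd 71988 = n137910 := ndS (p := 39767) (l := 1) rfl N39767 D137910
theorem N71989 : nd 71989 = n137911 := ndS (p := 39767) (l := 3) rfl N39767 D137911
theorem N71990 : nd 71990 = n137912 := ndS (p := 39767) (l := 5) rfl N39767 D137912
theorem N71991 : nd 71991 = n137913 := ndS (p := 39767) (l := 6) rfl N39767 D137913
theorem N71992 : nd 71992 = n137914 := ndS (p := 39767) (l := 7) rfl N39767 D137914
theorem N71993 : nd 71993 = n137919 := ndS (p := 39769) (l := 6) rfl N39769 D137919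
theorem N71994 : nd 71994 = n137923 := ndS (p := 39770) (l := 5) rfl N39770 D137923
theorem N71995 : nd 71995 = n137930 := ndS (p := 39771) (l := 0) rfl N39771 D137930
theorem N71996 : nd 71996 = n137932 := ndS (p := 39771) (l := 4) rfl N39771 D137932
theorem N71997 : nd 71997 = n137933 := ndS (p := 39771) (l := 7) rfl N39771 D137933
theorem N71998 : nd 71998 = n137940 := ndS (p := 39775) (l := 5) rfl N39775 D137940
theorem N71999 : nd 71999 = n137941 := ndS (p := 39775) (l := 6) rfl N39775 D137941
theorem N72000 : nd 72000 = n137943 := ndS (p := 39776) (l := 0) rfl N39776 D137943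
theorem N72001 : nd 72001 = n137944 := ndS (p := 39776) (l := 6) rfl N39776 D137944
theorem N72002 : nd 72002 = n137948 := ndS (p := 39777) (l := 7) rfl N39777 D137948
theorem N72003 : nd 72003 = n137949 := ndS (p := 39778) (l := 4) rfl N39778 D137949
theorem N72004 : nd 72004 = n137951 := ndS (p := 39779) (l := 0) rfl N39779 D137951
theorem N72005 : nd 72005 = n137955 := ndS (p := 39780) (l := 3) rfl N39780 D137955
theorem N72006 : nd 72006 = n137956 := ndS (p := 39780) (l := 5) rfl N39780 D137956
theorem N72007 : nd 72007 = n137957 := ndS (p := 39780) (l := 6) rfl N39780 D137957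
theorem N72008 : nd 72008 = n137960 := ndS (p := 39781) (l := 5) rfl N39781 D137960
theorem N72009 : nd 72009 = n137961 := ndS (p := 39781) (l := 7) rfl N39781 D137961
theorem N72010 : nd 72010 = n137970 := ndS (p := 39782) (l := 5) rfl N39782 D137970
theorem N72011 : nd 72011 = n137976 := ndS (p := 39785) (l := 4) rfl N39785 D137976
theorem N72012 : nd 72012 = n137977 := ndS (p := 39785) (l := 6) rfl N39785 D137977
theorem N72013 : nd 72013 = n137978 := ndS (p := 39786) (l := 3) rfl N39786 D137978
theorem N72014 : nd 72014 = n137979 := ndS (p := 39786) (l := 4) rfl N39786 D137979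
theorem N72015 : nd 72015 = n137980 := ndS (p := 39786) (l := 6) rfl N39786 D137980
theorem N72016 : nd 72016 = n137981 := ndS (p := 39787) (l := 0) rfl N39787 D137981
theorem N72017 : nd 72017 = n137985 := ndS (p := 39788) (l := 0) rfl N39788 D137985
theorem N72018 : nd 72018 = n137989 := ndS (p := 39789) (l := 2) rfl N39789 D137989
theorem N72019 : nd 72019 = n137990 := ndS (p := 39789) (l := 4) rfl N39789 D137990
theorem N72020 : nd 72020 = n137991 := ndS (p := 39789) (l := 6) rfl N39789 D137991
theorem N72021 : nd 72021 = n137992 := ndS (p := 39790) (l := 0) rfl N39790 D137992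
theorem N72022 : nd 72022 = n137993 := ndS (p := 39790) (l := 1) rfl N39790 D137993
theorem N72023 : nd 72023 = n137994 := ndS (p := 39790) (l := 3) rfl N39790 D137994
theorem N72024 : nd 72024 = n137995 := ndS (p := 39790) (l := 5) rfl N39790 D137995
theorem N72025 : nd 72025 = n137996 := ndS (p := 39790) (l := 6) rfl N39790 D137996
theorem N72026 : nd 72026 = n137998 := ndS (p := 39791) (l := 1) rfl N39791 D137998
theorem N72027 : nd 72027 = n137999 := ndS (p := 39791) (l := 5) rfl N39791 D137999
theorem N72028 : nd 72028 = n138000 := ndS (p := 39791) (l := 7) rfl N39791 D138000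
theorem N72029 : nd 72029 = n138001 := ndS (p := 39792) (l := 6) rfl N39792 D138001
theorem N72030 : nd 72030 = n138002 := ndS (p := 39793) (l := 3) rfl N39793 D138002
theorem N72031 : nd 72031 = n138003 := ndS (p := 39793) (l := 5) rfl N39793 D138003
theorem N72032 : nd 72032 = n138004 := ndS (p := 39793) (l := 6) rfl N39793 D138004
theorem N72033 : nd 72033 = n138007 := ndS (p := 39794) (l := 5) rfl N39794 D138007
theorem N72034 : nd 72034 = n138010 := ndS (p := 39795) (l := 3) rfl N39795 D138010
theorem N72035 : nd 72035 = n138011 := ndS (p := 39795) (l := 4) rfl N39795 D138011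
theorem N72036 : nd 72036 = n138012 := ndS (p := 39795) (l := 5) rfl N39795 D138012
theorem N72037 : nd 72037 = n138022 := ndS (p := 39796) (l := 5) rfl N39796 D138022
theorem N72038 : nd 72038 = n138023 := ndS (p := 39796) (l := 6) rfl N39796 D138023
theorem N72039 : nd 72039 = n138024 := ndS (p := 39797) (l := 0) rfl N39797 D138024
theorem N72040 : nd 72040 = n138025 := ndS (p := 39797) (l := 1) rfl N39797 D138025
theorem N72041 : nd 72041 = n138026 := ndS (p := 39797) (l := 6) rfl N39797 D138026
theorem N72042 : nd 72042 = n138027 := ndS (p := 39797) (l := 7) rfl N39797 D138027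
theorem N72043 : nd 72043 = n138028 := ndS (p := 39798) (l := 0) rfl N39798 D138028
theorem N72044 : nd 72044 = n138029 := ndS (p := 39798) (l := 1) rfl N39798 D138029
theorem N72045 : nd 72045 = n138030 := ndS (p := 39798) (l := 5) rfl N39798 D138030
theorem N72046 : nd 72046 = n138031 := ndS (p := 39798) (l := 7) rfl N39798 D138031
theorem N72047 : nd 72047 = n138032 := ndS (p := 39799) (l := 6) rfl N39799 D138032
theorem N72048 : nd 72048 = n138034 := ndS (p := 39800) (l := 3) rfl N39800 D138034
theorem N72049 : nd 72049 = n138035 := ndS (p := 39800) (l := 4) rfl N39800 D138035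
theorem N72050 : nd 72050 = n138036 := ndS (p := 39800) (l := 5) rfl N39800 D138036
theorem N72051 : nd 72051 = n138037 := ndS (p := 39800) (l := 6) rfl N39800 D138037
theorem N72052 : nd 72052 = n138039 := ndS (p := 39801) (l := 3) rfl N39801 D138039
theorem N72053 : nd 72053 = n138040 := ndS (p := 39801) (l := 4) rfl N39801 D138040
theorem N72054 : nd 72054 = n138041 := ndS (p := 39801) (l := 5) rfl N39801 D138041
theorem N72055 : nd 72055 = n138043 := ndS (p := 39802) (l := 6) rfl N39802 D138043
theorem N72056 : nd 72056 = n138044 := ndS (p := 39803) (l := 0) rfl N39803 D138044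
theorem N72057 : nd 72057 = n138045 := ndS (p := 39803) (l := 1) rfl N39803 D138045
theorem N72058 : nd 72058 = n138046 := ndS (p := 39803) (l := 5) rfl N39803 D138046
theorem N72059 : nd 72059 = n138048 := ndS (p := 39804) (l := 3) rfl N39804 D138048
theorem N72060 : nd 72060 = n138049 := ndS (p := 39804) (l := 4) rfl N39804 D138049
theorem N72061 : nd 72061 = n138051 := ndS (p := 39804) (l := 6) rfl N39804 D138051
theorem N72062 : nd 72062 = n138053 := ndS (p := 39805) (l := 3) rfl N39805 D138053
theorem N72063 : nd 72063 = n138054 := ndS (p := 39805) (l := 4) rfl N39805 D138054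
theorem N72064 : nd 72064 = n138055 := ndS (p := 39805) (l := 5) rfl N39805 D138055
theorem N72065 : nd 72065 = n138056 := ndS (p := 39805) (l := 6) rfl N39805 D138056
theorem N72066 : nd 72066 = n138060 := ndS (p := 39807) (l := 4) rfl N39807 D138060
theorem N72067 : nd 72067 = n138061 := ndS (p := 39807) (l := 6) rfl N39807 D138061
theorem N72068 : nd 72068 = n138063 := ndS (p := 39808) (l := 1) rfl N39808 D138063
theorem N72069 : nd 72069 = n138064 := ndS (p := 39808) (l := 6) rfl N39808 D138064
theorem N72070 : nd 72070 = n138065 := ndS (p := 39809) (l := 0) rfl N39809 D138065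
theorem N72071 : nd 72071 = n138066 := ndS (p := 39809) (l := 1) rfl N39809 D138066
theorem N72072 : nd 72072 = n138067 := ndS (p := 39809) (l := 5) rfl N39809 D138067
theorem N72073 : nd 72073 = n138068 := ndS (p := 39809) (l := 7) rfl N39809 D138068
theorem N72074 : nd 72074 = n138077 := ndS (p := 39810) (l := 5) rfl N39810 D138077
theorem N72075 : nd 72075 = n138079 := ndS (p := 39811) (l := 0) rfl N39811 D138079
theorem N72076 : nd 72076 = n138080 := ndS (p := 39811) (l := 1) rfl N39811 D138080
theorem N72077 : nd 72077 = n138081 := ndS (p := 39811) (l := 4) rfl N39811 D138081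
theorem N72078 : nd 72078 = n138082 := ndS (p := 39811) (l := 7) rfl N39811 D138082
theorem N72079 : nd 72079 = n138093 := ndS (p := 39813) (l := 4) rfl N39813 D138093
theorem N72080 : nd 72080 = n138094 := ndS (p := 39813) (l := 6) rfl N39813 D138094
theorem N72081 : nd 72081 = n138095 := ndS (p := 39814) (l := 0) rfl N39814 D138095
theorem N72082 : nd 72082 = n138097 := ndS (p := 39814) (l := 5) rfl N39814 D138097
theorem N72083 : nd 72083 = n138098 := ndS (p := 39814) (l := 6) rfl N39814 D138098
theorem N72084 : nd 72084 = n138100 := ndS (p := 39815) (l := 1) rfl N39815 D138100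
theorem N72085 : nd 72085 = n138101 := ndS (p := 39815) (l := 5) rfl N39815 D138101
theorem N72086 : nd 72086 = n138102 := ndS (p := 39815) (l := 7) rfl N39815 D138102
theorem N72087 : nd 72087 = n138113 := ndS (p := 39817) (l := 0) rfl N39817 D138113
theorem N72088 : nd 72088 = n138114 := ndS (p := 39817) (l := 1) rfl N39817 D138114
theorem N72089 : nd 72089 = n138115 := ndS (p := 39817) (l := 4) rfl N39817 D138115
theorem N72090 : nd 72090 = n138116 := ndS (p := 39817) (l := 7) rfl N39817 D138116
theorem N72091 : nd 72091 = n138118 := ndS (p := 39819) (l := 3) rfl N39819 D138118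
theorem N72092 : nd 72092 = n138130 := ndS (p := 39821) (l := 5) rfl N39821 D138130
theorem N72093 : nd 72093 = n138142 := ndS (p := 39822) (l := 0) rfl N39822 D138142
theorem N72094 : nd 72094 = n138143 := ndS (p := 39822) (l := 1) rfl N39822 D138143
theorem N72095 : nd 72095 = n138144 := ndS (p := 39822) (l := 4) rfl N39822 D138144
theorem N72096 : nd 72096 = n138152 := ndS (p := 39823) (l := 0) rfl N39823 D138152
theorem N72097 : nd 72097 = n138154 := ndS (p := 39823) (l := 2) rfl N39823 D138154
theorem N72098 : nd 72098 = n138155 := ndS (p := 39823) (l := 4) rfl N39823 D138155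
theorem N72099 : nd 72099 = n138156 := ndS (p := 39823) (l := 5) rfl N39823 D138156
theorem N72100 : nd 72100 = n138157 := ndS (p := 39823) (l := 6) rfl N39823 D138157
theorem N72101 : nd 72101 = n138162 := ndS (p := 39824) (l := 5) rfl N39824 D138162
theorem N72102 : nd 72102 = n138165 := ndS (p := 39825) (l := 0) rfl N39825 D138165
theorem N72103 : nd 72103 = n138166 := ndS (p := 39825) (l := 1) rfl N39825 D138166
theorem N72104 : nd 72104 = n138167 := ndS (p := 39825) (l := 4) rfl N39825 D138167
theorem N72105 : nd 72105 = n138168 := ndS (p := 39825) (l := 6) rfl N39825 D138168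
theorem N72106 : nd 72106 = n138172 := ndS (p := 39826) (l := 5) rfl N39826 D138172
theorem N72107 : nd 72107 = n138176 := ndS (p := 39827) (l := 1) rfl N39827 D138176
theorem N72108 : nd 72108 = n138177 := ndS (p := 39827) (l := 2) rfl N39827 D138177
theorem N72109 : nd 72109 = n138179 := ndS (p := 39827) (l := 5) rfl N39827 D138179
theorem N72110 : nd 72110 = n138182 := ndS (p := 39828) (l := 5) rfl N39828 D138182
theorem N72111 : nd 72111 = n138184 := ndS (p := 39829) (l := 4) rfl N39829 D138184
theorem N72112 : nd 72112 = n138185 := ndS (p := 39829) (l := 6) rfl N39829 D138185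
theorem N72113 : nd 72113 = n138190 := ndS (p := 39830) (l := 5) rfl N39830 D138190
theorem N72114 : nd 72114 = n138197 := ndS (p := 39832) (l := 3) rfl N39832 D138197
theorem N72115 : nd 72115 = n138198 := ndS (p := 39832) (l := 4) rfl N39832 D138198
theorem N72116 : nd 72116 = n138200 := ndS (p := 39832) (l := 6) rfl N39832 D138200
theorem N72117 : nd 72117 = n138201 := ndS (p := 39833) (l := 0) rfl N39833 D138201
theorem N72118 : nd 72118 = n138202 := ndS (p := 39833) (l := 1) rfl N39833 D138202
theorem N72119 : nd 72119 = n138203 := ndS (p := 39833) (l := 4) rfl N39833 D138203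
theorem N72120 : nd 72120 = n138207 := ndS (p := 39834) (l := 4) rfl N39834 D138207
theorem N72121 : nd 72121 = n138209 := ndS (p := 39834) (l := 6) rfl N39834 D138209
theorem N72122 : nd 72122 = n138210 := ndS (p := 39835) (l := 5) rfl N39835 D138210
theorem N72123 : nd 72123 = n138211 := ndS (p := 39835) (l := 6) rfl N39835 D138211
theorem N72124 : nd 72124 = n138216 := ndS (p := 39837) (l := 5) rfl N39837 D138216
theorem N72125 : nd 72125 = n138221 := ndS (p := 39838) (l := 4) rfl N39838 D138221
theorem N72126 : nd 72126 = n138223 := ndS (p := 39838) (l := 6) rfl N39838 D138223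
theorem N72127 : nd 72127 = n138224 := ndS (p := 39839) (l := 5) rfl N39839 D138224
theorem N72128 : nd 72128 = n138225 := ndS (p := 39839) (l := 6) rfl N39839 D138225
theorem N72129 : nd 72129 = n138227 := ndS (p := 39840) (l := 6) rfl N39840 D138227
theorem N72130 : nd 72130 = n138228 := ndS (p := 39841) (l := 5) rfl N39841 D138228
theorem N72131 : nd 72131 = n138241 := ndS (p := 39845) (l := 3) rfl N39845 D138241
theorem N72132 : nd 72132 = n138243 := ndS (p := 39845) (l := 6) rfl N39845 D138243
theorem N72133 : nd 72133 = n138244 := ndS (p := 39846) (l := 4) rfl N39846 D138244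
theorem N72134 : nd 72134 = n138249 := ndS (p := 39848) (l := 6) rfl N39848 D138249
theorem N72135 : nd 72135 = n138254 := ndS (p := 39850) (l := 5) rfl N39850 D138254
theorem N72136 : nd 72136 = n138256 := ndS (p := 39852) (l := 0) rfl N39852 D138256
theorem N72137 : nd 72137 = n138257 := ndS (p := 39852) (l := 3) rfl N39852 D138257
theorem N72138 : nd 72138 = n138258 := ndS (p := 39852) (l := 5) rfl N39852 D138258
theorem N72139 : nd 72139 = n138260 := ndS (p := 39853) (l := 5) rfl N39853 D138260
theorem N72140 : nd 72140 = n138261 := ndS (p := 39853) (l := 6) rfl N39853 D138261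
theorem N72141 : nd 72141 = n138262 := ndS (p := 39854) (l := 4) rfl N39854 D138262
theorem N72142 : nd 72142 = n138270 := ndS (p := 39856) (l := 5) rfl N39856 D138270
theorem N72143 : nd 72143 = n138272 := ndS (p := 39857) (l := 5) rfl N39857 D138272
theorem N72144 : nd 72144 = n138273 := ndS (p := 39858) (l := 0) rfl N39858 D138273
theorem N72145 : nd 72145 = n138274 := ndS (p := 39858) (l := 1) rfl N39858 D138274
theorem N72146 : nd 72146 = n138275 := ndS (p := 39858) (l := 2) rfl N39858 D138275
theorem N72147 : nd 72147 = n138276 := ndS (p := 39858) (l := 5) rfl N39858 D138276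
theorem N72148 : nd 72148 = n138277 := ndS (p := 39858) (l := 6) rfl N39858 D138277
theorem N72149 : nd 72149 = n138279 := ndS (p := 39860) (l := 0) rfl N39860 D138279
theorem N72150 : nd 72150 = n138280 := ndS (p := 39860) (l := 1) rfl N39860 D138280
theorem N72151 : nd 72151 = n138282 := ndS (p := 39861) (l := 4) rfl N39861 D138282
theorem N72152 : nd 72152 = n138283 := ndS (p := 39862) (l := 0) rfl N39862 D138283
theorem N72153 : nd 72153 = n138284 := ndS (p := 39862) (l := 1) rfl N39862 D138284
theorem N72154 : nd 72154 = n138285 := ndS (p := 39862) (l := 2) rfl N39862 D138285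
theorem N72155 : nd 72155 = n138288 := ndS (p := 39863) (l := 0) rfl N39863 D138288
theorem N72156 : nd 72156 = n138289 := ndS (p := 39863) (l := 1) rfl N39863 D138289
theorem N72157 : nd 72157 = n138290 := ndS (p := 39863) (l := 2) rfl N39863 D138290
theorem N72158 : nd 72158 = n138292 := ndS (p := 39863) (l := 6) rfl N39863 D138292
theorem N72159 : nd 72159 = n138294 := ndS (p := 39865) (l := 0) rfl N39865 D138294
theorem N72160 : nd 72160 = n138295 := ndS (p := 39865) (l := 1) rfl N39865 D138295
theorem N72161 : nd 72161 = n138296 := ndS (p := 39865) (l := 2) rfl N39865 D138296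
theorem N72162 : nd 72162 = n138305 := ndS (p := 39866) (l := 3) rfl N39866 D138305
theorem N72163 : nd 72163 = n138306 := ndS (p := 39866) (l := 5) rfl N39866 D138306
theorem N72164 : nd 72164 = n138308 := ndS (p := 39867) (l := 5) rfl N39867 D138308
theorem N72165 : nd 72165 = n138309 := ndS (p := 39867) (l := 6) rfl N39867 D138309
theorem N72166 : nd 72166 = n138311 := ndS (p := 39868) (l := 1) rfl N39868 D138311
theorem N72167 : nd 72167 = n138312 := ndS (p := 39868) (l := 4) rfl N39868 D138312
theorem N72168 : nd 72168 = n138315 := ndS (p := 39869) (l := 1) rfl N39869 D138315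
theorem N72169 : nd 72169 = n138316 := ndS (p := 39869) (l := 5) rfl N39869 D138316
theorem N72170 : nd 72170 = n138318 := ndS (p := 39870) (l := 3) rfl N39870 D138318
theorem N72171 : nd 72171 = n138324 := ndS (p := 39871) (l := 3) rfl N39871 D138324
theorem N72172 : nd 72172 = n138325 := ndS (p := 39871) (l := 5) rfl N39871 D138325
theorem N72173 : nd 72173 = n138326 := ndS (p := 39872) (l := 3) rfl N39872 D138326
theorem N72174 : nd 72174 = n138327 := ndS (p := 39872) (l := 5) rfl N39872 D138327
theorem N72175 : nd 72175 = n138328 := ndS (p := 39872) (l := 6) rfl N39872 D138328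
theorem N72176 : nd 72176 = n138329 := ndS (p := 39873) (l := 4) rfl N39873 D138329
theorem N72177 : nd 72177 = n138330 := ndS (p := 39873) (l := 7) rfl N39873 D138330
theorem N72178 : nd 72178 = n138331 := ndS (p := 39875) (l := 3) rfl N39875 D138331
theorem N72179 : nd 72179 = n138333 := ndS (p := 39876) (l := 6) rfl N39876 D138333
theorem N72180 : nd 72180 = n138334 := ndS (p := 39877) (l := 3) rfl N39877 D138334
theorem N72181 : nd 72181 = n138336 := ndS (p := 39877) (l := 6) rfl N39877 D138336
theorem N72182 : nd 72182 = n138341 := ndS (p := 39880) (l := 4) rfl N39880 D138341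
theorem N72183 : nd 72183 = n138358 := ndS (p := 39882) (l := 6) rfl N39882 D138358
theorem N72184 : nd 72184 = n138361 := ndS (p := 39883) (l := 3) rfl N39883 D138361
theorem N72185 : nd 72185 = n138362 := ndS (p := 39883) (l := 5) rfl N39883 D138362
theorem N72186 : nd 72186 = n138363 := ndS (p := 39883) (l := 6) rfl N39883 D138363
theorem N72187 : nd 72187 = n138370 := ndS (p := 39886) (l := 0) rfl N39886 D138370
theorem N72188 : nd 72188 = n138373 := ndS (p := 39886) (l := 4) rfl N39886 D138373
theorem N72189 : nd 72189 = n138376 := ndS (p := 39887) (l := 5) rfl N39887 D138376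
theorem N72190 : nd 72190 = n138379 := ndS (p := 39888) (l := 6) rfl N39888 D138379
theorem N72191 : nd 72191 = n138392 := ndS (p := 39892) (l := 3) rfl N39892 D138392
theorem N72192 : nd 72192 = n138394 := ndS (p := 39892) (l := 6) rfl N39892 D138394
theorem N72193 : nd 72193 = n138405 := ndS (p := 39893) (l := 4) rfl N39893 D138405
theorem N72194 : nd 72194 = n138409 := ndS (p := 39894) (l := 3) rfl N39894 D138409
theorem N72195 : nd 72195 = n138410 := ndS (p := 39894) (l := 4) rfl N39894 D138410
theorem N72196 : nd 72196 = n138412 := ndS (p := 39894) (l := 6) rfl N39894 D138412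
theorem N72197 : nd 72197 = n138445 := ndS (p := 39895) (l := 0) rfl N39895 D138445
theorem N72198 : nd 72198 = n138446 := ndS (p := 39895) (l := 1) rfl N39895 D138446
theorem N72199 : nd 72199 = n138447 := ndS (p := 39895) (l := 2) rfl N39895 D138447
theorem N72200 : nd 72200 = n138448 := ndS (p := 39895) (l := 5) rfl N39895 D138448
theorem N72201 : nd 72201 = n138449 := ndS (p := 39896) (l := 6) rfl N39896 D138449
theorem N72202 : nd 72202 = n138450 := ndS (p := 39897) (l := 0) rfl N39897 D138450
theorem N72203 : nd 72203 = n138452 := ndS (p := 39897) (l := 2) rfl N39897 D138452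
theorem N72204 : nd 72204 = n138453 := ndS (p := 39897) (l := 5) rfl N39897 D138453
theorem N72205 : nd 72205 = n138454 := ndS (p := 39897) (l := 6) rfl N39897 D138454
theorem N72206 : nd 72206 = n138455 := ndS (p := 39898) (l := 6) rfl N39898 D138455
theorem N72207 : nd 72207 = n138456 := ndS (p := 39899) (l := 5) rfl N39899 D138456
theorem N72208 : nd 72208 = n138457 := ndS (p := 39900) (l := 0) rfl N39900 D138457
theorem N72209 : nd 72209 = n138458 := ndS (p := 39900) (l := 1) rfl N39900 D138458
theorem N72210 : nd 72210 = n138459 := ndS (p := 39900) (l := 2) rfl N39900 D138459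
theorem N72211 : nd 72211 = n138460 := ndS (p := 39900) (l := 5) rfl N39900 D138460
theorem N72212 : nd 72212 = n138462 := ndS (p := 39901) (l := 6) rfl N39901 D138462
theorem N72213 : nd 72213 = n138472 := ndS (p := 39903) (l := 5) rfl N39903 D138472
theorem N72214 : nd 72214 = n138474 := ndS (p := 39904) (l := 0) rfl N39904 D138474
theorem N72215 : nd 72215 = n138475 := ndS (p := 39904) (l := 1) rfl N39904 D138475
theorem N72216 : nd 72216 = n138476 := ndS (p := 39904) (l := 4) rfl N39904 D138476
theorem N72217 : nd 72217 = n138478 := ndS (p := 39905) (l := 0) rfl N39905 D138478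
theorem N72218 : nd 72218 = n138480 := ndS (p := 39905) (l := 5) rfl N39905 D138480
theorem N72219 : nd 72219 = n138486 := ndS (p := 39906) (l := 3) rfl N39906 D138486
theorem N72220 : nd 72220 = n138492 := ndS (p := 39909) (l := 3) rfl N39909 D138492
theorem N72221 : nd 72221 = n138501 := ndS (p := 39910) (l := 1) rfl N39910 D138501
theorem N72222 : nd 72222 = n138504 := ndS (p := 39910) (l := 6) rfl N39910 D138504
theorem N72223 : nd 72223 = n138506 := ndS (p := 39911) (l := 0) rfl N39911 D138506
theorem N72224 : nd 72224 = n138508 := ndS (p := 39911) (l := 3) rfl N39911 D138508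
theorem N72225 : nd 72225 = n138509 := ndS (p := 39911) (l := 5) rfl N39911 D138509
theorem N72226 : nd 72226 = n138510 := ndS (p := 39911) (l := 6) rfl N39911 D138510
theorem N72227 : nd 72227 = n138515 := ndS (p := 39912) (l := 6) rfl N39912 D138515
theorem N72228 : nd 72228 = n138519 := ndS (p := 39913) (l := 5) rfl N39913 D138519
theorem N72229 : nd 72229 = n138527 := ndS (p := 39914) (l := 3) rfl N39914 D138527
theorem N72230 : nd 72230 = n138528 := ndS (p := 39914) (l := 5) rfl N39914 D138528
theorem N72231 : nd 72231 = n138529 := ndS (p := 39914) (l := 6) rfl N39914 D138529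
theorem N72232 : nd 72232 = n138534 := ndS (p := 39915) (l := 5) rfl N39915 D138534
theorem N72233 : nd 72233 = n138535 := ndS (p := 39915) (l := 7) rfl N39915 D138535
theorem N72234 : nd 72234 = n138543 := ndS (p := 39916) (l := 3) rfl N39916 D138543
theorem N72235 : nd 72235 = n138546 := ndS (p := 39916) (l := 6) rfl N39916 D138546
theorem N72236 : nd 72236 = n138561 := ndS (p := 39918) (l := 3) rfl N39918 D138561
theorem N72237 : nd 72237 = n138562 := ndS (p := 39918) (l := 4) rfl N39918 D138562
theorem N72238 : nd 72238 = n138563 := ndS (p := 39918) (l := 5) rfl N39918 D138563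
theorem N72239 : nd 72239 = n138585 := ndS (p := 39919) (l := 4) rfl N39919 D138585
theorem N72240 : nd 72240 = n138600 := ndS (p := 39921) (l := 2) rfl N39921 D138600
theorem N72241 : nd 72241 = n138601 := ndS (p := 39921) (l := 5) rfl N39921 D138601
theorem N72242 : nd 72242 = n138603 := ndS (p := 39923) (l := 0) rfl N39923 D138603
theorem N72243 : nd 72243 = n138604 := ndS (p := 39923) (l := 1) rfl N39923 D138604
theorem N72244 : nd 72244 = n138605 := ndS (p := 39923) (l := 2) rfl N39923 D138605
theorem N72245 : nd 72245 = n138606 := ndS (p := 39923) (l := 6) rfl N39923 D138606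
theorem N72246 : nd 72246 = n138607 := ndS (p := 39924) (l := 5) rfl N39924 D138607
theorem N72247 : nd 72247 = n138614 := ndS (p := 39925) (l := 3) rfl N39925 D138614
theorem N72248 : nd 72248 = n138616 := ndS (p := 39926) (l := 5) rfl N39926 D138616
theorem N72249 : nd 72249 = n138617 := ndS (p := 39926) (l := 6) rfl N39926 D138617
theorem N72250 : nd 72250 = n138619 := ndS (p := 39927) (l := 1) rfl N39927 D138619
theorem N72251 : nd 72251 = n138620 := ndS (p := 39927) (l := 4) rfl N39927 D138620
theorem N72252 : nd 72252 = n138621 := ndS (p := 39927) (l := 6) rfl N39927 D138621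
theorem N72253 : nd 72253 = n138622 := ndS (p := 39928) (l := 0) rfl N39928 D138622
theorem N72254 : nd 72254 = n138623 := ndS (p := 39928) (l := 1) rfl N39928 D138623
theorem N72255 : nd 72255 = n138624 := ndS (p := 39928) (l := 5) rfl N39928 D138624
theorem N72256 : nd 72256 = n138628 := ndS (p := 39929) (l := 3) rfl N39929 D138628
theorem N72257 : nd 72257 = n138630 := ndS (p := 39930) (l := 0) rfl N39930 D138630
theorem N72258 : nd 72258 = n138631 := ndS (p := 39930) (l := 1) rfl N39930 D138631
theorem N72259 : nd 72259 = n138632 := ndS (p := 39930) (l := 5) rfl N39930 D138632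
theorem N72260 : nd 72260 = n138633 := ndS (p := 39930) (l := 7) rfl N39930 D138633
theorem N72261 : nd 72261 = n138634 := ndS (p := 39931) (l := 3) rfl N39931 D138634
theorem N72262 : nd 72262 = n138635 := ndS (p := 39931) (l := 5) rfl N39931 D138635
theorem N72263 : nd 72263 = n138636 := ndS (p := 39932) (l := 3) rfl N39932 D138636
theorem N72264 : nd 72264 = n138637 := ndS (p := 39932) (l := 5) rfl N39932 D138637
theorem N72265 : nd 72265 = n138639 := ndS (p := 39933) (l := 1) rfl N39933 D138639
theorem N72266 : nd 72266 = n138640 := ndS (p := 39933) (l := 4) rfl N39933 D138640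
theorem N72267 : nd 72267 = n138641 := ndS (p := 39933) (l := 7) rfl N39933 D138641
theorem N72268 : nd 72268 = n138642 := ndS (p := 39935) (l := 3) rfl N39935 D138642
theorem N72269 : nd 72269 = n138643 := ndS (p := 39935) (l := 5) rfl N39935 D138643
theorem N72270 : nd 72270 = n138644 := ndS (p := 39936) (l := 4) rfl N39936 D138644
theorem N72271 : nd 72271 = n138645 := ndS (p := 39937) (l := 4) rfl N39937 D138645
theorem N72272 : nd 72272 = n138646 := ndS (p := 39937) (l := 6) rfl N39937 D138646
theorem N72273 : nd 72273 = n138647 := ndS (p := 39938) (l := 3) rfl N39938 D138647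
theorem N72274 : nd 72274 = n138653 := ndS (p := 39940) (l := 5) rfl N39940 D138653
theorem N72275 : nd 72275 = n138661 := ndS (p := 39943) (l := 5) rfl N39943 D138661
theorem N72276 : nd 72276 = n138671 := ndS (p := 39945) (l := 5) rfl N39945 D138671
theorem N72277 : nd 72277 = n138688 := ndS (p := 39947) (l := 4) rfl N39947 D138688
theorem N72278 : nd 72278 = n138692 := ndS (p := 39948) (l := 3) rfl N39948 D138692
theorem N72279 : nd 72279 = n138693 := ndS (p := 39948) (l := 4) rfl N39948 D138693
theorem N72280 : nd 72280 = n138695 := ndS (p := 39948) (l := 6) rfl N39948 D138695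
theorem N72281 : nd 72281 = n138697 := ndS (p := 39949) (l := 1) rfl N39949 D138697
theorem N72282 : nd 72282 = n138698 := ndS (p := 39949) (l := 4) rfl N39949 D138698
theorem N72283 : nd 72283 = n138712 := ndS (p := 39950) (l := 4) rfl N39950 D138712
theorem N72284 : nd 72284 = n138729 := ndS (p := 39954) (l := 3) rfl N39954 D138729
theorem N72285 : nd 72285 = n138741 := ndS (p := 39957) (l := 2) rfl N39957 D138741
theorem N72286 : nd 72286 = n138743 := ndS (p := 39957) (l := 6) rfl N39957 D138743
theorem N72287 : nd 72287 = n138746 := ndS (p := 39960) (l := 3) rfl N39960 D138746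
theorem N72288 : nd 72288 = n138749 := ndS (p := 39961) (l := 3) rfl N39961 D138749
theorem N72289 : nd 72289 = n138751 := ndS (p := 39961) (l := 6) rfl N39961 D138751
theorem N72290 : nd 72290 = n138752 := ndS (p := 39962) (l := 5) rfl N39962 D138752
theorem N72291 : nd 72291 = n138754 := ndS (p := 39963) (l := 0) rfl N39963 D138754
theorem N72292 : nd 72292 = n138755 := ndS (p := 39963) (l := 1) rfl N39963 D138755
theorem N72293 : nd 72293 = n138756 := ndS (p := 39963) (l := 4) rfl N39963 D138756
theorem N72294 : nd 72294 = n138757 := ndS (p := 39963) (l := 6) rfl N39963 D138757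
theorem N72295 : nd 72295 = n138762 := ndS (p := 39964) (l := 3) rfl N39964 D138762
theorem N72296 : nd 72296 = n138763 := ndS (p := 39964) (l := 6) rfl N39964 D138763
theorem N72297 : nd 72297 = n138764 := ndS (p := 39965) (l := 3) rfl N39965 D138764
theorem N72298 : nd 72298 = n138765 := ndS (p := 39965) (l := 6) rfl N39965 D138765
theorem N72299 : nd 72299 = n138770 := ndS (p := 39967) (l := 3) rfl N39967 D138770
theorem N72300 : nd 72300 = n138771 := ndS (p := 39967) (l := 6) rfl N39967 D138771
theorem N72301 : nd 72301 = n138772 := ndS (p := 39968) (l := 3) rfl N39968 D138772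
theorem N72302 : nd 72302 = n138773 := ndS (p := 39969) (l := 0) rfl N39969 D138773
theorem N72303 : nd 72303 = n138774 := ndS (p := 39969) (l := 1) rfl N39969 D138774
theorem N72304 : nd 72304 = n138777 := ndS (p := 39971) (l := 3) rfl N39971 D138777
theorem N72305 : nd 72305 = n138778 := ndS (p := 39971) (l := 5) rfl N39971 D138778
theorem N72306 : nd 72306 = n138779 := ndS (p := 39971) (l := 6) rfl N39971 D138779
theorem N72307 : nd 72307 = n138780 := ndS (p := 39973) (l := 3) rfl N39973 D138780
theorem N72308 : nd 72308 = n138781 := ndS (p := 39973) (l := 5) rfl N39973 D138781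
theorem N72309 : nd 72309 = n138809 := ndS (p := 39975) (l := 6) rfl N39975 D138809
theorem N72310 : nd 72310 = n138816 := ndS (p := 39976) (l := 5) rfl N39976 D138816
theorem N72311 : nd 72311 = n138897 := ndS (p := 39977) (l := 3) rfl N39977 D138897
theorem N72312 : nd 72312 = n138898 := ndS (p := 39977) (l := 5) rfl N39977 D138898
theorem N72313 : nd 72313 = n138899 := ndS (p := 39977) (l := 6) rfl N39977 D138899
theorem N72314 : nd 72314 = n138903 := ndS (p := 39978) (l := 4) rfl N39978 D138903
theorem N72315 : nd 72315 = n138923 := ndS (p := 39980) (l := 5) rfl N39980 D138923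
theorem N72316 : nd 72316 = n138924 := ndS (p := 39980) (l := 6) rfl N39980 D138924
theorem N72317 : nd 72317 = n138932 := ndS (p := 39982) (l := 5) rfl N39982 D138932
theorem N72318 : nd 72318 = n138933 := ndS (p := 39982) (l := 6) rfl N39982 D138933
theorem N72319 : nd 72319 = n138934 := ndS (p := 39983) (l := 3) rfl N39983 D138934
theorem N72320 : nd 72320 = n138935 := ndS (p := 39983) (l := 5) rfl N39983 D138935
theorem N72321 : nd 72321 = n138937 := ndS (p := 39984) (l := 0) rfl N39984 D138937
theorem N72322 : nd 72322 = n138938 := ndS (p := 39984) (l := 1) rfl N39984 D138938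
theorem N72323 : nd 72323 = n138939 := ndS (p := 39984) (l := 4) rfl N39984 D138939
theorem N72324 : nd 72324 = n138940 := ndS (p := 39984) (l := 6) rfl N39984 D138940
theorem N72325 : nd 72325 = n138941 := ndS (p := 39985) (l := 0) rfl N39985 D138941
theorem N72326 : nd 72326 = n138942 := ndS (p := 39985) (l := 1) rfl N39985 D138942
theorem N72327 : nd 72327 = n138943 := ndS (p := 39985) (l := 5) rfl N39985 D138943
theorem N72328 : nd 72328 = n138964 := ndS (p := 39986) (l := 3) rfl N39986 D138964
theorem N72329 : nd 72329 = n138965 := ndS (p := 39986) (l := 4) rfl N39986 D138965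
theorem N72330 : nd 72330 = n138970 := ndS (p := 39987) (l := 4) rfl N39987 D138970
theorem N72331 : nd 72331 = n138971 := ndS (p := 39987) (l := 5) rfl N39987 D138971
theorem N72332 : nd 72332 = n138975 := ndS (p := 39988) (l := 4) rfl N39988 D138975
theorem N72333 : nd 72333 = n138986 := ndS (p := 39990) (l := 3) rfl N39990 D138986
theorem N72334 : nd 72334 = n138994 := ndS (p := 39991) (l := 3) rfl N39991 D138994
theorem N72335 : nd 72335 = n138995 := ndS (p := 39991) (l := 5) rfl N39991 D138995
theorem N72336 : nd 72336 = n139003 := ndS (p := 39992) (l := 6) rfl N39992 D139003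
theorem N72337 : nd 72337 = n139004 := ndS (p := 39993) (l := 5) rfl N39993 D139004
theorem N72338 : nd 72338 = n139005 := ndS (p := 39993) (l := 6) rfl N39993 D139005
theorem N72339 : nd 72339 = n139017 := ndS (p := 39996) (l := 3) rfl N39996 D139017
theorem N72340 : nd 72340 = n139018 := ndS (p := 39996) (l := 5) rfl N39996 D139018
theorem N72341 : nd 72341 = n139020 := ndS (p := 39997) (l := 3) rfl N39997 D139020
theorem N72342 : nd 72342 = n139021 := ndS (p := 39997) (l := 5) rfl N39997 D139021
theorem N72343 : nd 72343 = n139031 := ndS (p := 39999) (l := 6) rfl N39999 D139031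
theorem N72344 : nd 72344 = n139061 := ndS (p := 40000) (l := 5) rfl N40000 D139061
theorem N72345 : nd 72345 = n139067 := ndS (p := 40001) (l := 5) rfl N40001 D139067
theorem N72346 : nd 72346 = n139068 := ndS (p := 40001) (l := 6) rfl N40001 D139068
theorem N72347 : nd 72347 = n139072 := ndS (p := 40002) (l := 5) rfl N40002 D139072
theorem N72348 : nd 72348 = n139075 := ndS (p := 40003) (l := 5) rfl N40003 D139075
theorem N72349 : nd 72349 = n139078 := ndS (p := 40004) (l := 6) rfl N40004 D139078
theorem N72350 : nd 72350 = n139079 := ndS (p := 40005) (l := 3) rfl N40005 D139079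
theorem N72351 : nd 72351 = n139080 := ndS (p := 40005) (l := 5) rfl N40005 D139080
theorem N72352 : nd 72352 = n139081 := ndS (p := 40005) (l := 6) rfl N40005 D139081
theorem N72353 : nd 72353 = n139087 := ndS (p := 40007) (l := 0) rfl N40007 D139087
theorem N72354 : nd 72354 = n139088 := ndS (p := 40007) (l := 1) rfl N40007 D139088
theorem N72355 : nd 72355 = n139089 := ndS (p := 40007) (l := 5) rfl N40007 D139089
theorem N72356 : nd 72356 = n139092 := ndS (p := 40009) (l := 3) rfl N40009 D139092
theorem N72357 : nd 72357 = n139093 := ndS (p := 40009) (l := 5) rfl N40009 D139093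
theorem N72358 : nd 72358 = n139094 := ndS (p := 40009) (l := 6) rfl N40009 D139094
theorem N72359 : nd 72359 = n139095 := ndS (p := 40010) (l := 5) rfl N40010 D139095
theorem N72360 : nd 72360 = n139097 := ndS (p := 40011) (l := 1) rfl N40011 D139097
theorem N72361 : nd 72361 = n139098 := ndS (p := 40011) (l := 2) rfl N40011 D139098
theorem N72362 : nd 72362 = n139099 := ndS (p := 40011) (l := 5) rfl N40011 D139099
theorem N72363 : nd 72363 = n139100 := ndS (p := 40011) (l := 6) rfl N40011 D139100
theorem N72364 : nd 72364 = n139101 := ndS (p := 40011) (l := 7) rfl N40011 D139101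
theorem N72365 : nd 72365 = n139102 := ndS (p := 40012) (l := 0) rfl N40012 D139102
theorem N72366 : nd 72366 = n139103 := ndS (p := 40012) (l := 1) rfl N40012 D139103
theorem N72367 : nd 72367 = n139105 := ndS (p := 40012) (l := 6) rfl N40012 D139105
theorem N72368 : nd 72368 = n139106 := ndS (p := 40012) (l := 7) rfl N40012 D139106
theorem N72369 : nd 72369 = n139107 := ndS (p := 40013) (l := 0) rfl N40013 D139107
theorem N72370 : nd 72370 = n139108 := ndS (p := 40013) (l := 1) rfl N40013 D139108
theorem N72371 : nd 72371 = n139109 := ndS (p := 40013) (l := 5) rfl N40013 D139109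
theorem N72372 : nd 72372 = n139110 := ndS (p := 40013) (l := 7) rfl N40013 D139110
theorem N72373 : nd 72373 = n139114 := ndS (p := 40015) (l := 5) rfl N40015 D139114
theorem N72374 : nd 72374 = n139115 := ndS (p := 40015) (l := 6) rfl N40015 D139115
theorem N72375 : nd 72375 = n139119 := ndS (p := 40016) (l := 5) rfl N40016 D139119
theorem N72376 : nd 72376 = n139125 := ndS (p := 40017) (l := 5) rfl N40017 D139125
theorem N72377 : nd 72377 = n139132 := ndS (p := 40018) (l := 0) rfl N40018 D139132
theorem N72378 : nd 72378 = n139133 := ndS (p := 40018) (l := 4) rfl N40018 D139133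
theorem N72379 : nd 72379 = n139143 := ndS (p := 40020) (l := 3) rfl N40020 D139143
theorem N72380 : nd 72380 = n139144 := ndS (p := 40020) (l := 5) rfl N40020 D139144
theorem N72381 : nd 72381 = n139155 := ndS (p := 40021) (l := 5) rfl N40021 D139155
theorem N72382 : nd 72382 = n139156 := ndS (p := 40021) (l := 6) rfl N40021 D139156
theorem N72383 : nd 72383 = n139158 := ndS (p := 40022) (l := 6) rfl N40022 D139158
theorem N72384 : nd 72384 = n139159 := ndS (p := 40023) (l := 0) rfl N40023 D139159
theorem N72385 : nd 72385 = n139160 := ndS (p := 40023) (l := 1) rfl N40023 D139160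
theorem N72386 : nd 72386 = n139161 := ndS (p := 40023) (l := 5) rfl N40023 D139161
theorem N72387 : nd 72387 = n139181 := ndS (p := 40025) (l := 6) rfl N40025 D139181
theorem N72388 : nd 72388 = n139182 := ndS (p := 40026) (l := 0) rfl N40026 D139182
theorem N72389 : nd 72389 = n139183 := ndS (p := 40026) (l := 1) rfl N40026 D139183
theorem N72390 : nd 72390 = n139184 := ndS (p := 40026) (l := 7) rfl N40026 D139184
theorem N72391 : nd 72391 = n139186 := ndS (p := 40027) (l := 2) rfl N40027 D139186
theorem N72392 : nd 72392 = n139188 := ndS (p := 40028) (l := 0) rfl N40028 D139188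
theorem N72393 : nd 72393 = n139189 := ndS (p := 40028) (l := 1) rfl N40028 D139189
theorem N72394 : nd 72394 = n139200 := ndS (p := 40030) (l := 4) rfl N40030 D139200
theorem N72395 : nd 72395 = n139203 := ndS (p := 40032) (l := 0) rfl N40032 D139203
theorem N72396 : nd 72396 = n139204 := ndS (p := 40032) (l := 1) rfl N40032 D139204
theorem N72397 : nd 72397 = n139205 := ndS (p := 40032) (l := 5) rfl N40032 D139205
theorem N72398 : nd 72398 = n139206 := ndS (p := 40032) (l := 7) rfl N40032 D139206
theorem N72399 : nd 72399 = n139209 := ndS (p := 40033) (l := 4) rfl N40033 D139209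
theorem N72400 : nd 72400 = n139213 := ndS (p := 40034) (l := 3) rfl N40034 D139213
theorem N72401 : nd 72401 = n139216 := ndS (p := 40034) (l := 6) rfl N40034 D139216
theorem N72402 : nd 72402 = n139218 := ndS (p := 40036) (l := 3) rfl N40036 D139218
theorem N72403 : nd 72403 = n139219 := ndS (p := 40036) (l := 4) rfl N40036 D139219
theorem N72404 : nd 72404 = n139221 := ndS (p := 40036) (l := 6) rfl N40036 D139221
theorem N72405 : nd 72405 = n139224 := ndS (p := 40037) (l := 4) rfl N40037 D139224
theorem N72406 : nd 72406 = n139226 := ndS (p := 40037) (l := 6) rfl N40037 D139226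
theorem N72407 : nd 72407 = n139228 := ndS (p := 40038) (l := 1) rfl N40038 D139228
theorem N72408 : nd 72408 = n139241 := ndS (p := 40040) (l := 0) rfl N40040 D139241
theorem N72409 : nd 72409 = n139269 := ndS (p := 40041) (l := 1) rfl N40041 D139269
theorem N72410 : nd 72410 = n139270 := ndS (p := 40041) (l := 2) rfl N40041 D139270
theorem N72411 : nd 72411 = n139273 := ndS (p := 40041) (l := 6) rfl N40041 D139273
theorem N72412 : nd 72412 = n139278 := ndS (p := 40043) (l := 3) rfl N40043 D139278
theorem N72413 : nd 72413 = n139279 := ndS (p := 40044) (l := 5) rfl N40044 D139279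
theorem N72414 : nd 72414 = n139280 := ndS (p := 40044) (l := 6) rfl N40044 D139280
theorem N72415 : nd 72415 = n139281 := ndS (p := 40045) (l := 4) rfl N40045 D139281
theorem N72416 : nd 72416 = n139282 := ndS (p := 40045) (l := 5) rfl N40045 D139282
theorem N72417 : nd 72417 = n139283 := ndS (p := 40045) (l := 6) rfl N40045 D139283
theorem N72418 : nd 72418 = n139284 := ndS (p := 40046) (l := 3) rfl N40046 D139284
theorem N72419 : nd 72419 = n139285 := ndS (p := 40046) (l := 5) rfl N40046 D139285
theorem N72420 : nd 72420 = n139286 := ndS (p := 40046) (l := 6) rfl N40046 D139286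
theorem N72421 : nd 72421 = n139287 := ndS (p := 40047) (l := 5) rfl N40047 D139287
theorem N72422 : nd 72422 = n139288 := ndS (p := 40047) (l := 6) rfl N40047 D139288
theorem N72423 : nd 72423 = n139289 := ndS (p := 40048) (l := 0) rfl N40048 D139289
theorem N72424 : nd 72424 = n139290 := ndS (p := 40048) (l := 1) rfl N40048 D139290
theorem N72425 : nd 72425 = n139291 := ndS (p := 40048) (l := 4) rfl N40048 D139291
theorem N72426 : nd 72426 = n139293 := ndS (p := 40049) (l := 0) rfl N40049 D139293
theorem N72427 : nd 72427 = n139294 := ndS (p := 40049) (l := 1) rfl N40049 D139294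
theorem N72428 : nd 72428 = n139296 := ndS (p := 40050) (l := 0) rfl N40050 D139296
theorem N72429 : nd 72429 = n139297 := ndS (p := 40050) (l := 1) rfl N40050 D139297
theorem N72430 : nd 72430 = n139299 := ndS (p := 40050) (l := 7) rfl N40050 D139299
theorem N72431 : nd 72431 = n139300 := ndS (p := 40051) (l := 3) rfl N40051 D139300
theorem N72432 : nd 72432 = n139301 := ndS (p := 40051) (l := 5) rfl N40051 D139301
theorem N72433 : nd 72433 = n139302 := ndS (p := 40051) (l := 6) rfl N40051 D139302
theorem N72434 : nd 72434 = n139303 := ndS (p := 40052) (l := 3) rfl N40052 D139303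
theorem N72435 : nd 72435 = n139306 := ndS (p := 40053) (l := 0) rfl N40053 D139306
theorem N72436 : nd 72436 = n139307 := ndS (p := 40053) (l := 1) rfl N40053 D139307
theorem N72437 : nd 72437 = n139308 := ndS (p := 40053) (l := 4) rfl N40053 D139308
theorem N72438 : nd 72438 = n139309 := ndS (p := 40054) (l := 3) rfl N40054 D139309
theorem N72439 : nd 72439 = n139310 := ndS (p := 40054) (l := 5) rfl N40054 D139310
theorem N72440 : nd 72440 = n139311 := ndS (p := 40054) (l := 6) rfl N40054 D139311
theorem N72441 : nd 72441 = n139312 := ndS (p := 40055) (l := 4) rfl N40055 D139312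
theorem N72442 : nd 72442 = n139314 := ndS (p := 40057) (l := 3) rfl N40057 D139314
theorem N72443 : nd 72443 = n139315 := ndS (p := 40057) (l := 4) rfl N40057 D139315
theorem N72444 : nd 72444 = n139316 := ndS (p := 40057) (l := 5) rfl N40057 D139316
theorem N72445 : nd 72445 = n139317 := ndS (p := 40057) (l := 6) rfl N40057 D139317
theorem N72446 : nd 72446 = n139319 := ndS (p := 40058) (l := 3) rfl N40058 D139319
theorem N72447 : nd 72447 = n139320 := ndS (p := 40058) (l := 4) rfl N40058 D139320
theorem N72448 : nd 72448 = n139321 := ndS (p := 40058) (l := 5) rfl N40058 D139321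
theorem N72449 : nd 72449 = n139322 := ndS (p := 40058) (l := 6) rfl N40058 D139322
theorem N72450 : nd 72450 = n139325 := ndS (p := 40060) (l := 0) rfl N40060 D139325
theorem N72451 : nd 72451 = n139326 := ndS (p := 40060) (l := 1) rfl N40060 D139326
theorem N72452 : nd 72452 = n139327 := ndS (p := 40060) (l := 4) rfl N40060 D139327
theorem N72453 : nd 72453 = n139334 := ndS (p := 40061) (l := 1) rfl N40061 D139334
theorem N72454 : nd 72454 = n139337 := ndS (p := 40062) (l := 3) rfl N40062 D139337
theorem N72455 : nd 72455 = n139339 := ndS (p := 40063) (l := 5) rfl N40063 D139339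
theorem N72456 : nd 72456 = n139340 := ndS (p := 40063) (l := 6) rfl N40063 D139340
theorem N72457 : nd 72457 = n139346 := ndS (p := 40064) (l := 3) rfl N40064 D139346
theorem N72458 : nd 72458 = n139349 := ndS (p := 40065) (l := 5) rfl N40065 D139349
theorem N72459 : nd 72459 = n139350 := ndS (p := 40065) (l := 6) rfl N40065 D139350
theorem N72460 : nd 72460 = n139351 := ndS (p := 40067) (l := 1) rfl N40067 D139351
theorem N72461 : nd 72461 = n139352 := ndS (p := 40067) (l := 2) rfl N40067 D139352
theorem N72462 : nd 72462 = n139353 := ndS (p := 40067) (l := 6) rfl N40067 D139353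
theorem N72463 : nd 72463 = n139356 := ndS (p := 40069) (l := 3) rfl N40069 D139356
theorem N72464 : nd 72464 = n139357 := ndS (p := 40069) (l := 4) rfl N40069 D139357
theorem N72465 : nd 72465 = n139359 := ndS (p := 40069) (l := 6) rfl N40069 D139359
theorem N72466 : nd 72466 = n139362 := ndS (p := 40070) (l := 4) rfl N40070 D139362
theorem N72467 : nd 72467 = n139365 := ndS (p := 40071) (l := 5) rfl N40071 D139365
theorem N72468 : nd 72468 = n139366 := ndS (p := 40071) (l := 6) rfl N40071 D139366
theorem N72469 : nd 72469 = n139369 := ndS (p := 40072) (l := 4) rfl N40072 D139369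
theorem N72470 : nd 72470 = n139370 := ndS (p := 40072) (l := 6) rfl N40072 D139370
theorem N72471 : nd 72471 = n139371 := ndS (p := 40073) (l := 0) rfl N40073 D139371
theorem N72472 : nd 72472 = n139372 := ndS (p := 40073) (l := 1) rfl N40073 D139372
theorem N72473 : nd 72473 = n139373 := ndS (p := 40073) (l := 5) rfl N40073 D139373
theorem N72474 : nd 72474 = n139374 := ndS (p := 40073) (l := 7) rfl N40073 D139374
theorem N72475 : nd 72475 = n139377 := ndS (p := 40074) (l := 5) rfl N40074 D139377
theorem N72476 : nd 72476 = n139380 := ndS (p := 40075) (l := 5) rfl N40075 D139380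
theorem N72477 : nd 72477 = n139381 := ndS (p := 40075) (l := 6) rfl N40075 D139381
theorem N72478 : nd 72478 = n139382 := ndS (p := 40076) (l := 3) rfl N40076 D139382
theorem N72479 : nd 72479 = n139383 := ndS (p := 40076) (l := 5) rfl N40076 D139383
theorem N72480 : nd 72480 = n139385 := ndS (p := 40077) (l := 0) rfl N40077 D139385
theorem N72481 : nd 72481 = n139386 := ndS (p := 40077) (l := 4) rfl N40077 D139386
theorem N72482 : nd 72482 = n139387 := ndS (p := 40077) (l := 7) rfl N40077 D139387
theorem N72483 : nd 72483 = n139388 := ndS (p := 40079) (l := 3) rfl N40079 D139388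
theorem N72484 : nd 72484 = n139389 := ndS (p := 40079) (l := 5) rfl N40079 D139389
theorem N72485 : nd 72485 = n139390 := ndS (p := 40079) (l := 6) rfl N40079 D139390
theorem N72486 : nd 72486 = n139391 := ndS (p := 40080) (l := 4) rfl N40080 D139391
theorem N72487 : nd 72487 = n139392 := ndS (p := 40082) (l := 3) rfl N40082 D139392
theorem N72488 : nd 72488 = n139393 := ndS (p := 40082) (l := 5) rfl N40082 D139393
theorem N72489 : nd 72489 = n139394 := ndS (p := 40083) (l := 0) rfl N40083 D139394
theorem N72490 : nd 72490 = n139395 := ndS (p := 40083) (l := 1) rfl N40083 D139395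
theorem N72491 : nd 72491 = n139396 := ndS (p := 40083) (l := 2) rfl N40083 D139396
theorem N72492 : nd 72492 = n139397 := ndS (p := 40083) (l := 5) rfl N40083 D139397
theorem N72493 : nd 72493 = n139398 := ndS (p := 40083) (l := 6) rfl N40083 D139398
theorem N72494 : nd 72494 = n139399 := ndS (p := 40084) (l := 6) rfl N40084 D139399
theorem N72495 : nd 72495 = n139400 := ndS (p := 40085) (l := 1) rfl N40085 D139400
theorem N72496 : nd 72496 = n139401 := ndS (p := 40085) (l := 5) rfl N40085 D139401
theorem N72497 : nd 72497 = n139402 := ndS (p := 40085) (l := 7) rfl N40085 D139402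
theorem N72498 : nd 72498 = n139403 := ndS (p := 40088) (l := 3) rfl N40088 D139403
theorem N72499 : nd 72499 = n139404 := ndS (p := 40088) (l := 4) rfl N40088 D139404
theorem N72500 : nd 72500 = n139406 := ndS (p := 40088) (l := 6) rfl N40088 D139406
theorem N72501 : nd 72501 = n139407 := ndS (p := 40089) (l := 4) rfl N40089 D139407
theorem N72502 : nd 72502 = n139409 := ndS (p := 40089) (l := 6) rfl N40089 D139409
theorem N72503 : nd 72503 = n139410 := ndS (p := 40090) (l := 5) rfl N40090 D139410
theorem N72504 : nd 72504 = n139411 := ndS (p := 40090) (l := 6) rfl N40090 D139411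
theorem N72505 : nd 72505 = n139412 := ndS (p := 40091) (l := 0) rfl N40091 D139412
theorem N72506 : nd 72506 = n139413 := ndS (p := 40091) (l := 1) rfl N40091 D139413
theorem N72507 : nd 72507 = n139414 := ndS (p := 40091) (l := 4) rfl N40091 D139414
theorem N72508 : nd 72508 = n139415 := ndS (p := 40091) (l := 6) rfl N40091 D139415
theorem N72509 : nd 72509 = n139416 := ndS (p := 40092) (l := 0) rfl N40092 D139416
theorem N72510 : nd 72510 = n139417 := ndS (p := 40092) (l := 1) rfl N40092 D139417
theorem N72511 : nd 72511 = n139418 := ndS (p := 40092) (l := 5) rfl N40092 D139418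
theorem N72512 : nd 72512 = n139419 := ndS (p := 40092) (l := 7) rfl N40092 D139419
theorem N72513 : nd 72513 = n139420 := ndS (p := 40093) (l := 0) rfl N40093 D139420
theorem N72514 : nd 72514 = n139421 := ndS (p := 40093) (l := 1) rfl N40093 D139421
theorem N72515 : nd 72515 = n139422 := ndS (p := 40093) (l := 5) rfl N40093 D139422
theorem N72516 : nd 72516 = n139423 := ndS (p := 40093) (l := 7) rfl N40093 D139423
theorem N72517 : nd 72517 = n139424 := ndS (p := 40094) (l := 3) rfl N40094 D139424
theorem N72518 : nd 72518 = n139425 := ndS (p := 40094) (l := 5) rfl N40094 D139425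
theorem N72519 : nd 72519 = n139426 := ndS (p := 40095) (l := 0) rfl N40095 D139426
theorem N72520 : nd 72520 = n139427 := ndS (p := 40095) (l := 1) rfl N40095 D139427
theorem N72521 : nd 72521 = n139428 := ndS (p := 40095) (l := 4) rfl N40095 D139428
theorem N72522 : nd 72522 = n139429 := ndS (p := 40095) (l := 7) rfl N40095 D139429
theorem N72523 : nd 72523 = n139430 := ndS (p := 40097) (l := 3) rfl N40097 D139430
theorem N72524 : nd 72524 = n139431 := ndS (p := 40097) (l := 5) rfl N40097 D139431
theorem N72525 : nd 72525 = n139433 := ndS (p := 40098) (l := 3) rfl N40098 D139433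
theorem N72526 : nd 72526 = n139434 := ndS (p := 40098) (l := 4) rfl N40098 D139434
theorem N72527 : nd 72527 = n139438 := ndS (p := 40099) (l := 3) rfl N40099 D139438
theorem N72528 : nd 72528 = n139439 := ndS (p := 40099) (l := 4) rfl N40099 D139439
theorem N72529 : nd 72529 = n139441 := ndS (p := 40099) (l := 6) rfl N40099 D139441
theorem N72530 : nd 72530 = n139442 := ndS (p := 40100) (l := 5) rfl N40100 D139442
theorem N72531 : nd 72531 = n139443 := ndS (p := 40100) (l := 6) rfl N40100 D139443
theorem N72532 : nd 72532 = n139444 := ndS (p := 40101) (l := 0) rfl N40101 D139444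
theorem N72533 : nd 72533 = n139445 := ndS (p := 40101) (l := 1) rfl N40101 D139445
theorem N72534 : nd 72534 = n139446 := ndS (p := 40101) (l := 4) rfl N40101 D139446
theorem N72535 : nd 72535 = n139447 := ndS (p := 40101) (l := 6) rfl N40101 D139447
theorem N72536 : nd 72536 = n139448 := ndS (p := 40102) (l := 0) rfl N40102 D139448
theorem N72537 : nd 72537 = n139449 := ndS (p := 40102) (l := 1) rfl N40102 D139449
theorem N72538 : nd 72538 = n139450 := ndS (p := 40102) (l := 5) rfl N40102 D139450
theorem N72539 : nd 72539 = n139451 := ndS (p := 40102) (l := 7) rfl N40102 D139451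
theorem N72540 : nd 72540 = n139452 := ndS (p := 40103) (l := 0) rfl N40103 D139452
theorem N72541 : nd 72541 = n139453 := ndS (p := 40103) (l := 1) rfl N40103 D139453
theorem N72542 : nd 72542 = n139454 := ndS (p := 40103) (l := 5) rfl N40103 D139454
theorem N72543 : nd 72543 = n139455 := ndS (p := 40103) (l := 7) rfl N40103 D139455
theorem N72544 : nd 72544 = n139456 := ndS (p := 40104) (l := 0) rfl N40104 D139456
theorem N72545 : nd 72545 = n139457 := ndS (p := 40104) (l := 4) rfl N40104 D139457
theorem N72546 : nd 72546 = n139458 := ndS (p := 40104) (l := 7) rfl N40104 D139458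
theorem N72547 : nd 72547 = n139460 := ndS (p := 40106) (l := 3) rfl N40106 D139460
theorem N72548 : nd 72548 = n139461 := ndS (p := 40106) (l := 4) rfl N40106 D139461
theorem N72549 : nd 72549 = n139462 := ndS (p := 40106) (l := 6) rfl N40106 D139462
theorem N72550 : nd 72550 = n139464 := ndS (p := 40107) (l := 3) rfl N40107 D139464
theorem N72551 : nd 72551 = n139465 := ndS (p := 40107) (l := 6) rfl N40107 D139465
theorem N72552 : nd 72552 = n139466 := ndS (p := 40108) (l := 5) rfl N40108 D139466
theorem N72553 : nd 72553 = n139467 := ndS (p := 40108) (l := 6) rfl N40108 D139467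
theorem N72554 : nd 72554 = n139468 := ndS (p := 40109) (l := 0) rfl N40109 D139468
theorem N72555 : nd 72555 = n139470 := ndS (p := 40109) (l := 4) rfl N40109 D139470
theorem N72556 : nd 72556 = n139472 := ndS (p := 40110) (l := 0) rfl N40110 D139472
theorem N72557 : nd 72557 = n139473 := ndS (p := 40110) (l := 1) rfl N40110 D139473
theorem N72558 : nd 72558 = n139474 := ndS (p := 40110) (l := 5) rfl N40110 D139474
theorem N72559 : nd 72559 = n139475 := ndS (p := 40110) (l := 7) rfl N40110 D139475
theorem N72560 : nd 72560 = n139476 := ndS (p := 40111) (l := 0) rfl N40111 D139476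
theorem N72561 : nd 72561 = n139477 := ndS (p := 40111) (l := 1) rfl N40111 D139477
theorem N72562 : nd 72562 = n139478 := ndS (p := 40111) (l := 5) rfl N40111 D139478
theorem N72563 : nd 72563 = n139479 := ndS (p := 40111) (l := 7) rfl N40111 D139479
theorem N72564 : nd 72564 = n139481 := ndS (p := 40112) (l := 1) rfl N40112 D139481
theorem N72565 : nd 72565 = n139482 := ndS (p := 40112) (l := 4) rfl N40112 D139482
theorem N72566 : nd 72566 = n139483 := ndS (p := 40112) (l := 7) rfl N40112 D139483
theorem N72567 : nd 72567 = n139485 := ndS (p := 40114) (l := 2) rfl N40114 D139485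
theorem N72568 : nd 72568 = n139486 := ndS (p := 40114) (l := 5) rfl N40114 D139486
theorem N72569 : nd 72569 = n139487 := ndS (p := 40114) (l := 6) rfl N40114 D139487
theorem N72570 : nd 72570 = n139489 := ndS (p := 40116) (l := 4) rfl N40116 D139489
theorem N72571 : nd 72571 = n139490 := ndS (p := 40116) (l := 6) rfl N40116 D139490
theorem N72572 : nd 72572 = n139491 := ndS (p := 40117) (l := 0) rfl N40117 D139491
theorem N72573 : nd 72573 = n139493 := ndS (p := 40117) (l := 5) rfl N40117 D139493
theorem N72574 : nd 72574 = n139494 := ndS (p := 40117) (l := 7) rfl N40117 D139494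
theorem N72575 : nd 72575 = n139495 := ndS (p := 40118) (l := 0) rfl N40118 D139495
theorem N72576 : nd 72576 = n139497 := ndS (p := 40118) (l := 2) rfl N40118 D139497
theorem N72577 : nd 72577 = n139498 := ndS (p := 40118) (l := 5) rfl N40118 D139498
theorem N72578 : nd 72578 = n139499 := ndS (p := 40118) (l := 6) rfl N40118 D139499
theorem N72579 : nd 72579 = n139500 := ndS (p := 40119) (l := 4) rfl N40119 D139500
theorem N72580 : nd 72580 = n139501 := ndS (p := 40119) (l := 6) rfl N40119 D139501
theorem N72581 : nd 72581 = n139503 := ndS (p := 40120) (l := 1) rfl N40120 D139503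
theorem N72582 : nd 72582 = n139504 := ndS (p := 40120) (l := 5) rfl N40120 D139504
theorem N72583 : nd 72583 = n139505 := ndS (p := 40120) (l := 7) rfl N40120 D139505
theorem N72584 : nd 72584 = n139506 := ndS (p := 40121) (l := 4) rfl N40121 D139506
theorem N72585 : nd 72585 = n139512 := ndS (p := 40123) (l := 3) rfl N40123 D139512
theorem N72586 : nd 72586 = n139515 := ndS (p := 40124) (l := 3) rfl N40124 D139515
theorem N72587 : nd 72587 = n139516 := ndS (p := 40124) (l := 4) rfl N40124 D139516
theorem N72588 : nd 72588 = n139517 := ndS (p := 40124) (l := 6) rfl N40124 D139517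
theorem N72589 : nd 72589 = n139518 := ndS (p := 40125) (l := 0) rfl N40125 D139518
theorem N72590 : nd 72590 = n139519 := ndS (p := 40125) (l := 1) rfl N40125 D139519
theorem N72591 : nd 72591 = n139520 := ndS (p := 40125) (l := 5) rfl N40125 D139520
theorem N72592 : nd 72592 = n139521 := ndS (p := 40125) (l := 6) rfl N40125 D139521
theorem N72593 : nd 72593 = n139532 := ndS (p := 40127) (l := 3) rfl N40127 D139532
theorem N72594 : nd 72594 = n139535 := ndS (p := 40127) (l := 6) rfl N40127 D139535
theorem N72595 : nd 72595 = n139541 := ndS (p := 40129) (l := 3) rfl N40129 D139541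
theorem N72596 : nd 72596 = n139549 := ndS (p := 40130) (l := 6) rfl N40130 D139549
theorem N72597 : nd 72597 = n139556 := ndS (p := 40133) (l := 2) rfl N40133 D139556
theorem N72598 : nd 72598 = n139557 := ndS (p := 40133) (l := 5) rfl N40133 D139557
theorem N72599 : nd 72599 = n139558 := ndS (p := 40134) (l := 1) rfl N40134 D139558
theorem N72600 : nd 72600 = n139563 := ndS (p := 40135) (l := 2) rfl N40135 D139563
theorem N72601 : nd 72601 = n139565 := ndS (p := 40135) (l := 6) rfl N40135 D139565
theorem N72602 : nd 72602 = n139566 := ndS (p := 40136) (l := 4) rfl N40136 D139566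
theorem N72603 : nd 72603 = n139568 := ndS (p := 40137) (l := 5) rfl N40137 D139568
theorem N72604 : nd 72604 = n139581 := ndS (p := 40139) (l := 3) rfl N40139 D139581
theorem N72605 : nd 72605 = n139589 := ndS (p := 40141) (l := 1) rfl N40141 D139589
theorem N72606 : nd 72606 = n139590 := ndS (p := 40141) (l := 4) rfl N40141 D139590
theorem N72607 : nd 72607 = n139592 := ndS (p := 40142) (l := 1) rfl N40142 D139592
theorem N72608 : nd 72608 = n139593 := ndS (p := 40142) (l := 3) rfl N40142 D139593
theorem N72609 : nd 72609 = n139595 := ndS (p := 40142) (l := 6) rfl N40142 D139595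
theorem N72610 : nd 72610 = n139596 := ndS (p := 40144) (l := 3) rfl N40144 D139596
theorem N72611 : nd 72611 = n139597 := ndS (p := 40144) (l := 5) rfl N40144 D139597
theorem N72612 : nd 72612 = n139598 := ndS (p := 40144) (l := 6) rfl N40144 D139598
theorem N72613 : nd 72613 = n139599 := ndS (p := 40145) (l := 0) rfl N40145 D139599
theorem N72614 : nd 72614 = n139600 := ndS (p := 40145) (l := 1) rfl N40145 D139600
theorem N72615 : nd 72615 = n139602 := ndS (p := 40146) (l := 1) rfl N40146 D139602
theorem N72616 : nd 72616 = n139603 := ndS (p := 40146) (l := 2) rfl N40146 D139603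
theorem N72617 : nd 72617 = n139604 := ndS (p := 40146) (l := 5) rfl N40146 D139604
theorem N72618 : nd 72618 = n139605 := ndS (p := 40146) (l := 6) rfl N40146 D139605
theorem N72619 : nd 72619 = n139606 := ndS (p := 40147) (l := 4) rfl N40147 D139606
theorem N72620 : nd 72620 = n139607 := ndS (p := 40147) (l := 6) rfl N40147 D139607
theorem N72621 : nd 72621 = n139608 := ndS (p := 40148) (l := 0) rfl N40148 D139608
theorem N72622 : nd 72622 = n139610 := ndS (p := 40148) (l := 5) rfl N40148 D139610
theorem N72623 : nd 72623 = n139611 := ndS (p := 40149) (l := 3) rfl N40149 D139611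
theorem N72624 : nd 72624 = n139613 := ndS (p := 40150) (l := 0) rfl N40150 D139613
theorem N72625 : nd 72625 = n139614 := ndS (p := 40150) (l := 1) rfl N40150 D139614
theorem N72626 : nd 72626 = n139615 := ndS (p := 40150) (l := 2) rfl N40150 D139615
theorem N72627 : nd 72627 = n139616 := ndS (p := 40150) (l := 5) rfl N40150 D139616
theorem N72628 : nd 72628 = n139617 := ndS (p := 40150) (l := 6) rfl N40150 D139617
theorem N72629 : nd 72629 = n139618 := ndS (p := 40151) (l := 6) rfl N40151 D139618
theorem N72630 : nd 72630 = n139619 := ndS (p := 40152) (l := 0) rfl N40152 D139619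
theorem N72631 : nd 72631 = n139620 := ndS (p := 40152) (l := 1) rfl N40152 D139620
theorem N72632 : nd 72632 = n139621 := ndS (p := 40152) (l := 5) rfl N40152 D139621
theorem N72633 : nd 72633 = n139622 := ndS (p := 40153) (l := 4) rfl N40153 D139622
theorem N72634 : nd 72634 = n139623 := ndS (p := 40154) (l := 0) rfl N40154 D139623
theorem N72635 : nd 72635 = n139624 := ndS (p := 40154) (l := 1) rfl N40154 D139624
theorem N72636 : nd 72636 = n139625 := ndS (p := 40154) (l := 2) rfl N40154 D139625
theorem N72637 : nd 72637 = n139626 := ndS (p := 40154) (l := 5) rfl N40154 D139626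
theorem N72638 : nd 72638 = n139627 := ndS (p := 40155) (l := 6) rfl N40155 D139627
theorem N72639 : nd 72639 = n139629 := ndS (p := 40156) (l := 1) rfl N40156 D139629
theorem N72640 : nd 72640 = n139630 := ndS (p := 40156) (l := 2) rfl N40156 D139630
theorem N72641 : nd 72641 = n139631 := ndS (p := 40156) (l := 6) rfl N40156 D139631
theorem N72642 : nd 72642 = n139632 := ndS (p := 40157) (l := 5) rfl N40157 D139632
theorem N72643 : nd 72643 = n139633 := ndS (p := 40158) (l := 3) rfl N40158 D139633
theorem N72644 : nd 72644 = n139634 := ndS (p := 40158) (l := 6) rfl N40158 D139634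
theorem N72645 : nd 72645 = n139635 := ndS (p := 40159) (l := 3) rfl N40159 D139635
theorem N72646 : nd 72646 = n139637 := ndS (p := 40160) (l := 5) rfl N40160 D139637
theorem N72647 : nd 72647 = n139638 := ndS (p := 40160) (l := 6) rfl N40160 D139638
theorem N72648 : nd 72648 = n139639 := ndS (p := 40161) (l := 4) rfl N40161 D139639
theorem N72649 : nd 72649 = n139640 := ndS (p := 40161) (l := 6) rfl N40161 D139640
theorem N72650 : nd 72650 = n139641 := ndS (p := 40162) (l := 0) rfl N40162 D139641
theorem N72651 : nd 72651 = n139642 := ndS (p := 40162) (l := 1) rfl N40162 D139642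
theorem N72652 : nd 72652 = n139643 := ndS (p := 40162) (l := 5) rfl N40162 D139643
theorem N72653 : nd 72653 = n139644 := ndS (p := 40162) (l := 7) rfl N40162 D139644
theorem N72654 : nd 72654 = n139645 := ndS (p := 40163) (l := 0) rfl N40163 D139645
theorem N72655 : nd 72655 = n139646 := ndS (p := 40163) (l := 1) rfl N40163 D139646
theorem N72656 : nd 72656 = n139647 := ndS (p := 40163) (l := 5) rfl N40163 D139647
theorem N72657 : nd 72657 = n139648 := ndS (p := 40163) (l := 7) rfl N40163 D139648
theorem N72658 : nd 72658 = n139649 := ndS (p := 40164) (l := 3) rfl N40164 D139649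
theorem N72659 : nd 72659 = n139650 := ndS (p := 40164) (l := 5) rfl N40164 D139650
theorem N72660 : nd 72660 = n139651 := ndS (p := 40164) (l := 6) rfl N40164 D139651
theorem N72661 : nd 72661 = n139653 := ndS (p := 40165) (l := 5) rfl N40165 D139653
theorem N72662 : nd 72662 = n139654 := ndS (p := 40166) (l := 0) rfl N40166 D139654
theorem N72663 : nd 72663 = n139655 := ndS (p := 40166) (l := 1) rfl N40166 D139655
theorem N72664 : nd 72664 = n139656 := ndS (p := 40166) (l := 4) rfl N40166 D139656
theorem N72665 : nd 72665 = n139657 := ndS (p := 40166) (l := 7) rfl N40166 D139657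
theorem N72666 : nd 72666 = n139658 := ndS (p := 40168) (l := 4) rfl N40168 D139658
theorem N72667 : nd 72667 = n139659 := ndS (p := 40168) (l := 5) rfl N40168 D139659
theorem N72668 : nd 72668 = n139660 := ndS (p := 40169) (l := 3) rfl N40169 D139660
theorem N72669 : nd 72669 = n139661 := ndS (p := 40169) (l := 5) rfl N40169 D139661
theorem N72670 : nd 72670 = n139662 := ndS (p := 40169) (l := 6) rfl N40169 D139662
theorem N72671 : nd 72671 = n139664 := ndS (p := 40172) (l := 3) rfl N40172 D139664
theorem N72672 : nd 72672 = n139665 := ndS (p := 40172) (l := 5) rfl N40172 D139665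
theorem N72673 : nd 72673 = n139666 := ndS (p := 40173) (l := 4) rfl N40173 D139666
theorem N72674 : nd 72674 = n139668 := ndS (p := 40174) (l := 3) rfl N40174 D139668
theorem N72675 : nd 72675 = n139669 := ndS (p := 40174) (l := 5) rfl N40174 D139669
theorem N72676 : nd 72676 = n139673 := ndS (p := 40176) (l := 5) rfl N40176 D139673
theorem N72677 : nd 72677 = n139679 := ndS (p := 40177) (l := 4) rfl N40177 D139679
theorem N72678 : nd 72678 = n139681 := ndS (p := 40178) (l := 0) rfl N40178 D139681
theorem N72679 : nd 72679 = n139682 := ndS (p := 40178) (l := 1) rfl N40178 D139682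
theorem N72680 : nd 72680 = n139685 := ndS (p := 40179) (l := 0) rfl N40179 D139685
theorem N72681 : nd 72681 = n139686 := ndS (p := 40179) (l := 6) rfl N40179 D139686
theorem N72682 : nd 72682 = n139693 := ndS (p := 40181) (l := 4) rfl N40181 D139693
theorem N72683 : nd 72683 = n139697 := ndS (p := 40182) (l := 3) rfl N40182 D139697
theorem N72684 : nd 72684 = n139698 := ndS (p := 40182) (l := 4) rfl N40182 D139698
theorem N72685 : nd 72685 = n139699 := ndS (p := 40182) (l := 5) rfl N40182 D139699
theorem N72686 : nd 72686 = n139705 := ndS (p := 40184) (l := 3) rfl N40184 D139705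
theorem N72687 : nd 72687 = n139712 := ndS (p := 40186) (l := 7) rfl N40186 D139712
theorem N72688 : nd 72688 = n139716 := ndS (p := 40188) (l := 4) rfl N40188 D139716
theorem N72689 : nd 72689 = n139724 := ndS (p := 40190) (l := 4) rfl N40190 D139724
theorem N72690 : nd 72690 = n139725 := ndS (p := 40190) (l := 5) rfl N40190 D139725
theorem N72691 : nd 72691 = n139734 := ndS (p := 40193) (l := 3) rfl N40193 D139734
theorem N72692 : nd 72692 = n139735 := ndS (p := 40193) (l := 5) rfl N40193 D139735
theorem N72693 : nd 72693 = n139739 := ndS (p := 40194) (l := 5) rfl N40194 D139739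
theorem N72694 : nd 72694 = n139745 := ndS (p := 40196) (l := 5) rfl N40196 D139745
theorem N72695 : nd 72695 = n139754 := ndS (p := 40200) (l := 6) rfl N40200 D139754
theorem N72696 : nd 72696 = n139755 := ndS (p := 40201) (l := 6) rfl N40201 D139755
theorem N72697 : nd 72697 = n139758 := ndS (p := 40204) (l := 0) rfl N40204 D139758
theorem N72698 : nd 72698 = n139759 := ndS (p := 40204) (l := 5) rfl N40204 D139759
theorem N72699 : nd 72699 = n139760 := ndS (p := 40204) (l := 6) rfl N40204 D139760
theorem N72700 : nd 72700 = n139763 := ndS (p := 40205) (l := 5) rfl N40205 D139763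
theorem N72701 : nd 72701 = n139765 := ndS (p := 40206) (l := 3) rfl N40206 D139765
theorem N72702 : nd 72702 = n139766 := ndS (p := 40206) (l := 4) rfl N40206 D139766
theorem N72703 : nd 72703 = n139768 := ndS (p := 40207) (l := 3) rfl N40207 D139768
theorem N72704 : nd 72704 = n139772 := ndS (p := 40208) (l := 0) rfl N40208 D139772
theorem N72705 : nd 72705 = n139773 := ndS (p := 40208) (l := 1) rfl N40208 D139773
theorem N72706 : nd 72706 = n139786 := ndS (p := 40210) (l := 4) rfl N40210 D139786
theorem N72707 : nd 72707 = n139790 := ndS (p := 40211) (l := 3) rfl N40211 D139790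
theorem N72708 : nd 72708 = n139799 := ndS (p := 40214) (l := 6) rfl N40214 D139799
theorem N72709 : nd 72709 = n139800 := ndS (p := 40215) (l := 1) rfl N40215 D139800
theorem N72710 : nd 72710 = n139801 := ndS (p := 40215) (l := 3) rfl N40215 D139801
theorem N72711 : nd 72711 = n139802 := ndS (p := 40215) (l := 5) rfl N40215 D139802
theorem N72712 : nd 72712 = n139803 := ndS (p := 40215) (l := 6) rfl N40215 D139803
theorem N72713 : nd 72713 = n139806 := ndS (p := 40218) (l := 3) rfl N40218 D139806
theorem N72714 : nd 72714 = n139807 := ndS (p := 40218) (l := 5) rfl N40218 D139807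
theorem N72715 : nd 72715 = n139813 := ndS (p := 40219) (l := 3) rfl N40219 D139813
theorem N72716 : nd 72716 = n139814 := ndS (p := 40219) (l := 5) rfl N40219 D139814
theorem N72717 : nd 72717 = n139815 := ndS (p := 40219) (l := 6) rfl N40219 D139815
theorem N72718 : nd 72718 = n139816 := ndS (p := 40220) (l := 4) rfl N40220 D139816
theorem N72719 : nd 72719 = n139818 := ndS (p := 40221) (l := 0) rfl N40221 D139818
theorem N72720 : nd 72720 = n139819 := ndS (p := 40221) (l := 1) rfl N40221 D139819
theorem N72721 : nd 72721 = n139821 := ndS (p := 40221) (l := 7) rfl N40221 D139821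
theorem N72722 : nd 72722 = n139822 := ndS (p := 40222) (l := 5) rfl N40222 D139822
theorem N72723 : nd 72723 = n139823 := ndS (p := 40222) (l := 6) rfl N40222 D139823
theorem N72724 : nd 72724 = n139824 := ndS (p := 40223) (l := 3) rfl N40223 D139824
theorem N72725 : nd 72725 = n139825 := ndS (p := 40223) (l := 5) rfl N40223 D139825
theorem N72726 : nd 72726 = n139827 := ndS (p := 40224) (l := 4) rfl N40224 D139827
theorem N72727 : nd 72727 = n139828 := ndS (p := 40224) (l := 6) rfl N40224 D139828
theorem N72728 : nd 72728 = n139829 := ndS (p := 40225) (l := 0) rfl N40225 D139829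
theorem N72729 : nd 72729 = n139830 := ndS (p := 40225) (l := 1) rfl N40225 D139830
theorem N72730 : nd 72730 = n139831 := ndS (p := 40225) (l := 5) rfl N40225 D139831
theorem N72731 : nd 72731 = n139832 := ndS (p := 40225) (l := 7) rfl N40225 D139832
theorem N72732 : nd 72732 = n139833 := ndS (p := 40226) (l := 0) rfl N40226 D139833
theorem N72733 : nd 72733 = n139834 := ndS (p := 40226) (l := 1) rfl N40226 D139834
theorem N72734 : nd 72734 = n139835 := ndS (p := 40226) (l := 5) rfl N40226 D139835
theorem N72735 : nd 72735 = n139836 := ndS (p := 40226) (l := 6) rfl N40226 D139836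
theorem N72736 : nd 72736 = n139839 := ndS (p := 40227) (l := 5) rfl N40227 D139839
theorem N72737 : nd 72737 = n139840 := ndS (p := 40227) (l := 7) rfl N40227 D139840
theorem N72738 : nd 72738 = n139842 := ndS (p := 40228) (l := 3) rfl N40228 D139842
theorem N72739 : nd 72739 = n139843 := ndS (p := 40228) (l := 4) rfl N40228 D139843
theorem N72740 : nd 72740 = n139847 := ndS (p := 40229) (l := 3) rfl N40229 D139847
theorem N72741 : nd 72741 = n139848 := ndS (p := 40229) (l := 4) rfl N40229 D139848
theorem N72742 : nd 72742 = n139849 := ndS (p := 40229) (l := 5) rfl N40229 D139849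
theorem N72743 : nd 72743 = n139853 := ndS (p := 40230) (l := 4) rfl N40230 D139853
theorem N72744 : nd 72744 = n139855 := ndS (p := 40232) (l := 3) rfl N40232 D139855
theorem N72745 : nd 72745 = n139862 := ndS (p := 40233) (l := 7) rfl N40233 D139862
theorem N72746 : nd 72746 = n139869 := ndS (p := 40237) (l := 3) rfl N40237 D139869
theorem N72747 : nd 72747 = n139882 := ndS (p := 40241) (l := 3) rfl N40241 D139882
theorem N72748 : nd 72748 = n139884 := ndS (p := 40242) (l := 3) rfl N40242 D139884
theorem N72749 : nd 72749 = n139901 := ndS (p := 40244) (l := 3) rfl N40244 D139901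
theorem N72750 : nd 72750 = n139914 := ndS (p := 40247) (l := 3) rfl N40247 D139914
theorem N72751 : nd 72751 = n139929 := ndS (p := 40254) (l := 3) rfl N40254 D139929
theorem N72752 : nd 72752 = n139930 := ndS (p := 40254) (l := 5) rfl N40254 D139930
theorem N72753 : nd 72753 = n139931 := ndS (p := 40254) (l := 6) rfl N40254 D139931
theorem N72754 : nd 72754 = n139932 := ndS (p := 40255) (l := 5) rfl N40255 D139932
theorem N72755 : nd 72755 = n139934 := ndS (p := 40256) (l := 1) rfl N40256 D139934
theorem N72756 : nd 72756 = n139935 := ndS (p := 40256) (l := 2) rfl N40256 D139935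
theorem N72757 : nd 72757 = n139936 := ndS (p := 40256) (l := 5) rfl N40256 D139936
theorem N72758 : nd 72758 = n139937 := ndS (p := 40256) (l := 6) rfl N40256 D139937
theorem N72759 : nd 72759 = n139938 := ndS (p := 40257) (l := 0) rfl N40257 D139938
theorem N72760 : nd 72760 = n139939 := ndS (p := 40257) (l := 1) rfl N40257 D139939
theorem N72761 : nd 72761 = n139940 := ndS (p := 40257) (l := 4) rfl N40257 D139940
theorem N72762 : nd 72762 = n139941 := ndS (p := 40257) (l := 6) rfl N40257 D139941
theorem N72763 : nd 72763 = n139942 := ndS (p := 40258) (l := 0) rfl N40258 D139942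
theorem N72764 : nd 72764 = n139943 := ndS (p := 40258) (l := 1) rfl N40258 D139943
theorem N72765 : nd 72765 = n139944 := ndS (p := 40258) (l := 5) rfl N40258 D139944
theorem N72766 : nd 72766 = n139945 := ndS (p := 40258) (l := 7) rfl N40258 D139945
theorem N72767 : nd 72767 = n139947 := ndS (p := 40259) (l := 1) rfl N40259 D139947
theorem N72768 : nd 72768 = n139948 := ndS (p := 40259) (l := 3) rfl N40259 D139948
theorem N72769 : nd 72769 = n139949 := ndS (p := 40259) (l := 5) rfl N40259 D139949
theorem N72770 : nd 72770 = n139951 := ndS (p := 40260) (l := 0) rfl N40260 D139951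
theorem N72771 : nd 72771 = n139954 := ndS (p := 40260) (l := 7) rfl N40260 D139954
theorem N72772 : nd 72772 = n139958 := ndS (p := 40261) (l := 5) rfl N40261 D139958
theorem N72773 : nd 72773 = n139959 := ndS (p := 40261) (l := 6) rfl N40261 D139959
theorem N72774 : nd 72774 = n139965 := ndS (p := 40262) (l := 0) rfl N40262 D139965
theorem N72775 : nd 72775 = n139967 := ndS (p := 40262) (l := 4) rfl N40262 D139967
theorem N72776 : nd 72776 = n139968 := ndS (p := 40262) (l := 7) rfl N40262 D139968
theorem N72777 : nd 72777 = n139969 := ndS (p := 40264) (l := 6) rfl N40264 D139969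
theorem N72778 : nd 72778 = n139970 := ndS (p := 40265) (l := 4) rfl N40265 D139970
theorem N72779 : nd 72779 = n139971 := ndS (p := 40265) (l := 5) rfl N40265 D139971
theorem N72780 : nd 72780 = n139972 := ndS (p := 40265) (l := 6) rfl N40265 D139972
theorem N72781 : nd 72781 = n139974 := ndS (p := 40266) (l := 6) rfl N40266 D139974
theorem N72782 : nd 72782 = n139975 := ndS (p := 40267) (l := 0) rfl N40267 D139975
theorem N72783 : nd 72783 = n139976 := ndS (p := 40267) (l := 6) rfl N40267 D139976
theorem N72784 : nd 72784 = n139977 := ndS (p := 40268) (l := 0) rfl N40268 D139977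
theorem N72785 : nd 72785 = n139978 := ndS (p := 40268) (l := 1) rfl N40268 D139978
theorem N72786 : nd 72786 = n139979 := ndS (p := 40268) (l := 5) rfl N40268 D139979
theorem N72787 : nd 72787 = n139980 := ndS (p := 40268) (l := 7) rfl N40268 D139980
theorem N72788 : nd 72788 = n139981 := ndS (p := 40269) (l := 5) rfl N40269 D139981
theorem N72789 : nd 72789 = n139982 := ndS (p := 40269) (l := 6) rfl N40269 D139982
theorem N72790 : nd 72790 = n139983 := ndS (p := 40270) (l := 4) rfl N40270 D139983
theorem N72791 : nd 72791 = n139984 := ndS (p := 40270) (l := 6) rfl N40270 D139984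
theorem N72792 : nd 72792 = n139985 := ndS (p := 40271) (l := 0) rfl N40271 D139985
theorem N72793 : nd 72793 = n139986 := ndS (p := 40271) (l := 1) rfl N40271 D139986
theorem N72794 : nd 72794 = n139987 := ndS (p := 40271) (l := 5) rfl N40271 D139987
theorem N72795 : nd 72795 = n139988 := ndS (p := 40271) (l := 7) rfl N40271 D139988
theorem N72796 : nd 72796 = n139989 := ndS (p := 40272) (l := 3) rfl N40272 D139989
theorem N72797 : nd 72797 = n139990 := ndS (p := 40272) (l := 5) rfl N40272 D139990
theorem N72798 : nd 72798 = n139991 := ndS (p := 40272) (l := 6) rfl N40272 D139991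
theorem N72799 : nd 72799 = n140007 := ndS (p := 40275) (l := 1) rfl N40275 D140007
theorem N72800 : nd 72800 = n140008 := ndS (p := 40275) (l := 4) rfl N40275 D140008
theorem N72801 : nd 72801 = n140009 := ndS (p := 40275) (l := 7) rfl N40275 D140009
theorem N72802 : nd 72802 = n140010 := ndS (p := 40277) (l := 3) rfl N40277 D140010
theorem N72803 : nd 72803 = n140011 := ndS (p := 40277) (l := 5) rfl N40277 D140011
theorem N72804 : nd 72804 = n140034 := ndS (p := 40279) (l := 3) rfl N40279 D140034
theorem N72805 : nd 72805 = n140035 := ndS (p := 40279) (l := 5) rfl N40279 D140035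
theorem N72806 : nd 72806 = n140036 := ndS (p := 40279) (l := 6) rfl N40279 D140036
theorem N72807 : nd 72807 = n140041 := ndS (p := 40281) (l := 2) rfl N40281 D140041
theorem N72808 : nd 72808 = n140042 := ndS (p := 40281) (l := 6) rfl N40281 D140042
theorem N72809 : nd 72809 = n140043 := ndS (p := 40282) (l := 3) rfl N40282 D140043
theorem N72810 : nd 72810 = n140044 := ndS (p := 40282) (l := 5) rfl N40282 D140044
theorem N72811 : nd 72811 = n140049 := ndS (p := 40283) (l := 7) rfl N40283 D140049
theorem N72812 : nd 72812 = n140051 := ndS (p := 40284) (l := 5) rfl N40284 D140051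
theorem N72813 : nd 72813 = n140052 := ndS (p := 40284) (l := 6) rfl N40284 D140052
theorem N72814 : nd 72814 = n140053 := ndS (p := 40285) (l := 3) rfl N40285 D140053
theorem N72815 : nd 72815 = n140054 := ndS (p := 40285) (l := 5) rfl N40285 D140054
theorem N72816 : nd 72816 = n140055 := ndS (p := 40285) (l := 6) rfl N40285 D140055
theorem N72817 : nd 72817 = n140056 := ndS (p := 40286) (l := 0) rfl N40286 D140056
theorem N72818 : nd 72818 = n140057 := ndS (p := 40286) (l := 1) rfl N40286 D140057
theorem N72819 : nd 72819 = n140058 := ndS (p := 40286) (l := 4) rfl N40286 D140058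
theorem N72820 : nd 72820 = n140059 := ndS (p := 40286) (l := 6) rfl N40286 D140059
theorem N72821 : nd 72821 = n140093 := ndS (p := 40287) (l := 3) rfl N40287 D140093
theorem N72822 : nd 72822 = n140094 := ndS (p := 40287) (l := 5) rfl N40287 D140094
theorem N72823 : nd 72823 = n140112 := ndS (p := 40288) (l := 6) rfl N40288 D140112
theorem N72824 : nd 72824 = n140113 := ndS (p := 40289) (l := 3) rfl N40289 D140113
theorem N72825 : nd 72825 = n140114 := ndS (p := 40289) (l := 5) rfl N40289 D140114
theorem N72826 : nd 72826 = n140115 := ndS (p := 40289) (l := 6) rfl N40289 D140115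
theorem N72827 : nd 72827 = n140259 := ndS (p := 40291) (l := 3) rfl N40291 D140259
theorem N72828 : nd 72828 = n140260 := ndS (p := 40291) (l := 5) rfl N40291 D140260
theorem N72829 : nd 72829 = n140265 := ndS (p := 40292) (l := 0) rfl N40292 D140265
theorem N72830 : nd 72830 = n140266 := ndS (p := 40292) (l := 1) rfl N40292 D140266
theorem N72831 : nd 72831 = n140267 := ndS (p := 40292) (l := 4) rfl N40292 D140267
theorem N72832 : nd 72832 = n140268 := ndS (p := 40292) (l := 6) rfl N40292 D140268
theorem N72833 : nd 72833 = n140326 := ndS (p := 40293) (l := 3) rfl N40293 D140326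
theorem N72834 : nd 72834 = n140328 := ndS (p := 40293) (l := 5) rfl N40293 D140328
theorem N72835 : nd 72835 = n140329 := ndS (p := 40293) (l := 6) rfl N40293 D140329
theorem N72836 : nd 72836 = n140330 := ndS (p := 40294) (l := 5) rfl N40294 D140330
theorem N72837 : nd 72837 = n140331 := ndS (p := 40294) (l := 6) rfl N40294 D140331
theorem N72838 : nd 72838 = n140332 := ndS (p := 40295) (l := 6) rfl N40295 D140332
theorem N72839 : nd 72839 = n140333 := ndS (p := 40296) (l := 0) rfl N40296 D140333
theorem N72840 : nd 72840 = n140334 := ndS (p := 40296) (l := 1) rfl N40296 D140334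
theorem N72841 : nd 72841 = n140335 := ndS (p := 40296) (l := 5) rfl N40296 D140335
theorem N72842 : nd 72842 = n140336 := ndS (p := 40297) (l := 5) rfl N40297 D140336
theorem N72843 : nd 72843 = n140337 := ndS (p := 40297) (l := 6) rfl N40297 D140337
theorem N72844 : nd 72844 = n140338 := ndS (p := 40298) (l := 3) rfl N40298 D140338
theorem N72845 : nd 72845 = n140339 := ndS (p := 40298) (l := 5) rfl N40298 D140339
theorem N72846 : nd 72846 = n140340 := ndS (p := 40298) (l := 6) rfl N40298 D140340
theorem N72847 : nd 72847 = n140341 := ndS (p := 40299) (l := 0) rfl N40299 D140341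
theorem N72848 : nd 72848 = n140342 := ndS (p := 40299) (l := 1) rfl N40299 D140342
theorem N72849 : nd 72849 = n140343 := ndS (p := 40299) (l := 4) rfl N40299 D140343
theorem N72850 : nd 72850 = n140344 := ndS (p := 40300) (l := 3) rfl N40300 D140344
theorem N72851 : nd 72851 = n140345 := ndS (p := 40300) (l := 5) rfl N40300 D140345
theorem N72852 : nd 72852 = n140346 := ndS (p := 40300) (l := 6) rfl N40300 D140346
theorem N72853 : nd 72853 = n140347 := ndS (p := 40301) (l := 4) rfl N40301 D140347
theorem N72854 : nd 72854 = n140348 := ndS (p := 40303) (l := 0) rfl N40303 D140348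
theorem N72855 : nd 72855 = n140349 := ndS (p := 40303) (l := 1) rfl N40303 D140349
theorem N72856 : nd 72856 = n140350 := ndS (p := 40303) (l := 2) rfl N40303 D140350
theorem N72857 : nd 72857 = n140351 := ndS (p := 40303) (l := 6) rfl N40303 D140351
theorem N72858 : nd 72858 = n140352 := ndS (p := 40304) (l := 5) rfl N40304 D140352
theorem N72859 : nd 72859 = n140353 := ndS (p := 40305) (l := 5) rfl N40305 D140353
theorem N72860 : nd 72860 = n140355 := ndS (p := 40307) (l := 3) rfl N40307 D140355
theorem N72861 : nd 72861 = n140356 := ndS (p := 40307) (l := 4) rfl N40307 D140356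
theorem N72862 : nd 72862 = n140357 := ndS (p := 40307) (l := 5) rfl N40307 D140357
theorem N72863 : nd 72863 = n140358 := ndS (p := 40307) (l := 6) rfl N40307 D140358
theorem N72864 : nd 72864 = n140360 := ndS (p := 40308) (l := 3) rfl N40308 D140360
theorem N72865 : nd 72865 = n140361 := ndS (p := 40308) (l := 4) rfl N40308 D140361
theorem N72866 : nd 72866 = n140362 := ndS (p := 40308) (l := 5) rfl N40308 D140362
theorem N72867 : nd 72867 = n140363 := ndS (p := 40308) (l := 6) rfl N40308 D140363
theorem N72868 : nd 72868 = n140364 := ndS (p := 40309) (l := 5) rfl N40309 D140364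
theorem N72869 : nd 72869 = n140365 := ndS (p := 40309) (l := 6) rfl N40309 D140365
theorem N72870 : nd 72870 = n140367 := ndS (p := 40310) (l := 1) rfl N40310 D140367
theorem N72871 : nd 72871 = n140368 := ndS (p := 40310) (l := 4) rfl N40310 D140368
theorem N72872 : nd 72872 = n140369 := ndS (p := 40310) (l := 6) rfl N40310 D140369
theorem N72873 : nd 72873 = n140370 := ndS (p := 40311) (l := 0) rfl N40311 D140370
theorem N72874 : nd 72874 = n140371 := ndS (p := 40311) (l := 1) rfl N40311 D140371
theorem N72875 : nd 72875 = n140372 := ndS (p := 40311) (l := 5) rfl N40311 D140372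
theorem N72876 : nd 72876 = n140374 := ndS (p := 40312) (l := 0) rfl N40312 D140374
theorem N72877 : nd 72877 = n140375 := ndS (p := 40312) (l := 1) rfl N40312 D140375
theorem N72878 : nd 72878 = n140376 := ndS (p := 40312) (l := 5) rfl N40312 D140376
theorem N72879 : nd 72879 = n140377 := ndS (p := 40312) (l := 7) rfl N40312 D140377
theorem N72880 : nd 72880 = n140380 := ndS (p := 40314) (l := 0) rfl N40314 D140380
theorem N72881 : nd 72881 = n140381 := ndS (p := 40314) (l := 1) rfl N40314 D140381
theorem N72882 : nd 72882 = n140382 := ndS (p := 40314) (l := 4) rfl N40314 D140382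
theorem N72883 : nd 72883 = n140383 := ndS (p := 40314) (l := 7) rfl N40314 D140383
theorem N72884 : nd 72884 = n140384 := ndS (p := 40316) (l := 3) rfl N40316 D140384
theorem N72885 : nd 72885 = n140385 := ndS (p := 40316) (l := 5) rfl N40316 D140385
theorem N72886 : nd 72886 = n140386 := ndS (p := 40318) (l := 1) rfl N40318 D140386
theorem N72887 : nd 72887 = n140387 := ndS (p := 40318) (l := 2) rfl N40318 D140387
theorem N72888 : nd 72888 = n140388 := ndS (p := 40318) (l := 5) rfl N40318 D140388
theorem N72889 : nd 72889 = n140389 := ndS (p := 40318) (l := 6) rfl N40318 D140389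
theorem N72890 : nd 72890 = n140390 := ndS (p := 40319) (l := 6) rfl N40319 D140390
theorem N72891 : nd 72891 = n140391 := ndS (p := 40320) (l := 5) rfl N40320 D140391
theorem N72892 : nd 72892 = n140392 := ndS (p := 40321) (l := 0) rfl N40321 D140392
theorem N72893 : nd 72893 = n140393 := ndS (p := 40321) (l := 1) rfl N40321 D140393
theorem N72894 : nd 72894 = n140394 := ndS (p := 40321) (l := 2) rfl N40321 D140394
theorem N72895 : nd 72895 = n140395 := ndS (p := 40324) (l := 0) rfl N40324 D140395
theorem N72896 : nd 72896 = n140396 := ndS (p := 40325) (l := 0) rfl N40325 D140396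
theorem N72897 : nd 72897 = n140397 := ndS (p := 40325) (l := 1) rfl N40325 D140397
theorem N72898 : nd 72898 = n140398 := ndS (p := 40325) (l := 2) rfl N40325 D140398
theorem N72899 : nd 72899 = n140399 := ndS (p := 40325) (l := 6) rfl N40325 D140399
theorem N72900 : nd 72900 = n140401 := ndS (p := 40327) (l := 5) rfl N40327 D140401
theorem N72901 : nd 72901 = n140403 := ndS (p := 40330) (l := 3) rfl N40330 D140403
theorem N72902 : nd 72902 = n140404 := ndS (p := 40330) (l := 4) rfl N40330 D140404
theorem N72903 : nd 72903 = n140405 := ndS (p := 40330) (l := 5) rfl N40330 D140405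
theorem N72904 : nd 72904 = n140406 := ndS (p := 40330) (l := 6) rfl N40330 D140406
theorem N72905 : nd 72905 = n140408 := ndS (p := 40331) (l := 3) rfl N40331 D140408
theorem N72906 : nd 72906 = n140409 := ndS (p := 40331) (l := 4) rfl N40331 D140409
theorem N72907 : nd 72907 = n140410 := ndS (p := 40331) (l := 5) rfl N40331 D140410
theorem N72908 : nd 72908 = n140411 := ndS (p := 40331) (l := 6) rfl N40331 D140411
theorem N72909 : nd 72909 = n140412 := ndS (p := 40332) (l := 6) rfl N40332 D140412
theorem N72910 : nd 72910 = n140413 := ndS (p := 40333) (l := 0) rfl N40333 D140413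
theorem N72911 : nd 72911 = n140414 := ndS (p := 40333) (l := 1) rfl N40333 D140414
theorem N72912 : nd 72912 = n140415 := ndS (p := 40333) (l := 5) rfl N40333 D140415
theorem N72913 : nd 72913 = n140416 := ndS (p := 40333) (l := 7) rfl N40333 D140416
theorem N72914 : nd 72914 = n140418 := ndS (p := 40334) (l := 1) rfl N40334 D140418
theorem N72915 : nd 72915 = n140419 := ndS (p := 40334) (l := 4) rfl N40334 D140419
theorem N72916 : nd 72916 = n140420 := ndS (p := 40334) (l := 7) rfl N40334 D140420
theorem N72917 : nd 72917 = n140421 := ndS (p := 40336) (l := 3) rfl N40336 D140421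
theorem N72918 : nd 72918 = n140422 := ndS (p := 40336) (l := 5) rfl N40336 D140422
theorem N72919 : nd 72919 = n140423 := ndS (p := 40337) (l := 0) rfl N40337 D140423
theorem N72920 : nd 72920 = n140424 := ndS (p := 40341) (l := 3) rfl N40341 D140424
theorem N72921 : nd 72921 = n140425 := ndS (p := 40341) (l := 5) rfl N40341 D140425
theorem N72922 : nd 72922 = n140426 := ndS (p := 40341) (l := 6) rfl N40341 D140426
theorem N72923 : nd 72923 = n140428 := ndS (p := 40343) (l := 3) rfl N40343 D140428
theorem N72924 : nd 72924 = n140429 := ndS (p := 40343) (l := 4) rfl N40343 D140429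
theorem N72925 : nd 72925 = n140431 := ndS (p := 40343) (l := 6) rfl N40343 D140431
theorem N72926 : nd 72926 = n140433 := ndS (p := 40344) (l := 3) rfl N40344 D140433
theorem N72927 : nd 72927 = n140434 := ndS (p := 40344) (l := 4) rfl N40344 D140434
theorem N72928 : nd 72928 = n140435 := ndS (p := 40344) (l := 6) rfl N40344 D140435
theorem N72929 : nd 72929 = n140436 := ndS (p := 40345) (l := 5) rfl N40345 D140436
theorem N72930 : nd 72930 = n140437 := ndS (p := 40345) (l := 6) rfl N40345 D140437
theorem N72931 : nd 72931 = n140438 := ndS (p := 40346) (l := 0) rfl N40346 D140438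
theorem N72932 : nd 72932 = n140439 := ndS (p := 40346) (l := 1) rfl N40346 D140439
theorem N72933 : nd 72933 = n140440 := ndS (p := 40346) (l := 4) rfl N40346 D140440
theorem N72934 : nd 72934 = n140442 := ndS (p := 40347) (l := 0) rfl N40347 D140442
theorem N72935 : nd 72935 = n140443 := ndS (p := 40347) (l := 1) rfl N40347 D140443
theorem N72936 : nd 72936 = n140449 := ndS (p := 40348) (l := 3) rfl N40348 D140449
theorem N72937 : nd 72937 = n140451 := ndS (p := 40349) (l := 3) rfl N40349 D140451
theorem N72938 : nd 72938 = n140453 := ndS (p := 40349) (l := 6) rfl N40349 D140453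
theorem N72939 : nd 72939 = n140457 := ndS (p := 40350) (l := 3) rfl N40350 D140457
theorem N72940 : nd 72940 = n140458 := ndS (p := 40350) (l := 4) rfl N40350 D140458
theorem N72941 : nd 72941 = n140460 := ndS (p := 40350) (l := 6) rfl N40350 D140460
theorem N72942 : nd 72942 = n140462 := ndS (p := 40351) (l := 6) rfl N40351 D140462
theorem N72943 : nd 72943 = n140463 := ndS (p := 40352) (l := 5) rfl N40352 D140463
theorem N72944 : nd 72944 = n140464 := ndS (p := 40352) (l := 6) rfl N40352 D140464
theorem N72945 : nd 72945 = n140467 := ndS (p := 40353) (l := 4) rfl N40353 D140467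
theorem N72946 : nd 72946 = n140469 := ndS (p := 40354) (l := 0) rfl N40354 D140469
theorem N72947 : nd 72947 = n140470 := ndS (p := 40354) (l := 1) rfl N40354 D140470
theorem N72948 : nd 72948 = n140472 := ndS (p := 40354) (l := 7) rfl N40354 D140472
theorem N72949 : nd 72949 = n140477 := ndS (p := 40355) (l := 3) rfl N40355 D140477
theorem N72950 : nd 72950 = n140478 := ndS (p := 40355) (l := 5) rfl N40355 D140478
theorem N72951 : nd 72951 = n140479 := ndS (p := 40355) (l := 6) rfl N40355 D140479
theorem N72952 : nd 72952 = n140480 := ndS (p := 40356) (l := 3) rfl N40356 D140480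
theorem N72953 : nd 72953 = n140485 := ndS (p := 40358) (l := 3) rfl N40358 D140485
theorem N72954 : nd 72954 = n140487 := ndS (p := 40359) (l := 4) rfl N40359 D140487
theorem N72955 : nd 72955 = n140489 := ndS (p := 40360) (l := 3) rfl N40360 D140489
theorem N72956 : nd 72956 = n140490 := ndS (p := 40360) (l := 4) rfl N40360 D140490
theorem N72957 : nd 72957 = n140492 := ndS (p := 40360) (l := 6) rfl N40360 D140492
theorem N72958 : nd 72958 = n140494 := ndS (p := 40361) (l := 3) rfl N40361 D140494
theorem N72959 : nd 72959 = n140495 := ndS (p := 40361) (l := 4) rfl N40361 D140495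
theorem N72960 : nd 72960 = n140496 := ndS (p := 40361) (l := 5) rfl N40361 D140496
theorem N72961 : nd 72961 = n140497 := ndS (p := 40361) (l := 6) rfl N40361 D140497
theorem N72962 : nd 72962 = n140498 := ndS (p := 40362) (l := 5) rfl N40362 D140498
theorem N72963 : nd 72963 = n140500 := ndS (p := 40363) (l := 0) rfl N40363 D140500
theorem N72964 : nd 72964 = n140501 := ndS (p := 40363) (l := 1) rfl N40363 D140501
theorem N72965 : nd 72965 = n140502 := ndS (p := 40363) (l := 4) rfl N40363 D140502
theorem N72966 : nd 72966 = n140515 := ndS (p := 40367) (l := 3) rfl N40367 D140515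
theorem N72967 : nd 72967 = n140516 := ndS (p := 40367) (l := 4) rfl N40367 D140516
theorem N72968 : nd 72968 = n140520 := ndS (p := 40368) (l := 3) rfl N40368 D140520
theorem N72969 : nd 72969 = n140521 := ndS (p := 40368) (l := 4) rfl N40368 D140521
theorem N72970 : nd 72970 = n140523 := ndS (p := 40368) (l := 6) rfl N40368 D140523
theorem N72971 : nd 72971 = n140524 := ndS (p := 40369) (l := 5) rfl N40369 D140524
theorem N72972 : nd 72972 = n140525 := ndS (p := 40369) (l := 6) rfl N40369 D140525
theorem N72973 : nd 72973 = n140530 := ndS (p := 40371) (l := 0) rfl N40371 D140530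
theorem N72974 : nd 72974 = n140531 := ndS (p := 40371) (l := 1) rfl N40371 D140531
theorem N72975 : nd 72975 = n140533 := ndS (p := 40371) (l := 7) rfl N40371 D140533
theorem N72976 : nd 72976 = n140542 := ndS (p := 40373) (l := 1) rfl N40373 D140542
theorem N72977 : nd 72977 = n140543 := ndS (p := 40373) (l := 2) rfl N40373 D140543
theorem N72978 : nd 72978 = n140544 := ndS (p := 40373) (l := 4) rfl N40373 D140544
theorem N72979 : nd 72979 = n140545 := ndS (p := 40373) (l := 5) rfl N40373 D140545
theorem N72980 : nd 72980 = n140546 := ndS (p := 40373) (l := 6) rfl N40373 D140546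
theorem N72981 : nd 72981 = n140547 := ndS (p := 40374) (l := 5) rfl N40374 D140547
theorem N72982 : nd 72982 = n140548 := ndS (p := 40374) (l := 6) rfl N40374 D140548
theorem N72983 : nd 72983 = n140549 := ndS (p := 40375) (l := 4) rfl N40375 D140549
theorem N72984 : nd 72984 = n140550 := ndS (p := 40375) (l := 6) rfl N40375 D140550
theorem N72985 : nd 72985 = n140553 := ndS (p := 40376) (l := 5) rfl N40376 D140553
theorem N72986 : nd 72986 = n140555 := ndS (p := 40377) (l := 0) rfl N40377 D140555
theorem N72987 : nd 72987 = n140557 := ndS (p := 40377) (l := 2) rfl N40377 D140557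
theorem N72988 : nd 72988 = n140558 := ndS (p := 40377) (l := 5) rfl N40377 D140558
theorem N72989 : nd 72989 = n140559 := ndS (p := 40377) (l := 6) rfl N40377 D140559
theorem N72990 : nd 72990 = n140560 := ndS (p := 40378) (l := 4) rfl N40378 D140560
theorem N72991 : nd 72991 = n140563 := ndS (p := 40379) (l := 1) rfl N40379 D140563
theorem N72992 : nd 72992 = n140564 := ndS (p := 40379) (l := 5) rfl N40379 D140564
theorem N72993 : nd 72993 = n140565 := ndS (p := 40379) (l := 7) rfl N40379 D140565
theorem N72994 : nd 72994 = n140566 := ndS (p := 40380) (l := 4) rfl N40380 D140566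
theorem N72995 : nd 72995 = n140567 := ndS (p := 40380) (l := 6) rfl N40380 D140567
theorem N72996 : nd 72996 = n140568 := ndS (p := 40381) (l := 0) rfl N40381 D140568
theorem N72997 : nd 72997 = n140570 := ndS (p := 40381) (l := 5) rfl N40381 D140570
theorem N72998 : nd 72998 = n140571 := ndS (p := 40381) (l := 7) rfl N40381 D140571
theorem N72999 : nd 72999 = n140572 := ndS (p := 40382) (l := 3) rfl N40382 D140572
theorem N73000 : nd 73000 = n140573 := ndS (p := 40382) (l := 4) rfl N40382 D140573
theorem N73001 : nd 73001 = n140574 := ndS (p := 40382) (l := 6) rfl N40382 D140574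
theorem N73002 : nd 73002 = n140575 := ndS (p := 40383) (l := 3) rfl N40383 D140575
theorem N73003 : nd 73003 = n140576 := ndS (p := 40383) (l := 4) rfl N40383 D140576
theorem N73004 : nd 73004 = n140577 := ndS (p := 40383) (l := 6) rfl N40383 D140577
theorem N73005 : nd 73005 = n140578 := ndS (p := 40384) (l := 0) rfl N40384 D140578
theorem N73006 : nd 73006 = n140579 := ndS (p := 40384) (l := 1) rfl N40384 D140579
theorem N73007 : nd 73007 = n140580 := ndS (p := 40384) (l := 5) rfl N40384 D140580
theorem N73008 : nd 73008 = n140581 := ndS (p := 40384) (l := 6) rfl N40384 D140581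
theorem N73009 : nd 73009 = n140582 := ndS (p := 40385) (l := 0) rfl N40385 D140582
theorem N73010 : nd 73010 = n140583 := ndS (p := 40385) (l := 1) rfl N40385 D140583
theorem N73011 : nd 73011 = n140585 := ndS (p := 40385) (l := 7) rfl N40385 D140585
theorem N73012 : nd 73012 = n140587 := ndS (p := 40386) (l := 3) rfl N40386 D140587
theorem N73013 : nd 73013 = n140589 := ndS (p := 40386) (l := 5) rfl N40386 D140589
theorem N73014 : nd 73014 = n140590 := ndS (p := 40386) (l := 6) rfl N40386 D140590
theorem N73015 : nd 73015 = n140592 := ndS (p := 40387) (l := 3) rfl N40387 D140592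
theorem N73016 : nd 73016 = n140594 := ndS (p := 40387) (l := 5) rfl N40387 D140594
theorem N73017 : nd 73017 = n140596 := ndS (p := 40388) (l := 0) rfl N40388 D140596
theorem N73018 : nd 73018 = n140597 := ndS (p := 40388) (l := 1) rfl N40388 D140597
theorem N73019 : nd 73019 = n140599 := ndS (p := 40388) (l := 7) rfl N40388 D140599
theorem N73020 : nd 73020 = n140602 := ndS (p := 40390) (l := 2) rfl N40390 D140602
theorem N73021 : nd 73021 = n140604 := ndS (p := 40390) (l := 6) rfl N40390 D140604
theorem N73022 : nd 73022 = n140606 := ndS (p := 40391) (l := 1) rfl N40391 D140606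
theorem N73023 : nd 73023 = n140607 := ndS (p := 40391) (l := 7) rfl N40391 D140607
theorem N73024 : nd 73024 = n140610 := ndS (p := 40392) (l := 2) rfl N40392 D140610
theorem N73025 : nd 73025 = n140612 := ndS (p := 40392) (l := 6) rfl N40392 D140612
theorem N73026 : nd 73026 = n140615 := ndS (p := 40393) (l := 5) rfl N40393 D140615
theorem N73027 : nd 73027 = n140616 := ndS (p := 40393) (l := 7) rfl N40393 D140616
theorem N73028 : nd 73028 = n140618 := ndS (p := 40394) (l := 3) rfl N40394 D140618
theorem N73029 : nd 73029 = n140619 := ndS (p := 40394) (l := 4) rfl N40394 D140619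
theorem N73030 : nd 73030 = n140620 := ndS (p := 40394) (l := 5) rfl N40394 D140620
theorem N73031 : nd 73031 = n140621 := ndS (p := 40394) (l := 6) rfl N40394 D140621
theorem N73032 : nd 73032 = n140623 := ndS (p := 40395) (l := 3) rfl N40395 D140623
theorem N73033 : nd 73033 = n140624 := ndS (p := 40395) (l := 4) rfl N40395 D140624
theorem N73034 : nd 73034 = n140625 := ndS (p := 40395) (l := 5) rfl N40395 D140625
theorem N73035 : nd 73035 = n140627 := ndS (p := 40396) (l := 0) rfl N40396 D140627
theorem N73036 : nd 73036 = n140629 := ndS (p := 40396) (l := 4) rfl N40396 D140629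
theorem N73037 : nd 73037 = n140630 := ndS (p := 40396) (l := 7) rfl N40396 D140630
theorem N73038 : nd 73038 = n140631 := ndS (p := 40398) (l := 0) rfl N40398 D140631
theorem N73039 : nd 73039 = n140635 := ndS (p := 40398) (l := 6) rfl N40398 D140635
theorem N73040 : nd 73040 = n140636 := ndS (p := 40400) (l := 0) rfl N40400 D140636
theorem N73041 : nd 73041 = n140637 := ndS (p := 40400) (l := 1) rfl N40400 D140637
theorem N73042 : nd 73042 = n140638 := ndS (p := 40400) (l := 4) rfl N40400 D140638
theorem N73043 : nd 73043 = n140645 := ndS (p := 40403) (l := 4) rfl N40403 D140645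
theorem N73044 : nd 73044 = n140648 := ndS (p := 40404) (l := 3) rfl N40404 D140648
theorem N73045 : nd 73045 = n140649 := ndS (p := 40404) (l := 4) rfl N40404 D140649
theorem N73046 : nd 73046 = n140650 := ndS (p := 40404) (l := 5) rfl N40404 D140650
theorem N73047 : nd 73047 = n140652 := ndS (p := 40405) (l := 3) rfl N40405 D140652
theorem N73048 : nd 73048 = n140653 := ndS (p := 40405) (l := 4) rfl N40405 D140653
theorem N73049 : nd 73049 = n140654 := ndS (p := 40405) (l := 5) rfl N40405 D140654
theorem N73050 : nd 73050 = n140655 := ndS (p := 40405) (l := 6) rfl N40405 D140655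
theorem N73051 : nd 73051 = n140656 := ndS (p := 40406) (l := 0) rfl N40406 D140656
theorem N73052 : nd 73052 = n140657 := ndS (p := 40406) (l := 1) rfl N40406 D140657
theorem N73053 : nd 73053 = n140658 := ndS (p := 40406) (l := 3) rfl N40406 D140658
theorem N73054 : nd 73054 = n140659 := ndS (p := 40406) (l := 5) rfl N40406 D140659
theorem N73055 : nd 73055 = n140660 := ndS (p := 40406) (l := 7) rfl N40406 D140660
theorem N73056 : nd 73056 = n140661 := ndS (p := 40407) (l := 6) rfl N40407 D140661
theorem N73057 : nd 73057 = n140662 := ndS (p := 40408) (l := 3) rfl N40408 D140662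
theorem N73058 : nd 73058 = n140663 := ndS (p := 40408) (l := 5) rfl N40408 D140663
theorem N73059 : nd 73059 = n140664 := ndS (p := 40409) (l := 0) rfl N40409 D140664
theorem N73060 : nd 73060 = n140666 := ndS (p := 40409) (l := 2) rfl N40409 D140666
theorem N73061 : nd 73061 = n140667 := ndS (p := 40409) (l := 5) rfl N40409 D140667
theorem N73062 : nd 73062 = n140668 := ndS (p := 40409) (l := 6) rfl N40409 D140668
theorem N73063 : nd 73063 = n140669 := ndS (p := 40410) (l := 0) rfl N40410 D140669
theorem N73064 : nd 73064 = n140670 := ndS (p := 40410) (l := 1) rfl N40410 D140670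
theorem N73065 : nd 73065 = n140671 := ndS (p := 40410) (l := 4) rfl N40410 D140671
theorem N73066 : nd 73066 = n140672 := ndS (p := 40410) (l := 6) rfl N40410 D140672
theorem N73067 : nd 73067 = n140673 := ndS (p := 40411) (l := 5) rfl N40411 D140673
theorem N73068 : nd 73068 = n140675 := ndS (p := 40412) (l := 1) rfl N40412 D140675
theorem N73069 : nd 73069 = n140676 := ndS (p := 40412) (l := 2) rfl N40412 D140676
theorem N73070 : nd 73070 = n140677 := ndS (p := 40412) (l := 5) rfl N40412 D140677
theorem N73071 : nd 73071 = n140678 := ndS (p := 40413) (l := 4) rfl N40413 D140678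
theorem N73072 : nd 73072 = n140679 := ndS (p := 40413) (l := 6) rfl N40413 D140679
theorem N73073 : nd 73073 = n140680 := ndS (p := 40414) (l := 3) rfl N40414 D140680
theorem N73074 : nd 73074 = n140681 := ndS (p := 40414) (l := 5) rfl N40414 D140681
theorem N73075 : nd 73075 = n140682 := ndS (p := 40415) (l := 4) rfl N40415 D140682
theorem N73076 : nd 73076 = n140683 := ndS (p := 40417) (l := 3) rfl N40417 D140683
theorem N73077 : nd 73077 = n140684 := ndS (p := 40417) (l := 5) rfl N40417 D140684
theorem N73078 : nd 73078 = n140685 := ndS (p := 40418) (l := 4) rfl N40418 D140685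
theorem N73079 : nd 73079 = n140686 := ndS (p := 40419) (l := 3) rfl N40419 D140686
theorem N73080 : nd 73080 = n140688 := ndS (p := 40419) (l := 6) rfl N40419 D140688
theorem N73081 : nd 73081 = n140689 := ndS (p := 40420) (l := 3) rfl N40420 D140689
theorem N73082 : nd 73082 = n140690 := ndS (p := 40420) (l := 5) rfl N40420 D140690
theorem N73083 : nd 73083 = n140693 := ndS (p := 40421) (l := 2) rfl N40421 D140693
theorem N73084 : nd 73084 = n140696 := ndS (p := 40422) (l := 4) rfl N40422 D140696
theorem N73085 : nd 73085 = n140697 := ndS (p := 40422) (l := 6) rfl N40422 D140697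
theorem N73086 : nd 73086 = n140698 := ndS (p := 40424) (l := 0) rfl N40424 D140698
theorem N73087 : nd 73087 = n140699 := ndS (p := 40424) (l := 1) rfl N40424 D140699
theorem N73088 : nd 73088 = n140700 := ndS (p := 40424) (l := 2) rfl N40424 D140700
theorem N73089 : nd 73089 = n140701 := ndS (p := 40424) (l := 6) rfl N40424 D140701
theorem N73090 : nd 73090 = n140703 := ndS (p := 40426) (l := 3) rfl N40426 D140703
theorem N73091 : nd 73091 = n140705 := ndS (p := 40427) (l := 3) rfl N40427 D140705
theorem N73092 : nd 73092 = n140707 := ndS (p := 40428) (l := 5) rfl N40428 D140707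
theorem N73093 : nd 73093 = n140708 := ndS (p := 40429) (l := 4) rfl N40429 D140708
theorem N73094 : nd 73094 = n140709 := ndS (p := 40429) (l := 6) rfl N40429 D140709
theorem N73095 : nd 73095 = n140710 := ndS (p := 40430) (l := 0) rfl N40430 D140710
theorem N73096 : nd 73096 = n140711 := ndS (p := 40430) (l := 1) rfl N40430 D140711
theorem N73097 : nd 73097 = n140712 := ndS (p := 40430) (l := 7) rfl N40430 D140712
theorem N73098 : nd 73098 = n140713 := ndS (p := 40431) (l := 5) rfl N40431 D140713
theorem N73099 : nd 73099 = n140714 := ndS (p := 40431) (l := 6) rfl N40431 D140714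
theorem N73100 : nd 73100 = n140715 := ndS (p := 40432) (l := 5) rfl N40432 D140715
theorem N73101 : nd 73101 = n140716 := ndS (p := 40432) (l := 6) rfl N40432 D140716
theorem N73102 : nd 73102 = n140718 := ndS (p := 40433) (l := 1) rfl N40433 D140718
theorem N73103 : nd 73103 = n140719 := ndS (p := 40433) (l := 6) rfl N40433 D140719
theorem N73104 : nd 73104 = n140720 := ndS (p := 40434) (l := 0) rfl N40434 D140720
theorem N73105 : nd 73105 = n140721 := ndS (p := 40434) (l := 1) rfl N40434 D140721
theorem N73106 : nd 73106 = n140722 := ndS (p := 40434) (l := 5) rfl N40434 D140722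
theorem N73107 : nd 73107 = n140724 := ndS (p := 40435) (l := 3) rfl N40435 D140724
theorem N73108 : nd 73108 = n140725 := ndS (p := 40435) (l := 5) rfl N40435 D140725
theorem N73109 : nd 73109 = n140727 := ndS (p := 40436) (l := 5) rfl N40436 D140727
theorem N73110 : nd 73110 = n140729 := ndS (p := 40437) (l := 1) rfl N40437 D140729
theorem N73111 : nd 73111 = n140730 := ndS (p := 40437) (l := 2) rfl N40437 D140730
theorem N73112 : nd 73112 = n140731 := ndS (p := 40437) (l := 5) rfl N40437 D140731
theorem N73113 : nd 73113 = n140732 := ndS (p := 40437) (l := 6) rfl N40437 D140732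
theorem N73114 : nd 73114 = n140733 := ndS (p := 40438) (l := 1) rfl N40438 D140733
theorem N73115 : nd 73115 = n140735 := ndS (p := 40438) (l := 6) rfl N40438 D140735
theorem N73116 : nd 73116 = n140737 := ndS (p := 40439) (l := 1) rfl N40439 D140737
theorem N73117 : nd 73117 = n140738 := ndS (p := 40439) (l := 5) rfl N40439 D140738
theorem N73118 : nd 73118 = n140740 := ndS (p := 40440) (l := 1) rfl N40440 D140740
theorem N73119 : nd 73119 = n140741 := ndS (p := 40440) (l := 3) rfl N40440 D140741
theorem N73120 : nd 73120 = n140742 := ndS (p := 40440) (l := 5) rfl N40440 D140742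
theorem N73121 : nd 73121 = n140743 := ndS (p := 40440) (l := 6) rfl N40440 D140743
theorem N73122 : nd 73122 = n140763 := ndS (p := 40444) (l := 6) rfl N40444 D140763
theorem N73123 : nd 73123 = n140764 := ndS (p := 40445) (l := 3) rfl N40445 D140764
theorem N73124 : nd 73124 = n140765 := ndS (p := 40445) (l := 5) rfl N40445 D140765
theorem N73125 : nd 73125 = n140766 := ndS (p := 40445) (l := 6) rfl N40445 D140766
theorem N73126 : nd 73126 = n140767 := ndS (p := 40446) (l := 4) rfl N40446 D140767
theorem N73127 : nd 73127 = n140770 := ndS (p := 40447) (l := 1) rfl N40447 D140770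
theorem N73128 : nd 73128 = n140771 := ndS (p := 40447) (l := 5) rfl N40447 D140771
theorem N73129 : nd 73129 = n140772 := ndS (p := 40447) (l := 7) rfl N40447 D140772
theorem N73130 : nd 73130 = n140773 := ndS (p := 40448) (l := 5) rfl N40448 D140773
theorem N73131 : nd 73131 = n140774 := ndS (p := 40448) (l := 6) rfl N40448 D140774
theorem N73132 : nd 73132 = n140776 := ndS (p := 40449) (l := 6) rfl N40449 D140776
theorem N73133 : nd 73133 = n140777 := ndS (p := 40450) (l := 0) rfl N40450 D140777
theorem N73134 : nd 73134 = n140778 := ndS (p := 40450) (l := 1) rfl N40450 D140778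
theorem N73135 : nd 73135 = n140779 := ndS (p := 40450) (l := 5) rfl N40450 D140779
theorem N73136 : nd 73136 = n140780 := ndS (p := 40450) (l := 7) rfl N40450 D140780
theorem N73137 : nd 73137 = n140781 := ndS (p := 40451) (l := 3) rfl N40451 D140781
theorem N73138 : nd 73138 = n140782 := ndS (p := 40451) (l := 5) rfl N40451 D140782
theorem N73139 : nd 73139 = n140783 := ndS (p := 40451) (l := 6) rfl N40451 D140783
theorem N73140 : nd 73140 = n140785 := ndS (p := 40452) (l := 1) rfl N40452 D140785
theorem N73141 : nd 73141 = n140786 := ndS (p := 40452) (l := 5) rfl N40452 D140786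
theorem N73142 : nd 73142 = n140796 := ndS (p := 40453) (l := 5) rfl N40453 D140796
theorem N73143 : nd 73143 = n140799 := ndS (p := 40454) (l := 1) rfl N40454 D140799
theorem N73144 : nd 73144 = n140801 := ndS (p := 40454) (l := 7) rfl N40454 D140801
theorem N73145 : nd 73145 = n140802 := ndS (p := 40456) (l := 3) rfl N40456 D140802
theorem N73146 : nd 73146 = n140803 := ndS (p := 40456) (l := 5) rfl N40456 D140803
theorem N73147 : nd 73147 = n140804 := ndS (p := 40456) (l := 6) rfl N40456 D140804
theorem N73148 : nd 73148 = n140811 := ndS (p := 40458) (l := 4) rfl N40458 D140811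
theorem N73149 : nd 73149 = n140812 := ndS (p := 40458) (l := 5) rfl N40458 D140812
theorem N73150 : nd 73150 = n140820 := ndS (p := 40459) (l := 1) rfl N40459 D140820
theorem N73151 : nd 73151 = n140822 := ndS (p := 40459) (l := 7) rfl N40459 D140822
theorem N73152 : nd 73152 = n140823 := ndS (p := 40461) (l := 2) rfl N40461 D140823
theorem N73153 : nd 73153 = n140824 := ndS (p := 40461) (l := 6) rfl N40461 D140824
theorem N73154 : nd 73154 = n140827 := ndS (p := 40462) (l := 5) rfl N40462 D140827
theorem N73155 : nd 73155 = n140828 := ndS (p := 40462) (l := 6) rfl N40462 D140828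
theorem N73156 : nd 73156 = n140832 := ndS (p := 40463) (l := 7) rfl N40463 D140832
theorem N73157 : nd 73157 = n140833 := ndS (p := 40464) (l := 6) rfl N40464 D140833
theorem N73158 : nd 73158 = n140835 := ndS (p := 40465) (l := 5) rfl N40465 D140835
theorem N73159 : nd 73159 = n140842 := ndS (p := 40467) (l := 5) rfl N40467 D140842
theorem N73160 : nd 73160 = n140843 := ndS (p := 40467) (l := 6) rfl N40467 D140843
theorem N73161 : nd 73161 = n140847 := ndS (p := 40468) (l := 0) rfl N40468 D140847
theorem N73162 : nd 73162 = n140849 := ndS (p := 40468) (l := 4) rfl N40468 D140849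
theorem N73163 : nd 73163 = n140850 := ndS (p := 40468) (l := 6) rfl N40468 D140850
theorem N73164 : nd 73164 = n140853 := ndS (p := 40469) (l := 5) rfl N40469 D140853
theorem N73165 : nd 73165 = n140875 := ndS (p := 40471) (l := 0) rfl N40471 D140875
theorem N73166 : nd 73166 = n140877 := ndS (p := 40471) (l := 2) rfl N40471 D140877
theorem N73167 : nd 73167 = n140878 := ndS (p := 40471) (l := 4) rfl N40471 D140878
theorem N73168 : nd 73168 = n140879 := ndS (p := 40471) (l := 5) rfl N40471 D140879
theorem N73169 : nd 73169 = n140880 := ndS (p := 40471) (l := 6) rfl N40471 D140880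
theorem N73170 : nd 73170 = n140882 := ndS (p := 40472) (l := 0) rfl N40472 D140882
theorem N73171 : nd 73171 = n140888 := ndS (p := 40473) (l := 0) rfl N40473 D140888
theorem N73172 : nd 73172 = n140889 := ndS (p := 40473) (l := 1) rfl N40473 D140889
theorem N73173 : nd 73173 = n140890 := ndS (p := 40473) (l := 4) rfl N40473 D140890
theorem N73174 : nd 73174 = n140901 := ndS (p := 40475) (l := 4) rfl N40475 D140901
theorem N73175 : nd 73175 = n140904 := ndS (p := 40476) (l := 3) rfl N40476 D140904
theorem N73176 : nd 73176 = n140905 := ndS (p := 40476) (l := 5) rfl N40476 D140905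
theorem N73177 : nd 73177 = n140907 := ndS (p := 40477) (l := 4) rfl N40477 D140907
theorem N73178 : nd 73178 = n140914 := ndS (p := 40478) (l := 3) rfl N40478 D140914
theorem N73179 : nd 73179 = n140916 := ndS (p := 40478) (l := 5) rfl N40478 D140916
theorem N73180 : nd 73180 = n140917 := ndS (p := 40478) (l := 6) rfl N40478 D140917
theorem N73181 : nd 73181 = n140921 := ndS (p := 40479) (l := 5) rfl N40479 D140921
theorem N73182 : nd 73182 = n140923 := ndS (p := 40480) (l := 0) rfl N40480 D140923
theorem N73183 : nd 73183 = n140924 := ndS (p := 40480) (l := 1) rfl N40480 D140924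
theorem N73184 : nd 73184 = n140925 := ndS (p := 40480) (l := 3) rfl N40480 D140925
theorem N73185 : nd 73185 = n140976 := ndS (p := 40484) (l := 3) rfl N40484 D140976
theorem N73186 : nd 73186 = n140990 := ndS (p := 40486) (l := 4) rfl N40486 D140990
theorem N73187 : nd 73187 = n140995 := ndS (p := 40487) (l := 1) rfl N40487 D140995
theorem N73188 : nd 73188 = n140997 := ndS (p := 40488) (l := 0) rfl N40488 D140997
theorem N73189 : nd 73189 = n140998 := ndS (p := 40488) (l := 1) rfl N40488 D140998
theorem N73190 : nd 73190 = n140999 := ndS (p := 40488) (l := 4) rfl N40488 D140999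
theorem N73191 : nd 73191 = n141028 := ndS (p := 40490) (l := 3) rfl N40490 D141028
theorem N73192 : nd 73192 = n141036 := ndS (p := 40491) (l := 2) rfl N40491 D141036
theorem N73193 : nd 73193 = n141046 := ndS (p := 40492) (l := 5) rfl N40492 D141046
theorem N73194 : nd 73194 = n141047 := ndS (p := 40492) (l := 6) rfl N40492 D141047
theorem N73195 : nd 73195 = n141048 := ndS (p := 40493) (l := 0) rfl N40493 D141048
theorem N73196 : nd 73196 = n141049 := ndS (p := 40493) (l := 1) rfl N40493 D141049
theorem N73197 : nd 73197 = n141050 := ndS (p := 40493) (l := 4) rfl N40493 D141050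
theorem N73198 : nd 73198 = n141054 := ndS (p := 40495) (l := 3) rfl N40495 D141054
theorem N73199 : nd 73199 = n141057 := ndS (p := 40496) (l := 3) rfl N40496 D141057
theorem N73200 : nd 73200 = n141060 := ndS (p := 40497) (l := 3) rfl N40497 D141060
theorem N73201 : nd 73201 = n141066 := ndS (p := 40498) (l := 5) rfl N40498 D141066
theorem N73202 : nd 73202 = n141067 := ndS (p := 40499) (l := 1) rfl N40499 D141067
theorem N73203 : nd 73203 = n141068 := ndS (p := 40499) (l := 2) rfl N40499 D141068
theorem N73204 : nd 73204 = n141071 := ndS (p := 40500) (l := 1) rfl N40500 D141071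
theorem N73205 : nd 73205 = n141073 := ndS (p := 40500) (l := 6) rfl N40500 D141073
theorem N73206 : nd 73206 = n141075 := ndS (p := 40501) (l := 4) rfl N40501 D141075
theorem N73207 : nd 73207 = n141079 := ndS (p := 40503) (l := 1) rfl N40503 D141079
theorem N73208 : nd 73208 = n141082 := ndS (p := 40504) (l := 3) rfl N40504 D141082
theorem N73209 : nd 73209 = n141111 := ndS (p := 40508) (l := 4) rfl N40508 D141111
theorem N73210 : nd 73210 = n141115 := ndS (p := 40509) (l := 4) rfl N40509 D141115
theorem N73211 : nd 73211 = n141124 := ndS (p := 40511) (l := 3) rfl N40511 D141124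
theorem N73212 : nd 73212 = n141125 := ndS (p := 40511) (l := 4) rfl N40511 D141125
theorem N73213 : nd 73213 = n141127 := ndS (p := 40511) (l := 6) rfl N40511 D141127
theorem N73214 : nd 73214 = n141129 := ndS (p := 40512) (l := 3) rfl N40512 D141129
theorem N73215 : nd 73215 = n141130 := ndS (p := 40512) (l := 4) rfl N40512 D141130
theorem N73216 : nd 73216 = n141133 := ndS (p := 40513) (l := 5) rfl N40513 D141133
theorem N73217 : nd 73217 = n141134 := ndS (p := 40513) (l := 6) rfl N40513 D141134
theorem N73218 : nd 73218 = n141135 := ndS (p := 40514) (l := 0) rfl N40514 D141135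
theorem N73219 : nd 73219 = n141136 := ndS (p := 40514) (l := 1) rfl N40514 D141136
theorem N73220 : nd 73220 = n141137 := ndS (p := 40514) (l := 6) rfl N40514 D141137
theorem N73221 : nd 73221 = n141139 := ndS (p := 40515) (l := 1) rfl N40515 D141139
theorem N73222 : nd 73222 = n141140 := ndS (p := 40515) (l := 5) rfl N40515 D141140
theorem N73223 : nd 73223 = n141141 := ndS (p := 40515) (l := 7) rfl N40515 D141141
theorem N73224 : nd 73224 = n141143 := ndS (p := 40516) (l := 1) rfl N40516 D141143
theorem N73225 : nd 73225 = n141146 := ndS (p := 40517) (l := 3) rfl N40517 D141146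
theorem N73226 : nd 73226 = n141148 := ndS (p := 40518) (l := 5) rfl N40518 D141148
theorem N73227 : nd 73227 = n141149 := ndS (p := 40518) (l := 6) rfl N40518 D141149
theorem N73228 : nd 73228 = n141154 := ndS (p := 40521) (l := 3) rfl N40521 D141154
theorem N73229 : nd 73229 = n141155 := ndS (p := 40521) (l := 5) rfl N40521 D141155
theorem N73230 : nd 73230 = n141156 := ndS (p := 40522) (l := 4) rfl N40522 D141156
theorem N73231 : nd 73231 = n141157 := ndS (p := 40523) (l := 3) rfl N40523 D141157
theorem N73232 : nd 73232 = n141159 := ndS (p := 40523) (l := 6) rfl N40523 D141159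
theorem N73233 : nd 73233 = n141161 := ndS (p := 40525) (l := 3) rfl N40525 D141161
theorem N73234 : nd 73234 = n141163 := ndS (p := 40525) (l := 5) rfl N40525 D141163
theorem N73235 : nd 73235 = n141165 := ndS (p := 40526) (l := 3) rfl N40526 D141165
theorem N73236 : nd 73236 = n141166 := ndS (p := 40526) (l := 5) rfl N40526 D141166
theorem N73237 : nd 73237 = n141167 := ndS (p := 40526) (l := 6) rfl N40526 D141167
theorem N73238 : nd 73238 = n141168 := ndS (p := 40527) (l := 6) rfl N40527 D141168
theorem N73239 : nd 73239 = n141169 := ndS (p := 40528) (l := 0) rfl N40528 D141169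
theorem N73240 : nd 73240 = n141170 := ndS (p := 40528) (l := 1) rfl N40528 D141170
theorem N73241 : nd 73241 = n141171 := ndS (p := 40528) (l := 5) rfl N40528 D141171
theorem N73242 : nd 73242 = n141172 := ndS (p := 40529) (l := 0) rfl N40529 D141172
theorem N73243 : nd 73243 = n141173 := ndS (p := 40529) (l := 1) rfl N40529 D141173
theorem N73244 : nd 73244 = n141174 := ndS (p := 40529) (l := 4) rfl N40529 D141174
theorem N73245 : nd 73245 = n141175 := ndS (p := 40530) (l := 1) rfl N40530 D141175
theorem N73246 : nd 73246 = n141176 := ndS (p := 40530) (l := 2) rfl N40530 D141176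
theorem N73247 : nd 73247 = n141177 := ndS (p := 40530) (l := 6) rfl N40530 D141177
theorem N73248 : nd 73248 = n141179 := ndS (p := 40532) (l := 0) rfl N40532 D141179
theorem N73249 : nd 73249 = n141181 := ndS (p := 40532) (l := 5) rfl N40532 D141181
theorem N73250 : nd 73250 = n141183 := ndS (p := 40533) (l := 0) rfl N40533 D141183
theorem N73251 : nd 73251 = n141184 := ndS (p := 40533) (l := 2) rfl N40533 D141184
theorem N73252 : nd 73252 = n141190 := ndS (p := 40534) (l := 4) rfl N40534 D141190
theorem N73253 : nd 73253 = n141192 := ndS (p := 40535) (l := 0) rfl N40535 D141192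
theorem N73254 : nd 73254 = n141193 := ndS (p := 40535) (l := 1) rfl N40535 D141193
theorem N73255 : nd 73255 = n141195 := ndS (p := 40535) (l := 7) rfl N40535 D141195
theorem N73256 : nd 73256 = n141196 := ndS (p := 40536) (l := 3) rfl N40536 D141196
theorem N73257 : nd 73257 = n141197 := ndS (p := 40536) (l := 4) rfl N40536 D141197
theorem N73258 : nd 73258 = n141198 := ndS (p := 40536) (l := 6) rfl N40536 D141198
theorem N73259 : nd 73259 = n141199 := ndS (p := 40537) (l := 3) rfl N40537 D141199
theorem N73260 : nd 73260 = n141200 := ndS (p := 40537) (l := 4) rfl N40537 D141200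
theorem N73261 : nd 73261 = n141201 := ndS (p := 40537) (l := 6) rfl N40537 D141201
theorem N73262 : nd 73262 = n141202 := ndS (p := 40538) (l := 0) rfl N40538 D141202
theorem N73263 : nd 73263 = n141203 := ndS (p := 40538) (l := 1) rfl N40538 D141203
theorem N73264 : nd 73264 = n141204 := ndS (p := 40538) (l := 5) rfl N40538 D141204
theorem N73265 : nd 73265 = n141205 := ndS (p := 40538) (l := 6) rfl N40538 D141205
theorem N73266 : nd 73266 = n141208 := ndS (p := 40539) (l := 5) rfl N40539 D141208
theorem N73267 : nd 73267 = n141216 := ndS (p := 40541) (l := 3) rfl N40541 D141216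
theorem N73268 : nd 73268 = n141219 := ndS (p := 40541) (l := 6) rfl N40541 D141219
theorem N73269 : nd 73269 = n141220 := ndS (p := 40542) (l := 0) rfl N40542 D141220
theorem N73270 : nd 73270 = n141221 := ndS (p := 40542) (l := 1) rfl N40542 D141221
theorem N73271 : nd 73271 = n141224 := ndS (p := 40544) (l := 2) rfl N40544 D141224
theorem N73272 : nd 73272 = n141225 := ndS (p := 40544) (l := 4) rfl N40544 D141225
theorem N73273 : nd 73273 = n141226 := ndS (p := 40544) (l := 6) rfl N40544 D141226
theorem N73274 : nd 73274 = n141227 := ndS (p := 40545) (l := 0) rfl N40545 D141227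
theorem N73275 : nd 73275 = n141228 := ndS (p := 40545) (l := 1) rfl N40545 D141228
theorem N73276 : nd 73276 = n141229 := ndS (p := 40545) (l := 5) rfl N40545 D141229
theorem N73277 : nd 73277 = n141230 := ndS (p := 40545) (l := 7) rfl N40545 D141230
theorem N73278 : nd 73278 = n141231 := ndS (p := 40546) (l := 2) rfl N40546 D141231
theorem N73279 : nd 73279 = n141232 := ndS (p := 40546) (l := 4) rfl N40546 D141232
theorem N73280 : nd 73280 = n141233 := ndS (p := 40546) (l := 6) rfl N40546 D141233
theorem N73281 : nd 73281 = n141234 := ndS (p := 40547) (l := 0) rfl N40547 D141234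
theorem N73282 : nd 73282 = n141236 := ndS (p := 40547) (l := 5) rfl N40547 D141236
theorem N73283 : nd 73283 = n141237 := ndS (p := 40547) (l := 7) rfl N40547 D141237
theorem N73284 : nd 73284 = n141239 := ndS (p := 40548) (l := 3) rfl N40548 D141239
theorem N73285 : nd 73285 = n141252 := ndS (p := 40552) (l := 0) rfl N40552 D141252
theorem N73286 : nd 73286 = n141256 := ndS (p := 40552) (l := 6) rfl N40552 D141256
theorem N73287 : nd 73287 = n141258 := ndS (p := 40553) (l := 1) rfl N40553 D141258
theorem N73288 : nd 73288 = n141262 := ndS (p := 40555) (l := 1) rfl N40555 D141262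
theorem N73289 : nd 73289 = n141263 := ndS (p := 40555) (l := 2) rfl N40555 D141263
theorem N73290 : nd 73290 = n141265 := ndS (p := 40555) (l := 6) rfl N40555 D141265
theorem N73291 : nd 73291 = n141268 := ndS (p := 40557) (l := 5) rfl N40557 D141268
theorem N73292 : nd 73292 = n141269 := ndS (p := 40557) (l := 7) rfl N40557 D141269
theorem N73293 : nd 73293 = n141283 := ndS (p := 40560) (l := 3) rfl N40560 D141283
theorem N73294 : nd 73294 = n141285 := ndS (p := 40561) (l := 4) rfl N40561 D141285
theorem N73295 : nd 73295 = n141286 := ndS (p := 40562) (l := 3) rfl N40562 D141286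
theorem N73296 : nd 73296 = n141288 := ndS (p := 40563) (l := 0) rfl N40563 D141288
theorem N73297 : nd 73297 = n141290 := ndS (p := 40563) (l := 2) rfl N40563 D141290
theorem N73298 : nd 73298 = n141291 := ndS (p := 40563) (l := 5) rfl N40563 D141291
theorem N73299 : nd 73299 = n141295 := ndS (p := 40564) (l := 4) rfl N40564 D141295
theorem N73300 : nd 73300 = n141302 := ndS (p := 40568) (l := 3) rfl N40568 D141302
theorem N73301 : nd 73301 = n141303 := ndS (p := 40568) (l := 5) rfl N40568 D141303
theorem N73302 : nd 73302 = n141304 := ndS (p := 40568) (l := 6) rfl N40568 D141304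
theorem N73303 : nd 73303 = n141305 := ndS (p := 40569) (l := 4) rfl N40569 D141305
theorem N73304 : nd 73304 = n141306 := ndS (p := 40570) (l := 0) rfl N40570 D141306
theorem N73305 : nd 73305 = n141308 := ndS (p := 40571) (l := 1) rfl N40571 D141308
theorem N73306 : nd 73306 = n141309 := ndS (p := 40571) (l := 2) rfl N40571 D141309
theorem N73307 : nd 73307 = n141310 := ndS (p := 40571) (l := 5) rfl N40571 D141310
theorem N73308 : nd 73308 = n141311 := ndS (p := 40571) (l := 6) rfl N40571 D141311
theorem N73309 : nd 73309 = n141316 := ndS (p := 40573) (l := 5) rfl N40573 D141316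
theorem N73310 : nd 73310 = n141317 := ndS (p := 40573) (l := 7) rfl N40573 D141317
theorem N73311 : nd 73311 = n141318 := ndS (p := 40574) (l := 3) rfl N40574 D141318
theorem N73312 : nd 73312 = n141324 := ndS (p := 40576) (l := 0) rfl N40576 D141324
theorem N73313 : nd 73313 = n141325 := ndS (p := 40576) (l := 1) rfl N40576 D141325
theorem N73314 : nd 73314 = n141326 := ndS (p := 40576) (l := 2) rfl N40576 D141326
theorem N73315 : nd 73315 = n141332 := ndS (p := 40578) (l := 1) rfl N40578 D141332
theorem N73316 : nd 73316 = n141333 := ndS (p := 40578) (l := 5) rfl N40578 D141333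
theorem N73317 : nd 73317 = n141340 := ndS (p := 40580) (l := 5) rfl N40580 D141340
theorem N73318 : nd 73318 = n141341 := ndS (p := 40580) (l := 6) rfl N40580 D141341
theorem N73319 : nd 73319 = n141342 := ndS (p := 40581) (l := 5) rfl N40581 D141342
theorem N73320 : nd 73320 = n141344 := ndS (p := 40582) (l := 4) rfl N40582 D141344
theorem N73321 : nd 73321 = n141345 := ndS (p := 40582) (l := 6) rfl N40582 D141345
theorem N73322 : nd 73322 = n141348 := ndS (p := 40583) (l := 5) rfl N40583 D141348
theorem N73323 : nd 73323 = n141350 := ndS (p := 40584) (l := 3) rfl N40584 D141350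
theorem N73324 : nd 73324 = n141351 := ndS (p := 40584) (l := 5) rfl N40584 D141351
theorem N73325 : nd 73325 = n141352 := ndS (p := 40584) (l := 6) rfl N40584 D141352
theorem N73326 : nd 73326 = n141354 := ndS (p := 40586) (l := 5) rfl N40586 D141354
theorem N73327 : nd 73327 = n141355 := ndS (p := 40586) (l := 6) rfl N40586 D141355
theorem N73328 : nd 73328 = n141356 := ndS (p := 40587) (l := 4) rfl N40587 D141356
theorem N73329 : nd 73329 = n141357 := ndS (p := 40587) (l := 6) rfl N40587 D141357
theorem N73330 : nd 73330 = n141358 := ndS (p := 40588) (l := 0) rfl N40588 D141358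
theorem N73331 : nd 73331 = n141359 := ndS (p := 40588) (l := 1) rfl N40588 D141359
theorem N73332 : nd 73332 = n141360 := ndS (p := 40588) (l := 5) rfl N40588 D141360
theorem N73333 : nd 73333 = n141362 := ndS (p := 40589) (l := 3) rfl N40589 D141362
theorem N73334 : nd 73334 = n141363 := ndS (p := 40589) (l := 4) rfl N40589 D141363
theorem N73335 : nd 73335 = n141365 := ndS (p := 40589) (l := 6) rfl N40589 D141365
theorem N73336 : nd 73336 = n141367 := ndS (p := 40590) (l := 3) rfl N40590 D141367
theorem N73337 : nd 73337 = n141368 := ndS (p := 40590) (l := 4) rfl N40590 D141368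
theorem N73338 : nd 73338 = n141371 := ndS (p := 40591) (l := 0) rfl N40591 D141371
theorem N73339 : nd 73339 = n141372 := ndS (p := 40591) (l := 1) rfl N40591 D141372
theorem N73340 : nd 73340 = n141374 := ndS (p := 40592) (l := 3) rfl N40592 D141374
theorem N73341 : nd 73341 = n141378 := ndS (p := 40594) (l := 3) rfl N40594 D141378
theorem N73342 : nd 73342 = n141384 := ndS (p := 40597) (l := 5) rfl N40597 D141384
theorem N73343 : nd 73343 = n141385 := ndS (p := 40597) (l := 6) rfl N40597 D141385
theorem N73344 : nd 73344 = n141390 := ndS (p := 40600) (l := 0) rfl N40600 D141390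
theorem N73345 : nd 73345 = n141391 := ndS (p := 40600) (l := 1) rfl N40600 D141391
theorem N73346 : nd 73346 = n141398 := ndS (p := 40601) (l := 6) rfl N40601 D141398
theorem N73347 : nd 73347 = n141409 := ndS (p := 40604) (l := 3) rfl N40604 D141409
theorem N73348 : nd 73348 = n141410 := ndS (p := 40604) (l := 5) rfl N40604 D141410
theorem N73349 : nd 73349 = n141416 := ndS (p := 40605) (l := 5) rfl N40605 D141416
theorem N73350 : nd 73350 = n141418 := ndS (p := 40606) (l := 6) rfl N40606 D141418
theorem N73351 : nd 73351 = n141437 := ndS (p := 40607) (l := 3) rfl N40607 D141437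
theorem N73352 : nd 73352 = n141438 := ndS (p := 40607) (l := 5) rfl N40607 D141438
theorem N73353 : nd 73353 = n141439 := ndS (p := 40607) (l := 6) rfl N40607 D141439
theorem N73354 : nd 73354 = n141440 := ndS (p := 40608) (l := 0) rfl N40608 D141440
theorem N73355 : nd 73355 = n141441 := ndS (p := 40608) (l := 1) rfl N40608 D141441
theorem N73356 : nd 73356 = n141443 := ndS (p := 40608) (l := 7) rfl N40608 D141443
theorem N73357 : nd 73357 = n141445 := ndS (p := 40609) (l := 3) rfl N40609 D141445
theorem N73358 : nd 73358 = n141446 := ndS (p := 40609) (l := 4) rfl N40609 D141446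
theorem N73359 : nd 73359 = n141450 := ndS (p := 40610) (l := 4) rfl N40610 D141450
theorem N73360 : nd 73360 = n141452 := ndS (p := 40610) (l := 6) rfl N40610 D141452
theorem N73361 : nd 73361 = n141457 := ndS (p := 40613) (l := 2) rfl N40613 D141457
theorem N73362 : nd 73362 = n141459 := ndS (p := 40614) (l := 1) rfl N40614 D141459
theorem N73363 : nd 73363 = n141460 := ndS (p := 40614) (l := 3) rfl N40614 D141460
theorem N73364 : nd 73364 = n141461 := ndS (p := 40614) (l := 5) rfl N40614 D141461
theorem N73365 : nd 73365 = n141462 := ndS (p := 40614) (l := 6) rfl N40614 D141462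
theorem N73366 : nd 73366 = n141463 := ndS (p := 40615) (l := 0) rfl N40615 D141463
theorem N73367 : nd 73367 = n141466 := ndS (p := 40615) (l := 7) rfl N40615 D141466
theorem N73368 : nd 73368 = n141467 := ndS (p := 40616) (l := 2) rfl N40616 D141467
theorem N73369 : nd 73369 = n141468 := ndS (p := 40616) (l := 4) rfl N40616 D141468
theorem N73370 : nd 73370 = n141469 := ndS (p := 40616) (l := 6) rfl N40616 D141469
theorem N73371 : nd 73371 = n141470 := ndS (p := 40617) (l := 3) rfl N40617 D141470
theorem N73372 : nd 73372 = n141471 := ndS (p := 40617) (l := 5) rfl N40617 D141471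
theorem N73373 : nd 73373 = n141472 := ndS (p := 40617) (l := 6) rfl N40617 D141472
theorem N73374 : nd 73374 = n141473 := ndS (p := 40618) (l := 0) rfl N40618 D141473
theorem N73375 : nd 73375 = n141475 := ndS (p := 40618) (l := 5) rfl N40618 D141475
theorem N73376 : nd 73376 = n141476 := ndS (p := 40618) (l := 7) rfl N40618 D141476
theorem N73377 : nd 73377 = n141477 := ndS (p := 40619) (l := 3) rfl N40619 D141477
theorem N73378 : nd 73378 = n141478 := ndS (p := 40619) (l := 4) rfl N40619 D141478
theorem N73379 : nd 73379 = n141479 := ndS (p := 40619) (l := 5) rfl N40619 D141479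
theorem N73380 : nd 73380 = n141480 := ndS (p := 40619) (l := 6) rfl N40619 D141480
theorem N73381 : nd 73381 = n141481 := ndS (p := 40620) (l := 3) rfl N40620 D141481
theorem N73382 : nd 73382 = n141482 := ndS (p := 40620) (l := 5) rfl N40620 D141482
theorem N73383 : nd 73383 = n141483 := ndS (p := 40620) (l := 6) rfl N40620 D141483
theorem N73384 : nd 73384 = n141484 := ndS (p := 40621) (l := 4) rfl N40621 D141484
theorem N73385 : nd 73385 = n141485 := ndS (p := 40621) (l := 6) rfl N40621 D141485
theorem N73386 : nd 73386 = n141489 := ndS (p := 40622) (l := 7) rfl N40622 D141489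
theorem N73387 : nd 73387 = n141492 := ndS (p := 40623) (l := 4) rfl N40623 D141492
theorem N73388 : nd 73388 = n141496 := ndS (p := 40624) (l := 3) rfl N40624 D141496
theorem N73389 : nd 73389 = n141498 := ndS (p := 40624) (l := 5) rfl N40624 D141498
theorem N73390 : nd 73390 = n141517 := ndS (p := 40626) (l := 0) rfl N40626 D141517
theorem N73391 : nd 73391 = n141533 := ndS (p := 40627) (l := 1) rfl N40627 D141533
theorem N73392 : nd 73392 = n141534 := ndS (p := 40627) (l := 2) rfl N40627 D141534
theorem N73393 : nd 73393 = n141537 := ndS (p := 40627) (l := 6) rfl N40627 D141537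
theorem N73394 : nd 73394 = n141538 := ndS (p := 40628) (l := 3) rfl N40628 D141538
theorem N73395 : nd 73395 = n141540 := ndS (p := 40628) (l := 6) rfl N40628 D141540
theorem N73396 : nd 73396 = n141548 := ndS (p := 40630) (l := 3) rfl N40630 D141548
theorem N73397 : nd 73397 = n141551 := ndS (p := 40630) (l := 6) rfl N40630 D141551
theorem N73398 : nd 73398 = n141563 := ndS (p := 40631) (l := 4) rfl N40631 D141563
theorem N73399 : nd 73399 = n141565 := ndS (p := 40632) (l := 0) rfl N40632 D141565
theorem N73400 : nd 73400 = n141566 := ndS (p := 40632) (l := 5) rfl N40632 D141566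
theorem N73401 : nd 73401 = n141589 := ndS (p := 40635) (l := 3) rfl N40635 D141589
theorem N73402 : nd 73402 = n141594 := ndS (p := 40636) (l := 7) rfl N40636 D141594
theorem N73403 : nd 73403 = n141598 := ndS (p := 40638) (l := 4) rfl N40638 D141598
theorem N73404 : nd 73404 = n141626 := ndS (p := 40640) (l := 4) rfl N40640 D141626
theorem N73405 : nd 73405 = n141627 := ndS (p := 40640) (l := 5) rfl N40640 D141627
theorem N73406 : nd 73406 = n141636 := ndS (p := 40641) (l := 0) rfl N40641 D141636
theorem N73407 : nd 73407 = n141688 := ndS (p := 40643) (l := 4) rfl N40643 D141688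
theorem N73408 : nd 73408 = n141690 := ndS (p := 40644) (l := 3) rfl N40644 D141690
theorem N73409 : nd 73409 = n141722 := ndS (p := 40648) (l := 5) rfl N40648 D141722
theorem N73410 : nd 73410 = n141723 := ndS (p := 40649) (l := 0) rfl N40649 D141723
theorem N73411 : nd 73411 = n141725 := ndS (p := 40649) (l := 4) rfl N40649 D141725
theorem N73412 : nd 73412 = n141726 := ndS (p := 40649) (l := 6) rfl N40649 D141726
theorem N73413 : nd 73413 = n141728 := ndS (p := 40650) (l := 5) rfl N40650 D141728
theorem N73414 : nd 73414 = n141757 := ndS (p := 40651) (l := 2) rfl N40651 D141757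
theorem N73415 : nd 73415 = n141766 := ndS (p := 40653) (l := 3) rfl N40653 D141766
theorem N73416 : nd 73416 = n141767 := ndS (p := 40653) (l := 4) rfl N40653 D141767
theorem N73417 : nd 73417 = n141771 := ndS (p := 40654) (l := 6) rfl N40654 D141771
theorem N73418 : nd 73418 = n141776 := ndS (p := 40655) (l := 0) rfl N40655 D141776
theorem N73419 : nd 73419 = n141791 := ndS (p := 40658) (l := 3) rfl N40658 D141791
theorem N73420 : nd 73420 = n141792 := ndS (p := 40658) (l := 4) rfl N40658 D141792
theorem N73421 : nd 73421 = n141796 := ndS (p := 40659) (l := 3) rfl N40659 D141796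
theorem N73422 : nd 73422 = n141797 := ndS (p := 40659) (l := 4) rfl N40659 D141797
theorem N73423 : nd 73423 = n141803 := ndS (p := 40661) (l := 4) rfl N40661 D141803
theorem N73424 : nd 73424 = n141804 := ndS (p := 40661) (l := 6) rfl N40661 D141804
theorem N73425 : nd 73425 = n141805 := ndS (p := 40662) (l := 3) rfl N40662 D141805
theorem N73426 : nd 73426 = n141807 := ndS (p := 40663) (l := 3) rfl N40663 D141807
theorem N73427 : nd 73427 = n141812 := ndS (p := 40664) (l := 7) rfl N40664 D141812
theorem N73428 : nd 73428 = n141813 := ndS (p := 40665) (l := 4) rfl N40665 D141813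
theorem N73429 : nd 73429 = n141815 := ndS (p := 40666) (l := 3) rfl N40666 D141815
theorem N73430 : nd 73430 = n141816 := ndS (p := 40666) (l := 4) rfl N40666 D141816
theorem N73431 : nd 73431 = n141818 := ndS (p := 40666) (l := 6) rfl N40666 D141818
theorem N73432 : nd 73432 = n141819 := ndS (p := 40667) (l := 5) rfl N40667 D141819
theorem N73433 : nd 73433 = n141820 := ndS (p := 40667) (l := 6) rfl N40667 D141820
theorem N73434 : nd 73434 = n141821 := ndS (p := 40668) (l := 0) rfl N40668 D141821
theorem N73435 : nd 73435 = n141822 := ndS (p := 40668) (l := 1) rfl N40668 D141822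
theorem N73436 : nd 73436 = n141823 := ndS (p := 40668) (l := 4) rfl N40668 D141823
theorem N73437 : nd 73437 = n141824 := ndS (p := 40668) (l := 6) rfl N40668 D141824
theorem N73438 : nd 73438 = n141825 := ndS (p := 40669) (l := 0) rfl N40669 D141825
theorem N73439 : nd 73439 = n141826 := ndS (p := 40669) (l := 1) rfl N40669 D141826
theorem N73440 : nd 73440 = n141827 := ndS (p := 40669) (l := 5) rfl N40669 D141827
theorem N73441 : nd 73441 = n141828 := ndS (p := 40669) (l := 7) rfl N40669 D141828
theorem N73442 : nd 73442 = n141829 := ndS (p := 40670) (l := 0) rfl N40670 D141829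
theorem N73443 : nd 73443 = n141830 := ndS (p := 40670) (l := 1) rfl N40670 D141830
theorem N73444 : nd 73444 = n141831 := ndS (p := 40670) (l := 5) rfl N40670 D141831
theorem N73445 : nd 73445 = n141832 := ndS (p := 40670) (l := 7) rfl N40670 D141832
theorem N73446 : nd 73446 = n141833 := ndS (p := 40671) (l := 3) rfl N40671 D141833
theorem N73447 : nd 73447 = n141834 := ndS (p := 40671) (l := 5) rfl N40671 D141834
theorem N73448 : nd 73448 = n141835 := ndS (p := 40672) (l := 3) rfl N40672 D141835
theorem N73449 : nd 73449 = n141836 := ndS (p := 40672) (l := 5) rfl N40672 D141836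
theorem N73450 : nd 73450 = n141837 := ndS (p := 40673) (l := 0) rfl N40673 D141837
theorem N73451 : nd 73451 = n141838 := ndS (p := 40673) (l := 1) rfl N40673 D141838
theorem N73452 : nd 73452 = n141839 := ndS (p := 40673) (l := 4) rfl N40673 D141839
theorem N73453 : nd 73453 = n141840 := ndS (p := 40673) (l := 7) rfl N40673 D141840
theorem N73454 : nd 73454 = n141841 := ndS (p := 40675) (l := 3) rfl N40675 D141841
theorem N73455 : nd 73455 = n141842 := ndS (p := 40675) (l := 5) rfl N40675 D141842
theorem N73456 : nd 73456 = n141843 := ndS (p := 40676) (l := 3) rfl N40676 D141843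
theorem N73457 : nd 73457 = n141844 := ndS (p := 40676) (l := 5) rfl N40676 D141844
theorem N73458 : nd 73458 = n141846 := ndS (p := 40677) (l := 4) rfl N40677 D141846
theorem N73459 : nd 73459 = n141847 := ndS (p := 40677) (l := 5) rfl N40677 D141847
theorem N73460 : nd 73460 = n141848 := ndS (p := 40677) (l := 6) rfl N40677 D141848
theorem N73461 : nd 73461 = n141851 := ndS (p := 40678) (l := 4) rfl N40678 D141851
theorem N73462 : nd 73462 = n141852 := ndS (p := 40678) (l := 5) rfl N40678 D141852
theorem N73463 : nd 73463 = n141855 := ndS (p := 40680) (l := 3) rfl N40680 D141855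
theorem N73464 : nd 73464 = n141856 := ndS (p := 40680) (l := 4) rfl N40680 D141856
theorem N73465 : nd 73465 = n141858 := ndS (p := 40680) (l := 6) rfl N40680 D141858
theorem N73466 : nd 73466 = n141860 := ndS (p := 40681) (l := 3) rfl N40681 D141860
theorem N73467 : nd 73467 = n141861 := ndS (p := 40681) (l := 4) rfl N40681 D141861
theorem N73468 : nd 73468 = n141864 := ndS (p := 40682) (l := 6) rfl N40682 D141864
theorem N73469 : nd 73469 = n141865 := ndS (p := 40683) (l := 0) rfl N40683 D141865
theorem N73470 : nd 73470 = n141866 := ndS (p := 40683) (l := 1) rfl N40683 D141866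
theorem N73471 : nd 73471 = n141867 := ndS (p := 40683) (l := 5) rfl N40683 D141867
theorem N73472 : nd 73472 = n141868 := ndS (p := 40684) (l := 0) rfl N40684 D141868
theorem N73473 : nd 73473 = n141869 := ndS (p := 40684) (l := 1) rfl N40684 D141869
theorem N73474 : nd 73474 = n141870 := ndS (p := 40684) (l := 4) rfl N40684 D141870
theorem N73475 : nd 73475 = n141871 := ndS (p := 40685) (l := 1) rfl N40685 D141871
theorem N73476 : nd 73476 = n141872 := ndS (p := 40685) (l := 2) rfl N40685 D141872
theorem N73477 : nd 73477 = n141873 := ndS (p := 40685) (l := 4) rfl N40685 D141873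
theorem N73478 : nd 73478 = n141879 := ndS (p := 40686) (l := 6) rfl N40686 D141879
theorem N73479 : nd 73479 = n141881 := ndS (p := 40687) (l := 1) rfl N40687 D141881
theorem N73480 : nd 73480 = n141882 := ndS (p := 40687) (l := 5) rfl N40687 D141882
theorem N73481 : nd 73481 = n141884 := ndS (p := 40688) (l := 4) rfl N40688 D141884
theorem N73482 : nd 73482 = n141885 := ndS (p := 40688) (l := 6) rfl N40688 D141885
theorem N73483 : nd 73483 = n141886 := ndS (p := 40689) (l := 0) rfl N40689 D141886
theorem N73484 : nd 73484 = n141887 := ndS (p := 40689) (l := 1) rfl N40689 D141887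
theorem N73485 : nd 73485 = n141888 := ndS (p := 40689) (l := 5) rfl N40689 D141888
theorem N73486 : nd 73486 = n141890 := ndS (p := 40690) (l := 3) rfl N40690 D141890
theorem N73487 : nd 73487 = n141891 := ndS (p := 40690) (l := 4) rfl N40690 D141891
theorem N73488 : nd 73488 = n141893 := ndS (p := 40691) (l := 3) rfl N40691 D141893
theorem N73489 : nd 73489 = n141894 := ndS (p := 40691) (l := 4) rfl N40691 D141894
theorem N73490 : nd 73490 = n141895 := ndS (p := 40691) (l := 6) rfl N40691 D141895
theorem N73491 : nd 73491 = n141896 := ndS (p := 40692) (l := 0) rfl N40692 D141896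
theorem N73492 : nd 73492 = n141897 := ndS (p := 40692) (l := 1) rfl N40692 D141897
theorem N73493 : nd 73493 = n141900 := ndS (p := 40693) (l := 0) rfl N40693 D141900
theorem N73494 : nd 73494 = n141901 := ndS (p := 40693) (l := 1) rfl N40693 D141901
theorem N73495 : nd 73495 = n141902 := ndS (p := 40693) (l := 5) rfl N40693 D141902
theorem N73496 : nd 73496 = n141905 := ndS (p := 40694) (l := 3) rfl N40694 D141905
theorem N73497 : nd 73497 = n141907 := ndS (p := 40694) (l := 5) rfl N40694 D141907
theorem N73498 : nd 73498 = n141908 := ndS (p := 40694) (l := 6) rfl N40694 D141908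
theorem N73499 : nd 73499 = n141910 := ndS (p := 40695) (l := 3) rfl N40695 D141910
theorem N73500 : nd 73500 = n141912 := ndS (p := 40695) (l := 5) rfl N40695 D141912
theorem N73501 : nd 73501 = n141913 := ndS (p := 40695) (l := 6) rfl N40695 D141913
theorem N73502 : nd 73502 = n141914 := ndS (p := 40696) (l := 0) rfl N40696 D141914
theorem N73503 : nd 73503 = n141915 := ndS (p := 40696) (l := 1) rfl N40696 D141915
theorem N73504 : nd 73504 = n141916 := ndS (p := 40696) (l := 4) rfl N40696 D141916
theorem N73505 : nd 73505 = n141917 := ndS (p := 40696) (l := 7) rfl N40696 D141917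
theorem N73506 : nd 73506 = n141920 := ndS (p := 40698) (l := 2) rfl N40698 D141920
theorem N73507 : nd 73507 = n141921 := ndS (p := 40698) (l := 4) rfl N40698 D141921
theorem N73508 : nd 73508 = n141929 := ndS (p := 40699) (l := 2) rfl N40699 D141929
theorem N73509 : nd 73509 = n141931 := ndS (p := 40699) (l := 6) rfl N40699 D141931
theorem N73510 : nd 73510 = n141937 := ndS (p := 40701) (l := 3) rfl N40701 D141937
theorem N73511 : nd 73511 = n141938 := ndS (p := 40701) (l := 4) rfl N40701 D141938
theorem N73512 : nd 73512 = n141939 := ndS (p := 40701) (l := 5) rfl N40701 D141939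
theorem N73513 : nd 73513 = n141940 := ndS (p := 40701) (l := 6) rfl N40701 D141940
theorem N73514 : nd 73514 = n141942 := ndS (p := 40702) (l := 3) rfl N40702 D141942
theorem N73515 : nd 73515 = n141943 := ndS (p := 40702) (l := 4) rfl N40702 D141943
theorem N73516 : nd 73516 = n141944 := ndS (p := 40702) (l := 5) rfl N40702 D141944
theorem N73517 : nd 73517 = n141945 := ndS (p := 40702) (l := 6) rfl N40702 D141945
theorem N73518 : nd 73518 = n141946 := ndS (p := 40703) (l := 0) rfl N40703 D141946
theorem N73519 : nd 73519 = n141947 := ndS (p := 40703) (l := 1) rfl N40703 D141947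
theorem N73520 : nd 73520 = n141948 := ndS (p := 40703) (l := 4) rfl N40703 D141948
theorem N73521 : nd 73521 = n141949 := ndS (p := 40703) (l := 7) rfl N40703 D141949
theorem N73522 : nd 73522 = n141950 := ndS (p := 40705) (l := 0) rfl N40705 D141950
theorem N73523 : nd 73523 = n141952 := ndS (p := 40705) (l := 2) rfl N40705 D141952
theorem N73524 : nd 73524 = n141953 := ndS (p := 40705) (l := 5) rfl N40705 D141953
theorem N73525 : nd 73525 = n141954 := ndS (p := 40705) (l := 6) rfl N40705 D141954
theorem N73526 : nd 73526 = n141955 := ndS (p := 40706) (l := 6) rfl N40706 D141955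
theorem N73527 : nd 73527 = n141957 := ndS (p := 40707) (l := 4) rfl N40707 D141957
theorem N73528 : nd 73528 = n141958 := ndS (p := 40707) (l := 6) rfl N40707 D141958
theorem N73529 : nd 73529 = n141960 := ndS (p := 40709) (l := 1) rfl N40709 D141960
theorem N73530 : nd 73530 = n141961 := ndS (p := 40709) (l := 2) rfl N40709 D141961
theorem N73531 : nd 73531 = n141962 := ndS (p := 40709) (l := 5) rfl N40709 D141962
theorem N73532 : nd 73532 = n141963 := ndS (p := 40709) (l := 6) rfl N40709 D141963
theorem N73533 : nd 73533 = n141964 := ndS (p := 40711) (l := 4) rfl N40711 D141964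
theorem N73534 : nd 73534 = n141965 := ndS (p := 40711) (l := 6) rfl N40711 D141965
theorem N73535 : nd 73535 = n141967 := ndS (p := 40713) (l := 3) rfl N40713 D141967
theorem N73536 : nd 73536 = n141968 := ndS (p := 40713) (l := 4) rfl N40713 D141968
theorem N73537 : nd 73537 = n141970 := ndS (p := 40714) (l := 3) rfl N40714 D141970
theorem N73538 : nd 73538 = n141971 := ndS (p := 40714) (l := 4) rfl N40714 D141971
theorem N73539 : nd 73539 = n141972 := ndS (p := 40714) (l := 6) rfl N40714 D141972
theorem N73540 : nd 73540 = n141973 := ndS (p := 40715) (l := 0) rfl N40715 D141973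
theorem N73541 : nd 73541 = n141974 := ndS (p := 40715) (l := 1) rfl N40715 D141974
theorem N73542 : nd 73542 = n141975 := ndS (p := 40715) (l := 3) rfl N40715 D141975
theorem N73543 : nd 73543 = n141976 := ndS (p := 40715) (l := 5) rfl N40715 D141976
theorem N73544 : nd 73544 = n141977 := ndS (p := 40715) (l := 7) rfl N40715 D141977
theorem N73545 : nd 73545 = n141978 := ndS (p := 40716) (l := 6) rfl N40716 D141978
theorem N73546 : nd 73546 = n141979 := ndS (p := 40717) (l := 3) rfl N40717 D141979
theorem N73547 : nd 73547 = n141980 := ndS (p := 40717) (l := 5) rfl N40717 D141980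
theorem N73548 : nd 73548 = n141981 := ndS (p := 40718) (l := 0) rfl N40718 D141981
theorem N73549 : nd 73549 = n141983 := ndS (p := 40718) (l := 2) rfl N40718 D141983
theorem N73550 : nd 73550 = n141984 := ndS (p := 40718) (l := 5) rfl N40718 D141984
theorem N73551 : nd 73551 = n141985 := ndS (p := 40718) (l := 6) rfl N40718 D141985
theorem N73552 : nd 73552 = n141986 := ndS (p := 40719) (l := 0) rfl N40719 D141986
theorem N73553 : nd 73553 = n141987 := ndS (p := 40719) (l := 1) rfl N40719 D141987
theorem N73554 : nd 73554 = n141988 := ndS (p := 40719) (l := 4) rfl N40719 D141988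
theorem N73555 : nd 73555 = n141989 := ndS (p := 40719) (l := 6) rfl N40719 D141989
theorem N73556 : nd 73556 = n141990 := ndS (p := 40720) (l := 1) rfl N40720 D141990
theorem N73557 : nd 73557 = n141991 := ndS (p := 40720) (l := 5) rfl N40720 D141991
theorem N73558 : nd 73558 = n141993 := ndS (p := 40721) (l := 1) rfl N40721 D141993
theorem N73559 : nd 73559 = n141994 := ndS (p := 40721) (l := 2) rfl N40721 D141994
theorem N73560 : nd 73560 = n141995 := ndS (p := 40721) (l := 5) rfl N40721 D141995
theorem N73561 : nd 73561 = n141996 := ndS (p := 40721) (l := 6) rfl N40721 D141996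
theorem N73562 : nd 73562 = n141997 := ndS (p := 40722) (l := 4) rfl N40722 D141997
theorem N73563 : nd 73563 = n142000 := ndS (p := 40724) (l := 4) rfl N40724 D142000
theorem N73564 : nd 73564 = n142001 := ndS (p := 40725) (l := 5) rfl N40725 D142001
theorem N73565 : nd 73565 = n142002 := ndS (p := 40725) (l := 6) rfl N40725 D142002
theorem N73566 : nd 73566 = n142008 := ndS (p := 40727) (l := 3) rfl N40727 D142008
theorem N73567 : nd 73567 = n142009 := ndS (p := 40727) (l := 5) rfl N40727 D142009
theorem N73568 : nd 73568 = n142010 := ndS (p := 40727) (l := 6) rfl N40727 D142010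
theorem N73569 : nd 73569 = n142011 := ndS (p := 40728) (l := 5) rfl N40728 D142011
theorem N73570 : nd 73570 = n142012 := ndS (p := 40728) (l := 6) rfl N40728 D142012
theorem N73571 : nd 73571 = n142013 := ndS (p := 40729) (l := 1) rfl N40729 D142013
theorem N73572 : nd 73572 = n142039 := ndS (p := 40732) (l := 6) rfl N40732 D142039
theorem N73573 : nd 73573 = n142040 := ndS (p := 40733) (l := 0) rfl N40733 D142040
theorem N73574 : nd 73574 = n142041 := ndS (p := 40733) (l := 1) rfl N40733 D142041
theorem N73575 : nd 73575 = n142042 := ndS (p := 40733) (l := 5) rfl N40733 D142042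
theorem N73576 : nd 73576 = n142053 := ndS (p := 40734) (l := 6) rfl N40734 D142053
theorem N73577 : nd 73577 = n142055 := ndS (p := 40735) (l := 1) rfl N40735 D142055
theorem N73578 : nd 73578 = n142058 := ndS (p := 40736) (l := 3) rfl N40736 D142058
theorem N73579 : nd 73579 = n142067 := ndS (p := 40738) (l := 4) rfl N40738 D142067
theorem N73580 : nd 73580 = n142070 := ndS (p := 40739) (l := 3) rfl N40739 D142070
theorem N73581 : nd 73581 = n142071 := ndS (p := 40739) (l := 4) rfl N40739 D142071
theorem N73582 : nd 73582 = n142078 := ndS (p := 40740) (l := 2) rfl N40740 D142078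
theorem N73583 : nd 73583 = n142079 := ndS (p := 40740) (l := 6) rfl N40740 D142079
theorem N73584 : nd 73584 = n142080 := ndS (p := 40741) (l := 0) rfl N40741 D142080
theorem N73585 : nd 73585 = n142081 := ndS (p := 40741) (l := 1) rfl N40741 D142081
theorem N73586 : nd 73586 = n142082 := ndS (p := 40741) (l := 3) rfl N40741 D142082
theorem N73587 : nd 73587 = n142083 := ndS (p := 40741) (l := 5) rfl N40741 D142083
theorem N73588 : nd 73588 = n142084 := ndS (p := 40741) (l := 6) rfl N40741 D142084
theorem N73589 : nd 73589 = n142085 := ndS (p := 40742) (l := 0) rfl N40742 D142085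
theorem N73590 : nd 73590 = n142087 := ndS (p := 40742) (l := 5) rfl N40742 D142087
theorem N73591 : nd 73591 = n142090 := ndS (p := 40744) (l := 3) rfl N40744 D142090
theorem N73592 : nd 73592 = n142091 := ndS (p := 40744) (l := 5) rfl N40744 D142091
theorem N73593 : nd 73593 = n142097 := ndS (p := 40745) (l := 3) rfl N40745 D142097
theorem N73594 : nd 73594 = n142098 := ndS (p := 40745) (l := 5) rfl N40745 D142098
theorem N73595 : nd 73595 = n142099 := ndS (p := 40745) (l := 6) rfl N40745 D142099
theorem N73596 : nd 73596 = n142115 := ndS (p := 40749) (l := 3) rfl N40749 D142115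
theorem N73597 : nd 73597 = n142116 := ndS (p := 40749) (l := 4) rfl N40749 D142116
theorem N73598 : nd 73598 = n142118 := ndS (p := 40749) (l := 6) rfl N40749 D142118
theorem N73599 : nd 73599 = n142131 := ndS (p := 40750) (l := 2) rfl N40750 D142131
theorem N73600 : nd 73600 = n142132 := ndS (p := 40750) (l := 4) rfl N40750 D142132
theorem N73601 : nd 73601 = n142134 := ndS (p := 40750) (l := 6) rfl N40750 D142134
theorem N73602 : nd 73602 = n142136 := ndS (p := 40751) (l := 0) rfl N40751 D142136
theorem N73603 : nd 73603 = n142138 := ndS (p := 40751) (l := 3) rfl N40751 D142138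
theorem N73604 : nd 73604 = n142139 := ndS (p := 40751) (l := 5) rfl N40751 D142139
theorem N73605 : nd 73605 = n142140 := ndS (p := 40751) (l := 6) rfl N40751 D142140
theorem N73606 : nd 73606 = n142155 := ndS (p := 40754) (l := 5) rfl N40754 D142155
theorem N73607 : nd 73607 = n142156 := ndS (p := 40754) (l := 6) rfl N40754 D142156
theorem N73608 : nd 73608 = n142158 := ndS (p := 40755) (l := 5) rfl N40755 D142158
theorem N73609 : nd 73609 = n142159 := ndS (p := 40755) (l := 6) rfl N40755 D142159
theorem N73610 : nd 73610 = n142164 := ndS (p := 40757) (l := 5) rfl N40757 D142164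
theorem N73611 : nd 73611 = n142249 := ndS (p := 40759) (l := 4) rfl N40759 D142249
theorem N73612 : nd 73612 = n142252 := ndS (p := 40760) (l := 1) rfl N40760 D142252
theorem N73613 : nd 73613 = n142253 := ndS (p := 40760) (l := 5) rfl N40760 D142253
theorem N73614 : nd 73614 = n142308 := ndS (p := 40762) (l := 6) rfl N40762 D142308
theorem N73615 : nd 73615 = n142314 := ndS (p := 40763) (l := 1) rfl N40763 D142314
theorem N73616 : nd 73616 = n142325 := ndS (p := 40764) (l := 5) rfl N40764 D142325
theorem N73617 : nd 73617 = n142326 := ndS (p := 40765) (l := 0) rfl N40765 D142326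
theorem N73618 : nd 73618 = n142329 := ndS (p := 40765) (l := 6) rfl N40765 D142329
theorem N73619 : nd 73619 = n142350 := ndS (p := 40766) (l := 5) rfl N40766 D142350
theorem N73620 : nd 73620 = n142352 := ndS (p := 40767) (l := 6) rfl N40767 D142352
theorem N73621 : nd 73621 = n142355 := ndS (p := 40768) (l := 5) rfl N40768 D142355
theorem N73622 : nd 73622 = n142357 := ndS (p := 40769) (l := 3) rfl N40769 D142357
theorem N73623 : nd 73623 = n142359 := ndS (p := 40769) (l := 6) rfl N40769 D142359
theorem N73624 : nd 73624 = n142360 := ndS (p := 40770) (l := 5) rfl N40770 D142360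
theorem N73625 : nd 73625 = n142361 := ndS (p := 40770) (l := 6) rfl N40770 D142361
theorem N73626 : nd 73626 = n142362 := ndS (p := 40771) (l := 2) rfl N40771 D142362
theorem N73627 : nd 73627 = n142363 := ndS (p := 40771) (l := 5) rfl N40771 D142363
theorem N73628 : nd 73628 = n142364 := ndS (p := 40771) (l := 6) rfl N40771 D142364
theorem N73629 : nd 73629 = n142365 := ndS (p := 40772) (l := 0) rfl N40772 D142365
theorem N73630 : nd 73630 = n142366 := ndS (p := 40772) (l := 1) rfl N40772 D142366
theorem N73631 : nd 73631 = n142367 := ndS (p := 40772) (l := 4) rfl N40772 D142367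
theorem N73632 : nd 73632 = n142368 := ndS (p := 40772) (l := 6) rfl N40772 D142368
theorem N73633 : nd 73633 = n142369 := ndS (p := 40773) (l := 0) rfl N40773 D142369
theorem N73634 : nd 73634 = n142370 := ndS (p := 40773) (l := 1) rfl N40773 D142370
theorem N73635 : nd 73635 = n142371 := ndS (p := 40773) (l := 5) rfl N40773 D142371
theorem N73636 : nd 73636 = n142374 := ndS (p := 40774) (l := 1) rfl N40774 D142374
theorem N73637 : nd 73637 = n142375 := ndS (p := 40774) (l := 3) rfl N40774 D142375
theorem N73638 : nd 73638 = n142377 := ndS (p := 40774) (l := 6) rfl N40774 D142377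
theorem N73639 : nd 73639 = n142384 := ndS (p := 40776) (l := 4) rfl N40776 D142384
theorem N73640 : nd 73640 = n142386 := ndS (p := 40776) (l := 6) rfl N40776 D142386
theorem N73641 : nd 73641 = n142394 := ndS (p := 40777) (l := 4) rfl N40777 D142394
theorem N73642 : nd 73642 = n142405 := ndS (p := 40778) (l := 5) rfl N40778 D142405
theorem N73643 : nd 73643 = n142407 := ndS (p := 40779) (l := 4) rfl N40779 D142407
theorem N73644 : nd 73644 = n142408 := ndS (p := 40779) (l := 6) rfl N40779 D142408
theorem N73645 : nd 73645 = n142415 := ndS (p := 40780) (l := 6) rfl N40780 D142415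
theorem N73646 : nd 73646 = n142434 := ndS (p := 40782) (l := 5) rfl N40782 D142434
theorem N73647 : nd 73647 = n142435 := ndS (p := 40782) (l := 6) rfl N40782 D142435
theorem N73648 : nd 73648 = n142436 := ndS (p := 40783) (l := 4) rfl N40783 D142436
theorem N73649 : nd 73649 = n142437 := ndS (p := 40783) (l := 6) rfl N40783 D142437
theorem N73650 : nd 73650 = n142438 := ndS (p := 40784) (l := 0) rfl N40784 D142438
theorem N73651 : nd 73651 = n142439 := ndS (p := 40784) (l := 1) rfl N40784 D142439
theorem N73652 : nd 73652 = n142440 := ndS (p := 40784) (l := 5) rfl N40784 D142440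
theorem N73653 : nd 73653 = n142441 := ndS (p := 40784) (l := 7) rfl N40784 D142441
theorem N73654 : nd 73654 = n142442 := ndS (p := 40785) (l := 3) rfl N40785 D142442
theorem N73655 : nd 73655 = n142443 := ndS (p := 40785) (l := 5) rfl N40785 D142443
theorem N73656 : nd 73656 = n142444 := ndS (p := 40785) (l := 6) rfl N40785 D142444
theorem N73657 : nd 73657 = n142446 := ndS (p := 40786) (l := 1) rfl N40786 D142446
theorem N73658 : nd 73658 = n142455 := ndS (p := 40787) (l := 4) rfl N40787 D142455
theorem N73659 : nd 73659 = n142457 := ndS (p := 40787) (l := 6) rfl N40787 D142457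
theorem N73660 : nd 73660 = n142459 := ndS (p := 40788) (l := 1) rfl N40788 D142459
theorem N73661 : nd 73661 = n142460 := ndS (p := 40788) (l := 4) rfl N40788 D142460
theorem N73662 : nd 73662 = n142462 := ndS (p := 40790) (l := 6) rfl N40790 D142462
theorem N73663 : nd 73663 = n142463 := ndS (p := 40791) (l := 4) rfl N40791 D142463
theorem N73664 : nd 73664 = n142467 := ndS (p := 40792) (l := 5) rfl N40792 D142467
theorem N73665 : nd 73665 = n142469 := ndS (p := 40793) (l := 0) rfl N40793 D142469
theorem N73666 : nd 73666 = n142470 := ndS (p := 40793) (l := 1) rfl N40793 D142470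
theorem N73667 : nd 73667 = n142473 := ndS (p := 40794) (l := 4) rfl N40794 D142473
theorem N73668 : nd 73668 = n142474 := ndS (p := 40794) (l := 6) rfl N40794 D142474
theorem N73669 : nd 73669 = n142479 := ndS (p := 40795) (l := 3) rfl N40795 D142479
theorem N73670 : nd 73670 = n142480 := ndS (p := 40795) (l := 4) rfl N40795 D142480
theorem N73671 : nd 73671 = n142481 := ndS (p := 40795) (l := 6) rfl N40795 D142481
theorem N73672 : nd 73672 = n142482 := ndS (p := 40796) (l := 3) rfl N40796 D142482
theorem N73673 : nd 73673 = n142483 := ndS (p := 40796) (l := 4) rfl N40796 D142483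
theorem N73674 : nd 73674 = n142484 := ndS (p := 40796) (l := 6) rfl N40796 D142484
theorem N73675 : nd 73675 = n142485 := ndS (p := 40797) (l := 0) rfl N40797 D142485
theorem N73676 : nd 73676 = n142486 := ndS (p := 40797) (l := 1) rfl N40797 D142486
theorem N73677 : nd 73677 = n142487 := ndS (p := 40797) (l := 3) rfl N40797 D142487
theorem N73678 : nd 73678 = n142488 := ndS (p := 40797) (l := 5) rfl N40797 D142488
theorem N73679 : nd 73679 = n142489 := ndS (p := 40797) (l := 6) rfl N40797 D142489
theorem N73680 : nd 73680 = n142490 := ndS (p := 40798) (l := 0) rfl N40798 D142490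
theorem N73681 : nd 73681 = n142491 := ndS (p := 40798) (l := 1) rfl N40798 D142491
theorem N73682 : nd 73682 = n142492 := ndS (p := 40798) (l := 5) rfl N40798 D142492
theorem N73683 : nd 73683 = n142493 := ndS (p := 40798) (l := 7) rfl N40798 D142493
theorem N73684 : nd 73684 = n142495 := ndS (p := 40799) (l := 3) rfl N40799 D142495
theorem N73685 : nd 73685 = n142496 := ndS (p := 40799) (l := 4) rfl N40799 D142496
theorem N73686 : nd 73686 = n142497 := ndS (p := 40799) (l := 5) rfl N40799 D142497
theorem N73687 : nd 73687 = n142501 := ndS (p := 40800) (l := 4) rfl N40800 D142501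
theorem N73688 : nd 73688 = n142502 := ndS (p := 40800) (l := 5) rfl N40800 D142502
theorem N73689 : nd 73689 = n142503 := ndS (p := 40800) (l := 6) rfl N40800 D142503
theorem N73690 : nd 73690 = n142506 := ndS (p := 40801) (l := 4) rfl N40801 D142506
theorem N73691 : nd 73691 = n142507 := ndS (p := 40801) (l := 7) rfl N40801 D142507
theorem N73692 : nd 73692 = n142508 := ndS (p := 40803) (l := 6) rfl N40803 D142508
theorem N73693 : nd 73693 = n142509 := ndS (p := 40804) (l := 0) rfl N40804 D142509
theorem N73694 : nd 73694 = n142511 := ndS (p := 40804) (l := 3) rfl N40804 D142511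
theorem N73695 : nd 73695 = n142516 := ndS (p := 40805) (l := 5) rfl N40805 D142516
theorem N73696 : nd 73696 = n142520 := ndS (p := 40806) (l := 5) rfl N40806 D142520
theorem N73697 : nd 73697 = n142521 := ndS (p := 40806) (l := 6) rfl N40806 D142521
theorem N73698 : nd 73698 = n142528 := ndS (p := 40809) (l := 3) rfl N40809 D142528
theorem N73699 : nd 73699 = n142529 := ndS (p := 40809) (l := 6) rfl N40809 D142529
theorem N73700 : nd 73700 = n142530 := ndS (p := 40810) (l := 0) rfl N40810 D142530
theorem N73701 : nd 73701 = n142531 := ndS (p := 40810) (l := 1) rfl N40810 D142531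
theorem N73702 : nd 73702 = n142533 := ndS (p := 40811) (l := 0) rfl N40811 D142533
theorem N73703 : nd 73703 = n142536 := ndS (p := 40811) (l := 7) rfl N40811 D142536
theorem N73704 : nd 73704 = n142538 := ndS (p := 40812) (l := 3) rfl N40812 D142538
theorem N73705 : nd 73705 = n142565 := ndS (p := 40816) (l := 3) rfl N40816 D142565
theorem N73706 : nd 73706 = n142585 := ndS (p := 40817) (l := 3) rfl N40817 D142585
theorem N73707 : nd 73707 = n142587 := ndS (p := 40817) (l := 6) rfl N40817 D142587
theorem N73708 : nd 73708 = n142603 := ndS (p := 40821) (l := 6) rfl N40821 D142603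
theorem N73709 : nd 73709 = n142604 := ndS (p := 40822) (l := 0) rfl N40822 D142604
theorem N73710 : nd 73710 = n142605 := ndS (p := 40822) (l := 1) rfl N40822 D142605
theorem N73711 : nd 73711 = n142607 := ndS (p := 40822) (l := 5) rfl N40822 D142607
theorem N73712 : nd 73712 = n142610 := ndS (p := 40824) (l := 0) rfl N40824 D142610
theorem N73713 : nd 73713 = n142611 := ndS (p := 40824) (l := 6) rfl N40824 D142611
theorem N73714 : nd 73714 = n142621 := ndS (p := 40826) (l := 4) rfl N40826 D142621
theorem N73715 : nd 73715 = n142625 := ndS (p := 40828) (l := 0) rfl N40828 D142625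
theorem N73716 : nd 73716 = n142627 := ndS (p := 40828) (l := 5) rfl N40828 D142627
theorem N73717 : nd 73717 = n142628 := ndS (p := 40828) (l := 7) rfl N40828 D142628
theorem N73718 : nd 73718 = n142631 := ndS (p := 40830) (l := 3) rfl N40830 D142631
theorem N73719 : nd 73719 = n142636 := ndS (p := 40831) (l := 7) rfl N40831 D142636
theorem N73720 : nd 73720 = n142648 := ndS (p := 40833) (l := 2) rfl N40833 D142648
theorem N73721 : nd 73721 = n142649 := ndS (p := 40833) (l := 4) rfl N40833 D142649
theorem N73722 : nd 73722 = n142650 := ndS (p := 40833) (l := 5) rfl N40833 D142650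
theorem N73723 : nd 73723 = n142664 := ndS (p := 40835) (l := 4) rfl N40835 D142664
theorem N73724 : nd 73724 = n142670 := ndS (p := 40836) (l := 2) rfl N40836 D142670
theorem N73725 : nd 73725 = n142671 := ndS (p := 40836) (l := 4) rfl N40836 D142671
theorem N73726 : nd 73726 = n142696 := ndS (p := 40843) (l := 3) rfl N40843 D142696
theorem N73727 : nd 73727 = n142697 := ndS (p := 40843) (l := 5) rfl N40843 D142697
theorem N73728 : nd 73728 = n142698 := ndS (p := 40843) (l := 6) rfl N40843 D142698
theorem N73729 : nd 73729 = n142700 := ndS (p := 40844) (l := 6) rfl N40844 D142700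
theorem N73730 : nd 73730 = n142701 := ndS (p := 40845) (l := 1) rfl N40845 D142701
theorem N73731 : nd 73731 = n142702 := ndS (p := 40845) (l := 2) rfl N40845 D142702
theorem N73732 : nd 73732 = n142703 := ndS (p := 40845) (l := 5) rfl N40845 D142703
theorem N73733 : nd 73733 = n142705 := ndS (p := 40846) (l := 6) rfl N40846 D142705
theorem N73734 : nd 73734 = n142713 := ndS (p := 40847) (l := 5) rfl N40847 D142713
theorem N73735 : nd 73735 = n142714 := ndS (p := 40847) (l := 6) rfl N40847 D142714
theorem N73736 : nd 73736 = n142733 := ndS (p := 40849) (l := 5) rfl N40849 D142733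
theorem N73737 : nd 73737 = n142735 := ndS (p := 40850) (l := 6) rfl N40850 D142735
theorem N73738 : nd 73738 = n142736 := ndS (p := 40851) (l := 3) rfl N40851 D142736
theorem N73739 : nd 73739 = n142737 := ndS (p := 40851) (l := 5) rfl N40851 D142737
theorem N73740 : nd 73740 = n142738 := ndS (p := 40851) (l := 6) rfl N40851 D142738
theorem N73741 : nd 73741 = n142739 := ndS (p := 40852) (l := 4) rfl N40852 D142739
theorem N73742 : nd 73742 = n142740 := ndS (p := 40852) (l := 6) rfl N40852 D142740
theorem N73743 : nd 73743 = n142741 := ndS (p := 40853) (l := 0) rfl N40853 D142741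
theorem N73744 : nd 73744 = n142745 := ndS (p := 40854) (l := 6) rfl N40854 D142745
theorem N73745 : nd 73745 = n142746 := ndS (p := 40855) (l := 6) rfl N40855 D142746
theorem N73746 : nd 73746 = n142747 := ndS (p := 40856) (l := 0) rfl N40856 D142747
theorem N73747 : nd 73747 = n142748 := ndS (p := 40856) (l := 1) rfl N40856 D142748
theorem N73748 : nd 73748 = n142749 := ndS (p := 40856) (l := 5) rfl N40856 D142749
theorem N73749 : nd 73749 = n142752 := ndS (p := 40857) (l := 5) rfl N40857 D142752
theorem N73750 : nd 73750 = n142765 := ndS (p := 40859) (l := 4) rfl N40859 D142765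
theorem N73751 : nd 73751 = n142767 := ndS (p := 40859) (l := 6) rfl N40859 D142767
theorem N73752 : nd 73752 = n142772 := ndS (p := 40860) (l := 0) rfl N40860 D142772
theorem N73753 : nd 73753 = n142773 := ndS (p := 40860) (l := 1) rfl N40860 D142773
theorem N73754 : nd 73754 = n142774 := ndS (p := 40860) (l := 5) rfl N40860 D142774
theorem N73755 : nd 73755 = n142776 := ndS (p := 40861) (l := 3) rfl N40861 D142776
theorem N73756 : nd 73756 = n142777 := ndS (p := 40861) (l := 5) rfl N40861 D142777
theorem N73757 : nd 73757 = n142789 := ndS (p := 40862) (l := 4) rfl N40862 D142789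
theorem N73758 : nd 73758 = n142801 := ndS (p := 40864) (l := 0) rfl N40864 D142801
theorem N73759 : nd 73759 = n142802 := ndS (p := 40864) (l := 2) rfl N40864 D142802
theorem N73760 : nd 73760 = n142803 := ndS (p := 40864) (l := 6) rfl N40864 D142803
theorem N73761 : nd 73761 = n142806 := ndS (p := 40865) (l := 5) rfl N40865 D142806
theorem N73762 : nd 73762 = n142809 := ndS (p := 40866) (l := 3) rfl N40866 D142809
theorem N73763 : nd 73763 = n142811 := ndS (p := 40866) (l := 5) rfl N40866 D142811
theorem N73764 : nd 73764 = n142812 := ndS (p := 40866) (l := 6) rfl N40866 D142812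
theorem N73765 : nd 73765 = n142814 := ndS (p := 40867) (l := 3) rfl N40867 D142814
theorem N73766 : nd 73766 = n142816 := ndS (p := 40867) (l := 5) rfl N40867 D142816
theorem N73767 : nd 73767 = n142817 := ndS (p := 40867) (l := 6) rfl N40867 D142817
theorem N73768 : nd 73768 = n142818 := ndS (p := 40868) (l := 0) rfl N40868 D142818
theorem N73769 : nd 73769 = n142819 := ndS (p := 40868) (l := 1) rfl N40868 D142819
theorem N73770 : nd 73770 = n142821 := ndS (p := 40868) (l := 7) rfl N40868 D142821
theorem N73771 : nd 73771 = n142823 := ndS (p := 40871) (l := 0) rfl N40871 D142823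
theorem N73772 : nd 73772 = n142827 := ndS (p := 40871) (l := 6) rfl N40871 D142827
theorem N73773 : nd 73773 = n142828 := ndS (p := 40872) (l := 0) rfl N40872 D142828
theorem N73774 : nd 73774 = n142831 := ndS (p := 40872) (l := 7) rfl N40872 D142831
theorem N73775 : nd 73775 = n142832 := ndS (p := 40873) (l := 2) rfl N40873 D142832
theorem N73776 : nd 73776 = n142833 := ndS (p := 40873) (l := 4) rfl N40873 D142833
theorem N73777 : nd 73777 = n142834 := ndS (p := 40873) (l := 6) rfl N40873 D142834
theorem N73778 : nd 73778 = n142835 := ndS (p := 40874) (l := 3) rfl N40874 D142835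
theorem N73779 : nd 73779 = n142836 := ndS (p := 40874) (l := 5) rfl N40874 D142836
theorem N73780 : nd 73780 = n142842 := ndS (p := 40876) (l := 3) rfl N40876 D142842
theorem N73781 : nd 73781 = n142843 := ndS (p := 40876) (l := 5) rfl N40876 D142843
theorem N73782 : nd 73782 = n142848 := ndS (p := 40878) (l := 0) rfl N40878 D142848
theorem N73783 : nd 73783 = n142849 := ndS (p := 40878) (l := 1) rfl N40878 D142849
theorem N73784 : nd 73784 = n142851 := ndS (p := 40878) (l := 6) rfl N40878 D142851
theorem N73785 : nd 73785 = n142852 := ndS (p := 40879) (l := 0) rfl N40879 D142852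
theorem N73786 : nd 73786 = n142853 := ndS (p := 40879) (l := 1) rfl N40879 D142853
theorem N73787 : nd 73787 = n142854 := ndS (p := 40879) (l := 5) rfl N40879 D142854
theorem N73788 : nd 73788 = n142880 := ndS (p := 40880) (l := 6) rfl N40880 D142880
theorem N73789 : nd 73789 = n142882 := ndS (p := 40881) (l := 0) rfl N40881 D142882
theorem N73790 : nd 73790 = n142884 := ndS (p := 40881) (l := 3) rfl N40881 D142884
theorem N73791 : nd 73791 = n142896 := ndS (p := 40882) (l := 7) rfl N40882 D142896
theorem N73792 : nd 73792 = n142900 := ndS (p := 40883) (l := 2) rfl N40883 D142900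
theorem N73793 : nd 73793 = n142901 := ndS (p := 40883) (l := 4) rfl N40883 D142901
theorem N73794 : nd 73794 = n142906 := ndS (p := 40884) (l := 6) rfl N40884 D142906
theorem N73795 : nd 73795 = n142986 := ndS (p := 40887) (l := 6) rfl N40887 D142986
theorem N73796 : nd 73796 = n142992 := ndS (p := 40890) (l := 5) rfl N40890 D142992
theorem N73797 : nd 73797 = n142994 := ndS (p := 40891) (l := 4) rfl N40891 D142994
theorem N73798 : nd 73798 = n142995 := ndS (p := 40891) (l := 6) rfl N40891 D142995
theorem N73799 : nd 73799 = n142996 := ndS (p := 40892) (l := 0) rfl N40892 D142996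
theorem N73800 : nd 73800 = n142997 := ndS (p := 40892) (l := 1) rfl N40892 D142997
theorem N73801 : nd 73801 = n142998 := ndS (p := 40892) (l := 5) rfl N40892 D142998
theorem N73802 : nd 73802 = n143000 := ndS (p := 40893) (l := 0) rfl N40893 D143000
theorem N73803 : nd 73803 = n143019 := ndS (p := 40896) (l := 5) rfl N40896 D143019
theorem N73804 : nd 73804 = n143021 := ndS (p := 40897) (l := 4) rfl N40897 D143021
theorem N73805 : nd 73805 = n143022 := ndS (p := 40897) (l := 6) rfl N40897 D143022
theorem N73806 : nd 73806 = n143027 := ndS (p := 40898) (l := 6) rfl N40898 D143027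
theorem N73807 : nd 73807 = n143031 := ndS (p := 40899) (l := 7) rfl N40899 D143031
theorem N73808 : nd 73808 = n143033 := ndS (p := 40900) (l := 6) rfl N40900 D143033
theorem N73809 : nd 73809 = n143034 := ndS (p := 40901) (l := 4) rfl N40901 D143034
theorem N73810 : nd 73810 = n143037 := ndS (p := 40902) (l := 1) rfl N40902 D143037
theorem N73811 : nd 73811 = n143038 := ndS (p := 40902) (l := 5) rfl N40902 D143038
theorem N73812 : nd 73812 = n143039 := ndS (p := 40902) (l := 7) rfl N40902 D143039
theorem N73813 : nd 73813 = n143040 := ndS (p := 40903) (l := 4) rfl N40903 D143040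
theorem N73814 : nd 73814 = n143041 := ndS (p := 40903) (l := 6) rfl N40903 D143041
theorem N73815 : nd 73815 = n143042 := ndS (p := 40904) (l := 6) rfl N40904 D143042
theorem N73816 : nd 73816 = n143044 := ndS (p := 40905) (l := 1) rfl N40905 D143044
theorem N73817 : nd 73817 = n143046 := ndS (p := 40905) (l := 7) rfl N40905 D143046
theorem N73818 : nd 73818 = n143050 := ndS (p := 40907) (l := 4) rfl N40907 D143050
theorem N73819 : nd 73819 = n143055 := ndS (p := 40908) (l := 4) rfl N40908 D143055
theorem N73820 : nd 73820 = n143058 := ndS (p := 40909) (l := 0) rfl N40909 D143058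
theorem N73821 : nd 73821 = n143059 := ndS (p := 40909) (l := 1) rfl N40909 D143059
theorem N73822 : nd 73822 = n143060 := ndS (p := 40909) (l := 4) rfl N40909 D143060
theorem N73823 : nd 73823 = n143061 := ndS (p := 40909) (l := 7) rfl N40909 D143061
theorem N73824 : nd 73824 = n143066 := ndS (p := 40912) (l := 5) rfl N40912 D143066
theorem N73825 : nd 73825 = n143068 := ndS (p := 40913) (l := 4) rfl N40913 D143068
theorem N73826 : nd 73826 = n143069 := ndS (p := 40913) (l := 6) rfl N40913 D143069
theorem N73827 : nd 73827 = n143074 := ndS (p := 40915) (l := 4) rfl N40915 D143074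
theorem N73828 : nd 73828 = n143075 := ndS (p := 40915) (l := 6) rfl N40915 D143075
theorem N73829 : nd 73829 = n143080 := ndS (p := 40916) (l := 5) rfl N40916 D143080
theorem N73830 : nd 73830 = n143082 := ndS (p := 40917) (l := 5) rfl N40917 D143082
theorem N73831 : nd 73831 = n143083 := ndS (p := 40917) (l := 6) rfl N40917 D143083
theorem N73832 : nd 73832 = n143089 := ndS (p := 40919) (l := 1) rfl N40919 D143089
theorem N73833 : nd 73833 = n143090 := ndS (p := 40919) (l := 5) rfl N40919 D143090
theorem N73834 : nd 73834 = n143091 := ndS (p := 40919) (l := 7) rfl N40919 D143091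
theorem N73835 : nd 73835 = n143092 := ndS (p := 40920) (l := 6) rfl N40920 D143092
theorem N73836 : nd 73836 = n143093 := ndS (p := 40921) (l := 3) rfl N40921 D143093
theorem N73837 : nd 73837 = n143094 := ndS (p := 40921) (l := 4) rfl N40921 D143094
theorem N73838 : nd 73838 = n143095 := ndS (p := 40921) (l := 6) rfl N40921 D143095
theorem N73839 : nd 73839 = n143096 := ndS (p := 40922) (l := 4) rfl N40922 D143096
theorem N73840 : nd 73840 = n143097 := ndS (p := 40922) (l := 6) rfl N40922 D143097
theorem N73841 : nd 73841 = n143098 := ndS (p := 40923) (l := 3) rfl N40923 D143098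
theorem N73842 : nd 73842 = n143099 := ndS (p := 40923) (l := 6) rfl N40923 D143099
theorem N73843 : nd 73843 = n143100 := ndS (p := 40923) (l := 7) rfl N40923 D143100
theorem N73844 : nd 73844 = n143102 := ndS (p := 40924) (l := 1) rfl N40924 D143102
theorem N73845 : nd 73845 = n143103 := ndS (p := 40924) (l := 5) rfl N40924 D143103
theorem N73846 : nd 73846 = n143104 := ndS (p := 40924) (l := 7) rfl N40924 D143104
theorem N73847 : nd 73847 = n143107 := ndS (p := 40926) (l := 3) rfl N40926 D143107
theorem N73848 : nd 73848 = n143115 := ndS (p := 40927) (l := 6) rfl N40927 D143115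
theorem N73849 : nd 73849 = n143116 := ndS (p := 40928) (l := 0) rfl N40928 D143116
theorem N73850 : nd 73850 = n143117 := ndS (p := 40928) (l := 1) rfl N40928 D143117
theorem N73851 : nd 73851 = n143118 := ndS (p := 40928) (l := 4) rfl N40928 D143118
theorem N73852 : nd 73852 = n143119 := ndS (p := 40928) (l := 7) rfl N40928 D143119
theorem N73853 : nd 73853 = n143121 := ndS (p := 40930) (l := 0) rfl N40930 D143121
theorem N73854 : nd 73854 = n143124 := ndS (p := 40931) (l := 3) rfl N40931 D143124
theorem N73855 : nd 73855 = n143125 := ndS (p := 40931) (l := 5) rfl N40931 D143125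
theorem N73856 : nd 73856 = n143126 := ndS (p := 40931) (l := 6) rfl N40931 D143126
theorem N73857 : nd 73857 = n143127 := ndS (p := 40932) (l := 0) rfl N40932 D143127
theorem N73858 : nd 73858 = n143130 := ndS (p := 40932) (l := 7) rfl N40932 D143130
theorem N73859 : nd 73859 = n143131 := ndS (p := 40933) (l := 3) rfl N40933 D143131
theorem N73860 : nd 73860 = n143132 := ndS (p := 40933) (l := 5) rfl N40933 D143132
theorem N73861 : nd 73861 = n143133 := ndS (p := 40933) (l := 6) rfl N40933 D143133
theorem N73862 : nd 73862 = n143134 := ndS (p := 40934) (l := 5) rfl N40934 D143134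
theorem N73863 : nd 73863 = n143141 := ndS (p := 40936) (l := 0) rfl N40936 D143141
theorem N73864 : nd 73864 = n143147 := ndS (p := 40937) (l := 5) rfl N40937 D143147
theorem N73865 : nd 73865 = n143153 := ndS (p := 40939) (l := 5) rfl N40939 D143153
theorem N73866 : nd 73866 = n143212 := ndS (p := 40942) (l := 4) rfl N40942 D143212
theorem N73867 : nd 73867 = n143213 := ndS (p := 40943) (l := 0) rfl N40943 D143213
theorem N73868 : nd 73868 = n143238 := ndS (p := 40946) (l := 6) rfl N40946 D143238
theorem N73869 : nd 73869 = n143241 := ndS (p := 40948) (l := 1) rfl N40948 D143241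
theorem N73870 : nd 73870 = n143243 := ndS (p := 40948) (l := 7) rfl N40948 D143243
theorem N73871 : nd 73871 = n143244 := ndS (p := 40949) (l := 1) rfl N40949 D143244
theorem N73872 : nd 73872 = n143245 := ndS (p := 40949) (l := 5) rfl N40949 D143245
theorem N73873 : nd 73873 = n143246 := ndS (p := 40949) (l := 6) rfl N40949 D143246
theorem N73874 : nd 73874 = n143247 := ndS (p := 40950) (l := 4) rfl N40950 D143247
theorem N73875 : nd 73875 = n143248 := ndS (p := 40950) (l := 6) rfl N40950 D143248
theorem N73876 : nd 73876 = n143249 := ndS (p := 40951) (l := 0) rfl N40951 D143249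
theorem N73877 : nd 73877 = n143250 := ndS (p := 40951) (l := 1) rfl N40951 D143250
theorem N73878 : nd 73878 = n143251 := ndS (p := 40951) (l := 5) rfl N40951 D143251
theorem N73879 : nd 73879 = n143252 := ndS (p := 40951) (l := 7) rfl N40951 D143252
theorem N73880 : nd 73880 = n143255 := ndS (p := 40952) (l := 5) rfl N40952 D143255
theorem N73881 : nd 73881 = n143271 := ndS (p := 40956) (l := 0) rfl N40956 D143271
theorem N73882 : nd 73882 = n143275 := ndS (p := 40958) (l := 4) rfl N40958 D143275
theorem N73883 : nd 73883 = n143276 := ndS (p := 40958) (l := 6) rfl N40958 D143276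
theorem N73884 : nd 73884 = n143281 := ndS (p := 40960) (l := 3) rfl N40960 D143281
theorem N73885 : nd 73885 = n143282 := ndS (p := 40960) (l := 6) rfl N40960 D143282
theorem N73886 : nd 73886 = n143289 := ndS (p := 40962) (l := 4) rfl N40962 D143289
theorem N73887 : nd 73887 = n143291 := ndS (p := 40962) (l := 6) rfl N40962 D143291
theorem N73888 : nd 73888 = n143307 := ndS (p := 40967) (l := 1) rfl N40967 D143307
theorem N73889 : nd 73889 = n143317 := ndS (p := 40968) (l := 4) rfl N40968 D143317
theorem N73890 : nd 73890 = n143321 := ndS (p := 40969) (l := 1) rfl N40969 D143321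
theorem N73891 : nd 73891 = n143376 := ndS (p := 40972) (l := 5) rfl N40972 D143376
theorem N73892 : nd 73892 = n143377 := ndS (p := 40972) (l := 6) rfl N40972 D143377
theorem N73893 : nd 73893 = n143378 := ndS (p := 40973) (l := 6) rfl N40973 D143378
theorem N73894 : nd 73894 = n143380 := ndS (p := 40974) (l := 1) rfl N40974 D143380
theorem N73895 : nd 73895 = n143381 := ndS (p := 40974) (l := 5) rfl N40974 D143381
theorem N73896 : nd 73896 = n143382 := ndS (p := 40974) (l := 7) rfl N40974 D143382
theorem N73897 : nd 73897 = n143384 := ndS (p := 40975) (l := 4) rfl N40975 D143384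
theorem N73898 : nd 73898 = n143387 := ndS (p := 40976) (l := 3) rfl N40976 D143387
theorem N73899 : nd 73899 = n143388 := ndS (p := 40976) (l := 4) rfl N40976 D143388
theorem N73900 : nd 73900 = n143396 := ndS (p := 40979) (l := 6) rfl N40979 D143396
theorem N73901 : nd 73901 = n143397 := ndS (p := 40980) (l := 6) rfl N40980 D143397
theorem N73902 : nd 73902 = n143400 := ndS (p := 40981) (l := 5) rfl N40981 D143400
theorem N73903 : nd 73903 = n143402 := ndS (p := 40982) (l := 0) rfl N40982 D143402
theorem N73904 : nd 73904 = n143403 := ndS (p := 40982) (l := 1) rfl N40982 D143403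
theorem N73905 : nd 73905 = n143404 := ndS (p := 40982) (l := 6) rfl N40982 D143404
theorem N73906 : nd 73906 = n143434 := ndS (p := 40984) (l := 5) rfl N40984 D143434
theorem N73907 : nd 73907 = n143436 := ndS (p := 40985) (l := 6) rfl N40985 D143436
theorem N73908 : nd 73908 = n143455 := ndS (p := 40986) (l := 0) rfl N40986 D143455
theorem N73909 : nd 73909 = n143456 := ndS (p := 40986) (l := 1) rfl N40986 D143456
theorem N73910 : nd 73910 = n143457 := ndS (p := 40986) (l := 2) rfl N40986 D143457
theorem N73911 : nd 73911 = n143459 := ndS (p := 40986) (l := 5) rfl N40986 D143459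
theorem N73912 : nd 73912 = n143462 := ndS (p := 40988) (l := 0) rfl N40988 D143462
theorem N73913 : nd 73913 = n143463 := ndS (p := 40988) (l := 6) rfl N40988 D143463
theorem N73914 : nd 73914 = n143475 := ndS (p := 40990) (l := 6) rfl N40990 D143475
theorem N73915 : nd 73915 = n143482 := ndS (p := 40992) (l := 3) rfl N40992 D143482
theorem N73916 : nd 73916 = n143483 := ndS (p := 40992) (l := 6) rfl N40992 D143483
theorem N73917 : nd 73917 = n143485 := ndS (p := 40993) (l := 6) rfl N40993 D143485
theorem N73918 : nd 73918 = n143486 := ndS (p := 40994) (l := 0) rfl N40994 D143486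
theorem N73919 : nd 73919 = n143487 := ndS (p := 40994) (l := 1) rfl N40994 D143487
theorem N73920 : nd 73920 = n143488 := ndS (p := 40994) (l := 5) rfl N40994 D143488
theorem N73921 : nd 73921 = n143489 := ndS (p := 40994) (l := 7) rfl N40994 D143489
theorem N73922 : nd 73922 = n143491 := ndS (p := 40995) (l := 3) rfl N40995 D143491
theorem N73923 : nd 73923 = n143493 := ndS (p := 40995) (l := 5) rfl N40995 D143493
theorem N73924 : nd 73924 = n143494 := ndS (p := 40995) (l := 6) rfl N40995 D143494
theorem N73925 : nd 73925 = n143496 := ndS (p := 40996) (l := 3) rfl N40996 D143496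
theorem N73926 : nd 73926 = n143498 := ndS (p := 40996) (l := 5) rfl N40996 D143498
theorem N73927 : nd 73927 = n143499 := ndS (p := 40996) (l := 6) rfl N40996 D143499
theorem N73928 : nd 73928 = n143500 := ndS (p := 40997) (l := 0) rfl N40997 D143500
theorem N73929 : nd 73929 = n143501 := ndS (p := 40997) (l := 1) rfl N40997 D143501
theorem N73930 : nd 73930 = n143502 := ndS (p := 40997) (l := 4) rfl N40997 D143502
theorem N73931 : nd 73931 = n143503 := ndS (p := 40997) (l := 7) rfl N40997 D143503
theorem N73932 : nd 73932 = n143504 := ndS (p := 40999) (l := 0) rfl N40999 D143504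
theorem N73933 : nd 73933 = n143507 := ndS (p := 40999) (l := 4) rfl N40999 D143507
theorem N73934 : nd 73934 = n143509 := ndS (p := 40999) (l := 6) rfl N40999 D143509
theorem N73935 : nd 73935 = n143510 := ndS (p := 41000) (l := 0) rfl N41000 D143510
theorem N73936 : nd 73936 = n143512 := ndS (p := 41000) (l := 3) rfl N41000 D143512
theorem N73937 : nd 73937 = n143513 := ndS (p := 41000) (l := 5) rfl N41000 D143513
theorem N73938 : nd 73938 = n143514 := ndS (p := 41000) (l := 6) rfl N41000 D143514
theorem N73939 : nd 73939 = n143520 := ndS (p := 41002) (l := 1) rfl N41002 D143520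
theorem N73940 : nd 73940 = n143522 := ndS (p := 41002) (l := 7) rfl N41002 D143522
theorem N73941 : nd 73941 = n143529 := ndS (p := 41003) (l := 5) rfl N41003 D143529
theorem N73942 : nd 73942 = n143533 := ndS (p := 41004) (l := 5) rfl N41004 D143533
theorem N73943 : nd 73943 = n143544 := ndS (p := 41005) (l := 4) rfl N41005 D143544
theorem N73944 : nd 73944 = n143545 := ndS (p := 41005) (l := 5) rfl N41005 D143545
theorem N73945 : nd 73945 = n143546 := ndS (p := 41005) (l := 6) rfl N41005 D143546
theorem N73946 : nd 73946 = n143550 := ndS (p := 41006) (l := 3) rfl N41006 D143550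
theorem N73947 : nd 73947 = n143552 := ndS (p := 41006) (l := 6) rfl N41006 D143552
theorem N73948 : nd 73948 = n143561 := ndS (p := 41008) (l := 5) rfl N41008 D143561
theorem N73949 : nd 73949 = n143567 := ndS (p := 41009) (l := 4) rfl N41009 D143567
theorem N73950 : nd 73950 = n143568 := ndS (p := 41009) (l := 5) rfl N41009 D143568
theorem N73951 : nd 73951 = n143570 := ndS (p := 41010) (l := 3) rfl N41010 D143570
theorem N73952 : nd 73952 = n143572 := ndS (p := 41010) (l := 6) rfl N41010 D143572
theorem N73953 : nd 73953 = n143574 := ndS (p := 41011) (l := 6) rfl N41011 D143574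
theorem N73954 : nd 73954 = n143577 := ndS (p := 41012) (l := 5) rfl N41012 D143577
theorem N73955 : nd 73955 = n143591 := ndS (p := 41015) (l := 3) rfl N41015 D143591
theorem N73956 : nd 73956 = n143598 := ndS (p := 41017) (l := 3) rfl N41017 D143598
theorem N73957 : nd 73957 = n143599 := ndS (p := 41017) (l := 6) rfl N41017 D143599
theorem N73958 : nd 73958 = n143601 := ndS (p := 41018) (l := 6) rfl N41018 D143601
theorem N73959 : nd 73959 = n143602 := ndS (p := 41019) (l := 0) rfl N41019 D143602
theorem N73960 : nd 73960 = n143604 := ndS (p := 41019) (l := 6) rfl N41019 D143604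
theorem N73961 : nd 73961 = n143656 := ndS (p := 41021) (l := 6) rfl N41021 D143656
theorem N73962 : nd 73962 = n143657 := ndS (p := 41022) (l := 3) rfl N41022 D143657
theorem N73963 : nd 73963 = n143659 := ndS (p := 41023) (l := 0) rfl N41023 D143659
theorem N73964 : nd 73964 = n143660 := ndS (p := 41023) (l := 1) rfl N41023 D143660
theorem N73965 : nd 73965 = n143661 := ndS (p := 41023) (l := 4) rfl N41023 D143661
theorem N73966 : nd 73966 = n143662 := ndS (p := 41023) (l := 6) rfl N41023 D143662
theorem N73967 : nd 73967 = n143665 := ndS (p := 41024) (l := 5) rfl N41024 D143665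
theorem N73968 : nd 73968 = n143676 := ndS (p := 41025) (l := 6) rfl N41025 D143676
theorem N73969 : nd 73969 = n143712 := ndS (p := 41029) (l := 4) rfl N41029 D143712
theorem N73970 : nd 73970 = n143720 := ndS (p := 41030) (l := 4) rfl N41030 D143720
theorem N73971 : nd 73971 = n143723 := ndS (p := 41031) (l := 0) rfl N41031 D143723
theorem N73972 : nd 73972 = n143726 := ndS (p := 41031) (l := 6) rfl N41031 D143726
theorem N73973 : nd 73973 = n143733 := ndS (p := 41032) (l := 5) rfl N41032 D143733
theorem N73974 : nd 73974 = n143741 := ndS (p := 41033) (l := 3) rfl N41033 D143741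
theorem N73975 : nd 73975 = n143755 := ndS (p := 41038) (l := 4) rfl N41038 D143755
theorem N73976 : nd 73976 = n143758 := ndS (p := 41039) (l := 4) rfl N41039 D143758
theorem N73977 : nd 73977 = n143760 := ndS (p := 41039) (l := 6) rfl N41039 D143760
theorem N73978 : nd 73978 = n143762 := ndS (p := 41040) (l := 1) rfl N41040 D143762
theorem N73979 : nd 73979 = n143763 := ndS (p := 41040) (l := 5) rfl N41040 D143763
theorem N73980 : nd 73980 = n143769 := ndS (p := 41041) (l := 0) rfl N41041 D143769
theorem N73981 : nd 73981 = n143771 := ndS (p := 41041) (l := 5) rfl N41041 D143771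
theorem N73982 : nd 73982 = n143792 := ndS (p := 41045) (l := 5) rfl N41045 D143792
theorem N73983 : nd 73983 = n143793 := ndS (p := 41045) (l := 6) rfl N41045 D143793
theorem N73984 : nd 73984 = n143796 := ndS (p := 41046) (l := 4) rfl N41046 D143796
theorem N73985 : nd 73985 = n143797 := ndS (p := 41046) (l := 6) rfl N41046 D143797
theorem N73986 : nd 73986 = n143800 := ndS (p := 41047) (l := 5) rfl N41047 D143800
theorem N73987 : nd 73987 = n143828 := ndS (p := 41050) (l := 5) rfl N41050 D143828
theorem N73988 : nd 73988 = n143829 := ndS (p := 41050) (l := 6) rfl N41050 D143829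
theorem N73989 : nd 73989 = n143836 := ndS (p := 41052) (l := 5) rfl N41052 D143836
theorem N73990 : nd 73990 = n143869 := ndS (p := 41056) (l := 2) rfl N41056 D143869
theorem N73991 : nd 73991 = n143870 := ndS (p := 41056) (l := 5) rfl N41056 D143870
theorem N73992 : nd 73992 = n143874 := ndS (p := 41058) (l := 5) rfl N41058 D143874
theorem N73993 : nd 73993 = n143875 := ndS (p := 41058) (l := 6) rfl N41058 D143875
theorem N73994 : nd 73994 = n143877 := ndS (p := 41059) (l := 1) rfl N41059 D143877
theorem N73995 : nd 73995 = n143878 := ndS (p := 41059) (l := 4) rfl N41059 D143878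
theorem N73996 : nd 73996 = n143879 := ndS (p := 41059) (l := 6) rfl N41059 D143879
theorem N73997 : nd 73997 = n143880 := ndS (p := 41060) (l := 5) rfl N41060 D143880
theorem N73998 : nd 73998 = n143881 := ndS (p := 41061) (l := 4) rfl N41061 D143881
theorem N73999 : nd 73999 = n143882 := ndS (p := 41062) (l := 0) rfl N41062 D143882
theorem N74000 : nd 74000 = n143883 := ndS (p := 41062) (l := 3) rfl N41062 D143883
theorem N74001 : nd 74001 = n143903 := ndS (p := 41063) (l := 5) rfl N41063 D143903
theorem N74002 : nd 74002 = n143916 := ndS (p := 41065) (l := 4) rfl N41065 D143916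
theorem N74003 : nd 74003 = n143921 := ndS (p := 41066) (l := 2) rfl N41066 D143921
theorem N74004 : nd 74004 = n143926 := ndS (p := 41067) (l := 6) rfl N41067 D143926
theorem N74005 : nd 74005 = n143927 := ndS (p := 41068) (l := 0) rfl N41068 D143927
theorem N74006 : nd 74006 = n143928 := ndS (p := 41068) (l := 1) rfl N41068 D143928
theorem N74007 : nd 74007 = n143929 := ndS (p := 41068) (l := 4) rfl N41068 D143929
theorem N74008 : nd 74008 = n143930 := ndS (p := 41068) (l := 6) rfl N41068 D143930
theorem N74009 : nd 74009 = n143932 := ndS (p := 41070) (l := 4) rfl N41070 D143932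
theorem N74010 : nd 74010 = n143933 := ndS (p := 41071) (l := 0) rfl N41071 D143933
theorem N74011 : nd 74011 = n143934 := ndS (p := 41071) (l := 1) rfl N41071 D143934
theorem N74012 : nd 74012 = n143935 := ndS (p := 41071) (l := 3) rfl N41071 D143935
theorem N74013 : nd 74013 = n143936 := ndS (p := 41071) (l := 5) rfl N41071 D143936
theorem N74014 : nd 74014 = n143955 := ndS (p := 41072) (l := 5) rfl N41072 D143955
theorem N74015 : nd 74015 = n143966 := ndS (p := 41075) (l := 5) rfl N41075 D143966
theorem N74016 : nd 74016 = n143967 := ndS (p := 41076) (l := 5) rfl N41076 D143967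
theorem N74017 : nd 74017 = n143968 := ndS (p := 41077) (l := 0) rfl N41077 D143968
theorem N74018 : nd 74018 = n143970 := ndS (p := 41077) (l := 2) rfl N41077 D143970
theorem N74019 : nd 74019 = n143971 := ndS (p := 41077) (l := 6) rfl N41077 D143971
theorem N74020 : nd 74020 = n143972 := ndS (p := 41078) (l := 5) rfl N41078 D143972
theorem N74021 : nd 74021 = n143973 := ndS (p := 41079) (l := 5) rfl N41079 D143973
theorem N74022 : nd 74022 = n143974 := ndS (p := 41079) (l := 6) rfl N41079 D143974
theorem N74023 : nd 74023 = n143975 := ndS (p := 41080) (l := 3) rfl N41080 D143975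
theorem N74024 : nd 74024 = n143976 := ndS (p := 41080) (l := 5) rfl N41080 D143976
theorem N74025 : nd 74025 = n143977 := ndS (p := 41080) (l := 6) rfl N41080 D143977
theorem N74026 : nd 74026 = n143984 := ndS (p := 41082) (l := 0) rfl N41082 D143984
theorem N74027 : nd 74027 = n143985 := ndS (p := 41082) (l := 1) rfl N41082 D143985
theorem N74028 : nd 74028 = n143992 := ndS (p := 41083) (l := 5) rfl N41083 D143992
theorem N74029 : nd 74029 = n143993 := ndS (p := 41083) (l := 6) rfl N41083 D143993
theorem N74030 : nd 74030 = n143994 := ndS (p := 41084) (l := 3) rfl N41084 D143994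
theorem N74031 : nd 74031 = n143995 := ndS (p := 41084) (l := 5) rfl N41084 D143995
theorem N74032 : nd 74032 = n143996 := ndS (p := 41085) (l := 0) rfl N41085 D143996
theorem N74033 : nd 74033 = n143997 := ndS (p := 41085) (l := 1) rfl N41085 D143997
theorem N74034 : nd 74034 = n143999 := ndS (p := 41086) (l := 3) rfl N41086 D143999
theorem N74035 : nd 74035 = n144000 := ndS (p := 41086) (l := 5) rfl N41086 D144000
theorem N74036 : nd 74036 = n144001 := ndS (p := 41086) (l := 6) rfl N41086 D144001
theorem N74037 : nd 74037 = n144002 := ndS (p := 41087) (l := 4) rfl N41087 D144002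
theorem N74038 : nd 74038 = n144004 := ndS (p := 41089) (l := 5) rfl N41089 D144004
theorem N74039 : nd 74039 = n144005 := ndS (p := 41089) (l := 6) rfl N41089 D144005
theorem N74040 : nd 74040 = n144006 := ndS (p := 41090) (l := 3) rfl N41090 D144006
theorem N74041 : nd 74041 = n144007 := ndS (p := 41090) (l := 5) rfl N41090 D144007
theorem N74042 : nd 74042 = n144008 := ndS (p := 41090) (l := 6) rfl N41090 D144008
theorem N74043 : nd 74043 = n144011 := ndS (p := 41092) (l := 0) rfl N41092 D144011
theorem N74044 : nd 74044 = n144012 := ndS (p := 41092) (l := 1) rfl N41092 D144012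
theorem N74045 : nd 74045 = n144013 := ndS (p := 41092) (l := 4) rfl N41092 D144013
theorem N74046 : nd 74046 = n144019 := ndS (p := 41093) (l := 0) rfl N41093 D144019
theorem N74047 : nd 74047 = n144020 := ndS (p := 41093) (l := 1) rfl N41093 D144020
theorem N74048 : nd 74048 = n144025 := ndS (p := 41094) (l := 6) rfl N41094 D144025
theorem N74049 : nd 74049 = n144026 := ndS (p := 41095) (l := 0) rfl N41095 D144026
theorem N74050 : nd 74050 = n144027 := ndS (p := 41095) (l := 1) rfl N41095 D144027
theorem N74051 : nd 74051 = n144030 := ndS (p := 41097) (l := 3) rfl N41097 D144030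
theorem N74052 : nd 74052 = n144034 := ndS (p := 41098) (l := 6) rfl N41098 D144034
theorem N74053 : nd 74053 = n144035 := ndS (p := 41101) (l := 5) rfl N41101 D144035
theorem N74054 : nd 74054 = n144036 := ndS (p := 41101) (l := 6) rfl N41101 D144036
theorem N74055 : nd 74055 = n144038 := ndS (p := 41103) (l := 3) rfl N41103 D144038
theorem N74056 : nd 74056 = n144040 := ndS (p := 41103) (l := 6) rfl N41103 D144040
theorem N74057 : nd 74057 = n144045 := ndS (p := 41105) (l := 5) rfl N41105 D144045
theorem N74058 : nd 74058 = n144046 := ndS (p := 41105) (l := 6) rfl N41105 D144046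
theorem N74059 : nd 74059 = n144050 := ndS (p := 41106) (l := 6) rfl N41106 D144050
theorem N74060 : nd 74060 = n144051 := ndS (p := 41107) (l := 0) rfl N41107 D144051
theorem N74061 : nd 74061 = n144052 := ndS (p := 41107) (l := 1) rfl N41107 D144052
theorem N74062 : nd 74062 = n144053 := ndS (p := 41107) (l := 5) rfl N41107 D144053
theorem N74063 : nd 74063 = n144054 := ndS (p := 41107) (l := 7) rfl N41107 D144054
theorem N74064 : nd 74064 = n144055 := ndS (p := 41108) (l := 0) rfl N41108 D144055
theorem N74065 : nd 74065 = n144056 := ndS (p := 41108) (l := 1) rfl N41108 D144056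
theorem N74066 : nd 74066 = n144057 := ndS (p := 41108) (l := 5) rfl N41108 D144057
theorem N74067 : nd 74067 = n144058 := ndS (p := 41108) (l := 7) rfl N41108 D144058
theorem N74068 : nd 74068 = n144059 := ndS (p := 41109) (l := 3) rfl N41109 D144059
theorem N74069 : nd 74069 = n144060 := ndS (p := 41109) (l := 5) rfl N41109 D144060
theorem N74070 : nd 74070 = n144061 := ndS (p := 41110) (l := 3) rfl N41110 D144061
theorem N74071 : nd 74071 = n144062 := ndS (p := 41110) (l := 5) rfl N41110 D144062
theorem N74072 : nd 74072 = n144063 := ndS (p := 41111) (l := 0) rfl N41111 D144063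
theorem N74073 : nd 74073 = n144064 := ndS (p := 41111) (l := 4) rfl N41111 D144064
theorem N74074 : nd 74074 = n144065 := ndS (p := 41111) (l := 7) rfl N41111 D144065
theorem N74075 : nd 74075 = n144066 := ndS (p := 41113) (l := 3) rfl N41113 D144066
theorem N74076 : nd 74076 = n144067 := ndS (p := 41113) (l := 5) rfl N41113 D144067
theorem N74077 : nd 74077 = n144068 := ndS (p := 41113) (l := 6) rfl N41113 D144068
theorem N74078 : nd 74078 = n144069 := ndS (p := 41116) (l := 5) rfl N41116 D144069
theorem N74079 : nd 74079 = n144070 := ndS (p := 41117) (l := 0) rfl N41117 D144070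
theorem N74080 : nd 74080 = n144071 := ndS (p := 41117) (l := 1) rfl N41117 D144071
theorem N74081 : nd 74081 = n144072 := ndS (p := 41117) (l := 2) rfl N41117 D144072
theorem N74082 : nd 74082 = n144073 := ndS (p := 41117) (l := 6) rfl N41117 D144073
theorem N74083 : nd 74083 = n144074 := ndS (p := 41118) (l := 1) rfl N41118 D144074
theorem N74084 : nd 74084 = n144075 := ndS (p := 41118) (l := 5) rfl N41118 D144075
theorem N74085 : nd 74085 = n144076 := ndS (p := 41118) (l := 7) rfl N41118 D144076
theorem N74086 : nd 74086 = n144077 := ndS (p := 41121) (l := 3) rfl N41121 D144077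
theorem N74087 : nd 74087 = n144078 := ndS (p := 41121) (l := 4) rfl N41121 D144078
theorem N74088 : nd 74088 = n144080 := ndS (p := 41121) (l := 6) rfl N41121 D144080
theorem N74089 : nd 74089 = n144082 := ndS (p := 41122) (l := 6) rfl N41122 D144082
theorem N74090 : nd 74090 = n144083 := ndS (p := 41123) (l := 5) rfl N41123 D144083
theorem N74091 : nd 74091 = n144084 := ndS (p := 41123) (l := 6) rfl N41123 D144084
theorem N74092 : nd 74092 = n144085 := ndS (p := 41124) (l := 0) rfl N41124 D144085
theorem N74093 : nd 74093 = n144086 := ndS (p := 41124) (l := 1) rfl N41124 D144086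
theorem N74094 : nd 74094 = n144087 := ndS (p := 41124) (l := 4) rfl N41124 D144087
theorem N74095 : nd 74095 = n144088 := ndS (p := 41124) (l := 6) rfl N41124 D144088
theorem N74096 : nd 74096 = n144089 := ndS (p := 41125) (l := 0) rfl N41125 D144089
theorem N74097 : nd 74097 = n144090 := ndS (p := 41125) (l := 1) rfl N41125 D144090
theorem N74098 : nd 74098 = n144091 := ndS (p := 41125) (l := 5) rfl N41125 D144091
theorem N74099 : nd 74099 = n144092 := ndS (p := 41125) (l := 7) rfl N41125 D144092
theorem N74100 : nd 74100 = n144093 := ndS (p := 41126) (l := 0) rfl N41126 D144093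
theorem N74101 : nd 74101 = n144094 := ndS (p := 41126) (l := 1) rfl N41126 D144094
theorem N74102 : nd 74102 = n144095 := ndS (p := 41126) (l := 5) rfl N41126 D144095
theorem N74103 : nd 74103 = n144096 := ndS (p := 41126) (l := 7) rfl N41126 D144096
theorem N74104 : nd 74104 = n144098 := ndS (p := 41127) (l := 5) rfl N41127 D144098
theorem N74105 : nd 74105 = n144099 := ndS (p := 41128) (l := 0) rfl N41128 D144099
theorem N74106 : nd 74106 = n144100 := ndS (p := 41128) (l := 1) rfl N41128 D144100
theorem N74107 : nd 74107 = n144101 := ndS (p := 41128) (l := 4) rfl N41128 D144101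
theorem N74108 : nd 74108 = n144102 := ndS (p := 41128) (l := 7) rfl N41128 D144102
theorem N74109 : nd 74109 = n144103 := ndS (p := 41130) (l := 3) rfl N41130 D144103
theorem N74110 : nd 74110 = n144104 := ndS (p := 41130) (l := 5) rfl N41130 D144104
theorem N74111 : nd 74111 = n144106 := ndS (p := 41131) (l := 3) rfl N41131 D144106
theorem N74112 : nd 74112 = n144107 := ndS (p := 41131) (l := 4) rfl N41131 D144107
theorem N74113 : nd 74113 = n144108 := ndS (p := 41131) (l := 5) rfl N41131 D144108
theorem N74114 : nd 74114 = n144109 := ndS (p := 41131) (l := 6) rfl N41131 D144109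
theorem N74115 : nd 74115 = n144112 := ndS (p := 41132) (l := 4) rfl N41132 D144112
theorem N74116 : nd 74116 = n144115 := ndS (p := 41133) (l := 4) rfl N41133 D144115
theorem N74117 : nd 74117 = n144116 := ndS (p := 41133) (l := 5) rfl N41133 D144116
theorem N74118 : nd 74118 = n144117 := ndS (p := 41133) (l := 6) rfl N41133 D144117
theorem N74119 : nd 74119 = n144118 := ndS (p := 41134) (l := 0) rfl N41134 D144118
theorem N74120 : nd 74120 = n144119 := ndS (p := 41134) (l := 1) rfl N41134 D144119
theorem N74121 : nd 74121 = n144120 := ndS (p := 41134) (l := 5) rfl N41134 D144120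
theorem N74122 : nd 74122 = n144121 := ndS (p := 41134) (l := 6) rfl N41134 D144121
theorem N74123 : nd 74123 = n144122 := ndS (p := 41135) (l := 0) rfl N41135 D144122
theorem N74124 : nd 74124 = n144123 := ndS (p := 41135) (l := 1) rfl N41135 D144123
theorem N74125 : nd 74125 = n144124 := ndS (p := 41135) (l := 4) rfl N41135 D144124
theorem N74126 : nd 74126 = n144125 := ndS (p := 41135) (l := 6) rfl N41135 D144125
theorem N74127 : nd 74127 = n144126 := ndS (p := 41136) (l := 0) rfl N41136 D144126
theorem N74128 : nd 74128 = n144128 := ndS (p := 41136) (l := 5) rfl N41136 D144128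
theorem N74129 : nd 74129 = n144129 := ndS (p := 41136) (l := 7) rfl N41136 D144129
theorem N74130 : nd 74130 = n144130 := ndS (p := 41137) (l := 0) rfl N41137 D144130
theorem N74131 : nd 74131 = n144131 := ndS (p := 41137) (l := 1) rfl N41137 D144131
theorem N74132 : nd 74132 = n144132 := ndS (p := 41137) (l := 5) rfl N41137 D144132
theorem N74133 : nd 74133 = n144133 := ndS (p := 41137) (l := 7) rfl N41137 D144133
theorem N74134 : nd 74134 = n144134 := ndS (p := 41138) (l := 0) rfl N41138 D144134
theorem N74135 : nd 74135 = n144135 := ndS (p := 41138) (l := 4) rfl N41138 D144135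
theorem N74136 : nd 74136 = n144136 := ndS (p := 41138) (l := 7) rfl N41138 D144136
theorem N74137 : nd 74137 = n144138 := ndS (p := 41140) (l := 3) rfl N41140 D144138
theorem N74138 : nd 74138 = n144139 := ndS (p := 41140) (l := 5) rfl N41140 D144139
theorem N74139 : nd 74139 = n144140 := ndS (p := 41140) (l := 6) rfl N41140 D144140
theorem N74140 : nd 74140 = n144144 := ndS (p := 41141) (l := 6) rfl N41141 D144144
theorem N74141 : nd 74141 = n144145 := ndS (p := 41142) (l := 5) rfl N41142 D144145
theorem N74142 : nd 74142 = n144146 := ndS (p := 41142) (l := 6) rfl N41142 D144146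
theorem N74143 : nd 74143 = n144147 := ndS (p := 41143) (l := 0) rfl N41143 D144147
theorem N74144 : nd 74144 = n144148 := ndS (p := 41143) (l := 1) rfl N41143 D144148
theorem N74145 : nd 74145 = n144149 := ndS (p := 41143) (l := 4) rfl N41143 D144149
theorem N74146 : nd 74146 = n144150 := ndS (p := 41143) (l := 6) rfl N41143 D144150
theorem N74147 : nd 74147 = n144151 := ndS (p := 41144) (l := 0) rfl N41144 D144151
theorem N74148 : nd 74148 = n144153 := ndS (p := 41144) (l := 5) rfl N41144 D144153
theorem N74149 : nd 74149 = n144154 := ndS (p := 41145) (l := 0) rfl N41145 D144154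
theorem N74150 : nd 74150 = n144155 := ndS (p := 41145) (l := 1) rfl N41145 D144155
theorem N74151 : nd 74151 = n144156 := ndS (p := 41145) (l := 5) rfl N41145 D144156
theorem N74152 : nd 74152 = n144157 := ndS (p := 41145) (l := 7) rfl N41145 D144157
theorem N74153 : nd 74153 = n144158 := ndS (p := 41146) (l := 0) rfl N41146 D144158
theorem N74154 : nd 74154 = n144159 := ndS (p := 41146) (l := 1) rfl N41146 D144159
theorem N74155 : nd 74155 = n144160 := ndS (p := 41146) (l := 4) rfl N41146 D144160
theorem N74156 : nd 74156 = n144161 := ndS (p := 41147) (l := 6) rfl N41147 D144161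
theorem N74157 : nd 74157 = n144164 := ndS (p := 41149) (l := 0) rfl N41149 D144164
theorem N74158 : nd 74158 = n144166 := ndS (p := 41149) (l := 5) rfl N41149 D144166
theorem N74159 : nd 74159 = n144167 := ndS (p := 41149) (l := 7) rfl N41149 D144167
theorem N74160 : nd 74160 = n144170 := ndS (p := 41150) (l := 5) rfl N41150 D144170
theorem N74161 : nd 74161 = n144171 := ndS (p := 41150) (l := 6) rfl N41150 D144171
theorem N74162 : nd 74162 = n144173 := ndS (p := 41151) (l := 6) rfl N41151 D144173
theorem N74163 : nd 74163 = n144175 := ndS (p := 41152) (l := 1) rfl N41152 D144175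
theorem N74164 : nd 74164 = n144176 := ndS (p := 41152) (l := 5) rfl N41152 D144176
theorem N74165 : nd 74165 = n144177 := ndS (p := 41152) (l := 7) rfl N41152 D144177
theorem N74166 : nd 74166 = n144178 := ndS (p := 41153) (l := 4) rfl N41153 D144178
theorem N74167 : nd 74167 = n144184 := ndS (p := 41154) (l := 6) rfl N41154 D144184
theorem N74168 : nd 74168 = n144185 := ndS (p := 41155) (l := 0) rfl N41155 D144185
theorem N74169 : nd 74169 = n144186 := ndS (p := 41155) (l := 1) rfl N41155 D144186
theorem N74170 : nd 74170 = n144188 := ndS (p := 41155) (l := 7) rfl N41155 D144188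
theorem N74171 : nd 74171 = n144198 := ndS (p := 41157) (l := 6) rfl N41157 D144198
theorem N74172 : nd 74172 = n144200 := ndS (p := 41158) (l := 1) rfl N41158 D144200
theorem N74173 : nd 74173 = n144205 := ndS (p := 41159) (l := 2) rfl N41159 D144205
theorem N74174 : nd 74174 = n144206 := ndS (p := 41159) (l := 6) rfl N41159 D144206
theorem N74175 : nd 74175 = n144207 := ndS (p := 41160) (l := 0) rfl N41160 D144207
theorem N74176 : nd 74176 = n144208 := ndS (p := 41160) (l := 1) rfl N41160 D144208
theorem N74177 : nd 74177 = n144209 := ndS (p := 41160) (l := 5) rfl N41160 D144209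
theorem N74178 : nd 74178 = n144210 := ndS (p := 41160) (l := 7) rfl N41160 D144210
theorem N74179 : nd 74179 = n144213 := ndS (p := 41161) (l := 2) rfl N41161 D144213
theorem N74180 : nd 74180 = n144216 := ndS (p := 41162) (l := 0) rfl N41162 D144216
theorem N74181 : nd 74181 = n144217 := ndS (p := 41162) (l := 1) rfl N41162 D144217
theorem N74182 : nd 74182 = n144223 := ndS (p := 41164) (l := 1) rfl N41164 D144223
theorem N74183 : nd 74183 = n144230 := ndS (p := 41165) (l := 6) rfl N41165 D144230
theorem N74184 : nd 74184 = n144232 := ndS (p := 41166) (l := 3) rfl N41166 D144232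
theorem N74185 : nd 74185 = n144235 := ndS (p := 41166) (l := 6) rfl N41166 D144235
theorem N74186 : nd 74186 = n144243 := ndS (p := 41169) (l := 4) rfl N41169 D144243
theorem N74187 : nd 74187 = n144245 := ndS (p := 41169) (l := 6) rfl N41169 D144245
theorem N74188 : nd 74188 = n144251 := ndS (p := 41171) (l := 1) rfl N41171 D144251
theorem N74189 : nd 74189 = n144252 := ndS (p := 41171) (l := 2) rfl N41171 D144252
theorem N74190 : nd 74190 = n144257 := ndS (p := 41173) (l := 0) rfl N41173 D144257
theorem N74191 : nd 74191 = n144263 := ndS (p := 41175) (l := 3) rfl N41175 D144263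
theorem N74192 : nd 74192 = n144264 := ndS (p := 41175) (l := 4) rfl N41175 D144264
theorem N74193 : nd 74193 = n144267 := ndS (p := 41176) (l := 1) rfl N41176 D144267
theorem N74194 : nd 74194 = n144270 := ndS (p := 41176) (l := 7) rfl N41176 D144270
theorem N74195 : nd 74195 = n144271 := ndS (p := 41177) (l := 6) rfl N41177 D144271
theorem N74196 : nd 74196 = n144272 := ndS (p := 41178) (l := 3) rfl N41178 D144272
theorem N74197 : nd 74197 = n144273 := ndS (p := 41180) (l := 3) rfl N41180 D144273
theorem N74198 : nd 74198 = n144274 := ndS (p := 41180) (l := 5) rfl N41180 D144274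
theorem N74199 : nd 74199 = n144282 := ndS (p := 41182) (l := 3) rfl N41182 D144282
theorem N74200 : nd 74200 = n144283 := ndS (p := 41182) (l := 6) rfl N41182 D144283
theorem N74201 : nd 74201 = n144284 := ndS (p := 41183) (l := 0) rfl N41183 D144284
theorem N74202 : nd 74202 = n144285 := ndS (p := 41183) (l := 1) rfl N41183 D144285
theorem N74203 : nd 74203 = n144286 := ndS (p := 41183) (l := 5) rfl N41183 D144286
theorem N74204 : nd 74204 = n144289 := ndS (p := 41184) (l := 2) rfl N41184 D144289
theorem N74205 : nd 74205 = n144290 := ndS (p := 41184) (l := 5) rfl N41184 D144290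
theorem N74206 : nd 74206 = n144291 := ndS (p := 41184) (l := 6) rfl N41184 D144291
theorem N74207 : nd 74207 = n144294 := ndS (p := 41186) (l := 0) rfl N41186 D144294
theorem N74208 : nd 74208 = n144296 := ndS (p := 41186) (l := 5) rfl N41186 D144296
theorem N74209 : nd 74209 = n144297 := ndS (p := 41189) (l := 6) rfl N41189 D144297
theorem N74210 : nd 74210 = n144298 := ndS (p := 41190) (l := 3) rfl N41190 D144298
theorem N74211 : nd 74211 = n144299 := ndS (p := 41190) (l := 6) rfl N41190 D144299
theorem N74212 : nd 74212 = n144300 := ndS (p := 41193) (l := 3) rfl N41193 D144300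
theorem N74213 : nd 74213 = n144301 := ndS (p := 41194) (l := 3) rfl N41194 D144301
theorem N74214 : nd 74214 = n144302 := ndS (p := 41194) (l := 6) rfl N41194 D144302
theorem N74215 : nd 74215 = n144303 := ndS (p := 41195) (l := 3) rfl N41195 D144303
theorem N74216 : nd 74216 = n144305 := ndS (p := 41196) (l := 6) rfl N41196 D144305
theorem N74217 : nd 74217 = n144306 := ndS (p := 41196) (l := 7) rfl N41196 D144306
theorem N74218 : nd 74218 = n144307 := ndS (p := 41198) (l := 0) rfl N41198 D144307
theorem N74219 : nd 74219 = n144308 := ndS (p := 41199) (l := 0) rfl N41199 D144308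
theorem N74220 : nd 74220 = n144309 := ndS (p := 41199) (l := 1) rfl N41199 D144309
theorem N74221 : nd 74221 = n144310 := ndS (p := 41199) (l := 2) rfl N41199 D144310
theorem N74222 : nd 74222 = n144311 := ndS (p := 41199) (l := 5) rfl N41199 D144311
theorem N74223 : nd 74223 = n144312 := ndS (p := 41199) (l := 6) rfl N41199 D144312
theorem N74224 : nd 74224 = n144313 := ndS (p := 41200) (l := 6) rfl N41200 D144313
theorem N74225 : nd 74225 = n144314 := ndS (p := 41201) (l := 0) rfl N41201 D144314
theorem N74226 : nd 74226 = n144315 := ndS (p := 41201) (l := 1) rfl N41201 D144315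
theorem N74227 : nd 74227 = n144316 := ndS (p := 41201) (l := 5) rfl N41201 D144316
theorem N74228 : nd 74228 = n144317 := ndS (p := 41202) (l := 4) rfl N41202 D144317
theorem N74229 : nd 74229 = n144318 := ndS (p := 41203) (l := 0) rfl N41203 D144318
theorem N74230 : nd 74230 = n144319 := ndS (p := 41203) (l := 1) rfl N41203 D144319
theorem N74231 : nd 74231 = n144320 := ndS (p := 41203) (l := 2) rfl N41203 D144320
theorem N74232 : nd 74232 = n144321 := ndS (p := 41203) (l := 5) rfl N41203 D144321
theorem N74233 : nd 74233 = n144322 := ndS (p := 41204) (l := 6) rfl N41204 D144322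
theorem N74234 : nd 74234 = n144323 := ndS (p := 41205) (l := 3) rfl N41205 D144323
theorem N74235 : nd 74235 = n144324 := ndS (p := 41205) (l := 6) rfl N41205 D144324
theorem N74236 : nd 74236 = n144325 := ndS (p := 41206) (l := 3) rfl N41206 D144325
theorem N74237 : nd 74237 = n144326 := ndS (p := 41206) (l := 6) rfl N41206 D144326
theorem N74238 : nd 74238 = n144327 := ndS (p := 41207) (l := 0) rfl N41207 D144327
theorem N74239 : nd 74239 = n144328 := ndS (p := 41207) (l := 1) rfl N41207 D144328
theorem N74240 : nd 74240 = n144342 := ndS (p := 41209) (l := 0) rfl N41209 D144342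
theorem N74241 : nd 74241 = n144343 := ndS (p := 41209) (l := 1) rfl N41209 D144343
theorem N74242 : nd 74242 = n144346 := ndS (p := 41210) (l := 3) rfl N41210 D144346
theorem N74243 : nd 74243 = n144347 := ndS (p := 41210) (l := 5) rfl N41210 D144347
theorem N74244 : nd 74244 = n144348 := ndS (p := 41210) (l := 6) rfl N41210 D144348
theorem N74245 : nd 74245 = n144349 := ndS (p := 41211) (l := 3) rfl N41211 D144349
theorem N74246 : nd 74246 = n144350 := ndS (p := 41211) (l := 5) rfl N41211 D144350
theorem N74247 : nd 74247 = n144351 := ndS (p := 41212) (l := 0) rfl N41212 D144351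
theorem N74248 : nd 74248 = n144354 := ndS (p := 41214) (l := 5) rfl N41214 D144354
theorem N74249 : nd 74249 = n144355 := ndS (p := 41215) (l := 3) rfl N41215 D144355
theorem N74250 : nd 74250 = n144357 := ndS (p := 41215) (l := 6) rfl N41215 D144357
theorem N74251 : nd 74251 = n144358 := ndS (p := 41216) (l := 4) rfl N41216 D144358
theorem N74252 : nd 74252 = n144359 := ndS (p := 41218) (l := 5) rfl N41218 D144359
theorem N74253 : nd 74253 = n144362 := ndS (p := 41220) (l := 4) rfl N41220 D144362
theorem N74254 : nd 74254 = n144379 := ndS (p := 41223) (l := 3) rfl N41223 D144379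
theorem N74255 : nd 74255 = n144385 := ndS (p := 41224) (l := 4) rfl N41224 D144385
theorem N74256 : nd 74256 = n144394 := ndS (p := 41225) (l := 4) rfl N41225 D144394
theorem N74257 : nd 74257 = n144395 := ndS (p := 41225) (l := 5) rfl N41225 D144395
theorem N74258 : nd 74258 = n144401 := ndS (p := 41227) (l := 4) rfl N41227 D144401
theorem N74259 : nd 74259 = n144402 := ndS (p := 41227) (l := 5) rfl N41227 D144402
theorem N74260 : nd 74260 = n144406 := ndS (p := 41229) (l := 5) rfl N41229 D144406
theorem N74261 : nd 74261 = n144407 := ndS (p := 41230) (l := 0) rfl N41230 D144407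
theorem N74262 : nd 74262 = n144408 := ndS (p := 41230) (l := 1) rfl N41230 D144408
theorem N74263 : nd 74263 = n144410 := ndS (p := 41230) (l := 5) rfl N41230 D144410
theorem N74264 : nd 74264 = n144411 := ndS (p := 41230) (l := 6) rfl N41230 D144411
theorem N74265 : nd 74265 = n144412 := ndS (p := 41231) (l := 6) rfl N41231 D144412
theorem N74266 : nd 74266 = n144413 := ndS (p := 41232) (l := 1) rfl N41232 D144413
theorem N74267 : nd 74267 = n144414 := ndS (p := 41232) (l := 5) rfl N41232 D144414
theorem N74268 : nd 74268 = n144415 := ndS (p := 41232) (l := 7) rfl N41232 D144415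
theorem N74269 : nd 74269 = n144416 := ndS (p := 41235) (l := 0) rfl N41235 D144416
theorem N74270 : nd 74270 = n144417 := ndS (p := 41235) (l := 1) rfl N41235 D144417
theorem N74271 : nd 74271 = n144418 := ndS (p := 41235) (l := 2) rfl N41235 D144418
theorem N74272 : nd 74272 = n144419 := ndS (p := 41235) (l := 6) rfl N41235 D144419
theorem N74273 : nd 74273 = n144420 := ndS (p := 41236) (l := 5) rfl N41236 D144420
theorem N74274 : nd 74274 = n144421 := ndS (p := 41237) (l := 3) rfl N41237 D144421
theorem N74275 : nd 74275 = n144423 := ndS (p := 41238) (l := 3) rfl N41238 D144423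
theorem N74276 : nd 74276 = n144424 := ndS (p := 41238) (l := 6) rfl N41238 D144424
theorem N74277 : nd 74277 = n144425 := ndS (p := 41239) (l := 5) rfl N41239 D144425
theorem N74278 : nd 74278 = n144426 := ndS (p := 41239) (l := 6) rfl N41239 D144426
theorem N74279 : nd 74279 = n144427 := ndS (p := 41240) (l := 4) rfl N41240 D144427
theorem N74280 : nd 74280 = n144428 := ndS (p := 41240) (l := 6) rfl N41240 D144428
theorem N74281 : nd 74281 = n144429 := ndS (p := 41241) (l := 0) rfl N41241 D144429
theorem N74282 : nd 74282 = n144430 := ndS (p := 41241) (l := 1) rfl N41241 D144430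
theorem N74283 : nd 74283 = n144431 := ndS (p := 41241) (l := 5) rfl N41241 D144431
theorem N74284 : nd 74284 = n144432 := ndS (p := 41241) (l := 7) rfl N41241 D144432
theorem N74285 : nd 74285 = n144433 := ndS (p := 41242) (l := 0) rfl N41242 D144433
theorem N74286 : nd 74286 = n144434 := ndS (p := 41242) (l := 1) rfl N41242 D144434
theorem N74287 : nd 74287 = n144435 := ndS (p := 41242) (l := 5) rfl N41242 D144435
theorem N74288 : nd 74288 = n144436 := ndS (p := 41242) (l := 7) rfl N41242 D144436
theorem N74289 : nd 74289 = n144437 := ndS (p := 41243) (l := 3) rfl N41243 D144437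
theorem N74290 : nd 74290 = n144438 := ndS (p := 41243) (l := 5) rfl N41243 D144438
theorem N74291 : nd 74291 = n144439 := ndS (p := 41244) (l := 3) rfl N41244 D144439
theorem N74292 : nd 74292 = n144440 := ndS (p := 41244) (l := 5) rfl N41244 D144440
theorem N74293 : nd 74293 = n144441 := ndS (p := 41244) (l := 6) rfl N41244 D144441
theorem N74294 : nd 74294 = n144442 := ndS (p := 41245) (l := 0) rfl N41245 D144442
theorem N74295 : nd 74295 = n144443 := ndS (p := 41245) (l := 1) rfl N41245 D144443
theorem N74296 : nd 74296 = n144444 := ndS (p := 41245) (l := 4) rfl N41245 D144444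
theorem N74297 : nd 74297 = n144445 := ndS (p := 41245) (l := 7) rfl N41245 D144445
theorem N74298 : nd 74298 = n144446 := ndS (p := 41247) (l := 3) rfl N41247 D144446
theorem N74299 : nd 74299 = n144447 := ndS (p := 41247) (l := 5) rfl N41247 D144447
theorem N74300 : nd 74300 = n144448 := ndS (p := 41249) (l := 3) rfl N41249 D144448
theorem N74301 : nd 74301 = n144449 := ndS (p := 41249) (l := 5) rfl N41249 D144449
theorem N74302 : nd 74302 = n144451 := ndS (p := 41251) (l := 1) rfl N41251 D144451
theorem N74303 : nd 74303 = n144452 := ndS (p := 41251) (l := 3) rfl N41251 D144452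
theorem N74304 : nd 74304 = n144453 := ndS (p := 41251) (l := 5) rfl N41251 D144453
theorem N74305 : nd 74305 = n144459 := ndS (p := 41252) (l := 6) rfl N41252 D144459
theorem N74306 : nd 74306 = n144460 := ndS (p := 41253) (l := 5) rfl N41253 D144460
theorem N74307 : nd 74307 = n144461 := ndS (p := 41253) (l := 6) rfl N41253 D144461
theorem N74308 : nd 74308 = n144465 := ndS (p := 41255) (l := 5) rfl N41255 D144465
theorem N74309 : nd 74309 = n144466 := ndS (p := 41255) (l := 7) rfl N41255 D144466
theorem N74310 : nd 74310 = n144467 := ndS (p := 41256) (l := 3) rfl N41256 D144467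
theorem N74311 : nd 74311 = n144468 := ndS (p := 41256) (l := 4) rfl N41256 D144468
theorem N74312 : nd 74312 = n144470 := ndS (p := 41257) (l := 3) rfl N41257 D144470
theorem N74313 : nd 74313 = n144471 := ndS (p := 41257) (l := 4) rfl N41257 D144471
theorem N74314 : nd 74314 = n144474 := ndS (p := 41258) (l := 0) rfl N41258 D144474
theorem N74315 : nd 74315 = n144475 := ndS (p := 41258) (l := 1) rfl N41258 D144475
theorem N74316 : nd 74316 = n144476 := ndS (p := 41258) (l := 4) rfl N41258 D144476
theorem N74317 : nd 74317 = n144477 := ndS (p := 41258) (l := 7) rfl N41258 D144477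
theorem N74318 : nd 74318 = n144481 := ndS (p := 41260) (l := 4) rfl N41260 D144481
theorem N74319 : nd 74319 = n144490 := ndS (p := 41264) (l := 5) rfl N41264 D144490
theorem N74320 : nd 74320 = n144493 := ndS (p := 41267) (l := 0) rfl N41267 D144493
theorem N74321 : nd 74321 = n144494 := ndS (p := 41267) (l := 1) rfl N41267 D144494
theorem N74322 : nd 74322 = n144496 := ndS (p := 41267) (l := 7) rfl N41267 D144496
theorem N74323 : nd 74323 = n144497 := ndS (p := 41268) (l := 3) rfl N41268 D144497
theorem N74324 : nd 74324 = n144500 := ndS (p := 41270) (l := 1) rfl N41270 D144500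
theorem N74325 : nd 74325 = n144501 := ndS (p := 41270) (l := 2) rfl N41270 D144501
theorem N74326 : nd 74326 = n144502 := ndS (p := 41270) (l := 5) rfl N41270 D144502
theorem N74327 : nd 74327 = n144503 := ndS (p := 41270) (l := 6) rfl N41270 D144503
theorem N74328 : nd 74328 = n144504 := ndS (p := 41271) (l := 0) rfl N41271 D144504
theorem N74329 : nd 74329 = n144505 := ndS (p := 41271) (l := 1) rfl N41271 D144505
theorem N74330 : nd 74330 = n144506 := ndS (p := 41271) (l := 4) rfl N41271 D144506
theorem N74331 : nd 74331 = n144507 := ndS (p := 41271) (l := 6) rfl N41271 D144507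
theorem N74332 : nd 74332 = n144508 := ndS (p := 41272) (l := 0) rfl N41272 D144508
theorem N74333 : nd 74333 = n144509 := ndS (p := 41272) (l := 1) rfl N41272 D144509
theorem N74334 : nd 74334 = n144510 := ndS (p := 41272) (l := 5) rfl N41272 D144510
theorem N74335 : nd 74335 = n144511 := ndS (p := 41272) (l := 7) rfl N41272 D144511
theorem N74336 : nd 74336 = n144512 := ndS (p := 41273) (l := 0) rfl N41273 D144512
theorem N74337 : nd 74337 = n144513 := ndS (p := 41273) (l := 1) rfl N41273 D144513
theorem N74338 : nd 74338 = n144514 := ndS (p := 41273) (l := 3) rfl N41273 D144514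
theorem N74339 : nd 74339 = n144515 := ndS (p := 41273) (l := 5) rfl N41273 D144515
theorem N74340 : nd 74340 = n144516 := ndS (p := 41273) (l := 6) rfl N41273 D144516
theorem N74341 : nd 74341 = n144519 := ndS (p := 41274) (l := 5) rfl N41274 D144519
theorem N74342 : nd 74342 = n144520 := ndS (p := 41274) (l := 7) rfl N41274 D144520
theorem N74343 : nd 74343 = n144533 := ndS (p := 41276) (l := 4) rfl N41276 D144533
theorem N74344 : nd 74344 = n144546 := ndS (p := 41280) (l := 5) rfl N41280 D144546
theorem N74345 : nd 74345 = n144547 := ndS (p := 41280) (l := 6) rfl N41280 D144547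
theorem N74346 : nd 74346 = n144548 := ndS (p := 41281) (l := 4) rfl N41281 D144548
theorem N74347 : nd 74347 = n144549 := ndS (p := 41281) (l := 6) rfl N41281 D144549
theorem N74348 : nd 74348 = n144550 := ndS (p := 41282) (l := 0) rfl N41282 D144550
theorem N74349 : nd 74349 = n144551 := ndS (p := 41282) (l := 1) rfl N41282 D144551
theorem N74350 : nd 74350 = n144552 := ndS (p := 41282) (l := 5) rfl N41282 D144552
theorem N74351 : nd 74351 = n144553 := ndS (p := 41282) (l := 7) rfl N41282 D144553
theorem N74352 : nd 74352 = n144554 := ndS (p := 41283) (l := 3) rfl N41283 D144554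
theorem N74353 : nd 74353 = n144555 := ndS (p := 41283) (l := 5) rfl N41283 D144555
theorem N74354 : nd 74354 = n144556 := ndS (p := 41283) (l := 6) rfl N41283 D144556
theorem N74355 : nd 74355 = n144559 := ndS (p := 41284) (l := 5) rfl N41284 D144559
theorem N74356 : nd 74356 = n144573 := ndS (p := 41286) (l := 4) rfl N41286 D144573
theorem N74357 : nd 74357 = n144708 := ndS (p := 41289) (l := 3) rfl N41289 D144708
theorem N74358 : nd 74358 = n144709 := ndS (p := 41289) (l := 5) rfl N41289 D144709
theorem N74359 : nd 74359 = n144710 := ndS (p := 41290) (l := 3) rfl N41290 D144710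
theorem N74360 : nd 74360 = n144711 := ndS (p := 41290) (l := 5) rfl N41290 D144711
theorem N74361 : nd 74361 = n144712 := ndS (p := 41290) (l := 6) rfl N41290 D144712
theorem N74362 : nd 74362 = n144713 := ndS (p := 41292) (l := 3) rfl N41292 D144713
theorem N74363 : nd 74363 = n144714 := ndS (p := 41292) (l := 5) rfl N41292 D144714
theorem N74364 : nd 74364 = n144720 := ndS (p := 41293) (l := 0) rfl N41293 D144720
theorem N74365 : nd 74365 = n144721 := ndS (p := 41293) (l := 4) rfl N41293 D144721
theorem N74366 : nd 74366 = n144723 := ndS (p := 41294) (l := 0) rfl N41294 D144723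
theorem N74367 : nd 74367 = n144724 := ndS (p := 41294) (l := 1) rfl N41294 D144724
theorem N74368 : nd 74368 = n144726 := ndS (p := 41294) (l := 7) rfl N41294 D144726
theorem N74369 : nd 74369 = n144727 := ndS (p := 41295) (l := 3) rfl N41295 D144727
theorem N74370 : nd 74370 = n144728 := ndS (p := 41295) (l := 4) rfl N41295 D144728
theorem N74371 : nd 74371 = n144729 := ndS (p := 41296) (l := 4) rfl N41296 D144729
theorem N74372 : nd 74372 = n144754 := ndS (p := 41298) (l := 5) rfl N41298 D144754
theorem N74373 : nd 74373 = n144755 := ndS (p := 41298) (l := 6) rfl N41298 D144755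
theorem N74374 : nd 74374 = n144764 := ndS (p := 41300) (l := 6) rfl N41300 D144764
theorem N74375 : nd 74375 = n144765 := ndS (p := 41301) (l := 1) rfl N41301 D144765
theorem N74376 : nd 74376 = n144778 := ndS (p := 41305) (l := 0) rfl N41305 D144778
theorem N74377 : nd 74377 = n144779 := ndS (p := 41305) (l := 1) rfl N41305 D144779
theorem N74378 : nd 74378 = n144780 := ndS (p := 41305) (l := 5) rfl N41305 D144780
theorem N74379 : nd 74379 = n144782 := ndS (p := 41306) (l := 3) rfl N41306 D144782
theorem N74380 : nd 74380 = n144783 := ndS (p := 41306) (l := 4) rfl N41306 D144783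
theorem N74381 : nd 74381 = n144784 := ndS (p := 41306) (l := 5) rfl N41306 D144784
theorem N74382 : nd 74382 = n144785 := ndS (p := 41307) (l := 3) rfl N41307 D144785
theorem N74383 : nd 74383 = n144786 := ndS (p := 41307) (l := 4) rfl N41307 D144786
theorem N74384 : nd 74384 = n144787 := ndS (p := 41307) (l := 5) rfl N41307 D144787
theorem N74385 : nd 74385 = n144788 := ndS (p := 41307) (l := 6) rfl N41307 D144788
theorem N74386 : nd 74386 = n144794 := ndS (p := 41311) (l := 7) rfl N41311 D144794
theorem N74387 : nd 74387 = n144801 := ndS (p := 41313) (l := 0) rfl N41313 D144801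
theorem N74388 : nd 74388 = n144802 := ndS (p := 41313) (l := 1) rfl N41313 D144802
theorem N74389 : nd 74389 = n144804 := ndS (p := 41313) (l := 7) rfl N41313 D144804
theorem N74390 : nd 74390 = n144806 := ndS (p := 41314) (l := 4) rfl N41314 D144806
theorem N74391 : nd 74391 = n144808 := ndS (p := 41315) (l := 4) rfl N41315 D144808
theorem N74392 : nd 74392 = n144815 := ndS (p := 41318) (l := 3) rfl N41318 D144815
theorem N74393 : nd 74393 = n144816 := ndS (p := 41318) (l := 6) rfl N41318 D144816
theorem N74394 : nd 74394 = n144817 := ndS (p := 41319) (l := 6) rfl N41319 D144817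
theorem N74395 : nd 74395 = n144818 := ndS (p := 41320) (l := 6) rfl N41320 D144818
theorem N74396 : nd 74396 = n144819 := ndS (p := 41321) (l := 0) rfl N41321 D144819
theorem N74397 : nd 74397 = n144823 := ndS (p := 41322) (l := 4) rfl N41322 D144823
theorem N74398 : nd 74398 = n144825 := ndS (p := 41323) (l := 3) rfl N41323 D144825
theorem N74399 : nd 74399 = n144827 := ndS (p := 41323) (l := 6) rfl N41323 D144827
theorem N74400 : nd 74400 = n144832 := ndS (p := 41325) (l := 6) rfl N41325 D144832
theorem N74401 : nd 74401 = n144839 := ndS (p := 41331) (l := 6) rfl N41331 D144839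
theorem N74402 : nd 74402 = n144844 := ndS (p := 41332) (l := 3) rfl N41332 D144844
theorem N74403 : nd 74403 = n144846 := ndS (p := 41332) (l := 5) rfl N41332 D144846
theorem N74404 : nd 74404 = n144853 := ndS (p := 41336) (l := 6) rfl N41336 D144853
theorem N74405 : nd 74405 = n144854 := ndS (p := 41338) (l := 6) rfl N41338 D144854
theorem N74406 : nd 74406 = n144858 := ndS (p := 41339) (l := 0) rfl N41339 D144858
theorem N74407 : nd 74407 = n144860 := ndS (p := 41339) (l := 7) rfl N41339 D144860
theorem N74408 : nd 74408 = n144861 := ndS (p := 41342) (l := 4) rfl N41342 D144861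
theorem N74409 : nd 74409 = n144864 := ndS (p := 41343) (l := 3) rfl N41343 D144864
theorem N74410 : nd 74410 = n144866 := ndS (p := 41343) (l := 6) rfl N41343 D144866
theorem N74411 : nd 74411 = n144867 := ndS (p := 41344) (l := 0) rfl N41344 D144867
theorem N74412 : nd 74412 = n144869 := ndS (p := 41344) (l := 7) rfl N41344 D144869
theorem N74413 : nd 74413 = n144874 := ndS (p := 41347) (l := 6) rfl N41347 D144874
theorem N74414 : nd 74414 = n144876 := ndS (p := 41348) (l := 5) rfl N41348 D144876
theorem N74415 : nd 74415 = n144877 := ndS (p := 41348) (l := 6) rfl N41348 D144877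
theorem N74416 : nd 74416 = n144890 := ndS (p := 41350) (l := 3) rfl N41350 D144890
theorem N74417 : nd 74417 = n144891 := ndS (p := 41350) (l := 4) rfl N41350 D144891
theorem N74418 : nd 74418 = n144893 := ndS (p := 41350) (l := 6) rfl N41350 D144893
theorem N74419 : nd 74419 = n144895 := ndS (p := 41351) (l := 3) rfl N41351 D144895
theorem N74420 : nd 74420 = n144901 := ndS (p := 41355) (l := 6) rfl N41355 D144901
theorem N74421 : nd 74421 = n144902 := ndS (p := 41357) (l := 6) rfl N41357 D144902
theorem N74422 : nd 74422 = n144903 := ndS (p := 41359) (l := 6) rfl N41359 D144903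
theorem N74423 : nd 74423 = n144904 := ndS (p := 41360) (l := 0) rfl N41360 D144904
theorem N74424 : nd 74424 = n144905 := ndS (p := 41360) (l := 1) rfl N41360 D144905
theorem N74425 : nd 74425 = n144906 := ndS (p := 41360) (l := 7) rfl N41360 D144906
theorem N74426 : nd 74426 = n144907 := ndS (p := 41362) (l := 0) rfl N41362 D144907
theorem N74427 : nd 74427 = n144909 := ndS (p := 41362) (l := 7) rfl N41362 D144909
theorem N74428 : nd 74428 = n144910 := ndS (p := 41363) (l := 3) rfl N41363 D144910
theorem N74429 : nd 74429 = n144911 := ndS (p := 41363) (l := 5) rfl N41363 D144911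
theorem N74430 : nd 74430 = n144912 := ndS (p := 41363) (l := 6) rfl N41363 D144912
theorem N74431 : nd 74431 = n144913 := ndS (p := 41364) (l := 3) rfl N41364 D144913
theorem N74432 : nd 74432 = n144914 := ndS (p := 41364) (l := 5) rfl N41364 D144914
theorem N74433 : nd 74433 = n144915 := ndS (p := 41364) (l := 6) rfl N41364 D144915
theorem N74434 : nd 74434 = n144917 := ndS (p := 41365) (l := 1) rfl N41365 D144917
theorem N74435 : nd 74435 = n144921 := ndS (p := 41366) (l := 1) rfl N41366 D144921
theorem N74436 : nd 74436 = n144928 := ndS (p := 41370) (l := 0) rfl N41370 D144928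
theorem N74437 : nd 74437 = n144929 := ndS (p := 41371) (l := 6) rfl N41371 D144929
theorem N74438 : nd 74438 = n144931 := ndS (p := 41372) (l := 0) rfl N41372 D144931
theorem N74439 : nd 74439 = n144932 := ndS (p := 41372) (l := 1) rfl N41372 D144932
theorem N74440 : nd 74440 = n144933 := ndS (p := 41372) (l := 7) rfl N41372 D144933
theorem N74441 : nd 74441 = n144934 := ndS (p := 41373) (l := 0) rfl N41373 D144934
theorem N74442 : nd 74442 = n144936 := ndS (p := 41373) (l := 7) rfl N41373 D144936
theorem N74443 : nd 74443 = n144938 := ndS (p := 41374) (l := 1) rfl N41374 D144938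
theorem N74444 : nd 74444 = n144939 := ndS (p := 41374) (l := 2) rfl N41374 D144939
theorem N74445 : nd 74445 = n144940 := ndS (p := 41374) (l := 5) rfl N41374 D144940
theorem N74446 : nd 74446 = n144941 := ndS (p := 41374) (l := 6) rfl N41374 D144941
theorem N74447 : nd 74447 = n144942 := ndS (p := 41375) (l := 6) rfl N41375 D144942
theorem N74448 : nd 74448 = n144943 := ndS (p := 41376) (l := 0) rfl N41376 D144943
theorem N74449 : nd 74449 = n144944 := ndS (p := 41376) (l := 1) rfl N41376 D144944
theorem N74450 : nd 74450 = n144945 := ndS (p := 41376) (l := 5) rfl N41376 D144945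
theorem N74451 : nd 74451 = n144946 := ndS (p := 41376) (l := 7) rfl N41376 D144946
theorem N74452 : nd 74452 = n144947 := ndS (p := 41378) (l := 0) rfl N41378 D144947
theorem N74453 : nd 74453 = n144960 := ndS (p := 41381) (l := 3) rfl N41381 D144960
theorem N74454 : nd 74454 = n144963 := ndS (p := 41381) (l := 6) rfl N41381 D144963
theorem N74455 : nd 74455 = n144964 := ndS (p := 41385) (l := 6) rfl N41385 D144964
theorem N74456 : nd 74456 = n144965 := ndS (p := 41386) (l := 0) rfl N41386 D144965
theorem N74457 : nd 74457 = n144966 := ndS (p := 41386) (l := 1) rfl N41386 D144966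
theorem N74458 : nd 74458 = n144967 := ndS (p := 41386) (l := 7) rfl N41386 D144967
theorem N74459 : nd 74459 = n144970 := ndS (p := 41388) (l := 1) rfl N41388 D144970
theorem N74460 : nd 74460 = n144971 := ndS (p := 41388) (l := 2) rfl N41388 D144971
theorem N74461 : nd 74461 = n144972 := ndS (p := 41388) (l := 5) rfl N41388 D144972
theorem N74462 : nd 74462 = n144973 := ndS (p := 41388) (l := 6) rfl N41388 D144973
theorem N74463 : nd 74463 = n144974 := ndS (p := 41389) (l := 1) rfl N41389 D144974
theorem N74464 : nd 74464 = n144975 := ndS (p := 41389) (l := 6) rfl N41389 D144975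
theorem N74465 : nd 74465 = n144976 := ndS (p := 41390) (l := 0) rfl N41390 D144976
theorem N74466 : nd 74466 = n144977 := ndS (p := 41390) (l := 1) rfl N41390 D144977
theorem N74467 : nd 74467 = n144978 := ndS (p := 41390) (l := 5) rfl N41390 D144978
theorem N74468 : nd 74468 = n144979 := ndS (p := 41390) (l := 7) rfl N41390 D144979
theorem N74469 : nd 74469 = n144982 := ndS (p := 41391) (l := 4) rfl N41391 D144982
theorem N74470 : nd 74470 = n144984 := ndS (p := 41391) (l := 6) rfl N41391 D144984
theorem N74471 : nd 74471 = n144992 := ndS (p := 41393) (l := 6) rfl N41393 D144992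
theorem N74472 : nd 74472 = n144994 := ndS (p := 41395) (l := 0) rfl N41395 D144994
theorem N74473 : nd 74473 = n144995 := ndS (p := 41395) (l := 2) rfl N41395 D144995
theorem N74474 : nd 74474 = n144996 := ndS (p := 41395) (l := 5) rfl N41395 D144996
theorem N74475 : nd 74475 = n144997 := ndS (p := 41395) (l := 6) rfl N41395 D144997
theorem N74476 : nd 74476 = n144998 := ndS (p := 41396) (l := 6) rfl N41396 D144998
theorem N74477 : nd 74477 = n144999 := ndS (p := 41397) (l := 0) rfl N41397 D144999
theorem N74478 : nd 74478 = n145005 := ndS (p := 41398) (l := 5) rfl N41398 D145005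
theorem N74479 : nd 74479 = n145006 := ndS (p := 41398) (l := 6) rfl N41398 D145006
theorem N74480 : nd 74480 = n145007 := ndS (p := 41399) (l := 6) rfl N41399 D145007
theorem N74481 : nd 74481 = n145010 := ndS (p := 41400) (l := 5) rfl N41400 D145010
theorem N74482 : nd 74482 = n145011 := ndS (p := 41400) (l := 7) rfl N41400 D145011
theorem N74483 : nd 74483 = n145017 := ndS (p := 41401) (l := 6) rfl N41401 D145017
theorem N74484 : nd 74484 = n145022 := ndS (p := 41403) (l := 3) rfl N41403 D145022
theorem N74485 : nd 74485 = n145023 := ndS (p := 41403) (l := 6) rfl N41403 D145023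
theorem N74486 : nd 74486 = n145025 := ndS (p := 41404) (l := 6) rfl N41404 D145025
theorem N74487 : nd 74487 = n145026 := ndS (p := 41405) (l := 3) rfl N41405 D145026
theorem N74488 : nd 74488 = n145030 := ndS (p := 41406) (l := 5) rfl N41406 D145030
theorem N74489 : nd 74489 = n145054 := ndS (p := 41408) (l := 2) rfl N41408 D145054
theorem N74490 : nd 74490 = n145055 := ndS (p := 41408) (l := 4) rfl N41408 D145055
theorem N74491 : nd 74491 = n145056 := ndS (p := 41408) (l := 5) rfl N41408 D145056
theorem N74492 : nd 74492 = n145057 := ndS (p := 41408) (l := 6) rfl N41408 D145057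
theorem N74493 : nd 74493 = n145063 := ndS (p := 41409) (l := 6) rfl N41409 D145063
theorem N74494 : nd 74494 = n145066 := ndS (p := 41410) (l := 4) rfl N41410 D145066
theorem N74495 : nd 74495 = n145074 := ndS (p := 41412) (l := 4) rfl N41412 D145074
theorem N74496 : nd 74496 = n145075 := ndS (p := 41412) (l := 5) rfl N41412 D145075
theorem N74497 : nd 74497 = n145076 := ndS (p := 41412) (l := 6) rfl N41412 D145076
theorem N74498 : nd 74498 = n145077 := ndS (p := 41413) (l := 3) rfl N41413 D145077
theorem N74499 : nd 74499 = n145078 := ndS (p := 41413) (l := 5) rfl N41413 D145078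
theorem N74500 : nd 74500 = n145079 := ndS (p := 41413) (l := 6) rfl N41413 D145079
theorem N74501 : nd 74501 = n145083 := ndS (p := 41415) (l := 5) rfl N41415 D145083
theorem N74502 : nd 74502 = n145084 := ndS (p := 41415) (l := 7) rfl N41415 D145084
theorem N74503 : nd 74503 = n145101 := ndS (p := 41420) (l := 1) rfl N41420 D145101
theorem N74504 : nd 74504 = n145102 := ndS (p := 41420) (l := 3) rfl N41420 D145102
theorem N74505 : nd 74505 = n145103 := ndS (p := 41420) (l := 5) rfl N41420 D145103
theorem N74506 : nd 74506 = n145109 := ndS (p := 41425) (l := 3) rfl N41425 D145109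
theorem N74507 : nd 74507 = n145110 := ndS (p := 41425) (l := 5) rfl N41425 D145110
theorem N74508 : nd 74508 = n145112 := ndS (p := 41426) (l := 3) rfl N41426 D145112
theorem N74509 : nd 74509 = n145114 := ndS (p := 41427) (l := 3) rfl N41427 D145114
theorem N74510 : nd 74510 = n145115 := ndS (p := 41427) (l := 6) rfl N41427 D145115
theorem N74511 : nd 74511 = n145119 := ndS (p := 41428) (l := 5) rfl N41428 D145119
theorem N74512 : nd 74512 = n145121 := ndS (p := 41429) (l := 0) rfl N41429 D145121
theorem N74513 : nd 74513 = n145122 := ndS (p := 41429) (l := 1) rfl N41429 D145122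
theorem N74514 : nd 74514 = n145123 := ndS (p := 41429) (l := 4) rfl N41429 D145123
theorem N74515 : nd 74515 = n145124 := ndS (p := 41429) (l := 6) rfl N41429 D145124
theorem N74516 : nd 74516 = n145125 := ndS (p := 41429) (l := 7) rfl N41429 D145125
theorem N74517 : nd 74517 = n145126 := ndS (p := 41430) (l := 6) rfl N41430 D145126
theorem N74518 : nd 74518 = n145128 := ndS (p := 41431) (l := 1) rfl N41431 D145128
theorem N74519 : nd 74519 = n145149 := ndS (p := 41432) (l := 4) rfl N41432 D145149
theorem N74520 : nd 74520 = n145233 := ndS (p := 41438) (l := 6) rfl N41438 D145233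
theorem N74521 : nd 74521 = n145257 := ndS (p := 41440) (l := 6) rfl N41440 D145257
theorem N74522 : nd 74522 = n145258 := ndS (p := 41441) (l := 0) rfl N41441 D145258
theorem N74523 : nd 74523 = n145259 := ndS (p := 41441) (l := 7) rfl N41441 D145259
theorem N74524 : nd 74524 = n145261 := ndS (p := 41443) (l := 6) rfl N41443 D145261
theorem N74525 : nd 74525 = n145262 := ndS (p := 41444) (l := 3) rfl N41444 D145262
theorem N74526 : nd 74526 = n145263 := ndS (p := 41444) (l := 6) rfl N41444 D145263
theorem N74527 : nd 74527 = n145264 := ndS (p := 41445) (l := 6) rfl N41445 D145264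
theorem N74528 : nd 74528 = n145267 := ndS (p := 41446) (l := 5) rfl N41446 D145267
theorem N74529 : nd 74529 = n145269 := ndS (p := 41447) (l := 3) rfl N41447 D145269
theorem N74530 : nd 74530 = n145272 := ndS (p := 41448) (l := 4) rfl N41448 D145272
theorem N74531 : nd 74531 = n145274 := ndS (p := 41448) (l := 6) rfl N41448 D145274
theorem N74532 : nd 74532 = n145288 := ndS (p := 41452) (l := 4) rfl N41452 D145288
theorem N74533 : nd 74533 = n145292 := ndS (p := 41453) (l := 4) rfl N41453 D145292
theorem N74534 : nd 74534 = n145293 := ndS (p := 41455) (l := 3) rfl N41455 D145293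
theorem N74535 : nd 74535 = n145294 := ndS (p := 41455) (l := 6) rfl N41455 D145294
theorem N74536 : nd 74536 = n145295 := ndS (p := 41456) (l := 3) rfl N41456 D145295
theorem N74537 : nd 74537 = n145296 := ndS (p := 41456) (l := 6) rfl N41456 D145296
theorem N74538 : nd 74538 = n145297 := ndS (p := 41457) (l := 6) rfl N41457 D145297
theorem N74539 : nd 74539 = n145298 := ndS (p := 41458) (l := 0) rfl N41458 D145298
theorem N74540 : nd 74540 = n145299 := ndS (p := 41458) (l := 1) rfl N41458 D145299
theorem N74541 : nd 74541 = n145300 := ndS (p := 41458) (l := 5) rfl N41458 D145300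
theorem N74542 : nd 74542 = n145301 := ndS (p := 41458) (l := 7) rfl N41458 D145301
theorem N74543 : nd 74543 = n145302 := ndS (p := 41459) (l := 3) rfl N41459 D145302
theorem N74544 : nd 74544 = n145303 := ndS (p := 41459) (l := 5) rfl N41459 D145303
theorem N74545 : nd 74545 = n145304 := ndS (p := 41460) (l := 3) rfl N41460 D145304
theorem N74546 : nd 74546 = n145305 := ndS (p := 41460) (l := 5) rfl N41460 D145305
theorem N74547 : nd 74547 = n145306 := ndS (p := 41460) (l := 6) rfl N41460 D145306
theorem N74548 : nd 74548 = n145307 := ndS (p := 41461) (l := 0) rfl N41461 D145307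
theorem N74549 : nd 74549 = n145308 := ndS (p := 41461) (l := 1) rfl N41461 D145308
theorem N74550 : nd 74550 = n145309 := ndS (p := 41461) (l := 4) rfl N41461 D145309
theorem N74551 : nd 74551 = n145310 := ndS (p := 41461) (l := 7) rfl N41461 D145310
theorem N74552 : nd 74552 = n145311 := ndS (p := 41463) (l := 5) rfl N41463 D145311
theorem N74553 : nd 74553 = n145312 := ndS (p := 41463) (l := 6) rfl N41463 D145312
theorem N74554 : nd 74554 = n145313 := ndS (p := 41466) (l := 6) rfl N41466 D145313
theorem N74555 : nd 74555 = n145314 := ndS (p := 41467) (l := 0) rfl N41467 D145314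
theorem N74556 : nd 74556 = n145315 := ndS (p := 41467) (l := 1) rfl N41467 D145315
theorem N74557 : nd 74557 = n145316 := ndS (p := 41467) (l := 5) rfl N41467 D145316
theorem N74558 : nd 74558 = n145317 := ndS (p := 41467) (l := 7) rfl N41467 D145317
theorem N74559 : nd 74559 = n145318 := ndS (p := 41468) (l := 3) rfl N41468 D145318
theorem N74560 : nd 74560 = n145319 := ndS (p := 41468) (l := 5) rfl N41468 D145319
theorem N74561 : nd 74561 = n145320 := ndS (p := 41469) (l := 3) rfl N41469 D145320
theorem N74562 : nd 74562 = n145321 := ndS (p := 41469) (l := 5) rfl N41469 D145321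
theorem N74563 : nd 74563 = n145322 := ndS (p := 41470) (l := 0) rfl N41470 D145322
theorem N74564 : nd 74564 = n145323 := ndS (p := 41470) (l := 4) rfl N41470 D145323
theorem N74565 : nd 74565 = n145324 := ndS (p := 41470) (l := 7) rfl N41470 D145324
theorem N74566 : nd 74566 = n145325 := ndS (p := 41472) (l := 3) rfl N41472 D145325
theorem N74567 : nd 74567 = n145326 := ndS (p := 41472) (l := 5) rfl N41472 D145326
theorem N74568 : nd 74568 = n145328 := ndS (p := 41474) (l := 3) rfl N41474 D145328
theorem N74569 : nd 74569 = n145329 := ndS (p := 41474) (l := 4) rfl N41474 D145329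
theorem N74570 : nd 74570 = n145330 := ndS (p := 41474) (l := 6) rfl N41474 D145330
theorem N74571 : nd 74571 = n145333 := ndS (p := 41475) (l := 4) rfl N41475 D145333
theorem N74572 : nd 74572 = n145336 := ndS (p := 41477) (l := 0) rfl N41477 D145336
theorem N74573 : nd 74573 = n145337 := ndS (p := 41477) (l := 1) rfl N41477 D145337
theorem N74574 : nd 74574 = n145338 := ndS (p := 41477) (l := 5) rfl N41477 D145338
theorem N74575 : nd 74575 = n145339 := ndS (p := 41477) (l := 7) rfl N41477 D145339
theorem N74576 : nd 74576 = n145340 := ndS (p := 41478) (l := 0) rfl N41478 D145340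
theorem N74577 : nd 74577 = n145341 := ndS (p := 41478) (l := 1) rfl N41478 D145341
theorem N74578 : nd 74578 = n145342 := ndS (p := 41478) (l := 4) rfl N41478 D145342
theorem N74579 : nd 74579 = n145343 := ndS (p := 41478) (l := 7) rfl N41478 D145343
theorem N74580 : nd 74580 = n145345 := ndS (p := 41480) (l := 3) rfl N41480 D145345
theorem N74581 : nd 74581 = n145346 := ndS (p := 41480) (l := 6) rfl N41480 D145346
theorem N74582 : nd 74582 = n145348 := ndS (p := 41481) (l := 3) rfl N41481 D145348
theorem N74583 : nd 74583 = n145349 := ndS (p := 41481) (l := 6) rfl N41481 D145349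
theorem N74584 : nd 74584 = n145350 := ndS (p := 41482) (l := 6) rfl N41482 D145350
theorem N74585 : nd 74585 = n145351 := ndS (p := 41483) (l := 0) rfl N41483 D145351
theorem N74586 : nd 74586 = n145352 := ndS (p := 41483) (l := 1) rfl N41483 D145352
theorem N74587 : nd 74587 = n145353 := ndS (p := 41483) (l := 5) rfl N41483 D145353
theorem N74588 : nd 74588 = n145354 := ndS (p := 41483) (l := 7) rfl N41483 D145354
theorem N74589 : nd 74589 = n145355 := ndS (p := 41484) (l := 0) rfl N41484 D145355
theorem N74590 : nd 74590 = n145356 := ndS (p := 41484) (l := 4) rfl N41484 D145356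
theorem N74591 : nd 74591 = n145357 := ndS (p := 41484) (l := 7) rfl N41484 D145357
theorem N74592 : nd 74592 = n145359 := ndS (p := 41486) (l := 1) rfl N41486 D145359
theorem N74593 : nd 74593 = n145360 := ndS (p := 41486) (l := 6) rfl N41486 D145360
theorem N74594 : nd 74594 = n145361 := ndS (p := 41487) (l := 6) rfl N41487 D145361
theorem N74595 : nd 74595 = n145362 := ndS (p := 41488) (l := 0) rfl N41488 D145362
theorem N74596 : nd 74596 = n145364 := ndS (p := 41488) (l := 5) rfl N41488 D145364
theorem N74597 : nd 74597 = n145365 := ndS (p := 41488) (l := 7) rfl N41488 D145365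
theorem N74598 : nd 74598 = n145366 := ndS (p := 41489) (l := 0) rfl N41489 D145366
theorem N74599 : nd 74599 = n145367 := ndS (p := 41489) (l := 2) rfl N41489 D145367
theorem N74600 : nd 74600 = n145368 := ndS (p := 41489) (l := 6) rfl N41489 D145368
theorem N74601 : nd 74601 = n145370 := ndS (p := 41490) (l := 1) rfl N41490 D145370
theorem N74602 : nd 74602 = n145371 := ndS (p := 41490) (l := 5) rfl N41490 D145371
theorem N74603 : nd 74603 = n145372 := ndS (p := 41490) (l := 7) rfl N41490 D145372
theorem N74604 : nd 74604 = n145373 := ndS (p := 41491) (l := 0) rfl N41491 D145373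
theorem N74605 : nd 74605 = n145374 := ndS (p := 41491) (l := 1) rfl N41491 D145374
theorem N74606 : nd 74606 = n145378 := ndS (p := 41492) (l := 3) rfl N41492 D145378
theorem N74607 : nd 74607 = n145380 := ndS (p := 41492) (l := 5) rfl N41492 D145380
theorem N74608 : nd 74608 = n145381 := ndS (p := 41492) (l := 6) rfl N41492 D145381
theorem N74609 : nd 74609 = n145383 := ndS (p := 41493) (l := 3) rfl N41493 D145383
theorem N74610 : nd 74610 = n145385 := ndS (p := 41493) (l := 5) rfl N41493 D145385
theorem N74611 : nd 74611 = n145391 := ndS (p := 41495) (l := 0) rfl N41495 D145391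
theorem N74612 : nd 74612 = n145393 := ndS (p := 41495) (l := 2) rfl N41495 D145393
theorem N74613 : nd 74613 = n145394 := ndS (p := 41495) (l := 5) rfl N41495 D145394
theorem N74614 : nd 74614 = n145395 := ndS (p := 41495) (l := 6) rfl N41495 D145395
theorem N74615 : nd 74615 = n145396 := ndS (p := 41496) (l := 0) rfl N41496 D145396
theorem N74616 : nd 74616 = n145397 := ndS (p := 41496) (l := 1) rfl N41496 D145397
theorem N74617 : nd 74617 = n145398 := ndS (p := 41496) (l := 4) rfl N41496 D145398
theorem N74618 : nd 74618 = n145399 := ndS (p := 41496) (l := 6) rfl N41496 D145399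
theorem N74619 : nd 74619 = n145401 := ndS (p := 41498) (l := 1) rfl N41498 D145401
theorem N74620 : nd 74620 = n145402 := ndS (p := 41498) (l := 2) rfl N41498 D145402
theorem N74621 : nd 74621 = n145403 := ndS (p := 41498) (l := 5) rfl N41498 D145403
theorem N74622 : nd 74622 = n145404 := ndS (p := 41499) (l := 4) rfl N41499 D145404
theorem N74623 : nd 74623 = n145405 := ndS (p := 41499) (l := 6) rfl N41499 D145405
theorem N74624 : nd 74624 = n145407 := ndS (p := 41500) (l := 4) rfl N41500 D145407
theorem N74625 : nd 74625 = n145408 := ndS (p := 41500) (l := 5) rfl N41500 D145408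
theorem N74626 : nd 74626 = n145413 := ndS (p := 41502) (l := 0) rfl N41502 D145413
theorem N74627 : nd 74627 = n145414 := ndS (p := 41502) (l := 1) rfl N41502 D145414
theorem N74628 : nd 74628 = n145416 := ndS (p := 41502) (l := 5) rfl N41502 D145416
theorem N74629 : nd 74629 = n145417 := ndS (p := 41502) (l := 7) rfl N41502 D145417
theorem N74630 : nd 74630 = n145419 := ndS (p := 41504) (l := 3) rfl N41504 D145419
theorem N74631 : nd 74631 = n145421 := ndS (p := 41506) (l := 0) rfl N41506 D145421
theorem N74632 : nd 74632 = n145423 := ndS (p := 41506) (l := 2) rfl N41506 D145423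
theorem N74633 : nd 74633 = n145424 := ndS (p := 41506) (l := 5) rfl N41506 D145424
theorem N74634 : nd 74634 = n145425 := ndS (p := 41506) (l := 6) rfl N41506 D145425
theorem N74635 : nd 74635 = n145426 := ndS (p := 41507) (l := 0) rfl N41507 D145426
theorem N74636 : nd 74636 = n145427 := ndS (p := 41507) (l := 1) rfl N41507 D145427
theorem N74637 : nd 74637 = n145428 := ndS (p := 41507) (l := 4) rfl N41507 D145428
theorem N74638 : nd 74638 = n145429 := ndS (p := 41507) (l := 6) rfl N41507 D145429
theorem N74639 : nd 74639 = n145431 := ndS (p := 41509) (l := 1) rfl N41509 D145431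
theorem N74640 : nd 74640 = n145432 := ndS (p := 41509) (l := 2) rfl N41509 D145432
theorem N74641 : nd 74641 = n145433 := ndS (p := 41509) (l := 5) rfl N41509 D145433
theorem N74642 : nd 74642 = n145434 := ndS (p := 41510) (l := 4) rfl N41510 D145434
theorem N74643 : nd 74643 = n145435 := ndS (p := 41510) (l := 6) rfl N41510 D145435
theorem N74644 : nd 74644 = n145436 := ndS (p := 41511) (l := 3) rfl N41511 D145436
theorem N74645 : nd 74645 = n145437 := ndS (p := 41511) (l := 5) rfl N41511 D145437
theorem N74646 : nd 74646 = n145438 := ndS (p := 41512) (l := 4) rfl N41512 D145438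
theorem N74647 : nd 74647 = n145439 := ndS (p := 41514) (l := 3) rfl N41514 D145439
theorem N74648 : nd 74648 = n145440 := ndS (p := 41514) (l := 5) rfl N41514 D145440
theorem N74649 : nd 74649 = n145441 := ndS (p := 41515) (l := 4) rfl N41515 D145441
theorem N74650 : nd 74650 = n145442 := ndS (p := 41516) (l := 3) rfl N41516 D145442
theorem N74651 : nd 74651 = n145443 := ndS (p := 41516) (l := 5) rfl N41516 D145443
theorem N74652 : nd 74652 = n145444 := ndS (p := 41517) (l := 3) rfl N41517 D145444
theorem N74653 : nd 74653 = n145445 := ndS (p := 41517) (l := 5) rfl N41517 D145445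
theorem N74654 : nd 74654 = n145446 := ndS (p := 41518) (l := 0) rfl N41518 D145446
theorem N74655 : nd 74655 = n145447 := ndS (p := 41518) (l := 1) rfl N41518 D145447
theorem N74656 : nd 74656 = n145449 := ndS (p := 41518) (l := 5) rfl N41518 D145449
theorem N74657 : nd 74657 = n145451 := ndS (p := 41519) (l := 4) rfl N41519 D145451
theorem N74658 : nd 74658 = n145452 := ndS (p := 41519) (l := 6) rfl N41519 D145452
theorem N74659 : nd 74659 = n145453 := ndS (p := 41521) (l := 3) rfl N41521 D145453
theorem N74660 : nd 74660 = n145455 := ndS (p := 41522) (l := 3) rfl N41522 D145455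
theorem N74661 : nd 74661 = n145457 := ndS (p := 41523) (l := 5) rfl N41523 D145457
theorem N74662 : nd 74662 = n145458 := ndS (p := 41524) (l := 4) rfl N41524 D145458
theorem N74663 : nd 74663 = n145459 := ndS (p := 41524) (l := 6) rfl N41524 D145459
theorem N74664 : nd 74664 = n145460 := ndS (p := 41525) (l := 0) rfl N41525 D145460
theorem N74665 : nd 74665 = n145461 := ndS (p := 41525) (l := 1) rfl N41525 D145461
theorem N74666 : nd 74666 = n145462 := ndS (p := 41525) (l := 7) rfl N41525 D145462
theorem N74667 : nd 74667 = n145469 := ndS (p := 41527) (l := 7) rfl N41527 D145469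
theorem N74668 : nd 74668 = n145470 := ndS (p := 41528) (l := 3) rfl N41528 D145470
theorem N74669 : nd 74669 = n145473 := ndS (p := 41530) (l := 1) rfl N41530 D145473
theorem N74670 : nd 74670 = n145474 := ndS (p := 41530) (l := 5) rfl N41530 D145474
theorem N74671 : nd 74671 = n145475 := ndS (p := 41530) (l := 6) rfl N41530 D145475
theorem N74672 : nd 74672 = n145476 := ndS (p := 41531) (l := 6) rfl N41531 D145476
theorem N74673 : nd 74673 = n145477 := ndS (p := 41532) (l := 0) rfl N41532 D145477
theorem N74674 : nd 74674 = n145478 := ndS (p := 41532) (l := 1) rfl N41532 D145478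
theorem N74675 : nd 74675 = n145479 := ndS (p := 41532) (l := 5) rfl N41532 D145479
theorem N74676 : nd 74676 = n145480 := ndS (p := 41532) (l := 7) rfl N41532 D145480
theorem N74677 : nd 74677 = n145481 := ndS (p := 41533) (l := 1) rfl N41533 D145481
theorem N74678 : nd 74678 = n145488 := ndS (p := 41534) (l := 7) rfl N41534 D145488
theorem N74679 : nd 74679 = n145492 := ndS (p := 41535) (l := 5) rfl N41535 D145492
theorem N74680 : nd 74680 = n145503 := ndS (p := 41538) (l := 6) rfl N41538 D145503
theorem N74681 : nd 74681 = n145504 := ndS (p := 41539) (l := 6) rfl N41539 D145504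
theorem N74682 : nd 74682 = n145505 := ndS (p := 41540) (l := 5) rfl N41540 D145505
theorem N74683 : nd 74683 = n145506 := ndS (p := 41540) (l := 6) rfl N41540 D145506
theorem N74684 : nd 74684 = n145507 := ndS (p := 41541) (l := 4) rfl N41541 D145507
theorem N74685 : nd 74685 = n145508 := ndS (p := 41541) (l := 6) rfl N41541 D145508
theorem N74686 : nd 74686 = n145510 := ndS (p := 41542) (l := 1) rfl N41542 D145510
theorem N74687 : nd 74687 = n145511 := ndS (p := 41542) (l := 5) rfl N41542 D145511
theorem N74688 : nd 74688 = n145512 := ndS (p := 41542) (l := 7) rfl N41542 D145512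
theorem N74689 : nd 74689 = n145513 := ndS (p := 41543) (l := 6) rfl N41543 D145513
theorem N74690 : nd 74690 = n145515 := ndS (p := 41544) (l := 1) rfl N41544 D145515
theorem N74691 : nd 74691 = n145516 := ndS (p := 41544) (l := 5) rfl N41544 D145516
theorem N74692 : nd 74692 = n145517 := ndS (p := 41544) (l := 7) rfl N41544 D145517
theorem N74693 : nd 74693 = n145518 := ndS (p := 41545) (l := 3) rfl N41545 D145518
theorem N74694 : nd 74694 = n145519 := ndS (p := 41545) (l := 5) rfl N41545 D145519
theorem N74695 : nd 74695 = n145520 := ndS (p := 41545) (l := 6) rfl N41545 D145520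
theorem N74696 : nd 74696 = n145522 := ndS (p := 41546) (l := 1) rfl N41546 D145522
theorem N74697 : nd 74697 = n145536 := ndS (p := 41548) (l := 1) rfl N41548 D145536
theorem N74698 : nd 74698 = n145538 := ndS (p := 41548) (l := 7) rfl N41548 D145538
theorem N74699 : nd 74699 = n145540 := ndS (p := 41550) (l := 3) rfl N41550 D145540
theorem N74700 : nd 74700 = n145542 := ndS (p := 41550) (l := 5) rfl N41550 D145542
theorem N74701 : nd 74701 = n145543 := ndS (p := 41550) (l := 6) rfl N41550 D145543
theorem N74702 : nd 74702 = n145549 := ndS (p := 41552) (l := 4) rfl N41552 D145549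
theorem N74703 : nd 74703 = n145565 := ndS (p := 41555) (l := 3) rfl N41555 D145565
theorem N74704 : nd 74704 = n145566 := ndS (p := 41555) (l := 5) rfl N41555 D145566
theorem N74705 : nd 74705 = n145567 := ndS (p := 41555) (l := 6) rfl N41555 D145567
theorem N74706 : nd 74706 = n145569 := ndS (p := 41556) (l := 0) rfl N41556 D145569
theorem N74707 : nd 74707 = n145571 := ndS (p := 41556) (l := 4) rfl N41556 D145571
theorem N74708 : nd 74708 = n145576 := ndS (p := 41557) (l := 5) rfl N41557 D145576
theorem N74709 : nd 74709 = n145582 := ndS (p := 41558) (l := 4) rfl N41558 D145582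
theorem N74710 : nd 74710 = n145583 := ndS (p := 41558) (l := 5) rfl N41558 D145583
theorem N74711 : nd 74711 = n145586 := ndS (p := 41559) (l := 5) rfl N41559 D145586
theorem N74712 : nd 74712 = n145605 := ndS (p := 41561) (l := 3) rfl N41561 D145605
theorem N74713 : nd 74713 = n145632 := ndS (p := 41565) (l := 1) rfl N41565 D145632
theorem N74714 : nd 74714 = n145633 := ndS (p := 41565) (l := 2) rfl N41565 D145633
theorem N74715 : nd 74715 = n145635 := ndS (p := 41565) (l := 7) rfl N41565 D145635
theorem N74716 : nd 74716 = n145640 := ndS (p := 41567) (l := 3) rfl N41567 D145640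
theorem N74717 : nd 74717 = n145641 := ndS (p := 41567) (l := 5) rfl N41567 D145641
theorem N74718 : nd 74718 = n145642 := ndS (p := 41568) (l := 3) rfl N41568 D145642
theorem N74719 : nd 74719 = n145643 := ndS (p := 41568) (l := 5) rfl N41568 D145643
theorem N74720 : nd 74720 = n145644 := ndS (p := 41568) (l := 6) rfl N41568 D145644
theorem N74721 : nd 74721 = n145646 := ndS (p := 41570) (l := 5) rfl N41570 D145646
theorem N74722 : nd 74722 = n145649 := ndS (p := 41571) (l := 2) rfl N41571 D145649
theorem N74723 : nd 74723 = n145651 := ndS (p := 41571) (l := 6) rfl N41571 D145651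
theorem N74724 : nd 74724 = n145652 := ndS (p := 41572) (l := 0) rfl N41572 D145652
theorem N74725 : nd 74725 = n145653 := ndS (p := 41572) (l := 1) rfl N41572 D145653
theorem N74726 : nd 74726 = n145654 := ndS (p := 41572) (l := 4) rfl N41572 D145654
theorem N74727 : nd 74727 = n145655 := ndS (p := 41572) (l := 6) rfl N41572 D145655
theorem N74728 : nd 74728 = n145656 := ndS (p := 41573) (l := 0) rfl N41573 D145656
theorem N74729 : nd 74729 = n145657 := ndS (p := 41573) (l := 1) rfl N41573 D145657
theorem N74730 : nd 74730 = n145658 := ndS (p := 41573) (l := 5) rfl N41573 D145658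
theorem N74731 : nd 74731 = n145660 := ndS (p := 41575) (l := 3) rfl N41575 D145660
theorem N74732 : nd 74732 = n145665 := ndS (p := 41576) (l := 5) rfl N41576 D145665
theorem N74733 : nd 74733 = n145667 := ndS (p := 41577) (l := 0) rfl N41577 D145667
theorem N74734 : nd 74734 = n145668 := ndS (p := 41577) (l := 1) rfl N41577 D145668
theorem N74735 : nd 74735 = n145669 := ndS (p := 41577) (l := 4) rfl N41577 D145669
theorem N74736 : nd 74736 = n145670 := ndS (p := 41577) (l := 6) rfl N41577 D145670
theorem N74737 : nd 74737 = n145673 := ndS (p := 41579) (l := 3) rfl N41579 D145673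
theorem N74738 : nd 74738 = n145686 := ndS (p := 41582) (l := 1) rfl N41582 D145686
theorem N74739 : nd 74739 = n145703 := ndS (p := 41583) (l := 5) rfl N41583 D145703
theorem N74740 : nd 74740 = n145704 := ndS (p := 41584) (l := 4) rfl N41584 D145704
theorem N74741 : nd 74741 = n145720 := ndS (p := 41587) (l := 4) rfl N41587 D145720
theorem N74742 : nd 74742 = n145733 := ndS (p := 41589) (l := 3) rfl N41589 D145733
theorem N74743 : nd 74743 = n145734 := ndS (p := 41589) (l := 6) rfl N41589 D145734
theorem N74744 : nd 74744 = n145738 := ndS (p := 41591) (l := 0) rfl N41591 D145738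
theorem N74745 : nd 74745 = n145740 := ndS (p := 41591) (l := 2) rfl N41591 D145740
theorem N74746 : nd 74746 = n145741 := ndS (p := 41591) (l := 6) rfl N41591 D145741
theorem N74747 : nd 74747 = n145743 := ndS (p := 41592) (l := 1) rfl N41592 D145743
theorem N74748 : nd 74748 = n145744 := ndS (p := 41595) (l := 0) rfl N41595 D145744
theorem N74749 : nd 74749 = n145745 := ndS (p := 41595) (l := 1) rfl N41595 D145745
theorem N74750 : nd 74750 = n145748 := ndS (p := 41596) (l := 3) rfl N41596 D145748
theorem N74751 : nd 74751 = n145753 := ndS (p := 41598) (l := 0) rfl N41598 D145753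
theorem N74752 : nd 74752 = n145755 := ndS (p := 41598) (l := 2) rfl N41598 D145755
theorem N74753 : nd 74753 = n145763 := ndS (p := 41601) (l := 1) rfl N41601 D145763
theorem N74754 : nd 74754 = n145764 := ndS (p := 41601) (l := 2) rfl N41601 D145764
theorem N74755 : nd 74755 = n145765 := ndS (p := 41601) (l := 6) rfl N41601 D145765
theorem N74756 : nd 74756 = n145778 := ndS (p := 41603) (l := 2) rfl N41603 D145778
theorem N74757 : nd 74757 = n145779 := ndS (p := 41603) (l := 6) rfl N41603 D145779
theorem N74758 : nd 74758 = n145781 := ndS (p := 41605) (l := 0) rfl N41605 D145781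
theorem N74759 : nd 74759 = n145782 := ndS (p := 41605) (l := 1) rfl N41605 D145782
theorem N74760 : nd 74760 = n145783 := ndS (p := 41605) (l := 2) rfl N41605 D145783
theorem N74761 : nd 74761 = n145784 := ndS (p := 41605) (l := 6) rfl N41605 D145784
theorem N74762 : nd 74762 = n145804 := ndS (p := 41612) (l := 6) rfl N41612 D145804
theorem N74763 : nd 74763 = n145811 := ndS (p := 41615) (l := 2) rfl N41615 D145811
theorem N74764 : nd 74764 = n145827 := ndS (p := 41617) (l := 7) rfl N41617 D145827
theorem N74765 : nd 74765 = n145889 := ndS (p := 41619) (l := 0) rfl N41619 D145889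
theorem N74766 : nd 74766 = n145897 := ndS (p := 41622) (l := 1) rfl N41622 D145897
theorem N74767 : nd 74767 = n145909 := ndS (p := 41625) (l := 3) rfl N41625 D145909
theorem N74768 : nd 74768 = n145912 := ndS (p := 41628) (l := 0) rfl N41628 D145912
theorem N74769 : nd 74769 = n145913 := ndS (p := 41628) (l := 1) rfl N41628 D145913
theorem N74770 : nd 74770 = n145914 := ndS (p := 41628) (l := 7) rfl N41628 D145914
theorem N74771 : nd 74771 = n145915 := ndS (p := 41629) (l := 3) rfl N41629 D145915
theorem N74772 : nd 74772 = n145917 := ndS (p := 41630) (l := 0) rfl N41630 D145917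
theorem N74773 : nd 74773 = n145918 := ndS (p := 41630) (l := 1) rfl N41630 D145918
theorem N74774 : nd 74774 = n145919 := ndS (p := 41630) (l := 2) rfl N41630 D145919
theorem N74775 : nd 74775 = n145920 := ndS (p := 41630) (l := 5) rfl N41630 D145920
theorem N74776 : nd 74776 = n145921 := ndS (p := 41630) (l := 6) rfl N41630 D145921
theorem N74777 : nd 74777 = n145924 := ndS (p := 41631) (l := 6) rfl N41631 D145924
theorem N74778 : nd 74778 = n145925 := ndS (p := 41632) (l := 0) rfl N41632 D145925
theorem N74779 : nd 74779 = n145926 := ndS (p := 41632) (l := 1) rfl N41632 D145926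
theorem N74780 : nd 74780 = n145927 := ndS (p := 41632) (l := 5) rfl N41632 D145927
theorem N74781 : nd 74781 = n145928 := ndS (p := 41632) (l := 7) rfl N41632 D145928
theorem N74782 : nd 74782 = n145929 := ndS (p := 41633) (l := 4) rfl N41633 D145929
theorem N74783 : nd 74783 = n145931 := ndS (p := 41635) (l := 3) rfl N41635 D145931
theorem N74784 : nd 74784 = n145932 := ndS (p := 41635) (l := 6) rfl N41635 D145932
theorem N74785 : nd 74785 = n145933 := ndS (p := 41636) (l := 0) rfl N41636 D145933
theorem N74786 : nd 74786 = n145935 := ndS (p := 41636) (l := 7) rfl N41636 D145935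
theorem N74787 : nd 74787 = n145936 := ndS (p := 41637) (l := 0) rfl N41637 D145936
theorem N74788 : nd 74788 = n145937 := ndS (p := 41637) (l := 1) rfl N41637 D145937
theorem N74789 : nd 74789 = n145938 := ndS (p := 41637) (l := 2) rfl N41637 D145938
theorem N74790 : nd 74790 = n145939 := ndS (p := 41637) (l := 5) rfl N41637 D145939
theorem N74791 : nd 74791 = n145940 := ndS (p := 41637) (l := 6) rfl N41637 D145940
theorem N74792 : nd 74792 = n145942 := ndS (p := 41639) (l := 0) rfl N41639 D145942
theorem N74793 : nd 74793 = n145945 := ndS (p := 41639) (l := 7) rfl N41639 D145945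
theorem N74794 : nd 74794 = n145949 := ndS (p := 41642) (l := 0) rfl N41642 D145949
theorem N74795 : nd 74795 = n145950 := ndS (p := 41642) (l := 1) rfl N41642 D145950
theorem N74796 : nd 74796 = n145952 := ndS (p := 41642) (l := 5) rfl N41642 D145952
theorem N74797 : nd 74797 = n145953 := ndS (p := 41642) (l := 6) rfl N41642 D145953
theorem N74798 : nd 74798 = n145954 := ndS (p := 41643) (l := 6) rfl N41643 D145954
theorem N74799 : nd 74799 = n145958 := ndS (p := 41644) (l := 7) rfl N41644 D145958
theorem N74800 : nd 74800 = n145964 := ndS (p := 41646) (l := 6) rfl N41646 D145964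
theorem N74801 : nd 74801 = n145967 := ndS (p := 41647) (l := 5) rfl N41647 D145967
theorem N74802 : nd 74802 = n145969 := ndS (p := 41648) (l := 3) rfl N41648 D145969
theorem N74803 : nd 74803 = n145985 := ndS (p := 41650) (l := 0) rfl N41650 D145985
theorem N74804 : nd 74804 = n145986 := ndS (p := 41650) (l := 1) rfl N41650 D145986
theorem N74805 : nd 74805 = n145994 := ndS (p := 41651) (l := 0) rfl N41651 D145994
theorem N74806 : nd 74806 = n145998 := ndS (p := 41651) (l := 5) rfl N41651 D145998
theorem N74807 : nd 74807 = n146007 := ndS (p := 41652) (l := 4) rfl N41652 D146007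
theorem N74808 : nd 74808 = n146013 := ndS (p := 41653) (l := 4) rfl N41653 D146013
theorem N74809 : nd 74809 = n146014 := ndS (p := 41653) (l := 6) rfl N41653 D146014
theorem N74810 : nd 74810 = n146018 := ndS (p := 41655) (l := 0) rfl N41655 D146018
theorem N74811 : nd 74811 = n146020 := ndS (p := 41656) (l := 3) rfl N41656 D146020
theorem N74812 : nd 74812 = n146021 := ndS (p := 41656) (l := 6) rfl N41656 D146021
theorem N74813 : nd 74813 = n146022 := ndS (p := 41657) (l := 6) rfl N41657 D146022
theorem N74814 : nd 74814 = n146024 := ndS (p := 41658) (l := 5) rfl N41658 D146024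
theorem N74815 : nd 74815 = n146026 := ndS (p := 41659) (l := 3) rfl N41659 D146026
theorem N74816 : nd 74816 = n146036 := ndS (p := 41665) (l := 3) rfl N41665 D146036
theorem N74817 : nd 74817 = n146048 := ndS (p := 41666) (l := 3) rfl N41666 D146048
theorem N74818 : nd 74818 = n146097 := ndS (p := 41670) (l := 5) rfl N41670 D146097
theorem N74819 : nd 74819 = n146100 := ndS (p := 41671) (l := 5) rfl N41671 D146100
theorem N74820 : nd 74820 = n146107 := ndS (p := 41673) (l := 1) rfl N41673 D146107
theorem N74821 : nd 74821 = n146108 := ndS (p := 41673) (l := 4) rfl N41673 D146108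
theorem N74822 : nd 74822 = n146125 := ndS (p := 41675) (l := 4) rfl N41675 D146125
theorem N74823 : nd 74823 = n146135 := ndS (p := 41679) (l := 2) rfl N41679 D146135
theorem N74824 : nd 74824 = n146140 := ndS (p := 41681) (l := 3) rfl N41681 D146140
theorem N74825 : nd 74825 = n146142 := ndS (p := 41681) (l := 6) rfl N41681 D146142
theorem N74826 : nd 74826 = n146143 := ndS (p := 41682) (l := 3) rfl N41682 D146143
theorem N74827 : nd 74827 = n146147 := ndS (p := 41683) (l := 1) rfl N41683 D146147
theorem N74828 : nd 74828 = n146148 := ndS (p := 41683) (l := 2) rfl N41683 D146148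
theorem N74829 : nd 74829 = n146156 := ndS (p := 41685) (l := 7) rfl N41685 D146156
theorem N74830 : nd 74830 = n146157 := ndS (p := 41686) (l := 0) rfl N41686 D146157
theorem N74831 : nd 74831 = n146159 := ndS (p := 41686) (l := 2) rfl N41686 D146159
theorem N74832 : nd 74832 = n146162 := ndS (p := 41687) (l := 1) rfl N41687 D146162
theorem N74833 : nd 74833 = n146163 := ndS (p := 41690) (l := 0) rfl N41690 D146163
theorem N74834 : nd 74834 = n146164 := ndS (p := 41690) (l := 1) rfl N41690 D146164
theorem N74835 : nd 74835 = n146165 := ndS (p := 41690) (l := 2) rfl N41690 D146165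
theorem N74836 : nd 74836 = n146166 := ndS (p := 41690) (l := 6) rfl N41690 D146166
theorem N74837 : nd 74837 = n146167 := ndS (p := 41692) (l := 3) rfl N41692 D146167
theorem N74838 : nd 74838 = n146170 := ndS (p := 41693) (l := 3) rfl N41693 D146170
theorem N74839 : nd 74839 = n146178 := ndS (p := 41697) (l := 3) rfl N41697 D146178
theorem N74840 : nd 74840 = n146179 := ndS (p := 41697) (l := 6) rfl N41697 D146179
theorem N74841 : nd 74841 = n146180 := ndS (p := 41698) (l := 0) rfl N41698 D146180
theorem N74842 : nd 74842 = n146181 := ndS (p := 41698) (l := 1) rfl N41698 D146181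
theorem N74843 : nd 74843 = n146182 := ndS (p := 41698) (l := 7) rfl N41698 D146182
theorem N74844 : nd 74844 = n146189 := ndS (p := 41699) (l := 1) rfl N41699 D146189
theorem N74845 : nd 74845 = n146190 := ndS (p := 41699) (l := 7) rfl N41699 D146190
theorem N74846 : nd 74846 = n146229 := ndS (p := 41707) (l := 5) rfl N41707 D146229
theorem N74847 : nd 74847 = n146271 := ndS (p := 41710) (l := 3) rfl N41710 D146271
theorem N74848 : nd 74848 = n146275 := ndS (p := 41711) (l := 4) rfl N41711 D146275
theorem N74849 : nd 74849 = n146279 := ndS (p := 41712) (l := 5) rfl N41712 D146279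
theorem N74850 : nd 74850 = n146286 := ndS (p := 41714) (l := 2) rfl N41714 D146286
theorem N74851 : nd 74851 = n146287 := ndS (p := 41714) (l := 4) rfl N41714 D146287
theorem N74852 : nd 74852 = n146313 := ndS (p := 41716) (l := 0) rfl N41716 D146313
theorem N74853 : nd 74853 = n146315 := ndS (p := 41716) (l := 5) rfl N41716 D146315
theorem N74854 : nd 74854 = n146316 := ndS (p := 41716) (l := 7) rfl N41716 D146316
theorem N74855 : nd 74855 = n146317 := ndS (p := 41718) (l := 4) rfl N41718 D146317
theorem N74856 : nd 74856 = n146319 := ndS (p := 41719) (l := 4) rfl N41719 D146319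
theorem N74857 : nd 74857 = n146320 := ndS (p := 41719) (l := 6) rfl N41719 D146320
theorem N74858 : nd 74858 = n146321 := ndS (p := 41720) (l := 4) rfl N41720 D146321
theorem N74859 : nd 74859 = n146323 := ndS (p := 41721) (l := 0) rfl N41721 D146323
theorem N74860 : nd 74860 = n146325 := ndS (p := 41721) (l := 5) rfl N41721 D146325
theorem N74861 : nd 74861 = n146331 := ndS (p := 41722) (l := 4) rfl N41722 D146331
theorem N74862 : nd 74862 = n146332 := ndS (p := 41723) (l := 5) rfl N41723 D146332
theorem N74863 : nd 74863 = n146339 := ndS (p := 41724) (l := 1) rfl N41724 D146339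
theorem N74864 : nd 74864 = n146340 := ndS (p := 41724) (l := 4) rfl N41724 D146340
theorem N74865 : nd 74865 = n146341 := ndS (p := 41724) (l := 6) rfl N41724 D146341
theorem N74866 : nd 74866 = n146342 := ndS (p := 41725) (l := 0) rfl N41725 D146342
theorem N74867 : nd 74867 = n146343 := ndS (p := 41725) (l := 1) rfl N41725 D146343
theorem N74868 : nd 74868 = n146345 := ndS (p := 41725) (l := 7) rfl N41725 D146345
theorem N74869 : nd 74869 = n146348 := ndS (p := 41726) (l := 4) rfl N41726 D146348
theorem N74870 : nd 74870 = n146350 := ndS (p := 41726) (l := 6) rfl N41726 D146350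
theorem N74871 : nd 74871 = n146356 := ndS (p := 41727) (l := 0) rfl N41727 D146356
theorem N74872 : nd 74872 = n146358 := ndS (p := 41727) (l := 4) rfl N41727 D146358
theorem N74873 : nd 74873 = n146360 := ndS (p := 41729) (l := 3) rfl N41729 D146360
theorem N74874 : nd 74874 = n146361 := ndS (p := 41729) (l := 5) rfl N41729 D146361
theorem N74875 : nd 74875 = n146362 := ndS (p := 41730) (l := 4) rfl N41730 D146362
theorem N74876 : nd 74876 = n146363 := ndS (p := 41730) (l := 6) rfl N41730 D146363
theorem N74877 : nd 74877 = n146364 := ndS (p := 41731) (l := 3) rfl N41731 D146364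
theorem N74878 : nd 74878 = n146366 := ndS (p := 41731) (l := 6) rfl N41731 D146366
theorem N74879 : nd 74879 = n146370 := ndS (p := 41733) (l := 3) rfl N41733 D146370
theorem N74880 : nd 74880 = n146371 := ndS (p := 41733) (l := 6) rfl N41733 D146371
theorem N74881 : nd 74881 = n146372 := ndS (p := 41734) (l := 0) rfl N41734 D146372
theorem N74882 : nd 74882 = n146378 := ndS (p := 41735) (l := 5) rfl N41735 D146378
theorem N74883 : nd 74883 = n146379 := ndS (p := 41735) (l := 6) rfl N41735 D146379
theorem N74884 : nd 74884 = n146394 := ndS (p := 41739) (l := 3) rfl N41739 D146394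
theorem N74885 : nd 74885 = n146399 := ndS (p := 41741) (l := 0) rfl N41741 D146399
theorem N74886 : nd 74886 = n146400 := ndS (p := 41741) (l := 1) rfl N41741 D146400
theorem N74887 : nd 74887 = n146401 := ndS (p := 41741) (l := 5) rfl N41741 D146401
theorem N74888 : nd 74888 = n146403 := ndS (p := 41742) (l := 6) rfl N41742 D146403
theorem N74889 : nd 74889 = n146405 := ndS (p := 41743) (l := 1) rfl N41743 D146405
theorem N74890 : nd 74890 = n146406 := ndS (p := 41743) (l := 5) rfl N41743 D146406
theorem N74891 : nd 74891 = n146407 := ndS (p := 41743) (l := 7) rfl N41743 D146407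
theorem N74892 : nd 74892 = n146415 := ndS (p := 41745) (l := 5) rfl N41745 D146415
theorem N74893 : nd 74893 = n146418 := ndS (p := 41748) (l := 6) rfl N41748 D146418
theorem N74894 : nd 74894 = n146420 := ndS (p := 41749) (l := 1) rfl N41749 D146420
theorem N74895 : nd 74895 = n146426 := ndS (p := 41750) (l := 5) rfl N41750 D146426
theorem N74896 : nd 74896 = n146428 := ndS (p := 41751) (l := 4) rfl N41751 D146428
theorem N74897 : nd 74897 = n146429 := ndS (p := 41752) (l := 4) rfl N41752 D146429
theorem N74898 : nd 74898 = n146431 := ndS (p := 41753) (l := 5) rfl N41753 D146431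
theorem N74899 : nd 74899 = n146434 := ndS (p := 41754) (l := 1) rfl N41754 D146434
theorem N74900 : nd 74900 = n146435 := ndS (p := 41754) (l := 7) rfl N41754 D146435
theorem N74901 : nd 74901 = n146437 := ndS (p := 41756) (l := 0) rfl N41756 D146437
theorem N74902 : nd 74902 = n146438 := ndS (p := 41756) (l := 1) rfl N41756 D146438
theorem N74903 : nd 74903 = n146439 := ndS (p := 41756) (l := 3) rfl N41756 D146439
theorem N74904 : nd 74904 = n146440 := ndS (p := 41756) (l := 5) rfl N41756 D146440
theorem N74905 : nd 74905 = n146444 := ndS (p := 41757) (l := 7) rfl N41757 D146444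
theorem N74906 : nd 74906 = n146446 := ndS (p := 41758) (l := 5) rfl N41758 D146446
theorem N74907 : nd 74907 = n146447 := ndS (p := 41758) (l := 6) rfl N41758 D146447
theorem N74908 : nd 74908 = n146449 := ndS (p := 41759) (l := 1) rfl N41759 D146449
theorem N74909 : nd 74909 = n146450 := ndS (p := 41759) (l := 7) rfl N41759 D146450
theorem N74910 : nd 74910 = n146454 := ndS (p := 41760) (l := 3) rfl N41760 D146454
theorem N74911 : nd 74911 = n146455 := ndS (p := 41760) (l := 5) rfl N41760 D146455
theorem N74912 : nd 74912 = n146456 := ndS (p := 41760) (l := 6) rfl N41760 D146456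
theorem N74913 : nd 74913 = n146457 := ndS (p := 41761) (l := 0) rfl N41761 D146457
theorem N74914 : nd 74914 = n146458 := ndS (p := 41761) (l := 1) rfl N41761 D146458
theorem N74915 : nd 74915 = n146459 := ndS (p := 41761) (l := 2) rfl N41761 D146459
theorem N74916 : nd 74916 = n146460 := ndS (p := 41761) (l := 5) rfl N41761 D146460
theorem N74917 : nd 74917 = n146461 := ndS (p := 41761) (l := 6) rfl N41761 D146461
theorem N74918 : nd 74918 = n146478 := ndS (p := 41765) (l := 1) rfl N41765 D146478
theorem N74919 : nd 74919 = n146480 := ndS (p := 41765) (l := 7) rfl N41765 D146480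
theorem N74920 : nd 74920 = n146481 := ndS (p := 41767) (l := 4) rfl N41767 D146481
theorem N74921 : nd 74921 = n146482 := ndS (p := 41767) (l := 6) rfl N41767 D146482
theorem N74922 : nd 74922 = n146484 := ndS (p := 41768) (l := 5) rfl N41768 D146484
theorem N74923 : nd 74923 = n146485 := ndS (p := 41769) (l := 3) rfl N41769 D146485
theorem N74924 : nd 74924 = n146492 := ndS (p := 41771) (l := 0) rfl N41771 D146492
theorem N74925 : nd 74925 = n146494 := ndS (p := 41771) (l := 6) rfl N41771 D146494
theorem N74926 : nd 74926 = n146496 := ndS (p := 41772) (l := 1) rfl N41772 D146496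
theorem N74927 : nd 74927 = n146509 := ndS (p := 41775) (l := 3) rfl N41775 D146509
theorem N74928 : nd 74928 = n146511 := ndS (p := 41775) (l := 6) rfl N41775 D146511
theorem N74929 : nd 74929 = n146512 := ndS (p := 41776) (l := 0) rfl N41776 D146512
theorem N74930 : nd 74930 = n146513 := ndS (p := 41776) (l := 1) rfl N41776 D146513
theorem N74931 : nd 74931 = n146514 := ndS (p := 41776) (l := 7) rfl N41776 D146514
theorem N74932 : nd 74932 = n146520 := ndS (p := 41778) (l := 6) rfl N41778 D146520
theorem N74933 : nd 74933 = n146523 := ndS (p := 41779) (l := 5) rfl N41779 D146523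
theorem N74934 : nd 74934 = n146532 := ndS (p := 41780) (l := 5) rfl N41780 D146532
theorem N74935 : nd 74935 = n146536 := ndS (p := 41781) (l := 4) rfl N41781 D146536
theorem N74936 : nd 74936 = n146539 := ndS (p := 41783) (l := 1) rfl N41783 D146539
theorem N74937 : nd 74937 = n146540 := ndS (p := 41783) (l := 2) rfl N41783 D146540
theorem N74938 : nd 74938 = n146541 := ndS (p := 41783) (l := 4) rfl N41783 D146541
theorem N74939 : nd 74939 = n146542 := ndS (p := 41783) (l := 5) rfl N41783 D146542
theorem N74940 : nd 74940 = n146543 := ndS (p := 41783) (l := 6) rfl N41783 D146543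
theorem N74941 : nd 74941 = n146544 := ndS (p := 41784) (l := 6) rfl N41784 D146544
theorem N74942 : nd 74942 = n146548 := ndS (p := 41785) (l := 7) rfl N41785 D146548
theorem N74943 : nd 74943 = n146549 := ndS (p := 41786) (l := 0) rfl N41786 D146549
theorem N74944 : nd 74944 = n146550 := ndS (p := 41786) (l := 1) rfl N41786 D146550
theorem N74945 : nd 74945 = n146551 := ndS (p := 41786) (l := 2) rfl N41786 D146551
theorem N74946 : nd 74946 = n146552 := ndS (p := 41786) (l := 5) rfl N41786 D146552
theorem N74947 : nd 74947 = n146554 := ndS (p := 41787) (l := 6) rfl N41787 D146554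
theorem N74948 : nd 74948 = n146556 := ndS (p := 41788) (l := 5) rfl N41788 D146556
theorem N74949 : nd 74949 = n146557 := ndS (p := 41788) (l := 7) rfl N41788 D146557
theorem N74950 : nd 74950 = n146559 := ndS (p := 41789) (l := 6) rfl N41789 D146559
theorem N74951 : nd 74951 = n146562 := ndS (p := 41791) (l := 3) rfl N41791 D146562
theorem N74952 : nd 74952 = n146563 := ndS (p := 41791) (l := 6) rfl N41791 D146563
theorem N74953 : nd 74953 = n146564 := ndS (p := 41792) (l := 0) rfl N41792 D146564
theorem N74954 : nd 74954 = n146565 := ndS (p := 41792) (l := 1) rfl N41792 D146565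
theorem N74955 : nd 74955 = n146567 := ndS (p := 41792) (l := 7) rfl N41792 D146567
theorem N74956 : nd 74956 = n146569 := ndS (p := 41793) (l := 4) rfl N41793 D146569
theorem N74957 : nd 74957 = n146572 := ndS (p := 41794) (l := 3) rfl N41794 D146572
theorem N74958 : nd 74958 = n146573 := ndS (p := 41794) (l := 5) rfl N41794 D146573
theorem N74959 : nd 74959 = n146574 := ndS (p := 41794) (l := 6) rfl N41794 D146574
theorem N74960 : nd 74960 = n146575 := ndS (p := 41795) (l := 0) rfl N41795 D146575
theorem N74961 : nd 74961 = n146576 := ndS (p := 41795) (l := 1) rfl N41795 D146576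
theorem N74962 : nd 74962 = n146578 := ndS (p := 41795) (l := 7) rfl N41795 D146578
theorem N74963 : nd 74963 = n146597 := ndS (p := 41797) (l := 0) rfl N41797 D146597
theorem N74964 : nd 74964 = n146598 := ndS (p := 41797) (l := 1) rfl N41797 D146598
theorem N74965 : nd 74965 = n146610 := ndS (p := 41798) (l := 4) rfl N41798 D146610
theorem N74966 : nd 74966 = n146612 := ndS (p := 41798) (l := 6) rfl N41798 D146612
theorem N74967 : nd 74967 = n146614 := ndS (p := 41799) (l := 5) rfl N41799 D146614
theorem N74968 : nd 74968 = n146619 := ndS (p := 41801) (l := 5) rfl N41801 D146619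
theorem N74969 : nd 74969 = n146622 := ndS (p := 41802) (l := 4) rfl N41802 D146622
theorem N74970 : nd 74970 = n146631 := ndS (p := 41803) (l := 3) rfl N41803 D146631
theorem N74971 : nd 74971 = n146632 := ndS (p := 41803) (l := 5) rfl N41803 D146632
theorem N74972 : nd 74972 = n146635 := ndS (p := 41805) (l := 4) rfl N41805 D146635
theorem N74973 : nd 74973 = n146636 := ndS (p := 41805) (l := 6) rfl N41805 D146636
theorem N74974 : nd 74974 = n146642 := ndS (p := 41808) (l := 0) rfl N41808 D146642
theorem N74975 : nd 74975 = n146643 := ndS (p := 41808) (l := 1) rfl N41808 D146643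
theorem N74976 : nd 74976 = n146644 := ndS (p := 41808) (l := 2) rfl N41808 D146644
theorem N74977 : nd 74977 = n146645 := ndS (p := 41808) (l := 5) rfl N41808 D146645
theorem N74978 : nd 74978 = n146646 := ndS (p := 41809) (l := 0) rfl N41809 D146646
theorem N74979 : nd 74979 = n146647 := ndS (p := 41809) (l := 4) rfl N41809 D146647
theorem N74980 : nd 74980 = n146655 := ndS (p := 41811) (l := 0) rfl N41811 D146655
theorem N74981 : nd 74981 = n146656 := ndS (p := 41811) (l := 1) rfl N41811 D146656
theorem N74982 : nd 74982 = n146658 := ndS (p := 41811) (l := 7) rfl N41811 D146658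
theorem N74983 : nd 74983 = n146659 := ndS (p := 41812) (l := 4) rfl N41812 D146659
theorem N74984 : nd 74984 = n146660 := ndS (p := 41812) (l := 6) rfl N41812 D146660
theorem N74985 : nd 74985 = n146661 := ndS (p := 41814) (l := 4) rfl N41814 D146661
theorem N74986 : nd 74986 = n146662 := ndS (p := 41814) (l := 6) rfl N41814 D146662
theorem N74987 : nd 74987 = n146669 := ndS (p := 41817) (l := 3) rfl N41817 D146669
theorem N74988 : nd 74988 = n146670 := ndS (p := 41817) (l := 6) rfl N41817 D146670
theorem N74989 : nd 74989 = n146672 := ndS (p := 41818) (l := 7) rfl N41818 D146672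
theorem N74990 : nd 74990 = n146679 := ndS (p := 41821) (l := 4) rfl N41821 D146679
theorem N74991 : nd 74991 = n146685 := ndS (p := 41824) (l := 4) rfl N41824 D146685
theorem N74992 : nd 74992 = n146686 := ndS (p := 41825) (l := 0) rfl N41825 D146686
theorem N74993 : nd 74993 = n146690 := ndS (p := 41826) (l := 4) rfl N41826 D146690
theorem N74994 : nd 74994 = n146691 := ndS (p := 41826) (l := 6) rfl N41826 D146691
theorem N74995 : nd 74995 = n146696 := ndS (p := 41828) (l := 7) rfl N41828 D146696
theorem N74996 : nd 74996 = n146704 := ndS (p := 41829) (l := 4) rfl N41829 D146704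
theorem N74997 : nd 74997 = n146707 := ndS (p := 41830) (l := 4) rfl N41830 D146707
theorem N74998 : nd 74998 = n146708 := ndS (p := 41830) (l := 5) rfl N41830 D146708
theorem N74999 : nd 74999 = n146709 := ndS (p := 41830) (l := 6) rfl N41830 D146709
theorem N75000 : nd 75000 = n146711 := ndS (p := 41831) (l := 1) rfl N41831 D146711
theorem N75001 : nd 75001 = n146713 := ndS (p := 41831) (l := 6) rfl N41831 D146713
theorem N75002 : nd 75002 = n146714 := ndS (p := 41832) (l := 0) rfl N41832 D146714
theorem N75003 : nd 75003 = n146718 := ndS (p := 41833) (l := 0) rfl N41833 D146718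
theorem N75004 : nd 75004 = n146719 := ndS (p := 41833) (l := 1) rfl N41833 D146719
theorem N75005 : nd 75005 = n146720 := ndS (p := 41833) (l := 5) rfl N41833 D146720
theorem N75006 : nd 75006 = n146724 := ndS (p := 41835) (l := 4) rfl N41835 D146724
theorem N75007 : nd 75007 = n146725 := ndS (p := 41836) (l := 0) rfl N41836 D146725
theorem N75008 : nd 75008 = n146728 := ndS (p := 41837) (l := 6) rfl N41837 D146728
theorem N75009 : nd 75009 = n146729 := ndS (p := 41839) (l := 3) rfl N41839 D146729
theorem N75010 : nd 75010 = n146731 := ndS (p := 41839) (l := 6) rfl N41839 D146731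
theorem N75011 : nd 75011 = n146732 := ndS (p := 41840) (l := 3) rfl N41840 D146732
theorem N75012 : nd 75012 = n146736 := ndS (p := 41841) (l := 1) rfl N41841 D146736
theorem N75013 : nd 75013 = n146737 := ndS (p := 41841) (l := 2) rfl N41841 D146737
theorem N75014 : nd 75014 = n146748 := ndS (p := 41846) (l := 0) rfl N41846 D146748
theorem N75015 : nd 75015 = n146749 := ndS (p := 41846) (l := 2) rfl N41846 D146749
theorem N75016 : nd 75016 = n146751 := ndS (p := 41846) (l := 5) rfl N41846 D146751
theorem N75017 : nd 75017 = n146753 := ndS (p := 41847) (l := 3) rfl N41847 D146753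
theorem N75018 : nd 75018 = n146755 := ndS (p := 41847) (l := 5) rfl N41847 D146755
theorem N75019 : nd 75019 = n146758 := ndS (p := 41849) (l := 0) rfl N41849 D146758
theorem N75020 : nd 75020 = n146759 := ndS (p := 41849) (l := 1) rfl N41849 D146759
theorem N75021 : nd 75021 = n146767 := ndS (p := 41855) (l := 4) rfl N41855 D146767
theorem N75022 : nd 75022 = n146769 := ndS (p := 41856) (l := 3) rfl N41856 D146769
theorem N75023 : nd 75023 = n146770 := ndS (p := 41856) (l := 5) rfl N41856 D146770
theorem N75024 : nd 75024 = n146776 := ndS (p := 41857) (l := 5) rfl N41857 D146776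
theorem N75025 : nd 75025 = n146779 := ndS (p := 41858) (l := 5) rfl N41858 D146779
theorem N75026 : nd 75026 = n146781 := ndS (p := 41859) (l := 0) rfl N41859 D146781
theorem N75027 : nd 75027 = n146782 := ndS (p := 41859) (l := 1) rfl N41859 D146782
theorem N75028 : nd 75028 = n146783 := ndS (p := 41859) (l := 2) rfl N41859 D146783
theorem N75029 : nd 75029 = n146784 := ndS (p := 41859) (l := 5) rfl N41859 D146784
theorem N75030 : nd 75030 = n146785 := ndS (p := 41859) (l := 6) rfl N41859 D146785
theorem N75031 : nd 75031 = n146786 := ndS (p := 41860) (l := 0) rfl N41860 D146786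
theorem N75032 : nd 75032 = n146787 := ndS (p := 41860) (l := 1) rfl N41860 D146787
theorem N75033 : nd 75033 = n146788 := ndS (p := 41860) (l := 4) rfl N41860 D146788
theorem N75034 : nd 75034 = n146789 := ndS (p := 41860) (l := 6) rfl N41860 D146789
theorem N75035 : nd 75035 = n146790 := ndS (p := 41861) (l := 0) rfl N41861 D146790
theorem N75036 : nd 75036 = n146791 := ndS (p := 41861) (l := 1) rfl N41861 D146791
theorem N75037 : nd 75037 = n146792 := ndS (p := 41861) (l := 5) rfl N41861 D146792
theorem N75038 : nd 75038 = n146796 := ndS (p := 41863) (l := 3) rfl N41863 D146796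
theorem N75039 : nd 75039 = n146797 := ndS (p := 41863) (l := 6) rfl N41863 D146797
theorem N75040 : nd 75040 = n146798 := ndS (p := 41864) (l := 0) rfl N41864 D146798
theorem N75041 : nd 75041 = n146799 := ndS (p := 41864) (l := 1) rfl N41864 D146799
theorem N75042 : nd 75042 = n146802 := ndS (p := 41865) (l := 1) rfl N41865 D146802
theorem N75043 : nd 75043 = n146807 := ndS (p := 41867) (l := 0) rfl N41867 D146807
theorem N75044 : nd 75044 = n146808 := ndS (p := 41867) (l := 1) rfl N41867 D146808
theorem N75045 : nd 75045 = n146822 := ndS (p := 41870) (l := 0) rfl N41870 D146822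
theorem N75046 : nd 75046 = n146823 := ndS (p := 41870) (l := 1) rfl N41870 D146823
theorem N75047 : nd 75047 = n146824 := ndS (p := 41870) (l := 5) rfl N41870 D146824
theorem N75048 : nd 75048 = n146825 := ndS (p := 41870) (l := 6) rfl N41870 D146825
theorem N75049 : nd 75049 = n146826 := ndS (p := 41871) (l := 6) rfl N41871 D146826
theorem N75050 : nd 75050 = n146832 := ndS (p := 41873) (l := 4) rfl N41873 D146832
theorem N75051 : nd 75051 = n146835 := ndS (p := 41874) (l := 4) rfl N41874 D146835
theorem N75052 : nd 75052 = n146837 := ndS (p := 41875) (l := 4) rfl N41875 D146837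
theorem N75053 : nd 75053 = n146838 := ndS (p := 41875) (l := 7) rfl N41875 D146838
theorem N75054 : nd 75054 = n146839 := ndS (p := 41877) (l := 3) rfl N41877 D146839
theorem N75055 : nd 75055 = n146840 := ndS (p := 41878) (l := 4) rfl N41878 D146840
theorem N75056 : nd 75056 = n146841 := ndS (p := 41878) (l := 6) rfl N41878 D146841
theorem N75057 : nd 75057 = n146842 := ndS (p := 41879) (l := 6) rfl N41879 D146842
theorem N75058 : nd 75058 = n146843 := ndS (p := 41880) (l := 0) rfl N41880 D146843
theorem N75059 : nd 75059 = n146844 := ndS (p := 41880) (l := 1) rfl N41880 D146844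
theorem N75060 : nd 75060 = n146845 := ndS (p := 41880) (l := 3) rfl N41880 D146845
theorem N75061 : nd 75061 = n146846 := ndS (p := 41880) (l := 5) rfl N41880 D146846
theorem N75062 : nd 75062 = n146848 := ndS (p := 41881) (l := 0) rfl N41881 D146848
theorem N75063 : nd 75063 = n146850 := ndS (p := 41881) (l := 7) rfl N41881 D146850
theorem N75064 : nd 75064 = n146851 := ndS (p := 41882) (l := 3) rfl N41882 D146851
theorem N75065 : nd 75065 = n146852 := ndS (p := 41882) (l := 5) rfl N41882 D146852
theorem N75066 : nd 75066 = n146853 := ndS (p := 41882) (l := 6) rfl N41882 D146853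
theorem N75067 : nd 75067 = n146854 := ndS (p := 41883) (l := 0) rfl N41883 D146854
theorem N75068 : nd 75068 = n146855 := ndS (p := 41883) (l := 1) rfl N41883 D146855
theorem N75069 : nd 75069 = n146856 := ndS (p := 41883) (l := 7) rfl N41883 D146856
theorem N75070 : nd 75070 = n146857 := ndS (p := 41884) (l := 6) rfl N41884 D146857
theorem N75071 : nd 75071 = n146859 := ndS (p := 41885) (l := 1) rfl N41885 D146859
theorem N75072 : nd 75072 = n146860 := ndS (p := 41885) (l := 3) rfl N41885 D146860
theorem N75073 : nd 75073 = n146861 := ndS (p := 41885) (l := 5) rfl N41885 D146861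
theorem N75074 : nd 75074 = n146862 := ndS (p := 41885) (l := 6) rfl N41885 D146862
theorem N75075 : nd 75075 = n146863 := ndS (p := 41886) (l := 0) rfl N41886 D146863
theorem N75076 : nd 75076 = n146864 := ndS (p := 41886) (l := 1) rfl N41886 D146864
theorem N75077 : nd 75077 = n146865 := ndS (p := 41886) (l := 7) rfl N41886 D146865
theorem N75078 : nd 75078 = n146866 := ndS (p := 41887) (l := 3) rfl N41887 D146866
theorem N75079 : nd 75079 = n146867 := ndS (p := 41887) (l := 5) rfl N41887 D146867
theorem N75080 : nd 75080 = n146869 := ndS (p := 41888) (l := 0) rfl N41888 D146869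
theorem N75081 : nd 75081 = n146871 := ndS (p := 41888) (l := 7) rfl N41888 D146871
theorem N75082 : nd 75082 = n146872 := ndS (p := 41889) (l := 3) rfl N41889 D146872
theorem N75083 : nd 75083 = n146873 := ndS (p := 41889) (l := 5) rfl N41889 D146873
theorem N75084 : nd 75084 = n146874 := ndS (p := 41889) (l := 6) rfl N41889 D146874
theorem N75085 : nd 75085 = n146875 := ndS (p := 41890) (l := 3) rfl N41890 D146875
theorem N75086 : nd 75086 = n146876 := ndS (p := 41890) (l := 5) rfl N41890 D146876
theorem N75087 : nd 75087 = n146877 := ndS (p := 41890) (l := 6) rfl N41890 D146877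
theorem N75088 : nd 75088 = n146878 := ndS (p := 41891) (l := 0) rfl N41891 D146878
theorem N75089 : nd 75089 = n146879 := ndS (p := 41891) (l := 1) rfl N41891 D146879
theorem N75090 : nd 75090 = n146880 := ndS (p := 41891) (l := 2) rfl N41891 D146880
theorem N75091 : nd 75091 = n146881 := ndS (p := 41891) (l := 5) rfl N41891 D146881
theorem N75092 : nd 75092 = n146882 := ndS (p := 41891) (l := 6) rfl N41891 D146882
theorem N75093 : nd 75093 = n146883 := ndS (p := 41892) (l := 6) rfl N41892 D146883
theorem N75094 : nd 75094 = n146884 := ndS (p := 41893) (l := 0) rfl N41893 D146884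
theorem N75095 : nd 75095 = n146885 := ndS (p := 41893) (l := 1) rfl N41893 D146885
theorem N75096 : nd 75096 = n146886 := ndS (p := 41893) (l := 5) rfl N41893 D146886
theorem N75097 : nd 75097 = n146888 := ndS (p := 41894) (l := 4) rfl N41894 D146888
theorem N75098 : nd 75098 = n146889 := ndS (p := 41894) (l := 6) rfl N41894 D146889
theorem N75099 : nd 75099 = n146890 := ndS (p := 41895) (l := 3) rfl N41895 D146890
theorem N75100 : nd 75100 = n146891 := ndS (p := 41895) (l := 4) rfl N41895 D146891
theorem N75101 : nd 75101 = n146892 := ndS (p := 41895) (l := 6) rfl N41895 D146892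
theorem N75102 : nd 75102 = n146893 := ndS (p := 41898) (l := 3) rfl N41898 D146893
theorem N75103 : nd 75103 = n146894 := ndS (p := 41898) (l := 6) rfl N41898 D146894
theorem N75104 : nd 75104 = n146895 := ndS (p := 41899) (l := 3) rfl N41899 D146895
theorem N75105 : nd 75105 = n146896 := ndS (p := 41899) (l := 6) rfl N41899 D146896
theorem N75106 : nd 75106 = n146897 := ndS (p := 41900) (l := 0) rfl N41900 D146897
theorem N75107 : nd 75107 = n146898 := ndS (p := 41900) (l := 1) rfl N41900 D146898
theorem N75108 : nd 75108 = n146899 := ndS (p := 41900) (l := 2) rfl N41900 D146899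
theorem N75109 : nd 75109 = n146900 := ndS (p := 41900) (l := 5) rfl N41900 D146900
theorem N75110 : nd 75110 = n146901 := ndS (p := 41900) (l := 6) rfl N41900 D146901
theorem N75111 : nd 75111 = n146902 := ndS (p := 41901) (l := 0) rfl N41901 D146902
theorem N75112 : nd 75112 = n146903 := ndS (p := 41901) (l := 1) rfl N41901 D146903
theorem N75113 : nd 75113 = n146904 := ndS (p := 41901) (l := 6) rfl N41901 D146904
theorem N75114 : nd 75114 = n146905 := ndS (p := 41902) (l := 0) rfl N41902 D146905
theorem N75115 : nd 75115 = n146906 := ndS (p := 41902) (l := 1) rfl N41902 D146906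
theorem N75116 : nd 75116 = n146907 := ndS (p := 41902) (l := 5) rfl N41902 D146907
theorem N75117 : nd 75117 = n146908 := ndS (p := 41902) (l := 7) rfl N41902 D146908
theorem N75118 : nd 75118 = n146909 := ndS (p := 41903) (l := 4) rfl N41903 D146909
theorem N75119 : nd 75119 = n146910 := ndS (p := 41903) (l := 5) rfl N41903 D146910
theorem N75120 : nd 75120 = n146911 := ndS (p := 41905) (l := 0) rfl N41905 D146911
theorem N75121 : nd 75121 = n146912 := ndS (p := 41905) (l := 1) rfl N41905 D146912
theorem N75122 : nd 75122 = n146913 := ndS (p := 41905) (l := 2) rfl N41905 D146913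
theorem N75123 : nd 75123 = n146914 := ndS (p := 41905) (l := 5) rfl N41905 D146914
theorem N75124 : nd 75124 = n146916 := ndS (p := 41906) (l := 6) rfl N41906 D146916
theorem N75125 : nd 75125 = n146917 := ndS (p := 41907) (l := 0) rfl N41907 D146917
theorem N75126 : nd 75126 = n146918 := ndS (p := 41907) (l := 1) rfl N41907 D146918
theorem N75127 : nd 75127 = n146919 := ndS (p := 41907) (l := 5) rfl N41907 D146919
theorem N75128 : nd 75128 = n146920 := ndS (p := 41907) (l := 7) rfl N41907 D146920
theorem N75129 : nd 75129 = n146921 := ndS (p := 41909) (l := 0) rfl N41909 D146921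
theorem N75130 : nd 75130 = n146924 := ndS (p := 41909) (l := 5) rfl N41909 D146924
theorem N75131 : nd 75131 = n146926 := ndS (p := 41910) (l := 6) rfl N41910 D146926
theorem N75132 : nd 75132 = n146929 := ndS (p := 41911) (l := 5) rfl N41911 D146929
theorem N75133 : nd 75133 = n146931 := ndS (p := 41912) (l := 0) rfl N41912 D146931
theorem N75134 : nd 75134 = n146932 := ndS (p := 41912) (l := 1) rfl N41912 D146932
theorem N75135 : nd 75135 = n146933 := ndS (p := 41912) (l := 2) rfl N41912 D146933
theorem N75136 : nd 75136 = n146934 := ndS (p := 41912) (l := 5) rfl N41912 D146934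
theorem N75137 : nd 75137 = n146935 := ndS (p := 41912) (l := 6) rfl N41912 D146935
theorem N75138 : nd 75138 = n146936 := ndS (p := 41913) (l := 6) rfl N41913 D146936
theorem N75139 : nd 75139 = n146938 := ndS (p := 41914) (l := 7) rfl N41914 D146938
theorem N75140 : nd 75140 = n146940 := ndS (p := 41915) (l := 6) rfl N41915 D146940
theorem N75141 : nd 75141 = n146941 := ndS (p := 41916) (l := 3) rfl N41916 D146941
theorem N75142 : nd 75142 = n146942 := ndS (p := 41916) (l := 6) rfl N41916 D146942
theorem N75143 : nd 75143 = n146943 := ndS (p := 41917) (l := 3) rfl N41917 D146943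
theorem N75144 : nd 75144 = n146945 := ndS (p := 41918) (l := 0) rfl N41918 D146945
theorem N75145 : nd 75145 = n146946 := ndS (p := 41918) (l := 1) rfl N41918 D146946
theorem N75146 : nd 75146 = n146947 := ndS (p := 41918) (l := 5) rfl N41918 D146947
theorem N75147 : nd 75147 = n146948 := ndS (p := 41918) (l := 7) rfl N41918 D146948
theorem N75148 : nd 75148 = n146956 := ndS (p := 41919) (l := 4) rfl N41919 D146956
theorem N75149 : nd 75149 = n146960 := ndS (p := 41920) (l := 4) rfl N41920 D146960
theorem N75150 : nd 75150 = n146962 := ndS (p := 41922) (l := 0) rfl N41922 D146962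
theorem N75151 : nd 75151 = n146963 := ndS (p := 41922) (l := 3) rfl N41922 D146963
theorem N75152 : nd 75152 = n146964 := ndS (p := 41922) (l := 5) rfl N41922 D146964
theorem N75153 : nd 75153 = n146975 := ndS (p := 41924) (l := 3) rfl N41924 D146975
theorem N75154 : nd 75154 = n146976 := ndS (p := 41924) (l := 5) rfl N41924 D146976
theorem N75155 : nd 75155 = n146977 := ndS (p := 41925) (l := 4) rfl N41925 D146977
theorem N75156 : nd 75156 = n146979 := ndS (p := 41926) (l := 5) rfl N41926 D146979
theorem N75157 : nd 75157 = n146980 := ndS (p := 41927) (l := 3) rfl N41927 D146980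
theorem N75158 : nd 75158 = n146982 := ndS (p := 41927) (l := 5) rfl N41927 D146982
theorem N75159 : nd 75159 = n146984 := ndS (p := 41928) (l := 0) rfl N41928 D146984
theorem N75160 : nd 75160 = n146985 := ndS (p := 41928) (l := 1) rfl N41928 D146985
theorem N75161 : nd 75161 = n146986 := ndS (p := 41928) (l := 3) rfl N41928 D146986
theorem N75162 : nd 75162 = n146987 := ndS (p := 41928) (l := 5) rfl N41928 D146987
theorem N75163 : nd 75163 = n146988 := ndS (p := 41928) (l := 7) rfl N41928 D146988
theorem N75164 : nd 75164 = n146991 := ndS (p := 41931) (l := 4) rfl N41931 D146991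
theorem N75165 : nd 75165 = n146995 := ndS (p := 41933) (l := 2) rfl N41933 D146995
theorem N75166 : nd 75166 = n146996 := ndS (p := 41934) (l := 4) rfl N41934 D146996
theorem N75167 : nd 75167 = n146998 := ndS (p := 41935) (l := 4) rfl N41935 D146998
theorem N75168 : nd 75168 = n147001 := ndS (p := 41936) (l := 0) rfl N41936 D147001
theorem N75169 : nd 75169 = n147018 := ndS (p := 41937) (l := 1) rfl N41937 D147018
theorem N75170 : nd 75170 = n147031 := ndS (p := 41939) (l := 3) rfl N41939 D147031
theorem N75171 : nd 75171 = n147034 := ndS (p := 41940) (l := 1) rfl N41940 D147034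
theorem N75172 : nd 75172 = n147035 := ndS (p := 41940) (l := 2) rfl N41940 D147035
theorem N75173 : nd 75173 = n147049 := ndS (p := 41944) (l := 0) rfl N41944 D147049
theorem N75174 : nd 75174 = n147050 := ndS (p := 41944) (l := 1) rfl N41944 D147050
theorem N75175 : nd 75175 = n147051 := ndS (p := 41944) (l := 6) rfl N41944 D147051
theorem N75176 : nd 75176 = n147053 := ndS (p := 41945) (l := 1) rfl N41945 D147053
theorem N75177 : nd 75177 = n147055 := ndS (p := 41945) (l := 7) rfl N41945 D147055
theorem N75178 : nd 75178 = n147058 := ndS (p := 41946) (l := 4) rfl N41946 D147058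
theorem N75179 : nd 75179 = n147059 := ndS (p := 41946) (l := 5) rfl N41946 D147059
theorem N75180 : nd 75180 = n147062 := ndS (p := 41947) (l := 4) rfl N41947 D147062
theorem N75181 : nd 75181 = n147065 := ndS (p := 41948) (l := 4) rfl N41948 D147065
theorem N75182 : nd 75182 = n147066 := ndS (p := 41950) (l := 3) rfl N41950 D147066
theorem N75183 : nd 75183 = n147070 := ndS (p := 41952) (l := 6) rfl N41952 D147070
theorem N75184 : nd 75184 = n147072 := ndS (p := 41953) (l := 1) rfl N41953 D147072
theorem N75185 : nd 75185 = n147073 := ndS (p := 41953) (l := 6) rfl N41953 D147073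
theorem N75186 : nd 75186 = n147075 := ndS (p := 41955) (l := 0) rfl N41955 D147075
theorem N75187 : nd 75187 = n147076 := ndS (p := 41955) (l := 1) rfl N41955 D147076
theorem N75188 : nd 75188 = n147094 := ndS (p := 41956) (l := 5) rfl N41956 D147094
theorem N75189 : nd 75189 = n147114 := ndS (p := 41960) (l := 3) rfl N41960 D147114
theorem N75190 : nd 75190 = n147134 := ndS (p := 41965) (l := 6) rfl N41965 D147134
theorem N75191 : nd 75191 = n147135 := ndS (p := 41966) (l := 0) rfl N41966 D147135
theorem N75192 : nd 75192 = n147136 := ndS (p := 41967) (l := 0) rfl N41967 D147136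
theorem N75193 : nd 75193 = n147137 := ndS (p := 41967) (l := 1) rfl N41967 D147137
theorem N75194 : nd 75194 = n147139 := ndS (p := 41967) (l := 5) rfl N41967 D147139
theorem N75195 : nd 75195 = n147141 := ndS (p := 41968) (l := 6) rfl N41968 D147141
theorem N75196 : nd 75196 = n147142 := ndS (p := 41969) (l := 0) rfl N41969 D147142
theorem N75197 : nd 75197 = n147143 := ndS (p := 41969) (l := 1) rfl N41969 D147143
theorem N75198 : nd 75198 = n147147 := ndS (p := 41970) (l := 4) rfl N41970 D147147
theorem N75199 : nd 75199 = n147148 := ndS (p := 41970) (l := 5) rfl N41970 D147148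
theorem N75200 : nd 75200 = n147150 := ndS (p := 41971) (l := 4) rfl N41971 D147150
theorem N75201 : nd 75201 = n147151 := ndS (p := 41973) (l := 0) rfl N41973 D147151
theorem N75202 : nd 75202 = n147152 := ndS (p := 41973) (l := 1) rfl N41973 D147152
theorem N75203 : nd 75203 = n147153 := ndS (p := 41973) (l := 2) rfl N41973 D147153
theorem N75204 : nd 75204 = n147154 := ndS (p := 41973) (l := 5) rfl N41973 D147154
theorem N75205 : nd 75205 = n147155 := ndS (p := 41973) (l := 6) rfl N41973 D147155
theorem N75206 : nd 75206 = n147156 := ndS (p := 41974) (l := 6) rfl N41974 D147156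
theorem N75207 : nd 75207 = n147158 := ndS (p := 41975) (l := 7) rfl N41975 D147158
theorem N75208 : nd 75208 = n147160 := ndS (p := 41976) (l := 2) rfl N41976 D147160
theorem N75209 : nd 75209 = n147161 := ndS (p := 41976) (l := 5) rfl N41976 D147161
theorem N75210 : nd 75210 = n147163 := ndS (p := 41977) (l := 6) rfl N41977 D147163
theorem N75211 : nd 75211 = n147169 := ndS (p := 41979) (l := 1) rfl N41979 D147169
theorem N75212 : nd 75212 = n147170 := ndS (p := 41979) (l := 5) rfl N41979 D147170
theorem N75213 : nd 75213 = n147172 := ndS (p := 41980) (l := 3) rfl N41980 D147172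
theorem N75214 : nd 75214 = n147173 := ndS (p := 41980) (l := 6) rfl N41980 D147173
theorem N75215 : nd 75215 = n147174 := ndS (p := 41981) (l := 3) rfl N41981 D147174
theorem N75216 : nd 75216 = n147175 := ndS (p := 41981) (l := 6) rfl N41981 D147175
theorem N75217 : nd 75217 = n147176 := ndS (p := 41982) (l := 0) rfl N41982 D147176
theorem N75218 : nd 75218 = n147177 := ndS (p := 41982) (l := 1) rfl N41982 D147177
theorem N75219 : nd 75219 = n147186 := ndS (p := 41984) (l := 4) rfl N41984 D147186
theorem N75220 : nd 75220 = n147188 := ndS (p := 41984) (l := 6) rfl N41984 D147188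
theorem N75221 : nd 75221 = n147189 := ndS (p := 41985) (l := 0) rfl N41985 D147189
theorem N75222 : nd 75222 = n147190 := ndS (p := 41985) (l := 1) rfl N41985 D147190
theorem N75223 : nd 75223 = n147192 := ndS (p := 41985) (l := 7) rfl N41985 D147192
theorem N75224 : nd 75224 = n147193 := ndS (p := 41987) (l := 0) rfl N41987 D147193
theorem N75225 : nd 75225 = n147194 := ndS (p := 41987) (l := 1) rfl N41987 D147194
theorem N75226 : nd 75226 = n147208 := ndS (p := 41989) (l := 4) rfl N41989 D147208
theorem N75227 : nd 75227 = n147209 := ndS (p := 41989) (l := 6) rfl N41989 D147209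
theorem N75228 : nd 75228 = n147226 := ndS (p := 41991) (l := 0) rfl N41991 D147226
theorem N75229 : nd 75229 = n147228 := ndS (p := 41991) (l := 7) rfl N41991 D147228
theorem N75230 : nd 75230 = n147230 := ndS (p := 41992) (l := 1) rfl N41992 D147230
theorem N75231 : nd 75231 = n147231 := ndS (p := 41992) (l := 5) rfl N41992 D147231
theorem N75232 : nd 75232 = n147232 := ndS (p := 41992) (l := 7) rfl N41992 D147232
theorem N75233 : nd 75233 = n147235 := ndS (p := 41994) (l := 2) rfl N41994 D147235
theorem N75234 : nd 75234 = n147236 := ndS (p := 41994) (l := 5) rfl N41994 D147236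
theorem N75235 : nd 75235 = n147237 := ndS (p := 41994) (l := 6) rfl N41994 D147237
theorem N75236 : nd 75236 = n147238 := ndS (p := 41995) (l := 6) rfl N41995 D147238
theorem N75237 : nd 75237 = n147239 := ndS (p := 41996) (l := 0) rfl N41996 D147239
theorem N75238 : nd 75238 = n147240 := ndS (p := 41996) (l := 1) rfl N41996 D147240
theorem N75239 : nd 75239 = n147241 := ndS (p := 41996) (l := 5) rfl N41996 D147241
theorem N75240 : nd 75240 = n147242 := ndS (p := 41996) (l := 7) rfl N41996 D147242
theorem N75241 : nd 75241 = n147253 := ndS (p := 41999) (l := 0) rfl N41999 D147253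
theorem N75242 : nd 75242 = n147255 := ndS (p := 41999) (l := 4) rfl N41999 D147255
theorem N75243 : nd 75243 = n147256 := ndS (p := 41999) (l := 7) rfl N41999 D147256
theorem N75244 : nd 75244 = n147257 := ndS (p := 42001) (l := 6) rfl N42001 D147257
theorem N75245 : nd 75245 = n147260 := ndS (p := 42004) (l := 4) rfl N42004 D147260
theorem N75246 : nd 75246 = n147262 := ndS (p := 42004) (l := 6) rfl N42004 D147262
theorem N75247 : nd 75247 = n147267 := ndS (p := 42006) (l := 7) rfl N42006 D147267
theorem N75248 : nd 75248 = n147269 := ndS (p := 42008) (l := 3) rfl N42008 D147269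
theorem N75249 : nd 75249 = n147275 := ndS (p := 42010) (l := 6) rfl N42010 D147275
theorem N75250 : nd 75250 = n147276 := ndS (p := 42012) (l := 0) rfl N42012 D147276
theorem N75251 : nd 75251 = n147277 := ndS (p := 42012) (l := 1) rfl N42012 D147277
theorem N75252 : nd 75252 = n147278 := ndS (p := 42012) (l := 5) rfl N42012 D147278
theorem N75253 : nd 75253 = n147279 := ndS (p := 42012) (l := 7) rfl N42012 D147279
theorem N75254 : nd 75254 = n147280 := ndS (p := 42013) (l := 5) rfl N42013 D147280
theorem N75255 : nd 75255 = n147282 := ndS (p := 42014) (l := 4) rfl N42014 D147282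
theorem N75256 : nd 75256 = n147285 := ndS (p := 42015) (l := 3) rfl N42015 D147285
theorem N75257 : nd 75257 = n147286 := ndS (p := 42015) (l := 5) rfl N42015 D147286
theorem N75258 : nd 75258 = n147287 := ndS (p := 42015) (l := 6) rfl N42015 D147287
theorem N75259 : nd 75259 = n147290 := ndS (p := 42016) (l := 4) rfl N42016 D147290
theorem N75260 : nd 75260 = n147292 := ndS (p := 42018) (l := 3) rfl N42018 D147292
theorem N75261 : nd 75261 = n147294 := ndS (p := 42018) (l := 6) rfl N42018 D147294
theorem N75262 : nd 75262 = n147295 := ndS (p := 42019) (l := 4) rfl N42019 D147295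
theorem N75263 : nd 75263 = n147296 := ndS (p := 42021) (l := 4) rfl N42021 D147296
theorem N75264 : nd 75264 = n147298 := ndS (p := 42021) (l := 6) rfl N42021 D147298
theorem N75265 : nd 75265 = n147299 := ndS (p := 42022) (l := 0) rfl N42022 D147299
theorem N75266 : nd 75266 = n147300 := ndS (p := 42022) (l := 1) rfl N42022 D147300
theorem N75267 : nd 75267 = n147301 := ndS (p := 42022) (l := 7) rfl N42022 D147301
theorem N75268 : nd 75268 = n147302 := ndS (p := 42023) (l := 6) rfl N42023 D147302
theorem N75269 : nd 75269 = n147303 := ndS (p := 42024) (l := 6) rfl N42024 D147303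
theorem N75270 : nd 75270 = n147317 := ndS (p := 42028) (l := 6) rfl N42028 D147317
theorem N75271 : nd 75271 = n147319 := ndS (p := 42029) (l := 6) rfl N42029 D147319
theorem N75272 : nd 75272 = n147320 := ndS (p := 42030) (l := 0) rfl N42030 D147320
theorem N75273 : nd 75273 = n147321 := ndS (p := 42030) (l := 1) rfl N42030 D147321
theorem N75274 : nd 75274 = n147322 := ndS (p := 42030) (l := 6) rfl N42030 D147322
theorem N75275 : nd 75275 = n147324 := ndS (p := 42032) (l := 0) rfl N42032 D147324
theorem N75276 : nd 75276 = n147325 := ndS (p := 42032) (l := 1) rfl N42032 D147325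
theorem N75277 : nd 75277 = n147326 := ndS (p := 42032) (l := 5) rfl N42032 D147326
theorem N75278 : nd 75278 = n147327 := ndS (p := 42032) (l := 7) rfl N42032 D147327
theorem N75279 : nd 75279 = n147334 := ndS (p := 42033) (l := 4) rfl N42033 D147334
theorem N75280 : nd 75280 = n147335 := ndS (p := 42033) (l := 5) rfl N42033 D147335
theorem N75281 : nd 75281 = n147336 := ndS (p := 42033) (l := 6) rfl N42033 D147336
theorem N75282 : nd 75282 = n147338 := ndS (p := 42034) (l := 4) rfl N42034 D147338
theorem N75283 : nd 75283 = n147355 := ndS (p := 42040) (l := 1) rfl N42040 D147355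
theorem N75284 : nd 75284 = n147358 := ndS (p := 42041) (l := 6) rfl N42041 D147358
theorem N75285 : nd 75285 = n147362 := ndS (p := 42043) (l := 3) rfl N42043 D147362
theorem N75286 : nd 75286 = n147363 := ndS (p := 42043) (l := 4) rfl N42043 D147363
theorem N75287 : nd 75287 = n147364 := ndS (p := 42043) (l := 5) rfl N42043 D147364
theorem N75288 : nd 75288 = n147365 := ndS (p := 42043) (l := 6) rfl N42043 D147365
theorem N75289 : nd 75289 = n147367 := ndS (p := 42044) (l := 3) rfl N42044 D147367
theorem N75290 : nd 75290 = n147368 := ndS (p := 42044) (l := 4) rfl N42044 D147368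
theorem N75291 : nd 75291 = n147369 := ndS (p := 42044) (l := 5) rfl N42044 D147369
theorem N75292 : nd 75292 = n147370 := ndS (p := 42044) (l := 6) rfl N42044 D147370
theorem N75293 : nd 75293 = n147371 := ndS (p := 42045) (l := 5) rfl N42045 D147371
theorem N75294 : nd 75294 = n147372 := ndS (p := 42045) (l := 6) rfl N42045 D147372
theorem N75295 : nd 75295 = n147374 := ndS (p := 42046) (l := 1) rfl N42046 D147374
theorem N75296 : nd 75296 = n147375 := ndS (p := 42046) (l := 4) rfl N42046 D147375
theorem N75297 : nd 75297 = n147376 := ndS (p := 42046) (l := 6) rfl N42046 D147376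
theorem N75298 : nd 75298 = n147377 := ndS (p := 42047) (l := 0) rfl N42047 D147377
theorem N75299 : nd 75299 = n147378 := ndS (p := 42047) (l := 1) rfl N42047 D147378
theorem N75300 : nd 75300 = n147379 := ndS (p := 42047) (l := 5) rfl N42047 D147379
theorem N75301 : nd 75301 = n147380 := ndS (p := 42047) (l := 7) rfl N42047 D147380
theorem N75302 : nd 75302 = n147382 := ndS (p := 42049) (l := 6) rfl N42049 D147382
theorem N75303 : nd 75303 = n147385 := ndS (p := 42050) (l := 5) rfl N42050 D147385
theorem N75304 : nd 75304 = n147388 := ndS (p := 42051) (l := 3) rfl N42051 D147388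
theorem N75305 : nd 75305 = n147389 := ndS (p := 42051) (l := 5) rfl N42051 D147389
theorem N75306 : nd 75306 = n147390 := ndS (p := 42051) (l := 6) rfl N42051 D147390
theorem N75307 : nd 75307 = n147392 := ndS (p := 42052) (l := 3) rfl N42052 D147392
theorem N75308 : nd 75308 = n147393 := ndS (p := 42052) (l := 4) rfl N42052 D147393
theorem N75309 : nd 75309 = n147394 := ndS (p := 42052) (l := 5) rfl N42052 D147394
theorem N75310 : nd 75310 = n147395 := ndS (p := 42052) (l := 6) rfl N42052 D147395
theorem N75311 : nd 75311 = n147396 := ndS (p := 42053) (l := 0) rfl N42053 D147396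
theorem N75312 : nd 75312 = n147397 := ndS (p := 42053) (l := 1) rfl N42053 D147397
theorem N75313 : nd 75313 = n147398 := ndS (p := 42053) (l := 4) rfl N42053 D147398
theorem N75314 : nd 75314 = n147399 := ndS (p := 42053) (l := 7) rfl N42053 D147399
theorem N75315 : nd 75315 = n147403 := ndS (p := 42055) (l := 4) rfl N42055 D147403
theorem N75316 : nd 75316 = n147404 := ndS (p := 42055) (l := 5) rfl N42055 D147404
theorem N75317 : nd 75317 = n147405 := ndS (p := 42055) (l := 6) rfl N42055 D147405
theorem N75318 : nd 75318 = n147406 := ndS (p := 42056) (l := 0) rfl N42056 D147406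
theorem N75319 : nd 75319 = n147408 := ndS (p := 42056) (l := 5) rfl N42056 D147408
theorem N75320 : nd 75320 = n147411 := ndS (p := 42058) (l := 1) rfl N42058 D147411
theorem N75321 : nd 75321 = n147412 := ndS (p := 42058) (l := 7) rfl N42058 D147412
theorem N75322 : nd 75322 = n147414 := ndS (p := 42060) (l := 5) rfl N42060 D147414
theorem N75323 : nd 75323 = n147415 := ndS (p := 42060) (l := 6) rfl N42060 D147415
theorem N75324 : nd 75324 = n147416 := ndS (p := 42061) (l := 7) rfl N42061 D147416
theorem N75325 : nd 75325 = n147425 := ndS (p := 42063) (l := 5) rfl N42063 D147425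
theorem N75326 : nd 75326 = n147429 := ndS (p := 42064) (l := 6) rfl N42064 D147429
theorem N75327 : nd 75327 = n147430 := ndS (p := 42065) (l := 0) rfl N42065 D147430
theorem N75328 : nd 75328 = n147431 := ndS (p := 42065) (l := 4) rfl N42065 D147431
theorem N75329 : nd 75329 = n147436 := ndS (p := 42066) (l := 6) rfl N42066 D147436
theorem N75330 : nd 75330 = n147439 := ndS (p := 42067) (l := 5) rfl N42067 D147439
theorem N75331 : nd 75331 = n147440 := ndS (p := 42067) (l := 7) rfl N42067 D147440
theorem N75332 : nd 75332 = n147443 := ndS (p := 42068) (l := 6) rfl N42068 D147443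
theorem N75333 : nd 75333 = n147444 := ndS (p := 42069) (l := 5) rfl N42069 D147444
theorem N75334 : nd 75334 = n147449 := ndS (p := 42071) (l := 3) rfl N42071 D147449
theorem N75335 : nd 75335 = n147450 := ndS (p := 42071) (l := 6) rfl N42071 D147450
theorem N75336 : nd 75336 = n147451 := ndS (p := 42072) (l := 3) rfl N42072 D147451
theorem N75337 : nd 75337 = n147452 := ndS (p := 42072) (l := 6) rfl N42072 D147452
theorem N75338 : nd 75338 = n147458 := ndS (p := 42073) (l := 3) rfl N42073 D147458
theorem N75339 : nd 75339 = n147459 := ndS (p := 42073) (l := 4) rfl N42073 D147459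
theorem N75340 : nd 75340 = n147460 := ndS (p := 42073) (l := 5) rfl N42073 D147460
theorem N75341 : nd 75341 = n147461 := ndS (p := 42073) (l := 6) rfl N42073 D147461
theorem N75342 : nd 75342 = n147464 := ndS (p := 42074) (l := 4) rfl N42074 D147464
theorem N75343 : nd 75343 = n147466 := ndS (p := 42074) (l := 6) rfl N42074 D147466
theorem N75344 : nd 75344 = n147467 := ndS (p := 42075) (l := 0) rfl N42075 D147467
theorem N75345 : nd 75345 = n147470 := ndS (p := 42075) (l := 7) rfl N42075 D147470
theorem N75346 : nd 75346 = n147486 := ndS (p := 42077) (l := 3) rfl N42077 D147486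
theorem N75347 : nd 75347 = n147487 := ndS (p := 42077) (l := 5) rfl N42077 D147487
theorem N75348 : nd 75348 = n147488 := ndS (p := 42077) (l := 6) rfl N42077 D147488
theorem N75349 : nd 75349 = n147492 := ndS (p := 42078) (l := 4) rfl N42078 D147492
theorem N75350 : nd 75350 = n147504 := ndS (p := 42080) (l := 5) rfl N42080 D147504
theorem N75351 : nd 75351 = n147505 := ndS (p := 42080) (l := 6) rfl N42080 D147505
theorem N75352 : nd 75352 = n147506 := ndS (p := 42081) (l := 4) rfl N42081 D147506
theorem N75353 : nd 75353 = n147510 := ndS (p := 42083) (l := 4) rfl N42083 D147510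
theorem N75354 : nd 75354 = n147513 := ndS (p := 42084) (l := 0) rfl N42084 D147513
theorem N75355 : nd 75355 = n147514 := ndS (p := 42084) (l := 1) rfl N42084 D147514
theorem N75356 : nd 75356 = n147515 := ndS (p := 42084) (l := 3) rfl N42084 D147515
theorem N75357 : nd 75357 = n147516 := ndS (p := 42084) (l := 5) rfl N42084 D147516
theorem N75358 : nd 75358 = n147517 := ndS (p := 42084) (l := 7) rfl N42084 D147517
theorem N75359 : nd 75359 = n147548 := ndS (p := 42086) (l := 3) rfl N42086 D147548
theorem N75360 : nd 75360 = n147551 := ndS (p := 42086) (l := 6) rfl N42086 D147551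
theorem N75361 : nd 75361 = n147553 := ndS (p := 42087) (l := 6) rfl N42087 D147553
theorem N75362 : nd 75362 = n147555 := ndS (p := 42089) (l := 4) rfl N42089 D147555
theorem N75363 : nd 75363 = n147556 := ndS (p := 42089) (l := 6) rfl N42089 D147556
theorem N75364 : nd 75364 = n147561 := ndS (p := 42090) (l := 0) rfl N42090 D147561
theorem N75365 : nd 75365 = n147562 := ndS (p := 42090) (l := 1) rfl N42090 D147562
theorem N75366 : nd 75366 = n147564 := ndS (p := 42090) (l := 7) rfl N42090 D147564
theorem N75367 : nd 75367 = n147566 := ndS (p := 42091) (l := 4) rfl N42091 D147566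
theorem N75368 : nd 75368 = n147571 := ndS (p := 42092) (l := 6) rfl N42092 D147571
theorem N75369 : nd 75369 = n147580 := ndS (p := 42094) (l := 3) rfl N42094 D147580
theorem N75370 : nd 75370 = n147582 := ndS (p := 42094) (l := 6) rfl N42094 D147582
theorem N75371 : nd 75371 = n147592 := ndS (p := 42098) (l := 3) rfl N42098 D147592
theorem N75372 : nd 75372 = n147593 := ndS (p := 42098) (l := 4) rfl N42098 D147593
theorem N75373 : nd 75373 = n147594 := ndS (p := 42098) (l := 6) rfl N42098 D147594
theorem N75374 : nd 75374 = n147595 := ndS (p := 42099) (l := 4) rfl N42099 D147595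
theorem N75375 : nd 75375 = n147597 := ndS (p := 42100) (l := 1) rfl N42100 D147597
theorem N75376 : nd 75376 = n147598 := ndS (p := 42100) (l := 5) rfl N42100 D147598
theorem N75377 : nd 75377 = n147599 := ndS (p := 42100) (l := 6) rfl N42100 D147599
theorem N75378 : nd 75378 = n147605 := ndS (p := 42103) (l := 0) rfl N42103 D147605
theorem N75379 : nd 75379 = n147607 := ndS (p := 42103) (l := 7) rfl N42103 D147607
theorem N75380 : nd 75380 = n147608 := ndS (p := 42104) (l := 3) rfl N42104 D147608
theorem N75381 : nd 75381 = n147626 := ndS (p := 42105) (l := 4) rfl N42105 D147626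
theorem N75382 : nd 75382 = n147627 := ndS (p := 42105) (l := 7) rfl N42105 D147627
theorem N75383 : nd 75383 = n147628 := ndS (p := 42107) (l := 3) rfl N42107 D147628
theorem N75384 : nd 75384 = n147630 := ndS (p := 42107) (l := 6) rfl N42107 D147630
theorem N75385 : nd 75385 = n147643 := ndS (p := 42112) (l := 0) rfl N42112 D147643
theorem N75386 : nd 75386 = n147644 := ndS (p := 42112) (l := 1) rfl N42112 D147644
theorem N75387 : nd 75387 = n147648 := ndS (p := 42113) (l := 1) rfl N42113 D147648
theorem N75388 : nd 75388 = n147651 := ndS (p := 42115) (l := 1) rfl N42115 D147651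
theorem N75389 : nd 75389 = n147654 := ndS (p := 42117) (l := 6) rfl N42117 D147654
theorem N75390 : nd 75390 = n147657 := ndS (p := 42118) (l := 5) rfl N42118 D147657
theorem N75391 : nd 75391 = n147664 := ndS (p := 42120) (l := 6) rfl N42120 D147664
theorem N75392 : nd 75392 = n147665 := ndS (p := 42121) (l := 0) rfl N42121 D147665
theorem N75393 : nd 75393 = n147666 := ndS (p := 42121) (l := 1) rfl N42121 D147666
theorem N75394 : nd 75394 = n147668 := ndS (p := 42121) (l := 7) rfl N42121 D147668
theorem N75395 : nd 75395 = n147669 := ndS (p := 42122) (l := 6) rfl N42122 D147669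
theorem N75396 : nd 75396 = n147670 := ndS (p := 42123) (l := 1) rfl N42123 D147670
theorem N75397 : nd 75397 = n147671 := ndS (p := 42123) (l := 3) rfl N42123 D147671
theorem N75398 : nd 75398 = n147672 := ndS (p := 42123) (l := 6) rfl N42123 D147672
theorem N75399 : nd 75399 = n147674 := ndS (p := 42124) (l := 1) rfl N42124 D147674
theorem N75400 : nd 75400 = n147676 := ndS (p := 42124) (l := 7) rfl N42124 D147676
theorem N75401 : nd 75401 = n147678 := ndS (p := 42125) (l := 3) rfl N42125 D147678
theorem N75402 : nd 75402 = n147679 := ndS (p := 42125) (l := 4) rfl N42125 D147679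
theorem N75403 : nd 75403 = n147680 := ndS (p := 42125) (l := 5) rfl N42125 D147680
theorem N75404 : nd 75404 = n147681 := ndS (p := 42125) (l := 6) rfl N42125 D147681
theorem N75405 : nd 75405 = n147683 := ndS (p := 42126) (l := 3) rfl N42126 D147683
theorem N75406 : nd 75406 = n147684 := ndS (p := 42126) (l := 4) rfl N42126 D147684
theorem N75407 : nd 75407 = n147685 := ndS (p := 42126) (l := 5) rfl N42126 D147685
theorem N75408 : nd 75408 = n147686 := ndS (p := 42126) (l := 6) rfl N42126 D147686
theorem N75409 : nd 75409 = n147691 := ndS (p := 42129) (l := 4) rfl N42129 D147691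
theorem N75410 : nd 75410 = n147692 := ndS (p := 42129) (l := 6) rfl N42129 D147692
theorem N75411 : nd 75411 = n147693 := ndS (p := 42130) (l := 0) rfl N42130 D147693
theorem N75412 : nd 75412 = n147694 := ndS (p := 42130) (l := 1) rfl N42130 D147694
theorem N75413 : nd 75413 = n147697 := ndS (p := 42131) (l := 0) rfl N42131 D147697
theorem N75414 : nd 75414 = n147698 := ndS (p := 42131) (l := 1) rfl N42131 D147698
theorem N75415 : nd 75415 = n147701 := ndS (p := 42132) (l := 0) rfl N42132 D147701
theorem N75416 : nd 75416 = n147707 := ndS (p := 42133) (l := 5) rfl N42133 D147707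
theorem N75417 : nd 75417 = n147708 := ndS (p := 42133) (l := 7) rfl N42133 D147708
theorem N75418 : nd 75418 = n147711 := ndS (p := 42134) (l := 4) rfl N42134 D147711
theorem N75419 : nd 75419 = n147712 := ndS (p := 42134) (l := 5) rfl N42134 D147712
theorem N75420 : nd 75420 = n147719 := ndS (p := 42135) (l := 0) rfl N42135 D147719
theorem N75421 : nd 75421 = n147721 := ndS (p := 42135) (l := 4) rfl N42135 D147721
theorem N75422 : nd 75422 = n147722 := ndS (p := 42135) (l := 7) rfl N42135 D147722
theorem N75423 : nd 75423 = n147733 := ndS (p := 42137) (l := 0) rfl N42137 D147733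
theorem N75424 : nd 75424 = n147735 := ndS (p := 42137) (l := 2) rfl N42137 D147735
theorem N75425 : nd 75425 = n147736 := ndS (p := 42137) (l := 4) rfl N42137 D147736
theorem N75426 : nd 75426 = n147737 := ndS (p := 42137) (l := 5) rfl N42137 D147737
theorem N75427 : nd 75427 = n147740 := ndS (p := 42138) (l := 0) rfl N42138 D147740
theorem N75428 : nd 75428 = n147741 := ndS (p := 42138) (l := 3) rfl N42138 D147741
theorem N75429 : nd 75429 = n147742 := ndS (p := 42138) (l := 5) rfl N42138 D147742
theorem N75430 : nd 75430 = n147743 := ndS (p := 42138) (l := 6) rfl N42138 D147743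
theorem N75431 : nd 75431 = n147745 := ndS (p := 42139) (l := 0) rfl N42139 D147745
theorem N75432 : nd 75432 = n147746 := ndS (p := 42139) (l := 1) rfl N42139 D147746
theorem N75433 : nd 75433 = n147747 := ndS (p := 42139) (l := 4) rfl N42139 D147747
theorem N75434 : nd 75434 = n147748 := ndS (p := 42139) (l := 6) rfl N42139 D147748
theorem N75435 : nd 75435 = n147750 := ndS (p := 42140) (l := 1) rfl N42140 D147750
theorem N75436 : nd 75436 = n147752 := ndS (p := 42140) (l := 7) rfl N42140 D147752
theorem N75437 : nd 75437 = n147756 := ndS (p := 42141) (l := 2) rfl N42141 D147756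
theorem N75438 : nd 75438 = n147760 := ndS (p := 42142) (l := 5) rfl N42142 D147760
theorem N75439 : nd 75439 = n147762 := ndS (p := 42143) (l := 4) rfl N42143 D147762
theorem N75440 : nd 75440 = n147764 := ndS (p := 42144) (l := 0) rfl N42144 D147764
theorem N75441 : nd 75441 = n147767 := ndS (p := 42144) (l := 7) rfl N42144 D147767
theorem N75442 : nd 75442 = n147769 := ndS (p := 42145) (l := 3) rfl N42145 D147769
theorem N75443 : nd 75443 = n147770 := ndS (p := 42145) (l := 4) rfl N42145 D147770
theorem N75444 : nd 75444 = n147771 := ndS (p := 42145) (l := 5) rfl N42145 D147771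
theorem N75445 : nd 75445 = n147772 := ndS (p := 42145) (l := 6) rfl N42145 D147772
theorem N75446 : nd 75446 = n147776 := ndS (p := 42146) (l := 5) rfl N42146 D147776
theorem N75447 : nd 75447 = n147778 := ndS (p := 42147) (l := 0) rfl N42147 D147778
theorem N75448 : nd 75448 = n147779 := ndS (p := 42147) (l := 1) rfl N42147 D147779
theorem N75449 : nd 75449 = n147781 := ndS (p := 42147) (l := 5) rfl N42147 D147781
theorem N75450 : nd 75450 = n147782 := ndS (p := 42147) (l := 7) rfl N42147 D147782
theorem N75451 : nd 75451 = n147783 := ndS (p := 42148) (l := 6) rfl N42148 D147783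
theorem N75452 : nd 75452 = n147786 := ndS (p := 42150) (l := 3) rfl N42150 D147786
theorem N75453 : nd 75453 = n147797 := ndS (p := 42152) (l := 4) rfl N42152 D147797
theorem N75454 : nd 75454 = n147798 := ndS (p := 42154) (l := 5) rfl N42154 D147798
theorem N75455 : nd 75455 = n147799 := ndS (p := 42155) (l := 3) rfl N42155 D147799
theorem N75456 : nd 75456 = n147800 := ndS (p := 42155) (l := 5) rfl N42155 D147800
theorem N75457 : nd 75457 = n147802 := ndS (p := 42156) (l := 0) rfl N42156 D147802
theorem N75458 : nd 75458 = n147804 := ndS (p := 42156) (l := 4) rfl N42156 D147804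
theorem N75459 : nd 75459 = n147806 := ndS (p := 42158) (l := 3) rfl N42158 D147806
theorem N75460 : nd 75460 = n147808 := ndS (p := 42158) (l := 5) rfl N42158 D147808
theorem N75461 : nd 75461 = n147812 := ndS (p := 42159) (l := 5) rfl N42159 D147812
theorem N75462 : nd 75462 = n147813 := ndS (p := 42159) (l := 6) rfl N42159 D147813
theorem N75463 : nd 75463 = n147814 := ndS (p := 42160) (l := 0) rfl N42160 D147814
theorem N75464 : nd 75464 = n147815 := ndS (p := 42160) (l := 1) rfl N42160 D147815
theorem N75465 : nd 75465 = n147816 := ndS (p := 42160) (l := 4) rfl N42160 D147816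
theorem N75466 : nd 75466 = n147817 := ndS (p := 42160) (l := 6) rfl N42160 D147817
theorem N75467 : nd 75467 = n147818 := ndS (p := 42161) (l := 1) rfl N42161 D147818
theorem N75468 : nd 75468 = n147820 := ndS (p := 42161) (l := 7) rfl N42161 D147820
theorem N75469 : nd 75469 = n147822 := ndS (p := 42163) (l := 0) rfl N42163 D147822
theorem N75470 : nd 75470 = n147823 := ndS (p := 42163) (l := 1) rfl N42163 D147823
theorem N75471 : nd 75471 = n147824 := ndS (p := 42163) (l := 3) rfl N42163 D147824
theorem N75472 : nd 75472 = n147825 := ndS (p := 42163) (l := 5) rfl N42163 D147825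
theorem N75473 : nd 75473 = n147830 := ndS (p := 42169) (l := 4) rfl N42169 D147830
theorem N75474 : nd 75474 = n147831 := ndS (p := 42169) (l := 5) rfl N42169 D147831
theorem N75475 : nd 75475 = n147832 := ndS (p := 42169) (l := 6) rfl N42169 D147832
theorem N75476 : nd 75476 = n147834 := ndS (p := 42170) (l := 3) rfl N42170 D147834
theorem N75477 : nd 75477 = n147837 := ndS (p := 42171) (l := 0) rfl N42171 D147837
theorem N75478 : nd 75478 = n147838 := ndS (p := 42171) (l := 1) rfl N42171 D147838
theorem N75479 : nd 75479 = n147840 := ndS (p := 42172) (l := 1) rfl N42172 D147840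
theorem N75480 : nd 75480 = n147842 := ndS (p := 42172) (l := 7) rfl N42172 D147842
theorem N75481 : nd 75481 = n147844 := ndS (p := 42173) (l := 1) rfl N42173 D147844
theorem N75482 : nd 75482 = n147845 := ndS (p := 42173) (l := 2) rfl N42173 D147845
theorem N75483 : nd 75483 = n147846 := ndS (p := 42173) (l := 5) rfl N42173 D147846
theorem N75484 : nd 75484 = n147847 := ndS (p := 42173) (l := 6) rfl N42173 D147847
theorem N75485 : nd 75485 = n147848 := ndS (p := 42174) (l := 4) rfl N42174 D147848
theorem N75486 : nd 75486 = n147849 := ndS (p := 42174) (l := 6) rfl N42174 D147849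
theorem N75487 : nd 75487 = n147853 := ndS (p := 42175) (l := 7) rfl N42175 D147853
theorem N75488 : nd 75488 = n147854 := ndS (p := 42176) (l := 3) rfl N42176 D147854
theorem N75489 : nd 75489 = n147855 := ndS (p := 42176) (l := 5) rfl N42176 D147855
theorem N75490 : nd 75490 = n147859 := ndS (p := 42178) (l := 7) rfl N42178 D147859
theorem N75491 : nd 75491 = n147871 := ndS (p := 42180) (l := 6) rfl N42180 D147871
theorem N75492 : nd 75492 = n147875 := ndS (p := 42181) (l := 3) rfl N42181 D147875
theorem N75493 : nd 75493 = n147876 := ndS (p := 42181) (l := 5) rfl N42181 D147876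
theorem N75494 : nd 75494 = n147877 := ndS (p := 42181) (l := 6) rfl N42181 D147877
theorem N75495 : nd 75495 = n147880 := ndS (p := 42182) (l := 1) rfl N42182 D147880
theorem N75496 : nd 75496 = n147889 := ndS (p := 42184) (l := 4) rfl N42184 D147889
theorem N75497 : nd 75497 = n147892 := ndS (p := 42185) (l := 3) rfl N42185 D147892
theorem N75498 : nd 75498 = n147893 := ndS (p := 42185) (l := 5) rfl N42185 D147893
theorem N75499 : nd 75499 = n147894 := ndS (p := 42185) (l := 6) rfl N42185 D147894
theorem N75500 : nd 75500 = n147897 := ndS (p := 42187) (l := 5) rfl N42187 D147897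
theorem N75501 : nd 75501 = n147899 := ndS (p := 42188) (l := 4) rfl N42188 D147899
theorem N75502 : nd 75502 = n147901 := ndS (p := 42189) (l := 3) rfl N42189 D147901
theorem N75503 : nd 75503 = n147902 := ndS (p := 42189) (l := 4) rfl N42189 D147902
theorem N75504 : nd 75504 = n147903 := ndS (p := 42189) (l := 6) rfl N42189 D147903
theorem N75505 : nd 75505 = n147904 := ndS (p := 42190) (l := 0) rfl N42190 D147904
theorem N75506 : nd 75506 = n147906 := ndS (p := 42190) (l := 3) rfl N42190 D147906
theorem N75507 : nd 75507 = n147907 := ndS (p := 42190) (l := 5) rfl N42190 D147907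
theorem N75508 : nd 75508 = n147908 := ndS (p := 42191) (l := 6) rfl N42191 D147908
theorem N75509 : nd 75509 = n147909 := ndS (p := 42192) (l := 3) rfl N42192 D147909
theorem N75510 : nd 75510 = n147910 := ndS (p := 42192) (l := 6) rfl N42192 D147910
theorem N75511 : nd 75511 = n147912 := ndS (p := 42193) (l := 1) rfl N42193 D147912
theorem N75512 : nd 75512 = n147913 := ndS (p := 42193) (l := 7) rfl N42193 D147913
theorem N75513 : nd 75513 = n147914 := ndS (p := 42194) (l := 3) rfl N42194 D147914
theorem N75514 : nd 75514 = n147915 := ndS (p := 42194) (l := 5) rfl N42194 D147915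
theorem N75515 : nd 75515 = n147916 := ndS (p := 42195) (l := 6) rfl N42195 D147916
theorem N75516 : nd 75516 = n147917 := ndS (p := 42196) (l := 3) rfl N42196 D147917
theorem N75517 : nd 75517 = n147918 := ndS (p := 42196) (l := 5) rfl N42196 D147918
theorem N75518 : nd 75518 = n147919 := ndS (p := 42196) (l := 6) rfl N42196 D147919
theorem N75519 : nd 75519 = n147922 := ndS (p := 42198) (l := 3) rfl N42198 D147922
theorem N75520 : nd 75520 = n147923 := ndS (p := 42198) (l := 5) rfl N42198 D147923
theorem N75521 : nd 75521 = n147924 := ndS (p := 42199) (l := 3) rfl N42199 D147924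
theorem N75522 : nd 75522 = n147925 := ndS (p := 42199) (l := 5) rfl N42199 D147925
theorem N75523 : nd 75523 = n147928 := ndS (p := 42200) (l := 1) rfl N42200 D147928
theorem N75524 : nd 75524 = n147929 := ndS (p := 42200) (l := 2) rfl N42200 D147929
theorem N75525 : nd 75525 = n147930 := ndS (p := 42200) (l := 5) rfl N42200 D147930
theorem N75526 : nd 75526 = n147931 := ndS (p := 42201) (l := 6) rfl N42201 D147931
theorem N75527 : nd 75527 = n147932 := ndS (p := 42202) (l := 0) rfl N42202 D147932
theorem N75528 : nd 75528 = n147934 := ndS (p := 42202) (l := 5) rfl N42202 D147934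
theorem N75529 : nd 75529 = n147936 := ndS (p := 42203) (l := 4) rfl N42203 D147936
theorem N75530 : nd 75530 = n147937 := ndS (p := 42203) (l := 6) rfl N42203 D147937
theorem N75531 : nd 75531 = n147938 := ndS (p := 42204) (l := 0) rfl N42204 D147938
theorem N75532 : nd 75532 = n147939 := ndS (p := 42204) (l := 1) rfl N42204 D147939
theorem N75533 : nd 75533 = n147940 := ndS (p := 42204) (l := 5) rfl N42204 D147940
theorem N75534 : nd 75534 = n147949 := ndS (p := 42206) (l := 6) rfl N42206 D147949
theorem N75535 : nd 75535 = n147959 := ndS (p := 42208) (l := 5) rfl N42208 D147959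
theorem N75536 : nd 75536 = n147960 := ndS (p := 42208) (l := 7) rfl N42208 D147960
theorem N75537 : nd 75537 = n147961 := ndS (p := 42209) (l := 0) rfl N42209 D147961
theorem N75538 : nd 75538 = n147967 := ndS (p := 42211) (l := 4) rfl N42211 D147967
theorem N75539 : nd 75539 = n147968 := ndS (p := 42211) (l := 6) rfl N42211 D147968
theorem N75540 : nd 75540 = n147969 := ndS (p := 42212) (l := 3) rfl N42212 D147969
theorem N75541 : nd 75541 = n147970 := ndS (p := 42212) (l := 4) rfl N42212 D147970
theorem N75542 : nd 75542 = n147971 := ndS (p := 42212) (l := 6) rfl N42212 D147971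
theorem N75543 : nd 75543 = n147972 := ndS (p := 42213) (l := 0) rfl N42213 D147972
theorem N75544 : nd 75544 = n147973 := ndS (p := 42213) (l := 1) rfl N42213 D147973
theorem N75545 : nd 75545 = n147974 := ndS (p := 42213) (l := 3) rfl N42213 D147974
theorem N75546 : nd 75546 = n147975 := ndS (p := 42213) (l := 6) rfl N42213 D147975
theorem N75547 : nd 75547 = n147976 := ndS (p := 42214) (l := 0) rfl N42214 D147976
theorem N75548 : nd 75548 = n147977 := ndS (p := 42214) (l := 1) rfl N42214 D147977
theorem N75549 : nd 75549 = n147978 := ndS (p := 42214) (l := 5) rfl N42214 D147978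
theorem N75550 : nd 75550 = n147979 := ndS (p := 42214) (l := 7) rfl N42214 D147979
theorem N75551 : nd 75551 = n147982 := ndS (p := 42215) (l := 4) rfl N42215 D147982
theorem N75552 : nd 75552 = n147984 := ndS (p := 42215) (l := 6) rfl N42215 D147984
theorem N75553 : nd 75553 = n147986 := ndS (p := 42216) (l := 3) rfl N42216 D147986
theorem N75554 : nd 75554 = n147987 := ndS (p := 42216) (l := 4) rfl N42216 D147987
theorem N75555 : nd 75555 = n147988 := ndS (p := 42216) (l := 5) rfl N42216 D147988
theorem N75556 : nd 75556 = n147989 := ndS (p := 42216) (l := 6) rfl N42216 D147989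
theorem N75557 : nd 75557 = n147990 := ndS (p := 42217) (l := 0) rfl N42217 D147990
theorem N75558 : nd 75558 = n147991 := ndS (p := 42217) (l := 1) rfl N42217 D147991
theorem N75559 : nd 75559 = n147992 := ndS (p := 42217) (l := 4) rfl N42217 D147992
theorem N75560 : nd 75560 = n148003 := ndS (p := 42219) (l := 5) rfl N42219 D148003
theorem N75561 : nd 75561 = n148009 := ndS (p := 42220) (l := 5) rfl N42220 D148009
theorem N75562 : nd 75562 = n148010 := ndS (p := 42220) (l := 6) rfl N42220 D148010
theorem N75563 : nd 75563 = n148014 := ndS (p := 42221) (l := 4) rfl N42221 D148014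
theorem N75564 : nd 75564 = n148015 := ndS (p := 42221) (l := 6) rfl N42221 D148015
theorem N75565 : nd 75565 = n148025 := ndS (p := 42223) (l := 5) rfl N42223 D148025
theorem N75566 : nd 75566 = n148028 := ndS (p := 42224) (l := 5) rfl N42224 D148028
theorem N75567 : nd 75567 = n148029 := ndS (p := 42224) (l := 6) rfl N42224 D148029
theorem N75568 : nd 75568 = n148031 := ndS (p := 42225) (l := 6) rfl N42225 D148031
theorem N75569 : nd 75569 = n148035 := ndS (p := 42226) (l := 7) rfl N42226 D148035
theorem N75570 : nd 75570 = n148051 := ndS (p := 42228) (l := 5) rfl N42228 D148051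
theorem N75571 : nd 75571 = n148053 := ndS (p := 42229) (l := 4) rfl N42229 D148053
theorem N75572 : nd 75572 = n148104 := ndS (p := 42233) (l := 5) rfl N42233 D148104
theorem N75573 : nd 75573 = n148106 := ndS (p := 42234) (l := 6) rfl N42234 D148106
theorem N75574 : nd 75574 = n148112 := ndS (p := 42236) (l := 4) rfl N42236 D148112
theorem N75575 : nd 75575 = n148114 := ndS (p := 42237) (l := 4) rfl N42237 D148114
theorem N75576 : nd 75576 = n148119 := ndS (p := 42239) (l := 5) rfl N42239 D148119
theorem N75577 : nd 75577 = n148120 := ndS (p := 42240) (l := 0) rfl N42240 D148120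
theorem N75578 : nd 75578 = n148127 := ndS (p := 42241) (l := 7) rfl N42241 D148127
theorem N75579 : nd 75579 = n148129 := ndS (p := 42242) (l := 4) rfl N42242 D148129
theorem N75580 : nd 75580 = n148131 := ndS (p := 42243) (l := 3) rfl N42243 D148131
theorem N75581 : nd 75581 = n148132 := ndS (p := 42243) (l := 4) rfl N42243 D148132
theorem N75582 : nd 75582 = n148133 := ndS (p := 42243) (l := 6) rfl N42243 D148133
theorem N75583 : nd 75583 = n148134 := ndS (p := 42244) (l := 0) rfl N42244 D148134
theorem N75584 : nd 75584 = n148135 := ndS (p := 42244) (l := 1) rfl N42244 D148135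
theorem N75585 : nd 75585 = n148136 := ndS (p := 42244) (l := 3) rfl N42244 D148136
theorem N75586 : nd 75586 = n148141 := ndS (p := 42245) (l := 7) rfl N42245 D148141
theorem N75587 : nd 75587 = n148151 := ndS (p := 42246) (l := 6) rfl N42246 D148151
theorem N75588 : nd 75588 = n148160 := ndS (p := 42249) (l := 6) rfl N42249 D148160
theorem N75589 : nd 75589 = n148167 := ndS (p := 42252) (l := 6) rfl N42252 D148167
theorem N75590 : nd 75590 = n148184 := ndS (p := 42254) (l := 5) rfl N42254 D148184
theorem N75591 : nd 75591 = n148185 := ndS (p := 42254) (l := 6) rfl N42254 D148185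
theorem N75592 : nd 75592 = n148186 := ndS (p := 42255) (l := 1) rfl N42255 D148186
theorem N75593 : nd 75593 = n148203 := ndS (p := 42258) (l := 3) rfl N42258 D148203
theorem N75594 : nd 75594 = n148205 := ndS (p := 42258) (l := 6) rfl N42258 D148205
theorem N75595 : nd 75595 = n148207 := ndS (p := 42259) (l := 6) rfl N42259 D148207
theorem N75596 : nd 75596 = n148209 := ndS (p := 42260) (l := 0) rfl N42260 D148209
theorem N75597 : nd 75597 = n148210 := ndS (p := 42260) (l := 1) rfl N42260 D148210
theorem N75598 : nd 75598 = n148234 := ndS (p := 42261) (l := 5) rfl N42261 D148234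
theorem N75599 : nd 75599 = n148241 := ndS (p := 42262) (l := 5) rfl N42262 D148241
theorem N75600 : nd 75600 = n148243 := ndS (p := 42263) (l := 4) rfl N42263 D148243
theorem N75601 : nd 75601 = n148244 := ndS (p := 42263) (l := 6) rfl N42263 D148244
theorem N75602 : nd 75602 = n148265 := ndS (p := 42264) (l := 4) rfl N42264 D148265
theorem N75603 : nd 75603 = n148266 := ndS (p := 42264) (l := 5) rfl N42264 D148266
theorem N75604 : nd 75604 = n148275 := ndS (p := 42265) (l := 4) rfl N42265 D148275
theorem N75605 : nd 75605 = n148290 := ndS (p := 42267) (l := 0) rfl N42267 D148290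
theorem N75606 : nd 75606 = n148292 := ndS (p := 42267) (l := 3) rfl N42267 D148292
theorem N75607 : nd 75607 = n148296 := ndS (p := 42268) (l := 0) rfl N42268 D148296
theorem N75608 : nd 75608 = n148307 := ndS (p := 42269) (l := 1) rfl N42269 D148307
theorem N75609 : nd 75609 = n148309 := ndS (p := 42269) (l := 4) rfl N42269 D148309
theorem N75610 : nd 75610 = n148310 := ndS (p := 42269) (l := 5) rfl N42269 D148310
theorem N75611 : nd 75611 = n148312 := ndS (p := 42270) (l := 3) rfl N42270 D148312
theorem N75612 : nd 75612 = n148333 := ndS (p := 42273) (l := 3) rfl N42273 D148333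
theorem N75613 : nd 75613 = n148339 := ndS (p := 42274) (l := 4) rfl N42274 D148339
theorem N75614 : nd 75614 = n148347 := ndS (p := 42275) (l := 4) rfl N42275 D148347
theorem N75615 : nd 75615 = n148353 := ndS (p := 42276) (l := 6) rfl N42276 D148353
theorem N75616 : nd 75616 = n148379 := ndS (p := 42280) (l := 4) rfl N42280 D148379
theorem N75617 : nd 75617 = n148386 := ndS (p := 42282) (l := 1) rfl N42282 D148386
theorem N75618 : nd 75618 = n148389 := ndS (p := 42283) (l := 0) rfl N42283 D148389
theorem N75619 : nd 75619 = n148390 := ndS (p := 42283) (l := 1) rfl N42283 D148390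
theorem N75620 : nd 75620 = n148391 := ndS (p := 42283) (l := 4) rfl N42283 D148391
theorem N75621 : nd 75621 = n148439 := ndS (p := 42286) (l := 3) rfl N42286 D148439
theorem N75622 : nd 75622 = n148447 := ndS (p := 42288) (l := 4) rfl N42288 D148447
theorem N75623 : nd 75623 = n148449 := ndS (p := 42289) (l := 0) rfl N42289 D148449
theorem N75624 : nd 75624 = n148451 := ndS (p := 42289) (l := 2) rfl N42289 D148451
theorem N75625 : nd 75625 = n148452 := ndS (p := 42289) (l := 5) rfl N42289 D148452
theorem N75626 : nd 75626 = n148456 := ndS (p := 42290) (l := 4) rfl N42290 D148456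
theorem N75627 : nd 75627 = n148459 := ndS (p := 42291) (l := 1) rfl N42291 D148459
theorem N75628 : nd 75628 = n148461 := ndS (p := 42291) (l := 7) rfl N42291 D148461
theorem N75629 : nd 75629 = n148464 := ndS (p := 42292) (l := 4) rfl N42292 D148464
theorem N75630 : nd 75630 = n148475 := ndS (p := 42294) (l := 4) rfl N42294 D148475
theorem N75631 : nd 75631 = n148484 := ndS (p := 42297) (l := 3) rfl N42297 D148484
theorem N75632 : nd 75632 = n148493 := ndS (p := 42298) (l := 5) rfl N42298 D148493
theorem N75633 : nd 75633 = n148494 := ndS (p := 42298) (l := 6) rfl N42298 D148494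
theorem N75634 : nd 75634 = n148496 := ndS (p := 42299) (l := 1) rfl N42299 D148496
theorem N75635 : nd 75635 = n148500 := ndS (p := 42300) (l := 1) rfl N42300 D148500
theorem N75636 : nd 75636 = n148501 := ndS (p := 42300) (l := 5) rfl N42300 D148501
theorem N75637 : nd 75637 = n148510 := ndS (p := 42301) (l := 3) rfl N42301 D148510
theorem N75638 : nd 75638 = n148513 := ndS (p := 42303) (l := 4) rfl N42303 D148513
theorem N75639 : nd 75639 = n148516 := ndS (p := 42305) (l := 5) rfl N42305 D148516
theorem N75640 : nd 75640 = n148517 := ndS (p := 42306) (l := 3) rfl N42306 D148517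
theorem N75641 : nd 75641 = n148518 := ndS (p := 42306) (l := 5) rfl N42306 D148518
theorem N75642 : nd 75642 = n148519 := ndS (p := 42306) (l := 6) rfl N42306 D148519
theorem N75643 : nd 75643 = n148520 := ndS (p := 42307) (l := 4) rfl N42307 D148520
theorem N75644 : nd 75644 = n148521 := ndS (p := 42308) (l := 5) rfl N42308 D148521
theorem N75645 : nd 75645 = n148522 := ndS (p := 42309) (l := 3) rfl N42309 D148522
theorem N75646 : nd 75646 = n148523 := ndS (p := 42309) (l := 4) rfl N42309 D148523
theorem N75647 : nd 75647 = n148524 := ndS (p := 42309) (l := 5) rfl N42309 D148524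
theorem N75648 : nd 75648 = n148526 := ndS (p := 42310) (l := 1) rfl N42310 D148526
theorem N75649 : nd 75649 = n148528 := ndS (p := 42310) (l := 5) rfl N42310 D148528
theorem N75650 : nd 75650 = n148531 := ndS (p := 42311) (l := 1) rfl N42311 D148531
theorem N75651 : nd 75651 = n148532 := ndS (p := 42311) (l := 4) rfl N42311 D148532
theorem N75652 : nd 75652 = n148533 := ndS (p := 42311) (l := 6) rfl N42311 D148533
theorem N75653 : nd 75653 = n148534 := ndS (p := 42312) (l := 0) rfl N42312 D148534
theorem N75654 : nd 75654 = n148535 := ndS (p := 42312) (l := 1) rfl N42312 D148535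
theorem N75655 : nd 75655 = n148536 := ndS (p := 42312) (l := 5) rfl N42312 D148536
theorem N75656 : nd 75656 = n148538 := ndS (p := 42313) (l := 4) rfl N42313 D148538
theorem N75657 : nd 75657 = n148539 := ndS (p := 42314) (l := 4) rfl N42314 D148539
theorem N75658 : nd 75658 = n148540 := ndS (p := 42314) (l := 6) rfl N42314 D148540
theorem N75659 : nd 75659 = n148541 := ndS (p := 42315) (l := 0) rfl N42315 D148541
theorem N75660 : nd 75660 = n148542 := ndS (p := 42315) (l := 1) rfl N42315 D148542
theorem N75661 : nd 75661 = n148543 := ndS (p := 42315) (l := 5) rfl N42315 D148543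
theorem N75662 : nd 75662 = n148544 := ndS (p := 42316) (l := 4) rfl N42316 D148544
theorem N75663 : nd 75663 = n148545 := ndS (p := 42317) (l := 1) rfl N42317 D148545
theorem N75664 : nd 75664 = n148546 := ndS (p := 42317) (l := 4) rfl N42317 D148546
theorem N75665 : nd 75665 = n148553 := ndS (p := 42319) (l := 3) rfl N42319 D148553
theorem N75666 : nd 75666 = n148554 := ndS (p := 42319) (l := 4) rfl N42319 D148554
theorem N75667 : nd 75667 = n148593 := ndS (p := 42322) (l := 3) rfl N42322 D148593
theorem N75668 : nd 75668 = n148594 := ndS (p := 42322) (l := 5) rfl N42322 D148594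
theorem N75669 : nd 75669 = n148595 := ndS (p := 42322) (l := 6) rfl N42322 D148595
theorem N75670 : nd 75670 = n148599 := ndS (p := 42323) (l := 6) rfl N42323 D148599
theorem N75671 : nd 75671 = n148630 := ndS (p := 42331) (l := 3) rfl N42331 D148630
theorem N75672 : nd 75672 = n148631 := ndS (p := 42331) (l := 5) rfl N42331 D148631
theorem N75673 : nd 75673 = n148645 := ndS (p := 42334) (l := 3) rfl N42334 D148645
theorem N75674 : nd 75674 = n148650 := ndS (p := 42335) (l := 4) rfl N42335 D148650
theorem N75675 : nd 75675 = n148655 := ndS (p := 42337) (l := 4) rfl N42337 D148655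
theorem N75676 : nd 75676 = n148656 := ndS (p := 42338) (l := 3) rfl N42338 D148656
theorem N75677 : nd 75677 = n148657 := ndS (p := 42338) (l := 5) rfl N42338 D148657
theorem N75678 : nd 75678 = n148659 := ndS (p := 42340) (l := 3) rfl N42340 D148659
theorem N75679 : nd 75679 = n148660 := ndS (p := 42340) (l := 5) rfl N42340 D148660
theorem N75680 : nd 75680 = n148665 := ndS (p := 42342) (l := 0) rfl N42342 D148665
theorem N75681 : nd 75681 = n148667 := ndS (p := 42342) (l := 2) rfl N42342 D148667
theorem N75682 : nd 75682 = n148669 := ndS (p := 42343) (l := 3) rfl N42343 D148669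
theorem N75683 : nd 75683 = n148670 := ndS (p := 42343) (l := 4) rfl N42343 D148670
theorem N75684 : nd 75684 = n148671 := ndS (p := 42343) (l := 5) rfl N42343 D148671
theorem N75685 : nd 75685 = n148672 := ndS (p := 42343) (l := 6) rfl N42343 D148672
theorem N75686 : nd 75686 = n148678 := ndS (p := 42348) (l := 6) rfl N42348 D148678
theorem N75687 : nd 75687 = n148680 := ndS (p := 42349) (l := 1) rfl N42349 D148680
theorem N75688 : nd 75688 = n148681 := ndS (p := 42349) (l := 7) rfl N42349 D148681
theorem N75689 : nd 75689 = n148682 := ndS (p := 42350) (l := 0) rfl N42350 D148682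
theorem N75690 : nd 75690 = n148685 := ndS (p := 42350) (l := 7) rfl N42350 D148685
theorem N75691 : nd 75691 = n148695 := ndS (p := 42352) (l := 6) rfl N42352 D148695
theorem N75692 : nd 75692 = n148698 := ndS (p := 42353) (l := 4) rfl N42353 D148698
theorem N75693 : nd 75693 = n148700 := ndS (p := 42357) (l := 3) rfl N42357 D148700
theorem N75694 : nd 75694 = n148701 := ndS (p := 42357) (l := 6) rfl N42357 D148701
theorem N75695 : nd 75695 = n148703 := ndS (p := 42358) (l := 3) rfl N42358 D148703
theorem N75696 : nd 75696 = n148704 := ndS (p := 42359) (l := 6) rfl N42359 D148704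
theorem N75697 : nd 75697 = n148710 := ndS (p := 42360) (l := 6) rfl N42360 D148710
theorem N75698 : nd 75698 = n148713 := ndS (p := 42361) (l := 4) rfl N42361 D148713
theorem N75699 : nd 75699 = n148720 := ndS (p := 42363) (l := 6) rfl N42363 D148720
theorem N75700 : nd 75700 = n148722 := ndS (p := 42364) (l := 6) rfl N42364 D148722
theorem N75701 : nd 75701 = n148723 := ndS (p := 42365) (l := 7) rfl N42365 D148723
theorem N75702 : nd 75702 = n148725 := ndS (p := 42366) (l := 4) rfl N42366 D148725
theorem N75703 : nd 75703 = n148726 := ndS (p := 42366) (l := 6) rfl N42366 D148726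
theorem N75704 : nd 75704 = n148729 := ndS (p := 42367) (l := 6) rfl N42367 D148729
theorem N75705 : nd 75705 = n148732 := ndS (p := 42368) (l := 3) rfl N42368 D148732
theorem N75706 : nd 75706 = n148735 := ndS (p := 42369) (l := 6) rfl N42369 D148735
theorem N75707 : nd 75707 = n148736 := ndS (p := 42370) (l := 3) rfl N42370 D148736
theorem N75708 : nd 75708 = n148737 := ndS (p := 42370) (l := 6) rfl N42370 D148737
theorem N75709 : nd 75709 = n148738 := ndS (p := 42371) (l := 0) rfl N42371 D148738
theorem N75710 : nd 75710 = n148739 := ndS (p := 42371) (l := 1) rfl N42371 D148739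
theorem N75711 : nd 75711 = n148740 := ndS (p := 42371) (l := 7) rfl N42371 D148740
theorem N75712 : nd 75712 = n148742 := ndS (p := 42374) (l := 3) rfl N42374 D148742
theorem N75713 : nd 75713 = n148743 := ndS (p := 42374) (l := 6) rfl N42374 D148743
theorem N75714 : nd 75714 = n148744 := ndS (p := 42375) (l := 0) rfl N42375 D148744
theorem N75715 : nd 75715 = n148745 := ndS (p := 42375) (l := 1) rfl N42375 D148745
theorem N75716 : nd 75716 = n148746 := ndS (p := 42375) (l := 7) rfl N42375 D148746
theorem N75717 : nd 75717 = n148747 := ndS (p := 42376) (l := 3) rfl N42376 D148747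
theorem N75718 : nd 75718 = n148748 := ndS (p := 42376) (l := 6) rfl N42376 D148748
theorem N75719 : nd 75719 = n148749 := ndS (p := 42377) (l := 0) rfl N42377 D148749
theorem N75720 : nd 75720 = n148750 := ndS (p := 42377) (l := 1) rfl N42377 D148750
theorem N75721 : nd 75721 = n148751 := ndS (p := 42377) (l := 7) rfl N42377 D148751
theorem N75722 : nd 75722 = n148759 := ndS (p := 42381) (l := 6) rfl N42381 D148759
theorem N75723 : nd 75723 = n148760 := ndS (p := 42382) (l := 3) rfl N42382 D148760
theorem N75724 : nd 75724 = n148762 := ndS (p := 42383) (l := 0) rfl N42383 D148762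
theorem N75725 : nd 75725 = n148763 := ndS (p := 42383) (l := 1) rfl N42383 D148763
theorem N75726 : nd 75726 = n148764 := ndS (p := 42383) (l := 2) rfl N42383 D148764
theorem N75727 : nd 75727 = n148765 := ndS (p := 42383) (l := 5) rfl N42383 D148765
theorem N75728 : nd 75728 = n148766 := ndS (p := 42383) (l := 7) rfl N42383 D148766
theorem N75729 : nd 75729 = n148767 := ndS (p := 42384) (l := 6) rfl N42384 D148767
theorem N75730 : nd 75730 = n148768 := ndS (p := 42385) (l := 6) rfl N42385 D148768
theorem N75731 : nd 75731 = n148769 := ndS (p := 42386) (l := 0) rfl N42386 D148769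
theorem N75732 : nd 75732 = n148770 := ndS (p := 42386) (l := 1) rfl N42386 D148770
theorem N75733 : nd 75733 = n148771 := ndS (p := 42387) (l := 3) rfl N42387 D148771
theorem N75734 : nd 75734 = n148772 := ndS (p := 42387) (l := 6) rfl N42387 D148772
theorem N75735 : nd 75735 = n148773 := ndS (p := 42388) (l := 0) rfl N42388 D148773
theorem N75736 : nd 75736 = n148776 := ndS (p := 42389) (l := 6) rfl N42389 D148776
theorem N75737 : nd 75737 = n148778 := ndS (p := 42390) (l := 6) rfl N42390 D148778
theorem N75738 : nd 75738 = n148780 := ndS (p := 42391) (l := 1) rfl N42391 D148780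
theorem N75739 : nd 75739 = n148781 := ndS (p := 42391) (l := 7) rfl N42391 D148781
theorem N75740 : nd 75740 = n148788 := ndS (p := 42394) (l := 5) rfl N42394 D148788
theorem N75741 : nd 75741 = n148789 := ndS (p := 42394) (l := 6) rfl N42394 D148789
theorem N75742 : nd 75742 = n148790 := ndS (p := 42395) (l := 3) rfl N42395 D148790
theorem N75743 : nd 75743 = n148791 := ndS (p := 42395) (l := 5) rfl N42395 D148791
theorem N75744 : nd 75744 = n148792 := ndS (p := 42395) (l := 6) rfl N42395 D148792
theorem N75745 : nd 75745 = n148793 := ndS (p := 42396) (l := 0) rfl N42396 D148793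
theorem N75746 : nd 75746 = n148794 := ndS (p := 42396) (l := 1) rfl N42396 D148794
theorem N75747 : nd 75747 = n148795 := ndS (p := 42396) (l := 2) rfl N42396 D148795
theorem N75748 : nd 75748 = n148796 := ndS (p := 42396) (l := 5) rfl N42396 D148796
theorem N75749 : nd 75749 = n148797 := ndS (p := 42397) (l := 6) rfl N42397 D148797
theorem N75750 : nd 75750 = n148798 := ndS (p := 42400) (l := 4) rfl N42400 D148798
theorem N75751 : nd 75751 = n148799 := ndS (p := 42400) (l := 6) rfl N42400 D148799
theorem N75752 : nd 75752 = n148800 := ndS (p := 42401) (l := 3) rfl N42401 D148800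
theorem N75753 : nd 75753 = n148812 := ndS (p := 42407) (l := 6) rfl N42407 D148812
theorem N75754 : nd 75754 = n148815 := ndS (p := 42412) (l := 0) rfl N42412 D148815
theorem N75755 : nd 75755 = n148816 := ndS (p := 42412) (l := 2) rfl N42412 D148816
theorem N75756 : nd 75756 = n148817 := ndS (p := 42412) (l := 3) rfl N42412 D148817
theorem N75757 : nd 75757 = n148818 := ndS (p := 42412) (l := 4) rfl N42412 D148818
theorem N75758 : nd 75758 = n148819 := ndS (p := 42412) (l := 5) rfl N42412 D148819
theorem N75759 : nd 75759 = n148821 := ndS (p := 42412) (l := 7) rfl N42412 D148821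
theorem N75760 : nd 75760 = n148823 := ndS (p := 42413) (l := 4) rfl N42413 D148823
theorem N75761 : nd 75761 = n148828 := ndS (p := 42415) (l := 6) rfl N42415 D148828
theorem N75762 : nd 75762 = n148830 := ndS (p := 42418) (l := 6) rfl N42418 D148830
theorem N75763 : nd 75763 = n148832 := ndS (p := 42421) (l := 1) rfl N42421 D148832
theorem N75764 : nd 75764 = n148834 := ndS (p := 42421) (l := 7) rfl N42421 D148834
theorem N75765 : nd 75765 = n148836 := ndS (p := 42422) (l := 4) rfl N42422 D148836
theorem N75766 : nd 75766 = n148837 := ndS (p := 42422) (l := 5) rfl N42422 D148837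
theorem N75767 : nd 75767 = n148839 := ndS (p := 42424) (l := 7) rfl N42424 D148839
theorem N75768 : nd 75768 = n148842 := ndS (p := 42426) (l := 5) rfl N42426 D148842
theorem N75769 : nd 75769 = n148843 := ndS (p := 42426) (l := 7) rfl N42426 D148843
theorem N75770 : nd 75770 = n148844 := ndS (p := 42427) (l := 3) rfl N42427 D148844
theorem N75771 : nd 75771 = n148846 := ndS (p := 42427) (l := 6) rfl N42427 D148846
theorem N75772 : nd 75772 = n148847 := ndS (p := 42428) (l := 3) rfl N42428 D148847
theorem N75773 : nd 75773 = n148849 := ndS (p := 42428) (l := 6) rfl N42428 D148849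
theorem N75774 : nd 75774 = n148854 := ndS (p := 42431) (l := 5) rfl N42431 D148854
theorem N75775 : nd 75775 = n148855 := ndS (p := 42431) (l := 6) rfl N42431 D148855
theorem N75776 : nd 75776 = n148856 := ndS (p := 42432) (l := 0) rfl N42432 D148856
theorem N75777 : nd 75777 = n148859 := ndS (p := 42432) (l := 6) rfl N42432 D148859
theorem N75778 : nd 75778 = n148860 := ndS (p := 42433) (l := 0) rfl N42433 D148860
theorem N75779 : nd 75779 = n148866 := ndS (p := 42439) (l := 3) rfl N42439 D148866
theorem N75780 : nd 75780 = n148867 := ndS (p := 42439) (l := 6) rfl N42439 D148867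
theorem N75781 : nd 75781 = n148869 := ndS (p := 42442) (l := 7) rfl N42442 D148869
theorem N75782 : nd 75782 = n148873 := ndS (p := 42444) (l := 0) rfl N42444 D148873
theorem N75783 : nd 75783 = n148874 := ndS (p := 42444) (l := 1) rfl N42444 D148874
theorem N75784 : nd 75784 = n148875 := ndS (p := 42444) (l := 2) rfl N42444 D148875
theorem N75785 : nd 75785 = n148876 := ndS (p := 42445) (l := 3) rfl N42445 D148876
theorem N75786 : nd 75786 = n148878 := ndS (p := 42445) (l := 6) rfl N42445 D148878
theorem N75787 : nd 75787 = n148879 := ndS (p := 42446) (l := 4) rfl N42446 D148879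
theorem N75788 : nd 75788 = n148881 := ndS (p := 42446) (l := 6) rfl N42446 D148881
theorem N75789 : nd 75789 = n148890 := ndS (p := 42451) (l := 0) rfl N42451 D148890
theorem N75790 : nd 75790 = n148891 := ndS (p := 42451) (l := 1) rfl N42451 D148891
theorem N75791 : nd 75791 = n148893 := ndS (p := 42452) (l := 6) rfl N42452 D148893
theorem N75792 : nd 75792 = n148898 := ndS (p := 42454) (l := 4) rfl N42454 D148898
theorem N75793 : nd 75793 = n148899 := ndS (p := 42454) (l := 5) rfl N42454 D148899
theorem N75794 : nd 75794 = n148902 := ndS (p := 42455) (l := 5) rfl N42455 D148902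
theorem N75795 : nd 75795 = n148915 := ndS (p := 42458) (l := 6) rfl N42458 D148915
theorem N75796 : nd 75796 = n148920 := ndS (p := 42461) (l := 1) rfl N42461 D148920
theorem N75797 : nd 75797 = n148951 := ndS (p := 42469) (l := 5) rfl N42469 D148951
theorem N75798 : nd 75798 = n148961 := ndS (p := 42473) (l := 5) rfl N42473 D148961
theorem N75799 : nd 75799 = n148962 := ndS (p := 42473) (l := 6) rfl N42473 D148962
theorem N75800 : nd 75800 = n148963 := ndS (p := 42474) (l := 3) rfl N42474 D148963
theorem N75801 : nd 75801 = n148967 := ndS (p := 42475) (l := 6) rfl N42475 D148967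
theorem N75802 : nd 75802 = n148968 := ndS (p := 42477) (l := 5) rfl N42477 D148968
theorem N75803 : nd 75803 = n148969 := ndS (p := 42478) (l := 0) rfl N42478 D148969
theorem N75804 : nd 75804 = n148977 := ndS (p := 42480) (l := 5) rfl N42480 D148977
theorem N75805 : nd 75805 = n148978 := ndS (p := 42480) (l := 7) rfl N42480 D148978
theorem N75806 : nd 75806 = n148979 := ndS (p := 42483) (l := 0) rfl N42483 D148979
theorem N75807 : nd 75807 = n148980 := ndS (p := 42483) (l := 7) rfl N42483 D148980
theorem N75808 : nd 75808 = n148981 := ndS (p := 42484) (l := 1) rfl N42484 D148981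
theorem N75809 : nd 75809 = n148982 := ndS (p := 42484) (l := 5) rfl N42484 D148982
theorem N75810 : nd 75810 = n148984 := ndS (p := 42485) (l := 5) rfl N42485 D148984
theorem N75811 : nd 75811 = n148985 := ndS (p := 42485) (l := 6) rfl N42485 D148985
theorem N75812 : nd 75812 = n148986 := ndS (p := 42486) (l := 6) rfl N42486 D148986
theorem N75813 : nd 75813 = n148993 := ndS (p := 42495) (l := 1) rfl N42495 D148993
theorem N75814 : nd 75814 = n148994 := ndS (p := 42495) (l := 5) rfl N42495 D148994
theorem N75815 : nd 75815 = n148995 := ndS (p := 42495) (l := 7) rfl N42495 D148995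
theorem N75816 : nd 75816 = n148996 := ndS (p := 42497) (l := 5) rfl N42497 D148996
theorem N75817 : nd 75817 = n148999 := ndS (p := 42498) (l := 3) rfl N42498 D148999
theorem N75818 : nd 75818 = n149000 := ndS (p := 42498) (l := 5) rfl N42498 D149000
theorem N75819 : nd 75819 = n149001 := ndS (p := 42498) (l := 6) rfl N42498 D149001
theorem N75820 : nd 75820 = n149003 := ndS (p := 42499) (l := 6) rfl N42499 D149003
theorem N75821 : nd 75821 = n149004 := ndS (p := 42500) (l := 0) rfl N42500 D149004
theorem N75822 : nd 75822 = n149005 := ndS (p := 42500) (l := 7) rfl N42500 D149005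
theorem N75823 : nd 75823 = n149006 := ndS (p := 42502) (l := 6) rfl N42502 D149006
theorem N75824 : nd 75824 = n149007 := ndS (p := 42503) (l := 5) rfl N42503 D149007
theorem N75825 : nd 75825 = n149009 := ndS (p := 42504) (l := 6) rfl N42504 D149009
theorem N75826 : nd 75826 = n149010 := ndS (p := 42505) (l := 0) rfl N42505 D149010
theorem N75827 : nd 75827 = n149011 := ndS (p := 42505) (l := 7) rfl N42505 D149011
theorem N75828 : nd 75828 = n149012 := ndS (p := 42507) (l := 5) rfl N42507 D149012
theorem N75829 : nd 75829 = n149014 := ndS (p := 42508) (l := 3) rfl N42508 D149014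
theorem N75830 : nd 75830 = n149015 := ndS (p := 42508) (l := 5) rfl N42508 D149015
theorem N75831 : nd 75831 = n149016 := ndS (p := 42508) (l := 6) rfl N42508 D149016
theorem N75832 : nd 75832 = n149017 := ndS (p := 42509) (l := 0) rfl N42509 D149017
theorem N75833 : nd 75833 = n149018 := ndS (p := 42509) (l := 1) rfl N42509 D149018
theorem N75834 : nd 75834 = n149019 := ndS (p := 42509) (l := 4) rfl N42509 D149019
theorem N75835 : nd 75835 = n149020 := ndS (p := 42509) (l := 7) rfl N42509 D149020
theorem N75836 : nd 75836 = n149022 := ndS (p := 42511) (l := 5) rfl N42511 D149022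
theorem N75837 : nd 75837 = n149023 := ndS (p := 42511) (l := 6) rfl N42511 D149023
theorem N75838 : nd 75838 = n149024 := ndS (p := 42512) (l := 4) rfl N42512 D149024
theorem N75839 : nd 75839 = n149025 := ndS (p := 42513) (l := 0) rfl N42513 D149025
theorem N75840 : nd 75840 = n149029 := ndS (p := 42514) (l := 5) rfl N42514 D149029
theorem N75841 : nd 75841 = n149035 := ndS (p := 42516) (l := 5) rfl N42516 D149035
theorem N75842 : nd 75842 = n149036 := ndS (p := 42516) (l := 6) rfl N42516 D149036
theorem N75843 : nd 75843 = n149037 := ndS (p := 42517) (l := 0) rfl N42517 D149037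
theorem N75844 : nd 75844 = n149038 := ndS (p := 42517) (l := 1) rfl N42517 D149038
theorem N75845 : nd 75845 = n149040 := ndS (p := 42517) (l := 5) rfl N42517 D149040
theorem N75846 : nd 75846 = n149044 := ndS (p := 42519) (l := 5) rfl N42519 D149044
theorem N75847 : nd 75847 = n149049 := ndS (p := 42520) (l := 5) rfl N42520 D149049
theorem N75848 : nd 75848 = n149051 := ndS (p := 42521) (l := 0) rfl N42521 D149051
theorem N75849 : nd 75849 = n149052 := ndS (p := 42521) (l := 1) rfl N42521 D149052
theorem N75850 : nd 75850 = n149053 := ndS (p := 42521) (l := 4) rfl N42521 D149053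
theorem N75851 : nd 75851 = n149055 := ndS (p := 42523) (l := 5) rfl N42523 D149055
theorem N75852 : nd 75852 = n149057 := ndS (p := 42524) (l := 4) rfl N42524 D149057
theorem N75853 : nd 75853 = n149058 := ndS (p := 42525) (l := 5) rfl N42525 D149058
theorem N75854 : nd 75854 = n149061 := ndS (p := 42526) (l := 4) rfl N42526 D149061
theorem N75855 : nd 75855 = n149062 := ndS (p := 42526) (l := 6) rfl N42526 D149062
theorem N75856 : nd 75856 = n149063 := ndS (p := 42527) (l := 4) rfl N42527 D149063
theorem N75857 : nd 75857 = n149064 := ndS (p := 42528) (l := 3) rfl N42528 D149064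
theorem N75858 : nd 75858 = n149065 := ndS (p := 42528) (l := 4) rfl N42528 D149065
theorem N75859 : nd 75859 = n149071 := ndS (p := 42533) (l := 5) rfl N42533 D149071
theorem N75860 : nd 75860 = n149072 := ndS (p := 42533) (l := 6) rfl N42533 D149072
theorem N75861 : nd 75861 = n149074 := ndS (p := 42534) (l := 6) rfl N42534 D149074
theorem N75862 : nd 75862 = n149083 := ndS (p := 42535) (l := 5) rfl N42535 D149083
theorem N75863 : nd 75863 = n149089 := ndS (p := 42538) (l := 1) rfl N42538 D149089
theorem N75864 : nd 75864 = n149090 := ndS (p := 42538) (l := 5) rfl N42538 D149090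
theorem N75865 : nd 75865 = n149093 := ndS (p := 42539) (l := 4) rfl N42539 D149093
theorem N75866 : nd 75866 = n149107 := ndS (p := 42541) (l := 0) rfl N42541 D149107
theorem N75867 : nd 75867 = n149108 := ndS (p := 42541) (l := 1) rfl N42541 D149108
theorem N75868 : nd 75868 = n149111 := ndS (p := 42542) (l := 0) rfl N42542 D149111
theorem N75869 : nd 75869 = n149115 := ndS (p := 42542) (l := 5) rfl N42542 D149115
theorem N75870 : nd 75870 = n149117 := ndS (p := 42543) (l := 0) rfl N42543 D149117
theorem N75871 : nd 75871 = n149118 := ndS (p := 42543) (l := 1) rfl N42543 D149118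
theorem N75872 : nd 75872 = n149119 := ndS (p := 42543) (l := 4) rfl N42543 D149119
theorem N75873 : nd 75873 = n149129 := ndS (p := 42544) (l := 5) rfl N42544 D149129
theorem N75874 : nd 75874 = n149131 := ndS (p := 42545) (l := 4) rfl N42545 D149131
theorem N75875 : nd 75875 = n149132 := ndS (p := 42545) (l := 6) rfl N42545 D149132
theorem N75876 : nd 75876 = n149136 := ndS (p := 42546) (l := 3) rfl N42546 D149136
theorem N75877 : nd 75877 = n149137 := ndS (p := 42546) (l := 4) rfl N42546 D149137
theorem N75878 : nd 75878 = n149138 := ndS (p := 42546) (l := 5) rfl N42546 D149138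
theorem N75879 : nd 75879 = n149139 := ndS (p := 42546) (l := 6) rfl N42546 D149139
theorem N75880 : nd 75880 = n149142 := ndS (p := 42547) (l := 4) rfl N42547 D149142
theorem N75881 : nd 75881 = n149143 := ndS (p := 42547) (l := 5) rfl N42547 D149143
theorem N75882 : nd 75882 = n149145 := ndS (p := 42548) (l := 0) rfl N42548 D149145
theorem N75883 : nd 75883 = n149146 := ndS (p := 42548) (l := 1) rfl N42548 D149146
theorem N75884 : nd 75884 = n149147 := ndS (p := 42548) (l := 3) rfl N42548 D149147
theorem N75885 : nd 75885 = n149148 := ndS (p := 42548) (l := 5) rfl N42548 D149148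
theorem N75886 : nd 75886 = n149149 := ndS (p := 42548) (l := 7) rfl N42548 D149149
theorem N75887 : nd 75887 = n149151 := ndS (p := 42550) (l := 5) rfl N42550 D149151
theorem N75888 : nd 75888 = n149152 := ndS (p := 42551) (l := 5) rfl N42551 D149152
theorem N75889 : nd 75889 = n149155 := ndS (p := 42552) (l := 5) rfl N42552 D149155
theorem N75890 : nd 75890 = n149156 := ndS (p := 42553) (l := 0) rfl N42553 D149156
theorem N75891 : nd 75891 = n149162 := ndS (p := 42554) (l := 3) rfl N42554 D149162
theorem N75892 : nd 75892 = n149169 := ndS (p := 42555) (l := 0) rfl N42555 D149169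
theorem N75893 : nd 75893 = n149170 := ndS (p := 42555) (l := 1) rfl N42555 D149170
theorem N75894 : nd 75894 = n149171 := ndS (p := 42555) (l := 4) rfl N42555 D149171
theorem N75895 : nd 75895 = n149172 := ndS (p := 42555) (l := 6) rfl N42555 D149172
theorem N75896 : nd 75896 = n149175 := ndS (p := 42557) (l := 4) rfl N42557 D149175
theorem N75897 : nd 75897 = n149176 := ndS (p := 42558) (l := 4) rfl N42558 D149176
theorem N75898 : nd 75898 = n149177 := ndS (p := 42559) (l := 0) rfl N42559 D149177
theorem N75899 : nd 75899 = n149178 := ndS (p := 42559) (l := 1) rfl N42559 D149178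
theorem N75900 : nd 75900 = n149179 := ndS (p := 42559) (l := 3) rfl N42559 D149179
theorem N75901 : nd 75901 = n149180 := ndS (p := 42559) (l := 5) rfl N42559 D149180
theorem N75902 : nd 75902 = n149181 := ndS (p := 42559) (l := 6) rfl N42559 D149181
theorem N75903 : nd 75903 = n149185 := ndS (p := 42561) (l := 1) rfl N42561 D149185
theorem N75904 : nd 75904 = n149187 := ndS (p := 42561) (l := 6) rfl N42561 D149187
theorem N75905 : nd 75905 = n149190 := ndS (p := 42562) (l := 5) rfl N42562 D149190
theorem N75906 : nd 75906 = n149192 := ndS (p := 42563) (l := 5) rfl N42563 D149192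
theorem N75907 : nd 75907 = n149194 := ndS (p := 42564) (l := 4) rfl N42564 D149194
theorem N75908 : nd 75908 = n149195 := ndS (p := 42564) (l := 6) rfl N42564 D149195
theorem N75909 : nd 75909 = n149197 := ndS (p := 42565) (l := 5) rfl N42565 D149197
theorem N75910 : nd 75910 = n149199 := ndS (p := 42566) (l := 5) rfl N42566 D149199
theorem N75911 : nd 75911 = n149200 := ndS (p := 42566) (l := 6) rfl N42566 D149200
theorem N75912 : nd 75912 = n149202 := ndS (p := 42567) (l := 5) rfl N42567 D149202
theorem N75913 : nd 75913 = n149203 := ndS (p := 42567) (l := 7) rfl N42567 D149203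
theorem N75914 : nd 75914 = n149207 := ndS (p := 42569) (l := 2) rfl N42569 D149207
theorem N75915 : nd 75915 = n149208 := ndS (p := 42569) (l := 4) rfl N42569 D149208
theorem N75916 : nd 75916 = n149209 := ndS (p := 42569) (l := 5) rfl N42569 D149209
theorem N75917 : nd 75917 = n149210 := ndS (p := 42569) (l := 6) rfl N42569 D149210
theorem N75918 : nd 75918 = n149211 := ndS (p := 42570) (l := 0) rfl N42570 D149211
theorem N75919 : nd 75919 = n149212 := ndS (p := 42570) (l := 1) rfl N42570 D149212
theorem N75920 : nd 75920 = n149213 := ndS (p := 42570) (l := 3) rfl N42570 D149213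
theorem N75921 : nd 75921 = n149214 := ndS (p := 42570) (l := 5) rfl N42570 D149214
theorem N75922 : nd 75922 = n149215 := ndS (p := 42570) (l := 6) rfl N42570 D149215
theorem N75923 : nd 75923 = n149216 := ndS (p := 42571) (l := 4) rfl N42571 D149216
theorem N75924 : nd 75924 = n149220 := ndS (p := 42573) (l := 5) rfl N42573 D149220
theorem N75925 : nd 75925 = n149222 := ndS (p := 42574) (l := 3) rfl N42574 D149222
theorem N75926 : nd 75926 = n149223 := ndS (p := 42574) (l := 5) rfl N42574 D149223
theorem N75927 : nd 75927 = n149225 := ndS (p := 42575) (l := 4) rfl N42575 D149225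
theorem N75928 : nd 75928 = n149230 := ndS (p := 42576) (l := 3) rfl N42576 D149230
theorem N75929 : nd 75929 = n149231 := ndS (p := 42576) (l := 5) rfl N42576 D149231
theorem N75930 : nd 75930 = n149232 := ndS (p := 42576) (l := 6) rfl N42576 D149232
theorem N75931 : nd 75931 = n149236 := ndS (p := 42578) (l := 0) rfl N42578 D149236
theorem N75932 : nd 75932 = n149238 := ndS (p := 42578) (l := 4) rfl N42578 D149238
theorem N75933 : nd 75933 = n149239 := ndS (p := 42578) (l := 7) rfl N42578 D149239
theorem N75934 : nd 75934 = n149241 := ndS (p := 42581) (l := 6) rfl N42581 D149241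
theorem N75935 : nd 75935 = n149242 := ndS (p := 42582) (l := 6) rfl N42582 D149242
theorem N75936 : nd 75936 = n149257 := ndS (p := 42586) (l := 6) rfl N42586 D149257
theorem N75937 : nd 75937 = n149258 := ndS (p := 42587) (l := 3) rfl N42587 D149258
theorem N75938 : nd 75938 = n149259 := ndS (p := 42587) (l := 6) rfl N42587 D149259
theorem N75939 : nd 75939 = n149261 := ndS (p := 42588) (l := 1) rfl N42588 D149261
theorem N75940 : nd 75940 = n149262 := ndS (p := 42588) (l := 7) rfl N42588 D149262
theorem N75941 : nd 75941 = n149264 := ndS (p := 42591) (l := 0) rfl N42591 D149264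
theorem N75942 : nd 75942 = n149265 := ndS (p := 42591) (l := 1) rfl N42591 D149265
theorem N75943 : nd 75943 = n149266 := ndS (p := 42591) (l := 5) rfl N42591 D149266
theorem N75944 : nd 75944 = n149267 := ndS (p := 42591) (l := 7) rfl N42591 D149267
theorem N75945 : nd 75945 = n149274 := ndS (p := 42595) (l := 6) rfl N42595 D149274
theorem N75946 : nd 75946 = n149277 := ndS (p := 42596) (l := 5) rfl N42596 D149277
theorem N75947 : nd 75947 = n149278 := ndS (p := 42596) (l := 7) rfl N42596 D149278
theorem N75948 : nd 75948 = n149279 := ndS (p := 42597) (l := 0) rfl N42597 D149279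
theorem N75949 : nd 75949 = n149280 := ndS (p := 42597) (l := 1) rfl N42597 D149280
theorem N75950 : nd 75950 = n149281 := ndS (p := 42597) (l := 4) rfl N42597 D149281
theorem N75951 : nd 75951 = n149282 := ndS (p := 42597) (l := 6) rfl N42597 D149282
theorem N75952 : nd 75952 = n149287 := ndS (p := 42598) (l := 4) rfl N42598 D149287
theorem N75953 : nd 75953 = n149290 := ndS (p := 42599) (l := 4) rfl N42599 D149290
theorem N75954 : nd 75954 = n149294 := ndS (p := 42600) (l := 5) rfl N42600 D149294
theorem N75955 : nd 75955 = n149300 := ndS (p := 42601) (l := 3) rfl N42601 D149300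
theorem N75956 : nd 75956 = n149320 := ndS (p := 42603) (l := 4) rfl N42603 D149320
theorem N75957 : nd 75957 = n149321 := ndS (p := 42603) (l := 6) rfl N42603 D149321
theorem N75958 : nd 75958 = n149326 := ndS (p := 42604) (l := 6) rfl N42604 D149326
theorem N75959 : nd 75959 = n149328 := ndS (p := 42605) (l := 5) rfl N42605 D149328
theorem N75960 : nd 75960 = n149330 := ndS (p := 42606) (l := 1) rfl N42606 D149330
theorem N75961 : nd 75961 = n149331 := ndS (p := 42606) (l := 4) rfl N42606 D149331
theorem N75962 : nd 75962 = n149336 := ndS (p := 42607) (l := 4) rfl N42607 D149336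
theorem N75963 : nd 75963 = n149337 := ndS (p := 42607) (l := 5) rfl N42607 D149337
theorem N75964 : nd 75964 = n149339 := ndS (p := 42608) (l := 4) rfl N42608 D149339
theorem N75965 : nd 75965 = n149340 := ndS (p := 42608) (l := 6) rfl N42608 D149340
theorem N75966 : nd 75966 = n149346 := ndS (p := 42609) (l := 0) rfl N42609 D149346
theorem N75967 : nd 75967 = n149347 := ndS (p := 42609) (l := 5) rfl N42609 D149347
theorem N75968 : nd 75968 = n149353 := ndS (p := 42612) (l := 1) rfl N42612 D149353
theorem N75969 : nd 75969 = n149365 := ndS (p := 42615) (l := 0) rfl N42615 D149365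
theorem N75970 : nd 75970 = n149367 := ndS (p := 42615) (l := 5) rfl N42615 D149367
theorem N75971 : nd 75971 = n149369 := ndS (p := 42616) (l := 4) rfl N42616 D149369
theorem N75972 : nd 75972 = n149374 := ndS (p := 42617) (l := 4) rfl N42617 D149374
theorem N75973 : nd 75973 = n149376 := ndS (p := 42618) (l := 1) rfl N42618 D149376
theorem N75974 : nd 75974 = n149378 := ndS (p := 42618) (l := 5) rfl N42618 D149378
theorem N75975 : nd 75975 = n149416 := ndS (p := 42620) (l := 0) rfl N42620 D149416
theorem N75976 : nd 75976 = n149423 := ndS (p := 42623) (l := 6) rfl N42623 D149423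
theorem N75977 : nd 75977 = n149459 := ndS (p := 42626) (l := 1) rfl N42626 D149459
theorem N75978 : nd 75978 = n149467 := ndS (p := 42630) (l := 7) rfl N42630 D149467
theorem N75979 : nd 75979 = n149470 := ndS (p := 42632) (l := 6) rfl N42632 D149470
theorem N75980 : nd 75980 = n149486 := ndS (p := 42636) (l := 4) rfl N42636 D149486
theorem N75981 : nd 75981 = n149521 := ndS (p := 42637) (l := 2) rfl N42637 D149521
theorem N75982 : nd 75982 = n149574 := ndS (p := 42643) (l := 1) rfl N42643 D149574
theorem N75983 : nd 75983 = n149575 := ndS (p := 42643) (l := 5) rfl N42643 D149575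
theorem N75984 : nd 75984 = n149582 := ndS (p := 42645) (l := 3) rfl N42645 D149582
theorem N75985 : nd 75985 = n149583 := ndS (p := 42645) (l := 4) rfl N42645 D149583
theorem N75986 : nd 75986 = n149587 := ndS (p := 42646) (l := 4) rfl N42646 D149587
theorem N75987 : nd 75987 = n149620 := ndS (p := 42649) (l := 4) rfl N42649 D149620
theorem N75988 : nd 75988 = n149657 := ndS (p := 42655) (l := 1) rfl N42655 D149657
theorem N75989 : nd 75989 = n149658 := ndS (p := 42655) (l := 7) rfl N42655 D149658
theorem N75990 : nd 75990 = n149659 := ndS (p := 42656) (l := 5) rfl N42656 D149659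
theorem N75991 : nd 75991 = n149660 := ndS (p := 42656) (l := 6) rfl N42656 D149660
theorem N75992 : nd 75992 = n149662 := ndS (p := 42658) (l := 1) rfl N42658 D149662
theorem N75993 : nd 75993 = n149663 := ndS (p := 42658) (l := 7) rfl N42658 D149663
theorem N75994 : nd 75994 = n149664 := ndS (p := 42659) (l := 6) rfl N42659 D149664
theorem N75995 : nd 75995 = n149666 := ndS (p := 42661) (l := 7) rfl N42661 D149666
theorem N75996 : nd 75996 = n149668 := ndS (p := 42663) (l := 6) rfl N42663 D149668
theorem N75997 : nd 75997 = n149674 := ndS (p := 42664) (l := 6) rfl N42664 D149674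
theorem N75998 : nd 75998 = n149685 := ndS (p := 42665) (l := 6) rfl N42665 D149685
theorem N75999 : nd 75999 = n149686 := ndS (p := 42666) (l := 0) rfl N42666 D149686
theorem N76000 : nd 76000 = n149688 := ndS (p := 42666) (l := 7) rfl N42666 D149688
theorem N76001 : nd 76001 = n149726 := ndS (p := 42671) (l := 5) rfl N42671 D149726
theorem N76002 : nd 76002 = n149728 := ndS (p := 42672) (l := 6) rfl N42672 D149728
theorem N76003 : nd 76003 = n149735 := ndS (p := 42676) (l := 5) rfl N42676 D149735
theorem N76004 : nd 76004 = n149746 := ndS (p := 42677) (l := 6) rfl N42677 D149746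
theorem N76005 : nd 76005 = n149762 := ndS (p := 42679) (l := 2) rfl N42679 D149762
theorem N76006 : nd 76006 = n149763 := ndS (p := 42680) (l := 7) rfl N42680 D149763
theorem N76007 : nd 76007 = n149769 := ndS (p := 42682) (l := 6) rfl N42682 D149769
theorem N76008 : nd 76008 = n149792 := ndS (p := 42686) (l := 7) rfl N42686 D149792
theorem N76009 : nd 76009 = n149793 := ndS (p := 42687) (l := 6) rfl N42687 D149793
theorem N76010 : nd 76010 = n149794 := ndS (p := 42688) (l := 5) rfl N42688 D149794
theorem N76011 : nd 76011 = n149795 := ndS (p := 42689) (l := 6) rfl N42689 D149795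
theorem N76012 : nd 76012 = n149797 := ndS (p := 42693) (l := 6) rfl N42693 D149797
theorem N76013 : nd 76013 = n149798 := ndS (p := 42694) (l := 0) rfl N42694 D149798
theorem N76014 : nd 76014 = n149840 := ndS (p := 42700) (l := 3) rfl N42700 D149840
theorem N76015 : nd 76015 = n149842 := ndS (p := 42701) (l := 6) rfl N42701 D149842
theorem N76016 : nd 76016 = n149872 := ndS (p := 42703) (l := 0) rfl N42703 D149872
theorem N76017 : nd 76017 = n149875 := ndS (p := 42704) (l := 1) rfl N42704 D149875
theorem N76018 : nd 76018 = n149876 := ndS (p := 42705) (l := 0) rfl N42705 D149876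
theorem N76019 : nd 76019 = n149891 := ndS (p := 42707) (l := 3) rfl N42707 D149891
theorem N76020 : nd 76020 = n149893 := ndS (p := 42708) (l := 3) rfl N42708 D149893
theorem N76021 : nd 76021 = n149903 := ndS (p := 42712) (l := 6) rfl N42712 D149903
theorem N76022 : nd 76022 = n149908 := ndS (p := 42713) (l := 6) rfl N42713 D149908
theorem N76023 : nd 76023 = n149909 := ndS (p := 42714) (l := 3) rfl N42714 D149909
theorem N76024 : nd 76024 = n149917 := ndS (p := 42715) (l := 4) rfl N42715 D149917
theorem N76025 : nd 76025 = n149918 := ndS (p := 42716) (l := 3) rfl N42716 D149918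
theorem N76026 : nd 76026 = n149939 := ndS (p := 42718) (l := 0) rfl N42718 D149939
theorem N76027 : nd 76027 = n149941 := ndS (p := 42718) (l := 4) rfl N42718 D149941
theorem N76028 : nd 76028 = n149944 := ndS (p := 42719) (l := 5) rfl N42719 D149944
theorem N76029 : nd 76029 = n149947 := ndS (p := 42721) (l := 6) rfl N42721 D149947
theorem N76030 : nd 76030 = n149995 := ndS (p := 42730) (l := 1) rfl N42730 D149995
theorem N76031 : nd 76031 = n149996 := ndS (p := 42730) (l := 7) rfl N42730 D149996
theorem N76032 : nd 76032 = n149997 := ndS (p := 42731) (l := 6) rfl N42731 D149997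
theorem N76033 : nd 76033 = n149998 := ndS (p := 42732) (l := 0) rfl N42732 D149998
theorem N76034 : nd 76034 = n150000 := ndS (p := 42732) (l := 7) rfl N42732 D150000
theorem N76035 : nd 76035 = n150006 := ndS (p := 42734) (l := 4) rfl N42734 D150006
theorem N76036 : nd 76036 = n150007 := ndS (p := 42734) (l := 6) rfl N42734 D150007
theorem N76037 : nd 76037 = n150008 := ndS (p := 42735) (l := 3) rfl N42735 D150008
theorem N76038 : nd 76038 = n150009 := ndS (p := 42735) (l := 4) rfl N42735 D150009
theorem N76039 : nd 76039 = n150013 := ndS (p := 42739) (l := 0) rfl N42739 D150013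
theorem N76040 : nd 76040 = n150014 := ndS (p := 42739) (l := 1) rfl N42739 D150014
theorem N76041 : nd 76041 = n150024 := ndS (p := 42743) (l := 6) rfl N42743 D150024
theorem N76042 : nd 76042 = n150025 := ndS (p := 42744) (l := 6) rfl N42744 D150025
theorem N76043 : nd 76043 = n150029 := ndS (p := 42747) (l := 6) rfl N42747 D150029
theorem N76044 : nd 76044 = n150033 := ndS (p := 42748) (l := 6) rfl N42748 D150033
theorem N76045 : nd 76045 = n150034 := ndS (p := 42749) (l := 3) rfl N42749 D150034
theorem N76046 : nd 76046 = n150035 := ndS (p := 42749) (l := 5) rfl N42749 D150035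
theorem N76047 : nd 76047 = n150036 := ndS (p := 42750) (l := 3) rfl N42750 D150036
theorem N76048 : nd 76048 = n150037 := ndS (p := 42750) (l := 5) rfl N42750 D150037
theorem N76049 : nd 76049 = n150038 := ndS (p := 42750) (l := 6) rfl N42750 D150038
theorem N76050 : nd 76050 = n150039 := ndS (p := 42751) (l := 3) rfl N42751 D150039
theorem N76051 : nd 76051 = n150040 := ndS (p := 42751) (l := 5) rfl N42751 D150040
theorem N76052 : nd 76052 = n150042 := ndS (p := 42752) (l := 0) rfl N42752 D150042
theorem N76053 : nd 76053 = n150044 := ndS (p := 42752) (l := 2) rfl N42752 D150044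
theorem N76054 : nd 76054 = n150045 := ndS (p := 42752) (l := 5) rfl N42752 D150045
theorem N76055 : nd 76055 = n150046 := ndS (p := 42753) (l := 0) rfl N42753 D150046
theorem N76056 : nd 76056 = n150047 := ndS (p := 42753) (l := 4) rfl N42753 D150047
theorem N76057 : nd 76057 = n150048 := ndS (p := 42753) (l := 6) rfl N42753 D150048
theorem N76058 : nd 76058 = n150076 := ndS (p := 42760) (l := 0) rfl N42760 D150076
theorem N76059 : nd 76059 = n150077 := ndS (p := 42760) (l := 7) rfl N42760 D150077
theorem N76060 : nd 76060 = n150078 := ndS (p := 42761) (l := 5) rfl N42761 D150078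
theorem N76061 : nd 76061 = n150079 := ndS (p := 42761) (l := 6) rfl N42761 D150079
theorem N76062 : nd 76062 = n150080 := ndS (p := 42762) (l := 5) rfl N42762 D150080
theorem N76063 : nd 76063 = n150081 := ndS (p := 42762) (l := 6) rfl N42762 D150081
theorem N76064 : nd 76064 = n150083 := ndS (p := 42765) (l := 3) rfl N42765 D150083
theorem N76065 : nd 76065 = n150084 := ndS (p := 42765) (l := 5) rfl N42765 D150084
theorem N76066 : nd 76066 = n150085 := ndS (p := 42765) (l := 6) rfl N42765 D150085
theorem N76067 : nd 76067 = n150086 := ndS (p := 42766) (l := 5) rfl N42766 D150086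
theorem N76068 : nd 76068 = n150087 := ndS (p := 42766) (l := 6) rfl N42766 D150087
theorem N76069 : nd 76069 = n150088 := ndS (p := 42767) (l := 0) rfl N42767 D150088
theorem N76070 : nd 76070 = n150089 := ndS (p := 42767) (l := 1) rfl N42767 D150089
theorem N76071 : nd 76071 = n150091 := ndS (p := 42767) (l := 7) rfl N42767 D150091
theorem N76072 : nd 76072 = n150093 := ndS (p := 42769) (l := 5) rfl N42769 D150093
theorem N76073 : nd 76073 = n150095 := ndS (p := 42770) (l := 1) rfl N42770 D150095
theorem N76074 : nd 76074 = n150096 := ndS (p := 42770) (l := 4) rfl N42770 D150096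
theorem N76075 : nd 76075 = n150098 := ndS (p := 42771) (l := 5) rfl N42771 D150098
theorem N76076 : nd 76076 = n150099 := ndS (p := 42771) (l := 6) rfl N42771 D150099
theorem N76077 : nd 76077 = n150103 := ndS (p := 42775) (l := 5) rfl N42775 D150103
theorem N76078 : nd 76078 = n150104 := ndS (p := 42775) (l := 6) rfl N42775 D150104
theorem N76079 : nd 76079 = n150105 := ndS (p := 42776) (l := 5) rfl N42776 D150105
theorem N76080 : nd 76080 = n150106 := ndS (p := 42776) (l := 6) rfl N42776 D150106
theorem N76081 : nd 76081 = n150108 := ndS (p := 42778) (l := 5) rfl N42778 D150108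
theorem N76082 : nd 76082 = n150110 := ndS (p := 42779) (l := 5) rfl N42779 D150110
theorem N76083 : nd 76083 = n150111 := ndS (p := 42779) (l := 6) rfl N42779 D150111
theorem N76084 : nd 76084 = n150112 := ndS (p := 42780) (l := 3) rfl N42780 D150112
theorem N76085 : nd 76085 = n150113 := ndS (p := 42780) (l := 5) rfl N42780 D150113
theorem N76086 : nd 76086 = n150114 := ndS (p := 42780) (l := 6) rfl N42780 D150114
theorem N76087 : nd 76087 = n150115 := ndS (p := 42781) (l := 0) rfl N42781 D150115
theorem N76088 : nd 76088 = n150116 := ndS (p := 42781) (l := 1) rfl N42781 D150116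
theorem N76089 : nd 76089 = n150117 := ndS (p := 42781) (l := 4) rfl N42781 D150117
theorem N76090 : nd 76090 = n150118 := ndS (p := 42781) (l := 7) rfl N42781 D150118
theorem N76091 : nd 76091 = n150119 := ndS (p := 42783) (l := 3) rfl N42783 D150119
theorem N76092 : nd 76092 = n150124 := ndS (p := 42786) (l := 5) rfl N42786 D150124
theorem N76093 : nd 76093 = n150125 := ndS (p := 42787) (l := 0) rfl N42787 D150125
theorem N76094 : nd 76094 = n150128 := ndS (p := 42787) (l := 7) rfl N42787 D150128
theorem N76095 : nd 76095 = n150129 := ndS (p := 42789) (l := 1) rfl N42789 D150129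
theorem N76096 : nd 76096 = n150130 := ndS (p := 42789) (l := 4) rfl N42789 D150130
theorem N76097 : nd 76097 = n150131 := ndS (p := 42789) (l := 7) rfl N42789 D150131
theorem N76098 : nd 76098 = n150134 := ndS (p := 42791) (l := 5) rfl N42791 D150134
theorem N76099 : nd 76099 = n150138 := ndS (p := 42792) (l := 4) rfl N42792 D150138
theorem N76100 : nd 76100 = n150139 := ndS (p := 42792) (l := 5) rfl N42792 D150139
theorem N76101 : nd 76101 = n150140 := ndS (p := 42792) (l := 6) rfl N42792 D150140
theorem N76102 : nd 76102 = n150188 := ndS (p := 42796) (l := 6) rfl N42796 D150188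
theorem N76103 : nd 76103 = n150196 := ndS (p := 42797) (l := 0) rfl N42797 D150196
theorem N76104 : nd 76104 = n150197 := ndS (p := 42797) (l := 1) rfl N42797 D150197
theorem N76105 : nd 76105 = n150198 := ndS (p := 42797) (l := 7) rfl N42797 D150198
theorem N76106 : nd 76106 = n150214 := ndS (p := 42801) (l := 4) rfl N42801 D150214
theorem N76107 : nd 76107 = n150235 := ndS (p := 42809) (l := 0) rfl N42809 D150235
theorem N76108 : nd 76108 = n150237 := ndS (p := 42809) (l := 5) rfl N42809 D150237
theorem N76109 : nd 76109 = n150241 := ndS (p := 42810) (l := 6) rfl N42810 D150241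
theorem N76110 : nd 76110 = n150242 := ndS (p := 42811) (l := 5) rfl N42811 D150242
theorem N76111 : nd 76111 = n150243 := ndS (p := 42812) (l := 0) rfl N42812 D150243
theorem N76112 : nd 76112 = n150244 := ndS (p := 42812) (l := 1) rfl N42812 D150244
theorem N76113 : nd 76113 = n150245 := ndS (p := 42812) (l := 5) rfl N42812 D150245
theorem N76114 : nd 76114 = n150246 := ndS (p := 42812) (l := 7) rfl N42812 D150246
theorem N76115 : nd 76115 = n150248 := ndS (p := 42813) (l := 5) rfl N42813 D150248
theorem N76116 : nd 76116 = n150250 := ndS (p := 42814) (l := 3) rfl N42814 D150250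
theorem N76117 : nd 76117 = n150251 := ndS (p := 42814) (l := 5) rfl N42814 D150251
theorem N76118 : nd 76118 = n150252 := ndS (p := 42814) (l := 6) rfl N42814 D150252
theorem N76119 : nd 76119 = n150253 := ndS (p := 42815) (l := 0) rfl N42815 D150253
theorem N76120 : nd 76120 = n150254 := ndS (p := 42815) (l := 1) rfl N42815 D150254
theorem N76121 : nd 76121 = n150255 := ndS (p := 42815) (l := 4) rfl N42815 D150255
theorem N76122 : nd 76122 = n150279 := ndS (p := 42823) (l := 0) rfl N42823 D150279
theorem N76123 : nd 76123 = n150304 := ndS (p := 42825) (l := 6) rfl N42825 D150304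
theorem N76124 : nd 76124 = n150305 := ndS (p := 42827) (l := 5) rfl N42827 D150305
theorem N76125 : nd 76125 = n150311 := ndS (p := 42828) (l := 6) rfl N42828 D150311
theorem N76126 : nd 76126 = n150313 := ndS (p := 42831) (l := 3) rfl N42831 D150313
theorem N76127 : nd 76127 = n150314 := ndS (p := 42831) (l := 6) rfl N42831 D150314
theorem N76128 : nd 76128 = n150316 := ndS (p := 42832) (l := 3) rfl N42832 D150316
theorem N76129 : nd 76129 = n150318 := ndS (p := 42832) (l := 7) rfl N42832 D150318
theorem N76130 : nd 76130 = n150319 := ndS (p := 42834) (l := 0) rfl N42834 D150319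
theorem N76131 : nd 76131 = n150320 := ndS (p := 42834) (l := 1) rfl N42834 D150320
theorem N76132 : nd 76132 = n150321 := ndS (p := 42834) (l := 2) rfl N42834 D150321
theorem N76133 : nd 76133 = n150356 := ndS (p := 42842) (l := 0) rfl N42842 D150356
theorem N76134 : nd 76134 = n150376 := ndS (p := 42843) (l := 4) rfl N42843 D150376
theorem N76135 : nd 76135 = n150377 := ndS (p := 42844) (l := 4) rfl N42844 D150377
theorem N76136 : nd 76136 = n150387 := ndS (p := 42846) (l := 5) rfl N42846 D150387
theorem N76137 : nd 76137 = n150406 := ndS (p := 42850) (l := 5) rfl N42850 D150406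
theorem N76138 : nd 76138 = n150407 := ndS (p := 42851) (l := 5) rfl N42851 D150407
theorem N76139 : nd 76139 = n150420 := ndS (p := 42857) (l := 5) rfl N42857 D150420
theorem N76140 : nd 76140 = n150422 := ndS (p := 42858) (l := 5) rfl N42858 D150422
theorem N76141 : nd 76141 = n150423 := ndS (p := 42858) (l := 6) rfl N42858 D150423
theorem N76142 : nd 76142 = n150449 := ndS (p := 42862) (l := 3) rfl N42862 D150449
theorem N76143 : nd 76143 = n150534 := ndS (p := 42867) (l := 0) rfl N42867 D150534
theorem N76144 : nd 76144 = n150538 := ndS (p := 42868) (l := 7) rfl N42868 D150538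
theorem N76145 : nd 76145 = n150549 := ndS (p := 42870) (l := 3) rfl N42870 D150549
theorem N76146 : nd 76146 = n150554 := ndS (p := 42873) (l := 4) rfl N42873 D150554
theorem N76147 : nd 76147 = n150560 := ndS (p := 42877) (l := 3) rfl N42877 D150560
theorem N76148 : nd 76148 = n150562 := ndS (p := 42878) (l := 3) rfl N42878 D150562
theorem N76149 : nd 76149 = n150576 := ndS (p := 42881) (l := 3) rfl N42881 D150576
theorem N76150 : nd 76150 = n150577 := ndS (p := 42881) (l := 5) rfl N42881 D150577
theorem N76151 : nd 76151 = n150578 := ndS (p := 42881) (l := 6) rfl N42881 D150578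
theorem N76152 : nd 76152 = n150580 := ndS (p := 42882) (l := 1) rfl N42882 D150580
theorem N76153 : nd 76153 = n150589 := ndS (p := 42885) (l := 0) rfl N42885 D150589
theorem N76154 : nd 76154 = n150591 := ndS (p := 42885) (l := 2) rfl N42885 D150591
theorem N76155 : nd 76155 = n150600 := ndS (p := 42886) (l := 0) rfl N42886 D150600
theorem N76156 : nd 76156 = n150601 := ndS (p := 42886) (l := 1) rfl N42886 D150601
theorem N76157 : nd 76157 = n150602 := ndS (p := 42886) (l := 2) rfl N42886 D150602
theorem N76158 : nd 76158 = n150607 := ndS (p := 42887) (l := 2) rfl N42887 D150607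
theorem N76159 : nd 76159 = n150608 := ndS (p := 42887) (l := 4) rfl N42887 D150608
theorem N76160 : nd 76160 = n150622 := ndS (p := 42888) (l := 3) rfl N42888 D150622
theorem N76161 : nd 76161 = n150623 := ndS (p := 42888) (l := 5) rfl N42888 D150623
theorem N76162 : nd 76162 = n150624 := ndS (p := 42889) (l := 4) rfl N42889 D150624
theorem N76163 : nd 76163 = n150626 := ndS (p := 42890) (l := 3) rfl N42890 D150626
theorem N76164 : nd 76164 = n150631 := ndS (p := 42891) (l := 7) rfl N42891 D150631
theorem N76165 : nd 76165 = n150653 := ndS (p := 42894) (l := 4) rfl N42894 D150653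
theorem N76166 : nd 76166 = n150654 := ndS (p := 42895) (l := 3) rfl N42895 D150654
theorem N76167 : nd 76167 = n150666 := ndS (p := 42897) (l := 5) rfl N42897 D150666
theorem N76168 : nd 76168 = n150668 := ndS (p := 42898) (l := 1) rfl N42898 D150668
theorem N76169 : nd 76169 = n150669 := ndS (p := 42898) (l := 4) rfl N42898 D150669
theorem N76170 : nd 76170 = n150672 := ndS (p := 42899) (l := 7) rfl N42899 D150672
theorem N76171 : nd 76171 = n150685 := ndS (p := 42902) (l := 4) rfl N42902 D150685
theorem N76172 : nd 76172 = n150687 := ndS (p := 42903) (l := 0) rfl N42903 D150687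
theorem N76173 : nd 76173 = n150688 := ndS (p := 42903) (l := 1) rfl N42903 D150688
theorem N76174 : nd 76174 = n150690 := ndS (p := 42903) (l := 5) rfl N42903 D150690
theorem N76175 : nd 76175 = n150708 := ndS (p := 42904) (l := 1) rfl N42904 D150708
theorem N76176 : nd 76176 = n150710 := ndS (p := 42904) (l := 5) rfl N42904 D150710
theorem N76177 : nd 76177 = n150751 := ndS (p := 42905) (l := 4) rfl N42905 D150751
theorem N76178 : nd 76178 = n150752 := ndS (p := 42905) (l := 6) rfl N42905 D150752
theorem N76179 : nd 76179 = n150754 := ndS (p := 42906) (l := 5) rfl N42906 D150754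
theorem N76180 : nd 76180 = n150755 := ndS (p := 42906) (l := 6) rfl N42906 D150755
theorem N76181 : nd 76181 = n150763 := ndS (p := 42909) (l := 6) rfl N42909 D150763
theorem N76182 : nd 76182 = n150764 := ndS (p := 42910) (l := 0) rfl N42910 D150764
theorem N76183 : nd 76183 = n150765 := ndS (p := 42910) (l := 1) rfl N42910 D150765
theorem N76184 : nd 76184 = n150768 := ndS (p := 42910) (l := 6) rfl N42910 D150768
theorem N76185 : nd 76185 = n150770 := ndS (p := 42911) (l := 1) rfl N42911 D150770
theorem N76186 : nd 76186 = n150771 := ndS (p := 42911) (l := 7) rfl N42911 D150771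
theorem N76187 : nd 76187 = n150772 := ndS (p := 42912) (l := 3) rfl N42912 D150772
theorem N76188 : nd 76188 = n150773 := ndS (p := 42912) (l := 5) rfl N42912 D150773
theorem N76189 : nd 76189 = n150774 := ndS (p := 42912) (l := 6) rfl N42912 D150774
theorem N76190 : nd 76190 = n150779 := ndS (p := 42915) (l := 3) rfl N42915 D150779
theorem N76191 : nd 76191 = n150780 := ndS (p := 42915) (l := 5) rfl N42915 D150780
theorem N76192 : nd 76192 = n150783 := ndS (p := 42916) (l := 3) rfl N42916 D150783
theorem N76193 : nd 76193 = n150792 := ndS (p := 42917) (l := 4) rfl N42917 D150792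
theorem N76194 : nd 76194 = n150847 := ndS (p := 42918) (l := 4) rfl N42918 D150847
theorem N76195 : nd 76195 = n150849 := ndS (p := 42919) (l := 0) rfl N42919 D150849
theorem N76196 : nd 76196 = n150851 := ndS (p := 42919) (l := 5) rfl N42919 D150851
theorem N76197 : nd 76197 = n150853 := ndS (p := 42920) (l := 3) rfl N42920 D150853
theorem N76198 : nd 76198 = n150855 := ndS (p := 42920) (l := 5) rfl N42920 D150855
theorem N76199 : nd 76199 = n150897 := ndS (p := 42922) (l := 3) rfl N42922 D150897
theorem N76200 : nd 76200 = n150906 := ndS (p := 42923) (l := 1) rfl N42923 D150906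
theorem N76201 : nd 76201 = n150910 := ndS (p := 42924) (l := 4) rfl N42924 D150910
theorem N76202 : nd 76202 = n150911 := ndS (p := 42924) (l := 5) rfl N42924 D150911
theorem N76203 : nd 76203 = n150913 := ndS (p := 42925) (l := 3) rfl N42925 D150913
theorem N76204 : nd 76204 = n150914 := ndS (p := 42925) (l := 4) rfl N42925 D150914
theorem N76205 : nd 76205 = n150915 := ndS (p := 42925) (l := 5) rfl N42925 D150915
theorem N76206 : nd 76206 = n150956 := ndS (p := 42926) (l := 4) rfl N42926 D150956
theorem N76207 : nd 76207 = n150957 := ndS (p := 42926) (l := 6) rfl N42926 D150957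
theorem N76208 : nd 76208 = n151154 := ndS (p := 42927) (l := 3) rfl N42927 D151154
theorem N76209 : nd 76209 = n151155 := ndS (p := 42927) (l := 5) rfl N42927 D151155
theorem N76210 : nd 76210 = n151156 := ndS (p := 42927) (l := 6) rfl N42927 D151156
theorem N76211 : nd 76211 = n151157 := ndS (p := 42928) (l := 0) rfl N42928 D151157
theorem N76212 : nd 76212 = n151162 := ndS (p := 42930) (l := 3) rfl N42930 D151162
theorem N76213 : nd 76213 = n151163 := ndS (p := 42930) (l := 5) rfl N42930 D151163
theorem N76214 : nd 76214 = n151164 := ndS (p := 42930) (l := 6) rfl N42930 D151164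
theorem N76215 : nd 76215 = n151166 := ndS (p := 42933) (l := 3) rfl N42933 D151166
theorem N76216 : nd 76216 = n151167 := ndS (p := 42933) (l := 5) rfl N42933 D151167
theorem N76217 : nd 76217 = n151173 := ndS (p := 42934) (l := 6) rfl N42934 D151173
theorem N76218 : nd 76218 = n151179 := ndS (p := 42935) (l := 0) rfl N42935 D151179
theorem N76219 : nd 76219 = n151181 := ndS (p := 42935) (l := 5) rfl N42935 D151181
theorem N76220 : nd 76220 = n151182 := ndS (p := 42935) (l := 6) rfl N42935 D151182
theorem N76221 : nd 76221 = n151184 := ndS (p := 42936) (l := 1) rfl N42936 D151184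
theorem N76222 : nd 76222 = n151222 := ndS (p := 42937) (l := 3) rfl N42937 D151222
theorem N76223 : nd 76223 = n151223 := ndS (p := 42937) (l := 4) rfl N42937 D151223
theorem N76224 : nd 76224 = n151224 := ndS (p := 42938) (l := 4) rfl N42938 D151224
theorem N76225 : nd 76225 = n151225 := ndS (p := 42938) (l := 6) rfl N42938 D151225
theorem N76226 : nd 76226 = n151231 := ndS (p := 42939) (l := 0) rfl N42939 D151231
theorem N76227 : nd 76227 = n151232 := ndS (p := 42939) (l := 1) rfl N42939 D151232
theorem N76228 : nd 76228 = n151233 := ndS (p := 42939) (l := 7) rfl N42939 D151233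
theorem N76229 : nd 76229 = n151234 := ndS (p := 42940) (l := 4) rfl N42940 D151234
theorem N76230 : nd 76230 = n151235 := ndS (p := 42940) (l := 6) rfl N42940 D151235
theorem N76231 : nd 76231 = n151237 := ndS (p := 42941) (l := 6) rfl N42941 D151237
theorem N76232 : nd 76232 = n151238 := ndS (p := 42942) (l := 0) rfl N42942 D151238
theorem N76233 : nd 76233 = n151239 := ndS (p := 42942) (l := 1) rfl N42942 D151239
theorem N76234 : nd 76234 = n151240 := ndS (p := 42942) (l := 7) rfl N42942 D151240
theorem N76235 : nd 76235 = n151241 := ndS (p := 42943) (l := 3) rfl N42943 D151241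
theorem N76236 : nd 76236 = n151242 := ndS (p := 42943) (l := 6) rfl N42943 D151242
theorem N76237 : nd 76237 = n151247 := ndS (p := 42944) (l := 0) rfl N42944 D151247
theorem N76238 : nd 76238 = n151248 := ndS (p := 42944) (l := 1) rfl N42944 D151248
theorem N76239 : nd 76239 = n151250 := ndS (p := 42944) (l := 7) rfl N42944 D151250
theorem N76240 : nd 76240 = n151252 := ndS (p := 42945) (l := 3) rfl N42945 D151252
theorem N76241 : nd 76241 = n151253 := ndS (p := 42945) (l := 4) rfl N42945 D151253
theorem N76242 : nd 76242 = n151254 := ndS (p := 42945) (l := 5) rfl N42945 D151254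
theorem N76243 : nd 76243 = n151255 := ndS (p := 42945) (l := 6) rfl N42945 D151255
theorem N76244 : nd 76244 = n151257 := ndS (p := 42946) (l := 3) rfl N42946 D151257
theorem N76245 : nd 76245 = n151259 := ndS (p := 42946) (l := 5) rfl N42946 D151259
theorem N76246 : nd 76246 = n151261 := ndS (p := 42948) (l := 5) rfl N42948 D151261
theorem N76247 : nd 76247 = n151262 := ndS (p := 42949) (l := 3) rfl N42949 D151262
theorem N76248 : nd 76248 = n151267 := ndS (p := 42950) (l := 6) rfl N42950 D151267
theorem N76249 : nd 76249 = n151277 := ndS (p := 42953) (l := 0) rfl N42953 D151277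
theorem N76250 : nd 76250 = n151278 := ndS (p := 42953) (l := 1) rfl N42953 D151278
theorem N76251 : nd 76251 = n151279 := ndS (p := 42953) (l := 5) rfl N42953 D151279
theorem N76252 : nd 76252 = n151281 := ndS (p := 42954) (l := 4) rfl N42954 D151281
theorem N76253 : nd 76253 = n151282 := ndS (p := 42954) (l := 5) rfl N42954 D151282
theorem N76254 : nd 76254 = n151283 := ndS (p := 42954) (l := 6) rfl N42954 D151283
theorem N76255 : nd 76255 = n151303 := ndS (p := 42955) (l := 4) rfl N42955 D151303
theorem N76256 : nd 76256 = n151305 := ndS (p := 42955) (l := 6) rfl N42955 D151305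
theorem N76257 : nd 76257 = n151311 := ndS (p := 42958) (l := 4) rfl N42958 D151311
theorem N76258 : nd 76258 = n151316 := ndS (p := 42961) (l := 1) rfl N42961 D151316
theorem N76259 : nd 76259 = n151317 := ndS (p := 42961) (l := 5) rfl N42961 D151317
theorem N76260 : nd 76260 = n151318 := ndS (p := 42961) (l := 7) rfl N42961 D151318
theorem N76261 : nd 76261 = n151319 := ndS (p := 42962) (l := 4) rfl N42962 D151319
theorem N76262 : nd 76262 = n151320 := ndS (p := 42963) (l := 6) rfl N42963 D151320
theorem N76263 : nd 76263 = n151322 := ndS (p := 42964) (l := 1) rfl N42964 D151322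
theorem N76264 : nd 76264 = n151323 := ndS (p := 42964) (l := 7) rfl N42964 D151323
theorem N76265 : nd 76265 = n151324 := ndS (p := 42965) (l := 6) rfl N42965 D151324
theorem N76266 : nd 76266 = n151327 := ndS (p := 42966) (l := 7) rfl N42966 D151327
theorem N76267 : nd 76267 = n151328 := ndS (p := 42967) (l := 6) rfl N42967 D151328
theorem N76268 : nd 76268 = n151329 := ndS (p := 42968) (l := 0) rfl N42968 D151329
theorem N76269 : nd 76269 = n151331 := ndS (p := 42968) (l := 5) rfl N42968 D151331
theorem N76270 : nd 76270 = n151332 := ndS (p := 42968) (l := 7) rfl N42968 D151332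
theorem N76271 : nd 76271 = n151335 := ndS (p := 42969) (l := 4) rfl N42969 D151335
theorem N76272 : nd 76272 = n151336 := ndS (p := 42969) (l := 5) rfl N42969 D151336
theorem N76273 : nd 76273 = n151337 := ndS (p := 42969) (l := 6) rfl N42969 D151337
theorem N76274 : nd 76274 = n151340 := ndS (p := 42970) (l := 4) rfl N42970 D151340
theorem N76275 : nd 76275 = n151341 := ndS (p := 42970) (l := 5) rfl N42970 D151341
theorem N76276 : nd 76276 = n151343 := ndS (p := 42971) (l := 0) rfl N42971 D151343
theorem N76277 : nd 76277 = n151344 := ndS (p := 42971) (l := 1) rfl N42971 D151344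
theorem N76278 : nd 76278 = n151345 := ndS (p := 42971) (l := 4) rfl N42971 D151345
theorem N76279 : nd 76279 = n151346 := ndS (p := 42971) (l := 7) rfl N42971 D151346
theorem N76280 : nd 76280 = n151347 := ndS (p := 42973) (l := 6) rfl N42973 D151347
theorem N76281 : nd 76281 = n151348 := ndS (p := 42974) (l := 6) rfl N42974 D151348
theorem N76282 : nd 76282 = n151350 := ndS (p := 42975) (l := 1) rfl N42975 D151350
theorem N76283 : nd 76283 = n151351 := ndS (p := 42975) (l := 3) rfl N42975 D151351
theorem N76284 : nd 76284 = n151366 := ndS (p := 42979) (l := 6) rfl N42979 D151366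
theorem N76285 : nd 76285 = n151370 := ndS (p := 42980) (l := 0) rfl N42980 D151370
theorem N76286 : nd 76286 = n151371 := ndS (p := 42980) (l := 1) rfl N42980 D151371
theorem N76287 : nd 76287 = n151372 := ndS (p := 42980) (l := 7) rfl N42980 D151372
theorem N76288 : nd 76288 = n151373 := ndS (p := 42981) (l := 3) rfl N42981 D151373
theorem N76289 : nd 76289 = n151374 := ndS (p := 42981) (l := 6) rfl N42981 D151374
theorem N76290 : nd 76290 = n151375 := ndS (p := 42982) (l := 0) rfl N42982 D151375
theorem N76291 : nd 76291 = n151376 := ndS (p := 42982) (l := 1) rfl N42982 D151376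
theorem N76292 : nd 76292 = n151377 := ndS (p := 42982) (l := 7) rfl N42982 D151377
theorem N76293 : nd 76293 = n151378 := ndS (p := 42983) (l := 0) rfl N42983 D151378
theorem N76294 : nd 76294 = n151379 := ndS (p := 42983) (l := 1) rfl N42983 D151379
theorem N76295 : nd 76295 = n151380 := ndS (p := 42983) (l := 2) rfl N42983 D151380
theorem N76296 : nd 76296 = n151381 := ndS (p := 42983) (l := 5) rfl N42983 D151381
theorem N76297 : nd 76297 = n151383 := ndS (p := 42984) (l := 6) rfl N42984 D151383
theorem N76298 : nd 76298 = n151386 := ndS (p := 42986) (l := 1) rfl N42986 D151386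
theorem N76299 : nd 76299 = n151395 := ndS (p := 42990) (l := 1) rfl N42990 D151395
theorem N76300 : nd 76300 = n151397 := ndS (p := 42990) (l := 7) rfl N42990 D151397
theorem N76301 : nd 76301 = n151400 := ndS (p := 42991) (l := 4) rfl N42991 D151400
theorem N76302 : nd 76302 = n151401 := ndS (p := 42991) (l := 5) rfl N42991 D151401
theorem N76303 : nd 76303 = n151402 := ndS (p := 42991) (l := 6) rfl N42991 D151402
theorem N76304 : nd 76304 = n151406 := ndS (p := 42992) (l := 5) rfl N42992 D151406
theorem N76305 : nd 76305 = n151422 := ndS (p := 42998) (l := 0) rfl N42998 D151422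
theorem N76306 : nd 76306 = n151423 := ndS (p := 42998) (l := 1) rfl N42998 D151423
theorem N76307 : nd 76307 = n151425 := ndS (p := 42998) (l := 7) rfl N42998 D151425
theorem N76308 : nd 76308 = n151426 := ndS (p := 42999) (l := 4) rfl N42999 D151426
theorem N76309 : nd 76309 = n151427 := ndS (p := 43000) (l := 0) rfl N43000 D151427
theorem N76310 : nd 76310 = n151428 := ndS (p := 43000) (l := 1) rfl N43000 D151428
theorem N76311 : nd 76311 = n151432 := ndS (p := 43001) (l := 5) rfl N43001 D151432
theorem N76312 : nd 76312 = n151433 := ndS (p := 43001) (l := 7) rfl N43001 D151433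
theorem N76313 : nd 76313 = n151437 := ndS (p := 43002) (l := 5) rfl N43002 D151437
theorem N76314 : nd 76314 = n151440 := ndS (p := 43003) (l := 3) rfl N43003 D151440
theorem N76315 : nd 76315 = n151442 := ndS (p := 43003) (l := 5) rfl N43003 D151442
theorem N76316 : nd 76316 = n151443 := ndS (p := 43003) (l := 6) rfl N43003 D151443
theorem N76317 : nd 76317 = n151444 := ndS (p := 43004) (l := 0) rfl N43004 D151444
theorem N76318 : nd 76318 = n151445 := ndS (p := 43004) (l := 1) rfl N43004 D151445
theorem N76319 : nd 76319 = n151446 := ndS (p := 43004) (l := 4) rfl N43004 D151446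
theorem N76320 : nd 76320 = n151447 := ndS (p := 43004) (l := 7) rfl N43004 D151447
theorem N76321 : nd 76321 = n151450 := ndS (p := 43007) (l := 0) rfl N43007 D151450
theorem N76322 : nd 76322 = n151451 := ndS (p := 43007) (l := 1) rfl N43007 D151451
theorem N76323 : nd 76323 = n151452 := ndS (p := 43007) (l := 3) rfl N43007 D151452
theorem N76324 : nd 76324 = n151453 := ndS (p := 43007) (l := 5) rfl N43007 D151453
theorem N76325 : nd 76325 = n151492 := ndS (p := 43008) (l := 4) rfl N43008 D151492
theorem N76326 : nd 76326 = n151494 := ndS (p := 43009) (l := 5) rfl N43009 D151494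
theorem N76327 : nd 76327 = n151495 := ndS (p := 43009) (l := 6) rfl N43009 D151495
theorem N76328 : nd 76328 = n151496 := ndS (p := 43011) (l := 4) rfl N43011 D151496
theorem N76329 : nd 76329 = n151497 := ndS (p := 43011) (l := 6) rfl N43011 D151497
theorem N76330 : nd 76330 = n151499 := ndS (p := 43012) (l := 5) rfl N43012 D151499
theorem N76331 : nd 76331 = n151500 := ndS (p := 43012) (l := 6) rfl N43012 D151500
theorem N76332 : nd 76332 = n151502 := ndS (p := 43014) (l := 5) rfl N43014 D151502
theorem N76333 : nd 76333 = n151505 := ndS (p := 43017) (l := 0) rfl N43017 D151505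
theorem N76334 : nd 76334 = n151506 := ndS (p := 43017) (l := 1) rfl N43017 D151506
theorem N76335 : nd 76335 = n151508 := ndS (p := 43017) (l := 5) rfl N43017 D151508
theorem N76336 : nd 76336 = n151510 := ndS (p := 43018) (l := 4) rfl N43018 D151510
theorem N76337 : nd 76337 = n151514 := ndS (p := 43021) (l := 6) rfl N43021 D151514
theorem N76338 : nd 76338 = n151515 := ndS (p := 43022) (l := 6) rfl N43022 D151515
theorem N76339 : nd 76339 = n151516 := ndS (p := 43023) (l := 0) rfl N43023 D151516
theorem N76340 : nd 76340 = n151517 := ndS (p := 43023) (l := 1) rfl N43023 D151517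
theorem N76341 : nd 76341 = n151518 := ndS (p := 43023) (l := 5) rfl N43023 D151518
theorem N76342 : nd 76342 = n151519 := ndS (p := 43023) (l := 7) rfl N43023 D151519
theorem N76343 : nd 76343 = n151523 := ndS (p := 43024) (l := 5) rfl N43024 D151523
theorem N76344 : nd 76344 = n151524 := ndS (p := 43024) (l := 6) rfl N43024 D151524
theorem N76345 : nd 76345 = n151530 := ndS (p := 43025) (l := 0) rfl N43025 D151530
theorem N76346 : nd 76346 = n151531 := ndS (p := 43025) (l := 4) rfl N43025 D151531
theorem N76347 : nd 76347 = n151532 := ndS (p := 43025) (l := 7) rfl N43025 D151532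
theorem N76348 : nd 76348 = n151533 := ndS (p := 43027) (l := 6) rfl N43027 D151533
theorem N76349 : nd 76349 = n151534 := ndS (p := 43028) (l := 6) rfl N43028 D151534
theorem N76350 : nd 76350 = n151535 := ndS (p := 43029) (l := 0) rfl N43029 D151535
theorem N76351 : nd 76351 = n151536 := ndS (p := 43029) (l := 1) rfl N43029 D151536
theorem N76352 : nd 76352 = n151553 := ndS (p := 43030) (l := 5) rfl N43030 D151553
theorem N76353 : nd 76353 = n151554 := ndS (p := 43030) (l := 6) rfl N43030 D151554
theorem N76354 : nd 76354 = n151557 := ndS (p := 43034) (l := 0) rfl N43034 D151557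
theorem N76355 : nd 76355 = n151558 := ndS (p := 43034) (l := 1) rfl N43034 D151558
theorem N76356 : nd 76356 = n151559 := ndS (p := 43034) (l := 5) rfl N43034 D151559
theorem N76357 : nd 76357 = n151560 := ndS (p := 43034) (l := 7) rfl N43034 D151560
theorem N76358 : nd 76358 = n151562 := ndS (p := 43035) (l := 3) rfl N43035 D151562
theorem N76359 : nd 76359 = n151563 := ndS (p := 43035) (l := 4) rfl N43035 D151563
theorem N76360 : nd 76360 = n151564 := ndS (p := 43035) (l := 5) rfl N43035 D151564
theorem N76361 : nd 76361 = n151565 := ndS (p := 43035) (l := 6) rfl N43035 D151565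
theorem N76362 : nd 76362 = n151568 := ndS (p := 43036) (l := 4) rfl N43036 D151568
theorem N76363 : nd 76363 = n151569 := ndS (p := 43036) (l := 5) rfl N43036 D151569
theorem N76364 : nd 76364 = n151570 := ndS (p := 43036) (l := 6) rfl N43036 D151570
theorem N76365 : nd 76365 = n151571 := ndS (p := 43037) (l := 0) rfl N43037 D151571
theorem N76366 : nd 76366 = n151573 := ndS (p := 43037) (l := 4) rfl N43037 D151573
theorem N76367 : nd 76367 = n151574 := ndS (p := 43037) (l := 7) rfl N43037 D151574
theorem N76368 : nd 76368 = n151576 := ndS (p := 43040) (l := 0) rfl N43040 D151576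
theorem N76369 : nd 76369 = n151577 := ndS (p := 43040) (l := 1) rfl N43040 D151577
theorem N76370 : nd 76370 = n151578 := ndS (p := 43040) (l := 5) rfl N43040 D151578
theorem N76371 : nd 76371 = n151579 := ndS (p := 43040) (l := 7) rfl N43040 D151579
theorem N76372 : nd 76372 = n151589 := ndS (p := 43041) (l := 6) rfl N43041 D151589
theorem N76373 : nd 76373 = n151593 := ndS (p := 43043) (l := 7) rfl N43043 D151593
theorem N76374 : nd 76374 = n151596 := ndS (p := 43044) (l := 5) rfl N43044 D151596
theorem N76375 : nd 76375 = n151602 := ndS (p := 43045) (l := 6) rfl N43045 D151602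
theorem N76376 : nd 76376 = n151607 := ndS (p := 43046) (l := 6) rfl N43046 D151607
theorem N76377 : nd 76377 = n151609 := ndS (p := 43047) (l := 1) rfl N43047 D151609
theorem N76378 : nd 76378 = n151611 := ndS (p := 43047) (l := 7) rfl N43047 D151611
theorem N76379 : nd 76379 = n151620 := ndS (p := 43049) (l := 2) rfl N43049 D151620
theorem N76380 : nd 76380 = n151621 := ndS (p := 43049) (l := 4) rfl N43049 D151621
theorem N76381 : nd 76381 = n151622 := ndS (p := 43049) (l := 5) rfl N43049 D151622
theorem N76382 : nd 76382 = n151627 := ndS (p := 43050) (l := 3) rfl N43050 D151627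
theorem N76383 : nd 76383 = n151629 := ndS (p := 43050) (l := 6) rfl N43050 D151629
theorem N76384 : nd 76384 = n151631 := ndS (p := 43051) (l := 0) rfl N43051 D151631
theorem N76385 : nd 76385 = n151632 := ndS (p := 43051) (l := 1) rfl N43051 D151632
theorem N76386 : nd 76386 = n151637 := ndS (p := 43052) (l := 1) rfl N43052 D151637
theorem N76387 : nd 76387 = n151644 := ndS (p := 43053) (l := 5) rfl N43053 D151644
theorem N76388 : nd 76388 = n151645 := ndS (p := 43053) (l := 6) rfl N43053 D151645
theorem N76389 : nd 76389 = n151648 := ndS (p := 43054) (l := 6) rfl N43054 D151648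
theorem N76390 : nd 76390 = n151649 := ndS (p := 43055) (l := 4) rfl N43055 D151649
theorem N76391 : nd 76391 = n151650 := ndS (p := 43055) (l := 6) rfl N43055 D151650
theorem N76392 : nd 76392 = n151651 := ndS (p := 43056) (l := 0) rfl N43056 D151651
theorem N76393 : nd 76393 = n151653 := ndS (p := 43056) (l := 5) rfl N43056 D151653
theorem N76394 : nd 76394 = n151654 := ndS (p := 43056) (l := 7) rfl N43056 D151654
theorem N76395 : nd 76395 = n151657 := ndS (p := 43057) (l := 4) rfl N43057 D151657
theorem N76396 : nd 76396 = n151658 := ndS (p := 43057) (l := 5) rfl N43057 D151658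
theorem N76397 : nd 76397 = n151659 := ndS (p := 43057) (l := 6) rfl N43057 D151659
theorem N76398 : nd 76398 = n151662 := ndS (p := 43058) (l := 4) rfl N43058 D151662
theorem N76399 : nd 76399 = n151663 := ndS (p := 43058) (l := 5) rfl N43058 D151663
theorem N76400 : nd 76400 = n151664 := ndS (p := 43058) (l := 6) rfl N43058 D151664
theorem N76401 : nd 76401 = n151665 := ndS (p := 43059) (l := 0) rfl N43059 D151665
theorem N76402 : nd 76402 = n151666 := ndS (p := 43059) (l := 1) rfl N43059 D151666
theorem N76403 : nd 76403 = n151669 := ndS (p := 43059) (l := 7) rfl N43059 D151669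
theorem N76404 : nd 76404 = n151670 := ndS (p := 43060) (l := 6) rfl N43060 D151670
theorem N76405 : nd 76405 = n151671 := ndS (p := 43061) (l := 4) rfl N43061 D151671
theorem N76406 : nd 76406 = n151672 := ndS (p := 43061) (l := 6) rfl N43061 D151672
theorem N76407 : nd 76407 = n151673 := ndS (p := 43062) (l := 4) rfl N43062 D151673
theorem N76408 : nd 76408 = n151674 := ndS (p := 43062) (l := 6) rfl N43062 D151674
theorem N76409 : nd 76409 = n151675 := ndS (p := 43063) (l := 0) rfl N43063 D151675
theorem N76410 : nd 76410 = n151676 := ndS (p := 43063) (l := 1) rfl N43063 D151676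
theorem N76411 : nd 76411 = n151678 := ndS (p := 43063) (l := 5) rfl N43063 D151678
theorem N76412 : nd 76412 = n151679 := ndS (p := 43063) (l := 6) rfl N43063 D151679
theorem N76413 : nd 76413 = n151680 := ndS (p := 43064) (l := 1) rfl N43064 D151680
theorem N76414 : nd 76414 = n151681 := ndS (p := 43064) (l := 7) rfl N43064 D151681
theorem N76415 : nd 76415 = n151682 := ndS (p := 43065) (l := 3) rfl N43065 D151682
theorem N76416 : nd 76416 = n151683 := ndS (p := 43065) (l := 5) rfl N43065 D151683
theorem N76417 : nd 76417 = n151686 := ndS (p := 43066) (l := 1) rfl N43066 D151686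
theorem N76418 : nd 76418 = n151687 := ndS (p := 43066) (l := 7) rfl N43066 D151687
theorem N76419 : nd 76419 = n151688 := ndS (p := 43067) (l := 4) rfl N43067 D151688
theorem N76420 : nd 76420 = n151689 := ndS (p := 43067) (l := 6) rfl N43067 D151689
theorem N76421 : nd 76421 = n151690 := ndS (p := 43068) (l := 3) rfl N43068 D151690
theorem N76422 : nd 76422 = n151691 := ndS (p := 43068) (l := 6) rfl N43068 D151691
theorem N76423 : nd 76423 = n151692 := ndS (p := 43069) (l := 0) rfl N43069 D151692
theorem N76424 : nd 76424 = n151693 := ndS (p := 43069) (l := 1) rfl N43069 D151693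
theorem N76425 : nd 76425 = n151694 := ndS (p := 43069) (l := 7) rfl N43069 D151694
theorem N76426 : nd 76426 = n151695 := ndS (p := 43070) (l := 3) rfl N43070 D151695
theorem N76427 : nd 76427 = n151696 := ndS (p := 43070) (l := 5) rfl N43070 D151696
theorem N76428 : nd 76428 = n151697 := ndS (p := 43070) (l := 6) rfl N43070 D151697
theorem N76429 : nd 76429 = n151699 := ndS (p := 43071) (l := 5) rfl N43071 D151699
theorem N76430 : nd 76430 = n151701 := ndS (p := 43072) (l := 0) rfl N43072 D151701
theorem N76431 : nd 76431 = n151702 := ndS (p := 43072) (l := 1) rfl N43072 D151702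
theorem N76432 : nd 76432 = n151703 := ndS (p := 43072) (l := 2) rfl N43072 D151703
theorem N76433 : nd 76433 = n151704 := ndS (p := 43072) (l := 5) rfl N43072 D151704
theorem N76434 : nd 76434 = n151705 := ndS (p := 43073) (l := 0) rfl N43073 D151705
theorem N76435 : nd 76435 = n151706 := ndS (p := 43073) (l := 1) rfl N43073 D151706
theorem N76436 : nd 76436 = n151707 := ndS (p := 43073) (l := 6) rfl N43073 D151707
theorem N76437 : nd 76437 = n151708 := ndS (p := 43074) (l := 6) rfl N43074 D151708
theorem N76438 : nd 76438 = n151709 := ndS (p := 43075) (l := 0) rfl N43075 D151709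
theorem N76439 : nd 76439 = n151710 := ndS (p := 43075) (l := 1) rfl N43075 D151710
theorem N76440 : nd 76440 = n151725 := ndS (p := 43077) (l := 6) rfl N43077 D151725
theorem N76441 : nd 76441 = n151729 := ndS (p := 43080) (l := 6) rfl N43080 D151729
theorem N76442 : nd 76442 = n151749 := ndS (p := 43083) (l := 6) rfl N43083 D151749
theorem N76443 : nd 76443 = n151761 := ndS (p := 43087) (l := 0) rfl N43087 D151761
theorem N76444 : nd 76444 = n151764 := ndS (p := 43087) (l := 5) rfl N43087 D151764
theorem N76445 : nd 76445 = n151765 := ndS (p := 43087) (l := 7) rfl N43087 D151765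
theorem N76446 : nd 76446 = n151769 := ndS (p := 43090) (l := 6) rfl N43090 D151769
theorem N76447 : nd 76447 = n151776 := ndS (p := 43092) (l := 7) rfl N43092 D151776
theorem N76448 : nd 76448 = n151798 := ndS (p := 43097) (l := 0) rfl N43097 D151798
theorem N76449 : nd 76449 = n151799 := ndS (p := 43097) (l := 1) rfl N43097 D151799
theorem N76450 : nd 76450 = n151938 := ndS (p := 43099) (l := 1) rfl N43099 D151938
theorem N76451 : nd 76451 = n151939 := ndS (p := 43099) (l := 7) rfl N43099 D151939
theorem N76452 : nd 76452 = n151940 := ndS (p := 43100) (l := 4) rfl N43100 D151940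
theorem N76453 : nd 76453 = n151941 := ndS (p := 43100) (l := 6) rfl N43100 D151941
theorem N76454 : nd 76454 = n151942 := ndS (p := 43101) (l := 3) rfl N43101 D151942
theorem N76455 : nd 76455 = n151943 := ndS (p := 43101) (l := 6) rfl N43101 D151943
theorem N76456 : nd 76456 = n151944 := ndS (p := 43102) (l := 0) rfl N43102 D151944
theorem N76457 : nd 76457 = n151945 := ndS (p := 43102) (l := 1) rfl N43102 D151945
theorem N76458 : nd 76458 = n151946 := ndS (p := 43102) (l := 7) rfl N43102 D151946
theorem N76459 : nd 76459 = n151948 := ndS (p := 43103) (l := 5) rfl N43103 D151948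
theorem N76460 : nd 76460 = n151958 := ndS (p := 43105) (l := 0) rfl N43105 D151958
theorem N76461 : nd 76461 = n151959 := ndS (p := 43105) (l := 1) rfl N43105 D151959
theorem N76462 : nd 76462 = n151960 := ndS (p := 43105) (l := 6) rfl N43105 D151960
theorem N76463 : nd 76463 = n151961 := ndS (p := 43106) (l := 0) rfl N43106 D151961
theorem N76464 : nd 76464 = n151962 := ndS (p := 43106) (l := 1) rfl N43106 D151962
theorem N76465 : nd 76465 = n151963 := ndS (p := 43106) (l := 5) rfl N43106 D151963
theorem N76466 : nd 76466 = n151964 := ndS (p := 43106) (l := 7) rfl N43106 D151964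
theorem N76467 : nd 76467 = n151969 := ndS (p := 43108) (l := 4) rfl N43108 D151969
theorem N76468 : nd 76468 = n151970 := ndS (p := 43108) (l := 7) rfl N43108 D151970
theorem N76469 : nd 76469 = n151972 := ndS (p := 43111) (l := 6) rfl N43111 D151972
theorem N76470 : nd 76470 = n151974 := ndS (p := 43112) (l := 4) rfl N43112 D151974
theorem N76471 : nd 76471 = n151975 := ndS (p := 43112) (l := 6) rfl N43112 D151975
theorem N76472 : nd 76472 = n151976 := ndS (p := 43113) (l := 3) rfl N43113 D151976
theorem N76473 : nd 76473 = n151977 := ndS (p := 43113) (l := 6) rfl N43113 D151977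
theorem N76474 : nd 76474 = n151978 := ndS (p := 43114) (l := 0) rfl N43114 D151978
theorem N76475 : nd 76475 = n151979 := ndS (p := 43114) (l := 1) rfl N43114 D151979
theorem N76476 : nd 76476 = n151980 := ndS (p := 43114) (l := 7) rfl N43114 D151980
theorem N76477 : nd 76477 = n151985 := ndS (p := 43115) (l := 6) rfl N43115 D151985
theorem N76478 : nd 76478 = n151986 := ndS (p := 43116) (l := 0) rfl N43116 D151986
theorem N76479 : nd 76479 = n151987 := ndS (p := 43116) (l := 5) rfl N43116 D151987
theorem N76480 : nd 76480 = n151991 := ndS (p := 43119) (l := 1) rfl N43119 D151991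
theorem N76481 : nd 76481 = n151992 := ndS (p := 43119) (l := 7) rfl N43119 D151992
theorem N76482 : nd 76482 = n151994 := ndS (p := 43120) (l := 6) rfl N43120 D151994
theorem N76483 : nd 76483 = n151995 := ndS (p := 43121) (l := 3) rfl N43121 D151995
theorem N76484 : nd 76484 = n152000 := ndS (p := 43122) (l := 6) rfl N43122 D152000
theorem N76485 : nd 76485 = n152001 := ndS (p := 43123) (l := 0) rfl N43123 D152001
theorem N76486 : nd 76486 = n152003 := ndS (p := 43123) (l := 6) rfl N43123 D152003
theorem N76487 : nd 76487 = n152004 := ndS (p := 43124) (l := 0) rfl N43124 D152004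
theorem N76488 : nd 76488 = n152005 := ndS (p := 43124) (l := 1) rfl N43124 D152005
theorem N76489 : nd 76489 = n152006 := ndS (p := 43124) (l := 5) rfl N43124 D152006
theorem N76490 : nd 76490 = n152007 := ndS (p := 43124) (l := 7) rfl N43124 D152007
theorem N76491 : nd 76491 = n152010 := ndS (p := 43125) (l := 4) rfl N43125 D152010
theorem N76492 : nd 76492 = n152011 := ndS (p := 43125) (l := 5) rfl N43125 D152011
theorem N76493 : nd 76493 = n152023 := ndS (p := 43127) (l := 6) rfl N43127 D152023
theorem N76494 : nd 76494 = n152024 := ndS (p := 43128) (l := 0) rfl N43128 D152024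
theorem N76495 : nd 76495 = n152026 := ndS (p := 43128) (l := 5) rfl N43128 D152026
theorem N76496 : nd 76496 = n152034 := ndS (p := 43131) (l := 6) rfl N43131 D152034
theorem N76497 : nd 76497 = n152036 := ndS (p := 43132) (l := 5) rfl N43132 D152036
theorem N76498 : nd 76498 = n152037 := ndS (p := 43132) (l := 7) rfl N43132 D152037
theorem N76499 : nd 76499 = n152038 := ndS (p := 43133) (l := 3) rfl N43133 D152038
theorem N76500 : nd 76500 = n152039 := ndS (p := 43133) (l := 5) rfl N43133 D152039
theorem N76501 : nd 76501 = n152040 := ndS (p := 43133) (l := 6) rfl N43133 D152040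
theorem N76502 : nd 76502 = n152044 := ndS (p := 43135) (l := 5) rfl N43135 D152044
theorem N76503 : nd 76503 = n152045 := ndS (p := 43136) (l := 0) rfl N43136 D152045
theorem N76504 : nd 76504 = n152046 := ndS (p := 43136) (l := 1) rfl N43136 D152046
theorem N76505 : nd 76505 = n152047 := ndS (p := 43136) (l := 4) rfl N43136 D152047
theorem N76506 : nd 76506 = n152048 := ndS (p := 43136) (l := 6) rfl N43136 D152048
theorem N76507 : nd 76507 = n152050 := ndS (p := 43137) (l := 6) rfl N43137 D152050
theorem N76508 : nd 76508 = n152052 := ndS (p := 43138) (l := 6) rfl N43138 D152052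
theorem N76509 : nd 76509 = n152053 := ndS (p := 43139) (l := 3) rfl N43139 D152053
theorem N76510 : nd 76510 = n152054 := ndS (p := 43139) (l := 6) rfl N43139 D152054
theorem N76511 : nd 76511 = n152056 := ndS (p := 43140) (l := 1) rfl N43140 D152056
theorem N76512 : nd 76512 = n152057 := ndS (p := 43140) (l := 7) rfl N43140 D152057
theorem N76513 : nd 76513 = n152058 := ndS (p := 43141) (l := 6) rfl N43141 D152058
theorem N76514 : nd 76514 = n152061 := ndS (p := 43142) (l := 5) rfl N43142 D152061
theorem N76515 : nd 76515 = n152063 := ndS (p := 43143) (l := 3) rfl N43143 D152063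
theorem N76516 : nd 76516 = n152064 := ndS (p := 43143) (l := 4) rfl N43143 D152064
theorem N76517 : nd 76517 = n152066 := ndS (p := 43143) (l := 6) rfl N43143 D152066
theorem N76518 : nd 76518 = n152069 := ndS (p := 43144) (l := 4) rfl N43144 D152069
theorem N76519 : nd 76519 = n152071 := ndS (p := 43144) (l := 6) rfl N43144 D152071
theorem N76520 : nd 76520 = n152079 := ndS (p := 43146) (l := 1) rfl N43146 D152079
theorem N76521 : nd 76521 = n152142 := ndS (p := 43157) (l := 6) rfl N43157 D152142
theorem N76522 : nd 76522 = n152154 := ndS (p := 43159) (l := 6) rfl N43159 D152154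
theorem N76523 : nd 76523 = n152158 := ndS (p := 43160) (l := 5) rfl N43160 D152158
theorem N76524 : nd 76524 = n152159 := ndS (p := 43160) (l := 6) rfl N43160 D152159
theorem N76525 : nd 76525 = n152160 := ndS (p := 43161) (l := 0) rfl N43161 D152160
theorem N76526 : nd 76526 = n152163 := ndS (p := 43161) (l := 7) rfl N43161 D152163
theorem N76527 : nd 76527 = n152165 := ndS (p := 43162) (l := 2) rfl N43162 D152165
theorem N76528 : nd 76528 = n152166 := ndS (p := 43162) (l := 4) rfl N43162 D152166
theorem N76529 : nd 76529 = n152167 := ndS (p := 43162) (l := 6) rfl N43162 D152167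
theorem N76530 : nd 76530 = n152168 := ndS (p := 43163) (l := 3) rfl N43163 D152168
theorem N76531 : nd 76531 = n152169 := ndS (p := 43163) (l := 5) rfl N43163 D152169
theorem N76532 : nd 76532 = n152172 := ndS (p := 43164) (l := 1) rfl N43164 D152172
theorem N76533 : nd 76533 = n152173 := ndS (p := 43164) (l := 5) rfl N43164 D152173
theorem N76534 : nd 76534 = n152174 := ndS (p := 43164) (l := 7) rfl N43164 D152174
theorem N76535 : nd 76535 = n152177 := ndS (p := 43165) (l := 6) rfl N43165 D152177
theorem N76536 : nd 76536 = n152183 := ndS (p := 43170) (l := 6) rfl N43170 D152183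
theorem N76537 : nd 76537 = n152186 := ndS (p := 43171) (l := 7) rfl N43171 D152186
theorem N76538 : nd 76538 = n152187 := ndS (p := 43172) (l := 6) rfl N43172 D152187
theorem N76539 : nd 76539 = n152188 := ndS (p := 43173) (l := 6) rfl N43173 D152188
theorem N76540 : nd 76540 = n152189 := ndS (p := 43174) (l := 0) rfl N43174 D152189
theorem N76541 : nd 76541 = n152191 := ndS (p := 43174) (l := 5) rfl N43174 D152191
theorem N76542 : nd 76542 = n152192 := ndS (p := 43174) (l := 7) rfl N43174 D152192
theorem N76543 : nd 76543 = n152195 := ndS (p := 43175) (l := 4) rfl N43175 D152195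
theorem N76544 : nd 76544 = n152196 := ndS (p := 43175) (l := 5) rfl N43175 D152196
theorem N76545 : nd 76545 = n152197 := ndS (p := 43175) (l := 6) rfl N43175 D152197
theorem N76546 : nd 76546 = n152204 := ndS (p := 43178) (l := 5) rfl N43178 D152204
theorem N76547 : nd 76547 = n152207 := ndS (p := 43180) (l := 6) rfl N43180 D152207
theorem N76548 : nd 76548 = n152213 := ndS (p := 43181) (l := 5) rfl N43181 D152213
theorem N76549 : nd 76549 = n152217 := ndS (p := 43182) (l := 0) rfl N43182 D152217
theorem N76550 : nd 76550 = n152220 := ndS (p := 43183) (l := 0) rfl N43183 D152220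
theorem N76551 : nd 76551 = n152221 := ndS (p := 43183) (l := 1) rfl N43183 D152221
theorem N76552 : nd 76552 = n152227 := ndS (p := 43184) (l := 5) rfl N43184 D152227
theorem N76553 : nd 76553 = n152230 := ndS (p := 43185) (l := 3) rfl N43185 D152230
theorem N76554 : nd 76554 = n152231 := ndS (p := 43185) (l := 4) rfl N43185 D152231
theorem N76555 : nd 76555 = n152232 := ndS (p := 43185) (l := 5) rfl N43185 D152232
theorem N76556 : nd 76556 = n152233 := ndS (p := 43185) (l := 6) rfl N43185 D152233
theorem N76557 : nd 76557 = n152234 := ndS (p := 43186) (l := 0) rfl N43186 D152234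
theorem N76558 : nd 76558 = n152235 := ndS (p := 43186) (l := 1) rfl N43186 D152235
theorem N76559 : nd 76559 = n152236 := ndS (p := 43186) (l := 4) rfl N43186 D152236
theorem N76560 : nd 76560 = n152237 := ndS (p := 43186) (l := 7) rfl N43186 D152237
theorem N76561 : nd 76561 = n152239 := ndS (p := 43189) (l := 6) rfl N43189 D152239
theorem N76562 : nd 76562 = n152247 := ndS (p := 43192) (l := 5) rfl N43192 D152247
theorem N76563 : nd 76563 = n152249 := ndS (p := 43193) (l := 3) rfl N43193 D152249
theorem N76564 : nd 76564 = n152250 := ndS (p := 43193) (l := 5) rfl N43193 D152250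
theorem N76565 : nd 76565 = n152251 := ndS (p := 43193) (l := 6) rfl N43193 D152251
theorem N76566 : nd 76566 = n152258 := ndS (p := 43195) (l := 5) rfl N43195 D152258
theorem N76567 : nd 76567 = n152268 := ndS (p := 43197) (l := 5) rfl N43197 D152268
theorem N76568 : nd 76568 = n152273 := ndS (p := 43198) (l := 5) rfl N43198 D152273
theorem N76569 : nd 76569 = n152274 := ndS (p := 43198) (l := 6) rfl N43198 D152274
theorem N76570 : nd 76570 = n152275 := ndS (p := 43199) (l := 3) rfl N43199 D152275
theorem N76571 : nd 76571 = n152277 := ndS (p := 43199) (l := 5) rfl N43199 D152277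
theorem N76572 : nd 76572 = n152278 := ndS (p := 43199) (l := 6) rfl N43199 D152278
theorem N76573 : nd 76573 = n152280 := ndS (p := 43200) (l := 1) rfl N43200 D152280
theorem N76574 : nd 76574 = n152281 := ndS (p := 43200) (l := 4) rfl N43200 D152281
theorem N76575 : nd 76575 = n152282 := ndS (p := 43200) (l := 7) rfl N43200 D152282
theorem N76576 : nd 76576 = n152283 := ndS (p := 43202) (l := 5) rfl N43202 D152283
theorem N76577 : nd 76577 = n152284 := ndS (p := 43203) (l := 4) rfl N43203 D152284
theorem N76578 : nd 76578 = n152286 := ndS (p := 43204) (l := 4) rfl N43204 D152286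
theorem N76579 : nd 76579 = n152287 := ndS (p := 43204) (l := 6) rfl N43204 D152287
theorem N76580 : nd 76580 = n152288 := ndS (p := 43205) (l := 4) rfl N43205 D152288
theorem N76581 : nd 76581 = n152289 := ndS (p := 43206) (l := 0) rfl N43206 D152289
theorem N76582 : nd 76582 = n152290 := ndS (p := 43206) (l := 1) rfl N43206 D152290
theorem N76583 : nd 76583 = n152291 := ndS (p := 43206) (l := 3) rfl N43206 D152291
theorem N76584 : nd 76584 = n152292 := ndS (p := 43206) (l := 5) rfl N43206 D152292
theorem N76585 : nd 76585 = n152303 := ndS (p := 43208) (l := 5) rfl N43208 D152303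
theorem N76586 : nd 76586 = n152304 := ndS (p := 43208) (l := 6) rfl N43208 D152304
theorem N76587 : nd 76587 = n152305 := ndS (p := 43209) (l := 3) rfl N43209 D152305
theorem N76588 : nd 76588 = n152306 := ndS (p := 43209) (l := 5) rfl N43209 D152306
theorem N76589 : nd 76589 = n152313 := ndS (p := 43210) (l := 5) rfl N43210 D152313
theorem N76590 : nd 76590 = n152314 := ndS (p := 43210) (l := 6) rfl N43210 D152314
theorem N76591 : nd 76591 = n152318 := ndS (p := 43211) (l := 1) rfl N43211 D152318
theorem N76592 : nd 76592 = n152319 := ndS (p := 43212) (l := 5) rfl N43212 D152319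
theorem N76593 : nd 76593 = n152320 := ndS (p := 43213) (l := 4) rfl N43213 D152320
theorem N76594 : nd 76594 = n152321 := ndS (p := 43214) (l := 4) rfl N43214 D152321
theorem N76595 : nd 76595 = n152323 := ndS (p := 43215) (l := 4) rfl N43215 D152323
theorem N76596 : nd 76596 = n152324 := ndS (p := 43216) (l := 0) rfl N43216 D152324
theorem N76597 : nd 76597 = n152325 := ndS (p := 43216) (l := 1) rfl N43216 D152325
theorem N76598 : nd 76598 = n152326 := ndS (p := 43216) (l := 3) rfl N43216 D152326
theorem N76599 : nd 76599 = n152327 := ndS (p := 43216) (l := 5) rfl N43216 D152327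
theorem N76600 : nd 76600 = n152328 := ndS (p := 43216) (l := 7) rfl N43216 D152328
theorem N76601 : nd 76601 = n152329 := ndS (p := 43218) (l := 3) rfl N43218 D152329
theorem N76602 : nd 76602 = n152330 := ndS (p := 43218) (l := 5) rfl N43218 D152330
theorem N76603 : nd 76603 = n152334 := ndS (p := 43219) (l := 5) rfl N43219 D152334
theorem N76604 : nd 76604 = n152338 := ndS (p := 43220) (l := 3) rfl N43220 D152338
theorem N76605 : nd 76605 = n152339 := ndS (p := 43220) (l := 5) rfl N43220 D152339
theorem N76606 : nd 76606 = n152341 := ndS (p := 43221) (l := 3) rfl N43221 D152341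
theorem N76607 : nd 76607 = n152342 := ndS (p := 43221) (l := 5) rfl N43221 D152342
theorem N76608 : nd 76608 = n152344 := ndS (p := 43222) (l := 0) rfl N43222 D152344
theorem N76609 : nd 76609 = n152345 := ndS (p := 43222) (l := 1) rfl N43222 D152345
theorem N76610 : nd 76610 = n152347 := ndS (p := 43222) (l := 5) rfl N43222 D152347
theorem N76611 : nd 76611 = n152348 := ndS (p := 43223) (l := 0) rfl N43223 D152348
theorem N76612 : nd 76612 = n152349 := ndS (p := 43223) (l := 1) rfl N43223 D152349
theorem N76613 : nd 76613 = n152350 := ndS (p := 43223) (l := 4) rfl N43223 D152350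
theorem N76614 : nd 76614 = n152351 := ndS (p := 43223) (l := 6) rfl N43223 D152351
theorem N76615 : nd 76615 = n152353 := ndS (p := 43225) (l := 0) rfl N43225 D152353
theorem N76616 : nd 76616 = n152354 := ndS (p := 43225) (l := 1) rfl N43225 D152354
theorem N76617 : nd 76617 = n152355 := ndS (p := 43225) (l := 7) rfl N43225 D152355
theorem N76618 : nd 76618 = n152356 := ndS (p := 43227) (l := 6) rfl N43227 D152356
theorem N76619 : nd 76619 = n152365 := ndS (p := 43230) (l := 5) rfl N43230 D152365
theorem N76620 : nd 76620 = n152366 := ndS (p := 43230) (l := 6) rfl N43230 D152366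
theorem N76621 : nd 76621 = n152372 := ndS (p := 43232) (l := 3) rfl N43232 D152372
theorem N76622 : nd 76622 = n152379 := ndS (p := 43235) (l := 0) rfl N43235 D152379
theorem N76623 : nd 76623 = n152386 := ndS (p := 43236) (l := 5) rfl N43236 D152386
theorem N76624 : nd 76624 = n152391 := ndS (p := 43237) (l := 5) rfl N43237 D152391
theorem N76625 : nd 76625 = n152393 := ndS (p := 43238) (l := 0) rfl N43238 D152393
theorem N76626 : nd 76626 = n152394 := ndS (p := 43238) (l := 1) rfl N43238 D152394
theorem N76627 : nd 76627 = n152396 := ndS (p := 43238) (l := 7) rfl N43238 D152396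
theorem N76628 : nd 76628 = n152397 := ndS (p := 43240) (l := 6) rfl N43240 D152397
theorem N76629 : nd 76629 = n152399 := ndS (p := 43242) (l := 0) rfl N43242 D152399
theorem N76630 : nd 76630 = n152400 := ndS (p := 43242) (l := 1) rfl N43242 D152400
theorem N76631 : nd 76631 = n152432 := ndS (p := 43247) (l := 7) rfl N43247 D152432
theorem N76632 : nd 76632 = n152434 := ndS (p := 43248) (l := 6) rfl N43248 D152434
theorem N76633 : nd 76633 = n152435 := ndS (p := 43249) (l := 0) rfl N43249 D152435
theorem N76634 : nd 76634 = n152436 := ndS (p := 43249) (l := 1) rfl N43249 D152436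
theorem N76635 : nd 76635 = n152437 := ndS (p := 43249) (l := 5) rfl N43249 D152437
theorem N76636 : nd 76636 = n152442 := ndS (p := 43250) (l := 5) rfl N43250 D152442
theorem N76637 : nd 76637 = n152443 := ndS (p := 43250) (l := 6) rfl N43250 D152443
theorem N76638 : nd 76638 = n152446 := ndS (p := 43251) (l := 4) rfl N43251 D152446
theorem N76639 : nd 76639 = n152447 := ndS (p := 43251) (l := 5) rfl N43251 D152447
theorem N76640 : nd 76640 = n152448 := ndS (p := 43251) (l := 6) rfl N43251 D152448
theorem N76641 : nd 76641 = n152450 := ndS (p := 43252) (l := 1) rfl N43252 D152450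
theorem N76642 : nd 76642 = n152451 := ndS (p := 43252) (l := 4) rfl N43252 D152451
theorem N76643 : nd 76643 = n152452 := ndS (p := 43252) (l := 7) rfl N43252 D152452
theorem N76644 : nd 76644 = n152462 := ndS (p := 43256) (l := 6) rfl N43256 D152462
theorem N76645 : nd 76645 = n152465 := ndS (p := 43258) (l := 1) rfl N43258 D152465
theorem N76646 : nd 76646 = n152466 := ndS (p := 43258) (l := 5) rfl N43258 D152466
theorem N76647 : nd 76647 = n152467 := ndS (p := 43258) (l := 7) rfl N43258 D152467
theorem N76648 : nd 76648 = n152470 := ndS (p := 43259) (l := 5) rfl N43259 D152470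
theorem N76649 : nd 76649 = n152476 := ndS (p := 43260) (l := 6) rfl N43260 D152476
theorem N76650 : nd 76650 = n152481 := ndS (p := 43261) (l := 6) rfl N43261 D152481
theorem N76651 : nd 76651 = n152483 := ndS (p := 43262) (l := 1) rfl N43262 D152483
theorem N76652 : nd 76652 = n152484 := ndS (p := 43262) (l := 4) rfl N43262 D152484
theorem N76653 : nd 76653 = n152485 := ndS (p := 43262) (l := 7) rfl N43262 D152485
theorem N76654 : nd 76654 = n152486 := ndS (p := 43264) (l := 0) rfl N43264 D152486
theorem N76655 : nd 76655 = n152489 := ndS (p := 43265) (l := 0) rfl N43265 D152489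
theorem N76656 : nd 76656 = n152491 := ndS (p := 43265) (l := 3) rfl N43265 D152491
theorem N76657 : nd 76657 = n152493 := ndS (p := 43265) (l := 6) rfl N43265 D152493
theorem N76658 : nd 76658 = n152494 := ndS (p := 43266) (l := 0) rfl N43266 D152494
theorem N76659 : nd 76659 = n152495 := ndS (p := 43266) (l := 1) rfl N43266 D152495
theorem N76660 : nd 76660 = n152496 := ndS (p := 43266) (l := 4) rfl N43266 D152496
theorem N76661 : nd 76661 = n152498 := ndS (p := 43267) (l := 1) rfl N43267 D152498
theorem N76662 : nd 76662 = n152507 := ndS (p := 43268) (l := 6) rfl N43268 D152507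
theorem N76663 : nd 76663 = n152508 := ndS (p := 43269) (l := 4) rfl N43269 D152508
theorem N76664 : nd 76664 = n152509 := ndS (p := 43269) (l := 6) rfl N43269 D152509
theorem N76665 : nd 76665 = n152510 := ndS (p := 43270) (l := 0) rfl N43270 D152510
theorem N76666 : nd 76666 = n152512 := ndS (p := 43270) (l := 5) rfl N43270 D152512
theorem N76667 : nd 76667 = n152513 := ndS (p := 43270) (l := 7) rfl N43270 D152513
theorem N76668 : nd 76668 = n152515 := ndS (p := 43271) (l := 3) rfl N43271 D152515
theorem N76669 : nd 76669 = n152516 := ndS (p := 43271) (l := 4) rfl N43271 D152516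
theorem N76670 : nd 76670 = n152518 := ndS (p := 43271) (l := 6) rfl N43271 D152518
theorem N76671 : nd 76671 = n152521 := ndS (p := 43272) (l := 4) rfl N43272 D152521
theorem N76672 : nd 76672 = n152523 := ndS (p := 43272) (l := 6) rfl N43272 D152523
theorem N76673 : nd 76673 = n152524 := ndS (p := 43273) (l := 0) rfl N43273 D152524
theorem N76674 : nd 76674 = n152525 := ndS (p := 43273) (l := 1) rfl N43273 D152525
theorem N76675 : nd 76675 = n152527 := ndS (p := 43273) (l := 5) rfl N43273 D152527
theorem N76676 : nd 76676 = n152528 := ndS (p := 43273) (l := 7) rfl N43273 D152528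
theorem N76677 : nd 76677 = n152529 := ndS (p := 43274) (l := 6) rfl N43274 D152529
theorem N76678 : nd 76678 = n152530 := ndS (p := 43275) (l := 6) rfl N43275 D152530
theorem N76679 : nd 76679 = n152531 := ndS (p := 43276) (l := 6) rfl N43276 D152531
theorem N76680 : nd 76680 = n152532 := ndS (p := 43277) (l := 0) rfl N43277 D152532
theorem N76681 : nd 76681 = n152533 := ndS (p := 43277) (l := 1) rfl N43277 D152533
theorem N76682 : nd 76682 = n152534 := ndS (p := 43277) (l := 3) rfl N43277 D152534
theorem N76683 : nd 76683 = n152535 := ndS (p := 43277) (l := 5) rfl N43277 D152535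
theorem N76684 : nd 76684 = n152536 := ndS (p := 43277) (l := 6) rfl N43277 D152536
theorem N76685 : nd 76685 = n152537 := ndS (p := 43278) (l := 1) rfl N43278 D152537
theorem N76686 : nd 76686 = n152538 := ndS (p := 43278) (l := 7) rfl N43278 D152538
theorem N76687 : nd 76687 = n152539 := ndS (p := 43279) (l := 6) rfl N43279 D152539
theorem N76688 : nd 76688 = n152540 := ndS (p := 43280) (l := 3) rfl N43280 D152540
theorem N76689 : nd 76689 = n152541 := ndS (p := 43280) (l := 5) rfl N43280 D152541
theorem N76690 : nd 76690 = n152542 := ndS (p := 43280) (l := 6) rfl N43280 D152542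
theorem N76691 : nd 76691 = n152545 := ndS (p := 43281) (l := 7) rfl N43281 D152545
theorem N76692 : nd 76692 = n152546 := ndS (p := 43282) (l := 4) rfl N43282 D152546
theorem N76693 : nd 76693 = n152547 := ndS (p := 43282) (l := 6) rfl N43282 D152547
theorem N76694 : nd 76694 = n152548 := ndS (p := 43283) (l := 0) rfl N43283 D152548
theorem N76695 : nd 76695 = n152549 := ndS (p := 43283) (l := 1) rfl N43283 D152549
theorem N76696 : nd 76696 = n152550 := ndS (p := 43283) (l := 3) rfl N43283 D152550
theorem N76697 : nd 76697 = n152551 := ndS (p := 43283) (l := 5) rfl N43283 D152551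
theorem N76698 : nd 76698 = n152552 := ndS (p := 43283) (l := 6) rfl N43283 D152552
theorem N76699 : nd 76699 = n152553 := ndS (p := 43285) (l := 0) rfl N43285 D152553
theorem N76700 : nd 76700 = n152554 := ndS (p := 43285) (l := 1) rfl N43285 D152554
theorem N76701 : nd 76701 = n152555 := ndS (p := 43285) (l := 7) rfl N43285 D152555
theorem N76702 : nd 76702 = n152557 := ndS (p := 43286) (l := 6) rfl N43286 D152557
theorem N76703 : nd 76703 = n152558 := ndS (p := 43287) (l := 3) rfl N43287 D152558
theorem N76704 : nd 76704 = n152559 := ndS (p := 43287) (l := 5) rfl N43287 D152559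
theorem N76705 : nd 76705 = n152560 := ndS (p := 43287) (l := 6) rfl N43287 D152560
theorem N76706 : nd 76706 = n152561 := ndS (p := 43288) (l := 0) rfl N43288 D152561
theorem N76707 : nd 76707 = n152562 := ndS (p := 43288) (l := 1) rfl N43288 D152562
theorem N76708 : nd 76708 = n152563 := ndS (p := 43288) (l := 7) rfl N43288 D152563
theorem N76709 : nd 76709 = n152565 := ndS (p := 43289) (l := 5) rfl N43289 D152565
theorem N76710 : nd 76710 = n152566 := ndS (p := 43289) (l := 6) rfl N43289 D152566
theorem N76711 : nd 76711 = n152567 := ndS (p := 43290) (l := 3) rfl N43290 D152567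
theorem N76712 : nd 76712 = n152568 := ndS (p := 43290) (l := 5) rfl N43290 D152568
theorem N76713 : nd 76713 = n152569 := ndS (p := 43290) (l := 6) rfl N43290 D152569
theorem N76714 : nd 76714 = n152570 := ndS (p := 43291) (l := 0) rfl N43291 D152570
theorem N76715 : nd 76715 = n152572 := ndS (p := 43291) (l := 2) rfl N43291 D152572
theorem N76716 : nd 76716 = n152573 := ndS (p := 43291) (l := 5) rfl N43291 D152573
theorem N76717 : nd 76717 = n152574 := ndS (p := 43291) (l := 7) rfl N43291 D152574
theorem N76718 : nd 76718 = n152575 := ndS (p := 43292) (l := 6) rfl N43292 D152575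
theorem N76719 : nd 76719 = n152576 := ndS (p := 43293) (l := 6) rfl N43293 D152576
theorem N76720 : nd 76720 = n152577 := ndS (p := 43294) (l := 0) rfl N43294 D152577
theorem N76721 : nd 76721 = n152578 := ndS (p := 43294) (l := 1) rfl N43294 D152578
theorem N76722 : nd 76722 = n152585 := ndS (p := 43296) (l := 5) rfl N43296 D152585
theorem N76723 : nd 76723 = n152588 := ndS (p := 43297) (l := 1) rfl N43297 D152588
theorem N76724 : nd 76724 = n152589 := ndS (p := 43297) (l := 4) rfl N43297 D152589
theorem N76725 : nd 76725 = n152590 := ndS (p := 43297) (l := 7) rfl N43297 D152590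
theorem N76726 : nd 76726 = n152591 := ndS (p := 43299) (l := 3) rfl N43299 D152591
theorem N76727 : nd 76727 = n152592 := ndS (p := 43299) (l := 5) rfl N43299 D152592
theorem N76728 : nd 76728 = n152593 := ndS (p := 43300) (l := 4) rfl N43300 D152593
theorem N76729 : nd 76729 = n152595 := ndS (p := 43302) (l := 6) rfl N43302 D152595
theorem N76730 : nd 76730 = n152598 := ndS (p := 43305) (l := 5) rfl N43305 D152598
theorem N76731 : nd 76731 = n152599 := ndS (p := 43305) (l := 7) rfl N43305 D152599
theorem N76732 : nd 76732 = n152601 := ndS (p := 43306) (l := 1) rfl N43306 D152601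
theorem N76733 : nd 76733 = n152602 := ndS (p := 43306) (l := 5) rfl N43306 D152602
theorem N76734 : nd 76734 = n152604 := ndS (p := 43307) (l := 3) rfl N43307 D152604
theorem N76735 : nd 76735 = n152605 := ndS (p := 43307) (l := 5) rfl N43307 D152605
theorem N76736 : nd 76736 = n152608 := ndS (p := 43308) (l := 5) rfl N43308 D152608
theorem N76737 : nd 76737 = n152609 := ndS (p := 43308) (l := 6) rfl N43308 D152609
theorem N76738 : nd 76738 = n152611 := ndS (p := 43309) (l := 1) rfl N43309 D152611
theorem N76739 : nd 76739 = n152612 := ndS (p := 43309) (l := 4) rfl N43309 D152612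
theorem N76740 : nd 76740 = n152613 := ndS (p := 43309) (l := 7) rfl N43309 D152613
theorem N76741 : nd 76741 = n152616 := ndS (p := 43311) (l := 6) rfl N43311 D152616
theorem N76742 : nd 76742 = n152619 := ndS (p := 43315) (l := 0) rfl N43315 D152619
theorem N76743 : nd 76743 = n152622 := ndS (p := 43315) (l := 5) rfl N43315 D152622
theorem N76744 : nd 76744 = n152623 := ndS (p := 43315) (l := 7) rfl N43315 D152623
theorem N76745 : nd 76745 = n152626 := ndS (p := 43317) (l := 5) rfl N43317 D152626
theorem N76746 : nd 76746 = n152628 := ndS (p := 43318) (l := 0) rfl N43318 D152628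
theorem N76747 : nd 76747 = n152630 := ndS (p := 43318) (l := 7) rfl N43318 D152630
theorem N76748 : nd 76748 = n152632 := ndS (p := 43320) (l := 1) rfl N43320 D152632
theorem N76749 : nd 76749 = n152633 := ndS (p := 43320) (l := 4) rfl N43320 D152633
theorem N76750 : nd 76750 = n152634 := ndS (p := 43320) (l := 7) rfl N43320 D152634
theorem N76751 : nd 76751 = n152660 := ndS (p := 43322) (l := 0) rfl N43322 D152660
theorem N76752 : nd 76752 = n152662 := ndS (p := 43322) (l := 2) rfl N43322 D152662
theorem N76753 : nd 76753 = n152663 := ndS (p := 43322) (l := 5) rfl N43322 D152663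
theorem N76754 : nd 76754 = n152664 := ndS (p := 43322) (l := 6) rfl N43322 D152664
theorem N76755 : nd 76755 = n152665 := ndS (p := 43323) (l := 5) rfl N43323 D152665
theorem N76756 : nd 76756 = n152666 := ndS (p := 43323) (l := 6) rfl N43323 D152666
theorem N76757 : nd 76757 = n152667 := ndS (p := 43324) (l := 0) rfl N43324 D152667
theorem N76758 : nd 76758 = n152669 := ndS (p := 43324) (l := 4) rfl N43324 D152669
theorem N76759 : nd 76759 = n152672 := ndS (p := 43325) (l := 1) rfl N43325 D152672
theorem N76760 : nd 76760 = n152674 := ndS (p := 43325) (l := 7) rfl N43325 D152674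
theorem N76761 : nd 76761 = n152679 := ndS (p := 43326) (l := 5) rfl N43326 D152679
theorem N76762 : nd 76762 = n152680 := ndS (p := 43326) (l := 6) rfl N43326 D152680
theorem N76763 : nd 76763 = n152681 := ndS (p := 43327) (l := 5) rfl N43327 D152681
theorem N76764 : nd 76764 = n152682 := ndS (p := 43327) (l := 6) rfl N43327 D152682
theorem N76765 : nd 76765 = n152683 := ndS (p := 43328) (l := 4) rfl N43328 D152683
theorem N76766 : nd 76766 = n152684 := ndS (p := 43328) (l := 6) rfl N43328 D152684
theorem N76767 : nd 76767 = n152703 := ndS (p := 43332) (l := 5) rfl N43332 D152703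
theorem N76768 : nd 76768 = n152705 := ndS (p := 43333) (l := 0) rfl N43333 D152705
theorem N76769 : nd 76769 = n152706 := ndS (p := 43333) (l := 1) rfl N43333 D152706
theorem N76770 : nd 76770 = n152707 := ndS (p := 43333) (l := 4) rfl N43333 D152707
theorem N76771 : nd 76771 = n152708 := ndS (p := 43333) (l := 6) rfl N43333 D152708
theorem N76772 : nd 76772 = n152709 := ndS (p := 43334) (l := 1) rfl N43334 D152709
theorem N76773 : nd 76773 = n152711 := ndS (p := 43334) (l := 7) rfl N43334 D152711
theorem N76774 : nd 76774 = n152712 := ndS (p := 43335) (l := 4) rfl N43335 D152712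
theorem N76775 : nd 76775 = n152713 := ndS (p := 43335) (l := 6) rfl N43335 D152713
theorem N76776 : nd 76776 = n152715 := ndS (p := 43336) (l := 0) rfl N43336 D152715
theorem N76777 : nd 76777 = n152716 := ndS (p := 43336) (l := 1) rfl N43336 D152716
theorem N76778 : nd 76778 = n152717 := ndS (p := 43336) (l := 3) rfl N43336 D152717
theorem N76779 : nd 76779 = n152718 := ndS (p := 43336) (l := 5) rfl N43336 D152718
theorem N76780 : nd 76780 = n152721 := ndS (p := 43338) (l := 4) rfl N43338 D152721
theorem N76781 : nd 76781 = n152730 := ndS (p := 43342) (l := 5) rfl N43342 D152730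
theorem N76782 : nd 76782 = n152731 := ndS (p := 43342) (l := 6) rfl N43342 D152731
theorem N76783 : nd 76783 = n152732 := ndS (p := 43343) (l := 4) rfl N43343 D152732
theorem N76784 : nd 76784 = n152733 := ndS (p := 43343) (l := 6) rfl N43343 D152733
theorem N76785 : nd 76785 = n152734 := ndS (p := 43344) (l := 0) rfl N43344 D152734
theorem N76786 : nd 76786 = n152736 := ndS (p := 43344) (l := 5) rfl N43344 D152736
theorem N76787 : nd 76787 = n152737 := ndS (p := 43345) (l := 3) rfl N43345 D152737
theorem N76788 : nd 76788 = n152738 := ndS (p := 43345) (l := 5) rfl N43345 D152738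
theorem N76789 : nd 76789 = n152739 := ndS (p := 43345) (l := 6) rfl N43345 D152739
theorem N76790 : nd 76790 = n152740 := ndS (p := 43347) (l := 0) rfl N43347 D152740
theorem N76791 : nd 76791 = n152741 := ndS (p := 43347) (l := 1) rfl N43347 D152741
theorem N76792 : nd 76792 = n152744 := ndS (p := 43347) (l := 6) rfl N43347 D152744
theorem N76793 : nd 76793 = n152747 := ndS (p := 43350) (l := 3) rfl N43350 D152747
theorem N76794 : nd 76794 = n152748 := ndS (p := 43350) (l := 5) rfl N43350 D152748
theorem N76795 : nd 76795 = n152751 := ndS (p := 43351) (l := 3) rfl N43351 D152751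
theorem N76796 : nd 76796 = n152752 := ndS (p := 43351) (l := 4) rfl N43351 D152752
theorem N76797 : nd 76797 = n152754 := ndS (p := 43351) (l := 6) rfl N43351 D152754
theorem N76798 : nd 76798 = n152757 := ndS (p := 43352) (l := 4) rfl N43352 D152757
theorem N76799 : nd 76799 = n152758 := ndS (p := 43352) (l := 5) rfl N43352 D152758
theorem N76800 : nd 76800 = n152765 := ndS (p := 43353) (l := 0) rfl N43353 D152765
theorem N76801 : nd 76801 = n152766 := ndS (p := 43353) (l := 1) rfl N43353 D152766
theorem N76802 : nd 76802 = n152768 := ndS (p := 43353) (l := 6) rfl N43353 D152768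
theorem N76803 : nd 76803 = n152769 := ndS (p := 43353) (l := 7) rfl N43353 D152769
theorem N76804 : nd 76804 = n152770 := ndS (p := 43354) (l := 6) rfl N43354 D152770
theorem N76805 : nd 76805 = n152771 := ndS (p := 43356) (l := 4) rfl N43356 D152771
theorem N76806 : nd 76806 = n152772 := ndS (p := 43356) (l := 6) rfl N43356 D152772
theorem N76807 : nd 76807 = n152773 := ndS (p := 43357) (l := 3) rfl N43357 D152773
theorem N76808 : nd 76808 = n152774 := ndS (p := 43357) (l := 6) rfl N43357 D152774
theorem N76809 : nd 76809 = n152777 := ndS (p := 43358) (l := 7) rfl N43358 D152777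
theorem N76810 : nd 76810 = n152778 := ndS (p := 43359) (l := 0) rfl N43359 D152778
theorem N76811 : nd 76811 = n152779 := ndS (p := 43359) (l := 1) rfl N43359 D152779
theorem N76812 : nd 76812 = n152780 := ndS (p := 43359) (l := 2) rfl N43359 D152780
theorem N76813 : nd 76813 = n152781 := ndS (p := 43359) (l := 5) rfl N43359 D152781
theorem N76814 : nd 76814 = n152782 := ndS (p := 43359) (l := 6) rfl N43359 D152782
theorem N76815 : nd 76815 = n152783 := ndS (p := 43360) (l := 6) rfl N43360 D152783
theorem N76816 : nd 76816 = n152784 := ndS (p := 43361) (l := 0) rfl N43361 D152784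
theorem N76817 : nd 76817 = n152785 := ndS (p := 43361) (l := 1) rfl N43361 D152785
theorem N76818 : nd 76818 = n152786 := ndS (p := 43361) (l := 5) rfl N43361 D152786
theorem N76819 : nd 76819 = n152787 := ndS (p := 43361) (l := 7) rfl N43361 D152787
theorem N76820 : nd 76820 = n152788 := ndS (p := 43362) (l := 4) rfl N43362 D152788
theorem N76821 : nd 76821 = n152789 := ndS (p := 43364) (l := 3) rfl N43364 D152789
theorem N76822 : nd 76822 = n152790 := ndS (p := 43364) (l := 6) rfl N43364 D152790
theorem N76823 : nd 76823 = n152791 := ndS (p := 43365) (l := 3) rfl N43365 D152791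
theorem N76824 : nd 76824 = n152792 := ndS (p := 43366) (l := 0) rfl N43366 D152792
theorem N76825 : nd 76825 = n152793 := ndS (p := 43366) (l := 1) rfl N43366 D152793
theorem N76826 : nd 76826 = n152794 := ndS (p := 43366) (l := 2) rfl N43366 D152794
theorem N76827 : nd 76827 = n152795 := ndS (p := 43366) (l := 5) rfl N43366 D152795
theorem N76828 : nd 76828 = n152796 := ndS (p := 43366) (l := 6) rfl N43366 D152796
theorem N76829 : nd 76829 = n152797 := ndS (p := 43367) (l := 0) rfl N43367 D152797
theorem N76830 : nd 76830 = n152798 := ndS (p := 43367) (l := 1) rfl N43367 D152798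
theorem N76831 : nd 76831 = n152799 := ndS (p := 43367) (l := 6) rfl N43367 D152799
theorem N76832 : nd 76832 = n152800 := ndS (p := 43368) (l := 0) rfl N43368 D152800
theorem N76833 : nd 76833 = n152801 := ndS (p := 43368) (l := 1) rfl N43368 D152801
theorem N76834 : nd 76834 = n152811 := ndS (p := 43370) (l := 0) rfl N43370 D152811
theorem N76835 : nd 76835 = n152813 := ndS (p := 43370) (l := 2) rfl N43370 D152813
theorem N76836 : nd 76836 = n152814 := ndS (p := 43370) (l := 5) rfl N43370 D152814
theorem N76837 : nd 76837 = n152816 := ndS (p := 43371) (l := 6) rfl N43371 D152816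
theorem N76838 : nd 76838 = n152826 := ndS (p := 43373) (l := 0) rfl N43373 D152826
theorem N76839 : nd 76839 = n152828 := ndS (p := 43373) (l := 2) rfl N43373 D152828
theorem N76840 : nd 76840 = n152829 := ndS (p := 43373) (l := 5) rfl N43373 D152829
theorem N76841 : nd 76841 = n152830 := ndS (p := 43373) (l := 6) rfl N43373 D152830
theorem N76842 : nd 76842 = n152831 := ndS (p := 43374) (l := 6) rfl N43374 D152831
theorem N76843 : nd 76843 = n152832 := ndS (p := 43375) (l := 0) rfl N43375 D152832
theorem N76844 : nd 76844 = n152833 := ndS (p := 43375) (l := 1) rfl N43375 D152833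
theorem N76845 : nd 76845 = n152834 := ndS (p := 43375) (l := 6) rfl N43375 D152834
theorem N76846 : nd 76846 = n152837 := ndS (p := 43376) (l := 5) rfl N43376 D152837
theorem N76847 : nd 76847 = n152839 := ndS (p := 43377) (l := 0) rfl N43377 D152839
theorem N76848 : nd 76848 = n152840 := ndS (p := 43377) (l := 1) rfl N43377 D152840
theorem N76849 : nd 76849 = n152841 := ndS (p := 43377) (l := 2) rfl N43377 D152841
theorem N76850 : nd 76850 = n152842 := ndS (p := 43377) (l := 5) rfl N43377 D152842
theorem N76851 : nd 76851 = n152844 := ndS (p := 43378) (l := 6) rfl N43378 D152844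
theorem N76852 : nd 76852 = n152867 := ndS (p := 43379) (l := 3) rfl N43379 D152867
theorem N76853 : nd 76853 = n152868 := ndS (p := 43379) (l := 6) rfl N43379 D152868
theorem N76854 : nd 76854 = n152869 := ndS (p := 43380) (l := 3) rfl N43380 D152869
theorem N76855 : nd 76855 = n152870 := ndS (p := 43380) (l := 6) rfl N43380 D152870
theorem N76856 : nd 76856 = n152871 := ndS (p := 43381) (l := 3) rfl N43381 D152871
theorem N76857 : nd 76857 = n152872 := ndS (p := 43381) (l := 6) rfl N43381 D152872
theorem N76858 : nd 76858 = n152873 := ndS (p := 43382) (l := 0) rfl N43382 D152873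
theorem N76859 : nd 76859 = n152874 := ndS (p := 43382) (l := 1) rfl N43382 D152874
theorem N76860 : nd 76860 = n152875 := ndS (p := 43382) (l := 7) rfl N43382 D152875
theorem N76861 : nd 76861 = n152876 := ndS (p := 43383) (l := 6) rfl N43383 D152876
theorem N76862 : nd 76862 = n152877 := ndS (p := 43384) (l := 0) rfl N43384 D152877
theorem N76863 : nd 76863 = n152878 := ndS (p := 43384) (l := 1) rfl N43384 D152878
theorem N76864 : nd 76864 = n152879 := ndS (p := 43384) (l := 5) rfl N43384 D152879
theorem N76865 : nd 76865 = n152880 := ndS (p := 43385) (l := 4) rfl N43385 D152880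
theorem N76866 : nd 76866 = n152883 := ndS (p := 43386) (l := 4) rfl N43386 D152883
theorem N76867 : nd 76867 = n152888 := ndS (p := 43387) (l := 4) rfl N43387 D152888
theorem N76868 : nd 76868 = n152889 := ndS (p := 43388) (l := 5) rfl N43388 D152889
theorem N76869 : nd 76869 = n152890 := ndS (p := 43388) (l := 6) rfl N43388 D152890
theorem N76870 : nd 76870 = n152895 := ndS (p := 43390) (l := 0) rfl N43390 D152895
theorem N76871 : nd 76871 = n152896 := ndS (p := 43390) (l := 1) rfl N43390 D152896
theorem N76872 : nd 76872 = n152897 := ndS (p := 43390) (l := 4) rfl N43390 D152897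
theorem N76873 : nd 76873 = n152898 := ndS (p := 43390) (l := 6) rfl N43390 D152898
theorem N76874 : nd 76874 = n152899 := ndS (p := 43391) (l := 0) rfl N43391 D152899
theorem N76875 : nd 76875 = n152901 := ndS (p := 43391) (l := 7) rfl N43391 D152901
theorem N76876 : nd 76876 = n152913 := ndS (p := 43392) (l := 4) rfl N43392 D152913
theorem N76877 : nd 76877 = n152914 := ndS (p := 43393) (l := 3) rfl N43393 D152914
theorem N76878 : nd 76878 = n152923 := ndS (p := 43395) (l := 5) rfl N43395 D152923
theorem N76879 : nd 76879 = n152924 := ndS (p := 43396) (l := 0) rfl N43396 D152924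
theorem N76880 : nd 76880 = n152926 := ndS (p := 43396) (l := 6) rfl N43396 D152926
theorem N76881 : nd 76881 = n152927 := ndS (p := 43397) (l := 5) rfl N43397 D152927
theorem N76882 : nd 76882 = n152929 := ndS (p := 43398) (l := 4) rfl N43398 D152929
theorem N76883 : nd 76883 = n152937 := ndS (p := 43400) (l := 4) rfl N43400 D152937
theorem N76884 : nd 76884 = n152939 := ndS (p := 43401) (l := 0) rfl N43401 D152939
theorem N76885 : nd 76885 = n152940 := ndS (p := 43401) (l := 5) rfl N43401 D152940
theorem N76886 : nd 76886 = n152951 := ndS (p := 43402) (l := 5) rfl N43402 D152951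
theorem N76887 : nd 76887 = n152992 := ndS (p := 43404) (l := 1) rfl N43404 D152992
theorem N76888 : nd 76888 = n153170 := ndS (p := 43405) (l := 4) rfl N43405 D153170
theorem N76889 : nd 76889 = n153173 := ndS (p := 43406) (l := 4) rfl N43406 D153173
theorem N76890 : nd 76890 = n153175 := ndS (p := 43407) (l := 0) rfl N43407 D153175
theorem N76891 : nd 76891 = n153176 := ndS (p := 43407) (l := 1) rfl N43407 D153176
theorem N76892 : nd 76892 = n153177 := ndS (p := 43407) (l := 2) rfl N43407 D153177
theorem N76893 : nd 76893 = n153178 := ndS (p := 43407) (l := 5) rfl N43407 D153178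
theorem N76894 : nd 76894 = n153179 := ndS (p := 43408) (l := 6) rfl N43408 D153179
theorem N76895 : nd 76895 = n153180 := ndS (p := 43409) (l := 5) rfl N43409 D153180
theorem N76896 : nd 76896 = n153181 := ndS (p := 43409) (l := 7) rfl N43409 D153181
theorem N76897 : nd 76897 = n153207 := ndS (p := 43414) (l := 6) rfl N43414 D153207
theorem N76898 : nd 76898 = n153208 := ndS (p := 43415) (l := 6) rfl N43415 D153208
theorem N76899 : nd 76899 = n153214 := ndS (p := 43418) (l := 0) rfl N43418 D153214
theorem N76900 : nd 76900 = n153215 := ndS (p := 43418) (l := 1) rfl N43418 D153215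
theorem N76901 : nd 76901 = n153217 := ndS (p := 43418) (l := 7) rfl N43418 D153217
theorem N76902 : nd 76902 = n153231 := ndS (p := 43425) (l := 0) rfl N43425 D153231
theorem N76903 : nd 76903 = n153232 := ndS (p := 43425) (l := 1) rfl N43425 D153232
theorem N76904 : nd 76904 = n153233 := ndS (p := 43425) (l := 7) rfl N43425 D153233
theorem N76905 : nd 76905 = n153241 := ndS (p := 43428) (l := 0) rfl N43428 D153241
theorem N76906 : nd 76906 = n153242 := ndS (p := 43428) (l := 5) rfl N43428 D153242
theorem N76907 : nd 76907 = n153243 := ndS (p := 43428) (l := 6) rfl N43428 D153243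
theorem N76908 : nd 76908 = n153244 := ndS (p := 43429) (l := 6) rfl N43429 D153244
theorem N76909 : nd 76909 = n153245 := ndS (p := 43430) (l := 5) rfl N43430 D153245
theorem N76910 : nd 76910 = n153251 := ndS (p := 43434) (l := 6) rfl N43434 D153251
theorem N76911 : nd 76911 = n153253 := ndS (p := 43436) (l := 6) rfl N43436 D153253
theorem N76912 : nd 76912 = n153274 := ndS (p := 43448) (l := 0) rfl N43448 D153274
theorem N76913 : nd 76913 = n153275 := ndS (p := 43448) (l := 1) rfl N43448 D153275
theorem N76914 : nd 76914 = n153278 := ndS (p := 43450) (l := 0) rfl N43450 D153278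
theorem N76915 : nd 76915 = n153279 := ndS (p := 43450) (l := 1) rfl N43450 D153279
theorem N76916 : nd 76916 = n153280 := ndS (p := 43450) (l := 5) rfl N43450 D153280
theorem N76917 : nd 76917 = n153281 := ndS (p := 43450) (l := 7) rfl N43450 D153281
theorem N76918 : nd 76918 = n153283 := ndS (p := 43451) (l := 1) rfl N43451 D153283
theorem N76919 : nd 76919 = n153284 := ndS (p := 43451) (l := 5) rfl N43451 D153284
theorem N76920 : nd 76920 = n153285 := ndS (p := 43451) (l := 7) rfl N43451 D153285
theorem N76921 : nd 76921 = n153292 := ndS (p := 43454) (l := 4) rfl N43454 D153292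
theorem N76922 : nd 76922 = n153294 := ndS (p := 43456) (l := 5) rfl N43456 D153294
theorem N76923 : nd 76923 = n153296 := ndS (p := 43458) (l := 3) rfl N43458 D153296
theorem N76924 : nd 76924 = n153299 := ndS (p := 43462) (l := 6) rfl N43462 D153299
theorem N76925 : nd 76925 = n153301 := ndS (p := 43463) (l := 6) rfl N43463 D153301
theorem N76926 : nd 76926 = n153303 := ndS (p := 43464) (l := 1) rfl N43464 D153303
theorem N76927 : nd 76927 = n153304 := ndS (p := 43464) (l := 5) rfl N43464 D153304
theorem N76928 : nd 76928 = n153306 := ndS (p := 43465) (l := 0) rfl N43465 D153306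
theorem N76929 : nd 76929 = n153307 := ndS (p := 43465) (l := 1) rfl N43465 D153307
theorem N76930 : nd 76930 = n153308 := ndS (p := 43465) (l := 5) rfl N43465 D153308
theorem N76931 : nd 76931 = n153312 := ndS (p := 43466) (l := 7) rfl N43466 D153312
theorem N76932 : nd 76932 = n153315 := ndS (p := 43468) (l := 5) rfl N43468 D153315
theorem N76933 : nd 76933 = n153317 := ndS (p := 43469) (l := 0) rfl N43469 D153317
theorem N76934 : nd 76934 = n153318 := ndS (p := 43469) (l := 1) rfl N43469 D153318
theorem N76935 : nd 76935 = n153319 := ndS (p := 43469) (l := 4) rfl N43469 D153319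
theorem N76936 : nd 76936 = n153320 := ndS (p := 43469) (l := 7) rfl N43469 D153320
theorem N76937 : nd 76937 = n153321 := ndS (p := 43471) (l := 6) rfl N43471 D153321
theorem N76938 : nd 76938 = n153322 := ndS (p := 43472) (l := 6) rfl N43472 D153322
theorem N76939 : nd 76939 = n153323 := ndS (p := 43473) (l := 3) rfl N43473 D153323
theorem N76940 : nd 76940 = n153324 := ndS (p := 43473) (l := 6) rfl N43473 D153324
theorem N76941 : nd 76941 = n153325 := ndS (p := 43474) (l := 0) rfl N43474 D153325
theorem N76942 : nd 76942 = n153328 := ndS (p := 43474) (l := 7) rfl N43474 D153328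
theorem N76943 : nd 76943 = n153329 := ndS (p := 43475) (l := 5) rfl N43475 D153329
theorem N76944 : nd 76944 = n153331 := ndS (p := 43476) (l := 6) rfl N43476 D153331
theorem N76945 : nd 76945 = n153333 := ndS (p := 43477) (l := 1) rfl N43477 D153333
theorem N76946 : nd 76946 = n153334 := ndS (p := 43477) (l := 5) rfl N43477 D153334
theorem N76947 : nd 76947 = n153336 := ndS (p := 43478) (l := 6) rfl N43478 D153336
theorem N76948 : nd 76948 = n153341 := ndS (p := 43479) (l := 3) rfl N43479 D153341
theorem N76949 : nd 76949 = n153342 := ndS (p := 43480) (l := 1) rfl N43480 D153342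
theorem N76950 : nd 76950 = n153344 := ndS (p := 43480) (l := 7) rfl N43480 D153344
theorem N76951 : nd 76951 = n153345 := ndS (p := 43481) (l := 6) rfl N43481 D153345
theorem N76952 : nd 76952 = n153362 := ndS (p := 43482) (l := 5) rfl N43482 D153362
theorem N76953 : nd 76953 = n153363 := ndS (p := 43483) (l := 4) rfl N43483 D153363
theorem N76954 : nd 76954 = n153364 := ndS (p := 43483) (l := 6) rfl N43483 D153364
theorem N76955 : nd 76955 = n153367 := ndS (p := 43484) (l := 5) rfl N43484 D153367
theorem N76956 : nd 76956 = n153368 := ndS (p := 43484) (l := 7) rfl N43484 D153368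
theorem N76957 : nd 76957 = n153370 := ndS (p := 43485) (l := 1) rfl N43485 D153370
theorem N76958 : nd 76958 = n153371 := ndS (p := 43485) (l := 5) rfl N43485 D153371
theorem N76959 : nd 76959 = n153387 := ndS (p := 43486) (l := 6) rfl N43486 D153387
theorem N76960 : nd 76960 = n153388 := ndS (p := 43487) (l := 0) rfl N43487 D153388
theorem N76961 : nd 76961 = n153389 := ndS (p := 43487) (l := 1) rfl N43487 D153389
theorem N76962 : nd 76962 = n153390 := ndS (p := 43487) (l := 5) rfl N43487 D153390
theorem N76963 : nd 76963 = n153418 := ndS (p := 43488) (l := 3) rfl N43488 D153418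
theorem N76964 : nd 76964 = n153419 := ndS (p := 43488) (l := 5) rfl N43488 D153419
theorem N76965 : nd 76965 = n153420 := ndS (p := 43488) (l := 6) rfl N43488 D153420
theorem N76966 : nd 76966 = n153421 := ndS (p := 43489) (l := 5) rfl N43489 D153421
theorem N76967 : nd 76967 = n153422 := ndS (p := 43490) (l := 0) rfl N43490 D153422
theorem N76968 : nd 76968 = n153423 := ndS (p := 43490) (l := 1) rfl N43490 D153423
theorem N76969 : nd 76969 = n153424 := ndS (p := 43490) (l := 4) rfl N43490 D153424
theorem N76970 : nd 76970 = n153455 := ndS (p := 43492) (l := 0) rfl N43492 D153455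
theorem N76971 : nd 76971 = n153456 := ndS (p := 43492) (l := 1) rfl N43492 D153456
theorem N76972 : nd 76972 = n153457 := ndS (p := 43492) (l := 3) rfl N43492 D153457
theorem N76973 : nd 76973 = n153458 := ndS (p := 43492) (l := 5) rfl N43492 D153458
theorem N76974 : nd 76974 = n153512 := ndS (p := 43495) (l := 3) rfl N43495 D153512
theorem N76975 : nd 76975 = n153513 := ndS (p := 43495) (l := 5) rfl N43495 D153513
theorem N76976 : nd 76976 = n153516 := ndS (p := 43496) (l := 5) rfl N43496 D153516
theorem N76977 : nd 76977 = n153518 := ndS (p := 43497) (l := 0) rfl N43497 D153518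
theorem N76978 : nd 76978 = n153519 := ndS (p := 43497) (l := 1) rfl N43497 D153519
theorem N76979 : nd 76979 = n153520 := ndS (p := 43497) (l := 2) rfl N43497 D153520
theorem N76980 : nd 76980 = n153523 := ndS (p := 43501) (l := 5) rfl N43501 D153523
theorem N76981 : nd 76981 = n153525 := ndS (p := 43502) (l := 1) rfl N43502 D153525
theorem N76982 : nd 76982 = n153526 := ndS (p := 43502) (l := 4) rfl N43502 D153526
theorem N76983 : nd 76983 = n153527 := ndS (p := 43502) (l := 7) rfl N43502 D153527
theorem N76984 : nd 76984 = n153528 := ndS (p := 43504) (l := 3) rfl N43504 D153528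
theorem N76985 : nd 76985 = n153529 := ndS (p := 43504) (l := 5) rfl N43504 D153529
theorem N76986 : nd 76986 = n153530 := ndS (p := 43505) (l := 6) rfl N43505 D153530
theorem N76987 : nd 76987 = n153531 := ndS (p := 43506) (l := 6) rfl N43506 D153531
theorem N76988 : nd 76988 = n153532 := ndS (p := 43507) (l := 6) rfl N43507 D153532
theorem N76989 : nd 76989 = n153533 := ndS (p := 43508) (l := 0) rfl N43508 D153533
theorem N76990 : nd 76990 = n153534 := ndS (p := 43508) (l := 1) rfl N43508 D153534
theorem N76991 : nd 76991 = n153535 := ndS (p := 43508) (l := 5) rfl N43508 D153535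
theorem N76992 : nd 76992 = n153539 := ndS (p := 43509) (l := 5) rfl N43509 D153539
theorem N76993 : nd 76993 = n153540 := ndS (p := 43509) (l := 7) rfl N43509 D153540
theorem N76994 : nd 76994 = n153541 := ndS (p := 43510) (l := 5) rfl N43510 D153541
theorem N76995 : nd 76995 = n153542 := ndS (p := 43511) (l := 5) rfl N43511 D153542
theorem N76996 : nd 76996 = n153543 := ndS (p := 43511) (l := 6) rfl N43511 D153543
theorem N76997 : nd 76997 = n153544 := ndS (p := 43512) (l := 0) rfl N43512 D153544
theorem N76998 : nd 76998 = n153545 := ndS (p := 43512) (l := 1) rfl N43512 D153545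
theorem N76999 : nd 76999 = n153546 := ndS (p := 43512) (l := 4) rfl N43512 D153546
theorem N77000 : nd 77000 = n153547 := ndS (p := 43512) (l := 7) rfl N43512 D153547
theorem N77001 : nd 77001 = n153550 := ndS (p := 43515) (l := 0) rfl N43515 D153550
theorem N77002 : nd 77002 = n153555 := ndS (p := 43516) (l := 5) rfl N43516 D153555
theorem N77003 : nd 77003 = n153556 := ndS (p := 43516) (l := 7) rfl N43516 D153556
theorem N77004 : nd 77004 = n153561 := ndS (p := 43519) (l := 6) rfl N43519 D153561
theorem N77005 : nd 77005 = n153562 := ndS (p := 43521) (l := 0) rfl N43521 D153562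
theorem N77006 : nd 77006 = n153563 := ndS (p := 43521) (l := 1) rfl N43521 D153563
theorem N77007 : nd 77007 = n153564 := ndS (p := 43521) (l := 3) rfl N43521 D153564
theorem N77008 : nd 77008 = n153565 := ndS (p := 43521) (l := 5) rfl N43521 D153565
theorem N77009 : nd 77009 = n153566 := ndS (p := 43521) (l := 7) rfl N43521 D153566
theorem N77010 : nd 77010 = n153567 := ndS (p := 43522) (l := 6) rfl N43522 D153567
theorem N77011 : nd 77011 = n153568 := ndS (p := 43523) (l := 0) rfl N43523 D153568
theorem N77012 : nd 77012 = n153576 := ndS (p := 43525) (l := 0) rfl N43525 D153576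
theorem N77013 : nd 77013 = n153577 := ndS (p := 43525) (l := 1) rfl N43525 D153577
theorem N77014 : nd 77014 = n153578 := ndS (p := 43525) (l := 2) rfl N43525 D153578
theorem N77015 : nd 77015 = n153579 := ndS (p := 43525) (l := 5) rfl N43525 D153579
theorem N77016 : nd 77016 = n153580 := ndS (p := 43525) (l := 7) rfl N43525 D153580
theorem N77017 : nd 77017 = n153581 := ndS (p := 43526) (l := 1) rfl N43526 D153581
theorem N77018 : nd 77018 = n153582 := ndS (p := 43526) (l := 4) rfl N43526 D153582
theorem N77019 : nd 77019 = n153583 := ndS (p := 43526) (l := 6) rfl N43526 D153583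
theorem N77020 : nd 77020 = n153584 := ndS (p := 43527) (l := 6) rfl N43527 D153584
theorem N77021 : nd 77021 = n153585 := ndS (p := 43528) (l := 0) rfl N43528 D153585
theorem N77022 : nd 77022 = n153588 := ndS (p := 43529) (l := 6) rfl N43529 D153588
theorem N77023 : nd 77023 = n153589 := ndS (p := 43530) (l := 6) rfl N43530 D153589
theorem N77024 : nd 77024 = n153590 := ndS (p := 43531) (l := 6) rfl N43531 D153590
theorem N77025 : nd 77025 = n153592 := ndS (p := 43532) (l := 1) rfl N43532 D153592
theorem N77026 : nd 77026 = n153593 := ndS (p := 43532) (l := 5) rfl N43532 D153593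
theorem N77027 : nd 77027 = n153594 := ndS (p := 43533) (l := 0) rfl N43533 D153594
theorem N77028 : nd 77028 = n153595 := ndS (p := 43533) (l := 1) rfl N43533 D153595
theorem N77029 : nd 77029 = n153597 := ndS (p := 43534) (l := 3) rfl N43534 D153597
theorem N77030 : nd 77030 = n153598 := ndS (p := 43534) (l := 5) rfl N43534 D153598
theorem N77031 : nd 77031 = n153609 := ndS (p := 43536) (l := 6) rfl N43536 D153609
theorem N77032 : nd 77032 = n153610 := ndS (p := 43537) (l := 4) rfl N43537 D153610
theorem N77033 : nd 77033 = n153613 := ndS (p := 43539) (l := 4) rfl N43539 D153613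
theorem N77034 : nd 77034 = n153614 := ndS (p := 43539) (l := 5) rfl N43539 D153614
theorem N77035 : nd 77035 = n153616 := ndS (p := 43540) (l := 4) rfl N43540 D153616
theorem N77036 : nd 77036 = n153617 := ndS (p := 43541) (l := 3) rfl N43541 D153617
theorem N77037 : nd 77037 = n153619 := ndS (p := 43543) (l := 3) rfl N43543 D153619
theorem N77038 : nd 77038 = n153620 := ndS (p := 43543) (l := 5) rfl N43543 D153620
theorem N77039 : nd 77039 = n153624 := ndS (p := 43545) (l := 0) rfl N43545 D153624
theorem N77040 : nd 77040 = n153625 := ndS (p := 43545) (l := 1) rfl N43545 D153625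
theorem N77041 : nd 77041 = n153626 := ndS (p := 43545) (l := 2) rfl N43545 D153626
theorem N77042 : nd 77042 = n153627 := ndS (p := 43546) (l := 6) rfl N43546 D153627
theorem N77043 : nd 77043 = n153628 := ndS (p := 43547) (l := 5) rfl N43547 D153628
theorem N77044 : nd 77044 = n153629 := ndS (p := 43548) (l := 0) rfl N43548 D153629
theorem N77045 : nd 77045 = n153631 := ndS (p := 43548) (l := 5) rfl N43548 D153631
theorem N77046 : nd 77046 = n153632 := ndS (p := 43549) (l := 5) rfl N43549 D153632
theorem N77047 : nd 77047 = n153633 := ndS (p := 43549) (l := 6) rfl N43549 D153633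
theorem N77048 : nd 77048 = n153634 := ndS (p := 43550) (l := 0) rfl N43550 D153634
theorem N77049 : nd 77049 = n153636 := ndS (p := 43550) (l := 4) rfl N43550 D153636
theorem N77050 : nd 77050 = n153639 := ndS (p := 43551) (l := 3) rfl N43551 D153639
theorem N77051 : nd 77051 = n153640 := ndS (p := 43551) (l := 4) rfl N43551 D153640
theorem N77052 : nd 77052 = n153641 := ndS (p := 43551) (l := 5) rfl N43551 D153641
theorem N77053 : nd 77053 = n153642 := ndS (p := 43551) (l := 6) rfl N43551 D153642
theorem N77054 : nd 77054 = n153645 := ndS (p := 43552) (l := 4) rfl N43552 D153645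
theorem N77055 : nd 77055 = n153646 := ndS (p := 43552) (l := 5) rfl N43552 D153646
theorem N77056 : nd 77056 = n153648 := ndS (p := 43553) (l := 0) rfl N43553 D153648
theorem N77057 : nd 77057 = n153649 := ndS (p := 43553) (l := 1) rfl N43553 D153649
theorem N77058 : nd 77058 = n153650 := ndS (p := 43553) (l := 4) rfl N43553 D153650
theorem N77059 : nd 77059 = n153651 := ndS (p := 43553) (l := 7) rfl N43553 D153651
theorem N77060 : nd 77060 = n153656 := ndS (p := 43555) (l := 6) rfl N43555 D153656
theorem N77061 : nd 77061 = n153657 := ndS (p := 43556) (l := 0) rfl N43556 D153657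
theorem N77062 : nd 77062 = n153658 := ndS (p := 43556) (l := 1) rfl N43556 D153658
theorem N77063 : nd 77063 = n153659 := ndS (p := 43556) (l := 4) rfl N43556 D153659
theorem N77064 : nd 77064 = n153660 := ndS (p := 43556) (l := 6) rfl N43556 D153660
theorem N77065 : nd 77065 = n153661 := ndS (p := 43557) (l := 7) rfl N43557 D153661
theorem N77066 : nd 77066 = n153665 := ndS (p := 43558) (l := 5) rfl N43558 D153665
theorem N77067 : nd 77067 = n153666 := ndS (p := 43558) (l := 6) rfl N43558 D153666
theorem N77068 : nd 77068 = n153667 := ndS (p := 43559) (l := 4) rfl N43559 D153667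
theorem N77069 : nd 77069 = n153668 := ndS (p := 43559) (l := 6) rfl N43559 D153668
theorem N77070 : nd 77070 = n153670 := ndS (p := 43561) (l := 4) rfl N43561 D153670
theorem N77071 : nd 77071 = n153671 := ndS (p := 43561) (l := 6) rfl N43561 D153671
theorem N77072 : nd 77072 = n153672 := ndS (p := 43562) (l := 3) rfl N43562 D153672
theorem N77073 : nd 77073 = n153673 := ndS (p := 43562) (l := 4) rfl N43562 D153673
theorem N77074 : nd 77074 = n153674 := ndS (p := 43562) (l := 6) rfl N43562 D153674
theorem N77075 : nd 77075 = n153675 := ndS (p := 43563) (l := 0) rfl N43563 D153675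
theorem N77076 : nd 77076 = n153676 := ndS (p := 43563) (l := 1) rfl N43563 D153676
theorem N77077 : nd 77077 = n153677 := ndS (p := 43563) (l := 3) rfl N43563 D153677
theorem N77078 : nd 77078 = n153678 := ndS (p := 43563) (l := 5) rfl N43563 D153678
theorem N77079 : nd 77079 = n153679 := ndS (p := 43563) (l := 7) rfl N43563 D153679
theorem N77080 : nd 77080 = n153681 := ndS (p := 43565) (l := 5) rfl N43565 D153681
theorem N77081 : nd 77081 = n153682 := ndS (p := 43565) (l := 6) rfl N43565 D153682
theorem N77082 : nd 77082 = n153683 := ndS (p := 43566) (l := 4) rfl N43566 D153683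
theorem N77083 : nd 77083 = n153684 := ndS (p := 43566) (l := 6) rfl N43566 D153684
theorem N77084 : nd 77084 = n153686 := ndS (p := 43568) (l := 3) rfl N43568 D153686
theorem N77085 : nd 77085 = n153687 := ndS (p := 43568) (l := 5) rfl N43568 D153687
theorem N77086 : nd 77086 = n153688 := ndS (p := 43569) (l := 3) rfl N43569 D153688
theorem N77087 : nd 77087 = n153689 := ndS (p := 43569) (l := 5) rfl N43569 D153689
theorem N77088 : nd 77088 = n153691 := ndS (p := 43570) (l := 3) rfl N43570 D153691
theorem N77089 : nd 77089 = n153692 := ndS (p := 43570) (l := 4) rfl N43570 D153692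
theorem N77090 : nd 77090 = n153695 := ndS (p := 43571) (l := 3) rfl N43571 D153695
theorem N77091 : nd 77091 = n153699 := ndS (p := 43572) (l := 2) rfl N43572 D153699
theorem N77092 : nd 77092 = n153700 := ndS (p := 43572) (l := 5) rfl N43572 D153700
theorem N77093 : nd 77093 = n153701 := ndS (p := 43572) (l := 7) rfl N43572 D153701
theorem N77094 : nd 77094 = n153702 := ndS (p := 43573) (l := 0) rfl N43573 D153702
theorem N77095 : nd 77095 = n153703 := ndS (p := 43573) (l := 1) rfl N43573 D153703
theorem N77096 : nd 77096 = n153704 := ndS (p := 43573) (l := 4) rfl N43573 D153704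
theorem N77097 : nd 77097 = n153705 := ndS (p := 43573) (l := 6) rfl N43573 D153705
theorem N77098 : nd 77098 = n153706 := ndS (p := 43573) (l := 7) rfl N43573 D153706
theorem N77099 : nd 77099 = n153707 := ndS (p := 43574) (l := 6) rfl N43574 D153707
theorem N77100 : nd 77100 = n153712 := ndS (p := 43576) (l := 6) rfl N43576 D153712
theorem N77101 : nd 77101 = n153713 := ndS (p := 43577) (l := 6) rfl N43577 D153713
theorem N77102 : nd 77102 = n153714 := ndS (p := 43578) (l := 0) rfl N43578 D153714
theorem N77103 : nd 77103 = n153715 := ndS (p := 43578) (l := 1) rfl N43578 D153715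
theorem N77104 : nd 77104 = n153716 := ndS (p := 43578) (l := 5) rfl N43578 D153716
theorem N77105 : nd 77105 = n153717 := ndS (p := 43578) (l := 7) rfl N43578 D153717
theorem N77106 : nd 77106 = n153719 := ndS (p := 43579) (l := 4) rfl N43579 D153719
theorem N77107 : nd 77107 = n153721 := ndS (p := 43579) (l := 6) rfl N43579 D153721
theorem N77108 : nd 77108 = n153722 := ndS (p := 43580) (l := 4) rfl N43580 D153722
theorem N77109 : nd 77109 = n153728 := ndS (p := 43583) (l := 6) rfl N43583 D153728
theorem N77110 : nd 77110 = n153742 := ndS (p := 43584) (l := 1) rfl N43584 D153742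
theorem N77111 : nd 77111 = n153743 := ndS (p := 43584) (l := 2) rfl N43584 D153743
theorem N77112 : nd 77112 = n153744 := ndS (p := 43584) (l := 5) rfl N43584 D153744
theorem N77113 : nd 77113 = n153753 := ndS (p := 43588) (l := 1) rfl N43588 D153753
theorem N77114 : nd 77114 = n153754 := ndS (p := 43588) (l := 2) rfl N43588 D153754
theorem N77115 : nd 77115 = n153755 := ndS (p := 43588) (l := 5) rfl N43588 D153755
theorem N77116 : nd 77116 = n153757 := ndS (p := 43589) (l := 6) rfl N43589 D153757
theorem N77117 : nd 77117 = n153763 := ndS (p := 43590) (l := 3) rfl N43590 D153763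
theorem N77118 : nd 77118 = n153764 := ndS (p := 43590) (l := 4) rfl N43590 D153764
theorem N77119 : nd 77119 = n153774 := ndS (p := 43591) (l := 5) rfl N43591 D153774
theorem N77120 : nd 77120 = n153776 := ndS (p := 43592) (l := 1) rfl N43592 D153776
theorem N77121 : nd 77121 = n153777 := ndS (p := 43592) (l := 4) rfl N43592 D153777
theorem N77122 : nd 77122 = n153779 := ndS (p := 43592) (l := 7) rfl N43592 D153779
theorem N77123 : nd 77123 = n153780 := ndS (p := 43593) (l := 6) rfl N43593 D153780
theorem N77124 : nd 77124 = n153781 := ndS (p := 43594) (l := 3) rfl N43594 D153781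
theorem N77125 : nd 77125 = n153782 := ndS (p := 43594) (l := 6) rfl N43594 D153782
theorem N77126 : nd 77126 = n153783 := ndS (p := 43595) (l := 3) rfl N43595 D153783
theorem N77127 : nd 77127 = n153784 := ndS (p := 43595) (l := 6) rfl N43595 D153784
theorem N77128 : nd 77128 = n153785 := ndS (p := 43596) (l := 3) rfl N43596 D153785
theorem N77129 : nd 77129 = n153786 := ndS (p := 43597) (l := 0) rfl N43597 D153786
theorem N77130 : nd 77130 = n153788 := ndS (p := 43597) (l := 7) rfl N43597 D153788
theorem N77131 : nd 77131 = n153789 := ndS (p := 43598) (l := 6) rfl N43598 D153789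
theorem N77132 : nd 77132 = n153790 := ndS (p := 43599) (l := 0) rfl N43599 D153790
theorem N77133 : nd 77133 = n153792 := ndS (p := 43599) (l := 5) rfl N43599 D153792
theorem N77134 : nd 77134 = n153797 := ndS (p := 43600) (l := 4) rfl N43600 D153797
theorem N77135 : nd 77135 = n153800 := ndS (p := 43601) (l := 6) rfl N43601 D153800
theorem N77136 : nd 77136 = n153801 := ndS (p := 43602) (l := 0) rfl N43602 D153801
theorem N77137 : nd 77137 = n153802 := ndS (p := 43602) (l := 1) rfl N43602 D153802
theorem N77138 : nd 77138 = n153803 := ndS (p := 43602) (l := 5) rfl N43602 D153803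
theorem N77139 : nd 77139 = n153804 := ndS (p := 43602) (l := 7) rfl N43602 D153804
theorem N77140 : nd 77140 = n153808 := ndS (p := 43603) (l := 5) rfl N43603 D153808
theorem N77141 : nd 77141 = n153811 := ndS (p := 43604) (l := 3) rfl N43604 D153811
theorem N77142 : nd 77142 = n153813 := ndS (p := 43604) (l := 5) rfl N43604 D153813
theorem N77143 : nd 77143 = n153815 := ndS (p := 43605) (l := 0) rfl N43605 D153815
theorem N77144 : nd 77144 = n153816 := ndS (p := 43605) (l := 1) rfl N43605 D153816
theorem N77145 : nd 77145 = n153817 := ndS (p := 43605) (l := 4) rfl N43605 D153817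
theorem N77146 : nd 77146 = n153818 := ndS (p := 43605) (l := 7) rfl N43605 D153818
theorem N77147 : nd 77147 = n153822 := ndS (p := 43607) (l := 5) rfl N43607 D153822
theorem N77148 : nd 77148 = n153823 := ndS (p := 43607) (l := 6) rfl N43607 D153823
theorem N77149 : nd 77149 = n153825 := ndS (p := 43608) (l := 3) rfl N43608 D153825
theorem N77150 : nd 77150 = n153827 := ndS (p := 43608) (l := 5) rfl N43608 D153827
theorem N77151 : nd 77151 = n153829 := ndS (p := 43609) (l := 0) rfl N43609 D153829
theorem N77152 : nd 77152 = n153830 := ndS (p := 43609) (l := 1) rfl N43609 D153830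
theorem N77153 : nd 77153 = n153831 := ndS (p := 43609) (l := 4) rfl N43609 D153831
theorem N77154 : nd 77154 = n153832 := ndS (p := 43609) (l := 7) rfl N43609 D153832
theorem N77155 : nd 77155 = n153836 := ndS (p := 43611) (l := 5) rfl N43611 D153836
theorem N77156 : nd 77156 = n153840 := ndS (p := 43612) (l := 4) rfl N43612 D153840
theorem N77157 : nd 77157 = n153841 := ndS (p := 43612) (l := 6) rfl N43612 D153841
theorem N77158 : nd 77158 = n153857 := ndS (p := 43613) (l := 3) rfl N43613 D153857
theorem N77159 : nd 77159 = n153858 := ndS (p := 43613) (l := 4) rfl N43613 D153858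
theorem N77160 : nd 77160 = n153861 := ndS (p := 43614) (l := 4) rfl N43614 D153861
theorem N77161 : nd 77161 = n153862 := ndS (p := 43614) (l := 6) rfl N43614 D153862
theorem N77162 : nd 77162 = n153864 := ndS (p := 43615) (l := 1) rfl N43615 D153864
theorem N77163 : nd 77163 = n153865 := ndS (p := 43615) (l := 3) rfl N43615 D153865
theorem N77164 : nd 77164 = n153866 := ndS (p := 43616) (l := 6) rfl N43616 D153866
theorem N77165 : nd 77165 = n153867 := ndS (p := 43617) (l := 3) rfl N43617 D153867
theorem N77166 : nd 77166 = n153868 := ndS (p := 43617) (l := 5) rfl N43617 D153868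
theorem N77167 : nd 77167 = n153869 := ndS (p := 43617) (l := 6) rfl N43617 D153869
theorem N77168 : nd 77168 = n153870 := ndS (p := 43618) (l := 0) rfl N43618 D153870
theorem N77169 : nd 77169 = n153873 := ndS (p := 43619) (l := 0) rfl N43619 D153873
theorem N77170 : nd 77170 = n153875 := ndS (p := 43619) (l := 7) rfl N43619 D153875
theorem N77171 : nd 77171 = n153877 := ndS (p := 43620) (l := 0) rfl N43620 D153877
theorem N77172 : nd 77172 = n153878 := ndS (p := 43620) (l := 2) rfl N43620 D153878
theorem N77173 : nd 77173 = n153879 := ndS (p := 43620) (l := 5) rfl N43620 D153879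
theorem N77174 : nd 77174 = n153882 := ndS (p := 43621) (l := 1) rfl N43621 D153882
theorem N77175 : nd 77175 = n153884 := ndS (p := 43621) (l := 6) rfl N43621 D153884
theorem N77176 : nd 77176 = n153886 := ndS (p := 43622) (l := 5) rfl N43622 D153886
theorem N77177 : nd 77177 = n153888 := ndS (p := 43623) (l := 0) rfl N43623 D153888
theorem N77178 : nd 77178 = n153889 := ndS (p := 43623) (l := 3) rfl N43623 D153889
theorem N77179 : nd 77179 = n153890 := ndS (p := 43623) (l := 5) rfl N43623 D153890
theorem N77180 : nd 77180 = n153895 := ndS (p := 43627) (l := 1) rfl N43627 D153895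
theorem N77181 : nd 77181 = n153896 := ndS (p := 43627) (l := 2) rfl N43627 D153896
theorem N77182 : nd 77182 = n153897 := ndS (p := 43627) (l := 5) rfl N43627 D153897
theorem N77183 : nd 77183 = n153903 := ndS (p := 43629) (l := 3) rfl N43629 D153903
theorem N77184 : nd 77184 = n153904 := ndS (p := 43629) (l := 5) rfl N43629 D153904
theorem N77185 : nd 77185 = n153907 := ndS (p := 43633) (l := 6) rfl N43633 D153907
theorem N77186 : nd 77186 = n153910 := ndS (p := 43634) (l := 5) rfl N43634 D153910
theorem N77187 : nd 77187 = n153912 := ndS (p := 43635) (l := 0) rfl N43635 D153912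
theorem N77188 : nd 77188 = n153913 := ndS (p := 43635) (l := 1) rfl N43635 D153913
theorem N77189 : nd 77189 = n153914 := ndS (p := 43635) (l := 5) rfl N43635 D153914
theorem N77190 : nd 77190 = n153915 := ndS (p := 43635) (l := 7) rfl N43635 D153915
theorem N77191 : nd 77191 = n153916 := ndS (p := 43636) (l := 3) rfl N43636 D153916
theorem N77192 : nd 77192 = n153919 := ndS (p := 43637) (l := 0) rfl N43637 D153919
theorem N77193 : nd 77193 = n153920 := ndS (p := 43637) (l := 1) rfl N43637 D153920
theorem N77194 : nd 77194 = n153921 := ndS (p := 43637) (l := 4) rfl N43637 D153921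
theorem N77195 : nd 77195 = n153922 := ndS (p := 43637) (l := 7) rfl N43637 D153922
theorem N77196 : nd 77196 = n153925 := ndS (p := 43639) (l := 4) rfl N43639 D153925
theorem N77197 : nd 77197 = n153930 := ndS (p := 43645) (l := 6) rfl N43645 D153930
theorem N77198 : nd 77198 = n153938 := ndS (p := 43647) (l := 4) rfl N43647 D153938
theorem N77199 : nd 77199 = n153939 := ndS (p := 43648) (l := 4) rfl N43648 D153939
theorem N77200 : nd 77200 = n153940 := ndS (p := 43649) (l := 3) rfl N43649 D153940
theorem N77201 : nd 77201 = n153944 := ndS (p := 43650) (l := 5) rfl N43650 D153944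
theorem N77202 : nd 77202 = n153946 := ndS (p := 43651) (l := 6) rfl N43651 D153946
theorem N77203 : nd 77203 = n153952 := ndS (p := 43653) (l := 1) rfl N43653 D153952
theorem N77204 : nd 77204 = n153953 := ndS (p := 43653) (l := 5) rfl N43653 D153953
theorem N77205 : nd 77205 = n153954 := ndS (p := 43653) (l := 7) rfl N43653 D153954
theorem N77206 : nd 77206 = n153955 := ndS (p := 43654) (l := 0) rfl N43654 D153955
theorem N77207 : nd 77207 = n153956 := ndS (p := 43654) (l := 1) rfl N43654 D153956
theorem N77208 : nd 77208 = n153957 := ndS (p := 43654) (l := 5) rfl N43654 D153957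
theorem N77209 : nd 77209 = n153958 := ndS (p := 43654) (l := 7) rfl N43654 D153958
theorem N77210 : nd 77210 = n153962 := ndS (p := 43655) (l := 5) rfl N43655 D153962
theorem N77211 : nd 77211 = n153965 := ndS (p := 43656) (l := 3) rfl N43656 D153965
theorem N77212 : nd 77212 = n153967 := ndS (p := 43656) (l := 5) rfl N43656 D153967
theorem N77213 : nd 77213 = n153969 := ndS (p := 43657) (l := 0) rfl N43657 D153969
theorem N77214 : nd 77214 = n153970 := ndS (p := 43657) (l := 1) rfl N43657 D153970
theorem N77215 : nd 77215 = n153971 := ndS (p := 43657) (l := 4) rfl N43657 D153971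
theorem N77216 : nd 77216 = n153972 := ndS (p := 43657) (l := 7) rfl N43657 D153972
theorem N77217 : nd 77217 = n153973 := ndS (p := 43659) (l := 4) rfl N43659 D153973
theorem N77218 : nd 77218 = n153975 := ndS (p := 43660) (l := 0) rfl N43660 D153975
theorem N77219 : nd 77219 = n153976 := ndS (p := 43660) (l := 1) rfl N43660 D153976
theorem N77220 : nd 77220 = n153977 := ndS (p := 43660) (l := 5) rfl N43660 D153977
theorem N77221 : nd 77221 = n153984 := ndS (p := 43661) (l := 3) rfl N43661 D153984
theorem N77222 : nd 77222 = n153985 := ndS (p := 43661) (l := 4) rfl N43661 D153985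
theorem N77223 : nd 77223 = n153986 := ndS (p := 43661) (l := 5) rfl N43661 D153986
theorem N77224 : nd 77224 = n153987 := ndS (p := 43661) (l := 6) rfl N43661 D153987
theorem N77225 : nd 77225 = n153990 := ndS (p := 43662) (l := 4) rfl N43662 D153990
theorem N77226 : nd 77226 = n153992 := ndS (p := 43662) (l := 6) rfl N43662 D153992
theorem N77227 : nd 77227 = n154014 := ndS (p := 43667) (l := 3) rfl N43667 D154014
theorem N77228 : nd 77228 = n154015 := ndS (p := 43667) (l := 4) rfl N43667 D154015
theorem N77229 : nd 77229 = n154016 := ndS (p := 43667) (l := 5) rfl N43667 D154016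
theorem N77230 : nd 77230 = n154017 := ndS (p := 43667) (l := 6) rfl N43667 D154017
theorem N77231 : nd 77231 = n154019 := ndS (p := 43668) (l := 4) rfl N43668 D154019
theorem N77232 : nd 77232 = n154020 := ndS (p := 43668) (l := 6) rfl N43668 D154020
theorem N77233 : nd 77233 = n154021 := ndS (p := 43669) (l := 0) rfl N43669 D154021
theorem N77234 : nd 77234 = n154022 := ndS (p := 43669) (l := 1) rfl N43669 D154022
theorem N77235 : nd 77235 = n154023 := ndS (p := 43669) (l := 3) rfl N43669 D154023
theorem N77236 : nd 77236 = n154024 := ndS (p := 43669) (l := 5) rfl N43669 D154024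
theorem N77237 : nd 77237 = n154025 := ndS (p := 43669) (l := 7) rfl N43669 D154025
theorem N77238 : nd 77238 = n154026 := ndS (p := 43670) (l := 6) rfl N43670 D154026
theorem N77239 : nd 77239 = n154034 := ndS (p := 43671) (l := 3) rfl N43671 D154034
theorem N77240 : nd 77240 = n154035 := ndS (p := 43671) (l := 4) rfl N43671 D154035
theorem N77241 : nd 77241 = n154036 := ndS (p := 43671) (l := 6) rfl N43671 D154036
theorem N77242 : nd 77242 = n154038 := ndS (p := 43673) (l := 0) rfl N43673 D154038
theorem N77243 : nd 77243 = n154049 := ndS (p := 43675) (l := 5) rfl N43675 D154049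
theorem N77244 : nd 77244 = n154053 := ndS (p := 43677) (l := 5) rfl N43677 D154053
theorem N77245 : nd 77245 = n154054 := ndS (p := 43678) (l := 4) rfl N43678 D154054
theorem N77246 : nd 77246 = n154061 := ndS (p := 43682) (l := 6) rfl N43682 D154061
theorem N77247 : nd 77247 = n154062 := ndS (p := 43683) (l := 6) rfl N43683 D154062
theorem N77248 : nd 77248 = n154063 := ndS (p := 43684) (l := 6) rfl N43684 D154063
theorem N77249 : nd 77249 = n154064 := ndS (p := 43685) (l := 0) rfl N43685 D154064
theorem N77250 : nd 77250 = n154065 := ndS (p := 43685) (l := 1) rfl N43685 D154065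
theorem N77251 : nd 77251 = n154066 := ndS (p := 43685) (l := 5) rfl N43685 D154066
theorem N77252 : nd 77252 = n154067 := ndS (p := 43685) (l := 7) rfl N43685 D154067
theorem N77253 : nd 77253 = n154073 := ndS (p := 43686) (l := 4) rfl N43686 D154073
theorem N77254 : nd 77254 = n154075 := ndS (p := 43688) (l := 0) rfl N43688 D154075
theorem N77255 : nd 77255 = n154076 := ndS (p := 43688) (l := 1) rfl N43688 D154076
theorem N77256 : nd 77256 = n154082 := ndS (p := 43692) (l := 5) rfl N43692 D154082
theorem N77257 : nd 77257 = n154089 := ndS (p := 43696) (l := 5) rfl N43696 D154089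
theorem N77258 : nd 77258 = n154090 := ndS (p := 43696) (l := 6) rfl N43696 D154090
theorem N77259 : nd 77259 = n154101 := ndS (p := 43700) (l := 3) rfl N43700 D154101
theorem N77260 : nd 77260 = n154102 := ndS (p := 43700) (l := 4) rfl N43700 D154102
theorem N77261 : nd 77261 = n154103 := ndS (p := 43700) (l := 5) rfl N43700 D154103
theorem N77262 : nd 77262 = n154104 := ndS (p := 43700) (l := 6) rfl N43700 D154104
theorem N77263 : nd 77263 = n154105 := ndS (p := 43701) (l := 0) rfl N43701 D154105
theorem N77264 : nd 77264 = n154106 := ndS (p := 43701) (l := 1) rfl N43701 D154106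
theorem N77265 : nd 77265 = n154110 := ndS (p := 43703) (l := 5) rfl N43703 D154110
theorem N77266 : nd 77266 = n154112 := ndS (p := 43704) (l := 6) rfl N43704 D154112
theorem N77267 : nd 77267 = n154118 := ndS (p := 43707) (l := 1) rfl N43707 D154118
theorem N77268 : nd 77268 = n154119 := ndS (p := 43707) (l := 2) rfl N43707 D154119
theorem N77269 : nd 77269 = n154120 := ndS (p := 43707) (l := 5) rfl N43707 D154120
theorem N77270 : nd 77270 = n154122 := ndS (p := 43708) (l := 4) rfl N43708 D154122
theorem N77271 : nd 77271 = n154123 := ndS (p := 43708) (l := 6) rfl N43708 D154123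
theorem N77272 : nd 77272 = n154124 := ndS (p := 43709) (l := 5) rfl N43709 D154124
theorem N77273 : nd 77273 = n154126 := ndS (p := 43710) (l := 4) rfl N43710 D154126
theorem N77274 : nd 77274 = n154137 := ndS (p := 43712) (l := 6) rfl N43712 D154137
theorem N77275 : nd 77275 = n154140 := ndS (p := 43713) (l := 4) rfl N43713 D154140
theorem N77276 : nd 77276 = n154142 := ndS (p := 43714) (l := 5) rfl N43714 D154142
theorem N77277 : nd 77277 = n154146 := ndS (p := 43717) (l := 5) rfl N43717 D154146
theorem N77278 : nd 77278 = n154149 := ndS (p := 43718) (l := 6) rfl N43718 D154149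
theorem N77279 : nd 77279 = n154154 := ndS (p := 43722) (l := 1) rfl N43722 D154154
theorem N77280 : nd 77280 = n154155 := ndS (p := 43722) (l := 7) rfl N43722 D154155
theorem N77281 : nd 77281 = n154157 := ndS (p := 43724) (l := 3) rfl N43724 D154157
theorem N77282 : nd 77282 = n154158 := ndS (p := 43724) (l := 5) rfl N43724 D154158
theorem N77283 : nd 77283 = n154159 := ndS (p := 43724) (l := 6) rfl N43724 D154159
theorem N77284 : nd 77284 = n154165 := ndS (p := 43726) (l := 0) rfl N43726 D154165
theorem N77285 : nd 77285 = n154173 := ndS (p := 43729) (l := 5) rfl N43729 D154173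
theorem N77286 : nd 77286 = n154181 := ndS (p := 43731) (l := 6) rfl N43731 D154181
theorem N77287 : nd 77287 = n154188 := ndS (p := 43732) (l := 6) rfl N43732 D154188
theorem N77288 : nd 77288 = n154189 := ndS (p := 43733) (l := 6) rfl N43733 D154189
theorem N77289 : nd 77289 = n154190 := ndS (p := 43734) (l := 0) rfl N43734 D154190
theorem N77290 : nd 77290 = n154191 := ndS (p := 43734) (l := 1) rfl N43734 D154191
theorem N77291 : nd 77291 = n154193 := ndS (p := 43734) (l := 7) rfl N43734 D154193
theorem N77292 : nd 77292 = n154210 := ndS (p := 43736) (l := 6) rfl N43736 D154210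
theorem N77293 : nd 77293 = n154213 := ndS (p := 43737) (l := 5) rfl N43737 D154213
theorem N77294 : nd 77294 = n154214 := ndS (p := 43737) (l := 7) rfl N43737 D154214
theorem N77295 : nd 77295 = n154216 := ndS (p := 43738) (l := 3) rfl N43738 D154216
theorem N77296 : nd 77296 = n154219 := ndS (p := 43738) (l := 6) rfl N43738 D154219
theorem N77297 : nd 77297 = n154224 := ndS (p := 43739) (l := 6) rfl N43739 D154224
theorem N77298 : nd 77298 = n154229 := ndS (p := 43741) (l := 3) rfl N43741 D154229
theorem N77299 : nd 77299 = n154230 := ndS (p := 43741) (l := 6) rfl N43741 D154230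
theorem N77300 : nd 77300 = n154231 := ndS (p := 43742) (l := 6) rfl N43742 D154231
theorem N77301 : nd 77301 = n154232 := ndS (p := 43743) (l := 0) rfl N43743 D154232
theorem N77302 : nd 77302 = n154233 := ndS (p := 43743) (l := 1) rfl N43743 D154233
theorem N77303 : nd 77303 = n154234 := ndS (p := 43743) (l := 3) rfl N43743 D154234
theorem N77304 : nd 77304 = n154235 := ndS (p := 43743) (l := 5) rfl N43743 D154235
theorem N77305 : nd 77305 = n154236 := ndS (p := 43743) (l := 7) rfl N43743 D154236
theorem N77306 : nd 77306 = n154237 := ndS (p := 43744) (l := 6) rfl N43744 D154237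
theorem N77307 : nd 77307 = n154238 := ndS (p := 43745) (l := 6) rfl N43745 D154238
theorem N77308 : nd 77308 = n154241 := ndS (p := 43746) (l := 5) rfl N43746 D154241
theorem N77309 : nd 77309 = n154245 := ndS (p := 43747) (l := 5) rfl N43747 D154245
theorem N77310 : nd 77310 = n154254 := ndS (p := 43750) (l := 0) rfl N43750 D154254
theorem N77311 : nd 77311 = n154255 := ndS (p := 43750) (l := 1) rfl N43750 D154255
theorem N77312 : nd 77312 = n154256 := ndS (p := 43750) (l := 5) rfl N43750 D154256
theorem N77313 : nd 77313 = n154257 := ndS (p := 43750) (l := 7) rfl N43750 D154257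
theorem N77314 : nd 77314 = n154259 := ndS (p := 43751) (l := 3) rfl N43751 D154259
theorem N77315 : nd 77315 = n154261 := ndS (p := 43751) (l := 5) rfl N43751 D154261
theorem N77316 : nd 77316 = n154262 := ndS (p := 43751) (l := 6) rfl N43751 D154262
theorem N77317 : nd 77317 = n154266 := ndS (p := 43752) (l := 5) rfl N43752 D154266
theorem N77318 : nd 77318 = n154268 := ndS (p := 43753) (l := 0) rfl N43753 D154268
theorem N77319 : nd 77319 = n154270 := ndS (p := 43753) (l := 4) rfl N43753 D154270
theorem N77320 : nd 77320 = n154271 := ndS (p := 43753) (l := 7) rfl N43753 D154271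
theorem N77321 : nd 77321 = n154278 := ndS (p := 43756) (l := 3) rfl N43756 D154278
theorem N77322 : nd 77322 = n154281 := ndS (p := 43756) (l := 6) rfl N43756 D154281
theorem N77323 : nd 77323 = n154283 := ndS (p := 43757) (l := 1) rfl N43757 D154283
theorem N77324 : nd 77324 = n154284 := ndS (p := 43757) (l := 4) rfl N43757 D154284
theorem N77325 : nd 77325 = n154285 := ndS (p := 43757) (l := 7) rfl N43757 D154285
theorem N77326 : nd 77326 = n154289 := ndS (p := 43760) (l := 0) rfl N43760 D154289
theorem N77327 : nd 77327 = n154293 := ndS (p := 43760) (l := 7) rfl N43760 D154293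
theorem N77328 : nd 77328 = n154294 := ndS (p := 43761) (l := 6) rfl N43761 D154294
theorem N77329 : nd 77329 = n154318 := ndS (p := 43762) (l := 5) rfl N43762 D154318
theorem N77330 : nd 77330 = n154321 := ndS (p := 43763) (l := 3) rfl N43763 D154321
theorem N77331 : nd 77331 = n154323 := ndS (p := 43763) (l := 5) rfl N43763 D154323
theorem N77332 : nd 77332 = n154324 := ndS (p := 43763) (l := 6) rfl N43763 D154324
theorem N77333 : nd 77333 = n154325 := ndS (p := 43764) (l := 0) rfl N43764 D154325
theorem N77334 : nd 77334 = n154326 := ndS (p := 43764) (l := 1) rfl N43764 D154326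
theorem N77335 : nd 77335 = n154327 := ndS (p := 43764) (l := 4) rfl N43764 D154327
theorem N77336 : nd 77336 = n154328 := ndS (p := 43764) (l := 7) rfl N43764 D154328
theorem N77337 : nd 77337 = n154329 := ndS (p := 43766) (l := 4) rfl N43766 D154329
theorem N77338 : nd 77338 = n154341 := ndS (p := 43770) (l := 5) rfl N43770 D154341
theorem N77339 : nd 77339 = n154347 := ndS (p := 43771) (l := 6) rfl N43771 D154347
theorem N77340 : nd 77340 = n154348 := ndS (p := 43772) (l := 0) rfl N43772 D154348
theorem N77341 : nd 77341 = n154349 := ndS (p := 43772) (l := 1) rfl N43772 D154349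
theorem N77342 : nd 77342 = n154350 := ndS (p := 43772) (l := 4) rfl N43772 D154350
theorem N77343 : nd 77343 = n154351 := ndS (p := 43772) (l := 7) rfl N43772 D154351
theorem N77344 : nd 77344 = n154358 := ndS (p := 43774) (l := 0) rfl N43774 D154358
theorem N77345 : nd 77345 = n154360 := ndS (p := 43774) (l := 2) rfl N43774 D154360
theorem N77346 : nd 77346 = n154361 := ndS (p := 43774) (l := 4) rfl N43774 D154361
theorem N77347 : nd 77347 = n154363 := ndS (p := 43774) (l := 6) rfl N43774 D154363
theorem N77348 : nd 77348 = n154367 := ndS (p := 43775) (l := 3) rfl N43775 D154367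
theorem N77349 : nd 77349 = n154369 := ndS (p := 43775) (l := 6) rfl N43775 D154369
theorem N77350 : nd 77350 = n154371 := ndS (p := 43776) (l := 0) rfl N43776 D154371
theorem N77351 : nd 77351 = n154373 := ndS (p := 43776) (l := 4) rfl N43776 D154373
theorem N77352 : nd 77352 = n154374 := ndS (p := 43776) (l := 6) rfl N43776 D154374
theorem N77353 : nd 77353 = n154377 := ndS (p := 43777) (l := 1) rfl N43777 D154377
theorem N77354 : nd 77354 = n154378 := ndS (p := 43777) (l := 5) rfl N43777 D154378
theorem N77355 : nd 77355 = n154379 := ndS (p := 43777) (l := 7) rfl N43777 D154379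
theorem N77356 : nd 77356 = n154382 := ndS (p := 43778) (l := 1) rfl N43778 D154382
theorem N77357 : nd 77357 = n154385 := ndS (p := 43778) (l := 5) rfl N43778 D154385
theorem N77358 : nd 77358 = n154386 := ndS (p := 43778) (l := 6) rfl N43778 D154386
theorem N77359 : nd 77359 = n154390 := ndS (p := 43779) (l := 4) rfl N43779 D154390
theorem N77360 : nd 77360 = n154391 := ndS (p := 43779) (l := 6) rfl N43779 D154391
theorem N77361 : nd 77361 = n154397 := ndS (p := 43781) (l := 3) rfl N43781 D154397
theorem N77362 : nd 77362 = n154398 := ndS (p := 43781) (l := 4) rfl N43781 D154398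
theorem N77363 : nd 77363 = n154399 := ndS (p := 43781) (l := 5) rfl N43781 D154399
theorem N77364 : nd 77364 = n154402 := ndS (p := 43782) (l := 3) rfl N43782 D154402
theorem N77365 : nd 77365 = n154403 := ndS (p := 43782) (l := 4) rfl N43782 D154403
theorem N77366 : nd 77366 = n154404 := ndS (p := 43782) (l := 5) rfl N43782 D154404
theorem N77367 : nd 77367 = n154405 := ndS (p := 43782) (l := 6) rfl N43782 D154405
theorem N77368 : nd 77368 = n154407 := ndS (p := 43783) (l := 1) rfl N43783 D154407
theorem N77369 : nd 77369 = n154408 := ndS (p := 43783) (l := 3) rfl N43783 D154408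
theorem N77370 : nd 77370 = n154409 := ndS (p := 43783) (l := 5) rfl N43783 D154409
theorem N77371 : nd 77371 = n154410 := ndS (p := 43783) (l := 7) rfl N43783 D154410
theorem N77372 : nd 77372 = n154411 := ndS (p := 43784) (l := 6) rfl N43784 D154411
theorem N77373 : nd 77373 = n154434 := ndS (p := 43786) (l := 5) rfl N43786 D154434
theorem N77374 : nd 77374 = n154436 := ndS (p := 43787) (l := 0) rfl N43787 D154436
theorem N77375 : nd 77375 = n154437 := ndS (p := 43787) (l := 6) rfl N43787 D154437
theorem N77376 : nd 77376 = n154438 := ndS (p := 43788) (l := 3) rfl N43788 D154438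
theorem N77377 : nd 77377 = n154442 := ndS (p := 43789) (l := 5) rfl N43789 D154442
theorem N77378 : nd 77378 = n154443 := ndS (p := 43789) (l := 6) rfl N43789 D154443
theorem N77379 : nd 77379 = n154444 := ndS (p := 43790) (l := 0) rfl N43790 D154444
theorem N77380 : nd 77380 = n154445 := ndS (p := 43790) (l := 1) rfl N43790 D154445
theorem N77381 : nd 77381 = n154447 := ndS (p := 43790) (l := 6) rfl N43790 D154447
theorem N77382 : nd 77382 = n154448 := ndS (p := 43791) (l := 0) rfl N43791 D154448
theorem N77383 : nd 77383 = n154449 := ndS (p := 43791) (l := 1) rfl N43791 D154449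
theorem N77384 : nd 77384 = n154462 := ndS (p := 43792) (l := 5) rfl N43792 D154462
theorem N77385 : nd 77385 = n154471 := ndS (p := 43794) (l := 0) rfl N43794 D154471
theorem N77386 : nd 77386 = n154472 := ndS (p := 43794) (l := 1) rfl N43794 D154472
theorem N77387 : nd 77387 = n154473 := ndS (p := 43794) (l := 4) rfl N43794 D154473
theorem N77388 : nd 77388 = n154482 := ndS (p := 43796) (l := 3) rfl N43796 D154482
theorem N77389 : nd 77389 = n154494 := ndS (p := 43797) (l := 4) rfl N43797 D154494
theorem N77390 : nd 77390 = n154496 := ndS (p := 43797) (l := 6) rfl N43797 D154496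
theorem N77391 : nd 77391 = n154497 := ndS (p := 43798) (l := 0) rfl N43798 D154497
theorem N77392 : nd 77392 = n154498 := ndS (p := 43798) (l := 1) rfl N43798 D154498
theorem N77393 : nd 77393 = n154499 := ndS (p := 43798) (l := 3) rfl N43798 D154499
theorem N77394 : nd 77394 = n154500 := ndS (p := 43798) (l := 6) rfl N43798 D154500
theorem N77395 : nd 77395 = n154503 := ndS (p := 43800) (l := 5) rfl N43800 D154503
theorem N77396 : nd 77396 = n154508 := ndS (p := 43801) (l := 4) rfl N43801 D154508
theorem N77397 : nd 77397 = n154510 := ndS (p := 43801) (l := 6) rfl N43801 D154510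
theorem N77398 : nd 77398 = n154511 := ndS (p := 43802) (l := 3) rfl N43802 D154511
theorem N77399 : nd 77399 = n154512 := ndS (p := 43802) (l := 6) rfl N43802 D154512
theorem N77400 : nd 77400 = n154515 := ndS (p := 43804) (l := 5) rfl N43804 D154515
theorem N77401 : nd 77401 = n154516 := ndS (p := 43804) (l := 7) rfl N43804 D154516
theorem N77402 : nd 77402 = n154518 := ndS (p := 43805) (l := 3) rfl N43805 D154518
theorem N77403 : nd 77403 = n154521 := ndS (p := 43806) (l := 3) rfl N43806 D154521
theorem N77404 : nd 77404 = n154523 := ndS (p := 43807) (l := 0) rfl N43807 D154523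
theorem N77405 : nd 77405 = n154524 := ndS (p := 43807) (l := 1) rfl N43807 D154524
theorem N77406 : nd 77406 = n154525 := ndS (p := 43807) (l := 2) rfl N43807 D154525
theorem N77407 : nd 77407 = n154526 := ndS (p := 43807) (l := 5) rfl N43807 D154526
theorem N77408 : nd 77408 = n154527 := ndS (p := 43807) (l := 7) rfl N43807 D154527
theorem N77409 : nd 77409 = n154528 := ndS (p := 43808) (l := 6) rfl N43808 D154528
theorem N77410 : nd 77410 = n154529 := ndS (p := 43809) (l := 6) rfl N43809 D154529
theorem N77411 : nd 77411 = n154530 := ndS (p := 43810) (l := 0) rfl N43810 D154530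
theorem N77412 : nd 77412 = n154536 := ndS (p := 43811) (l := 2) rfl N43811 D154536
theorem N77413 : nd 77413 = n154537 := ndS (p := 43811) (l := 5) rfl N43811 D154537
theorem N77414 : nd 77414 = n154539 := ndS (p := 43812) (l := 1) rfl N43812 D154539
theorem N77415 : nd 77415 = n154540 := ndS (p := 43812) (l := 4) rfl N43812 D154540
theorem N77416 : nd 77416 = n154541 := ndS (p := 43812) (l := 6) rfl N43812 D154541
theorem N77417 : nd 77417 = n154544 := ndS (p := 43814) (l := 6) rfl N43814 D154544
theorem N77418 : nd 77418 = n154557 := ndS (p := 43818) (l := 5) rfl N43818 D154557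
theorem N77419 : nd 77419 = n154558 := ndS (p := 43819) (l := 4) rfl N43819 D154558
theorem N77420 : nd 77420 = n154559 := ndS (p := 43819) (l := 6) rfl N43819 D154559
theorem N77421 : nd 77421 = n154562 := ndS (p := 43820) (l := 5) rfl N43820 D154562
theorem N77422 : nd 77422 = n154569 := ndS (p := 43821) (l := 5) rfl N43821 D154569
theorem N77423 : nd 77423 = n154570 := ndS (p := 43821) (l := 6) rfl N43821 D154570
theorem N77424 : nd 77424 = n154571 := ndS (p := 43822) (l := 0) rfl N43822 D154571
theorem N77425 : nd 77425 = n154572 := ndS (p := 43822) (l := 1) rfl N43822 D154572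
theorem N77426 : nd 77426 = n154573 := ndS (p := 43822) (l := 4) rfl N43822 D154573
theorem N77427 : nd 77427 = n154574 := ndS (p := 43822) (l := 6) rfl N43822 D154574
theorem N77428 : nd 77428 = n154577 := ndS (p := 43823) (l := 5) rfl N43823 D154577
theorem N77429 : nd 77429 = n154579 := ndS (p := 43824) (l := 3) rfl N43824 D154579
theorem N77430 : nd 77430 = n154584 := ndS (p := 43825) (l := 5) rfl N43825 D154584
theorem N77431 : nd 77431 = n154585 := ndS (p := 43825) (l := 6) rfl N43825 D154585
theorem N77432 : nd 77432 = n154586 := ndS (p := 43826) (l := 3) rfl N43826 D154586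
theorem N77433 : nd 77433 = n154587 := ndS (p := 43826) (l := 6) rfl N43826 D154587
theorem N77434 : nd 77434 = n154588 := ndS (p := 43827) (l := 0) rfl N43827 D154588
theorem N77435 : nd 77435 = n154589 := ndS (p := 43827) (l := 1) rfl N43827 D154589
theorem N77436 : nd 77436 = n154590 := ndS (p := 43827) (l := 5) rfl N43827 D154590
theorem N77437 : nd 77437 = n154595 := ndS (p := 43829) (l := 1) rfl N43829 D154595
theorem N77438 : nd 77438 = n154596 := ndS (p := 43829) (l := 4) rfl N43829 D154596
theorem N77439 : nd 77439 = n154598 := ndS (p := 43830) (l := 3) rfl N43830 D154598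
theorem N77440 : nd 77440 = n154599 := ndS (p := 43830) (l := 5) rfl N43830 D154599
theorem N77441 : nd 77441 = n154601 := ndS (p := 43832) (l := 3) rfl N43832 D154601
theorem N77442 : nd 77442 = n154602 := ndS (p := 43832) (l := 5) rfl N43832 D154602
theorem N77443 : nd 77443 = n154604 := ndS (p := 43834) (l := 5) rfl N43834 D154604
theorem N77444 : nd 77444 = n154605 := ndS (p := 43834) (l := 6) rfl N43834 D154605
theorem N77445 : nd 77445 = n154608 := ndS (p := 43835) (l := 5) rfl N43835 D154608
theorem N77446 : nd 77446 = n154610 := ndS (p := 43836) (l := 1) rfl N43836 D154610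
theorem N77447 : nd 77447 = n154611 := ndS (p := 43836) (l := 2) rfl N43836 D154611
theorem N77448 : nd 77448 = n154612 := ndS (p := 43836) (l := 5) rfl N43836 D154612
theorem N77449 : nd 77449 = n154614 := ndS (p := 43837) (l := 6) rfl N43837 D154614
theorem N77450 : nd 77450 = n154619 := ndS (p := 43839) (l := 4) rfl N43839 D154619
theorem N77451 : nd 77451 = n154620 := ndS (p := 43841) (l := 5) rfl N43841 D154620
theorem N77452 : nd 77452 = n154627 := ndS (p := 43845) (l := 1) rfl N43845 D154627
theorem N77453 : nd 77453 = n154628 := ndS (p := 43845) (l := 2) rfl N43845 D154628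
theorem N77454 : nd 77454 = n154629 := ndS (p := 43845) (l := 5) rfl N43845 D154629
theorem N77455 : nd 77455 = n154631 := ndS (p := 43846) (l := 0) rfl N43846 D154631
theorem N77456 : nd 77456 = n154632 := ndS (p := 43846) (l := 1) rfl N43846 D154632
theorem N77457 : nd 77457 = n154639 := ndS (p := 43848) (l := 5) rfl N43848 D154639
theorem N77458 : nd 77458 = n154650 := ndS (p := 43853) (l := 5) rfl N43853 D154650
theorem N77459 : nd 77459 = n154653 := ndS (p := 43855) (l := 0) rfl N43855 D154653
theorem N77460 : nd 77460 = n154654 := ndS (p := 43855) (l := 1) rfl N43855 D154654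
theorem N77461 : nd 77461 = n154660 := ndS (p := 43856) (l := 3) rfl N43856 D154660
theorem N77462 : nd 77462 = n154671 := ndS (p := 43857) (l := 1) rfl N43857 D154671
theorem N77463 : nd 77463 = n154672 := ndS (p := 43857) (l := 2) rfl N43857 D154672
theorem N77464 : nd 77464 = n154683 := ndS (p := 43860) (l := 5) rfl N43860 D154683
theorem N77465 : nd 77465 = n154685 := ndS (p := 43861) (l := 0) rfl N43861 D154685
theorem N77466 : nd 77466 = n154686 := ndS (p := 43861) (l := 1) rfl N43861 D154686
theorem N77467 : nd 77467 = n154687 := ndS (p := 43861) (l := 2) rfl N43861 D154687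
theorem N77468 : nd 77468 = n154688 := ndS (p := 43861) (l := 6) rfl N43861 D154688
theorem N77469 : nd 77469 = n154689 := ndS (p := 43862) (l := 1) rfl N43862 D154689
theorem N77470 : nd 77470 = n154690 := ndS (p := 43863) (l := 0) rfl N43863 D154690
theorem N77471 : nd 77471 = n154691 := ndS (p := 43863) (l := 1) rfl N43863 D154691
theorem N77472 : nd 77472 = n154692 := ndS (p := 43863) (l := 5) rfl N43863 D154692
theorem N77473 : nd 77473 = n154693 := ndS (p := 43863) (l := 7) rfl N43863 D154693
theorem N77474 : nd 77474 = n154695 := ndS (p := 43864) (l := 4) rfl N43864 D154695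
theorem N77475 : nd 77475 = n154696 := ndS (p := 43864) (l := 5) rfl N43864 D154696
theorem N77476 : nd 77476 = n154698 := ndS (p := 43865) (l := 4) rfl N43865 D154698
theorem N77477 : nd 77477 = n154699 := ndS (p := 43867) (l := 0) rfl N43867 D154699
theorem N77478 : nd 77478 = n154700 := ndS (p := 43867) (l := 1) rfl N43867 D154700
theorem N77479 : nd 77479 = n154701 := ndS (p := 43867) (l := 2) rfl N43867 D154701
theorem N77480 : nd 77480 = n154702 := ndS (p := 43867) (l := 5) rfl N43867 D154702
theorem N77481 : nd 77481 = n154703 := ndS (p := 43867) (l := 6) rfl N43867 D154703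
theorem N77482 : nd 77482 = n154704 := ndS (p := 43868) (l := 6) rfl N43868 D154704
theorem N77483 : nd 77483 = n154705 := ndS (p := 43869) (l := 0) rfl N43869 D154705
theorem N77484 : nd 77484 = n154706 := ndS (p := 43869) (l := 5) rfl N43869 D154706
theorem N77485 : nd 77485 = n154707 := ndS (p := 43869) (l := 7) rfl N43869 D154707
theorem N77486 : nd 77486 = n154710 := ndS (p := 43873) (l := 1) rfl N43873 D154710
theorem N77487 : nd 77487 = n154711 := ndS (p := 43873) (l := 2) rfl N43873 D154711
theorem N77488 : nd 77488 = n154712 := ndS (p := 43873) (l := 5) rfl N43873 D154712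
theorem N77489 : nd 77489 = n154713 := ndS (p := 43873) (l := 6) rfl N43873 D154713
theorem N77490 : nd 77490 = n154714 := ndS (p := 43874) (l := 6) rfl N43874 D154714
theorem N77491 : nd 77491 = n154715 := ndS (p := 43875) (l := 0) rfl N43875 D154715
theorem N77492 : nd 77492 = n154716 := ndS (p := 43875) (l := 1) rfl N43875 D154716
theorem N77493 : nd 77493 = n154717 := ndS (p := 43875) (l := 5) rfl N43875 D154717
theorem N77494 : nd 77494 = n154719 := ndS (p := 43876) (l := 4) rfl N43876 D154719
theorem N77495 : nd 77495 = n154720 := ndS (p := 43877) (l := 4) rfl N43877 D154720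
theorem N77496 : nd 77496 = n154723 := ndS (p := 43878) (l := 3) rfl N43878 D154723
theorem N77497 : nd 77497 = n154724 := ndS (p := 43878) (l := 5) rfl N43878 D154724
theorem N77498 : nd 77498 = n154725 := ndS (p := 43878) (l := 6) rfl N43878 D154725
theorem N77499 : nd 77499 = n154728 := ndS (p := 43880) (l := 0) rfl N43880 D154728
theorem N77500 : nd 77500 = n154729 := ndS (p := 43880) (l := 1) rfl N43880 D154729
theorem N77501 : nd 77501 = n154730 := ndS (p := 43880) (l := 2) rfl N43880 D154730
theorem N77502 : nd 77502 = n154731 := ndS (p := 43880) (l := 5) rfl N43880 D154731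
theorem N77503 : nd 77503 = n154732 := ndS (p := 43880) (l := 6) rfl N43880 D154732
theorem N77504 : nd 77504 = n154733 := ndS (p := 43881) (l := 6) rfl N43881 D154733
theorem N77505 : nd 77505 = n154734 := ndS (p := 43882) (l := 0) rfl N43882 D154734
theorem N77506 : nd 77506 = n154736 := ndS (p := 43882) (l := 5) rfl N43882 D154736
theorem N77507 : nd 77507 = n154737 := ndS (p := 43882) (l := 7) rfl N43882 D154737
theorem N77508 : nd 77508 = n154738 := ndS (p := 43883) (l := 4) rfl N43883 D154738
theorem N77509 : nd 77509 = n154739 := ndS (p := 43883) (l := 5) rfl N43883 D154739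
theorem N77510 : nd 77510 = n154741 := ndS (p := 43886) (l := 0) rfl N43886 D154741
theorem N77511 : nd 77511 = n154742 := ndS (p := 43886) (l := 1) rfl N43886 D154742
theorem N77512 : nd 77512 = n154743 := ndS (p := 43886) (l := 2) rfl N43886 D154743
theorem N77513 : nd 77513 = n154744 := ndS (p := 43886) (l := 5) rfl N43886 D154744
theorem N77514 : nd 77514 = n154745 := ndS (p := 43886) (l := 6) rfl N43886 D154745
theorem N77515 : nd 77515 = n154751 := ndS (p := 43889) (l := 0) rfl N43889 D154751
theorem N77516 : nd 77516 = n154752 := ndS (p := 43889) (l := 1) rfl N43889 D154752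
theorem N77517 : nd 77517 = n154753 := ndS (p := 43889) (l := 2) rfl N43889 D154753
theorem N77518 : nd 77518 = n154754 := ndS (p := 43889) (l := 4) rfl N43889 D154754
theorem N77519 : nd 77519 = n154755 := ndS (p := 43889) (l := 5) rfl N43889 D154755
theorem N77520 : nd 77520 = n154757 := ndS (p := 43890) (l := 6) rfl N43890 D154757
theorem N77521 : nd 77521 = n154760 := ndS (p := 43891) (l := 5) rfl N43891 D154760
theorem N77522 : nd 77522 = n154763 := ndS (p := 43892) (l := 4) rfl N43892 D154763
theorem N77523 : nd 77523 = n154764 := ndS (p := 43892) (l := 5) rfl N43892 D154764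
theorem N77524 : nd 77524 = n154765 := ndS (p := 43892) (l := 6) rfl N43892 D154765
theorem N77525 : nd 77525 = n154767 := ndS (p := 43893) (l := 3) rfl N43893 D154767
theorem N77526 : nd 77526 = n154768 := ndS (p := 43893) (l := 4) rfl N43893 D154768
theorem N77527 : nd 77527 = n154769 := ndS (p := 43893) (l := 5) rfl N43893 D154769
theorem N77528 : nd 77528 = n154770 := ndS (p := 43893) (l := 6) rfl N43893 D154770
theorem N77529 : nd 77529 = n154771 := ndS (p := 43894) (l := 5) rfl N43894 D154771
theorem N77530 : nd 77530 = n154772 := ndS (p := 43895) (l := 0) rfl N43895 D154772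
theorem N77531 : nd 77531 = n154773 := ndS (p := 43895) (l := 1) rfl N43895 D154773
theorem N77532 : nd 77532 = n154774 := ndS (p := 43895) (l := 4) rfl N43895 D154774
theorem N77533 : nd 77533 = n154775 := ndS (p := 43895) (l := 6) rfl N43895 D154775
theorem N77534 : nd 77534 = n154776 := ndS (p := 43896) (l := 3) rfl N43896 D154776
theorem N77535 : nd 77535 = n154777 := ndS (p := 43896) (l := 6) rfl N43896 D154777
theorem N77536 : nd 77536 = n154778 := ndS (p := 43897) (l := 3) rfl N43897 D154778
theorem N77537 : nd 77537 = n154779 := ndS (p := 43897) (l := 6) rfl N43897 D154779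
theorem N77538 : nd 77538 = n154780 := ndS (p := 43898) (l := 0) rfl N43898 D154780
theorem N77539 : nd 77539 = n154781 := ndS (p := 43898) (l := 1) rfl N43898 D154781
theorem N77540 : nd 77540 = n154782 := ndS (p := 43898) (l := 7) rfl N43898 D154782
theorem N77541 : nd 77541 = n154801 := ndS (p := 43901) (l := 1) rfl N43901 D154801
theorem N77542 : nd 77542 = n154802 := ndS (p := 43901) (l := 4) rfl N43901 D154802
theorem N77543 : nd 77543 = n154809 := ndS (p := 43904) (l := 0) rfl N43904 D154809
theorem N77544 : nd 77544 = n154810 := ndS (p := 43904) (l := 1) rfl N43904 D154810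
theorem N77545 : nd 77545 = n154811 := ndS (p := 43904) (l := 5) rfl N43904 D154811
theorem N77546 : nd 77546 = n154817 := ndS (p := 43905) (l := 1) rfl N43905 D154817
theorem N77547 : nd 77547 = n154821 := ndS (p := 43906) (l := 4) rfl N43906 D154821
theorem N77548 : nd 77548 = n154836 := ndS (p := 43911) (l := 5) rfl N43911 D154836
theorem N77549 : nd 77549 = n154885 := ndS (p := 43914) (l := 1) rfl N43914 D154885
theorem N77550 : nd 77550 = n154886 := ndS (p := 43914) (l := 4) rfl N43914 D154886
theorem N77551 : nd 77551 = n154887 := ndS (p := 43914) (l := 6) rfl N43914 D154887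
theorem N77552 : nd 77552 = n154901 := ndS (p := 43917) (l := 4) rfl N43917 D154901
theorem N77553 : nd 77553 = n154902 := ndS (p := 43917) (l := 6) rfl N43917 D154902
theorem N77554 : nd 77554 = n154903 := ndS (p := 43918) (l := 4) rfl N43918 D154903
theorem N77555 : nd 77555 = n154908 := ndS (p := 43919) (l := 6) rfl N43919 D154908
theorem N77556 : nd 77556 = n154930 := ndS (p := 43923) (l := 5) rfl N43923 D154930
theorem N77557 : nd 77557 = n154931 := ndS (p := 43924) (l := 4) rfl N43924 D154931
theorem N77558 : nd 77558 = n154932 := ndS (p := 43925) (l := 5) rfl N43925 D154932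
theorem N77559 : nd 77559 = n154938 := ndS (p := 43927) (l := 4) rfl N43927 D154938
theorem N77560 : nd 77560 = n154952 := ndS (p := 43928) (l := 4) rfl N43928 D154952
theorem N77561 : nd 77561 = n154953 := ndS (p := 43928) (l := 5) rfl N43928 D154953
theorem N77562 : nd 77562 = n154954 := ndS (p := 43928) (l := 6) rfl N43928 D154954
theorem N77563 : nd 77563 = n154955 := ndS (p := 43929) (l := 3) rfl N43929 D154955
theorem N77564 : nd 77564 = n154956 := ndS (p := 43929) (l := 5) rfl N43929 D154956
theorem N77565 : nd 77565 = n154963 := ndS (p := 43930) (l := 0) rfl N43930 D154963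
theorem N77566 : nd 77566 = n154967 := ndS (p := 43930) (l := 7) rfl N43930 D154967
theorem N77567 : nd 77567 = n154968 := ndS (p := 43931) (l := 6) rfl N43931 D154968
theorem N77568 : nd 77568 = n154969 := ndS (p := 43933) (l := 0) rfl N43933 D154969
theorem N77569 : nd 77569 = n154970 := ndS (p := 43933) (l := 1) rfl N43933 D154970
theorem N77570 : nd 77570 = n154971 := ndS (p := 43933) (l := 4) rfl N43933 D154971
theorem N77571 : nd 77571 = n154972 := ndS (p := 43933) (l := 6) rfl N43933 D154972
theorem N77572 : nd 77572 = n154977 := ndS (p := 43934) (l := 4) rfl N43934 D154977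
theorem N77573 : nd 77573 = n154980 := ndS (p := 43935) (l := 0) rfl N43935 D154980
theorem N77574 : nd 77574 = n154981 := ndS (p := 43935) (l := 1) rfl N43935 D154981
theorem N77575 : nd 77575 = n154987 := ndS (p := 43936) (l := 4) rfl N43936 D154987
theorem N77576 : nd 77576 = n155004 := ndS (p := 43941) (l := 3) rfl N43941 D155004
theorem N77577 : nd 77577 = n155005 := ndS (p := 43942) (l := 0) rfl N43942 D155005
theorem N77578 : nd 77578 = n155007 := ndS (p := 43943) (l := 4) rfl N43943 D155007
theorem N77579 : nd 77579 = n155057 := ndS (p := 43945) (l := 5) rfl N43945 D155057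
theorem N77580 : nd 77580 = n155065 := ndS (p := 43947) (l := 3) rfl N43947 D155065
theorem N77581 : nd 77581 = n155066 := ndS (p := 43947) (l := 4) rfl N43947 D155066
theorem N77582 : nd 77582 = n155070 := ndS (p := 43948) (l := 1) rfl N43948 D155070
theorem N77583 : nd 77583 = n155072 := ndS (p := 43948) (l := 7) rfl N43948 D155072
theorem N77584 : nd 77584 = n155075 := ndS (p := 43950) (l := 4) rfl N43950 D155075
theorem N77585 : nd 77585 = n155077 := ndS (p := 43952) (l := 6) rfl N43952 D155077
theorem N77586 : nd 77586 = n155078 := ndS (p := 43953) (l := 6) rfl N43953 D155078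
theorem N77587 : nd 77587 = n155079 := ndS (p := 43954) (l := 0) rfl N43954 D155079
theorem N77588 : nd 77588 = n155084 := ndS (p := 43955) (l := 0) rfl N43955 D155084
theorem N77589 : nd 77589 = n155085 := ndS (p := 43955) (l := 1) rfl N43955 D155085
theorem N77590 : nd 77590 = n155086 := ndS (p := 43955) (l := 4) rfl N43955 D155086
theorem N77591 : nd 77591 = n155088 := ndS (p := 43957) (l := 0) rfl N43957 D155088
theorem N77592 : nd 77592 = n155090 := ndS (p := 43957) (l := 5) rfl N43957 D155090
theorem N77593 : nd 77593 = n155091 := ndS (p := 43957) (l := 7) rfl N43957 D155091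
theorem N77594 : nd 77594 = n155092 := ndS (p := 43958) (l := 6) rfl N43958 D155092
theorem N77595 : nd 77595 = n155093 := ndS (p := 43959) (l := 6) rfl N43959 D155093
theorem N77596 : nd 77596 = n155096 := ndS (p := 43960) (l := 5) rfl N43960 D155096
theorem N77597 : nd 77597 = n155099 := ndS (p := 43961) (l := 3) rfl N43961 D155099
theorem N77598 : nd 77598 = n155112 := ndS (p := 43964) (l := 0) rfl N43964 D155112
theorem N77599 : nd 77599 = n155116 := ndS (p := 43964) (l := 6) rfl N43964 D155116
theorem N77600 : nd 77600 = n155117 := ndS (p := 43965) (l := 0) rfl N43965 D155117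
theorem N77601 : nd 77601 = n155118 := ndS (p := 43965) (l := 5) rfl N43965 D155118
theorem N77602 : nd 77602 = n155119 := ndS (p := 43965) (l := 6) rfl N43965 D155119
theorem N77603 : nd 77603 = n155129 := ndS (p := 43967) (l := 6) rfl N43967 D155129
theorem N77604 : nd 77604 = n155132 := ndS (p := 43968) (l := 5) rfl N43968 D155132
theorem N77605 : nd 77605 = n155134 := ndS (p := 43969) (l := 3) rfl N43969 D155134
theorem N77606 : nd 77606 = n155136 := ndS (p := 43969) (l := 5) rfl N43969 D155136
theorem N77607 : nd 77607 = n155138 := ndS (p := 43970) (l := 3) rfl N43970 D155138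
theorem N77608 : nd 77608 = n155140 := ndS (p := 43970) (l := 6) rfl N43970 D155140
theorem N77609 : nd 77609 = n155147 := ndS (p := 43972) (l := 3) rfl N43972 D155147
theorem N77610 : nd 77610 = n155148 := ndS (p := 43972) (l := 5) rfl N43972 D155148
theorem N77611 : nd 77611 = n155153 := ndS (p := 43973) (l := 6) rfl N43973 D155153
theorem N77612 : nd 77612 = n155158 := ndS (p := 43974) (l := 1) rfl N43974 D155158
theorem N77613 : nd 77613 = n155165 := ndS (p := 43977) (l := 2) rfl N43977 D155165
theorem N77614 : nd 77614 = n155176 := ndS (p := 43980) (l := 6) rfl N43980 D155176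
theorem N77615 : nd 77615 = n155190 := ndS (p := 43982) (l := 5) rfl N43982 D155190
theorem N77616 : nd 77616 = n155191 := ndS (p := 43983) (l := 4) rfl N43983 D155191
theorem N77617 : nd 77617 = n155195 := ndS (p := 43985) (l := 3) rfl N43985 D155195
theorem N77618 : nd 77618 = n155224 := ndS (p := 43993) (l := 0) rfl N43993 D155224
theorem N77619 : nd 77619 = n155227 := ndS (p := 43993) (l := 4) rfl N43993 D155227
theorem N77620 : nd 77620 = n155232 := ndS (p := 43994) (l := 4) rfl N43994 D155232
theorem N77621 : nd 77621 = n155240 := ndS (p := 43996) (l := 4) rfl N43996 D155240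
theorem N77622 : nd 77622 = n155242 := ndS (p := 43997) (l := 6) rfl N43997 D155242
theorem N77623 : nd 77623 = n155250 := ndS (p := 44000) (l := 4) rfl N44000 D155250
theorem N77624 : nd 77624 = n155316 := ndS (p := 44003) (l := 4) rfl N44003 D155316
theorem N77625 : nd 77625 = n155319 := ndS (p := 44004) (l := 5) rfl N44004 D155319
theorem N77626 : nd 77626 = n155323 := ndS (p := 44006) (l := 4) rfl N44006 D155323
theorem N77627 : nd 77627 = n155324 := ndS (p := 44006) (l := 5) rfl N44006 D155324
theorem N77628 : nd 77628 = n155325 := ndS (p := 44006) (l := 6) rfl N44006 D155325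
theorem N77629 : nd 77629 = n155351 := ndS (p := 44010) (l := 6) rfl N44010 D155351
theorem N77630 : nd 77630 = n155357 := ndS (p := 44012) (l := 6) rfl N44012 D155357
theorem N77631 : nd 77631 = n155373 := ndS (p := 44014) (l := 0) rfl N44014 D155373
theorem N77632 : nd 77632 = n155375 := ndS (p := 44014) (l := 5) rfl N44014 D155375
theorem N77633 : nd 77633 = n155403 := ndS (p := 44018) (l := 3) rfl N44018 D155403
theorem N77634 : nd 77634 = n155443 := ndS (p := 44022) (l := 6) rfl N44022 D155443
theorem N77635 : nd 77635 = n155448 := ndS (p := 44023) (l := 4) rfl N44023 D155448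
theorem N77636 : nd 77636 = n155453 := ndS (p := 44024) (l := 3) rfl N44024 D155453
theorem N77637 : nd 77637 = n155454 := ndS (p := 44024) (l := 5) rfl N44024 D155454
theorem N77638 : nd 77638 = n155458 := ndS (p := 44025) (l := 5) rfl N44025 D155458
theorem N77639 : nd 77639 = n155465 := ndS (p := 44028) (l := 3) rfl N44028 D155465
theorem N77640 : nd 77640 = n155467 := ndS (p := 44028) (l := 5) rfl N44028 D155467
theorem N77641 : nd 77641 = n155469 := ndS (p := 44029) (l := 3) rfl N44029 D155469
theorem N77642 : nd 77642 = n155470 := ndS (p := 44029) (l := 4) rfl N44029 D155470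
theorem N77643 : nd 77643 = n155471 := ndS (p := 44029) (l := 6) rfl N44029 D155471
theorem N77644 : nd 77644 = n155472 := ndS (p := 44030) (l := 0) rfl N44030 D155472
theorem N77645 : nd 77645 = n155473 := ndS (p := 44030) (l := 1) rfl N44030 D155473
theorem N77646 : nd 77646 = n155475 := ndS (p := 44030) (l := 5) rfl N44030 D155475
theorem N77647 : nd 77647 = n155488 := ndS (p := 44032) (l := 0) rfl N44032 D155488
theorem N77648 : nd 77648 = n155489 := ndS (p := 44032) (l := 1) rfl N44032 D155489
theorem N77649 : nd 77649 = n155491 := ndS (p := 44032) (l := 5) rfl N44032 D155491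
theorem N77650 : nd 77650 = n155492 := ndS (p := 44033) (l := 4) rfl N44033 D155492
theorem N77651 : nd 77651 = n155493 := ndS (p := 44034) (l := 3) rfl N44034 D155493
theorem N77652 : nd 77652 = n155494 := ndS (p := 44034) (l := 5) rfl N44034 D155494
theorem N77653 : nd 77653 = n155495 := ndS (p := 44034) (l := 6) rfl N44034 D155495
theorem N77654 : nd 77654 = n155498 := ndS (p := 44036) (l := 4) rfl N44036 D155498
theorem N77655 : nd 77655 = n155500 := ndS (p := 44037) (l := 3) rfl N44037 D155500
theorem N77656 : nd 77656 = n155501 := ndS (p := 44037) (l := 4) rfl N44037 D155501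
theorem N77657 : nd 77657 = n155502 := ndS (p := 44037) (l := 5) rfl N44037 D155502
theorem N77658 : nd 77658 = n155503 := ndS (p := 44037) (l := 6) rfl N44037 D155503
theorem N77659 : nd 77659 = n155504 := ndS (p := 44038) (l := 0) rfl N44038 D155504
theorem N77660 : nd 77660 = n155506 := ndS (p := 44038) (l := 2) rfl N44038 D155506
theorem N77661 : nd 77661 = n155507 := ndS (p := 44038) (l := 5) rfl N44038 D155507
theorem N77662 : nd 77662 = n155508 := ndS (p := 44038) (l := 6) rfl N44038 D155508
theorem N77663 : nd 77663 = n155509 := ndS (p := 44039) (l := 4) rfl N44039 D155509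
theorem N77664 : nd 77664 = n155510 := ndS (p := 44039) (l := 6) rfl N44039 D155510
theorem N77665 : nd 77665 = n155512 := ndS (p := 44040) (l := 5) rfl N44040 D155512
theorem N77666 : nd 77666 = n155514 := ndS (p := 44041) (l := 1) rfl N44041 D155514
theorem N77667 : nd 77667 = n155541 := ndS (p := 44046) (l := 4) rfl N44046 D155541
theorem N77668 : nd 77668 = n155545 := ndS (p := 44047) (l := 3) rfl N44047 D155545
theorem N77669 : nd 77669 = n155546 := ndS (p := 44047) (l := 4) rfl N44047 D155546
theorem N77670 : nd 77670 = n155564 := ndS (p := 44050) (l := 3) rfl N44050 D155564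
theorem N77671 : nd 77671 = n155577 := ndS (p := 44052) (l := 6) rfl N44052 D155577
theorem N77672 : nd 77672 = n155578 := ndS (p := 44053) (l := 0) rfl N44053 D155578
theorem N77673 : nd 77673 = n155579 := ndS (p := 44053) (l := 1) rfl N44053 D155579
theorem N77674 : nd 77674 = n155580 := ndS (p := 44053) (l := 7) rfl N44053 D155580
theorem N77675 : nd 77675 = n155581 := ndS (p := 44054) (l := 3) rfl N44054 D155581
theorem N77676 : nd 77676 = n155589 := ndS (p := 44055) (l := 6) rfl N44055 D155589
theorem N77677 : nd 77677 = n155603 := ndS (p := 44058) (l := 0) rfl N44058 D155603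
theorem N77678 : nd 77678 = n155604 := ndS (p := 44058) (l := 1) rfl N44058 D155604
theorem N77679 : nd 77679 = n155605 := ndS (p := 44058) (l := 5) rfl N44058 D155605
theorem N77680 : nd 77680 = n155606 := ndS (p := 44058) (l := 7) rfl N44058 D155606
theorem N77681 : nd 77681 = n155609 := ndS (p := 44059) (l := 4) rfl N44059 D155609
theorem N77682 : nd 77682 = n155613 := ndS (p := 44060) (l := 4) rfl N44060 D155613
theorem N77683 : nd 77683 = n155617 := ndS (p := 44062) (l := 0) rfl N44062 D155617
theorem N77684 : nd 77684 = n155619 := ndS (p := 44062) (l := 2) rfl N44062 D155619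
theorem N77685 : nd 77685 = n155658 := ndS (p := 44066) (l := 6) rfl N44066 D155658
theorem N77686 : nd 77686 = n155662 := ndS (p := 44067) (l := 7) rfl N44067 D155662
theorem N77687 : nd 77687 = n155663 := ndS (p := 44068) (l := 3) rfl N44068 D155663
theorem N77688 : nd 77688 = n155673 := ndS (p := 44072) (l := 6) rfl N44072 D155673
theorem N77689 : nd 77689 = n155681 := ndS (p := 44073) (l := 0) rfl N44073 D155681
theorem N77690 : nd 77690 = n155682 := ndS (p := 44073) (l := 1) rfl N44073 D155682
theorem N77691 : nd 77691 = n155683 := ndS (p := 44073) (l := 5) rfl N44073 D155683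
theorem N77692 : nd 77692 = n155684 := ndS (p := 44073) (l := 7) rfl N44073 D155684
theorem N77693 : nd 77693 = n155686 := ndS (p := 44074) (l := 3) rfl N44074 D155686
theorem N77694 : nd 77694 = n155687 := ndS (p := 44074) (l := 4) rfl N44074 D155687
theorem N77695 : nd 77695 = n155688 := ndS (p := 44074) (l := 5) rfl N44074 D155688
theorem N77696 : nd 77696 = n155689 := ndS (p := 44074) (l := 6) rfl N44074 D155689
theorem N77697 : nd 77697 = n155692 := ndS (p := 44075) (l := 4) rfl N44075 D155692
theorem N77698 : nd 77698 = n155701 := ndS (p := 44078) (l := 3) rfl N44078 D155701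
theorem N77699 : nd 77699 = n155705 := ndS (p := 44079) (l := 6) rfl N44079 D155705
theorem N77700 : nd 77700 = n155706 := ndS (p := 44080) (l := 0) rfl N44080 D155706
theorem N77701 : nd 77701 = n155707 := ndS (p := 44080) (l := 1) rfl N44080 D155707
theorem N77702 : nd 77702 = n155708 := ndS (p := 44080) (l := 5) rfl N44080 D155708
theorem N77703 : nd 77703 = n155709 := ndS (p := 44080) (l := 7) rfl N44080 D155709
theorem N77704 : nd 77704 = n155710 := ndS (p := 44081) (l := 3) rfl N44081 D155710
theorem N77705 : nd 77705 = n155719 := ndS (p := 44084) (l := 4) rfl N44084 D155719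
theorem N77706 : nd 77706 = n155720 := ndS (p := 44084) (l := 5) rfl N44084 D155720
theorem N77707 : nd 77707 = n155721 := ndS (p := 44085) (l := 3) rfl N44085 D155721
theorem N77708 : nd 77708 = n155727 := ndS (p := 44089) (l := 3) rfl N44089 D155727
theorem N77709 : nd 77709 = n155728 := ndS (p := 44089) (l := 6) rfl N44089 D155728
theorem N77710 : nd 77710 = n155733 := ndS (p := 44090) (l := 6) rfl N44090 D155733
theorem N77711 : nd 77711 = n155734 := ndS (p := 44091) (l := 0) rfl N44091 D155734
theorem N77712 : nd 77712 = n155735 := ndS (p := 44091) (l := 1) rfl N44091 D155735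
theorem N77713 : nd 77713 = n155737 := ndS (p := 44091) (l := 6) rfl N44091 D155737
theorem N77714 : nd 77714 = n155738 := ndS (p := 44092) (l := 0) rfl N44092 D155738
theorem N77715 : nd 77715 = n155755 := ndS (p := 44093) (l := 6) rfl N44093 D155755
theorem N77716 : nd 77716 = n155757 := ndS (p := 44094) (l := 1) rfl N44094 D155757
theorem N77717 : nd 77717 = n155759 := ndS (p := 44094) (l := 7) rfl N44094 D155759
theorem N77718 : nd 77718 = n155768 := ndS (p := 44097) (l := 3) rfl N44097 D155768
theorem N77719 : nd 77719 = n155779 := ndS (p := 44101) (l := 4) rfl N44101 D155779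
theorem N77720 : nd 77720 = n155781 := ndS (p := 44101) (l := 6) rfl N44101 D155781
theorem N77721 : nd 77721 = n155783 := ndS (p := 44102) (l := 3) rfl N44102 D155783
theorem N77722 : nd 77722 = n155784 := ndS (p := 44102) (l := 4) rfl N44102 D155784
theorem N77723 : nd 77723 = n155787 := ndS (p := 44103) (l := 4) rfl N44103 D155787
theorem N77724 : nd 77724 = n155788 := ndS (p := 44103) (l := 6) rfl N44103 D155788
theorem N77725 : nd 77725 = n155789 := ndS (p := 44104) (l := 0) rfl N44104 D155789
theorem N77726 : nd 77726 = n155790 := ndS (p := 44104) (l := 1) rfl N44104 D155790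
theorem N77727 : nd 77727 = n155791 := ndS (p := 44104) (l := 5) rfl N44104 D155791
theorem N77728 : nd 77728 = n155792 := ndS (p := 44104) (l := 6) rfl N44104 D155792
theorem N77729 : nd 77729 = n155793 := ndS (p := 44105) (l := 0) rfl N44105 D155793
theorem N77730 : nd 77730 = n155795 := ndS (p := 44105) (l := 5) rfl N44105 D155795
theorem N77731 : nd 77731 = n155796 := ndS (p := 44105) (l := 7) rfl N44105 D155796
theorem N77732 : nd 77732 = n155807 := ndS (p := 44109) (l := 3) rfl N44109 D155807
theorem N77733 : nd 77733 = n155827 := ndS (p := 44111) (l := 1) rfl N44111 D155827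
theorem N77734 : nd 77734 = n155829 := ndS (p := 44111) (l := 4) rfl N44111 D155829
theorem N77735 : nd 77735 = n155831 := ndS (p := 44111) (l := 6) rfl N44111 D155831
theorem N77736 : nd 77736 = n155833 := ndS (p := 44112) (l := 0) rfl N44112 D155833
theorem N77737 : nd 77737 = n155834 := ndS (p := 44112) (l := 1) rfl N44112 D155834
theorem N77738 : nd 77738 = n155835 := ndS (p := 44112) (l := 3) rfl N44112 D155835
theorem N77739 : nd 77739 = n155836 := ndS (p := 44112) (l := 5) rfl N44112 D155836
theorem N77740 : nd 77740 = n155837 := ndS (p := 44112) (l := 6) rfl N44112 D155837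
theorem N77741 : nd 77741 = n155839 := ndS (p := 44113) (l := 0) rfl N44113 D155839
theorem N77742 : nd 77742 = n155841 := ndS (p := 44113) (l := 4) rfl N44113 D155841
theorem N77743 : nd 77743 = n155842 := ndS (p := 44113) (l := 6) rfl N44113 D155842
theorem N77744 : nd 77744 = n155846 := ndS (p := 44114) (l := 5) rfl N44114 D155846
theorem N77745 : nd 77745 = n155856 := ndS (p := 44115) (l := 5) rfl N44115 D155856
theorem N77746 : nd 77746 = n155857 := ndS (p := 44115) (l := 6) rfl N44115 D155857
theorem N77747 : nd 77747 = n155858 := ndS (p := 44116) (l := 4) rfl N44116 D155858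
theorem N77748 : nd 77748 = n155863 := ndS (p := 44117) (l := 7) rfl N44117 D155863
theorem N77749 : nd 77749 = n155864 := ndS (p := 44118) (l := 4) rfl N44118 D155864
theorem N77750 : nd 77750 = n155865 := ndS (p := 44118) (l := 6) rfl N44118 D155865
theorem N77751 : nd 77751 = n155867 := ndS (p := 44119) (l := 3) rfl N44119 D155867
theorem N77752 : nd 77752 = n155873 := ndS (p := 44120) (l := 4) rfl N44120 D155873
theorem N77753 : nd 77753 = n155875 := ndS (p := 44120) (l := 6) rfl N44120 D155875
theorem N77754 : nd 77754 = n155877 := ndS (p := 44121) (l := 1) rfl N44121 D155877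
theorem N77755 : nd 77755 = n155878 := ndS (p := 44121) (l := 5) rfl N44121 D155878
theorem N77756 : nd 77756 = n155879 := ndS (p := 44121) (l := 6) rfl N44121 D155879
theorem N77757 : nd 77757 = n155880 := ndS (p := 44122) (l := 0) rfl N44122 D155880
theorem N77758 : nd 77758 = n155881 := ndS (p := 44122) (l := 1) rfl N44122 D155881
theorem N77759 : nd 77759 = n155884 := ndS (p := 44124) (l := 3) rfl N44124 D155884
theorem N77760 : nd 77760 = n155885 := ndS (p := 44124) (l := 5) rfl N44124 D155885
theorem N77761 : nd 77761 = n155888 := ndS (p := 44125) (l := 1) rfl N44125 D155888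
theorem N77762 : nd 77762 = n155890 := ndS (p := 44125) (l := 5) rfl N44125 D155890
theorem N77763 : nd 77763 = n155891 := ndS (p := 44125) (l := 6) rfl N44125 D155891
theorem N77764 : nd 77764 = n155892 := ndS (p := 44126) (l := 6) rfl N44126 D155892
theorem N77765 : nd 77765 = n155893 := ndS (p := 44127) (l := 0) rfl N44127 D155893
theorem N77766 : nd 77766 = n155894 := ndS (p := 44127) (l := 1) rfl N44127 D155894
theorem N77767 : nd 77767 = n155895 := ndS (p := 44127) (l := 5) rfl N44127 D155895
theorem N77768 : nd 77768 = n155896 := ndS (p := 44127) (l := 7) rfl N44127 D155896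
theorem N77769 : nd 77769 = n155898 := ndS (p := 44128) (l := 3) rfl N44128 D155898
theorem N77770 : nd 77770 = n155899 := ndS (p := 44128) (l := 4) rfl N44128 D155899
theorem N77771 : nd 77771 = n155900 := ndS (p := 44128) (l := 5) rfl N44128 D155900
theorem N77772 : nd 77772 = n155902 := ndS (p := 44129) (l := 3) rfl N44129 D155902
theorem N77773 : nd 77773 = n155903 := ndS (p := 44129) (l := 4) rfl N44129 D155903
theorem N77774 : nd 77774 = n155904 := ndS (p := 44129) (l := 5) rfl N44129 D155904
theorem N77775 : nd 77775 = n155912 := ndS (p := 44131) (l := 3) rfl N44131 D155912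
theorem N77776 : nd 77776 = n155913 := ndS (p := 44131) (l := 4) rfl N44131 D155913
theorem N77777 : nd 77777 = n155916 := ndS (p := 44132) (l := 6) rfl N44132 D155916
theorem N77778 : nd 77778 = n155918 := ndS (p := 44133) (l := 1) rfl N44133 D155918
theorem N77779 : nd 77779 = n155935 := ndS (p := 44134) (l := 4) rfl N44134 D155935
theorem N77780 : nd 77780 = n155940 := ndS (p := 44136) (l := 6) rfl N44136 D155940
theorem N77781 : nd 77781 = n155941 := ndS (p := 44137) (l := 0) rfl N44137 D155941
theorem N77782 : nd 77782 = n155942 := ndS (p := 44137) (l := 1) rfl N44137 D155942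
theorem N77783 : nd 77783 = n155943 := ndS (p := 44137) (l := 7) rfl N44137 D155943
theorem N77784 : nd 77784 = n155944 := ndS (p := 44138) (l := 3) rfl N44138 D155944
theorem N77785 : nd 77785 = n155948 := ndS (p := 44142) (l := 0) rfl N44142 D155948
theorem N77786 : nd 77786 = n155949 := ndS (p := 44142) (l := 1) rfl N44142 D155949
theorem N77787 : nd 77787 = n155950 := ndS (p := 44142) (l := 2) rfl N44142 D155950
theorem N77788 : nd 77788 = n155952 := ndS (p := 44142) (l := 6) rfl N44142 D155952
theorem N77789 : nd 77789 = n155953 := ndS (p := 44143) (l := 6) rfl N44143 D155953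
theorem N77790 : nd 77790 = n155954 := ndS (p := 44144) (l := 5) rfl N44144 D155954
theorem N77791 : nd 77791 = n155955 := ndS (p := 44145) (l := 1) rfl N44145 D155955
theorem N77792 : nd 77792 = n155956 := ndS (p := 44145) (l := 2) rfl N44145 D155956
theorem N77793 : nd 77793 = n155957 := ndS (p := 44145) (l := 5) rfl N44145 D155957
theorem N77794 : nd 77794 = n155958 := ndS (p := 44145) (l := 6) rfl N44145 D155958
theorem N77795 : nd 77795 = n155959 := ndS (p := 44146) (l := 6) rfl N44146 D155959
theorem N77796 : nd 77796 = n155960 := ndS (p := 44147) (l := 5) rfl N44147 D155960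
theorem N77797 : nd 77797 = n155961 := ndS (p := 44147) (l := 7) rfl N44147 D155961
theorem N77798 : nd 77798 = n155963 := ndS (p := 44148) (l := 1) rfl N44148 D155963
theorem N77799 : nd 77799 = n155965 := ndS (p := 44149) (l := 5) rfl N44149 D155965
theorem N77800 : nd 77800 = n155966 := ndS (p := 44149) (l := 7) rfl N44149 D155966
theorem N77801 : nd 77801 = n155967 := ndS (p := 44150) (l := 3) rfl N44150 D155967
theorem N77802 : nd 77802 = n155969 := ndS (p := 44150) (l := 6) rfl N44150 D155969
theorem N77803 : nd 77803 = n155972 := ndS (p := 44153) (l := 0) rfl N44153 D155972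
theorem N77804 : nd 77804 = n155973 := ndS (p := 44153) (l := 1) rfl N44153 D155973
theorem N77805 : nd 77805 = n155976 := ndS (p := 44154) (l := 3) rfl N44154 D155976
theorem N77806 : nd 77806 = n155977 := ndS (p := 44154) (l := 6) rfl N44154 D155977
theorem N77807 : nd 77807 = n155981 := ndS (p := 44156) (l := 3) rfl N44156 D155981
theorem N77808 : nd 77808 = n155982 := ndS (p := 44156) (l := 6) rfl N44156 D155982
theorem N77809 : nd 77809 = n155983 := ndS (p := 44158) (l := 0) rfl N44158 D155983
theorem N77810 : nd 77810 = n155984 := ndS (p := 44158) (l := 1) rfl N44158 D155984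
theorem N77811 : nd 77811 = n155985 := ndS (p := 44158) (l := 2) rfl N44158 D155985
theorem N77812 : nd 77812 = n155986 := ndS (p := 44159) (l := 6) rfl N44159 D155986
theorem N77813 : nd 77813 = n155987 := ndS (p := 44160) (l := 6) rfl N44160 D155987
theorem N77814 : nd 77814 = n155988 := ndS (p := 44161) (l := 5) rfl N44161 D155988
theorem N77815 : nd 77815 = n155989 := ndS (p := 44162) (l := 4) rfl N44162 D155989
theorem N77816 : nd 77816 = n155990 := ndS (p := 44164) (l := 0) rfl N44164 D155990
theorem N77817 : nd 77817 = n155991 := ndS (p := 44164) (l := 1) rfl N44164 D155991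
theorem N77818 : nd 77818 = n155992 := ndS (p := 44164) (l := 6) rfl N44164 D155992
theorem N77819 : nd 77819 = n155993 := ndS (p := 44165) (l := 0) rfl N44165 D155993
theorem N77820 : nd 77820 = n155994 := ndS (p := 44165) (l := 1) rfl N44165 D155994
theorem N77821 : nd 77821 = n155995 := ndS (p := 44165) (l := 5) rfl N44165 D155995
theorem N77822 : nd 77822 = n155996 := ndS (p := 44165) (l := 7) rfl N44165 D155996
theorem N77823 : nd 77823 = n155997 := ndS (p := 44166) (l := 4) rfl N44166 D155997
theorem N77824 : nd 77824 = n155998 := ndS (p := 44168) (l := 0) rfl N44168 D155998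
theorem N77825 : nd 77825 = n155999 := ndS (p := 44168) (l := 1) rfl N44168 D155999
theorem N77826 : nd 77826 = n156000 := ndS (p := 44168) (l := 2) rfl N44168 D156000
theorem N77827 : nd 77827 = n156001 := ndS (p := 44168) (l := 5) rfl N44168 D156001
theorem N77828 : nd 77828 = n156002 := ndS (p := 44168) (l := 6) rfl N44168 D156002
theorem N77829 : nd 77829 = n156003 := ndS (p := 44169) (l := 6) rfl N44169 D156003
theorem N77830 : nd 77830 = n156004 := ndS (p := 44170) (l := 7) rfl N44170 D156004
theorem N77831 : nd 77831 = n156006 := ndS (p := 44171) (l := 6) rfl N44171 D156006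
theorem N77832 : nd 77832 = n156007 := ndS (p := 44172) (l := 6) rfl N44172 D156007
theorem N77833 : nd 77833 = n156008 := ndS (p := 44173) (l := 7) rfl N44173 D156008
theorem N77834 : nd 77834 = n156009 := ndS (p := 44174) (l := 0) rfl N44174 D156009
theorem N77835 : nd 77835 = n156010 := ndS (p := 44174) (l := 2) rfl N44174 D156010
theorem N77836 : nd 77836 = n156011 := ndS (p := 44174) (l := 3) rfl N44174 D156011
theorem N77837 : nd 77837 = n156012 := ndS (p := 44174) (l := 4) rfl N44174 D156012
theorem N77838 : nd 77838 = n156013 := ndS (p := 44174) (l := 5) rfl N44174 D156013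
theorem N77839 : nd 77839 = n156014 := ndS (p := 44174) (l := 6) rfl N44174 D156014
theorem N77840 : nd 77840 = n156015 := ndS (p := 44174) (l := 7) rfl N44174 D156015
theorem N77841 : nd 77841 = n156016 := ndS (p := 44175) (l := 3) rfl N44175 D156016
theorem N77842 : nd 77842 = n156017 := ndS (p := 44175) (l := 4) rfl N44175 D156017
theorem N77843 : nd 77843 = n156018 := ndS (p := 44175) (l := 5) rfl N44175 D156018
theorem N77844 : nd 77844 = n156019 := ndS (p := 44175) (l := 6) rfl N44175 D156019
theorem N77845 : nd 77845 = n156022 := ndS (p := 44176) (l := 5) rfl N44176 D156022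
theorem N77846 : nd 77846 = n156023 := ndS (p := 44177) (l := 0) rfl N44177 D156023
theorem N77847 : nd 77847 = n156024 := ndS (p := 44177) (l := 1) rfl N44177 D156024
theorem N77848 : nd 77848 = n156025 := ndS (p := 44177) (l := 4) rfl N44177 D156025
theorem N77849 : nd 77849 = n156026 := ndS (p := 44177) (l := 6) rfl N44177 D156026
theorem N77850 : nd 77850 = n156027 := ndS (p := 44178) (l := 6) rfl N44178 D156027
theorem N77851 : nd 77851 = n156028 := ndS (p := 44179) (l := 3) rfl N44179 D156028
theorem N77852 : nd 77852 = n156029 := ndS (p := 44179) (l := 6) rfl N44179 D156029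
theorem N77853 : nd 77853 = n156030 := ndS (p := 44180) (l := 6) rfl N44180 D156030
theorem N77854 : nd 77854 = n156031 := ndS (p := 44181) (l := 0) rfl N44181 D156031
theorem N77855 : nd 77855 = n156032 := ndS (p := 44181) (l := 1) rfl N44181 D156032
theorem N77856 : nd 77856 = n156033 := ndS (p := 44181) (l := 7) rfl N44181 D156033
theorem N77857 : nd 77857 = n156034 := ndS (p := 44182) (l := 5) rfl N44182 D156034
theorem N77858 : nd 77858 = n156035 := ndS (p := 44183) (l := 3) rfl N44183 D156035
theorem N77859 : nd 77859 = n156036 := ndS (p := 44184) (l := 6) rfl N44184 D156036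
theorem N77860 : nd 77860 = n156037 := ndS (p := 44185) (l := 5) rfl N44185 D156037
theorem N77861 : nd 77861 = n156038 := ndS (p := 44188) (l := 0) rfl N44188 D156038
theorem N77862 : nd 77862 = n156039 := ndS (p := 44188) (l := 1) rfl N44188 D156039
theorem N77863 : nd 77863 = n156040 := ndS (p := 44188) (l := 2) rfl N44188 D156040
theorem N77864 : nd 77864 = n156041 := ndS (p := 44188) (l := 6) rfl N44188 D156041
theorem N77865 : nd 77865 = n156042 := ndS (p := 44189) (l := 5) rfl N44189 D156042
theorem N77866 : nd 77866 = n156043 := ndS (p := 44189) (l := 7) rfl N44189 D156043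
theorem N77867 : nd 77867 = n156044 := ndS (p := 44192) (l := 0) rfl N44192 D156044
theorem N77868 : nd 77868 = n156045 := ndS (p := 44192) (l := 1) rfl N44192 D156045
theorem N77869 : nd 77869 = n156046 := ndS (p := 44192) (l := 2) rfl N44192 D156046
theorem N77870 : nd 77870 = n156048 := ndS (p := 44193) (l := 7) rfl N44193 D156048
theorem N77871 : nd 77871 = n156049 := ndS (p := 44194) (l := 0) rfl N44194 D156049
theorem N77872 : nd 77872 = n156050 := ndS (p := 44194) (l := 1) rfl N44194 D156050
theorem N77873 : nd 77873 = n156051 := ndS (p := 44194) (l := 2) rfl N44194 D156051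
theorem N77874 : nd 77874 = n156052 := ndS (p := 44194) (l := 6) rfl N44194 D156052
theorem N77875 : nd 77875 = n156056 := ndS (p := 44197) (l := 3) rfl N44197 D156056
theorem N77876 : nd 77876 = n156057 := ndS (p := 44197) (l := 6) rfl N44197 D156057
theorem N77877 : nd 77877 = n156058 := ndS (p := 44198) (l := 0) rfl N44198 D156058
theorem N77878 : nd 77878 = n156059 := ndS (p := 44198) (l := 1) rfl N44198 D156059
theorem N77879 : nd 77879 = n156060 := ndS (p := 44198) (l := 5) rfl N44198 D156060
theorem N77880 : nd 77880 = n156061 := ndS (p := 44198) (l := 7) rfl N44198 D156061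
theorem N77881 : nd 77881 = n156062 := ndS (p := 44199) (l := 3) rfl N44199 D156062
theorem N77882 : nd 77882 = n156063 := ndS (p := 44200) (l := 3) rfl N44200 D156063
theorem N77883 : nd 77883 = n156064 := ndS (p := 44200) (l := 6) rfl N44200 D156064
theorem N77884 : nd 77884 = n156065 := ndS (p := 44201) (l := 0) rfl N44201 D156065
theorem N77885 : nd 77885 = n156066 := ndS (p := 44201) (l := 1) rfl N44201 D156066
theorem N77886 : nd 77886 = n156069 := ndS (p := 44203) (l := 0) rfl N44203 D156069
theorem N77887 : nd 77887 = n156074 := ndS (p := 44205) (l := 2) rfl N44205 D156074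
theorem N77888 : nd 77888 = n156075 := ndS (p := 44206) (l := 5) rfl N44206 D156075
theorem N77889 : nd 77889 = n156077 := ndS (p := 44207) (l := 3) rfl N44207 D156077
theorem N77890 : nd 77890 = n156080 := ndS (p := 44207) (l := 6) rfl N44207 D156080
theorem N77891 : nd 77891 = n156082 := ndS (p := 44208) (l := 3) rfl N44208 D156082
theorem N77892 : nd 77892 = n156084 := ndS (p := 44208) (l := 6) rfl N44208 D156084
theorem N77893 : nd 77893 = n156085 := ndS (p := 44209) (l := 6) rfl N44209 D156085
theorem N77894 : nd 77894 = n156086 := ndS (p := 44210) (l := 0) rfl N44210 D156086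
theorem N77895 : nd 77895 = n156087 := ndS (p := 44210) (l := 1) rfl N44210 D156087
theorem N77896 : nd 77896 = n156088 := ndS (p := 44210) (l := 5) rfl N44210 D156088
theorem N77897 : nd 77897 = n156089 := ndS (p := 44210) (l := 7) rfl N44210 D156089
theorem N77898 : nd 77898 = n156090 := ndS (p := 44211) (l := 0) rfl N44211 D156090
theorem N77899 : nd 77899 = n156091 := ndS (p := 44211) (l := 1) rfl N44211 D156091
theorem N77900 : nd 77900 = n156092 := ndS (p := 44211) (l := 5) rfl N44211 D156092
theorem N77901 : nd 77901 = n156093 := ndS (p := 44211) (l := 7) rfl N44211 D156093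
theorem N77902 : nd 77902 = n156094 := ndS (p := 44212) (l := 3) rfl N44212 D156094
theorem N77903 : nd 77903 = n156095 := ndS (p := 44212) (l := 5) rfl N44212 D156095
theorem N77904 : nd 77904 = n156096 := ndS (p := 44212) (l := 6) rfl N44212 D156096
theorem N77905 : nd 77905 = n156097 := ndS (p := 44213) (l := 0) rfl N44213 D156097
theorem N77906 : nd 77906 = n156098 := ndS (p := 44213) (l := 1) rfl N44213 D156098
theorem N77907 : nd 77907 = n156100 := ndS (p := 44213) (l := 7) rfl N44213 D156100
theorem N77908 : nd 77908 = n156101 := ndS (p := 44215) (l := 0) rfl N44215 D156101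
theorem N77909 : nd 77909 = n156102 := ndS (p := 44215) (l := 3) rfl N44215 D156102
theorem N77910 : nd 77910 = n156103 := ndS (p := 44215) (l := 5) rfl N44215 D156103
theorem N77911 : nd 77911 = n156104 := ndS (p := 44216) (l := 3) rfl N44216 D156104
theorem N77912 : nd 77912 = n156105 := ndS (p := 44216) (l := 5) rfl N44216 D156105
theorem N77913 : nd 77913 = n156106 := ndS (p := 44217) (l := 1) rfl N44217 D156106
theorem N77914 : nd 77914 = n156107 := ndS (p := 44217) (l := 5) rfl N44217 D156107
theorem N77915 : nd 77915 = n156108 := ndS (p := 44217) (l := 7) rfl N44217 D156108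
theorem N77916 : nd 77916 = n156109 := ndS (p := 44218) (l := 5) rfl N44218 D156109
theorem N77917 : nd 77917 = n156110 := ndS (p := 44219) (l := 5) rfl N44219 D156110
theorem N77918 : nd 77918 = n156111 := ndS (p := 44219) (l := 6) rfl N44219 D156111
theorem N77919 : nd 77919 = n156112 := ndS (p := 44221) (l := 0) rfl N44221 D156112
theorem N77920 : nd 77920 = n156114 := ndS (p := 44221) (l := 2) rfl N44221 D156114
theorem N77921 : nd 77921 = n156117 := ndS (p := 44223) (l := 0) rfl N44223 D156117
theorem N77922 : nd 77922 = n156118 := ndS (p := 44223) (l := 1) rfl N44223 D156118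
theorem N77923 : nd 77923 = n156119 := ndS (p := 44223) (l := 2) rfl N44223 D156119
theorem N77924 : nd 77924 = n156120 := ndS (p := 44224) (l := 3) rfl N44224 D156120
theorem N77925 : nd 77925 = n156121 := ndS (p := 44224) (l := 5) rfl N44224 D156121
theorem N77926 : nd 77926 = n156122 := ndS (p := 44225) (l := 3) rfl N44225 D156122
theorem N77927 : nd 77927 = n156123 := ndS (p := 44225) (l := 5) rfl N44225 D156123
theorem N77928 : nd 77928 = n156124 := ndS (p := 44225) (l := 6) rfl N44225 D156124
theorem N77929 : nd 77929 = n156125 := ndS (p := 44226) (l := 1) rfl N44226 D156125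
theorem N77930 : nd 77930 = n156126 := ndS (p := 44226) (l := 4) rfl N44226 D156126
theorem N77931 : nd 77931 = n156127 := ndS (p := 44226) (l := 7) rfl N44226 D156127
theorem N77932 : nd 77932 = n156128 := ndS (p := 44228) (l := 3) rfl N44228 D156128
theorem N77933 : nd 77933 = n156129 := ndS (p := 44228) (l := 5) rfl N44228 D156129
theorem N77934 : nd 77934 = n156132 := ndS (p := 44230) (l := 5) rfl N44230 D156132
theorem N77935 : nd 77935 = n156133 := ndS (p := 44230) (l := 6) rfl N44230 D156133
theorem N77936 : nd 77936 = n156134 := ndS (p := 44232) (l := 6) rfl N44232 D156134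
theorem N77937 : nd 77937 = n156137 := ndS (p := 44235) (l := 4) rfl N44235 D156137
theorem N77938 : nd 77938 = n156142 := ndS (p := 44236) (l := 4) rfl N44236 D156142
theorem N77939 : nd 77939 = n156143 := ndS (p := 44236) (l := 6) rfl N44236 D156143
theorem N77940 : nd 77940 = n156144 := ndS (p := 44237) (l := 6) rfl N44237 D156144
theorem N77941 : nd 77941 = n156145 := ndS (p := 44238) (l := 6) rfl N44238 D156145
theorem N77942 : nd 77942 = n156146 := ndS (p := 44239) (l := 0) rfl N44239 D156146
theorem N77943 : nd 77943 = n156148 := ndS (p := 44239) (l := 5) rfl N44239 D156148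
theorem N77944 : nd 77944 = n156149 := ndS (p := 44239) (l := 7) rfl N44239 D156149
theorem N77945 : nd 77945 = n156150 := ndS (p := 44240) (l := 0) rfl N44240 D156150
theorem N77946 : nd 77946 = n156151 := ndS (p := 44240) (l := 1) rfl N44240 D156151
theorem N77947 : nd 77947 = n156152 := ndS (p := 44240) (l := 5) rfl N44240 D156152
theorem N77948 : nd 77948 = n156153 := ndS (p := 44240) (l := 7) rfl N44240 D156153
theorem N77949 : nd 77949 = n156155 := ndS (p := 44241) (l := 5) rfl N44241 D156155
theorem N77950 : nd 77950 = n156156 := ndS (p := 44241) (l := 6) rfl N44241 D156156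
theorem N77951 : nd 77951 = n156157 := ndS (p := 44242) (l := 3) rfl N44242 D156157
theorem N77952 : nd 77952 = n156158 := ndS (p := 44242) (l := 5) rfl N44242 D156158
theorem N77953 : nd 77953 = n156159 := ndS (p := 44243) (l := 4) rfl N44243 D156159
theorem N77954 : nd 77954 = n156160 := ndS (p := 44243) (l := 7) rfl N44243 D156160
theorem N77955 : nd 77955 = n156162 := ndS (p := 44245) (l := 5) rfl N44245 D156162
theorem N77956 : nd 77956 = n156163 := ndS (p := 44245) (l := 6) rfl N44245 D156163
theorem N77957 : nd 77957 = n156164 := ndS (p := 44247) (l := 3) rfl N44247 D156164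
theorem N77958 : nd 77958 = n156165 := ndS (p := 44247) (l := 5) rfl N44247 D156165
theorem N77959 : nd 77959 = n156166 := ndS (p := 44248) (l := 4) rfl N44248 D156166
theorem N77960 : nd 77960 = n156167 := ndS (p := 44248) (l := 6) rfl N44248 D156167
theorem N77961 : nd 77961 = n156168 := ndS (p := 44249) (l := 3) rfl N44249 D156168
theorem N77962 : nd 77962 = n156169 := ndS (p := 44249) (l := 4) rfl N44249 D156169
theorem N77963 : nd 77963 = n156171 := ndS (p := 44250) (l := 6) rfl N44250 D156171
theorem N77964 : nd 77964 = n156172 := ndS (p := 44251) (l := 0) rfl N44251 D156172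
theorem N77965 : nd 77965 = n156173 := ndS (p := 44251) (l := 1) rfl N44251 D156173
theorem N77966 : nd 77966 = n156174 := ndS (p := 44251) (l := 5) rfl N44251 D156174
theorem N77967 : nd 77967 = n156175 := ndS (p := 44251) (l := 7) rfl N44251 D156175
theorem N77968 : nd 77968 = n156176 := ndS (p := 44252) (l := 3) rfl N44252 D156176
theorem N77969 : nd 77969 = n156178 := ndS (p := 44253) (l := 0) rfl N44253 D156178
theorem N77970 : nd 77970 = n156179 := ndS (p := 44253) (l := 1) rfl N44253 D156179
theorem N77971 : nd 77971 = n156180 := ndS (p := 44253) (l := 5) rfl N44253 D156180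
theorem N77972 : nd 77972 = n156181 := ndS (p := 44253) (l := 7) rfl N44253 D156181
theorem N77973 : nd 77973 = n156182 := ndS (p := 44254) (l := 4) rfl N44254 D156182
theorem N77974 : nd 77974 = n156184 := ndS (p := 44256) (l := 3) rfl N44256 D156184
theorem N77975 : nd 77975 = n156186 := ndS (p := 44256) (l := 5) rfl N44256 D156186
theorem N77976 : nd 77976 = n156193 := ndS (p := 44258) (l := 4) rfl N44258 D156193
theorem N77977 : nd 77977 = n156194 := ndS (p := 44258) (l := 6) rfl N44258 D156194
theorem N77978 : nd 77978 = n156195 := ndS (p := 44259) (l := 0) rfl N44259 D156195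
theorem N77979 : nd 77979 = n156196 := ndS (p := 44259) (l := 1) rfl N44259 D156196
theorem N77980 : nd 77980 = n156197 := ndS (p := 44259) (l := 5) rfl N44259 D156197
theorem N77981 : nd 77981 = n156198 := ndS (p := 44259) (l := 6) rfl N44259 D156198
theorem N77982 : nd 77982 = n156199 := ndS (p := 44260) (l := 0) rfl N44260 D156199
theorem N77983 : nd 77983 = n156200 := ndS (p := 44260) (l := 1) rfl N44260 D156200
theorem N77984 : nd 77984 = n156201 := ndS (p := 44260) (l := 6) rfl N44260 D156201
theorem N77985 : nd 77985 = n156204 := ndS (p := 44261) (l := 5) rfl N44261 D156204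
theorem N77986 : nd 77986 = n156205 := ndS (p := 44261) (l := 7) rfl N44261 D156205
theorem N77987 : nd 77987 = n156206 := ndS (p := 44262) (l := 0) rfl N44262 D156206
theorem N77988 : nd 77988 = n156207 := ndS (p := 44262) (l := 1) rfl N44262 D156207
theorem N77989 : nd 77989 = n156208 := ndS (p := 44262) (l := 5) rfl N44262 D156208
theorem N77990 : nd 77990 = n156209 := ndS (p := 44262) (l := 7) rfl N44262 D156209
theorem N77991 : nd 77991 = n156210 := ndS (p := 44263) (l := 4) rfl N44263 D156210
theorem N77992 : nd 77992 = n156211 := ndS (p := 44265) (l := 5) rfl N44265 D156211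
theorem N77993 : nd 77993 = n156212 := ndS (p := 44265) (l := 6) rfl N44265 D156212
theorem N77994 : nd 77994 = n156213 := ndS (p := 44266) (l := 6) rfl N44266 D156213
theorem N77995 : nd 77995 = n156215 := ndS (p := 44267) (l := 1) rfl N44267 D156215
theorem N77996 : nd 77996 = n156216 := ndS (p := 44267) (l := 6) rfl N44267 D156216
theorem N77997 : nd 77997 = n156218 := ndS (p := 44268) (l := 3) rfl N44268 D156218
theorem N77998 : nd 77998 = n156220 := ndS (p := 44268) (l := 6) rfl N44268 D156220
theorem N77999 : nd 77999 = n156222 := ndS (p := 44269) (l := 6) rfl N44269 D156222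
theorem N78000 : nd 78000 = n156225 := ndS (p := 44270) (l := 5) rfl N44270 D156225
theorem N78001 : nd 78001 = n156226 := ndS (p := 44270) (l := 7) rfl N44270 D156226
theorem N78002 : nd 78002 = n156234 := ndS (p := 44274) (l := 1) rfl N44274 D156234
theorem N78003 : nd 78003 = n156235 := ndS (p := 44274) (l := 4) rfl N44274 D156235
theorem N78004 : nd 78004 = n156236 := ndS (p := 44274) (l := 6) rfl N44274 D156236
theorem N78005 : nd 78005 = n156238 := ndS (p := 44275) (l := 4) rfl N44275 D156238
theorem N78006 : nd 78006 = n156239 := ndS (p := 44275) (l := 6) rfl N44275 D156239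
theorem N78007 : nd 78007 = n156240 := ndS (p := 44276) (l := 6) rfl N44276 D156240
theorem N78008 : nd 78008 = n156241 := ndS (p := 44277) (l := 0) rfl N44277 D156241
theorem N78009 : nd 78009 = n156242 := ndS (p := 44277) (l := 1) rfl N44277 D156242
theorem N78010 : nd 78010 = n156243 := ndS (p := 44277) (l := 3) rfl N44277 D156243
theorem N78011 : nd 78011 = n156244 := ndS (p := 44277) (l := 5) rfl N44277 D156244
theorem N78012 : nd 78012 = n156245 := ndS (p := 44277) (l := 6) rfl N44277 D156245
theorem N78013 : nd 78013 = n156246 := ndS (p := 44277) (l := 7) rfl N44277 D156246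
theorem N78014 : nd 78014 = n156248 := ndS (p := 44278) (l := 1) rfl N44278 D156248
theorem N78015 : nd 78015 = n156249 := ndS (p := 44278) (l := 7) rfl N44278 D156249
theorem N78016 : nd 78016 = n156251 := ndS (p := 44280) (l := 0) rfl N44280 D156251
theorem N78017 : nd 78017 = n156252 := ndS (p := 44280) (l := 1) rfl N44280 D156252
theorem N78018 : nd 78018 = n156256 := ndS (p := 44282) (l := 0) rfl N44282 D156256
theorem N78019 : nd 78019 = n156257 := ndS (p := 44282) (l := 1) rfl N44282 D156257
theorem N78020 : nd 78020 = n156258 := ndS (p := 44282) (l := 5) rfl N44282 D156258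
theorem N78021 : nd 78021 = n156259 := ndS (p := 44282) (l := 7) rfl N44282 D156259
theorem N78022 : nd 78022 = n156262 := ndS (p := 44283) (l := 2) rfl N44283 D156262
theorem N78023 : nd 78023 = n156263 := ndS (p := 44283) (l := 6) rfl N44283 D156263
theorem N78024 : nd 78024 = n156264 := ndS (p := 44284) (l := 0) rfl N44284 D156264
theorem N78025 : nd 78025 = n156265 := ndS (p := 44284) (l := 1) rfl N44284 D156265
theorem N78026 : nd 78026 = n156266 := ndS (p := 44284) (l := 5) rfl N44284 D156266
theorem N78027 : nd 78027 = n156267 := ndS (p := 44284) (l := 7) rfl N44284 D156267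
theorem N78028 : nd 78028 = n156268 := ndS (p := 44285) (l := 0) rfl N44285 D156268
theorem N78029 : nd 78029 = n156269 := ndS (p := 44285) (l := 1) rfl N44285 D156269
theorem N78030 : nd 78030 = n156270 := ndS (p := 44285) (l := 2) rfl N44285 D156270
theorem N78031 : nd 78031 = n156271 := ndS (p := 44285) (l := 6) rfl N44285 D156271
theorem N78032 : nd 78032 = n156273 := ndS (p := 44286) (l := 1) rfl N44286 D156273
theorem N78033 : nd 78033 = n156275 := ndS (p := 44286) (l := 7) rfl N44286 D156275
theorem N78034 : nd 78034 = n156278 := ndS (p := 44287) (l := 4) rfl N44287 D156278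
theorem N78035 : nd 78035 = n156279 := ndS (p := 44287) (l := 5) rfl N44287 D156279
theorem N78036 : nd 78036 = n156280 := ndS (p := 44287) (l := 6) rfl N44287 D156280
theorem N78037 : nd 78037 = n156284 := ndS (p := 44288) (l := 5) rfl N44288 D156284
theorem N78038 : nd 78038 = n156285 := ndS (p := 44288) (l := 6) rfl N44288 D156285
theorem N78039 : nd 78039 = n156286 := ndS (p := 44289) (l := 6) rfl N44289 D156286
theorem N78040 : nd 78040 = n156287 := ndS (p := 44290) (l := 0) rfl N44290 D156287
theorem N78041 : nd 78041 = n156290 := ndS (p := 44291) (l := 3) rfl N44291 D156290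
theorem N78042 : nd 78042 = n156291 := ndS (p := 44291) (l := 5) rfl N44291 D156291
theorem N78043 : nd 78043 = n156292 := ndS (p := 44291) (l := 6) rfl N44291 D156292
theorem N78044 : nd 78044 = n156293 := ndS (p := 44292) (l := 3) rfl N44292 D156293
theorem N78045 : nd 78045 = n156294 := ndS (p := 44292) (l := 5) rfl N44292 D156294
theorem N78046 : nd 78046 = n156295 := ndS (p := 44292) (l := 6) rfl N44292 D156295
theorem N78047 : nd 78047 = n156296 := ndS (p := 44293) (l := 0) rfl N44293 D156296
theorem N78048 : nd 78048 = n156297 := ndS (p := 44293) (l := 1) rfl N44293 D156297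
theorem N78049 : nd 78049 = n156298 := ndS (p := 44293) (l := 4) rfl N44293 D156298
theorem N78050 : nd 78050 = n156299 := ndS (p := 44294) (l := 6) rfl N44294 D156299
theorem N78051 : nd 78051 = n156300 := ndS (p := 44295) (l := 3) rfl N44295 D156300
theorem N78052 : nd 78052 = n156301 := ndS (p := 44295) (l := 5) rfl N44295 D156301
theorem N78053 : nd 78053 = n156302 := ndS (p := 44295) (l := 6) rfl N44295 D156302
theorem N78054 : nd 78054 = n156303 := ndS (p := 44297) (l := 3) rfl N44297 D156303
theorem N78055 : nd 78055 = n156304 := ndS (p := 44297) (l := 5) rfl N44297 D156304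
theorem N78056 : nd 78056 = n156305 := ndS (p := 44298) (l := 4) rfl N44298 D156305
theorem N78057 : nd 78057 = n156306 := ndS (p := 44299) (l := 0) rfl N44299 D156306
theorem N78058 : nd 78058 = n156307 := ndS (p := 44299) (l := 1) rfl N44299 D156307
theorem N78059 : nd 78059 = n156308 := ndS (p := 44299) (l := 2) rfl N44299 D156308
theorem N78060 : nd 78060 = n156309 := ndS (p := 44299) (l := 6) rfl N44299 D156309
theorem N78061 : nd 78061 = n156310 := ndS (p := 44301) (l := 0) rfl N44301 D156310
theorem N78062 : nd 78062 = n156311 := ndS (p := 44301) (l := 1) rfl N44301 D156311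
theorem N78063 : nd 78063 = n156312 := ndS (p := 44301) (l := 2) rfl N44301 D156312
theorem N78064 : nd 78064 = n156313 := ndS (p := 44302) (l := 3) rfl N44302 D156313
theorem N78065 : nd 78065 = n156316 := ndS (p := 44302) (l := 6) rfl N44302 D156316
theorem N78066 : nd 78066 = n156317 := ndS (p := 44303) (l := 3) rfl N44303 D156317
theorem N78067 : nd 78067 = n156320 := ndS (p := 44304) (l := 5) rfl N44304 D156320
theorem N78068 : nd 78068 = n156324 := ndS (p := 44305) (l := 4) rfl N44305 D156324
theorem N78069 : nd 78069 = n156325 := ndS (p := 44305) (l := 6) rfl N44305 D156325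
theorem N78070 : nd 78070 = n156330 := ndS (p := 44306) (l := 0) rfl N44306 D156330
theorem N78071 : nd 78071 = n156331 := ndS (p := 44306) (l := 1) rfl N44306 D156331
theorem N78072 : nd 78072 = n156332 := ndS (p := 44306) (l := 5) rfl N44306 D156332
theorem N78073 : nd 78073 = n156333 := ndS (p := 44306) (l := 7) rfl N44306 D156333
theorem N78074 : nd 78074 = n156334 := ndS (p := 44307) (l := 3) rfl N44307 D156334
theorem N78075 : nd 78075 = n156335 := ndS (p := 44308) (l := 3) rfl N44308 D156335
theorem N78076 : nd 78076 = n156336 := ndS (p := 44309) (l := 4) rfl N44309 D156336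
theorem N78077 : nd 78077 = n156338 := ndS (p := 44311) (l := 3) rfl N44311 D156338
theorem N78078 : nd 78078 = n156339 := ndS (p := 44311) (l := 5) rfl N44311 D156339
theorem N78079 : nd 78079 = n156340 := ndS (p := 44312) (l := 3) rfl N44312 D156340
theorem N78080 : nd 78080 = n156341 := ndS (p := 44312) (l := 5) rfl N44312 D156341
theorem N78081 : nd 78081 = n156348 := ndS (p := 44313) (l := 5) rfl N44313 D156348
theorem N78082 : nd 78082 = n156356 := ndS (p := 44314) (l := 1) rfl N44314 D156356
theorem N78083 : nd 78083 = n156359 := ndS (p := 44314) (l := 6) rfl N44314 D156359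
theorem N78084 : nd 78084 = n156363 := ndS (p := 44315) (l := 3) rfl N44315 D156363
theorem N78085 : nd 78085 = n156365 := ndS (p := 44315) (l := 6) rfl N44315 D156365
theorem N78086 : nd 78086 = n156372 := ndS (p := 44316) (l := 0) rfl N44316 D156372
theorem N78087 : nd 78087 = n156379 := ndS (p := 44317) (l := 4) rfl N44317 D156379
theorem N78088 : nd 78088 = n156394 := ndS (p := 44320) (l := 3) rfl N44320 D156394
theorem N78089 : nd 78089 = n156402 := ndS (p := 44321) (l := 6) rfl N44321 D156402
theorem N78090 : nd 78090 = n156440 := ndS (p := 44322) (l := 0) rfl N44322 D156440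
theorem N78091 : nd 78091 = n156448 := ndS (p := 44323) (l := 0) rfl N44323 D156448
theorem N78092 : nd 78092 = n156450 := ndS (p := 44323) (l := 2) rfl N44323 D156450
theorem N78093 : nd 78093 = n156451 := ndS (p := 44323) (l := 6) rfl N44323 D156451
theorem N78094 : nd 78094 = n156453 := ndS (p := 44328) (l := 0) rfl N44328 D156453
theorem N78095 : nd 78095 = n156454 := ndS (p := 44328) (l := 1) rfl N44328 D156454
theorem N78096 : nd 78096 = n156455 := ndS (p := 44328) (l := 2) rfl N44328 D156455
theorem N78097 : nd 78097 = n156458 := ndS (p := 44329) (l := 0) rfl N44329 D156458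
theorem N78098 : nd 78098 = n156459 := ndS (p := 44329) (l := 1) rfl N44329 D156459
theorem N78099 : nd 78099 = n156460 := ndS (p := 44329) (l := 2) rfl N44329 D156460
theorem N78100 : nd 78100 = n156463 := ndS (p := 44330) (l := 0) rfl N44330 D156463
theorem N78101 : nd 78101 = n156464 := ndS (p := 44330) (l := 1) rfl N44330 D156464
theorem N78102 : nd 78102 = n156465 := ndS (p := 44330) (l := 2) rfl N44330 D156465
theorem N78103 : nd 78103 = n156473 := ndS (p := 44331) (l := 3) rfl N44331 D156473
theorem N78104 : nd 78104 = n156474 := ndS (p := 44331) (l := 6) rfl N44331 D156474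
theorem N78105 : nd 78105 = n156475 := ndS (p := 44332) (l := 5) rfl N44332 D156475
theorem N78106 : nd 78106 = n156476 := ndS (p := 44332) (l := 6) rfl N44332 D156476
theorem N78107 : nd 78107 = n156479 := ndS (p := 44333) (l := 4) rfl N44333 D156479
theorem N78108 : nd 78108 = n156480 := ndS (p := 44333) (l := 6) rfl N44333 D156480
theorem N78109 : nd 78109 = n156481 := ndS (p := 44334) (l := 0) rfl N44334 D156481
theorem N78110 : nd 78110 = n156483 := ndS (p := 44334) (l := 5) rfl N44334 D156483
theorem N78111 : nd 78111 = n156484 := ndS (p := 44335) (l := 3) rfl N44335 D156484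
theorem N78112 : nd 78112 = n156486 := ndS (p := 44336) (l := 3) rfl N44336 D156486
theorem N78113 : nd 78113 = n156487 := ndS (p := 44336) (l := 6) rfl N44336 D156487
theorem N78114 : nd 78114 = n156490 := ndS (p := 44337) (l := 5) rfl N44337 D156490
theorem N78115 : nd 78115 = n156492 := ndS (p := 44338) (l := 3) rfl N44338 D156492
theorem N78116 : nd 78116 = n156493 := ndS (p := 44338) (l := 5) rfl N44338 D156493
theorem N78117 : nd 78117 = n156494 := ndS (p := 44339) (l := 0) rfl N44339 D156494
theorem N78118 : nd 78118 = n156495 := ndS (p := 44339) (l := 1) rfl N44339 D156495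
theorem N78119 : nd 78119 = n156496 := ndS (p := 44339) (l := 4) rfl N44339 D156496
theorem N78120 : nd 78120 = n156497 := ndS (p := 44339) (l := 7) rfl N44339 D156497
theorem N78121 : nd 78121 = n156498 := ndS (p := 44341) (l := 3) rfl N44341 D156498
theorem N78122 : nd 78122 = n156499 := ndS (p := 44341) (l := 5) rfl N44341 D156499
theorem N78123 : nd 78123 = n156505 := ndS (p := 44342) (l := 3) rfl N44342 D156505
theorem N78124 : nd 78124 = n156512 := ndS (p := 44343) (l := 0) rfl N44343 D156512
theorem N78125 : nd 78125 = n156514 := ndS (p := 44343) (l := 4) rfl N44343 D156514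
theorem N78126 : nd 78126 = n156515 := ndS (p := 44343) (l := 6) rfl N44343 D156515
theorem N78127 : nd 78127 = n156516 := ndS (p := 44344) (l := 3) rfl N44344 D156516
theorem N78128 : nd 78128 = n156517 := ndS (p := 44344) (l := 5) rfl N44344 D156517
theorem N78129 : nd 78129 = n156540 := ndS (p := 44347) (l := 3) rfl N44347 D156540
theorem N78130 : nd 78130 = n156541 := ndS (p := 44347) (l := 4) rfl N44347 D156541
theorem N78131 : nd 78131 = n156542 := ndS (p := 44347) (l := 5) rfl N44347 D156542
theorem N78132 : nd 78132 = n156566 := ndS (p := 44348) (l := 2) rfl N44348 D156566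
theorem N78133 : nd 78133 = n156569 := ndS (p := 44350) (l := 0) rfl N44350 D156569
theorem N78134 : nd 78134 = n156570 := ndS (p := 44350) (l := 1) rfl N44350 D156570
theorem N78135 : nd 78135 = n156579 := ndS (p := 44352) (l := 5) rfl N44352 D156579
theorem N78136 : nd 78136 = n156580 := ndS (p := 44352) (l := 6) rfl N44352 D156580
theorem N78137 : nd 78137 = n156581 := ndS (p := 44353) (l := 4) rfl N44353 D156581
theorem N78138 : nd 78138 = n156582 := ndS (p := 44353) (l := 6) rfl N44353 D156582
theorem N78139 : nd 78139 = n156585 := ndS (p := 44354) (l := 5) rfl N44354 D156585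
theorem N78140 : nd 78140 = n156588 := ndS (p := 44355) (l := 1) rfl N44355 D156588
theorem N78141 : nd 78141 = n156591 := ndS (p := 44356) (l := 3) rfl N44356 D156591
theorem N78142 : nd 78142 = n156593 := ndS (p := 44357) (l := 3) rfl N44357 D156593
theorem N78143 : nd 78143 = n156594 := ndS (p := 44357) (l := 5) rfl N44357 D156594
theorem N78144 : nd 78144 = n156595 := ndS (p := 44357) (l := 6) rfl N44357 D156595
theorem N78145 : nd 78145 = n156597 := ndS (p := 44360) (l := 5) rfl N44360 D156597
theorem N78146 : nd 78146 = n156598 := ndS (p := 44361) (l := 3) rfl N44361 D156598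
theorem N78147 : nd 78147 = n156599 := ndS (p := 44361) (l := 5) rfl N44361 D156599
theorem N78148 : nd 78148 = n156602 := ndS (p := 44364) (l := 3) rfl N44364 D156602
theorem N78149 : nd 78149 = n156604 := ndS (p := 44364) (l := 6) rfl N44364 D156604
theorem N78150 : nd 78150 = n156605 := ndS (p := 44366) (l := 6) rfl N44366 D156605
theorem N78151 : nd 78151 = n156607 := ndS (p := 44367) (l := 3) rfl N44367 D156607
theorem N78152 : nd 78152 = n156608 := ndS (p := 44367) (l := 5) rfl N44367 D156608
theorem N78153 : nd 78153 = n156609 := ndS (p := 44367) (l := 6) rfl N44367 D156609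
theorem N78154 : nd 78154 = n156612 := ndS (p := 44368) (l := 5) rfl N44368 D156612
theorem N78155 : nd 78155 = n156615 := ndS (p := 44369) (l := 5) rfl N44369 D156615
theorem N78156 : nd 78156 = n156636 := ndS (p := 44372) (l := 3) rfl N44372 D156636
theorem N78157 : nd 78157 = n156637 := ndS (p := 44372) (l := 4) rfl N44372 D156637
theorem N78158 : nd 78158 = n156642 := ndS (p := 44373) (l := 4) rfl N44373 D156642
theorem N78159 : nd 78159 = n156644 := ndS (p := 44373) (l := 6) rfl N44373 D156644
theorem N78160 : nd 78160 = n156662 := ndS (p := 44377) (l := 4) rfl N44377 D156662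
theorem N78161 : nd 78161 = n156666 := ndS (p := 44379) (l := 3) rfl N44379 D156666
theorem N78162 : nd 78162 = n156668 := ndS (p := 44380) (l := 5) rfl N44380 D156668
theorem N78163 : nd 78163 = n156669 := ndS (p := 44381) (l := 4) rfl N44381 D156669
theorem N78164 : nd 78164 = n156684 := ndS (p := 44383) (l := 0) rfl N44383 D156684
theorem N78165 : nd 78165 = n156685 := ndS (p := 44383) (l := 1) rfl N44383 D156685
theorem N78166 : nd 78166 = n156686 := ndS (p := 44383) (l := 2) rfl N44383 D156686
theorem N78167 : nd 78167 = n156687 := ndS (p := 44384) (l := 0) rfl N44384 D156687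
theorem N78168 : nd 78168 = n156688 := ndS (p := 44384) (l := 1) rfl N44384 D156688
theorem N78169 : nd 78169 = n156694 := ndS (p := 44386) (l := 3) rfl N44386 D156694
theorem N78170 : nd 78170 = n156695 := ndS (p := 44386) (l := 6) rfl N44386 D156695
theorem N78171 : nd 78171 = n156711 := ndS (p := 44390) (l := 4) rfl N44390 D156711
theorem N78172 : nd 78172 = n156714 := ndS (p := 44392) (l := 6) rfl N44392 D156714
theorem N78173 : nd 78173 = n156715 := ndS (p := 44394) (l := 3) rfl N44394 D156715
theorem N78174 : nd 78174 = n156718 := ndS (p := 44396) (l := 3) rfl N44396 D156718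
theorem N78175 : nd 78175 = n156719 := ndS (p := 44396) (l := 5) rfl N44396 D156719
theorem N78176 : nd 78176 = n156725 := ndS (p := 44397) (l := 6) rfl N44397 D156725
theorem N78177 : nd 78177 = n156726 := ndS (p := 44398) (l := 5) rfl N44398 D156726
theorem N78178 : nd 78178 = n156727 := ndS (p := 44398) (l := 6) rfl N44398 D156727
theorem N78179 : nd 78179 = n156767 := ndS (p := 44400) (l := 5) rfl N44400 D156767
theorem N78180 : nd 78180 = n156773 := ndS (p := 44401) (l := 1) rfl N44401 D156773
theorem N78181 : nd 78181 = n156774 := ndS (p := 44401) (l := 3) rfl N44401 D156774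
theorem N78182 : nd 78182 = n156780 := ndS (p := 44402) (l := 4) rfl N44402 D156780
theorem N78183 : nd 78183 = n156794 := ndS (p := 44405) (l := 6) rfl N44405 D156794
theorem N78184 : nd 78184 = n156795 := ndS (p := 44406) (l := 3) rfl N44406 D156795
theorem N78185 : nd 78185 = n156798 := ndS (p := 44407) (l := 1) rfl N44407 D156798
theorem N78186 : nd 78186 = n156799 := ndS (p := 44407) (l := 4) rfl N44407 D156799
theorem N78187 : nd 78187 = n156803 := ndS (p := 44408) (l := 5) rfl N44408 D156803
theorem N78188 : nd 78188 = n156826 := ndS (p := 44409) (l := 4) rfl N44409 D156826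
theorem N78189 : nd 78189 = n156836 := ndS (p := 44410) (l := 3) rfl N44410 D156836
theorem N78190 : nd 78190 = n156840 := ndS (p := 44411) (l := 3) rfl N44411 D156840
theorem N78191 : nd 78191 = n156841 := ndS (p := 44411) (l := 5) rfl N44411 D156841
theorem N78192 : nd 78192 = n156869 := ndS (p := 44413) (l := 3) rfl N44413 D156869
theorem N78193 : nd 78193 = n156870 := ndS (p := 44413) (l := 5) rfl N44413 D156870
theorem N78194 : nd 78194 = n156874 := ndS (p := 44414) (l := 6) rfl N44414 D156874
theorem N78195 : nd 78195 = n156875 := ndS (p := 44415) (l := 0) rfl N44415 D156875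
theorem N78196 : nd 78196 = n156876 := ndS (p := 44415) (l := 1) rfl N44415 D156876
theorem N78197 : nd 78197 = n156877 := ndS (p := 44415) (l := 4) rfl N44415 D156877
theorem N78198 : nd 78198 = n156878 := ndS (p := 44415) (l := 6) rfl N44415 D156878
theorem N78199 : nd 78199 = n156924 := ndS (p := 44417) (l := 5) rfl N44417 D156924
theorem N78200 : nd 78200 = n156949 := ndS (p := 44418) (l := 5) rfl N44418 D156949
theorem N78201 : nd 78201 = n156950 := ndS (p := 44418) (l := 6) rfl N44418 D156950
theorem N78202 : nd 78202 = n156952 := ndS (p := 44420) (l := 1) rfl N44420 D156952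
theorem N78203 : nd 78203 = n156953 := ndS (p := 44420) (l := 2) rfl N44420 D156953
theorem N78204 : nd 78204 = n156954 := ndS (p := 44420) (l := 6) rfl N44420 D156954
theorem N78205 : nd 78205 = n156957 := ndS (p := 44421) (l := 1) rfl N44421 D156957
theorem N78206 : nd 78206 = n156958 := ndS (p := 44421) (l := 4) rfl N44421 D156958
theorem N78207 : nd 78207 = n156959 := ndS (p := 44421) (l := 6) rfl N44421 D156959
theorem N78208 : nd 78208 = n156963 := ndS (p := 44422) (l := 5) rfl N44422 D156963
theorem N78209 : nd 78209 = n157008 := ndS (p := 44424) (l := 4) rfl N44424 D157008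
theorem N78210 : nd 78210 = n157009 := ndS (p := 44424) (l := 6) rfl N44424 D157009
theorem N78211 : nd 78211 = n157035 := ndS (p := 44425) (l := 5) rfl N44425 D157035
theorem N78212 : nd 78212 = n157036 := ndS (p := 44425) (l := 6) rfl N44425 D157036
theorem N78213 : nd 78213 = n157069 := ndS (p := 44429) (l := 3) rfl N44429 D157069
theorem N78214 : nd 78214 = n157070 := ndS (p := 44429) (l := 4) rfl N44429 D157070
theorem N78215 : nd 78215 = n157076 := ndS (p := 44431) (l := 0) rfl N44431 D157076
theorem N78216 : nd 78216 = n157078 := ndS (p := 44431) (l := 4) rfl N44431 D157078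
theorem N78217 : nd 78217 = n157079 := ndS (p := 44431) (l := 6) rfl N44431 D157079
theorem N78218 : nd 78218 = n157082 := ndS (p := 44432) (l := 5) rfl N44432 D157082
theorem N78219 : nd 78219 = n157091 := ndS (p := 44433) (l := 4) rfl N44433 D157091
theorem N78220 : nd 78220 = n157096 := ndS (p := 44434) (l := 4) rfl N44434 D157096
theorem N78221 : nd 78221 = n157098 := ndS (p := 44434) (l := 6) rfl N44434 D157098
theorem N78222 : nd 78222 = n157101 := ndS (p := 44435) (l := 4) rfl N44435 D157101
theorem N78223 : nd 78223 = n157148 := ndS (p := 44440) (l := 0) rfl N44440 D157148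
theorem N78224 : nd 78224 = n157149 := ndS (p := 44440) (l := 1) rfl N44440 D157149
theorem N78225 : nd 78225 = n157150 := ndS (p := 44440) (l := 2) rfl N44440 D157150
theorem N78226 : nd 78226 = n157151 := ndS (p := 44440) (l := 6) rfl N44440 D157151
theorem N78227 : nd 78227 = n157152 := ndS (p := 44442) (l := 0) rfl N44442 D157152
theorem N78228 : nd 78228 = n157153 := ndS (p := 44442) (l := 1) rfl N44442 D157153
theorem N78229 : nd 78229 = n157154 := ndS (p := 44442) (l := 2) rfl N44442 D157154
theorem N78230 : nd 78230 = n157155 := ndS (p := 44443) (l := 6) rfl N44443 D157155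
theorem N78231 : nd 78231 = n157156 := ndS (p := 44444) (l := 3) rfl N44444 D157156
theorem N78232 : nd 78232 = n157160 := ndS (p := 44447) (l := 0) rfl N44447 D157160
theorem N78233 : nd 78233 = n157161 := ndS (p := 44447) (l := 1) rfl N44447 D157161
theorem N78234 : nd 78234 = n157162 := ndS (p := 44447) (l := 5) rfl N44447 D157162
theorem N78235 : nd 78235 = n157164 := ndS (p := 44448) (l := 0) rfl N44448 D157164
theorem N78236 : nd 78236 = n157165 := ndS (p := 44448) (l := 1) rfl N44448 D157165
theorem N78237 : nd 78237 = n157166 := ndS (p := 44448) (l := 5) rfl N44448 D157166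
theorem N78238 : nd 78238 = n157167 := ndS (p := 44448) (l := 7) rfl N44448 D157167
theorem N78239 : nd 78239 = n157168 := ndS (p := 44449) (l := 3) rfl N44449 D157168
theorem N78240 : nd 78240 = n157169 := ndS (p := 44450) (l := 3) rfl N44450 D157169
theorem N78241 : nd 78241 = n157170 := ndS (p := 44450) (l := 6) rfl N44450 D157170
theorem N78242 : nd 78242 = n157171 := ndS (p := 44451) (l := 4) rfl N44451 D157171
theorem N78243 : nd 78243 = n157172 := ndS (p := 44451) (l := 7) rfl N44451 D157172
theorem N78244 : nd 78244 = n157173 := ndS (p := 44454) (l := 3) rfl N44454 D157173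
theorem N78245 : nd 78245 = n157175 := ndS (p := 44455) (l := 6) rfl N44455 D157175
theorem N78246 : nd 78246 = n157176 := ndS (p := 44456) (l := 3) rfl N44456 D157176
theorem N78247 : nd 78247 = n157177 := ndS (p := 44456) (l := 5) rfl N44456 D157177
theorem N78248 : nd 78248 = n157178 := ndS (p := 44456) (l := 6) rfl N44456 D157178
theorem N78249 : nd 78249 = n157182 := ndS (p := 44458) (l := 1) rfl N44458 D157182
theorem N78250 : nd 78250 = n157183 := ndS (p := 44458) (l := 3) rfl N44458 D157183
theorem N78251 : nd 78251 = n157184 := ndS (p := 44458) (l := 6) rfl N44458 D157184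
theorem N78252 : nd 78252 = n157191 := ndS (p := 44460) (l := 4) rfl N44460 D157191
theorem N78253 : nd 78253 = n157218 := ndS (p := 44462) (l := 5) rfl N44462 D157218
theorem N78254 : nd 78254 = n157219 := ndS (p := 44463) (l := 4) rfl N44463 D157219
theorem N78255 : nd 78255 = n157225 := ndS (p := 44467) (l := 3) rfl N44467 D157225
theorem N78256 : nd 78256 = n157226 := ndS (p := 44467) (l := 6) rfl N44467 D157226
theorem N78257 : nd 78257 = n157227 := ndS (p := 44468) (l := 3) rfl N44468 D157227
theorem N78258 : nd 78258 = n157228 := ndS (p := 44468) (l := 6) rfl N44468 D157228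
theorem N78259 : nd 78259 = n157229 := ndS (p := 44469) (l := 5) rfl N44469 D157229
theorem N78260 : nd 78260 = n157230 := ndS (p := 44469) (l := 6) rfl N44469 D157230
theorem N78261 : nd 78261 = n157231 := ndS (p := 44470) (l := 4) rfl N44470 D157231
theorem N78262 : nd 78262 = n157232 := ndS (p := 44470) (l := 6) rfl N44470 D157232
theorem N78263 : nd 78263 = n157233 := ndS (p := 44471) (l := 0) rfl N44471 D157233
theorem N78264 : nd 78264 = n157235 := ndS (p := 44471) (l := 5) rfl N44471 D157235
theorem N78265 : nd 78265 = n157236 := ndS (p := 44471) (l := 7) rfl N44471 D157236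
theorem N78266 : nd 78266 = n157239 := ndS (p := 44472) (l := 5) rfl N44472 D157239
theorem N78267 : nd 78267 = n157240 := ndS (p := 44472) (l := 7) rfl N44472 D157240
theorem N78268 : nd 78268 = n157241 := ndS (p := 44473) (l := 3) rfl N44473 D157241
theorem N78269 : nd 78269 = n157242 := ndS (p := 44473) (l := 5) rfl N44473 D157242
theorem N78270 : nd 78270 = n157243 := ndS (p := 44474) (l := 0) rfl N44474 D157243
theorem N78271 : nd 78271 = n157244 := ndS (p := 44474) (l := 1) rfl N44474 D157244
theorem N78272 : nd 78272 = n157245 := ndS (p := 44474) (l := 4) rfl N44474 D157245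
theorem N78273 : nd 78273 = n157246 := ndS (p := 44474) (l := 7) rfl N44474 D157246
theorem N78274 : nd 78274 = n157259 := ndS (p := 44476) (l := 3) rfl N44476 D157259
theorem N78275 : nd 78275 = n157260 := ndS (p := 44476) (l := 5) rfl N44476 D157260
theorem N78276 : nd 78276 = n157261 := ndS (p := 44476) (l := 6) rfl N44476 D157261
theorem N78277 : nd 78277 = n157284 := ndS (p := 44479) (l := 3) rfl N44479 D157284
theorem N78278 : nd 78278 = n157285 := ndS (p := 44479) (l := 4) rfl N44479 D157285
theorem N78279 : nd 78279 = n157286 := ndS (p := 44479) (l := 5) rfl N44479 D157286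
theorem N78280 : nd 78280 = n157348 := ndS (p := 44490) (l := 4) rfl N44490 D157348
theorem N78281 : nd 78281 = n157349 := ndS (p := 44490) (l := 6) rfl N44490 D157349
theorem N78282 : nd 78282 = n157355 := ndS (p := 44493) (l := 4) rfl N44493 D157355
theorem N78283 : nd 78283 = n157356 := ndS (p := 44493) (l := 6) rfl N44493 D157356
theorem N78284 : nd 78284 = n157357 := ndS (p := 44494) (l := 0) rfl N44494 D157357
theorem N78285 : nd 78285 = n157358 := ndS (p := 44494) (l := 1) rfl N44494 D157358
theorem N78286 : nd 78286 = n157361 := ndS (p := 44494) (l := 6) rfl N44494 D157361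
theorem N78287 : nd 78287 = n157362 := ndS (p := 44495) (l := 0) rfl N44495 D157362
theorem N78288 : nd 78288 = n157363 := ndS (p := 44495) (l := 1) rfl N44495 D157363
theorem N78289 : nd 78289 = n157364 := ndS (p := 44495) (l := 7) rfl N44495 D157364
theorem N78290 : nd 78290 = n157372 := ndS (p := 44497) (l := 1) rfl N44497 D157372
theorem N78291 : nd 78291 = n157391 := ndS (p := 44499) (l := 4) rfl N44499 D157391
theorem N78292 : nd 78292 = n157392 := ndS (p := 44500) (l := 3) rfl N44500 D157392
theorem N78293 : nd 78293 = n157393 := ndS (p := 44500) (l := 5) rfl N44500 D157393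
theorem N78294 : nd 78294 = n157396 := ndS (p := 44501) (l := 1) rfl N44501 D157396
theorem N78295 : nd 78295 = n157397 := ndS (p := 44501) (l := 5) rfl N44501 D157397
theorem N78296 : nd 78296 = n157398 := ndS (p := 44501) (l := 7) rfl N44501 D157398
theorem N78297 : nd 78297 = n157399 := ndS (p := 44502) (l := 4) rfl N44502 D157399
theorem N78298 : nd 78298 = n157400 := ndS (p := 44503) (l := 3) rfl N44503 D157400
theorem N78299 : nd 78299 = n157401 := ndS (p := 44503) (l := 5) rfl N44503 D157401
theorem N78300 : nd 78300 = n157402 := ndS (p := 44503) (l := 6) rfl N44503 D157402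
theorem N78301 : nd 78301 = n157403 := ndS (p := 44504) (l := 4) rfl N44504 D157403
theorem N78302 : nd 78302 = n157404 := ndS (p := 44504) (l := 6) rfl N44504 D157404
theorem N78303 : nd 78303 = n157409 := ndS (p := 44505) (l := 4) rfl N44505 D157409
theorem N78304 : nd 78304 = n157411 := ndS (p := 44507) (l := 1) rfl N44507 D157411
theorem N78305 : nd 78305 = n157412 := ndS (p := 44507) (l := 4) rfl N44507 D157412
theorem N78306 : nd 78306 = n157414 := ndS (p := 44509) (l := 0) rfl N44509 D157414
theorem N78307 : nd 78307 = n157416 := ndS (p := 44510) (l := 4) rfl N44510 D157416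
theorem N78308 : nd 78308 = n157426 := ndS (p := 44515) (l := 1) rfl N44515 D157426
theorem N78309 : nd 78309 = n157427 := ndS (p := 44515) (l := 7) rfl N44515 D157427
theorem N78310 : nd 78310 = n157428 := ndS (p := 44516) (l := 4) rfl N44516 D157428
theorem N78311 : nd 78311 = n157429 := ndS (p := 44517) (l := 1) rfl N44517 D157429
theorem N78312 : nd 78312 = n157433 := ndS (p := 44519) (l := 1) rfl N44519 D157433
theorem N78313 : nd 78313 = n157434 := ndS (p := 44519) (l := 7) rfl N44519 D157434
theorem N78314 : nd 78314 = n157438 := ndS (p := 44521) (l := 6) rfl N44521 D157438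
theorem N78315 : nd 78315 = n157439 := ndS (p := 44523) (l := 0) rfl N44523 D157439
theorem N78316 : nd 78316 = n157440 := ndS (p := 44523) (l := 1) rfl N44523 D157440
theorem N78317 : nd 78317 = n157441 := ndS (p := 44523) (l := 2) rfl N44523 D157441
theorem N78318 : nd 78318 = n157456 := ndS (p := 44529) (l := 3) rfl N44529 D157456
theorem N78319 : nd 78319 = n157457 := ndS (p := 44529) (l := 5) rfl N44529 D157457
theorem N78320 : nd 78320 = n157460 := ndS (p := 44530) (l := 4) rfl N44530 D157460
theorem N78321 : nd 78321 = n157462 := ndS (p := 44531) (l := 6) rfl N44531 D157462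
theorem N78322 : nd 78322 = n157465 := ndS (p := 44535) (l := 5) rfl N44535 D157465
theorem N78323 : nd 78323 = n157468 := ndS (p := 44536) (l := 4) rfl N44536 D157468
theorem N78324 : nd 78324 = n157469 := ndS (p := 44536) (l := 5) rfl N44536 D157469
theorem N78325 : nd 78325 = n157475 := ndS (p := 44539) (l := 6) rfl N44539 D157475
theorem N78326 : nd 78326 = n157478 := ndS (p := 44540) (l := 5) rfl N44540 D157478
theorem N78327 : nd 78327 = n157527 := ndS (p := 44552) (l := 3) rfl N44552 D157527
theorem N78328 : nd 78328 = n157550 := ndS (p := 44554) (l := 1) rfl N44554 D157550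
theorem N78329 : nd 78329 = n157563 := ndS (p := 44557) (l := 4) rfl N44557 D157563
theorem N78330 : nd 78330 = n157564 := ndS (p := 44558) (l := 6) rfl N44558 D157564
theorem N78331 : nd 78331 = n157570 := ndS (p := 44560) (l := 0) rfl N44560 D157570
theorem N78332 : nd 78332 = n157571 := ndS (p := 44560) (l := 1) rfl N44560 D157571
theorem N78333 : nd 78333 = n157572 := ndS (p := 44560) (l := 6) rfl N44560 D157572
theorem N78334 : nd 78334 = n157573 := ndS (p := 44561) (l := 0) rfl N44561 D157573
theorem N78335 : nd 78335 = n157574 := ndS (p := 44561) (l := 1) rfl N44561 D157574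
theorem N78336 : nd 78336 = n157575 := ndS (p := 44561) (l := 5) rfl N44561 D157575
theorem N78337 : nd 78337 = n157576 := ndS (p := 44561) (l := 7) rfl N44561 D157576
theorem N78338 : nd 78338 = n157581 := ndS (p := 44562) (l := 6) rfl N44562 D157581
theorem N78339 : nd 78339 = n157586 := ndS (p := 44563) (l := 6) rfl N44563 D157586
theorem N78340 : nd 78340 = n157587 := ndS (p := 44564) (l := 0) rfl N44564 D157587
theorem N78341 : nd 78341 = n157588 := ndS (p := 44564) (l := 1) rfl N44564 D157588
theorem N78342 : nd 78342 = n157589 := ndS (p := 44564) (l := 4) rfl N44564 D157589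
theorem N78343 : nd 78343 = n157590 := ndS (p := 44564) (l := 7) rfl N44564 D157590
theorem N78344 : nd 78344 = n157596 := ndS (p := 44567) (l := 4) rfl N44567 D157596
theorem N78345 : nd 78345 = n157597 := ndS (p := 44567) (l := 6) rfl N44567 D157597
theorem N78346 : nd 78346 = n157603 := ndS (p := 44568) (l := 6) rfl N44568 D157603
theorem N78347 : nd 78347 = n157610 := ndS (p := 44571) (l := 3) rfl N44571 D157610
theorem N78348 : nd 78348 = n157611 := ndS (p := 44571) (l := 4) rfl N44571 D157611
theorem N78349 : nd 78349 = n157612 := ndS (p := 44571) (l := 6) rfl N44571 D157612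
theorem N78350 : nd 78350 = n157613 := ndS (p := 44572) (l := 0) rfl N44572 D157613
theorem N78351 : nd 78351 = n157616 := ndS (p := 44572) (l := 7) rfl N44572 D157616
theorem N78352 : nd 78352 = n157617 := ndS (p := 44573) (l := 6) rfl N44573 D157617
theorem N78353 : nd 78353 = n157618 := ndS (p := 44574) (l := 3) rfl N44574 D157618
theorem N78354 : nd 78354 = n157619 := ndS (p := 44574) (l := 5) rfl N44574 D157619
theorem N78355 : nd 78355 = n157626 := ndS (p := 44575) (l := 5) rfl N44575 D157626
theorem N78356 : nd 78356 = n157628 := ndS (p := 44576) (l := 4) rfl N44576 D157628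
theorem N78357 : nd 78357 = n157631 := ndS (p := 44577) (l := 0) rfl N44577 D157631
theorem N78358 : nd 78358 = n157634 := ndS (p := 44579) (l := 5) rfl N44579 D157634
theorem N78359 : nd 78359 = n157635 := ndS (p := 44579) (l := 6) rfl N44579 D157635
theorem N78360 : nd 78360 = n157636 := ndS (p := 44580) (l := 4) rfl N44580 D157636
theorem N78361 : nd 78361 = n157641 := ndS (p := 44584) (l := 0) rfl N44584 D157641
theorem N78362 : nd 78362 = n157642 := ndS (p := 44584) (l := 2) rfl N44584 D157642
theorem N78363 : nd 78363 = n157643 := ndS (p := 44585) (l := 6) rfl N44585 D157643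
theorem N78364 : nd 78364 = n157664 := ndS (p := 44586) (l := 0) rfl N44586 D157664
theorem N78365 : nd 78365 = n157665 := ndS (p := 44586) (l := 4) rfl N44586 D157665
theorem N78366 : nd 78366 = n157668 := ndS (p := 44588) (l := 4) rfl N44588 D157668
theorem N78367 : nd 78367 = n157669 := ndS (p := 44589) (l := 0) rfl N44589 D157669
theorem N78368 : nd 78368 = n157672 := ndS (p := 44589) (l := 5) rfl N44589 D157672
theorem N78369 : nd 78369 = n157673 := ndS (p := 44589) (l := 6) rfl N44589 D157673
theorem N78370 : nd 78370 = n157697 := ndS (p := 44599) (l := 3) rfl N44599 D157697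
theorem N78371 : nd 78371 = n157698 := ndS (p := 44599) (l := 4) rfl N44599 D157698
theorem N78372 : nd 78372 = n157700 := ndS (p := 44599) (l := 6) rfl N44599 D157700
theorem N78373 : nd 78373 = n157702 := ndS (p := 44600) (l := 3) rfl N44600 D157702
theorem N78374 : nd 78374 = n157703 := ndS (p := 44600) (l := 4) rfl N44600 D157703
theorem N78375 : nd 78375 = n157705 := ndS (p := 44600) (l := 6) rfl N44600 D157705
theorem N78376 : nd 78376 = n157708 := ndS (p := 44602) (l := 2) rfl N44602 D157708
theorem N78377 : nd 78377 = n157712 := ndS (p := 44605) (l := 6) rfl N44605 D157712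
theorem N78378 : nd 78378 = n157719 := ndS (p := 44607) (l := 1) rfl N44607 D157719
theorem N78379 : nd 78379 = n157720 := ndS (p := 44607) (l := 4) rfl N44607 D157720
theorem N78380 : nd 78380 = n157721 := ndS (p := 44608) (l := 1) rfl N44608 D157721
theorem N78381 : nd 78381 = n157726 := ndS (p := 44609) (l := 5) rfl N44609 D157726
theorem N78382 : nd 78382 = n157728 := ndS (p := 44610) (l := 4) rfl N44610 D157728
theorem N78383 : nd 78383 = n157729 := ndS (p := 44610) (l := 6) rfl N44610 D157729
theorem N78384 : nd 78384 = n157731 := ndS (p := 44612) (l := 6) rfl N44612 D157731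
theorem N78385 : nd 78385 = n157732 := ndS (p := 44613) (l := 3) rfl N44613 D157732
theorem N78386 : nd 78386 = n157733 := ndS (p := 44613) (l := 6) rfl N44613 D157733
theorem N78387 : nd 78387 = n157737 := ndS (p := 44615) (l := 6) rfl N44615 D157737
theorem N78388 : nd 78388 = n157738 := ndS (p := 44616) (l := 0) rfl N44616 D157738
theorem N78389 : nd 78389 = n157739 := ndS (p := 44616) (l := 1) rfl N44616 D157739
theorem N78390 : nd 78390 = n157740 := ndS (p := 44616) (l := 5) rfl N44616 D157740
theorem N78391 : nd 78391 = n157741 := ndS (p := 44616) (l := 7) rfl N44616 D157741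
theorem N78392 : nd 78392 = n157745 := ndS (p := 44618) (l := 0) rfl N44618 D157745
theorem N78393 : nd 78393 = n157746 := ndS (p := 44618) (l := 1) rfl N44618 D157746
theorem N78394 : nd 78394 = n157752 := ndS (p := 44620) (l := 0) rfl N44620 D157752
theorem N78395 : nd 78395 = n157753 := ndS (p := 44620) (l := 1) rfl N44620 D157753
theorem N78396 : nd 78396 = n157754 := ndS (p := 44620) (l := 2) rfl N44620 D157754
theorem N78397 : nd 78397 = n157777 := ndS (p := 44624) (l := 5) rfl N44624 D157777
theorem N78398 : nd 78398 = n157786 := ndS (p := 44628) (l := 1) rfl N44628 D157786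
theorem N78399 : nd 78399 = n157787 := ndS (p := 44628) (l := 2) rfl N44628 D157787
theorem N78400 : nd 78400 = n157792 := ndS (p := 44630) (l := 3) rfl N44630 D157792
theorem N78401 : nd 78401 = n157800 := ndS (p := 44632) (l := 5) rfl N44632 D157800
theorem N78402 : nd 78402 = n157801 := ndS (p := 44633) (l := 0) rfl N44633 D157801
theorem N78403 : nd 78403 = n157802 := ndS (p := 44633) (l := 1) rfl N44633 D157802
theorem N78404 : nd 78404 = n157803 := ndS (p := 44633) (l := 4) rfl N44633 D157803
theorem N78405 : nd 78405 = n157807 := ndS (p := 44635) (l := 3) rfl N44635 D157807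
theorem N78406 : nd 78406 = n157808 := ndS (p := 44635) (l := 6) rfl N44635 D157808
theorem N78407 : nd 78407 = n157809 := ndS (p := 44636) (l := 0) rfl N44636 D157809
theorem N78408 : nd 78408 = n157811 := ndS (p := 44636) (l := 7) rfl N44636 D157811
theorem N78409 : nd 78409 = n157819 := ndS (p := 44637) (l := 1) rfl N44637 D157819
theorem N78410 : nd 78410 = n157824 := ndS (p := 44638) (l := 1) rfl N44638 D157824
theorem N78411 : nd 78411 = n157825 := ndS (p := 44638) (l := 3) rfl N44638 D157825
theorem N78412 : nd 78412 = n157826 := ndS (p := 44638) (l := 5) rfl N44638 D157826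
theorem N78413 : nd 78413 = n157827 := ndS (p := 44638) (l := 6) rfl N44638 D157827
theorem N78414 : nd 78414 = n157834 := ndS (p := 44639) (l := 0) rfl N44639 D157834
theorem N78415 : nd 78415 = n157840 := ndS (p := 44640) (l := 2) rfl N44640 D157840
theorem N78416 : nd 78416 = n157841 := ndS (p := 44640) (l := 4) rfl N44640 D157841
theorem N78417 : nd 78417 = n157842 := ndS (p := 44640) (l := 6) rfl N44640 D157842
theorem N78418 : nd 78418 = n157843 := ndS (p := 44641) (l := 3) rfl N44641 D157843
theorem N78419 : nd 78419 = n157844 := ndS (p := 44641) (l := 5) rfl N44641 D157844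
theorem N78420 : nd 78420 = n157845 := ndS (p := 44641) (l := 6) rfl N44641 D157845
theorem N78421 : nd 78421 = n157851 := ndS (p := 44643) (l := 6) rfl N44643 D157851
theorem N78422 : nd 78422 = n157852 := ndS (p := 44645) (l := 3) rfl N44645 D157852
theorem N78423 : nd 78423 = n157853 := ndS (p := 44645) (l := 5) rfl N44645 D157853
theorem N78424 : nd 78424 = n157854 := ndS (p := 44646) (l := 0) rfl N44646 D157854
theorem N78425 : nd 78425 = n157855 := ndS (p := 44646) (l := 1) rfl N44646 D157855
theorem N78426 : nd 78426 = n157856 := ndS (p := 44646) (l := 2) rfl N44646 D157856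
theorem N78427 : nd 78427 = n157857 := ndS (p := 44646) (l := 5) rfl N44646 D157857
theorem N78428 : nd 78428 = n157859 := ndS (p := 44648) (l := 0) rfl N44648 D157859
theorem N78429 : nd 78429 = n157860 := ndS (p := 44648) (l := 1) rfl N44648 D157860
theorem N78430 : nd 78430 = n157861 := ndS (p := 44648) (l := 2) rfl N44648 D157861
theorem N78431 : nd 78431 = n157862 := ndS (p := 44648) (l := 5) rfl N44648 D157862
theorem N78432 : nd 78432 = n157863 := ndS (p := 44649) (l := 6) rfl N44649 D157863
theorem N78433 : nd 78433 = n157865 := ndS (p := 44650) (l := 1) rfl N44650 D157865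
theorem N78434 : nd 78434 = n157866 := ndS (p := 44650) (l := 2) rfl N44650 D157866
theorem N78435 : nd 78435 = n157867 := ndS (p := 44650) (l := 5) rfl N44650 D157867
theorem N78436 : nd 78436 = n157869 := ndS (p := 44652) (l := 3) rfl N44652 D157869
theorem N78437 : nd 78437 = n157872 := ndS (p := 44653) (l := 1) rfl N44653 D157872
theorem N78438 : nd 78438 = n157873 := ndS (p := 44653) (l := 2) rfl N44653 D157873
theorem N78439 : nd 78439 = n157874 := ndS (p := 44653) (l := 5) rfl N44653 D157874
theorem N78440 : nd 78440 = n157875 := ndS (p := 44653) (l := 6) rfl N44653 D157875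
theorem N78441 : nd 78441 = n157876 := ndS (p := 44654) (l := 6) rfl N44654 D157876
theorem N78442 : nd 78442 = n157877 := ndS (p := 44655) (l := 0) rfl N44655 D157877
theorem N78443 : nd 78443 = n157878 := ndS (p := 44655) (l := 1) rfl N44655 D157878
theorem N78444 : nd 78444 = n157879 := ndS (p := 44655) (l := 5) rfl N44655 D157879
theorem N78445 : nd 78445 = n157881 := ndS (p := 44656) (l := 4) rfl N44656 D157881
theorem N78446 : nd 78446 = n157882 := ndS (p := 44657) (l := 3) rfl N44657 D157882
theorem N78447 : nd 78447 = n157883 := ndS (p := 44657) (l := 5) rfl N44657 D157883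
theorem N78448 : nd 78448 = n157888 := ndS (p := 44658) (l := 0) rfl N44658 D157888
theorem N78449 : nd 78449 = n157889 := ndS (p := 44658) (l := 1) rfl N44658 D157889
theorem N78450 : nd 78450 = n157890 := ndS (p := 44658) (l := 2) rfl N44658 D157890
theorem N78451 : nd 78451 = n157891 := ndS (p := 44658) (l := 5) rfl N44658 D157891
theorem N78452 : nd 78452 = n157899 := ndS (p := 44660) (l := 0) rfl N44660 D157899
theorem N78453 : nd 78453 = n157900 := ndS (p := 44660) (l := 1) rfl N44660 D157900
theorem N78454 : nd 78454 = n157902 := ndS (p := 44660) (l := 5) rfl N44660 D157902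
theorem N78455 : nd 78455 = n157918 := ndS (p := 44664) (l := 3) rfl N44664 D157918
theorem N78456 : nd 78456 = n157920 := ndS (p := 44664) (l := 5) rfl N44664 D157920
theorem N78457 : nd 78457 = n157921 := ndS (p := 44664) (l := 6) rfl N44664 D157921
theorem N78458 : nd 78458 = n157923 := ndS (p := 44665) (l := 3) rfl N44665 D157923
theorem N78459 : nd 78459 = n157924 := ndS (p := 44665) (l := 5) rfl N44665 D157924
theorem N78460 : nd 78460 = n157926 := ndS (p := 44666) (l := 5) rfl N44666 D157926
theorem N78461 : nd 78461 = n157927 := ndS (p := 44667) (l := 0) rfl N44667 D157927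
theorem N78462 : nd 78462 = n157928 := ndS (p := 44667) (l := 1) rfl N44667 D157928
theorem N78463 : nd 78463 = n157931 := ndS (p := 44668) (l := 3) rfl N44668 D157931
theorem N78464 : nd 78464 = n157935 := ndS (p := 44669) (l := 3) rfl N44669 D157935
theorem N78465 : nd 78465 = n157937 := ndS (p := 44670) (l := 0) rfl N44670 D157937
theorem N78466 : nd 78466 = n157939 := ndS (p := 44670) (l := 7) rfl N44670 D157939
theorem N78467 : nd 78467 = n157952 := ndS (p := 44671) (l := 0) rfl N44671 D157952
theorem N78468 : nd 78468 = n157953 := ndS (p := 44671) (l := 1) rfl N44671 D157953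
theorem N78469 : nd 78469 = n157955 := ndS (p := 44671) (l := 5) rfl N44671 D157955
theorem N78470 : nd 78470 = n157956 := ndS (p := 44671) (l := 6) rfl N44671 D157956
theorem N78471 : nd 78471 = n157966 := ndS (p := 44672) (l := 7) rfl N44672 D157966
theorem N78472 : nd 78472 = n157968 := ndS (p := 44673) (l := 0) rfl N44673 D157968
theorem N78473 : nd 78473 = n157971 := ndS (p := 44673) (l := 4) rfl N44673 D157971
theorem N78474 : nd 78474 = n157973 := ndS (p := 44673) (l := 6) rfl N44673 D157973
theorem N78475 : nd 78475 = n157974 := ndS (p := 44674) (l := 3) rfl N44674 D157974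
theorem N78476 : nd 78476 = n157975 := ndS (p := 44674) (l := 5) rfl N44674 D157975
theorem N78477 : nd 78477 = n157976 := ndS (p := 44674) (l := 6) rfl N44674 D157976
theorem N78478 : nd 78478 = n157980 := ndS (p := 44675) (l := 1) rfl N44675 D157980
theorem N78479 : nd 78479 = n157983 := ndS (p := 44676) (l := 6) rfl N44676 D157983
theorem N78480 : nd 78480 = n157985 := ndS (p := 44678) (l := 0) rfl N44678 D157985
theorem N78481 : nd 78481 = n157987 := ndS (p := 44678) (l := 5) rfl N44678 D157987
theorem N78482 : nd 78482 = n157988 := ndS (p := 44678) (l := 7) rfl N44678 D157988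
theorem N78483 : nd 78483 = n157994 := ndS (p := 44680) (l := 4) rfl N44680 D157994
theorem N78484 : nd 78484 = n158000 := ndS (p := 44683) (l := 3) rfl N44683 D158000
theorem N78485 : nd 78485 = n158003 := ndS (p := 44684) (l := 0) rfl N44684 D158003
theorem N78486 : nd 78486 = n158004 := ndS (p := 44684) (l := 1) rfl N44684 D158004
theorem N78487 : nd 78487 = n158005 := ndS (p := 44684) (l := 2) rfl N44684 D158005
theorem N78488 : nd 78488 = n158015 := ndS (p := 44685) (l := 5) rfl N44685 D158015
theorem N78489 : nd 78489 = n158019 := ndS (p := 44686) (l := 3) rfl N44686 D158019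
theorem N78490 : nd 78490 = n158020 := ndS (p := 44686) (l := 5) rfl N44686 D158020
theorem N78491 : nd 78491 = n158024 := ndS (p := 44687) (l := 0) rfl N44687 D158024
theorem N78492 : nd 78492 = n158026 := ndS (p := 44687) (l := 2) rfl N44687 D158026
theorem N78493 : nd 78493 = n158027 := ndS (p := 44687) (l := 5) rfl N44687 D158027
theorem N78494 : nd 78494 = n158028 := ndS (p := 44688) (l := 6) rfl N44688 D158028
theorem N78495 : nd 78495 = n158031 := ndS (p := 44689) (l := 0) rfl N44689 D158031
theorem N78496 : nd 78496 = n158032 := ndS (p := 44689) (l := 1) rfl N44689 D158032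
theorem N78497 : nd 78497 = n158033 := ndS (p := 44689) (l := 2) rfl N44689 D158033
theorem N78498 : nd 78498 = n158041 := ndS (p := 44690) (l := 0) rfl N44690 D158041
theorem N78499 : nd 78499 = n158042 := ndS (p := 44690) (l := 1) rfl N44690 D158042
theorem N78500 : nd 78500 = n158043 := ndS (p := 44690) (l := 2) rfl N44690 D158043
theorem N78501 : nd 78501 = n158045 := ndS (p := 44691) (l := 6) rfl N44691 D158045
theorem N78502 : nd 78502 = n158047 := ndS (p := 44692) (l := 2) rfl N44692 D158047
theorem N78503 : nd 78503 = n158048 := ndS (p := 44692) (l := 3) rfl N44692 D158048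
theorem N78504 : nd 78504 = n158049 := ndS (p := 44692) (l := 4) rfl N44692 D158049
theorem N78505 : nd 78505 = n158050 := ndS (p := 44692) (l := 5) rfl N44692 D158050
theorem N78506 : nd 78506 = n158051 := ndS (p := 44692) (l := 6) rfl N44692 D158051
theorem N78507 : nd 78507 = n158052 := ndS (p := 44692) (l := 7) rfl N44692 D158052
theorem N78508 : nd 78508 = n158053 := ndS (p := 44693) (l := 3) rfl N44693 D158053
theorem N78509 : nd 78509 = n158059 := ndS (p := 44694) (l := 5) rfl N44694 D158059
theorem N78510 : nd 78510 = n158060 := ndS (p := 44695) (l := 0) rfl N44695 D158060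
theorem N78511 : nd 78511 = n158061 := ndS (p := 44695) (l := 1) rfl N44695 D158061
theorem N78512 : nd 78512 = n158062 := ndS (p := 44695) (l := 4) rfl N44695 D158062
theorem N78513 : nd 78513 = n158063 := ndS (p := 44695) (l := 6) rfl N44695 D158063
theorem N78514 : nd 78514 = n158066 := ndS (p := 44697) (l := 3) rfl N44697 D158066
theorem N78515 : nd 78515 = n158067 := ndS (p := 44697) (l := 6) rfl N44697 D158067
theorem N78516 : nd 78516 = n158068 := ndS (p := 44698) (l := 3) rfl N44698 D158068
theorem N78517 : nd 78517 = n158069 := ndS (p := 44698) (l := 6) rfl N44698 D158069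
theorem N78518 : nd 78518 = n158070 := ndS (p := 44699) (l := 0) rfl N44699 D158070
theorem N78519 : nd 78519 = n158071 := ndS (p := 44699) (l := 1) rfl N44699 D158071
theorem N78520 : nd 78520 = n158072 := ndS (p := 44699) (l := 7) rfl N44699 D158072
theorem N78521 : nd 78521 = n158092 := ndS (p := 44700) (l := 0) rfl N44700 D158092
theorem N78522 : nd 78522 = n158093 := ndS (p := 44700) (l := 1) rfl N44700 D158093
theorem N78523 : nd 78523 = n158094 := ndS (p := 44700) (l := 2) rfl N44700 D158094
theorem N78524 : nd 78524 = n158095 := ndS (p := 44700) (l := 6) rfl N44700 D158095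
theorem N78525 : nd 78525 = n158098 := ndS (p := 44701) (l := 5) rfl N44701 D158098
theorem N78526 : nd 78526 = n158100 := ndS (p := 44702) (l := 0) rfl N44702 D158100
theorem N78527 : nd 78527 = n158102 := ndS (p := 44702) (l := 2) rfl N44702 D158102
theorem N78528 : nd 78528 = n158107 := ndS (p := 44703) (l := 3) rfl N44703 D158107
theorem N78529 : nd 78529 = n158110 := ndS (p := 44703) (l := 6) rfl N44703 D158110
theorem N78530 : nd 78530 = n158112 := ndS (p := 44704) (l := 3) rfl N44704 D158112
theorem N78531 : nd 78531 = n158116 := ndS (p := 44705) (l := 5) rfl N44705 D158116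
theorem N78532 : nd 78532 = n158117 := ndS (p := 44706) (l := 0) rfl N44706 D158117
theorem N78533 : nd 78533 = n158118 := ndS (p := 44706) (l := 1) rfl N44706 D158118
theorem N78534 : nd 78534 = n158119 := ndS (p := 44706) (l := 4) rfl N44706 D158119
theorem N78535 : nd 78535 = n158120 := ndS (p := 44706) (l := 6) rfl N44706 D158120
theorem N78536 : nd 78536 = n158121 := ndS (p := 44707) (l := 3) rfl N44707 D158121
theorem N78537 : nd 78537 = n158122 := ndS (p := 44707) (l := 6) rfl N44707 D158122
theorem N78538 : nd 78538 = n158125 := ndS (p := 44709) (l := 0) rfl N44709 D158125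
theorem N78539 : nd 78539 = n158126 := ndS (p := 44709) (l := 1) rfl N44709 D158126
theorem N78540 : nd 78540 = n158127 := ndS (p := 44709) (l := 7) rfl N44709 D158127
theorem N78541 : nd 78541 = n158128 := ndS (p := 44710) (l := 1) rfl N44710 D158128
theorem N78542 : nd 78542 = n158130 := ndS (p := 44711) (l := 5) rfl N44711 D158130
theorem N78543 : nd 78543 = n158137 := ndS (p := 44713) (l := 6) rfl N44713 D158137
theorem N78544 : nd 78544 = n158138 := ndS (p := 44714) (l := 5) rfl N44714 D158138
theorem N78545 : nd 78545 = n158142 := ndS (p := 44715) (l := 5) rfl N44715 D158142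
theorem N78546 : nd 78546 = n158157 := ndS (p := 44719) (l := 6) rfl N44719 D158157
theorem N78547 : nd 78547 = n158174 := ndS (p := 44721) (l := 5) rfl N44721 D158174
theorem N78548 : nd 78548 = n158175 := ndS (p := 44721) (l := 6) rfl N44721 D158175
theorem N78549 : nd 78549 = n158209 := ndS (p := 44724) (l := 6) rfl N44724 D158209
theorem N78550 : nd 78550 = n158220 := ndS (p := 44729) (l := 6) rfl N44729 D158220
theorem N78551 : nd 78551 = n158221 := ndS (p := 44730) (l := 5) rfl N44730 D158221
theorem N78552 : nd 78552 = n158230 := ndS (p := 44733) (l := 0) rfl N44733 D158230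
theorem N78553 : nd 78553 = n158231 := ndS (p := 44733) (l := 1) rfl N44733 D158231
theorem N78554 : nd 78554 = n158315 := ndS (p := 44739) (l := 1) rfl N44739 D158315
theorem N78555 : nd 78555 = n158317 := ndS (p := 44739) (l := 7) rfl N44739 D158317
theorem N78556 : nd 78556 = n158321 := ndS (p := 44740) (l := 7) rfl N44740 D158321
theorem N78557 : nd 78557 = n158323 := ndS (p := 44741) (l := 5) rfl N44741 D158323
theorem N78558 : nd 78558 = n158324 := ndS (p := 44741) (l := 6) rfl N44741 D158324
theorem N78559 : nd 78559 = n158325 := ndS (p := 44742) (l := 5) rfl N44742 D158325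
theorem N78560 : nd 78560 = n158326 := ndS (p := 44742) (l := 6) rfl N44742 D158326
theorem N78561 : nd 78561 = n158327 := ndS (p := 44743) (l := 0) rfl N44743 D158327
theorem N78562 : nd 78562 = n158330 := ndS (p := 44743) (l := 7) rfl N44743 D158330
theorem N78563 : nd 78563 = n158332 := ndS (p := 44745) (l := 1) rfl N44745 D158332
theorem N78564 : nd 78564 = n158334 := ndS (p := 44745) (l := 7) rfl N44745 D158334
theorem N78565 : nd 78565 = n158336 := ndS (p := 44747) (l := 6) rfl N44747 D158336
theorem N78566 : nd 78566 = n158339 := ndS (p := 44749) (l := 0) rfl N44749 D158339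
theorem N78567 : nd 78567 = n158342 := ndS (p := 44750) (l := 6) rfl N44750 D158342
theorem N78568 : nd 78568 = n158345 := ndS (p := 44751) (l := 5) rfl N44751 D158345
theorem N78569 : nd 78569 = n158346 := ndS (p := 44751) (l := 6) rfl N44751 D158346
theorem N78570 : nd 78570 = n158347 := ndS (p := 44752) (l := 4) rfl N44752 D158347
theorem N78571 : nd 78571 = n158348 := ndS (p := 44752) (l := 6) rfl N44752 D158348
theorem N78572 : nd 78572 = n158383 := ndS (p := 44760) (l := 3) rfl N44760 D158383
theorem N78573 : nd 78573 = n158384 := ndS (p := 44760) (l := 5) rfl N44760 D158384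
theorem N78574 : nd 78574 = n158386 := ndS (p := 44761) (l := 5) rfl N44761 D158386
theorem N78575 : nd 78575 = n158388 := ndS (p := 44762) (l := 0) rfl N44762 D158388
theorem N78576 : nd 78576 = n158389 := ndS (p := 44762) (l := 1) rfl N44762 D158389
theorem N78577 : nd 78577 = n158391 := ndS (p := 44762) (l := 7) rfl N44762 D158391
theorem N78578 : nd 78578 = n158394 := ndS (p := 44764) (l := 6) rfl N44764 D158394
theorem N78579 : nd 78579 = n158406 := ndS (p := 44765) (l := 3) rfl N44765 D158406
theorem N78580 : nd 78580 = n158420 := ndS (p := 44768) (l := 3) rfl N44768 D158420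
theorem N78581 : nd 78581 = n158421 := ndS (p := 44768) (l := 5) rfl N44768 D158421
theorem N78582 : nd 78582 = n158422 := ndS (p := 44768) (l := 6) rfl N44768 D158422
theorem N78583 : nd 78583 = n158423 := ndS (p := 44769) (l := 0) rfl N44769 D158423
theorem N78584 : nd 78584 = n158424 := ndS (p := 44769) (l := 1) rfl N44769 D158424
theorem N78585 : nd 78585 = n158426 := ndS (p := 44769) (l := 7) rfl N44769 D158426
theorem N78586 : nd 78586 = n158427 := ndS (p := 44771) (l := 3) rfl N44771 D158427
theorem N78587 : nd 78587 = n158441 := ndS (p := 44775) (l := 0) rfl N44775 D158441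
theorem N78588 : nd 78588 = n158442 := ndS (p := 44775) (l := 1) rfl N44775 D158442
theorem N78589 : nd 78589 = n158443 := ndS (p := 44775) (l := 5) rfl N44775 D158443
theorem N78590 : nd 78590 = n158444 := ndS (p := 44776) (l := 1) rfl N44776 D158444
theorem N78591 : nd 78591 = n158445 := ndS (p := 44776) (l := 4) rfl N44776 D158445
theorem N78592 : nd 78592 = n158447 := ndS (p := 44777) (l := 1) rfl N44777 D158447
theorem N78593 : nd 78593 = n158448 := ndS (p := 44777) (l := 5) rfl N44777 D158448
theorem N78594 : nd 78594 = n158449 := ndS (p := 44777) (l := 7) rfl N44777 D158449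
theorem N78595 : nd 78595 = n158458 := ndS (p := 44781) (l := 1) rfl N44781 D158458
theorem N78596 : nd 78596 = n158460 := ndS (p := 44781) (l := 7) rfl N44781 D158460
theorem N78597 : nd 78597 = n158464 := ndS (p := 44782) (l := 5) rfl N44782 D158464
theorem N78598 : nd 78598 = n158469 := ndS (p := 44783) (l := 5) rfl N44783 D158469
theorem N78599 : nd 78599 = n158472 := ndS (p := 44784) (l := 1) rfl N44784 D158472
theorem N78600 : nd 78600 = n158483 := ndS (p := 44786) (l := 6) rfl N44786 D158483
theorem N78601 : nd 78601 = n158491 := ndS (p := 44789) (l := 6) rfl N44789 D158491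
theorem N78602 : nd 78602 = n158497 := ndS (p := 44791) (l := 6) rfl N44791 D158497
theorem N78603 : nd 78603 = n158517 := ndS (p := 44792) (l := 1) rfl N44792 D158517
theorem N78604 : nd 78604 = n158522 := ndS (p := 44793) (l := 1) rfl N44793 D158522
theorem N78605 : nd 78605 = n158531 := ndS (p := 44794) (l := 4) rfl N44794 D158531
theorem N78606 : nd 78606 = n158533 := ndS (p := 44795) (l := 0) rfl N44795 D158533
theorem N78607 : nd 78607 = n158536 := ndS (p := 44795) (l := 7) rfl N44795 D158536
theorem N78608 : nd 78608 = n158539 := ndS (p := 44796) (l := 4) rfl N44796 D158539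
theorem N78609 : nd 78609 = n158540 := ndS (p := 44796) (l := 5) rfl N44796 D158540
theorem N78610 : nd 78610 = n158541 := ndS (p := 44796) (l := 6) rfl N44796 D158541
theorem N78611 : nd 78611 = n158546 := ndS (p := 44797) (l := 0) rfl N44797 D158546
theorem N78612 : nd 78612 = n158547 := ndS (p := 44797) (l := 1) rfl N44797 D158547
theorem N78613 : nd 78613 = n158549 := ndS (p := 44797) (l := 5) rfl N44797 D158549
theorem N78614 : nd 78614 = n158578 := ndS (p := 44798) (l := 6) rfl N44798 D158578
theorem N78615 : nd 78615 = n158583 := ndS (p := 44799) (l := 0) rfl N44799 D158583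
theorem N78616 : nd 78616 = n158584 := ndS (p := 44799) (l := 1) rfl N44799 D158584
theorem N78617 : nd 78617 = n158585 := ndS (p := 44799) (l := 5) rfl N44799 D158585
theorem N78618 : nd 78618 = n158586 := ndS (p := 44799) (l := 7) rfl N44799 D158586
theorem N78619 : nd 78619 = n158669 := ndS (p := 44807) (l := 4) rfl N44807 D158669
theorem N78620 : nd 78620 = n158685 := ndS (p := 44811) (l := 4) rfl N44811 D158685
theorem N78621 : nd 78621 = n158696 := ndS (p := 44813) (l := 5) rfl N44813 D158696
theorem N78622 : nd 78622 = n158697 := ndS (p := 44814) (l := 3) rfl N44814 D158697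
theorem N78623 : nd 78623 = n158707 := ndS (p := 44815) (l := 6) rfl N44815 D158707
theorem N78624 : nd 78624 = n158744 := ndS (p := 44818) (l := 6) rfl N44818 D158744
theorem N78625 : nd 78625 = n158754 := ndS (p := 44820) (l := 3) rfl N44820 D158754
theorem N78626 : nd 78626 = n158788 := ndS (p := 44824) (l := 6) rfl N44824 D158788
theorem N78627 : nd 78627 = n158789 := ndS (p := 44825) (l := 0) rfl N44825 D158789
theorem N78628 : nd 78628 = n158790 := ndS (p := 44825) (l := 1) rfl N44825 D158790
theorem N78629 : nd 78629 = n158791 := ndS (p := 44825) (l := 5) rfl N44825 D158791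
theorem N78630 : nd 78630 = n158792 := ndS (p := 44825) (l := 7) rfl N44825 D158792
theorem N78631 : nd 78631 = n158794 := ndS (p := 44826) (l := 6) rfl N44826 D158794
theorem N78632 : nd 78632 = n158796 := ndS (p := 44827) (l := 1) rfl N44827 D158796
theorem N78633 : nd 78633 = n158797 := ndS (p := 44827) (l := 5) rfl N44827 D158797
theorem N78634 : nd 78634 = n158798 := ndS (p := 44827) (l := 7) rfl N44827 D158798
theorem N78635 : nd 78635 = n158800 := ndS (p := 44829) (l := 4) rfl N44829 D158800
theorem N78636 : nd 78636 = n158801 := ndS (p := 44829) (l := 7) rfl N44829 D158801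
theorem N78637 : nd 78637 = n158802 := ndS (p := 44831) (l := 0) rfl N44831 D158802
theorem N78638 : nd 78638 = n158810 := ndS (p := 44833) (l := 5) rfl N44833 D158810
theorem N78639 : nd 78639 = n158811 := ndS (p := 44834) (l := 3) rfl N44834 D158811
theorem N78640 : nd 78640 = n158812 := ndS (p := 44834) (l := 5) rfl N44834 D158812
theorem N78641 : nd 78641 = n158829 := ndS (p := 44836) (l := 3) rfl N44836 D158829
theorem N78642 : nd 78642 = n158830 := ndS (p := 44836) (l := 5) rfl N44836 D158830
theorem N78643 : nd 78643 = n158835 := ndS (p := 44838) (l := 6) rfl N44838 D158835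
theorem N78644 : nd 78644 = n158840 := ndS (p := 44841) (l := 5) rfl N44841 D158840
theorem N78645 : nd 78645 = n158841 := ndS (p := 44841) (l := 6) rfl N44841 D158841
theorem N78646 : nd 78646 = n158852 := ndS (p := 44843) (l := 3) rfl N44843 D158852
theorem N78647 : nd 78647 = n158853 := ndS (p := 44843) (l := 5) rfl N44843 D158853
theorem N78648 : nd 78648 = n158856 := ndS (p := 44844) (l := 5) rfl N44844 D158856
theorem N78649 : nd 78649 = n158858 := ndS (p := 44845) (l := 0) rfl N44845 D158858
theorem N78650 : nd 78650 = n158859 := ndS (p := 44845) (l := 1) rfl N44845 D158859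
theorem N78651 : nd 78651 = n158860 := ndS (p := 44845) (l := 2) rfl N44845 D158860
theorem N78652 : nd 78652 = n158861 := ndS (p := 44845) (l := 5) rfl N44845 D158861
theorem N78653 : nd 78653 = n158862 := ndS (p := 44846) (l := 0) rfl N44846 D158862
theorem N78654 : nd 78654 = n158864 := ndS (p := 44846) (l := 4) rfl N44846 D158864
theorem N78655 : nd 78655 = n158868 := ndS (p := 44847) (l := 0) rfl N44847 D158868
theorem N78656 : nd 78656 = n158869 := ndS (p := 44847) (l := 1) rfl N44847 D158869
theorem N78657 : nd 78657 = n158871 := ndS (p := 44847) (l := 5) rfl N44847 D158871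
theorem N78658 : nd 78658 = n158873 := ndS (p := 44848) (l := 6) rfl N44848 D158873
theorem N78659 : nd 78659 = n158878 := ndS (p := 44849) (l := 1) rfl N44849 D158878
theorem N78660 : nd 78660 = n158879 := ndS (p := 44849) (l := 2) rfl N44849 D158879
theorem N78661 : nd 78661 = n158887 := ndS (p := 44850) (l := 1) rfl N44850 D158887
theorem N78662 : nd 78662 = n158888 := ndS (p := 44850) (l := 2) rfl N44850 D158888
theorem N78663 : nd 78663 = n158890 := ndS (p := 44850) (l := 6) rfl N44850 D158890
theorem N78664 : nd 78664 = n158892 := ndS (p := 44851) (l := 5) rfl N44851 D158892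
theorem N78665 : nd 78665 = n158894 := ndS (p := 44852) (l := 3) rfl N44852 D158894
theorem N78666 : nd 78666 = n158895 := ndS (p := 44852) (l := 4) rfl N44852 D158895
theorem N78667 : nd 78667 = n158896 := ndS (p := 44852) (l := 5) rfl N44852 D158896
theorem N78668 : nd 78668 = n158897 := ndS (p := 44852) (l := 6) rfl N44852 D158897
theorem N78669 : nd 78669 = n158900 := ndS (p := 44853) (l := 5) rfl N44853 D158900
theorem N78670 : nd 78670 = n158901 := ndS (p := 44853) (l := 6) rfl N44853 D158901
theorem N78671 : nd 78671 = n158902 := ndS (p := 44854) (l := 5) rfl N44854 D158902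
theorem N78672 : nd 78672 = n158903 := ndS (p := 44855) (l := 0) rfl N44855 D158903
theorem N78673 : nd 78673 = n158904 := ndS (p := 44855) (l := 1) rfl N44855 D158904
theorem N78674 : nd 78674 = n158905 := ndS (p := 44855) (l := 4) rfl N44855 D158905
theorem N78675 : nd 78675 = n158906 := ndS (p := 44855) (l := 6) rfl N44855 D158906
theorem N78676 : nd 78676 = n158911 := ndS (p := 44857) (l := 4) rfl N44857 D158911
theorem N78677 : nd 78677 = n158914 := ndS (p := 44858) (l := 4) rfl N44858 D158914
theorem N78678 : nd 78678 = n158933 := ndS (p := 44859) (l := 4) rfl N44859 D158933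
theorem N78679 : nd 78679 = n158934 := ndS (p := 44859) (l := 6) rfl N44859 D158934
theorem N78680 : nd 78680 = n158935 := ndS (p := 44860) (l := 4) rfl N44860 D158935
theorem N78681 : nd 78681 = n158936 := ndS (p := 44861) (l := 0) rfl N44861 D158936
theorem N78682 : nd 78682 = n158938 := ndS (p := 44861) (l := 3) rfl N44861 D158938
theorem N78683 : nd 78683 = n158940 := ndS (p := 44861) (l := 6) rfl N44861 D158940
theorem N78684 : nd 78684 = n158948 := ndS (p := 44864) (l := 3) rfl N44864 D158948
theorem N78685 : nd 78685 = n158950 := ndS (p := 44865) (l := 3) rfl N44865 D158950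
theorem N78686 : nd 78686 = n158951 := ndS (p := 44865) (l := 5) rfl N44865 D158951
theorem N78687 : nd 78687 = n158952 := ndS (p := 44865) (l := 6) rfl N44865 D158952
theorem N78688 : nd 78688 = n158953 := ndS (p := 44866) (l := 1) rfl N44866 D158953
theorem N78689 : nd 78689 = n158954 := ndS (p := 44867) (l := 3) rfl N44867 D158954
theorem N78690 : nd 78690 = n158958 := ndS (p := 44868) (l := 5) rfl N44868 D158958
theorem N78691 : nd 78691 = n158959 := ndS (p := 44868) (l := 6) rfl N44868 D158959
theorem N78692 : nd 78692 = n158960 := ndS (p := 44869) (l := 3) rfl N44869 D158960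
theorem N78693 : nd 78693 = n158961 := ndS (p := 44869) (l := 5) rfl N44869 D158961
theorem N78694 : nd 78694 = n158962 := ndS (p := 44869) (l := 6) rfl N44869 D158962
theorem N78695 : nd 78695 = n158963 := ndS (p := 44870) (l := 0) rfl N44870 D158963
theorem N78696 : nd 78696 = n158964 := ndS (p := 44870) (l := 1) rfl N44870 D158964
theorem N78697 : nd 78697 = n158965 := ndS (p := 44870) (l := 2) rfl N44870 D158965
theorem N78698 : nd 78698 = n158966 := ndS (p := 44870) (l := 5) rfl N44870 D158966
theorem N78699 : nd 78699 = n158968 := ndS (p := 44871) (l := 1) rfl N44871 D158968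
theorem N78700 : nd 78700 = n158971 := ndS (p := 44871) (l := 7) rfl N44871 D158971
theorem N78701 : nd 78701 = n158972 := ndS (p := 44873) (l := 0) rfl N44873 D158972
theorem N78702 : nd 78702 = n158973 := ndS (p := 44873) (l := 1) rfl N44873 D158973
theorem N78703 : nd 78703 = n158976 := ndS (p := 44874) (l := 4) rfl N44874 D158976
theorem N78704 : nd 78704 = n158977 := ndS (p := 44874) (l := 6) rfl N44874 D158977
theorem N78705 : nd 78705 = n158978 := ndS (p := 44875) (l := 4) rfl N44875 D158978
theorem N78706 : nd 78706 = n158980 := ndS (p := 44876) (l := 1) rfl N44876 D158980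
theorem N78707 : nd 78707 = n158983 := ndS (p := 44877) (l := 3) rfl N44877 D158983
theorem N78708 : nd 78708 = n158984 := ndS (p := 44878) (l := 3) rfl N44878 D158984
theorem N78709 : nd 78709 = n158985 := ndS (p := 44878) (l := 6) rfl N44878 D158985
theorem N78710 : nd 78710 = n159001 := ndS (p := 44882) (l := 7) rfl N44882 D159001
theorem N78711 : nd 78711 = n159003 := ndS (p := 44883) (l := 1) rfl N44883 D159003
theorem N78712 : nd 78712 = n159004 := ndS (p := 44883) (l := 2) rfl N44883 D159004
theorem N78713 : nd 78713 = n159012 := ndS (p := 44886) (l := 1) rfl N44886 D159012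
theorem N78714 : nd 78714 = n159014 := ndS (p := 44887) (l := 1) rfl N44887 D159014
theorem N78715 : nd 78715 = n159015 := ndS (p := 44887) (l := 2) rfl N44887 D159015
theorem N78716 : nd 78716 = n159036 := ndS (p := 44893) (l := 3) rfl N44893 D159036
theorem N78717 : nd 78717 = n159037 := ndS (p := 44895) (l := 0) rfl N44895 D159037
theorem N78718 : nd 78718 = n159051 := ndS (p := 44898) (l := 3) rfl N44898 D159051
theorem N78719 : nd 78719 = n159052 := ndS (p := 44898) (l := 4) rfl N44898 D159052
theorem N78720 : nd 78720 = n159053 := ndS (p := 44898) (l := 5) rfl N44898 D159053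
theorem N78721 : nd 78721 = n159054 := ndS (p := 44898) (l := 6) rfl N44898 D159054
theorem N78722 : nd 78722 = n159056 := ndS (p := 44899) (l := 3) rfl N44899 D159056
theorem N78723 : nd 78723 = n159058 := ndS (p := 44899) (l := 5) rfl N44899 D159058
theorem N78724 : nd 78724 = n159059 := ndS (p := 44899) (l := 6) rfl N44899 D159059
theorem N78725 : nd 78725 = n159078 := ndS (p := 44904) (l := 1) rfl N44904 D159078
theorem N78726 : nd 78726 = n159114 := ndS (p := 44909) (l := 3) rfl N44909 D159114
theorem N78727 : nd 78727 = n159121 := ndS (p := 44912) (l := 2) rfl N44912 D159121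
theorem N78728 : nd 78728 = n159123 := ndS (p := 44914) (l := 0) rfl N44914 D159123
theorem N78729 : nd 78729 = n159129 := ndS (p := 44915) (l := 5) rfl N44915 D159129
theorem N78730 : nd 78730 = n159133 := ndS (p := 44917) (l := 1) rfl N44917 D159133
theorem N78731 : nd 78731 = n159134 := ndS (p := 44917) (l := 5) rfl N44917 D159134
theorem N78732 : nd 78732 = n159137 := ndS (p := 44918) (l := 6) rfl N44918 D159137
theorem N78733 : nd 78733 = n159159 := ndS (p := 44922) (l := 0) rfl N44922 D159159
theorem N78734 : nd 78734 = n159160 := ndS (p := 44922) (l := 1) rfl N44922 D159160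
theorem N78735 : nd 78735 = n159184 := ndS (p := 44924) (l := 3) rfl N44924 D159184
theorem N78736 : nd 78736 = n159185 := ndS (p := 44924) (l := 5) rfl N44924 D159185
theorem N78737 : nd 78737 = n159186 := ndS (p := 44925) (l := 3) rfl N44925 D159186
theorem N78738 : nd 78738 = n159201 := ndS (p := 44928) (l := 1) rfl N44928 D159201
theorem N78739 : nd 78739 = n159205 := ndS (p := 44930) (l := 0) rfl N44930 D159205
theorem N78740 : nd 78740 = n159207 := ndS (p := 44930) (l := 2) rfl N44930 D159207
theorem N78741 : nd 78741 = n159215 := ndS (p := 44931) (l := 3) rfl N44931 D159215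
theorem N78742 : nd 78742 = n159216 := ndS (p := 44931) (l := 5) rfl N44931 D159216
theorem N78743 : nd 78743 = n159227 := ndS (p := 44936) (l := 0) rfl N44936 D159227
theorem N78744 : nd 78744 = n159237 := ndS (p := 44937) (l := 5) rfl N44937 D159237
theorem N78745 : nd 78745 = n159266 := ndS (p := 44941) (l := 1) rfl N44941 D159266
theorem N78746 : nd 78746 = n159276 := ndS (p := 44942) (l := 4) rfl N44942 D159276
theorem N78747 : nd 78747 = n159281 := ndS (p := 44943) (l := 4) rfl N44943 D159281
theorem N78748 : nd 78748 = n159284 := ndS (p := 44944) (l := 5) rfl N44944 D159284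
theorem N78749 : nd 78749 = n159287 := ndS (p := 44945) (l := 4) rfl N44945 D159287
theorem N78750 : nd 78750 = n159299 := ndS (p := 44947) (l := 1) rfl N44947 D159299
theorem N78751 : nd 78751 = n159300 := ndS (p := 44947) (l := 2) rfl N44947 D159300
theorem N78752 : nd 78752 = n159302 := ndS (p := 44947) (l := 6) rfl N44947 D159302
theorem N78753 : nd 78753 = n159304 := ndS (p := 44948) (l := 0) rfl N44948 D159304
theorem N78754 : nd 78754 = n159306 := ndS (p := 44948) (l := 3) rfl N44948 D159306
theorem N78755 : nd 78755 = n159307 := ndS (p := 44948) (l := 5) rfl N44948 D159307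
theorem N78756 : nd 78756 = n159315 := ndS (p := 44949) (l := 0) rfl N44949 D159315
theorem N78757 : nd 78757 = n159318 := ndS (p := 44949) (l := 7) rfl N44949 D159318
theorem N78758 : nd 78758 = n159322 := ndS (p := 44950) (l := 4) rfl N44950 D159322
theorem N78759 : nd 78759 = n159323 := ndS (p := 44950) (l := 6) rfl N44950 D159323
theorem N78760 : nd 78760 = n159324 := ndS (p := 44951) (l := 5) rfl N44951 D159324
theorem N78761 : nd 78761 = n159325 := ndS (p := 44951) (l := 6) rfl N44951 D159325
theorem N78762 : nd 78762 = n159332 := ndS (p := 44954) (l := 4) rfl N44954 D159332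
theorem N78763 : nd 78763 = n159333 := ndS (p := 44954) (l := 6) rfl N44954 D159333
theorem N78764 : nd 78764 = n159334 := ndS (p := 44955) (l := 0) rfl N44955 D159334
theorem N78765 : nd 78765 = n159335 := ndS (p := 44955) (l := 1) rfl N44955 D159335
theorem N78766 : nd 78766 = n159336 := ndS (p := 44955) (l := 3) rfl N44955 D159336
theorem N78767 : nd 78767 = n159337 := ndS (p := 44955) (l := 5) rfl N44955 D159337
theorem N78768 : nd 78768 = n159338 := ndS (p := 44957) (l := 3) rfl N44957 D159338
theorem N78769 : nd 78769 = n159339 := ndS (p := 44957) (l := 6) rfl N44957 D159339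
theorem N78770 : nd 78770 = n159340 := ndS (p := 44958) (l := 0) rfl N44958 D159340
theorem N78771 : nd 78771 = n159341 := ndS (p := 44958) (l := 1) rfl N44958 D159341
theorem N78772 : nd 78772 = n159342 := ndS (p := 44958) (l := 7) rfl N44958 D159342
theorem N78773 : nd 78773 = n159343 := ndS (p := 44959) (l := 3) rfl N44959 D159343
theorem N78774 : nd 78774 = n159344 := ndS (p := 44959) (l := 6) rfl N44959 D159344
theorem N78775 : nd 78775 = n159345 := ndS (p := 44960) (l := 0) rfl N44960 D159345
theorem N78776 : nd 78776 = n159346 := ndS (p := 44960) (l := 1) rfl N44960 D159346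
theorem N78777 : nd 78777 = n159347 := ndS (p := 44960) (l := 7) rfl N44960 D159347
theorem N78778 : nd 78778 = n159348 := ndS (p := 44961) (l := 4) rfl N44961 D159348
theorem N78779 : nd 78779 = n159349 := ndS (p := 44961) (l := 6) rfl N44961 D159349
theorem N78780 : nd 78780 = n159350 := ndS (p := 44962) (l := 3) rfl N44962 D159350
theorem N78781 : nd 78781 = n159351 := ndS (p := 44962) (l := 6) rfl N44962 D159351
theorem N78782 : nd 78782 = n159352 := ndS (p := 44963) (l := 0) rfl N44963 D159352
theorem N78783 : nd 78783 = n159353 := ndS (p := 44963) (l := 1) rfl N44963 D159353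
theorem N78784 : nd 78784 = n159354 := ndS (p := 44963) (l := 7) rfl N44963 D159354
theorem N78785 : nd 78785 = n159355 := ndS (p := 44964) (l := 3) rfl N44964 D159355
theorem N78786 : nd 78786 = n159356 := ndS (p := 44964) (l := 6) rfl N44964 D159356
theorem N78787 : nd 78787 = n159357 := ndS (p := 44965) (l := 0) rfl N44965 D159357
theorem N78788 : nd 78788 = n159358 := ndS (p := 44965) (l := 1) rfl N44965 D159358
theorem N78789 : nd 78789 = n159359 := ndS (p := 44965) (l := 7) rfl N44965 D159359
theorem N78790 : nd 78790 = n159360 := ndS (p := 44966) (l := 3) rfl N44966 D159360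
theorem N78791 : nd 78791 = n159361 := ndS (p := 44966) (l := 6) rfl N44966 D159361
theorem N78792 : nd 78792 = n159362 := ndS (p := 44967) (l := 3) rfl N44967 D159362
theorem N78793 : nd 78793 = n159363 := ndS (p := 44967) (l := 6) rfl N44967 D159363
theorem N78794 : nd 78794 = n159364 := ndS (p := 44968) (l := 0) rfl N44968 D159364
theorem N78795 : nd 78795 = n159365 := ndS (p := 44968) (l := 1) rfl N44968 D159365
theorem N78796 : nd 78796 = n159366 := ndS (p := 44968) (l := 2) rfl N44968 D159366
theorem N78797 : nd 78797 = n159367 := ndS (p := 44969) (l := 0) rfl N44969 D159367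
theorem N78798 : nd 78798 = n159368 := ndS (p := 44969) (l := 1) rfl N44969 D159368
theorem N78799 : nd 78799 = n159369 := ndS (p := 44970) (l := 5) rfl N44970 D159369
theorem N78800 : nd 78800 = n159370 := ndS (p := 44971) (l := 5) rfl N44971 D159370
theorem N78801 : nd 78801 = n159371 := ndS (p := 44972) (l := 4) rfl N44972 D159371
theorem N78802 : nd 78802 = n159372 := ndS (p := 44972) (l := 6) rfl N44972 D159372
theorem N78803 : nd 78803 = n159373 := ndS (p := 44973) (l := 3) rfl N44973 D159373
theorem N78804 : nd 78804 = n159374 := ndS (p := 44973) (l := 6) rfl N44973 D159374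
theorem N78805 : nd 78805 = n159375 := ndS (p := 44974) (l := 0) rfl N44974 D159375
theorem N78806 : nd 78806 = n159376 := ndS (p := 44974) (l := 1) rfl N44974 D159376
theorem N78807 : nd 78807 = n159377 := ndS (p := 44974) (l := 7) rfl N44974 D159377
theorem N78808 : nd 78808 = n159382 := ndS (p := 44975) (l := 0) rfl N44975 D159382
theorem N78809 : nd 78809 = n159383 := ndS (p := 44975) (l := 4) rfl N44975 D159383
theorem N78810 : nd 78810 = n159389 := ndS (p := 44976) (l := 5) rfl N44976 D159389
theorem N78811 : nd 78811 = n159393 := ndS (p := 44979) (l := 3) rfl N44979 D159393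
theorem N78812 : nd 78812 = n159394 := ndS (p := 44980) (l := 6) rfl N44980 D159394
theorem N78813 : nd 78813 = n159395 := ndS (p := 44981) (l := 1) rfl N44981 D159395
theorem N78814 : nd 78814 = n159396 := ndS (p := 44981) (l := 4) rfl N44981 D159396
theorem N78815 : nd 78815 = n159397 := ndS (p := 44981) (l := 6) rfl N44981 D159397
theorem N78816 : nd 78816 = n159399 := ndS (p := 44982) (l := 5) rfl N44982 D159399
theorem N78817 : nd 78817 = n159401 := ndS (p := 44983) (l := 0) rfl N44983 D159401
theorem N78818 : nd 78818 = n159402 := ndS (p := 44983) (l := 7) rfl N44983 D159402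
theorem N78819 : nd 78819 = n159403 := ndS (p := 44985) (l := 4) rfl N44985 D159403
theorem N78820 : nd 78820 = n159404 := ndS (p := 44985) (l := 6) rfl N44985 D159404
theorem N78821 : nd 78821 = n159406 := ndS (p := 44986) (l := 5) rfl N44986 D159406
theorem N78822 : nd 78822 = n159408 := ndS (p := 44987) (l := 1) rfl N44987 D159408
theorem N78823 : nd 78823 = n159410 := ndS (p := 44988) (l := 3) rfl N44988 D159410
theorem N78824 : nd 78824 = n159411 := ndS (p := 44988) (l := 5) rfl N44988 D159411
theorem N78825 : nd 78825 = n159416 := ndS (p := 44990) (l := 5) rfl N44990 D159416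
theorem N78826 : nd 78826 = n159419 := ndS (p := 44991) (l := 5) rfl N44991 D159419
theorem N78827 : nd 78827 = n159421 := ndS (p := 44992) (l := 3) rfl N44992 D159421
theorem N78828 : nd 78828 = n159422 := ndS (p := 44992) (l := 5) rfl N44992 D159422
theorem N78829 : nd 78829 = n159423 := ndS (p := 44993) (l := 0) rfl N44993 D159423
theorem N78830 : nd 78830 = n159424 := ndS (p := 44993) (l := 1) rfl N44993 D159424
theorem N78831 : nd 78831 = n159425 := ndS (p := 44993) (l := 2) rfl N44993 D159425
theorem N78832 : nd 78832 = n159426 := ndS (p := 44993) (l := 5) rfl N44993 D159426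
theorem N78833 : nd 78833 = n159427 := ndS (p := 44994) (l := 4) rfl N44994 D159427
theorem N78834 : nd 78834 = n159428 := ndS (p := 44994) (l := 6) rfl N44994 D159428
theorem N78835 : nd 78835 = n159429 := ndS (p := 44995) (l := 6) rfl N44995 D159429
theorem N78836 : nd 78836 = n159431 := ndS (p := 44996) (l := 1) rfl N44996 D159431
theorem N78837 : nd 78837 = n159433 := ndS (p := 44997) (l := 3) rfl N44997 D159433
theorem N78838 : nd 78838 = n159434 := ndS (p := 44997) (l := 4) rfl N44997 D159434
theorem N78839 : nd 78839 = n159436 := ndS (p := 44997) (l := 6) rfl N44997 D159436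
theorem N78840 : nd 78840 = n159446 := ndS (p := 45001) (l := 1) rfl N45001 D159446
theorem N78841 : nd 78841 = n159448 := ndS (p := 45001) (l := 7) rfl N45001 D159448
theorem N78842 : nd 78842 = n159451 := ndS (p := 45002) (l := 5) rfl N45002 D159451
theorem N78843 : nd 78843 = n159452 := ndS (p := 45002) (l := 6) rfl N45002 D159452
theorem N78844 : nd 78844 = n159454 := ndS (p := 45003) (l := 3) rfl N45003 D159454
theorem N78845 : nd 78845 = n159456 := ndS (p := 45003) (l := 5) rfl N45003 D159456
theorem N78846 : nd 78846 = n159457 := ndS (p := 45003) (l := 6) rfl N45003 D159457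
theorem N78847 : nd 78847 = n159464 := ndS (p := 45005) (l := 0) rfl N45005 D159464
theorem N78848 : nd 78848 = n159465 := ndS (p := 45005) (l := 1) rfl N45005 D159465
theorem N78849 : nd 78849 = n159466 := ndS (p := 45005) (l := 4) rfl N45005 D159466
theorem N78850 : nd 78850 = n159467 := ndS (p := 45005) (l := 6) rfl N45005 D159467
theorem N78851 : nd 78851 = n159471 := ndS (p := 45007) (l := 4) rfl N45007 D159471
theorem N78852 : nd 78852 = n159472 := ndS (p := 45007) (l := 5) rfl N45007 D159472
theorem N78853 : nd 78853 = n159473 := ndS (p := 45007) (l := 6) rfl N45007 D159473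
theorem N78854 : nd 78854 = n159474 := ndS (p := 45008) (l := 4) rfl N45008 D159474
theorem N78855 : nd 78855 = n159475 := ndS (p := 45008) (l := 6) rfl N45008 D159475
theorem N78856 : nd 78856 = n159476 := ndS (p := 45010) (l := 6) rfl N45010 D159476
theorem N78857 : nd 78857 = n159477 := ndS (p := 45011) (l := 3) rfl N45011 D159477
theorem N78858 : nd 78858 = n159478 := ndS (p := 45011) (l := 6) rfl N45011 D159478
theorem N78859 : nd 78859 = n159479 := ndS (p := 45012) (l := 3) rfl N45012 D159479
theorem N78860 : nd 78860 = n159480 := ndS (p := 45012) (l := 5) rfl N45012 D159480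
theorem N78861 : nd 78861 = n159481 := ndS (p := 45012) (l := 7) rfl N45012 D159481
theorem N78862 : nd 78862 = n159482 := ndS (p := 45013) (l := 6) rfl N45013 D159482
theorem N78863 : nd 78863 = n159483 := ndS (p := 45014) (l := 0) rfl N45014 D159483
theorem N78864 : nd 78864 = n159484 := ndS (p := 45014) (l := 1) rfl N45014 D159484
theorem N78865 : nd 78865 = n159485 := ndS (p := 45014) (l := 7) rfl N45014 D159485
theorem N78866 : nd 78866 = n159486 := ndS (p := 45015) (l := 4) rfl N45015 D159486
theorem N78867 : nd 78867 = n159487 := ndS (p := 45015) (l := 6) rfl N45015 D159487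
theorem N78868 : nd 78868 = n159488 := ndS (p := 45016) (l := 0) rfl N45016 D159488
theorem N78869 : nd 78869 = n159489 := ndS (p := 45016) (l := 1) rfl N45016 D159489
theorem N78870 : nd 78870 = n159490 := ndS (p := 45016) (l := 7) rfl N45016 D159490
theorem N78871 : nd 78871 = n159491 := ndS (p := 45017) (l := 0) rfl N45017 D159491
theorem N78872 : nd 78872 = n159492 := ndS (p := 45017) (l := 1) rfl N45017 D159492
theorem N78873 : nd 78873 = n159493 := ndS (p := 45017) (l := 2) rfl N45017 D159493
theorem N78874 : nd 78874 = n159494 := ndS (p := 45017) (l := 5) rfl N45017 D159494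
theorem N78875 : nd 78875 = n159495 := ndS (p := 45017) (l := 7) rfl N45017 D159495
theorem N78876 : nd 78876 = n159496 := ndS (p := 45018) (l := 6) rfl N45018 D159496
theorem N78877 : nd 78877 = n159497 := ndS (p := 45019) (l := 6) rfl N45019 D159497
theorem N78878 : nd 78878 = n159498 := ndS (p := 45020) (l := 0) rfl N45020 D159498
theorem N78879 : nd 78879 = n159499 := ndS (p := 45020) (l := 1) rfl N45020 D159499
theorem N78880 : nd 78880 = n159500 := ndS (p := 45021) (l := 6) rfl N45021 D159500
theorem N78881 : nd 78881 = n159501 := ndS (p := 45022) (l := 5) rfl N45022 D159501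
theorem N78882 : nd 78882 = n159502 := ndS (p := 45026) (l := 6) rfl N45026 D159502
theorem N78883 : nd 78883 = n159503 := ndS (p := 45027) (l := 4) rfl N45027 D159503
theorem N78884 : nd 78884 = n159504 := ndS (p := 45028) (l := 3) rfl N45028 D159504
theorem N78885 : nd 78885 = n159505 := ndS (p := 45029) (l := 5) rfl N45029 D159505
theorem N78886 : nd 78886 = n159506 := ndS (p := 45030) (l := 6) rfl N45030 D159506
theorem N78887 : nd 78887 = n159507 := ndS (p := 45031) (l := 5) rfl N45031 D159507
theorem N78888 : nd 78888 = n159519 := ndS (p := 45034) (l := 6) rfl N45034 D159519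
theorem N78889 : nd 78889 = n159520 := ndS (p := 45037) (l := 0) rfl N45037 D159520
theorem N78890 : nd 78890 = n159521 := ndS (p := 45037) (l := 1) rfl N45037 D159521
theorem N78891 : nd 78891 = n159522 := ndS (p := 45037) (l := 5) rfl N45037 D159522
theorem N78892 : nd 78892 = n159523 := ndS (p := 45037) (l := 7) rfl N45037 D159523
theorem N78893 : nd 78893 = n159524 := ndS (p := 45038) (l := 3) rfl N45038 D159524
theorem N78894 : nd 78894 = n159527 := ndS (p := 45038) (l := 6) rfl N45038 D159527
theorem N78895 : nd 78895 = n159543 := ndS (p := 45042) (l := 4) rfl N45042 D159543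
theorem N78896 : nd 78896 = n159545 := ndS (p := 45042) (l := 6) rfl N45042 D159545
theorem N78897 : nd 78897 = n159547 := ndS (p := 45043) (l := 6) rfl N45043 D159547
theorem N78898 : nd 78898 = n159548 := ndS (p := 45044) (l := 7) rfl N45044 D159548
theorem N78899 : nd 78899 = n159552 := ndS (p := 45045) (l := 6) rfl N45045 D159552
theorem N78900 : nd 78900 = n159554 := ndS (p := 45046) (l := 1) rfl N45046 D159554
theorem N78901 : nd 78901 = n159557 := ndS (p := 45046) (l := 7) rfl N45046 D159557
theorem N78902 : nd 78902 = n159558 := ndS (p := 45047) (l := 6) rfl N45047 D159558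
theorem N78903 : nd 78903 = n159559 := ndS (p := 45048) (l := 0) rfl N45048 D159559
theorem N78904 : nd 78904 = n159565 := ndS (p := 45051) (l := 3) rfl N45051 D159565
theorem N78905 : nd 78905 = n159566 := ndS (p := 45052) (l := 0) rfl N45052 D159566
theorem N78906 : nd 78906 = n159568 := ndS (p := 45052) (l := 2) rfl N45052 D159568
theorem N78907 : nd 78907 = n159569 := ndS (p := 45052) (l := 5) rfl N45052 D159569
theorem N78908 : nd 78908 = n159570 := ndS (p := 45052) (l := 7) rfl N45052 D159570
theorem N78909 : nd 78909 = n159571 := ndS (p := 45053) (l := 6) rfl N45053 D159571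
theorem N78910 : nd 78910 = n159572 := ndS (p := 45054) (l := 6) rfl N45054 D159572
theorem N78911 : nd 78911 = n159574 := ndS (p := 45055) (l := 1) rfl N45055 D159574
theorem N78912 : nd 78912 = n159575 := ndS (p := 45056) (l := 6) rfl N45056 D159575
theorem N78913 : nd 78913 = n159576 := ndS (p := 45057) (l := 3) rfl N45057 D159576
theorem N78914 : nd 78914 = n159577 := ndS (p := 45057) (l := 6) rfl N45057 D159577
theorem N78915 : nd 78915 = n159579 := ndS (p := 45058) (l := 1) rfl N45058 D159579
theorem N78916 : nd 78916 = n159580 := ndS (p := 45058) (l := 7) rfl N45058 D159580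
theorem N78917 : nd 78917 = n159581 := ndS (p := 45059) (l := 3) rfl N45059 D159581
theorem N78918 : nd 78918 = n159582 := ndS (p := 45059) (l := 6) rfl N45059 D159582
theorem N78919 : nd 78919 = n159583 := ndS (p := 45060) (l := 0) rfl N45060 D159583
theorem N78920 : nd 78920 = n159584 := ndS (p := 45060) (l := 1) rfl N45060 D159584
theorem N78921 : nd 78921 = n159585 := ndS (p := 45060) (l := 7) rfl N45060 D159585
theorem N78922 : nd 78922 = n159593 := ndS (p := 45063) (l := 5) rfl N45063 D159593
theorem N78923 : nd 78923 = n159595 := ndS (p := 45065) (l := 4) rfl N45065 D159595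
theorem N78924 : nd 78924 = n159596 := ndS (p := 45065) (l := 5) rfl N45065 D159596
theorem N78925 : nd 78925 = n159597 := ndS (p := 45065) (l := 6) rfl N45065 D159597
theorem N78926 : nd 78926 = n159598 := ndS (p := 45066) (l := 1) rfl N45066 D159598
theorem N78927 : nd 78927 = n159600 := ndS (p := 45066) (l := 6) rfl N45066 D159600
theorem N78928 : nd 78928 = n159601 := ndS (p := 45067) (l := 1) rfl N45067 D159601
theorem N78929 : nd 78929 = n159605 := ndS (p := 45068) (l := 5) rfl N45068 D159605
theorem N78930 : nd 78930 = n159606 := ndS (p := 45068) (l := 6) rfl N45068 D159606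
theorem N78931 : nd 78931 = n159608 := ndS (p := 45069) (l := 6) rfl N45069 D159608
theorem N78932 : nd 78932 = n159610 := ndS (p := 45071) (l := 3) rfl N45071 D159610
theorem N78933 : nd 78933 = n159611 := ndS (p := 45071) (l := 6) rfl N45071 D159611
theorem N78934 : nd 78934 = n159612 := ndS (p := 45072) (l := 0) rfl N45072 D159612
theorem N78935 : nd 78935 = n159613 := ndS (p := 45072) (l := 1) rfl N45072 D159613
theorem N78936 : nd 78936 = n159614 := ndS (p := 45072) (l := 7) rfl N45072 D159614
theorem N78937 : nd 78937 = n159616 := ndS (p := 45073) (l := 5) rfl N45073 D159616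
theorem N78938 : nd 78938 = n159617 := ndS (p := 45073) (l := 7) rfl N45073 D159617
theorem N78939 : nd 78939 = n159623 := ndS (p := 45075) (l := 3) rfl N45075 D159623
theorem N78940 : nd 78940 = n159624 := ndS (p := 45075) (l := 4) rfl N45075 D159624
theorem N78941 : nd 78941 = n159626 := ndS (p := 45075) (l := 6) rfl N45075 D159626
theorem N78942 : nd 78942 = n159635 := ndS (p := 45079) (l := 1) rfl N45079 D159635
theorem N78943 : nd 78943 = n159640 := ndS (p := 45080) (l := 4) rfl N45080 D159640
theorem N78944 : nd 78944 = n159642 := ndS (p := 45080) (l := 6) rfl N45080 D159642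
theorem N78945 : nd 78945 = n159643 := ndS (p := 45081) (l := 4) rfl N45081 D159643
theorem N78946 : nd 78946 = n159644 := ndS (p := 45081) (l := 6) rfl N45081 D159644
theorem N78947 : nd 78947 = n159646 := ndS (p := 45084) (l := 3) rfl N45084 D159646
theorem N78948 : nd 78948 = n159647 := ndS (p := 45084) (l := 6) rfl N45084 D159647
theorem N78949 : nd 78949 = n159653 := ndS (p := 45086) (l := 6) rfl N45086 D159653
theorem N78950 : nd 78950 = n159654 := ndS (p := 45088) (l := 0) rfl N45088 D159654
theorem N78951 : nd 78951 = n159655 := ndS (p := 45088) (l := 1) rfl N45088 D159655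
theorem N78952 : nd 78952 = n159657 := ndS (p := 45089) (l := 0) rfl N45089 D159657
theorem N78953 : nd 78953 = n159658 := ndS (p := 45089) (l := 1) rfl N45089 D159658
theorem N78954 : nd 78954 = n159673 := ndS (p := 45092) (l := 4) rfl N45092 D159673
theorem N78955 : nd 78955 = n159674 := ndS (p := 45092) (l := 6) rfl N45092 D159674
theorem N78956 : nd 78956 = n159677 := ndS (p := 45095) (l := 6) rfl N45095 D159677
theorem N78957 : nd 78957 = n159679 := ndS (p := 45096) (l := 1) rfl N45096 D159679
theorem N78958 : nd 78958 = n159681 := ndS (p := 45096) (l := 7) rfl N45096 D159681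
theorem N78959 : nd 78959 = n159683 := ndS (p := 45097) (l := 6) rfl N45097 D159683
theorem N78960 : nd 78960 = n159685 := ndS (p := 45098) (l := 1) rfl N45098 D159685
theorem N78961 : nd 78961 = n159686 := ndS (p := 45098) (l := 4) rfl N45098 D159686
theorem N78962 : nd 78962 = n159687 := ndS (p := 45098) (l := 7) rfl N45098 D159687
theorem N78963 : nd 78963 = n159689 := ndS (p := 45101) (l := 6) rfl N45101 D159689
theorem N78964 : nd 78964 = n159690 := ndS (p := 45102) (l := 0) rfl N45102 D159690
theorem N78965 : nd 78965 = n159691 := ndS (p := 45102) (l := 1) rfl N45102 D159691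
theorem N78966 : nd 78966 = n159692 := ndS (p := 45102) (l := 5) rfl N45102 D159692
theorem N78967 : nd 78967 = n159693 := ndS (p := 45102) (l := 7) rfl N45102 D159693
theorem N78968 : nd 78968 = n159696 := ndS (p := 45103) (l := 4) rfl N45103 D159696
theorem N78969 : nd 78969 = n159697 := ndS (p := 45103) (l := 5) rfl N45103 D159697
theorem N78970 : nd 78970 = n159701 := ndS (p := 45104) (l := 5) rfl N45104 D159701
theorem N78971 : nd 78971 = n159709 := ndS (p := 45108) (l := 5) rfl N45108 D159709
theorem N78972 : nd 78972 = n159712 := ndS (p := 45109) (l := 5) rfl N45109 D159712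
theorem N78973 : nd 78973 = n159714 := ndS (p := 45110) (l := 0) rfl N45110 D159714
theorem N78974 : nd 78974 = n159715 := ndS (p := 45110) (l := 1) rfl N45110 D159715
theorem N78975 : nd 78975 = n159716 := ndS (p := 45110) (l := 4) rfl N45110 D159716
theorem N78976 : nd 78976 = n159717 := ndS (p := 45110) (l := 7) rfl N45110 D159717
theorem N78977 : nd 78977 = n159718 := ndS (p := 45112) (l := 0) rfl N45112 D159718
theorem N78978 : nd 78978 = n159720 := ndS (p := 45112) (l := 2) rfl N45112 D159720
theorem N78979 : nd 78979 = n159721 := ndS (p := 45112) (l := 4) rfl N45112 D159721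
theorem N78980 : nd 78980 = n159722 := ndS (p := 45112) (l := 5) rfl N45112 D159722
theorem N78981 : nd 78981 = n159724 := ndS (p := 45113) (l := 0) rfl N45113 D159724
theorem N78982 : nd 78982 = n159727 := ndS (p := 45113) (l := 5) rfl N45113 D159727
theorem N78983 : nd 78983 = n159729 := ndS (p := 45114) (l := 1) rfl N45114 D159729
theorem N78984 : nd 78984 = n159730 := ndS (p := 45114) (l := 4) rfl N45114 D159730
theorem N78985 : nd 78985 = n159732 := ndS (p := 45115) (l := 1) rfl N45115 D159732
theorem N78986 : nd 78986 = n159734 := ndS (p := 45116) (l := 4) rfl N45116 D159734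
theorem N78987 : nd 78987 = n159736 := ndS (p := 45116) (l := 6) rfl N45116 D159736
theorem N78988 : nd 78988 = n159737 := ndS (p := 45117) (l := 3) rfl N45117 D159737
theorem N78989 : nd 78989 = n159738 := ndS (p := 45117) (l := 5) rfl N45117 D159738
theorem N78990 : nd 78990 = n159739 := ndS (p := 45117) (l := 6) rfl N45117 D159739
theorem N78991 : nd 78991 = n159740 := ndS (p := 45118) (l := 4) rfl N45118 D159740
theorem N78992 : nd 78992 = n159741 := ndS (p := 45119) (l := 0) rfl N45119 D159741
theorem N78993 : nd 78993 = n159744 := ndS (p := 45119) (l := 7) rfl N45119 D159744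
theorem N78994 : nd 78994 = n159746 := ndS (p := 45120) (l := 3) rfl N45120 D159746
theorem N78995 : nd 78995 = n159747 := ndS (p := 45120) (l := 4) rfl N45120 D159747
theorem N78996 : nd 78996 = n159748 := ndS (p := 45120) (l := 5) rfl N45120 D159748
theorem N78997 : nd 78997 = n159749 := ndS (p := 45120) (l := 6) rfl N45120 D159749
theorem N78998 : nd 78998 = n159751 := ndS (p := 45121) (l := 4) rfl N45121 D159751
theorem N78999 : nd 78999 = n159752 := ndS (p := 45121) (l := 5) rfl N45121 D159752
theorem N79000 : nd 79000 = n159754 := ndS (p := 45123) (l := 4) rfl N45123 D159754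
theorem N79001 : nd 79001 = n159764 := ndS (p := 45127) (l := 4) rfl N45127 D159764
theorem N79002 : nd 79002 = n159768 := ndS (p := 45128) (l := 5) rfl N45128 D159768
theorem N79003 : nd 79003 = n159771 := ndS (p := 45130) (l := 5) rfl N45130 D159771
theorem N79004 : nd 79004 = n159783 := ndS (p := 45135) (l := 5) rfl N45135 D159783
theorem N79005 : nd 79005 = n159786 := ndS (p := 45136) (l := 5) rfl N45136 D159786
theorem N79006 : nd 79006 = n159791 := ndS (p := 45138) (l := 0) rfl N45138 D159791
theorem N79007 : nd 79007 = n159792 := ndS (p := 45138) (l := 1) rfl N45138 D159792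
theorem N79008 : nd 79008 = n159797 := ndS (p := 45140) (l := 3) rfl N45140 D159797
theorem N79009 : nd 79009 = n159798 := ndS (p := 45140) (l := 5) rfl N45140 D159798
theorem N79010 : nd 79010 = n159801 := ndS (p := 45144) (l := 5) rfl N45144 D159801
theorem N79011 : nd 79011 = n159804 := ndS (p := 45146) (l := 1) rfl N45146 D159804
theorem N79012 : nd 79012 = n159805 := ndS (p := 45146) (l := 7) rfl N45146 D159805
theorem N79013 : nd 79013 = n159806 := ndS (p := 45147) (l := 6) rfl N45147 D159806
theorem N79014 : nd 79014 = n159807 := ndS (p := 45148) (l := 3) rfl N45148 D159807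
theorem N79015 : nd 79015 = n159808 := ndS (p := 45148) (l := 5) rfl N45148 D159808
theorem N79016 : nd 79016 = n159810 := ndS (p := 45149) (l := 0) rfl N45149 D159810
theorem N79017 : nd 79017 = n159813 := ndS (p := 45150) (l := 3) rfl N45150 D159813
theorem N79018 : nd 79018 = n159814 := ndS (p := 45150) (l := 5) rfl N45150 D159814
theorem N79019 : nd 79019 = n159815 := ndS (p := 45150) (l := 6) rfl N45150 D159815
theorem N79020 : nd 79020 = n159816 := ndS (p := 45151) (l := 5) rfl N45151 D159816
theorem N79021 : nd 79021 = n159818 := ndS (p := 45152) (l := 0) rfl N45152 D159818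
theorem N79022 : nd 79022 = n159819 := ndS (p := 45152) (l := 1) rfl N45152 D159819
theorem N79023 : nd 79023 = n159820 := ndS (p := 45152) (l := 4) rfl N45152 D159820
theorem N79024 : nd 79024 = n159821 := ndS (p := 45152) (l := 6) rfl N45152 D159821
theorem N79025 : nd 79025 = n159822 := ndS (p := 45152) (l := 7) rfl N45152 D159822
theorem N79026 : nd 79026 = n159823 := ndS (p := 45155) (l := 6) rfl N45155 D159823
theorem N79027 : nd 79027 = n159824 := ndS (p := 45156) (l := 5) rfl N45156 D159824
theorem N79028 : nd 79028 = n159825 := ndS (p := 45159) (l := 5) rfl N45159 D159825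
theorem N79029 : nd 79029 = n159827 := ndS (p := 45160) (l := 0) rfl N45160 D159827
theorem N79030 : nd 79030 = n159828 := ndS (p := 45160) (l := 4) rfl N45160 D159828
theorem N79031 : nd 79031 = n159829 := ndS (p := 45160) (l := 7) rfl N45160 D159829
theorem N79032 : nd 79032 = n159830 := ndS (p := 45162) (l := 3) rfl N45162 D159830
theorem N79033 : nd 79033 = n159831 := ndS (p := 45164) (l := 1) rfl N45164 D159831
theorem N79034 : nd 79034 = n159832 := ndS (p := 45164) (l := 7) rfl N45164 D159832
theorem N79035 : nd 79035 = n159833 := ndS (p := 45165) (l := 5) rfl N45165 D159833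
theorem N79036 : nd 79036 = n159834 := ndS (p := 45165) (l := 6) rfl N45165 D159834
theorem N79037 : nd 79037 = n159835 := ndS (p := 45167) (l := 0) rfl N45167 D159835
theorem N79038 : nd 79038 = n159836 := ndS (p := 45167) (l := 7) rfl N45167 D159836
theorem N79039 : nd 79039 = n159838 := ndS (p := 45168) (l := 5) rfl N45168 D159838
theorem N79040 : nd 79040 = n159841 := ndS (p := 45169) (l := 3) rfl N45169 D159841
theorem N79041 : nd 79041 = n159842 := ndS (p := 45169) (l := 5) rfl N45169 D159842
theorem N79042 : nd 79042 = n159843 := ndS (p := 45169) (l := 6) rfl N45169 D159843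
theorem N79043 : nd 79043 = n159844 := ndS (p := 45170) (l := 5) rfl N45170 D159844
theorem N79044 : nd 79044 = n159845 := ndS (p := 45170) (l := 7) rfl N45170 D159845
theorem N79045 : nd 79045 = n159846 := ndS (p := 45172) (l := 4) rfl N45172 D159846
theorem N79046 : nd 79046 = n159847 := ndS (p := 45175) (l := 0) rfl N45175 D159847
theorem N79047 : nd 79047 = n159848 := ndS (p := 45175) (l := 1) rfl N45175 D159848
theorem N79048 : nd 79048 = n159849 := ndS (p := 45175) (l := 4) rfl N45175 D159849
theorem N79049 : nd 79049 = n159850 := ndS (p := 45175) (l := 7) rfl N45175 D159850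
theorem N79050 : nd 79050 = n159851 := ndS (p := 45177) (l := 3) rfl N45177 D159851
theorem N79051 : nd 79051 = n159852 := ndS (p := 45179) (l := 5) rfl N45179 D159852
theorem N79052 : nd 79052 = n159853 := ndS (p := 45180) (l := 6) rfl N45180 D159853
theorem N79053 : nd 79053 = n159854 := ndS (p := 45181) (l := 6) rfl N45181 D159854
theorem N79054 : nd 79054 = n159855 := ndS (p := 45182) (l := 0) rfl N45182 D159855
theorem N79055 : nd 79055 = n159856 := ndS (p := 45182) (l := 1) rfl N45182 D159856
theorem N79056 : nd 79056 = n159857 := ndS (p := 45182) (l := 7) rfl N45182 D159857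
theorem N79057 : nd 79057 = n159860 := ndS (p := 45184) (l := 0) rfl N45184 D159860
theorem N79058 : nd 79058 = n159865 := ndS (p := 45185) (l := 7) rfl N45185 D159865
theorem N79059 : nd 79059 = n159869 := ndS (p := 45188) (l := 6) rfl N45188 D159869
theorem N79060 : nd 79060 = n159870 := ndS (p := 45189) (l := 5) rfl N45189 D159870
theorem N79061 : nd 79061 = n159871 := ndS (p := 45190) (l := 3) rfl N45190 D159871
theorem N79062 : nd 79062 = n159875 := ndS (p := 45193) (l := 6) rfl N45193 D159875
theorem N79063 : nd 79063 = n159880 := ndS (p := 45195) (l := 0) rfl N45195 D159880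
theorem N79064 : nd 79064 = n159881 := ndS (p := 45195) (l := 1) rfl N45195 D159881
theorem N79065 : nd 79065 = n159882 := ndS (p := 45195) (l := 2) rfl N45195 D159882
theorem N79066 : nd 79066 = n159884 := ndS (p := 45196) (l := 3) rfl N45196 D159884
theorem N79067 : nd 79067 = n159885 := ndS (p := 45196) (l := 4) rfl N45196 D159885
theorem N79068 : nd 79068 = n159892 := ndS (p := 45199) (l := 5) rfl N45199 D159892
theorem N79069 : nd 79069 = n159893 := ndS (p := 45201) (l := 0) rfl N45201 D159893
theorem N79070 : nd 79070 = n159894 := ndS (p := 45201) (l := 7) rfl N45201 D159894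
theorem N79071 : nd 79071 = n159896 := ndS (p := 45203) (l := 1) rfl N45203 D159896
theorem N79072 : nd 79072 = n159897 := ndS (p := 45203) (l := 7) rfl N45203 D159897
theorem N79073 : nd 79073 = n159900 := ndS (p := 45204) (l := 5) rfl N45204 D159900
theorem N79074 : nd 79074 = n159909 := ndS (p := 45207) (l := 7) rfl N45207 D159909
theorem N79075 : nd 79075 = n159911 := ndS (p := 45208) (l := 3) rfl N45208 D159911
theorem N79076 : nd 79076 = n159914 := ndS (p := 45208) (l := 6) rfl N45208 D159914
theorem N79077 : nd 79077 = n159919 := ndS (p := 45209) (l := 6) rfl N45209 D159919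
theorem N79078 : nd 79078 = n159920 := ndS (p := 45210) (l := 0) rfl N45210 D159920
theorem N79079 : nd 79079 = n159921 := ndS (p := 45210) (l := 1) rfl N45210 D159921
theorem N79080 : nd 79080 = n159922 := ndS (p := 45210) (l := 4) rfl N45210 D159922
theorem N79081 : nd 79081 = n159923 := ndS (p := 45210) (l := 7) rfl N45210 D159923
theorem N79082 : nd 79082 = n159925 := ndS (p := 45214) (l := 3) rfl N45214 D159925
theorem N79083 : nd 79083 = n159926 := ndS (p := 45214) (l := 5) rfl N45214 D159926
theorem N79084 : nd 79084 = n159927 := ndS (p := 45214) (l := 7) rfl N45214 D159927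
theorem N79085 : nd 79085 = n159928 := ndS (p := 45215) (l := 6) rfl N45215 D159928
theorem N79086 : nd 79086 = n159981 := ndS (p := 45233) (l := 5) rfl N45233 D159981
theorem N79087 : nd 79087 = n159982 := ndS (p := 45233) (l := 6) rfl N45233 D159982
theorem N79088 : nd 79088 = n159986 := ndS (p := 45234) (l := 5) rfl N45234 D159986
theorem N79089 : nd 79089 = n159988 := ndS (p := 45235) (l := 0) rfl N45235 D159988
theorem N79090 : nd 79090 = n159989 := ndS (p := 45235) (l := 1) rfl N45235 D159989
theorem N79091 : nd 79091 = n159990 := ndS (p := 45235) (l := 4) rfl N45235 D159990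
theorem N79092 : nd 79092 = n159991 := ndS (p := 45235) (l := 7) rfl N45235 D159991
theorem N79093 : nd 79093 = n159992 := ndS (p := 45237) (l := 6) rfl N45237 D159992
theorem N79094 : nd 79094 = n160009 := ndS (p := 45243) (l := 3) rfl N45243 D160009
theorem N79095 : nd 79095 = n160011 := ndS (p := 45243) (l := 6) rfl N45243 D160011
theorem N79096 : nd 79096 = n160037 := ndS (p := 45251) (l := 1) rfl N45251 D160037
theorem N79097 : nd 79097 = n160041 := ndS (p := 45255) (l := 6) rfl N45255 D160041
theorem N79098 : nd 79098 = n160044 := ndS (p := 45257) (l := 4) rfl N45257 D160044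
theorem N79099 : nd 79099 = n160045 := ndS (p := 45259) (l := 6) rfl N45259 D160045
theorem N79100 : nd 79100 = n160047 := ndS (p := 45260) (l := 7) rfl N45260 D160047
theorem N79101 : nd 79101 = n160058 := ndS (p := 45262) (l := 3) rfl N45262 D160058
theorem N79102 : nd 79102 = n160059 := ndS (p := 45262) (l := 5) rfl N45262 D160059
theorem N79103 : nd 79103 = n160063 := ndS (p := 45265) (l := 5) rfl N45265 D160063
theorem N79104 : nd 79104 = n160070 := ndS (p := 45268) (l := 3) rfl N45268 D160070
theorem N79105 : nd 79105 = n160071 := ndS (p := 45268) (l := 5) rfl N45268 D160071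
theorem N79106 : nd 79106 = n160074 := ndS (p := 45269) (l := 7) rfl N45269 D160074
theorem N79107 : nd 79107 = n160075 := ndS (p := 45270) (l := 6) rfl N45270 D160075
theorem N79108 : nd 79108 = n160077 := ndS (p := 45271) (l := 5) rfl N45271 D160077
theorem N79109 : nd 79109 = n160078 := ndS (p := 45271) (l := 7) rfl N45271 D160078
theorem N79110 : nd 79110 = n160088 := ndS (p := 45275) (l := 5) rfl N45275 D160088
theorem N79111 : nd 79111 = n160089 := ndS (p := 45275) (l := 7) rfl N45275 D160089
theorem N79112 : nd 79112 = n160093 := ndS (p := 45276) (l := 4) rfl N45276 D160093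
theorem N79113 : nd 79113 = n160095 := ndS (p := 45278) (l := 6) rfl N45278 D160095
theorem N79114 : nd 79114 = n160096 := ndS (p := 45279) (l := 5) rfl N45279 D160096
theorem N79115 : nd 79115 = n160099 := ndS (p := 45281) (l := 6) rfl N45281 D160099
theorem N79116 : nd 79116 = n160100 := ndS (p := 45282) (l := 5) rfl N45282 D160100
theorem N79117 : nd 79117 = n160102 := ndS (p := 45283) (l := 6) rfl N45283 D160102
theorem N79118 : nd 79118 = n160103 := ndS (p := 45283) (l := 7) rfl N45283 D160103
theorem N79119 : nd 79119 = n160107 := ndS (p := 45286) (l := 6) rfl N45286 D160107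
theorem N79120 : nd 79120 = n160108 := ndS (p := 45287) (l := 6) rfl N45287 D160108
theorem N79121 : nd 79121 = n160109 := ndS (p := 45288) (l := 6) rfl N45288 D160109
theorem N79122 : nd 79122 = n160113 := ndS (p := 45289) (l := 0) rfl N45289 D160113
theorem N79123 : nd 79123 = n160114 := ndS (p := 45289) (l := 5) rfl N45289 D160114
theorem N79124 : nd 79124 = n160119 := ndS (p := 45292) (l := 1) rfl N45292 D160119
theorem N79125 : nd 79125 = n160143 := ndS (p := 45295) (l := 4) rfl N45295 D160143
theorem N79126 : nd 79126 = n160201 := ndS (p := 45315) (l := 6) rfl N45315 D160201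
theorem N79127 : nd 79127 = n160202 := ndS (p := 45316) (l := 1) rfl N45316 D160202
theorem N79128 : nd 79128 = n160203 := ndS (p := 45316) (l := 7) rfl N45316 D160203
theorem N79129 : nd 79129 = n160239 := ndS (p := 45322) (l := 6) rfl N45322 D160239
theorem N79130 : nd 79130 = n160240 := ndS (p := 45323) (l := 0) rfl N45323 D160240
theorem N79131 : nd 79131 = n160241 := ndS (p := 45323) (l := 7) rfl N45323 D160241
theorem N79132 : nd 79132 = n160261 := ndS (p := 45328) (l := 3) rfl N45328 D160261
theorem N79133 : nd 79133 = n160263 := ndS (p := 45329) (l := 0) rfl N45329 D160263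
theorem N79134 : nd 79134 = n160264 := ndS (p := 45329) (l := 1) rfl N45329 D160264
theorem N79135 : nd 79135 = n160265 := ndS (p := 45329) (l := 2) rfl N45329 D160265
theorem N79136 : nd 79136 = n160266 := ndS (p := 45329) (l := 5) rfl N45329 D160266
theorem N79137 : nd 79137 = n160267 := ndS (p := 45330) (l := 6) rfl N45330 D160267
theorem N79138 : nd 79138 = n160268 := ndS (p := 45331) (l := 6) rfl N45331 D160268
theorem N79139 : nd 79139 = n160272 := ndS (p := 45333) (l := 5) rfl N45333 D160272
theorem N79140 : nd 79140 = n160273 := ndS (p := 45333) (l := 7) rfl N45333 D160273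
theorem N79141 : nd 79141 = n160274 := ndS (p := 45334) (l := 3) rfl N45334 D160274
theorem N79142 : nd 79142 = n160275 := ndS (p := 45334) (l := 5) rfl N45334 D160275
theorem N79143 : nd 79143 = n160277 := ndS (p := 45335) (l := 5) rfl N45335 D160277
theorem N79144 : nd 79144 = n160280 := ndS (p := 45336) (l := 7) rfl N45336 D160280
theorem N79145 : nd 79145 = n160286 := ndS (p := 45339) (l := 4) rfl N45339 D160286
theorem N79146 : nd 79146 = n160293 := ndS (p := 45340) (l := 0) rfl N45340 D160293
theorem N79147 : nd 79147 = n160294 := ndS (p := 45340) (l := 1) rfl N45340 D160294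
theorem N79148 : nd 79148 = n160295 := ndS (p := 45340) (l := 2) rfl N45340 D160295
theorem N79149 : nd 79149 = n160297 := ndS (p := 45341) (l := 3) rfl N45341 D160297
theorem N79150 : nd 79150 = n160299 := ndS (p := 45341) (l := 5) rfl N45341 D160299
theorem N79151 : nd 79151 = n160300 := ndS (p := 45341) (l := 6) rfl N45341 D160300
theorem N79152 : nd 79152 = n160305 := ndS (p := 45342) (l := 6) rfl N45342 D160305
theorem N79153 : nd 79153 = n160307 := ndS (p := 45343) (l := 1) rfl N45343 D160307
theorem N79154 : nd 79154 = n160308 := ndS (p := 45343) (l := 4) rfl N45343 D160308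
theorem N79155 : nd 79155 = n160309 := ndS (p := 45343) (l := 7) rfl N45343 D160309
theorem N79156 : nd 79156 = n160317 := ndS (p := 45345) (l := 4) rfl N45345 D160317
theorem N79157 : nd 79157 = n160318 := ndS (p := 45345) (l := 6) rfl N45345 D160318
theorem N79158 : nd 79158 = n160322 := ndS (p := 45346) (l := 4) rfl N45346 D160322
theorem N79159 : nd 79159 = n160324 := ndS (p := 45346) (l := 6) rfl N45346 D160324
theorem N79160 : nd 79160 = n160325 := ndS (p := 45347) (l := 4) rfl N45347 D160325
theorem N79161 : nd 79161 = n160327 := ndS (p := 45349) (l := 3) rfl N45349 D160327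
theorem N79162 : nd 79162 = n160328 := ndS (p := 45349) (l := 4) rfl N45349 D160328
theorem N79163 : nd 79163 = n160331 := ndS (p := 45350) (l := 4) rfl N45350 D160331
theorem N79164 : nd 79164 = n160336 := ndS (p := 45351) (l := 5) rfl N45351 D160336
theorem N79165 : nd 79165 = n160338 := ndS (p := 45352) (l := 6) rfl N45352 D160338
theorem N79166 : nd 79166 = n160343 := ndS (p := 45354) (l := 3) rfl N45354 D160343
theorem N79167 : nd 79167 = n160352 := ndS (p := 45356) (l := 4) rfl N45356 D160352
theorem N79168 : nd 79168 = n160358 := ndS (p := 45357) (l := 1) rfl N45357 D160358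
theorem N79169 : nd 79169 = n160359 := ndS (p := 45357) (l := 3) rfl N45357 D160359
theorem N79170 : nd 79170 = n160360 := ndS (p := 45357) (l := 5) rfl N45357 D160360
theorem N79171 : nd 79171 = n160372 := ndS (p := 45359) (l := 3) rfl N45359 D160372
theorem N79172 : nd 79172 = n160373 := ndS (p := 45359) (l := 5) rfl N45359 D160373
theorem N79173 : nd 79173 = n160386 := ndS (p := 45360) (l := 3) rfl N45360 D160386
theorem N79174 : nd 79174 = n160387 := ndS (p := 45360) (l := 5) rfl N45360 D160387
theorem N79175 : nd 79175 = n160389 := ndS (p := 45361) (l := 3) rfl N45361 D160389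
theorem N79176 : nd 79176 = n160390 := ndS (p := 45361) (l := 5) rfl N45361 D160390
theorem N79177 : nd 79177 = n160392 := ndS (p := 45362) (l := 0) rfl N45362 D160392
theorem N79178 : nd 79178 = n160393 := ndS (p := 45362) (l := 1) rfl N45362 D160393
theorem N79179 : nd 79179 = n160394 := ndS (p := 45362) (l := 2) rfl N45362 D160394
theorem N79180 : nd 79180 = n160395 := ndS (p := 45362) (l := 5) rfl N45362 D160395
theorem N79181 : nd 79181 = n160397 := ndS (p := 45363) (l := 0) rfl N45363 D160397
theorem N79182 : nd 79182 = n160398 := ndS (p := 45363) (l := 1) rfl N45363 D160398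
theorem N79183 : nd 79183 = n160399 := ndS (p := 45363) (l := 4) rfl N45363 D160399
theorem N79184 : nd 79184 = n160400 := ndS (p := 45363) (l := 6) rfl N45363 D160400
theorem N79185 : nd 79185 = n160404 := ndS (p := 45364) (l := 0) rfl N45364 D160404
theorem N79186 : nd 79186 = n160405 := ndS (p := 45364) (l := 1) rfl N45364 D160405
theorem N79187 : nd 79187 = n160406 := ndS (p := 45364) (l := 2) rfl N45364 D160406
theorem N79188 : nd 79188 = n160407 := ndS (p := 45364) (l := 5) rfl N45364 D160407
theorem N79189 : nd 79189 = n160408 := ndS (p := 45364) (l := 6) rfl N45364 D160408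
theorem N79190 : nd 79190 = n160409 := ndS (p := 45365) (l := 6) rfl N45365 D160409
theorem N79191 : nd 79191 = n160415 := ndS (p := 45367) (l := 0) rfl N45367 D160415
theorem N79192 : nd 79192 = n160416 := ndS (p := 45367) (l := 1) rfl N45367 D160416
theorem N79193 : nd 79193 = n160417 := ndS (p := 45367) (l := 2) rfl N45367 D160417
theorem N79194 : nd 79194 = n160418 := ndS (p := 45367) (l := 5) rfl N45367 D160418
theorem N79195 : nd 79195 = n160420 := ndS (p := 45368) (l := 6) rfl N45368 D160420
theorem N79196 : nd 79196 = n160432 := ndS (p := 45369) (l := 0) rfl N45369 D160432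
theorem N79197 : nd 79197 = n160433 := ndS (p := 45369) (l := 1) rfl N45369 D160433
theorem N79198 : nd 79198 = n160434 := ndS (p := 45369) (l := 2) rfl N45369 D160434
theorem N79199 : nd 79199 = n160435 := ndS (p := 45369) (l := 5) rfl N45369 D160435
theorem N79200 : nd 79200 = n160437 := ndS (p := 45370) (l := 6) rfl N45370 D160437
theorem N79201 : nd 79201 = n160441 := ndS (p := 45371) (l := 0) rfl N45371 D160441
theorem N79202 : nd 79202 = n160443 := ndS (p := 45371) (l := 2) rfl N45371 D160443
theorem N79203 : nd 79203 = n160444 := ndS (p := 45371) (l := 5) rfl N45371 D160444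
theorem N79204 : nd 79204 = n160445 := ndS (p := 45371) (l := 6) rfl N45371 D160445
theorem N79205 : nd 79205 = n160454 := ndS (p := 45374) (l := 3) rfl N45374 D160454
theorem N79206 : nd 79206 = n160455 := ndS (p := 45374) (l := 5) rfl N45374 D160455
theorem N79207 : nd 79207 = n160456 := ndS (p := 45374) (l := 6) rfl N45374 D160456
theorem N79208 : nd 79208 = n160457 := ndS (p := 45375) (l := 5) rfl N45375 D160457
theorem N79209 : nd 79209 = n160458 := ndS (p := 45376) (l := 0) rfl N45376 D160458
theorem N79210 : nd 79210 = n160459 := ndS (p := 45376) (l := 1) rfl N45376 D160459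
theorem N79211 : nd 79211 = n160460 := ndS (p := 45376) (l := 4) rfl N45376 D160460
theorem N79212 : nd 79212 = n160461 := ndS (p := 45376) (l := 6) rfl N45376 D160461
theorem N79213 : nd 79213 = n160462 := ndS (p := 45377) (l := 3) rfl N45377 D160462
theorem N79214 : nd 79214 = n160463 := ndS (p := 45377) (l := 6) rfl N45377 D160463
theorem N79215 : nd 79215 = n160464 := ndS (p := 45378) (l := 3) rfl N45378 D160464
theorem N79216 : nd 79216 = n160466 := ndS (p := 45379) (l := 0) rfl N45379 D160466
theorem N79217 : nd 79217 = n160467 := ndS (p := 45379) (l := 1) rfl N45379 D160467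
theorem N79218 : nd 79218 = n160468 := ndS (p := 45379) (l := 7) rfl N45379 D160468
theorem N79219 : nd 79219 = n160476 := ndS (p := 45381) (l := 3) rfl N45381 D160476
theorem N79220 : nd 79220 = n160487 := ndS (p := 45385) (l := 4) rfl N45385 D160487
theorem N79221 : nd 79221 = n160490 := ndS (p := 45386) (l := 3) rfl N45386 D160490
theorem N79222 : nd 79222 = n160492 := ndS (p := 45387) (l := 0) rfl N45387 D160492
theorem N79223 : nd 79223 = n160493 := ndS (p := 45387) (l := 1) rfl N45387 D160493
theorem N79224 : nd 79224 = n160514 := ndS (p := 45389) (l := 2) rfl N45389 D160514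
theorem N79225 : nd 79225 = n160537 := ndS (p := 45391) (l := 2) rfl N45391 D160537
theorem N79226 : nd 79226 = n160538 := ndS (p := 45391) (l := 3) rfl N45391 D160538
theorem N79227 : nd 79227 = n160539 := ndS (p := 45391) (l := 4) rfl N45391 D160539
theorem N79228 : nd 79228 = n160542 := ndS (p := 45391) (l := 7) rfl N45391 D160542
theorem N79229 : nd 79229 = n160544 := ndS (p := 45392) (l := 4) rfl N45392 D160544
theorem N79230 : nd 79230 = n160564 := ndS (p := 45397) (l := 1) rfl N45397 D160564
theorem N79231 : nd 79231 = n160568 := ndS (p := 45398) (l := 1) rfl N45398 D160568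
theorem N79232 : nd 79232 = n160569 := ndS (p := 45398) (l := 3) rfl N45398 D160569
theorem N79233 : nd 79233 = n160570 := ndS (p := 45398) (l := 5) rfl N45398 D160570
theorem N79234 : nd 79234 = n160571 := ndS (p := 45398) (l := 6) rfl N45398 D160571
theorem N79235 : nd 79235 = n160581 := ndS (p := 45400) (l := 4) rfl N45400 D160581
theorem N79236 : nd 79236 = n160582 := ndS (p := 45400) (l := 6) rfl N45400 D160582
theorem N79237 : nd 79237 = n160583 := ndS (p := 45401) (l := 3) rfl N45401 D160583
theorem N79238 : nd 79238 = n160584 := ndS (p := 45401) (l := 5) rfl N45401 D160584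
theorem N79239 : nd 79239 = n160585 := ndS (p := 45401) (l := 6) rfl N45401 D160585
theorem N79240 : nd 79240 = n160588 := ndS (p := 45402) (l := 5) rfl N45402 D160588
theorem N79241 : nd 79241 = n160594 := ndS (p := 45403) (l := 0) rfl N45403 D160594
theorem N79242 : nd 79242 = n160595 := ndS (p := 45403) (l := 1) rfl N45403 D160595
theorem N79243 : nd 79243 = n160596 := ndS (p := 45403) (l := 5) rfl N45403 D160596
theorem N79244 : nd 79244 = n160603 := ndS (p := 45404) (l := 0) rfl N45404 D160603
theorem N79245 : nd 79245 = n160605 := ndS (p := 45404) (l := 4) rfl N45404 D160605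
theorem N79246 : nd 79246 = n160609 := ndS (p := 45405) (l := 5) rfl N45405 D160609
theorem N79247 : nd 79247 = n160610 := ndS (p := 45406) (l := 3) rfl N45406 D160610
theorem N79248 : nd 79248 = n160611 := ndS (p := 45406) (l := 5) rfl N45406 D160611
theorem N79249 : nd 79249 = n160612 := ndS (p := 45406) (l := 6) rfl N45406 D160612
theorem N79250 : nd 79250 = n160616 := ndS (p := 45407) (l := 0) rfl N45407 D160616
theorem N79251 : nd 79251 = n160617 := ndS (p := 45407) (l := 1) rfl N45407 D160617
theorem N79252 : nd 79252 = n160618 := ndS (p := 45407) (l := 2) rfl N45407 D160618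
theorem N79253 : nd 79253 = n160619 := ndS (p := 45407) (l := 5) rfl N45407 D160619
theorem N79254 : nd 79254 = n160620 := ndS (p := 45408) (l := 6) rfl N45408 D160620
theorem N79255 : nd 79255 = n160621 := ndS (p := 45409) (l := 5) rfl N45409 D160621
theorem N79256 : nd 79256 = n160638 := ndS (p := 45414) (l := 3) rfl N45414 D160638
theorem N79257 : nd 79257 = n160639 := ndS (p := 45414) (l := 5) rfl N45414 D160639
theorem N79258 : nd 79258 = n160640 := ndS (p := 45415) (l := 5) rfl N45415 D160640
theorem N79259 : nd 79259 = n160642 := ndS (p := 45416) (l := 1) rfl N45416 D160642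
theorem N79260 : nd 79260 = n160643 := ndS (p := 45416) (l := 2) rfl N45416 D160643
theorem N79261 : nd 79261 = n160644 := ndS (p := 45416) (l := 5) rfl N45416 D160644
theorem N79262 : nd 79262 = n160645 := ndS (p := 45417) (l := 6) rfl N45417 D160645
theorem N79263 : nd 79263 = n160648 := ndS (p := 45420) (l := 6) rfl N45420 D160648
theorem N79264 : nd 79264 = n160656 := ndS (p := 45422) (l := 7) rfl N45422 D160656
theorem N79265 : nd 79265 = n160675 := ndS (p := 45426) (l := 0) rfl N45426 D160675
theorem N79266 : nd 79266 = n160676 := ndS (p := 45426) (l := 1) rfl N45426 D160676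
theorem N79267 : nd 79267 = n160677 := ndS (p := 45426) (l := 2) rfl N45426 D160677
theorem N79268 : nd 79268 = n160678 := ndS (p := 45426) (l := 5) rfl N45426 D160678
theorem N79269 : nd 79269 = n160679 := ndS (p := 45427) (l := 6) rfl N45427 D160679
theorem N79270 : nd 79270 = n160687 := ndS (p := 45429) (l := 7) rfl N45429 D160687
theorem N79271 : nd 79271 = n160712 := ndS (p := 45433) (l := 4) rfl N45433 D160712
theorem N79272 : nd 79272 = n160713 := ndS (p := 45433) (l := 6) rfl N45433 D160713
theorem N79273 : nd 79273 = n160717 := ndS (p := 45434) (l := 0) rfl N45434 D160717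
theorem N79274 : nd 79274 = n160718 := ndS (p := 45434) (l := 1) rfl N45434 D160718
theorem N79275 : nd 79275 = n160720 := ndS (p := 45434) (l := 7) rfl N45434 D160720
theorem N79276 : nd 79276 = n160724 := ndS (p := 45435) (l := 6) rfl N45435 D160724
theorem N79277 : nd 79277 = n160725 := ndS (p := 45436) (l := 0) rfl N45436 D160725
theorem N79278 : nd 79278 = n160726 := ndS (p := 45436) (l := 1) rfl N45436 D160726
theorem N79279 : nd 79279 = n160728 := ndS (p := 45436) (l := 7) rfl N45436 D160728
theorem N79280 : nd 79280 = n160730 := ndS (p := 45438) (l := 0) rfl N45438 D160730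
theorem N79281 : nd 79281 = n160733 := ndS (p := 45438) (l := 7) rfl N45438 D160733
theorem N79282 : nd 79282 = n160737 := ndS (p := 45439) (l := 5) rfl N45439 D160737
theorem N79283 : nd 79283 = n160738 := ndS (p := 45439) (l := 6) rfl N45439 D160738
theorem N79284 : nd 79284 = n160743 := ndS (p := 45440) (l := 6) rfl N45440 D160743
theorem N79285 : nd 79285 = n160745 := ndS (p := 45441) (l := 1) rfl N45441 D160745
theorem N79286 : nd 79286 = n160747 := ndS (p := 45441) (l := 7) rfl N45441 D160747
theorem N79287 : nd 79287 = n160763 := ndS (p := 45444) (l := 4) rfl N45444 D160763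
theorem N79288 : nd 79288 = n160764 := ndS (p := 45444) (l := 6) rfl N45444 D160764
theorem N79289 : nd 79289 = n160779 := ndS (p := 45446) (l := 3) rfl N45446 D160779
theorem N79290 : nd 79290 = n160781 := ndS (p := 45447) (l := 0) rfl N45447 D160781
theorem N79291 : nd 79291 = n160788 := ndS (p := 45448) (l := 4) rfl N45448 D160788
theorem N79292 : nd 79292 = n160810 := ndS (p := 45452) (l := 3) rfl N45452 D160810
theorem N79293 : nd 79293 = n160811 := ndS (p := 45452) (l := 5) rfl N45452 D160811
theorem N79294 : nd 79294 = n160819 := ndS (p := 45454) (l := 3) rfl N45454 D160819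
theorem N79295 : nd 79295 = n160820 := ndS (p := 45454) (l := 5) rfl N45454 D160820
theorem N79296 : nd 79296 = n160831 := ndS (p := 45456) (l := 0) rfl N45456 D160831
theorem N79297 : nd 79297 = n160832 := ndS (p := 45456) (l := 1) rfl N45456 D160832
theorem N79298 : nd 79298 = n160833 := ndS (p := 45456) (l := 2) rfl N45456 D160833
theorem N79299 : nd 79299 = n160837 := ndS (p := 45457) (l := 1) rfl N45457 D160837
theorem N79300 : nd 79300 = n160842 := ndS (p := 45458) (l := 0) rfl N45458 D160842
theorem N79301 : nd 79301 = n160843 := ndS (p := 45458) (l := 1) rfl N45458 D160843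
theorem N79302 : nd 79302 = n160844 := ndS (p := 45458) (l := 2) rfl N45458 D160844
theorem N79303 : nd 79303 = n160845 := ndS (p := 45458) (l := 5) rfl N45458 D160845
theorem N79304 : nd 79304 = n160846 := ndS (p := 45458) (l := 6) rfl N45458 D160846
theorem N79305 : nd 79305 = n160847 := ndS (p := 45459) (l := 6) rfl N45459 D160847
theorem N79306 : nd 79306 = n160854 := ndS (p := 45463) (l := 1) rfl N45463 D160854
theorem N79307 : nd 79307 = n160855 := ndS (p := 45463) (l := 2) rfl N45463 D160855
theorem N79308 : nd 79308 = n160856 := ndS (p := 45463) (l := 5) rfl N45463 D160856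
theorem N79309 : nd 79309 = n160857 := ndS (p := 45463) (l := 6) rfl N45463 D160857
theorem N79310 : nd 79310 = n160858 := ndS (p := 45464) (l := 6) rfl N45464 D160858
theorem N79311 : nd 79311 = n160864 := ndS (p := 45466) (l := 0) rfl N45466 D160864
theorem N79312 : nd 79312 = n160865 := ndS (p := 45466) (l := 1) rfl N45466 D160865
theorem N79313 : nd 79313 = n160866 := ndS (p := 45466) (l := 2) rfl N45466 D160866
theorem N79314 : nd 79314 = n160867 := ndS (p := 45466) (l := 5) rfl N45466 D160867
theorem N79315 : nd 79315 = n160869 := ndS (p := 45467) (l := 6) rfl N45467 D160869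
theorem N79316 : nd 79316 = n160888 := ndS (p := 45468) (l := 6) rfl N45468 D160888
theorem N79317 : nd 79317 = n160894 := ndS (p := 45469) (l := 3) rfl N45469 D160894
theorem N79318 : nd 79318 = n160896 := ndS (p := 45469) (l := 5) rfl N45469 D160896
theorem N79319 : nd 79319 = n160899 := ndS (p := 45470) (l := 3) rfl N45470 D160899
theorem N79320 : nd 79320 = n160900 := ndS (p := 45470) (l := 5) rfl N45470 D160900
theorem N79321 : nd 79321 = n160901 := ndS (p := 45470) (l := 6) rfl N45470 D160901
theorem N79322 : nd 79322 = n160902 := ndS (p := 45471) (l := 5) rfl N45471 D160902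
theorem N79323 : nd 79323 = n160903 := ndS (p := 45472) (l := 0) rfl N45472 D160903
theorem N79324 : nd 79324 = n160908 := ndS (p := 45473) (l := 6) rfl N45473 D160908
theorem N79325 : nd 79325 = n160911 := ndS (p := 45475) (l := 3) rfl N45475 D160911
theorem N79326 : nd 79326 = n160912 := ndS (p := 45475) (l := 6) rfl N45475 D160912
theorem N79327 : nd 79327 = n160913 := ndS (p := 45476) (l := 0) rfl N45476 D160913
theorem N79328 : nd 79328 = n160914 := ndS (p := 45476) (l := 1) rfl N45476 D160914
theorem N79329 : nd 79329 = n160915 := ndS (p := 45476) (l := 7) rfl N45476 D160915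
theorem N79330 : nd 79330 = n160926 := ndS (p := 45477) (l := 2) rfl N45477 D160926
theorem N79331 : nd 79331 = n160946 := ndS (p := 45479) (l := 0) rfl N45479 D160946
theorem N79332 : nd 79332 = n160948 := ndS (p := 45479) (l := 3) rfl N45479 D160948
theorem N79333 : nd 79333 = n160949 := ndS (p := 45479) (l := 4) rfl N45479 D160949
theorem N79334 : nd 79334 = n160952 := ndS (p := 45479) (l := 7) rfl N45479 D160952
theorem N79335 : nd 79335 = n160953 := ndS (p := 45480) (l := 3) rfl N45480 D160953
theorem N79336 : nd 79336 = n160959 := ndS (p := 45481) (l := 5) rfl N45481 D160959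
theorem N79337 : nd 79337 = n160960 := ndS (p := 45482) (l := 0) rfl N45482 D160960
theorem N79338 : nd 79338 = n160961 := ndS (p := 45482) (l := 1) rfl N45482 D160961
theorem N79339 : nd 79339 = n160962 := ndS (p := 45482) (l := 4) rfl N45482 D160962
theorem N79340 : nd 79340 = n160963 := ndS (p := 45482) (l := 7) rfl N45482 D160963
theorem N79341 : nd 79341 = n160971 := ndS (p := 45485) (l := 1) rfl N45485 D160971
theorem N79342 : nd 79342 = n160975 := ndS (p := 45486) (l := 1) rfl N45486 D160975
theorem N79343 : nd 79343 = n160976 := ndS (p := 45486) (l := 3) rfl N45486 D160976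
theorem N79344 : nd 79344 = n160977 := ndS (p := 45486) (l := 5) rfl N45486 D160977
theorem N79345 : nd 79345 = n160986 := ndS (p := 45487) (l := 4) rfl N45487 D160986
theorem N79346 : nd 79346 = n160987 := ndS (p := 45487) (l := 6) rfl N45487 D160987
theorem N79347 : nd 79347 = n160988 := ndS (p := 45488) (l := 3) rfl N45488 D160988
theorem N79348 : nd 79348 = n160989 := ndS (p := 45488) (l := 5) rfl N45488 D160989
theorem N79349 : nd 79349 = n160990 := ndS (p := 45488) (l := 6) rfl N45488 D160990
theorem N79350 : nd 79350 = n160993 := ndS (p := 45489) (l := 5) rfl N45489 D160993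
theorem N79351 : nd 79351 = n160995 := ndS (p := 45490) (l := 3) rfl N45490 D160995
theorem N79352 : nd 79352 = n160996 := ndS (p := 45491) (l := 0) rfl N45491 D160996
theorem N79353 : nd 79353 = n160997 := ndS (p := 45491) (l := 1) rfl N45491 D160997
theorem N79354 : nd 79354 = n160998 := ndS (p := 45491) (l := 2) rfl N45491 D160998
theorem N79355 : nd 79355 = n160999 := ndS (p := 45491) (l := 5) rfl N45491 D160999
theorem N79356 : nd 79356 = n161002 := ndS (p := 45492) (l := 6) rfl N45492 D161002
theorem N79357 : nd 79357 = n161003 := ndS (p := 45493) (l := 3) rfl N45493 D161003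
theorem N79358 : nd 79358 = n161007 := ndS (p := 45496) (l := 0) rfl N45496 D161007
theorem N79359 : nd 79359 = n161008 := ndS (p := 45496) (l := 1) rfl N45496 D161008
theorem N79360 : nd 79360 = n161009 := ndS (p := 45496) (l := 2) rfl N45496 D161009
theorem N79361 : nd 79361 = n161010 := ndS (p := 45496) (l := 5) rfl N45496 D161010
theorem N79362 : nd 79362 = n161012 := ndS (p := 45497) (l := 6) rfl N45497 D161012
theorem N79363 : nd 79363 = n161015 := ndS (p := 45498) (l := 4) rfl N45498 D161015
theorem N79364 : nd 79364 = n161016 := ndS (p := 45498) (l := 6) rfl N45498 D161016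
theorem N79365 : nd 79365 = n161099 := ndS (p := 45500) (l := 4) rfl N45500 D161099
theorem N79366 : nd 79366 = n161165 := ndS (p := 45510) (l := 1) rfl N45510 D161165
theorem N79367 : nd 79367 = n161166 := ndS (p := 45510) (l := 2) rfl N45510 D161166
theorem N79368 : nd 79368 = n161168 := ndS (p := 45510) (l := 6) rfl N45510 D161168
theorem N79369 : nd 79369 = n161173 := ndS (p := 45512) (l := 3) rfl N45512 D161173
theorem N79370 : nd 79370 = n161177 := ndS (p := 45513) (l := 3) rfl N45513 D161177
theorem N79371 : nd 79371 = n161298 := ndS (p := 45519) (l := 4) rfl N45519 D161298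
theorem N79372 : nd 79372 = n161311 := ndS (p := 45521) (l := 0) rfl N45521 D161311
theorem N79373 : nd 79373 = n161314 := ndS (p := 45521) (l := 5) rfl N45521 D161314
theorem N79374 : nd 79374 = n161315 := ndS (p := 45521) (l := 6) rfl N45521 D161315
theorem N79375 : nd 79375 = n161331 := ndS (p := 45524) (l := 1) rfl N45524 D161331
theorem N79376 : nd 79376 = n161333 := ndS (p := 45524) (l := 5) rfl N45524 D161333
theorem N79377 : nd 79377 = n161345 := ndS (p := 45526) (l := 6) rfl N45526 D161345
theorem N79378 : nd 79378 = n161353 := ndS (p := 45528) (l := 5) rfl N45528 D161353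
theorem N79379 : nd 79379 = n161356 := ndS (p := 45529) (l := 3) rfl N45529 D161356
theorem N79380 : nd 79380 = n161357 := ndS (p := 45529) (l := 4) rfl N45529 D161357
theorem N79381 : nd 79381 = n161365 := ndS (p := 45530) (l := 0) rfl N45530 D161365
theorem N79382 : nd 79382 = n161367 := ndS (p := 45530) (l := 4) rfl N45530 D161367
theorem N79383 : nd 79383 = n161383 := ndS (p := 45534) (l := 0) rfl N45534 D161383
theorem N79384 : nd 79384 = n161385 := ndS (p := 45534) (l := 2) rfl N45534 D161385
theorem N79385 : nd 79385 = n161393 := ndS (p := 45535) (l := 1) rfl N45535 D161393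
theorem N79386 : nd 79386 = n161394 := ndS (p := 45535) (l := 2) rfl N45535 D161394
theorem N79387 : nd 79387 = n161401 := ndS (p := 45536) (l := 3) rfl N45536 D161401
theorem N79388 : nd 79388 = n161504 := ndS (p := 45539) (l := 5) rfl N45539 D161504
theorem N79389 : nd 79389 = n161515 := ndS (p := 45542) (l := 2) rfl N45542 D161515
theorem N79390 : nd 79390 = n161571 := ndS (p := 45547) (l := 6) rfl N45547 D161571
theorem N79391 : nd 79391 = n161574 := ndS (p := 45548) (l := 5) rfl N45548 D161574
theorem N79392 : nd 79392 = n161577 := ndS (p := 45549) (l := 5) rfl N45549 D161577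
theorem N79393 : nd 79393 = n161578 := ndS (p := 45549) (l := 7) rfl N45549 D161578
theorem N79394 : nd 79394 = n161580 := ndS (p := 45551) (l := 6) rfl N45551 D161580
theorem N79395 : nd 79395 = n161588 := ndS (p := 45555) (l := 1) rfl N45555 D161588
theorem N79396 : nd 79396 = n161589 := ndS (p := 45555) (l := 4) rfl N45555 D161589
theorem N79397 : nd 79397 = n161596 := ndS (p := 45557) (l := 3) rfl N45557 D161596
theorem N79398 : nd 79398 = n161611 := ndS (p := 45560) (l := 3) rfl N45560 D161611
theorem N79399 : nd 79399 = n161630 := ndS (p := 45564) (l := 5) rfl N45564 D161630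
theorem N79400 : nd 79400 = n161632 := ndS (p := 45565) (l := 6) rfl N45565 D161632
theorem N79401 : nd 79401 = n161636 := ndS (p := 45566) (l := 5) rfl N45566 D161636
theorem N79402 : nd 79402 = n161651 := ndS (p := 45570) (l := 5) rfl N45570 D161651
theorem N79403 : nd 79403 = n161656 := ndS (p := 45571) (l := 5) rfl N45571 D161656
theorem N79404 : nd 79404 = n161682 := ndS (p := 45578) (l := 6) rfl N45578 D161682
theorem N79405 : nd 79405 = n161685 := ndS (p := 45579) (l := 5) rfl N45579 D161685
theorem N79406 : nd 79406 = n161708 := ndS (p := 45583) (l := 3) rfl N45583 D161708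
theorem N79407 : nd 79407 = n161725 := ndS (p := 45587) (l := 5) rfl N45587 D161725
theorem N79408 : nd 79408 = n161814 := ndS (p := 45595) (l := 3) rfl N45595 D161814
theorem N79409 : nd 79409 = n161832 := ndS (p := 45597) (l := 5) rfl N45597 D161832
theorem N79410 : nd 79410 = n161841 := ndS (p := 45598) (l := 6) rfl N45598 D161841
theorem N79411 : nd 79411 = n161842 := ndS (p := 45599) (l := 0) rfl N45599 D161842
theorem N79412 : nd 79412 = n161849 := ndS (p := 45600) (l := 0) rfl N45600 D161849
theorem N79413 : nd 79413 = n161879 := ndS (p := 45601) (l := 5) rfl N45601 D161879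
theorem N79414 : nd 79414 = n161882 := ndS (p := 45602) (l := 5) rfl N45602 D161882
theorem N79415 : nd 79415 = n161888 := ndS (p := 45604) (l := 0) rfl N45604 D161888
theorem N79416 : nd 79416 = n161909 := ndS (p := 45605) (l := 2) rfl N45605 D161909
theorem N79417 : nd 79417 = n161910 := ndS (p := 45605) (l := 4) rfl N45605 D161910
theorem N79418 : nd 79418 = n161924 := ndS (p := 45607) (l := 2) rfl N45607 D161924
theorem N79419 : nd 79419 = n161925 := ndS (p := 45607) (l := 4) rfl N45607 D161925
theorem N79420 : nd 79420 = n161958 := ndS (p := 45609) (l := 4) rfl N45609 D161958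
theorem N79421 : nd 79421 = n161959 := ndS (p := 45609) (l := 6) rfl N45609 D161959
theorem N79422 : nd 79422 = n161962 := ndS (p := 45612) (l := 5) rfl N45612 D161962
theorem N79423 : nd 79423 = n161965 := ndS (p := 45613) (l := 2) rfl N45613 D161965
theorem N79424 : nd 79424 = n161987 := ndS (p := 45614) (l := 3) rfl N45614 D161987
theorem N79425 : nd 79425 = n162025 := ndS (p := 45616) (l := 5) rfl N45616 D162025
theorem N79426 : nd 79426 = n162043 := ndS (p := 45622) (l := 0) rfl N45622 D162043
theorem N79427 : nd 79427 = n162045 := ndS (p := 45622) (l := 4) rfl N45622 D162045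
theorem N79428 : nd 79428 = n162074 := ndS (p := 45624) (l := 5) rfl N45624 D162074
theorem N79429 : nd 79429 = n162162 := ndS (p := 45626) (l := 3) rfl N45626 D162162
theorem N79430 : nd 79430 = n162235 := ndS (p := 45628) (l := 6) rfl N45628 D162235
theorem N79431 : nd 79431 = n162242 := ndS (p := 45632) (l := 0) rfl N45632 D162242
theorem N79432 : nd 79432 = n162244 := ndS (p := 45632) (l := 2) rfl N45632 D162244
theorem N79433 : nd 79433 = n162293 := ndS (p := 45633) (l := 6) rfl N45633 D162293
theorem N79434 : nd 79434 = n162408 := ndS (p := 45637) (l := 5) rfl N45637 D162408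
theorem N79435 : nd 79435 = n162537 := ndS (p := 45642) (l := 0) rfl N45642 D162537
theorem N79436 : nd 79436 = n162540 := ndS (p := 45642) (l := 7) rfl N45642 D162540
theorem N79437 : nd 79437 = n162554 := ndS (p := 45645) (l := 3) rfl N45645 D162554
theorem N79438 : nd 79438 = n162570 := ndS (p := 45649) (l := 0) rfl N45649 D162570
theorem N79439 : nd 79439 = n162571 := ndS (p := 45649) (l := 1) rfl N45649 D162571
theorem N79440 : nd 79440 = n162573 := ndS (p := 45649) (l := 7) rfl N45649 D162573
theorem N79441 : nd 79441 = n162577 := ndS (p := 45650) (l := 5) rfl N45650 D162577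
theorem N79442 : nd 79442 = n162578 := ndS (p := 45650) (l := 6) rfl N45650 D162578
theorem N79443 : nd 79443 = n162582 := ndS (p := 45651) (l := 5) rfl N45651 D162582
theorem N79444 : nd 79444 = n162584 := ndS (p := 45652) (l := 0) rfl N45652 D162584
theorem N79445 : nd 79445 = n162585 := ndS (p := 45652) (l := 1) rfl N45652 D162585
theorem N79446 : nd 79446 = n162586 := ndS (p := 45652) (l := 4) rfl N45652 D162586
theorem N79447 : nd 79447 = n162587 := ndS (p := 45652) (l := 7) rfl N45652 D162587
theorem N79448 : nd 79448 = n162604 := ndS (p := 45654) (l := 3) rfl N45654 D162604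
theorem N79449 : nd 79449 = n162605 := ndS (p := 45654) (l := 4) rfl N45654 D162605
theorem N79450 : nd 79450 = n162606 := ndS (p := 45654) (l := 6) rfl N45654 D162606
theorem N79451 : nd 79451 = n162607 := ndS (p := 45655) (l := 3) rfl N45655 D162607
theorem N79452 : nd 79452 = n162608 := ndS (p := 45655) (l := 4) rfl N45655 D162608
theorem N79453 : nd 79453 = n162609 := ndS (p := 45655) (l := 6) rfl N45655 D162609
theorem N79454 : nd 79454 = n162610 := ndS (p := 45656) (l := 0) rfl N45656 D162610
theorem N79455 : nd 79455 = n162611 := ndS (p := 45656) (l := 1) rfl N45656 D162611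
theorem N79456 : nd 79456 = n162612 := ndS (p := 45656) (l := 3) rfl N45656 D162612
theorem N79457 : nd 79457 = n162613 := ndS (p := 45656) (l := 5) rfl N45656 D162613
theorem N79458 : nd 79458 = n162617 := ndS (p := 45657) (l := 4) rfl N45657 D162617
theorem N79459 : nd 79459 = n162623 := ndS (p := 45658) (l := 2) rfl N45658 D162623
theorem N79460 : nd 79460 = n162624 := ndS (p := 45658) (l := 5) rfl N45658 D162624
theorem N79461 : nd 79461 = n162628 := ndS (p := 45659) (l := 4) rfl N45659 D162628
theorem N79462 : nd 79462 = n162629 := ndS (p := 45659) (l := 6) rfl N45659 D162629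
theorem N79463 : nd 79463 = n162635 := ndS (p := 45660) (l := 3) rfl N45660 D162635
theorem N79464 : nd 79464 = n162636 := ndS (p := 45660) (l := 5) rfl N45660 D162636
theorem N79465 : nd 79465 = n162652 := ndS (p := 45663) (l := 3) rfl N45663 D162652
theorem N79466 : nd 79466 = n162653 := ndS (p := 45663) (l := 5) rfl N45663 D162653
theorem N79467 : nd 79467 = n162654 := ndS (p := 45663) (l := 6) rfl N45663 D162654
theorem N79468 : nd 79468 = n162655 := ndS (p := 45664) (l := 0) rfl N45664 D162655
theorem N79469 : nd 79469 = n162657 := ndS (p := 45665) (l := 3) rfl N45665 D162657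
theorem N79470 : nd 79470 = n162658 := ndS (p := 45665) (l := 5) rfl N45665 D162658
theorem N79471 : nd 79471 = n162660 := ndS (p := 45666) (l := 5) rfl N45666 D162660
theorem N79472 : nd 79472 = n162663 := ndS (p := 45667) (l := 5) rfl N45667 D162663
theorem N79473 : nd 79473 = n162664 := ndS (p := 45668) (l := 0) rfl N45668 D162664
theorem N79474 : nd 79474 = n162666 := ndS (p := 45668) (l := 2) rfl N45668 D162666
theorem N79475 : nd 79475 = n162667 := ndS (p := 45668) (l := 5) rfl N45668 D162667
theorem N79476 : nd 79476 = n162668 := ndS (p := 45668) (l := 7) rfl N45668 D162668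
theorem N79477 : nd 79477 = n162671 := ndS (p := 45669) (l := 4) rfl N45669 D162671
theorem N79478 : nd 79478 = n162672 := ndS (p := 45669) (l := 6) rfl N45669 D162672
theorem N79479 : nd 79479 = n162692 := ndS (p := 45672) (l := 5) rfl N45672 D162692
theorem N79480 : nd 79480 = n162693 := ndS (p := 45673) (l := 0) rfl N45673 D162693
theorem N79481 : nd 79481 = n162702 := ndS (p := 45676) (l := 6) rfl N45676 D162702
theorem N79482 : nd 79482 = n162703 := ndS (p := 45677) (l := 3) rfl N45677 D162703
theorem N79483 : nd 79483 = n162704 := ndS (p := 45677) (l := 5) rfl N45677 D162704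
theorem N79484 : nd 79484 = n162709 := ndS (p := 45679) (l := 4) rfl N45679 D162709
theorem N79485 : nd 79485 = n162711 := ndS (p := 45680) (l := 3) rfl N45680 D162711
theorem N79486 : nd 79486 = n162712 := ndS (p := 45680) (l := 5) rfl N45680 D162712
theorem N79487 : nd 79487 = n162718 := ndS (p := 45682) (l := 6) rfl N45682 D162718
theorem N79488 : nd 79488 = n162719 := ndS (p := 45683) (l := 0) rfl N45683 D162719
theorem N79489 : nd 79489 = n162721 := ndS (p := 45683) (l := 4) rfl N45683 D162721
theorem N79490 : nd 79490 = n162722 := ndS (p := 45683) (l := 6) rfl N45683 D162722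
theorem N79491 : nd 79491 = n162723 := ndS (p := 45684) (l := 0) rfl N45684 D162723
theorem N79492 : nd 79492 = n162724 := ndS (p := 45684) (l := 1) rfl N45684 D162724
theorem N79493 : nd 79493 = n162729 := ndS (p := 45685) (l := 3) rfl N45685 D162729
theorem N79494 : nd 79494 = n162730 := ndS (p := 45685) (l := 4) rfl N45685 D162730
theorem N79495 : nd 79495 = n162731 := ndS (p := 45685) (l := 6) rfl N45685 D162731
theorem N79496 : nd 79496 = n162735 := ndS (p := 45686) (l := 5) rfl N45686 D162735
theorem N79497 : nd 79497 = n162737 := ndS (p := 45687) (l := 0) rfl N45687 D162737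
theorem N79498 : nd 79498 = n162738 := ndS (p := 45687) (l := 1) rfl N45687 D162738
theorem N79499 : nd 79499 = n162745 := ndS (p := 45688) (l := 3) rfl N45688 D162745
theorem N79500 : nd 79500 = n162751 := ndS (p := 45691) (l := 5) rfl N45691 D162751
theorem N79501 : nd 79501 = n162753 := ndS (p := 45692) (l := 3) rfl N45692 D162753
theorem N79502 : nd 79502 = n162754 := ndS (p := 45692) (l := 5) rfl N45692 D162754
theorem N79503 : nd 79503 = n162756 := ndS (p := 45693) (l := 0) rfl N45693 D162756
theorem N79504 : nd 79504 = n162757 := ndS (p := 45693) (l := 1) rfl N45693 D162757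
theorem N79505 : nd 79505 = n162758 := ndS (p := 45693) (l := 2) rfl N45693 D162758
theorem N79506 : nd 79506 = n162759 := ndS (p := 45693) (l := 5) rfl N45693 D162759
theorem N79507 : nd 79507 = n162762 := ndS (p := 45694) (l := 4) rfl N45694 D162762
theorem N79508 : nd 79508 = n162763 := ndS (p := 45694) (l := 6) rfl N45694 D162763
theorem N79509 : nd 79509 = n162770 := ndS (p := 45697) (l := 3) rfl N45697 D162770
theorem N79510 : nd 79510 = n162789 := ndS (p := 45703) (l := 0) rfl N45703 D162789
theorem N79511 : nd 79511 = n162790 := ndS (p := 45703) (l := 1) rfl N45703 D162790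
theorem N79512 : nd 79512 = n162791 := ndS (p := 45703) (l := 2) rfl N45703 D162791
theorem N79513 : nd 79513 = n162792 := ndS (p := 45703) (l := 5) rfl N45703 D162792
theorem N79514 : nd 79514 = n162799 := ndS (p := 45705) (l := 0) rfl N45705 D162799
theorem N79515 : nd 79515 = n162801 := ndS (p := 45705) (l := 2) rfl N45705 D162801
theorem N79516 : nd 79516 = n162802 := ndS (p := 45705) (l := 4) rfl N45705 D162802
theorem N79517 : nd 79517 = n162803 := ndS (p := 45705) (l := 5) rfl N45705 D162803
theorem N79518 : nd 79518 = n162805 := ndS (p := 45707) (l := 0) rfl N45707 D162805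
theorem N79519 : nd 79519 = n162806 := ndS (p := 45707) (l := 1) rfl N45707 D162806
theorem N79520 : nd 79520 = n162807 := ndS (p := 45707) (l := 2) rfl N45707 D162807
theorem N79521 : nd 79521 = n162809 := ndS (p := 45707) (l := 5) rfl N45707 D162809
theorem N79522 : nd 79522 = n162812 := ndS (p := 45709) (l := 3) rfl N45709 D162812
theorem N79523 : nd 79523 = n162813 := ndS (p := 45709) (l := 4) rfl N45709 D162813
theorem N79524 : nd 79524 = n162814 := ndS (p := 45709) (l := 5) rfl N45709 D162814
theorem N79525 : nd 79525 = n162815 := ndS (p := 45709) (l := 6) rfl N45709 D162815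
theorem N79526 : nd 79526 = n162818 := ndS (p := 45710) (l := 4) rfl N45710 D162818
theorem N79527 : nd 79527 = n162819 := ndS (p := 45710) (l := 5) rfl N45710 D162819
theorem N79528 : nd 79528 = n162821 := ndS (p := 45711) (l := 5) rfl N45711 D162821
theorem N79529 : nd 79529 = n162825 := ndS (p := 45712) (l := 4) rfl N45712 D162825
theorem N79530 : nd 79530 = n162827 := ndS (p := 45713) (l := 0) rfl N45713 D162827
theorem N79531 : nd 79531 = n162838 := ndS (p := 45716) (l := 4) rfl N45716 D162838
theorem N79532 : nd 79532 = n162840 := ndS (p := 45717) (l := 3) rfl N45717 D162840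
theorem N79533 : nd 79533 = n162841 := ndS (p := 45717) (l := 5) rfl N45717 D162841
theorem N79534 : nd 79534 = n162844 := ndS (p := 45718) (l := 1) rfl N45718 D162844
theorem N79535 : nd 79535 = n162858 := ndS (p := 45721) (l := 4) rfl N45721 D162858
theorem N79536 : nd 79536 = n162894 := ndS (p := 45726) (l := 3) rfl N45726 D162894
theorem N79537 : nd 79537 = n162895 := ndS (p := 45726) (l := 5) rfl N45726 D162895
theorem N79538 : nd 79538 = n162898 := ndS (p := 45728) (l := 3) rfl N45728 D162898
theorem N79539 : nd 79539 = n162899 := ndS (p := 45728) (l := 5) rfl N45728 D162899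
theorem N79540 : nd 79540 = n162904 := ndS (p := 45730) (l := 3) rfl N45730 D162904
theorem N79541 : nd 79541 = n162905 := ndS (p := 45730) (l := 5) rfl N45730 D162905
theorem N79542 : nd 79542 = n162907 := ndS (p := 45731) (l := 1) rfl N45731 D162907
theorem N79543 : nd 79543 = n162908 := ndS (p := 45731) (l := 2) rfl N45731 D162908
theorem N79544 : nd 79544 = n162909 := ndS (p := 45731) (l := 5) rfl N45731 D162909
theorem N79545 : nd 79545 = n162910 := ndS (p := 45731) (l := 6) rfl N45731 D162910
theorem N79546 : nd 79546 = n162913 := ndS (p := 45732) (l := 4) rfl N45732 D162913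
theorem N79547 : nd 79547 = n162916 := ndS (p := 45733) (l := 5) rfl N45733 D162916
theorem N79548 : nd 79548 = n162928 := ndS (p := 45736) (l := 3) rfl N45736 D162928
theorem N79549 : nd 79549 = n162940 := ndS (p := 45741) (l := 3) rfl N45741 D162940
theorem N79550 : nd 79550 = n162948 := ndS (p := 45743) (l := 3) rfl N45743 D162948
theorem N79551 : nd 79551 = n162949 := ndS (p := 45743) (l := 4) rfl N45743 D162949
theorem N79552 : nd 79552 = n162950 := ndS (p := 45743) (l := 5) rfl N45743 D162950
theorem N79553 : nd 79553 = n162951 := ndS (p := 45743) (l := 6) rfl N45743 D162951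
theorem N79554 : nd 79554 = n162954 := ndS (p := 45744) (l := 4) rfl N45744 D162954
theorem N79555 : nd 79555 = n162955 := ndS (p := 45744) (l := 5) rfl N45744 D162955
theorem N79556 : nd 79556 = n162956 := ndS (p := 45744) (l := 6) rfl N45744 D162956
theorem N79557 : nd 79557 = n162957 := ndS (p := 45745) (l := 5) rfl N45745 D162957
theorem N79558 : nd 79558 = n162958 := ndS (p := 45745) (l := 6) rfl N45745 D162958
theorem N79559 : nd 79559 = n162959 := ndS (p := 45746) (l := 0) rfl N45746 D162959
theorem N79560 : nd 79560 = n162960 := ndS (p := 45746) (l := 1) rfl N45746 D162960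
theorem N79561 : nd 79561 = n162963 := ndS (p := 45747) (l := 0) rfl N45747 D162963
theorem N79562 : nd 79562 = n162973 := ndS (p := 45748) (l := 0) rfl N45748 D162973
theorem N79563 : nd 79563 = n162978 := ndS (p := 45749) (l := 3) rfl N45749 D162978
theorem N79564 : nd 79564 = n162982 := ndS (p := 45750) (l := 0) rfl N45750 D162982
theorem N79565 : nd 79565 = n162984 := ndS (p := 45750) (l := 2) rfl N45750 D162984
theorem N79566 : nd 79566 = n162985 := ndS (p := 45750) (l := 5) rfl N45750 D162985
theorem N79567 : nd 79567 = n163002 := ndS (p := 45752) (l := 5) rfl N45752 D163002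
theorem N79568 : nd 79568 = n163004 := ndS (p := 45753) (l := 1) rfl N45753 D163004
theorem N79569 : nd 79569 = n163005 := ndS (p := 45753) (l := 4) rfl N45753 D163005
theorem N79570 : nd 79570 = n163018 := ndS (p := 45755) (l := 0) rfl N45755 D163018
theorem N79571 : nd 79571 = n163019 := ndS (p := 45755) (l := 1) rfl N45755 D163019
theorem N79572 : nd 79572 = n163020 := ndS (p := 45755) (l := 2) rfl N45755 D163020
theorem N79573 : nd 79573 = n163021 := ndS (p := 45755) (l := 5) rfl N45755 D163021
theorem N79574 : nd 79574 = n163026 := ndS (p := 45756) (l := 6) rfl N45756 D163026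
theorem N79575 : nd 79575 = n163034 := ndS (p := 45757) (l := 3) rfl N45757 D163034
theorem N79576 : nd 79576 = n163035 := ndS (p := 45757) (l := 4) rfl N45757 D163035
theorem N79577 : nd 79577 = n163043 := ndS (p := 45759) (l := 5) rfl N45759 D163043
theorem N79578 : nd 79578 = n163046 := ndS (p := 45760) (l := 1) rfl N45760 D163046
theorem N79579 : nd 79579 = n163047 := ndS (p := 45760) (l := 4) rfl N45760 D163047
theorem N79580 : nd 79580 = n163061 := ndS (p := 45761) (l := 4) rfl N45761 D163061
theorem N79581 : nd 79581 = n163062 := ndS (p := 45761) (l := 5) rfl N45761 D163062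
theorem N79582 : nd 79582 = n163069 := ndS (p := 45762) (l := 4) rfl N45762 D163069
theorem N79583 : nd 79583 = n163070 := ndS (p := 45762) (l := 5) rfl N45762 D163070
theorem N79584 : nd 79584 = n163073 := ndS (p := 45763) (l := 5) rfl N45763 D163073
theorem N79585 : nd 79585 = n163074 := ndS (p := 45764) (l := 0) rfl N45764 D163074
theorem N79586 : nd 79586 = n163075 := ndS (p := 45764) (l := 1) rfl N45764 D163075
theorem N79587 : nd 79587 = n163076 := ndS (p := 45764) (l := 4) rfl N45764 D163076
theorem N79588 : nd 79588 = n163078 := ndS (p := 45765) (l := 3) rfl N45765 D163078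
theorem N79589 : nd 79589 = n163080 := ndS (p := 45766) (l := 3) rfl N45766 D163080
theorem N79590 : nd 79590 = n163091 := ndS (p := 45767) (l := 3) rfl N45767 D163091
theorem N79591 : nd 79591 = n163092 := ndS (p := 45767) (l := 4) rfl N45767 D163092
theorem N79592 : nd 79592 = n163093 := ndS (p := 45767) (l := 5) rfl N45767 D163093
theorem N79593 : nd 79593 = n163095 := ndS (p := 45768) (l := 4) rfl N45768 D163095
theorem N79594 : nd 79594 = n163100 := ndS (p := 45769) (l := 5) rfl N45769 D163100
theorem N79595 : nd 79595 = n163123 := ndS (p := 45770) (l := 1) rfl N45770 D163123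
theorem N79596 : nd 79596 = n163124 := ndS (p := 45770) (l := 2) rfl N45770 D163124
theorem N79597 : nd 79597 = n163126 := ndS (p := 45770) (l := 5) rfl N45770 D163126
theorem N79598 : nd 79598 = n163127 := ndS (p := 45770) (l := 6) rfl N45770 D163127
theorem N79599 : nd 79599 = n163133 := ndS (p := 45771) (l := 6) rfl N45771 D163133
theorem N79600 : nd 79600 = n163135 := ndS (p := 45772) (l := 0) rfl N45772 D163135
theorem N79601 : nd 79601 = n163137 := ndS (p := 45772) (l := 4) rfl N45772 D163137
theorem N79602 : nd 79602 = n163140 := ndS (p := 45773) (l := 0) rfl N45773 D163140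
theorem N79603 : nd 79603 = n163145 := ndS (p := 45774) (l := 0) rfl N45774 D163145
theorem N79604 : nd 79604 = n163147 := ndS (p := 45774) (l := 2) rfl N45774 D163147
theorem N79605 : nd 79605 = n163149 := ndS (p := 45774) (l := 5) rfl N45774 D163149
theorem N79606 : nd 79606 = n163154 := ndS (p := 45775) (l := 4) rfl N45775 D163154
theorem N79607 : nd 79607 = n163172 := ndS (p := 45776) (l := 4) rfl N45776 D163172
theorem N79608 : nd 79608 = n163175 := ndS (p := 45777) (l := 3) rfl N45777 D163175
theorem N79609 : nd 79609 = n163176 := ndS (p := 45777) (l := 4) rfl N45777 D163176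
theorem N79610 : nd 79610 = n163178 := ndS (p := 45777) (l := 6) rfl N45777 D163178
theorem N79611 : nd 79611 = n163180 := ndS (p := 45778) (l := 3) rfl N45778 D163180
theorem N79612 : nd 79612 = n163181 := ndS (p := 45778) (l := 4) rfl N45778 D163181
theorem N79613 : nd 79613 = n163184 := ndS (p := 45779) (l := 0) rfl N45779 D163184
theorem N79614 : nd 79614 = n163185 := ndS (p := 45779) (l := 1) rfl N45779 D163185
theorem N79615 : nd 79615 = n163186 := ndS (p := 45779) (l := 3) rfl N45779 D163186
theorem N79616 : nd 79616 = n163187 := ndS (p := 45779) (l := 5) rfl N45779 D163187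
theorem N79617 : nd 79617 = n163188 := ndS (p := 45779) (l := 6) rfl N45779 D163188
theorem N79618 : nd 79618 = n163190 := ndS (p := 45780) (l := 0) rfl N45780 D163190
theorem N79619 : nd 79619 = n163191 := ndS (p := 45780) (l := 1) rfl N45780 D163191
theorem N79620 : nd 79620 = n163192 := ndS (p := 45780) (l := 7) rfl N45780 D163192
theorem N79621 : nd 79621 = n163199 := ndS (p := 45781) (l := 2) rfl N45781 D163199
theorem N79622 : nd 79622 = n163200 := ndS (p := 45781) (l := 4) rfl N45781 D163200
theorem N79623 : nd 79623 = n163201 := ndS (p := 45781) (l := 6) rfl N45781 D163201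
theorem N79624 : nd 79624 = n163223 := ndS (p := 45785) (l := 3) rfl N45785 D163223
theorem N79625 : nd 79625 = n163230 := ndS (p := 45787) (l := 0) rfl N45787 D163230
theorem N79626 : nd 79626 = n163235 := ndS (p := 45788) (l := 0) rfl N45788 D163235
theorem N79627 : nd 79627 = n163236 := ndS (p := 45788) (l := 1) rfl N45788 D163236
theorem N79628 : nd 79628 = n163237 := ndS (p := 45788) (l := 2) rfl N45788 D163237
theorem N79629 : nd 79629 = n163238 := ndS (p := 45788) (l := 5) rfl N45788 D163238
theorem N79630 : nd 79630 = n163240 := ndS (p := 45789) (l := 6) rfl N45789 D163240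
theorem N79631 : nd 79631 = n163246 := ndS (p := 45790) (l := 0) rfl N45790 D163246
theorem N79632 : nd 79632 = n163247 := ndS (p := 45790) (l := 1) rfl N45790 D163247
theorem N79633 : nd 79633 = n163248 := ndS (p := 45790) (l := 2) rfl N45790 D163248
theorem N79634 : nd 79634 = n163249 := ndS (p := 45790) (l := 5) rfl N45790 D163249
theorem N79635 : nd 79635 = n163251 := ndS (p := 45791) (l := 6) rfl N45791 D163251
theorem N79636 : nd 79636 = n163254 := ndS (p := 45792) (l := 5) rfl N45792 D163254
theorem N79637 : nd 79637 = n163264 := ndS (p := 45796) (l := 0) rfl N45796 D163264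
theorem N79638 : nd 79638 = n163265 := ndS (p := 45796) (l := 1) rfl N45796 D163265
theorem N79639 : nd 79639 = n163267 := ndS (p := 45796) (l := 5) rfl N45796 D163267
theorem N79640 : nd 79640 = n163269 := ndS (p := 45797) (l := 6) rfl N45797 D163269
theorem N79641 : nd 79641 = n163272 := ndS (p := 45798) (l := 3) rfl N45798 D163272
theorem N79642 : nd 79642 = n163275 := ndS (p := 45799) (l := 3) rfl N45799 D163275
theorem N79643 : nd 79643 = n163276 := ndS (p := 45799) (l := 5) rfl N45799 D163276
theorem N79644 : nd 79644 = n163277 := ndS (p := 45799) (l := 6) rfl N45799 D163277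
theorem N79645 : nd 79645 = n163278 := ndS (p := 45800) (l := 5) rfl N45800 D163278
theorem N79646 : nd 79646 = n163280 := ndS (p := 45801) (l := 4) rfl N45801 D163280
theorem N79647 : nd 79647 = n163281 := ndS (p := 45801) (l := 6) rfl N45801 D163281
theorem N79648 : nd 79648 = n163286 := ndS (p := 45802) (l := 3) rfl N45802 D163286
theorem N79649 : nd 79649 = n163287 := ndS (p := 45802) (l := 6) rfl N45802 D163287
theorem N79650 : nd 79650 = n163288 := ndS (p := 45803) (l := 0) rfl N45803 D163288
theorem N79651 : nd 79651 = n163289 := ndS (p := 45803) (l := 1) rfl N45803 D163289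
theorem N79652 : nd 79652 = n163291 := ndS (p := 45803) (l := 7) rfl N45803 D163291
theorem N79653 : nd 79653 = n163322 := ndS (p := 45804) (l := 6) rfl N45804 D163322
theorem N79654 : nd 79654 = n163324 := ndS (p := 45805) (l := 0) rfl N45805 D163324
theorem N79655 : nd 79655 = n163325 := ndS (p := 45805) (l := 1) rfl N45805 D163325
theorem N79656 : nd 79656 = n163332 := ndS (p := 45806) (l := 5) rfl N45806 D163332
theorem N79657 : nd 79657 = n163336 := ndS (p := 45807) (l := 2) rfl N45807 D163336
theorem N79658 : nd 79658 = n163337 := ndS (p := 45807) (l := 6) rfl N45807 D163337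
theorem N79659 : nd 79659 = n163338 := ndS (p := 45808) (l := 3) rfl N45808 D163338
theorem N79660 : nd 79660 = n163339 := ndS (p := 45808) (l := 5) rfl N45808 D163339
theorem N79661 : nd 79661 = n163342 := ndS (p := 45809) (l := 1) rfl N45809 D163342
theorem N79662 : nd 79662 = n163343 := ndS (p := 45809) (l := 5) rfl N45809 D163343
theorem N79663 : nd 79663 = n163344 := ndS (p := 45809) (l := 7) rfl N45809 D163344
theorem N79664 : nd 79664 = n163350 := ndS (p := 45811) (l := 3) rfl N45811 D163350
theorem N79665 : nd 79665 = n163351 := ndS (p := 45811) (l := 4) rfl N45811 D163351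
theorem N79666 : nd 79666 = n163355 := ndS (p := 45812) (l := 3) rfl N45812 D163355
theorem N79667 : nd 79667 = n163410 := ndS (p := 45815) (l := 0) rfl N45815 D163410
theorem N79668 : nd 79668 = n163411 := ndS (p := 45815) (l := 1) rfl N45815 D163411
theorem N79669 : nd 79669 = n163412 := ndS (p := 45815) (l := 2) rfl N45815 D163412
theorem N79670 : nd 79670 = n163413 := ndS (p := 45815) (l := 5) rfl N45815 D163413
theorem N79671 : nd 79671 = n163415 := ndS (p := 45816) (l := 6) rfl N45816 D163415
theorem N79672 : nd 79672 = n163421 := ndS (p := 45817) (l := 6) rfl N45817 D163421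
theorem N79673 : nd 79673 = n163423 := ndS (p := 45818) (l := 1) rfl N45818 D163423
theorem N79674 : nd 79674 = n163424 := ndS (p := 45818) (l := 2) rfl N45818 D163424
theorem N79675 : nd 79675 = n163425 := ndS (p := 45818) (l := 6) rfl N45818 D163425
theorem N79676 : nd 79676 = n163430 := ndS (p := 45822) (l := 0) rfl N45822 D163430
theorem N79677 : nd 79677 = n163431 := ndS (p := 45822) (l := 1) rfl N45822 D163431
theorem N79678 : nd 79678 = n163432 := ndS (p := 45822) (l := 2) rfl N45822 D163432
theorem N79679 : nd 79679 = n163433 := ndS (p := 45822) (l := 5) rfl N45822 D163433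
theorem N79680 : nd 79680 = n163435 := ndS (p := 45823) (l := 6) rfl N45823 D163435
theorem N79681 : nd 79681 = n163439 := ndS (p := 45825) (l := 0) rfl N45825 D163439
theorem N79682 : nd 79682 = n163441 := ndS (p := 45825) (l := 2) rfl N45825 D163441
theorem N79683 : nd 79683 = n163442 := ndS (p := 45825) (l := 5) rfl N45825 D163442
theorem N79684 : nd 79684 = n163444 := ndS (p := 45826) (l := 6) rfl N45826 D163444
theorem N79685 : nd 79685 = n163449 := ndS (p := 45827) (l := 5) rfl N45827 D163449
theorem N79686 : nd 79686 = n163450 := ndS (p := 45827) (l := 6) rfl N45827 D163450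
theorem N79687 : nd 79687 = n163454 := ndS (p := 45830) (l := 4) rfl N45830 D163454
theorem N79688 : nd 79688 = n163455 := ndS (p := 45830) (l := 5) rfl N45830 D163455
theorem N79689 : nd 79689 = n163456 := ndS (p := 45830) (l := 6) rfl N45830 D163456
theorem N79690 : nd 79690 = n163457 := ndS (p := 45831) (l := 3) rfl N45831 D163457
theorem N79691 : nd 79691 = n163458 := ndS (p := 45831) (l := 5) rfl N45831 D163458
theorem N79692 : nd 79692 = n163459 := ndS (p := 45831) (l := 6) rfl N45831 D163459
theorem N79693 : nd 79693 = n163460 := ndS (p := 45832) (l := 5) rfl N45832 D163460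
theorem N79694 : nd 79694 = n163462 := ndS (p := 45833) (l := 0) rfl N45833 D163462
theorem N79695 : nd 79695 = n163463 := ndS (p := 45833) (l := 1) rfl N45833 D163463
theorem N79696 : nd 79696 = n163464 := ndS (p := 45833) (l := 4) rfl N45833 D163464
theorem N79697 : nd 79697 = n163465 := ndS (p := 45833) (l := 6) rfl N45833 D163465
theorem N79698 : nd 79698 = n163470 := ndS (p := 45835) (l := 3) rfl N45835 D163470
theorem N79699 : nd 79699 = n163471 := ndS (p := 45835) (l := 6) rfl N45835 D163471
theorem N79700 : nd 79700 = n163472 := ndS (p := 45836) (l := 3) rfl N45836 D163472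
theorem N79701 : nd 79701 = n163473 := ndS (p := 45836) (l := 6) rfl N45836 D163473
theorem N79702 : nd 79702 = n163474 := ndS (p := 45837) (l := 0) rfl N45837 D163474
theorem N79703 : nd 79703 = n163475 := ndS (p := 45837) (l := 1) rfl N45837 D163475
theorem N79704 : nd 79704 = n163476 := ndS (p := 45837) (l := 5) rfl N45837 D163476
theorem N79705 : nd 79705 = n163477 := ndS (p := 45837) (l := 7) rfl N45837 D163477
theorem N79706 : nd 79706 = n163478 := ndS (p := 45838) (l := 3) rfl N45838 D163478
theorem N79707 : nd 79707 = n163484 := ndS (p := 45840) (l := 4) rfl N45840 D163484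
theorem N79708 : nd 79708 = n163489 := ndS (p := 45842) (l := 3) rfl N45842 D163489
theorem N79709 : nd 79709 = n163491 := ndS (p := 45843) (l := 0) rfl N45843 D163491
theorem N79710 : nd 79710 = n163495 := ndS (p := 45844) (l := 3) rfl N45844 D163495
theorem N79711 : nd 79711 = n163499 := ndS (p := 45846) (l := 1) rfl N45846 D163499
theorem N79712 : nd 79712 = n163500 := ndS (p := 45846) (l := 2) rfl N45846 D163500
theorem N79713 : nd 79713 = n163501 := ndS (p := 45846) (l := 6) rfl N45846 D163501
theorem N79714 : nd 79714 = n163502 := ndS (p := 45847) (l := 1) rfl N45847 D163502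
theorem N79715 : nd 79715 = n163503 := ndS (p := 45847) (l := 3) rfl N45847 D163503
theorem N79716 : nd 79716 = n163504 := ndS (p := 45847) (l := 5) rfl N45847 D163504
theorem N79717 : nd 79717 = n163508 := ndS (p := 45848) (l := 5) rfl N45848 D163508
theorem N79718 : nd 79718 = n163514 := ndS (p := 45850) (l := 5) rfl N45850 D163514
theorem N79719 : nd 79719 = n163515 := ndS (p := 45850) (l := 6) rfl N45850 D163515
theorem N79720 : nd 79720 = n163520 := ndS (p := 45852) (l := 0) rfl N45852 D163520
theorem N79721 : nd 79721 = n163522 := ndS (p := 45852) (l := 5) rfl N45852 D163522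
theorem N79722 : nd 79722 = n163523 := ndS (p := 45852) (l := 7) rfl N45852 D163523
theorem N79723 : nd 79723 = n163530 := ndS (p := 45854) (l := 3) rfl N45854 D163530
theorem N79724 : nd 79724 = n163531 := ndS (p := 45854) (l := 4) rfl N45854 D163531
theorem N79725 : nd 79725 = n163532 := ndS (p := 45854) (l := 5) rfl N45854 D163532
theorem N79726 : nd 79726 = n163534 := ndS (p := 45855) (l := 0) rfl N45855 D163534
theorem N79727 : nd 79727 = n163535 := ndS (p := 45855) (l := 1) rfl N45855 D163535
theorem N79728 : nd 79728 = n163541 := ndS (p := 45857) (l := 4) rfl N45857 D163541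
theorem N79729 : nd 79729 = n163549 := ndS (p := 45858) (l := 2) rfl N45858 D163549
theorem N79730 : nd 79730 = n163590 := ndS (p := 45864) (l := 4) rfl N45864 D163590
theorem N79731 : nd 79731 = n163594 := ndS (p := 45867) (l := 0) rfl N45867 D163594
theorem N79732 : nd 79732 = n163595 := ndS (p := 45867) (l := 1) rfl N45867 D163595
theorem N79733 : nd 79733 = n163599 := ndS (p := 45868) (l := 3) rfl N45868 D163599
theorem N79734 : nd 79734 = n163604 := ndS (p := 45870) (l := 5) rfl N45870 D163604
theorem N79735 : nd 79735 = n163605 := ndS (p := 45870) (l := 6) rfl N45870 D163605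
theorem N79736 : nd 79736 = n163606 := ndS (p := 45871) (l := 0) rfl N45871 D163606
theorem N79737 : nd 79737 = n163607 := ndS (p := 45871) (l := 1) rfl N45871 D163607
theorem N79738 : nd 79738 = n163609 := ndS (p := 45871) (l := 6) rfl N45871 D163609
theorem N79739 : nd 79739 = n163611 := ndS (p := 45872) (l := 1) rfl N45872 D163611
theorem N79740 : nd 79740 = n163612 := ndS (p := 45872) (l := 5) rfl N45872 D163612
theorem N79741 : nd 79741 = n163613 := ndS (p := 45872) (l := 7) rfl N45872 D163613
theorem N79742 : nd 79742 = n163622 := ndS (p := 45874) (l := 3) rfl N45874 D163622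
theorem N79743 : nd 79743 = n163623 := ndS (p := 45874) (l := 5) rfl N45874 D163623
theorem N79744 : nd 79744 = n163625 := ndS (p := 45875) (l := 3) rfl N45875 D163625
theorem N79745 : nd 79745 = n163632 := ndS (p := 45878) (l := 3) rfl N45878 D163632
theorem N79746 : nd 79746 = n163633 := ndS (p := 45878) (l := 5) rfl N45878 D163633
theorem N79747 : nd 79747 = n163636 := ndS (p := 45881) (l := 3) rfl N45881 D163636
theorem N79748 : nd 79748 = n163648 := ndS (p := 45883) (l := 3) rfl N45883 D163648
theorem N79749 : nd 79749 = n163649 := ndS (p := 45883) (l := 5) rfl N45883 D163649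
theorem N79750 : nd 79750 = n163662 := ndS (p := 45884) (l := 0) rfl N45884 D163662
theorem N79751 : nd 79751 = n163663 := ndS (p := 45884) (l := 1) rfl N45884 D163663
theorem N79752 : nd 79752 = n163664 := ndS (p := 45884) (l := 5) rfl N45884 D163664
theorem N79753 : nd 79753 = n163665 := ndS (p := 45884) (l := 7) rfl N45884 D163665
theorem N79754 : nd 79754 = n163668 := ndS (p := 45885) (l := 4) rfl N45885 D163668
theorem N79755 : nd 79755 = n163670 := ndS (p := 45885) (l := 6) rfl N45885 D163670
theorem N79756 : nd 79756 = n163672 := ndS (p := 45886) (l := 3) rfl N45886 D163672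
theorem N79757 : nd 79757 = n163673 := ndS (p := 45886) (l := 4) rfl N45886 D163673
theorem N79758 : nd 79758 = n163674 := ndS (p := 45886) (l := 5) rfl N45886 D163674
theorem N79759 : nd 79759 = n163676 := ndS (p := 45887) (l := 0) rfl N45887 D163676
theorem N79760 : nd 79760 = n163682 := ndS (p := 45889) (l := 6) rfl N45889 D163682
theorem N79761 : nd 79761 = n163690 := ndS (p := 45891) (l := 5) rfl N45891 D163690
theorem N79762 : nd 79762 = n163695 := ndS (p := 45893) (l := 6) rfl N45893 D163695
theorem N79763 : nd 79763 = n163696 := ndS (p := 45894) (l := 6) rfl N45894 D163696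
theorem N79764 : nd 79764 = n163697 := ndS (p := 45895) (l := 0) rfl N45895 D163697
theorem N79765 : nd 79765 = n163698 := ndS (p := 45895) (l := 1) rfl N45895 D163698
theorem N79766 : nd 79766 = n163720 := ndS (p := 45899) (l := 5) rfl N45899 D163720
theorem N79767 : nd 79767 = n163723 := ndS (p := 45900) (l := 1) rfl N45900 D163723
theorem N79768 : nd 79768 = n163724 := ndS (p := 45900) (l := 3) rfl N45900 D163724
theorem N79769 : nd 79769 = n163725 := ndS (p := 45900) (l := 5) rfl N45900 D163725
theorem N79770 : nd 79770 = n163726 := ndS (p := 45900) (l := 6) rfl N45900 D163726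
theorem N79771 : nd 79771 = n163753 := ndS (p := 45907) (l := 5) rfl N45907 D163753
theorem N79772 : nd 79772 = n163755 := ndS (p := 45908) (l := 6) rfl N45908 D163755
theorem N79773 : nd 79773 = n163758 := ndS (p := 45909) (l := 5) rfl N45909 D163758
theorem N79774 : nd 79774 = n163766 := ndS (p := 45910) (l := 1) rfl N45910 D163766
theorem N79775 : nd 79775 = n163771 := ndS (p := 45911) (l := 6) rfl N45911 D163771
theorem N79776 : nd 79776 = n163801 := ndS (p := 45917) (l := 2) rfl N45917 D163801
theorem N79777 : nd 79777 = n163802 := ndS (p := 45917) (l := 6) rfl N45917 D163802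
theorem N79778 : nd 79778 = n163804 := ndS (p := 45918) (l := 0) rfl N45918 D163804
theorem N79779 : nd 79779 = n163806 := ndS (p := 45918) (l := 3) rfl N45918 D163806
theorem N79780 : nd 79780 = n163807 := ndS (p := 45918) (l := 5) rfl N45918 D163807
theorem N79781 : nd 79781 = n163815 := ndS (p := 45920) (l := 2) rfl N45920 D163815
theorem N79782 : nd 79782 = n163816 := ndS (p := 45920) (l := 4) rfl N45920 D163816
theorem N79783 : nd 79783 = n163817 := ndS (p := 45920) (l := 6) rfl N45920 D163817
theorem N79784 : nd 79784 = n163819 := ndS (p := 45921) (l := 5) rfl N45921 D163819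
theorem N79785 : nd 79785 = n163830 := ndS (p := 45923) (l := 3) rfl N45923 D163830
theorem N79786 : nd 79786 = n163838 := ndS (p := 45924) (l := 5) rfl N45924 D163838
theorem N79787 : nd 79787 = n163841 := ndS (p := 45925) (l := 3) rfl N45925 D163841
theorem N79788 : nd 79788 = n163842 := ndS (p := 45925) (l := 4) rfl N45925 D163842
theorem N79789 : nd 79789 = n163846 := ndS (p := 45926) (l := 3) rfl N45926 D163846
theorem N79790 : nd 79790 = n163847 := ndS (p := 45926) (l := 4) rfl N45926 D163847
theorem N79791 : nd 79791 = n163863 := ndS (p := 45928) (l := 0) rfl N45928 D163863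
theorem N79792 : nd 79792 = n163865 := ndS (p := 45928) (l := 2) rfl N45928 D163865
theorem N79793 : nd 79793 = n163871 := ndS (p := 45929) (l := 1) rfl N45929 D163871
theorem N79794 : nd 79794 = n163930 := ndS (p := 45935) (l := 5) rfl N45935 D163930
theorem N79795 : nd 79795 = n163938 := ndS (p := 45937) (l := 0) rfl N45937 D163938
theorem N79796 : nd 79796 = n163939 := ndS (p := 45937) (l := 1) rfl N45937 D163939
theorem N79797 : nd 79797 = n163940 := ndS (p := 45937) (l := 2) rfl N45937 D163940
theorem N79798 : nd 79798 = n163941 := ndS (p := 45937) (l := 5) rfl N45937 D163941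
theorem N79799 : nd 79799 = n163943 := ndS (p := 45938) (l := 6) rfl N45938 D163943
theorem N79800 : nd 79800 = n163949 := ndS (p := 45939) (l := 0) rfl N45939 D163949
theorem N79801 : nd 79801 = n163950 := ndS (p := 45939) (l := 1) rfl N45939 D163950
theorem N79802 : nd 79802 = n163951 := ndS (p := 45939) (l := 2) rfl N45939 D163951
theorem N79803 : nd 79803 = n163952 := ndS (p := 45939) (l := 6) rfl N45939 D163952
theorem N79804 : nd 79804 = n163954 := ndS (p := 45941) (l := 0) rfl N45941 D163954
theorem N79805 : nd 79805 = n163956 := ndS (p := 45941) (l := 2) rfl N45941 D163956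
theorem N79806 : nd 79806 = n163960 := ndS (p := 45942) (l := 4) rfl N45942 D163960
theorem N79807 : nd 79807 = n163964 := ndS (p := 45944) (l := 5) rfl N45944 D163964
theorem N79808 : nd 79808 = n163965 := ndS (p := 45944) (l := 6) rfl N45944 D163965
theorem N79809 : nd 79809 = n163966 := ndS (p := 45945) (l := 4) rfl N45945 D163966
theorem N79810 : nd 79810 = n163967 := ndS (p := 45945) (l := 6) rfl N45945 D163967
theorem N79811 : nd 79811 = n163968 := ndS (p := 45946) (l := 0) rfl N45946 D163968
theorem N79812 : nd 79812 = n163969 := ndS (p := 45946) (l := 1) rfl N45946 D163969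
theorem N79813 : nd 79813 = n163970 := ndS (p := 45946) (l := 5) rfl N45946 D163970
theorem N79814 : nd 79814 = n163972 := ndS (p := 45947) (l := 3) rfl N45947 D163972
theorem N79815 : nd 79815 = n163973 := ndS (p := 45947) (l := 6) rfl N45947 D163973
theorem N79816 : nd 79816 = n163974 := ndS (p := 45948) (l := 0) rfl N45948 D163974
theorem N79817 : nd 79817 = n163975 := ndS (p := 45948) (l := 1) rfl N45948 D163975
theorem N79818 : nd 79818 = n163977 := ndS (p := 45948) (l := 7) rfl N45948 D163977
theorem N79819 : nd 79819 = n164000 := ndS (p := 45951) (l := 0) rfl N45951 D164000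
theorem N79820 : nd 79820 = n164001 := ndS (p := 45951) (l := 1) rfl N45951 D164001
theorem N79821 : nd 79821 = n164002 := ndS (p := 45951) (l := 3) rfl N45951 D164002
theorem N79822 : nd 79822 = n164003 := ndS (p := 45951) (l := 5) rfl N45951 D164003
theorem N79823 : nd 79823 = n164004 := ndS (p := 45951) (l := 6) rfl N45951 D164004
theorem N79824 : nd 79824 = n164009 := ndS (p := 45953) (l := 6) rfl N45953 D164009
theorem N79825 : nd 79825 = n164010 := ndS (p := 45954) (l := 3) rfl N45954 D164010
theorem N79826 : nd 79826 = n164011 := ndS (p := 45954) (l := 5) rfl N45954 D164011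
theorem N79827 : nd 79827 = n164012 := ndS (p := 45954) (l := 6) rfl N45954 D164012
theorem N79828 : nd 79828 = n164015 := ndS (p := 45955) (l := 5) rfl N45955 D164015
theorem N79829 : nd 79829 = n164022 := ndS (p := 45957) (l := 3) rfl N45957 D164022
theorem N79830 : nd 79830 = n164023 := ndS (p := 45957) (l := 4) rfl N45957 D164023
theorem N79831 : nd 79831 = n164025 := ndS (p := 45957) (l := 6) rfl N45957 D164025
theorem N79832 : nd 79832 = n164027 := ndS (p := 45958) (l := 3) rfl N45958 D164027
theorem N79833 : nd 79833 = n164028 := ndS (p := 45958) (l := 4) rfl N45958 D164028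
theorem N79834 : nd 79834 = n164030 := ndS (p := 45958) (l := 6) rfl N45958 D164030
theorem N79835 : nd 79835 = n164068 := ndS (p := 45959) (l := 2) rfl N45959 D164068
theorem N79836 : nd 79836 = n164070 := ndS (p := 45959) (l := 6) rfl N45959 D164070
theorem N79837 : nd 79837 = n164074 := ndS (p := 45961) (l := 0) rfl N45961 D164074
theorem N79838 : nd 79838 = n164075 := ndS (p := 45961) (l := 1) rfl N45961 D164075
theorem N79839 : nd 79839 = n164076 := ndS (p := 45961) (l := 2) rfl N45961 D164076
theorem N79840 : nd 79840 = n164077 := ndS (p := 45961) (l := 6) rfl N45961 D164077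
theorem N79841 : nd 79841 = n164079 := ndS (p := 45962) (l := 5) rfl N45962 D164079
theorem N79842 : nd 79842 = n164082 := ndS (p := 45963) (l := 4) rfl N45963 D164082
theorem N79843 : nd 79843 = n164083 := ndS (p := 45965) (l := 0) rfl N45965 D164083
theorem N79844 : nd 79844 = n164084 := ndS (p := 45965) (l := 1) rfl N45965 D164084
theorem N79845 : nd 79845 = n164085 := ndS (p := 45965) (l := 2) rfl N45965 D164085
theorem N79846 : nd 79846 = n164086 := ndS (p := 45965) (l := 6) rfl N45965 D164086
theorem N79847 : nd 79847 = n164087 := ndS (p := 45966) (l := 5) rfl N45966 D164087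
theorem N79848 : nd 79848 = n164090 := ndS (p := 45967) (l := 4) rfl N45967 D164090
theorem N79849 : nd 79849 = n164092 := ndS (p := 45968) (l := 3) rfl N45968 D164092
theorem N79850 : nd 79850 = n164093 := ndS (p := 45968) (l := 6) rfl N45968 D164093
theorem N79851 : nd 79851 = n164094 := ndS (p := 45969) (l := 5) rfl N45969 D164094
theorem N79852 : nd 79852 = n164095 := ndS (p := 45969) (l := 6) rfl N45969 D164095
theorem N79853 : nd 79853 = n164096 := ndS (p := 45970) (l := 4) rfl N45970 D164096
theorem N79854 : nd 79854 = n164097 := ndS (p := 45970) (l := 6) rfl N45970 D164097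
theorem N79855 : nd 79855 = n164098 := ndS (p := 45971) (l := 0) rfl N45971 D164098
theorem N79856 : nd 79856 = n164099 := ndS (p := 45971) (l := 1) rfl N45971 D164099
theorem N79857 : nd 79857 = n164100 := ndS (p := 45971) (l := 5) rfl N45971 D164100
theorem N79858 : nd 79858 = n164102 := ndS (p := 45972) (l := 0) rfl N45972 D164102
theorem N79859 : nd 79859 = n164104 := ndS (p := 45972) (l := 5) rfl N45972 D164104
theorem N79860 : nd 79860 = n164105 := ndS (p := 45972) (l := 7) rfl N45972 D164105
theorem N79861 : nd 79861 = n164106 := ndS (p := 45973) (l := 3) rfl N45973 D164106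
theorem N79862 : nd 79862 = n164107 := ndS (p := 45973) (l := 5) rfl N45973 D164107
theorem N79863 : nd 79863 = n164109 := ndS (p := 45974) (l := 3) rfl N45974 D164109
theorem N79864 : nd 79864 = n164110 := ndS (p := 45974) (l := 5) rfl N45974 D164110
theorem N79865 : nd 79865 = n164111 := ndS (p := 45975) (l := 0) rfl N45975 D164111
theorem N79866 : nd 79866 = n164112 := ndS (p := 45975) (l := 1) rfl N45975 D164112
theorem N79867 : nd 79867 = n164113 := ndS (p := 45975) (l := 4) rfl N45975 D164113
theorem N79868 : nd 79868 = n164114 := ndS (p := 45975) (l := 7) rfl N45975 D164114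
theorem N79869 : nd 79869 = n164120 := ndS (p := 45977) (l := 3) rfl N45977 D164120
theorem N79870 : nd 79870 = n164121 := ndS (p := 45977) (l := 5) rfl N45977 D164121
theorem N79871 : nd 79871 = n164123 := ndS (p := 45978) (l := 4) rfl N45978 D164123
theorem N79872 : nd 79872 = n164126 := ndS (p := 45979) (l := 5) rfl N45979 D164126
theorem N79873 : nd 79873 = n164128 := ndS (p := 45980) (l := 6) rfl N45980 D164128
theorem N79874 : nd 79874 = n164130 := ndS (p := 45981) (l := 3) rfl N45981 D164130
theorem N79875 : nd 79875 = n164131 := ndS (p := 45981) (l := 5) rfl N45981 D164131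
theorem N79876 : nd 79876 = n164135 := ndS (p := 45982) (l := 5) rfl N45982 D164135
theorem N79877 : nd 79877 = n164137 := ndS (p := 45983) (l := 4) rfl N45983 D164137
theorem N79878 : nd 79878 = n164138 := ndS (p := 45983) (l := 6) rfl N45983 D164138
theorem N79879 : nd 79879 = n164139 := ndS (p := 45984) (l := 3) rfl N45984 D164139
theorem N79880 : nd 79880 = n164140 := ndS (p := 45984) (l := 5) rfl N45984 D164140
theorem N79881 : nd 79881 = n164141 := ndS (p := 45984) (l := 6) rfl N45984 D164141
theorem N79882 : nd 79882 = n164144 := ndS (p := 45985) (l := 5) rfl N45985 D164144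
theorem N79883 : nd 79883 = n164151 := ndS (p := 45987) (l := 3) rfl N45987 D164151
theorem N79884 : nd 79884 = n164152 := ndS (p := 45987) (l := 4) rfl N45987 D164152
theorem N79885 : nd 79885 = n164154 := ndS (p := 45987) (l := 6) rfl N45987 D164154
theorem N79886 : nd 79886 = n164156 := ndS (p := 45988) (l := 3) rfl N45988 D164156
theorem N79887 : nd 79887 = n164157 := ndS (p := 45988) (l := 4) rfl N45988 D164157
theorem N79888 : nd 79888 = n164178 := ndS (p := 45991) (l := 5) rfl N45991 D164178
theorem N79889 : nd 79889 = n164192 := ndS (p := 45993) (l := 3) rfl N45993 D164192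
theorem N79890 : nd 79890 = n164200 := ndS (p := 45995) (l := 0) rfl N45995 D164200
theorem N79891 : nd 79891 = n164201 := ndS (p := 45995) (l := 4) rfl N45995 D164201
theorem N79892 : nd 79892 = n164203 := ndS (p := 45995) (l := 6) rfl N45995 D164203
theorem N79893 : nd 79893 = n164205 := ndS (p := 45996) (l := 4) rfl N45996 D164205
theorem N79894 : nd 79894 = n164206 := ndS (p := 45996) (l := 6) rfl N45996 D164206
theorem N79895 : nd 79895 = n164207 := ndS (p := 45997) (l := 1) rfl N45997 D164207
theorem N79896 : nd 79896 = n164208 := ndS (p := 45998) (l := 4) rfl N45998 D164208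
theorem N79897 : nd 79897 = n164209 := ndS (p := 46000) (l := 0) rfl N46000 D164209
theorem N79898 : nd 79898 = n164213 := ndS (p := 46001) (l := 1) rfl N46001 D164213
theorem N79899 : nd 79899 = n164219 := ndS (p := 46002) (l := 5) rfl N46002 D164219
theorem N79900 : nd 79900 = n164220 := ndS (p := 46002) (l := 6) rfl N46002 D164220
theorem N79901 : nd 79901 = n164226 := ndS (p := 46003) (l := 0) rfl N46003 D164226
theorem N79902 : nd 79902 = n164228 := ndS (p := 46003) (l := 4) rfl N46003 D164228
theorem N79903 : nd 79903 = n164231 := ndS (p := 46004) (l := 5) rfl N46004 D164231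
theorem N79904 : nd 79904 = n164234 := ndS (p := 46006) (l := 6) rfl N46006 D164234
theorem N79905 : nd 79905 = n164236 := ndS (p := 46007) (l := 1) rfl N46007 D164236
theorem N79906 : nd 79906 = n164261 := ndS (p := 46010) (l := 6) rfl N46010 D164261
theorem N79907 : nd 79907 = n164262 := ndS (p := 46011) (l := 0) rfl N46011 D164262
theorem N79908 : nd 79908 = n164263 := ndS (p := 46011) (l := 1) rfl N46011 D164263
theorem N79909 : nd 79909 = n164264 := ndS (p := 46011) (l := 5) rfl N46011 D164264
theorem N79910 : nd 79910 = n164265 := ndS (p := 46011) (l := 7) rfl N46011 D164265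
theorem N79911 : nd 79911 = n164274 := ndS (p := 46013) (l := 6) rfl N46013 D164274
theorem N79912 : nd 79912 = n164280 := ndS (p := 46016) (l := 3) rfl N46016 D164280
theorem N79913 : nd 79913 = n164283 := ndS (p := 46016) (l := 6) rfl N46016 D164283
theorem N79914 : nd 79914 = n164288 := ndS (p := 46017) (l := 6) rfl N46017 D164288
theorem N79915 : nd 79915 = n164289 := ndS (p := 46018) (l := 0) rfl N46018 D164289
theorem N79916 : nd 79916 = n164290 := ndS (p := 46018) (l := 1) rfl N46018 D164290
theorem N79917 : nd 79917 = n164301 := ndS (p := 46020) (l := 4) rfl N46020 D164301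
theorem N79918 : nd 79918 = n164302 := ndS (p := 46020) (l := 5) rfl N46020 D164302
theorem N79919 : nd 79919 = n164323 := ndS (p := 46024) (l := 4) rfl N46024 D164323
theorem N79920 : nd 79920 = n164330 := ndS (p := 46025) (l := 0) rfl N46025 D164330
theorem N79921 : nd 79921 = n164337 := ndS (p := 46026) (l := 5) rfl N46026 D164337
theorem N79922 : nd 79922 = n164338 := ndS (p := 46026) (l := 6) rfl N46026 D164338
theorem N79923 : nd 79923 = n164342 := ndS (p := 46027) (l := 5) rfl N46027 D164342
theorem N79924 : nd 79924 = n164344 := ndS (p := 46029) (l := 0) rfl N46029 D164344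
theorem N79925 : nd 79925 = n164345 := ndS (p := 46029) (l := 1) rfl N46029 D164345
theorem N79926 : nd 79926 = n164346 := ndS (p := 46029) (l := 5) rfl N46029 D164346
theorem N79927 : nd 79927 = n164347 := ndS (p := 46029) (l := 7) rfl N46029 D164347
theorem N79928 : nd 79928 = n164348 := ndS (p := 46030) (l := 4) rfl N46030 D164348
theorem N79929 : nd 79929 = n164373 := ndS (p := 46034) (l := 3) rfl N46034 D164373
theorem N79930 : nd 79930 = n164374 := ndS (p := 46034) (l := 4) rfl N46034 D164374
theorem N79931 : nd 79931 = n164375 := ndS (p := 46034) (l := 6) rfl N46034 D164375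
theorem N79932 : nd 79932 = n164378 := ndS (p := 46036) (l := 0) rfl N46036 D164378
theorem N79933 : nd 79933 = n164379 := ndS (p := 46036) (l := 1) rfl N46036 D164379
theorem N79934 : nd 79934 = n164380 := ndS (p := 46036) (l := 3) rfl N46036 D164380
theorem N79935 : nd 79935 = n164381 := ndS (p := 46036) (l := 5) rfl N46036 D164381
theorem N79936 : nd 79936 = n164383 := ndS (p := 46037) (l := 0) rfl N46037 D164383
theorem N79937 : nd 79937 = n164384 := ndS (p := 46037) (l := 1) rfl N46037 D164384
theorem N79938 : nd 79938 = n164385 := ndS (p := 46037) (l := 7) rfl N46037 D164385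
theorem N79939 : nd 79939 = n164402 := ndS (p := 46040) (l := 5) rfl N46040 D164402
theorem N79940 : nd 79940 = n164403 := ndS (p := 46040) (l := 6) rfl N46040 D164403
theorem N79941 : nd 79941 = n164408 := ndS (p := 46042) (l := 0) rfl N46042 D164408
theorem N79942 : nd 79942 = n164409 := ndS (p := 46042) (l := 1) rfl N46042 D164409
theorem N79943 : nd 79943 = n164410 := ndS (p := 46042) (l := 5) rfl N46042 D164410
theorem N79944 : nd 79944 = n164411 := ndS (p := 46042) (l := 7) rfl N46042 D164411
theorem N79945 : nd 79945 = n164412 := ndS (p := 46043) (l := 3) rfl N46043 D164412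
theorem N79946 : nd 79946 = n164413 := ndS (p := 46043) (l := 5) rfl N46043 D164413
theorem N79947 : nd 79947 = n164414 := ndS (p := 46044) (l := 5) rfl N46044 D164414
theorem N79948 : nd 79948 = n164416 := ndS (p := 46046) (l := 4) rfl N46046 D164416
theorem N79949 : nd 79949 = n164417 := ndS (p := 46046) (l := 7) rfl N46046 D164417
theorem N79950 : nd 79950 = n164424 := ndS (p := 46048) (l := 3) rfl N46048 D164424
theorem N79951 : nd 79951 = n164425 := ndS (p := 46048) (l := 5) rfl N46048 D164425
theorem N79952 : nd 79952 = n164426 := ndS (p := 46048) (l := 6) rfl N46048 D164426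
theorem N79953 : nd 79953 = n164428 := ndS (p := 46050) (l := 1) rfl N46050 D164428
theorem N79954 : nd 79954 = n164443 := ndS (p := 46051) (l := 3) rfl N46051 D164443
theorem N79955 : nd 79955 = n164444 := ndS (p := 46051) (l := 5) rfl N46051 D164444
theorem N79956 : nd 79956 = n164445 := ndS (p := 46051) (l := 6) rfl N46051 D164445
theorem N79957 : nd 79957 = n164446 := ndS (p := 46052) (l := 3) rfl N46052 D164446
theorem N79958 : nd 79958 = n164447 := ndS (p := 46052) (l := 5) rfl N46052 D164447
theorem N79959 : nd 79959 = n164448 := ndS (p := 46052) (l := 6) rfl N46052 D164448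
theorem N79960 : nd 79960 = n164449 := ndS (p := 46053) (l := 0) rfl N46053 D164449
theorem N79961 : nd 79961 = n164450 := ndS (p := 46053) (l := 1) rfl N46053 D164450
theorem N79962 : nd 79962 = n164452 := ndS (p := 46056) (l := 1) rfl N46056 D164452
theorem N79963 : nd 79963 = n164453 := ndS (p := 46056) (l := 5) rfl N46056 D164453
theorem N79964 : nd 79964 = n164454 := ndS (p := 46056) (l := 7) rfl N46056 D164454
theorem N79965 : nd 79965 = n164457 := ndS (p := 46057) (l := 4) rfl N46057 D164457
theorem N79966 : nd 79966 = n164458 := ndS (p := 46057) (l := 5) rfl N46057 D164458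
theorem N79967 : nd 79967 = n164460 := ndS (p := 46058) (l := 5) rfl N46058 D164460
theorem N79968 : nd 79968 = n164461 := ndS (p := 46058) (l := 6) rfl N46058 D164461
theorem N79969 : nd 79969 = n164462 := ndS (p := 46061) (l := 0) rfl N46061 D164462
theorem N79970 : nd 79970 = n164463 := ndS (p := 46061) (l := 1) rfl N46061 D164463
theorem N79971 : nd 79971 = n164464 := ndS (p := 46061) (l := 5) rfl N46061 D164464
theorem N79972 : nd 79972 = n164465 := ndS (p := 46061) (l := 7) rfl N46061 D164465
theorem N79973 : nd 79973 = n164468 := ndS (p := 46062) (l := 4) rfl N46062 D164468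
theorem N79974 : nd 79974 = n164469 := ndS (p := 46062) (l := 5) rfl N46062 D164469
theorem N79975 : nd 79975 = n164472 := ndS (p := 46063) (l := 5) rfl N46063 D164472
theorem N79976 : nd 79976 = n164475 := ndS (p := 46064) (l := 4) rfl N46064 D164475
theorem N79977 : nd 79977 = n164476 := ndS (p := 46064) (l := 7) rfl N46064 D164476
theorem N79978 : nd 79978 = n164484 := ndS (p := 46069) (l := 5) rfl N46069 D164484
theorem N79979 : nd 79979 = n164486 := ndS (p := 46070) (l := 6) rfl N46070 D164486
theorem N79980 : nd 79980 = n164487 := ndS (p := 46071) (l := 5) rfl N46071 D164487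
theorem N79981 : nd 79981 = n164488 := ndS (p := 46071) (l := 7) rfl N46071 D164488
theorem N79982 : nd 79982 = n164490 := ndS (p := 46072) (l := 3) rfl N46072 D164490
theorem N79983 : nd 79983 = n164492 := ndS (p := 46072) (l := 5) rfl N46072 D164492
theorem N79984 : nd 79984 = n164493 := ndS (p := 46072) (l := 6) rfl N46072 D164493
theorem N79985 : nd 79985 = n164496 := ndS (p := 46073) (l := 4) rfl N46073 D164496
theorem N79986 : nd 79986 = n164497 := ndS (p := 46073) (l := 6) rfl N46073 D164497
theorem N79987 : nd 79987 = n164499 := ndS (p := 46075) (l := 1) rfl N46075 D164499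
theorem N79988 : nd 79988 = n164500 := ndS (p := 46075) (l := 5) rfl N46075 D164500
theorem N79989 : nd 79989 = n164501 := ndS (p := 46075) (l := 7) rfl N46075 D164501
theorem N79990 : nd 79990 = n164506 := ndS (p := 46077) (l := 6) rfl N46077 D164506
theorem N79991 : nd 79991 = n164507 := ndS (p := 46078) (l := 5) rfl N46078 D164507
theorem N79992 : nd 79992 = n164510 := ndS (p := 46079) (l := 3) rfl N46079 D164510
theorem N79993 : nd 79993 = n164512 := ndS (p := 46079) (l := 5) rfl N46079 D164512
theorem N79994 : nd 79994 = n164514 := ndS (p := 46080) (l := 5) rfl N46080 D164514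
theorem N79995 : nd 79995 = n164515 := ndS (p := 46080) (l := 6) rfl N46080 D164515
theorem N79996 : nd 79996 = n164520 := ndS (p := 46084) (l := 3) rfl N46084 D164520
theorem N79997 : nd 79997 = n164521 := ndS (p := 46084) (l := 5) rfl N46084 D164521
theorem N79998 : nd 79998 = n164523 := ndS (p := 46085) (l := 5) rfl N46085 D164523
theorem N79999 : nd 79999 = n164524 := ndS (p := 46085) (l := 6) rfl N46085 D164524
theorem N80000 : nd 80000 = n164527 := ndS (p := 46086) (l := 4) rfl N46086 D164527

end Cfsg.Agent.Helper17.ONTC
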