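import Cfsg.Agent.Helper17.ONTC.Fin8

set_option autoImplicit false
set_option linter.all false
set_option maxRecDepth 100000

noncomputable section

namespace Cfsg.Agent.Helper17.ONTC

theorem N80001 : nd 80001 = n164529 := ndS (p := 46088) (l := 5) rfl N46088 D164529
theorem N80002 : nd 80002 = n164553 := ndS (p := 46092) (l := 1) rfl N46092 D164553
theorem N80003 : nd 80003 = n164554 := ndS (p := 46092) (l := 5) rfl N46092 D164554
theorem N80004 : nd 80004 = n164556 := ndS (p := 46093) (l := 5) rfl N46093 D164556
theorem N80005 : nd 80005 = n164557 := ndS (p := 46093) (l := 6) rfl N46093 D164557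
theorem N80006 : nd 80006 = n164559 := ndS (p := 46094) (l := 5) rfl N46094 D164559
theorem N80007 : nd 80007 = n164560 := ndS (p := 46095) (l := 0) rfl N46095 D164560
theorem N80008 : nd 80008 = n164561 := ndS (p := 46095) (l := 1) rfl N46095 D164561
theorem N80009 : nd 80009 = n164562 := ndS (p := 46095) (l := 4) rfl N46095 D164562
theorem N80010 : nd 80010 = n164563 := ndS (p := 46095) (l := 7) rfl N46095 D164563
theorem N80011 : nd 80011 = n164564 := ndS (p := 46097) (l := 5) rfl N46097 D164564
theorem N80012 : nd 80012 = n164565 := ndS (p := 46098) (l := 4) rfl N46098 D164565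
theorem N80013 : nd 80013 = n164567 := ndS (p := 46099) (l := 0) rfl N46099 D164567
theorem N80014 : nd 80014 = n164568 := ndS (p := 46099) (l := 1) rfl N46099 D164568
theorem N80015 : nd 80015 = n164569 := ndS (p := 46099) (l := 3) rfl N46099 D164569
theorem N80016 : nd 80016 = n164570 := ndS (p := 46099) (l := 5) rfl N46099 D164570
theorem N80017 : nd 80017 = n164571 := ndS (p := 46099) (l := 7) rfl N46099 D164571
theorem N80018 : nd 80018 = n164573 := ndS (p := 46101) (l := 1) rfl N46101 D164573
theorem N80019 : nd 80019 = n164574 := ndS (p := 46101) (l := 2) rfl N46101 D164574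
theorem N80020 : nd 80020 = n164575 := ndS (p := 46101) (l := 5) rfl N46101 D164575
theorem N80021 : nd 80021 = n164598 := ndS (p := 46106) (l := 6) rfl N46106 D164598
theorem N80022 : nd 80022 = n164614 := ndS (p := 46112) (l := 6) rfl N46112 D164614
theorem N80023 : nd 80023 = n164616 := ndS (p := 46113) (l := 7) rfl N46113 D164616
theorem N80024 : nd 80024 = n164617 := ndS (p := 46114) (l := 0) rfl N46114 D164617
theorem N80025 : nd 80025 = n164618 := ndS (p := 46114) (l := 1) rfl N46114 D164618
theorem N80026 : nd 80026 = n164620 := ndS (p := 46115) (l := 6) rfl N46115 D164620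
theorem N80027 : nd 80027 = n164621 := ndS (p := 46116) (l := 0) rfl N46116 D164621
theorem N80028 : nd 80028 = n164623 := ndS (p := 46116) (l := 5) rfl N46116 D164623
theorem N80029 : nd 80029 = n164624 := ndS (p := 46116) (l := 7) rfl N46116 D164624
theorem N80030 : nd 80030 = n164625 := ndS (p := 46117) (l := 3) rfl N46117 D164625
theorem N80031 : nd 80031 = n164628 := ndS (p := 46117) (l := 6) rfl N46117 D164628
theorem N80032 : nd 80032 = n164841 := ndS (p := 46123) (l := 3) rfl N46123 D164841
theorem N80033 : nd 80033 = n164977 := ndS (p := 46126) (l := 3) rfl N46126 D164977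
theorem N80034 : nd 80034 = n165029 := ndS (p := 46130) (l := 3) rfl N46130 D165029
theorem N80035 : nd 80035 = n165197 := ndS (p := 46137) (l := 6) rfl N46137 D165197
theorem N80036 : nd 80036 = n165316 := ndS (p := 46141) (l := 2) rfl N46141 D165316
theorem N80037 : nd 80037 = n165317 := ndS (p := 46141) (l := 4) rfl N46141 D165317
theorem N80038 : nd 80038 = n165604 := ndS (p := 46144) (l := 3) rfl N46144 D165604
theorem N80039 : nd 80039 = n165605 := ndS (p := 46144) (l := 5) rfl N46144 D165605
theorem N80040 : nd 80040 = n165611 := ndS (p := 46145) (l := 0) rfl N46145 D165611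
theorem N80041 : nd 80041 = n165613 := ndS (p := 46145) (l := 2) rfl N46145 D165613
theorem N80042 : nd 80042 = n165633 := ndS (p := 46146) (l := 0) rfl N46146 D165633
theorem N80043 : nd 80043 = n165635 := ndS (p := 46146) (l := 2) rfl N46146 D165635
theorem N80044 : nd 80044 = n165646 := ndS (p := 46147) (l := 1) rfl N46147 D165646
theorem N80045 : nd 80045 = n165647 := ndS (p := 46147) (l := 2) rfl N46147 D165647
theorem N80046 : nd 80046 = n165648 := ndS (p := 46147) (l := 4) rfl N46147 D165648
theorem N80047 : nd 80047 = n165656 := ndS (p := 46148) (l := 3) rfl N46148 D165656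
theorem N80048 : nd 80048 = n165657 := ndS (p := 46148) (l := 4) rfl N46148 D165657
theorem N80049 : nd 80049 = n165662 := ndS (p := 46149) (l := 4) rfl N46149 D165662
theorem N80050 : nd 80050 = n165684 := ndS (p := 46151) (l := 0) rfl N46151 D165684
theorem N80051 : nd 80051 = n165685 := ndS (p := 46151) (l := 1) rfl N46151 D165685
theorem N80052 : nd 80052 = n165686 := ndS (p := 46151) (l := 2) rfl N46151 D165686
theorem N80053 : nd 80053 = n165708 := ndS (p := 46153) (l := 0) rfl N46153 D165708
theorem N80054 : nd 80054 = n165710 := ndS (p := 46153) (l := 2) rfl N46153 D165710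
theorem N80055 : nd 80055 = n165723 := ndS (p := 46155) (l := 3) rfl N46155 D165723
theorem N80056 : nd 80056 = n165724 := ndS (p := 46155) (l := 4) rfl N46155 D165724
theorem N80057 : nd 80057 = n165726 := ndS (p := 46155) (l := 6) rfl N46155 D165726
theorem N80058 : nd 80058 = n165728 := ndS (p := 46156) (l := 3) rfl N46156 D165728
theorem N80059 : nd 80059 = n165729 := ndS (p := 46156) (l := 4) rfl N46156 D165729
theorem N80060 : nd 80060 = n165765 := ndS (p := 46158) (l := 0) rfl N46158 D165765
theorem N80061 : nd 80061 = n165766 := ndS (p := 46158) (l := 1) rfl N46158 D165766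
theorem N80062 : nd 80062 = n165767 := ndS (p := 46158) (l := 2) rfl N46158 D165767
theorem N80063 : nd 80063 = n165768 := ndS (p := 46159) (l := 3) rfl N46159 D165768
theorem N80064 : nd 80064 = n165769 := ndS (p := 46159) (l := 4) rfl N46159 D165769
theorem N80065 : nd 80065 = n165783 := ndS (p := 46162) (l := 0) rfl N46162 D165783
theorem N80066 : nd 80066 = n165784 := ndS (p := 46162) (l := 1) rfl N46162 D165784
theorem N80067 : nd 80067 = n165785 := ndS (p := 46162) (l := 2) rfl N46162 D165785
theorem N80068 : nd 80068 = n165799 := ndS (p := 46163) (l := 3) rfl N46163 D165799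
theorem N80069 : nd 80069 = n165800 := ndS (p := 46163) (l := 4) rfl N46163 D165800
theorem N80070 : nd 80070 = n165802 := ndS (p := 46163) (l := 6) rfl N46163 D165802
theorem N80071 : nd 80071 = n165868 := ndS (p := 46165) (l := 3) rfl N46165 D165868
theorem N80072 : nd 80072 = n165869 := ndS (p := 46165) (l := 4) rfl N46165 D165869
theorem N80073 : nd 80073 = n165877 := ndS (p := 46166) (l := 4) rfl N46166 D165877
theorem N80074 : nd 80074 = n165880 := ndS (p := 46167) (l := 1) rfl N46167 D165880
theorem N80075 : nd 80075 = n165881 := ndS (p := 46167) (l := 5) rfl N46167 D165881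
theorem N80076 : nd 80076 = n165937 := ndS (p := 46168) (l := 1) rfl N46168 D165937
theorem N80077 : nd 80077 = n165938 := ndS (p := 46168) (l := 2) rfl N46168 D165938
theorem N80078 : nd 80078 = n165939 := ndS (p := 46168) (l := 5) rfl N46168 D165939
theorem N80079 : nd 80079 = n165940 := ndS (p := 46168) (l := 6) rfl N46168 D165940
theorem N80080 : nd 80080 = n165943 := ndS (p := 46170) (l := 6) rfl N46170 D165943
theorem N80081 : nd 80081 = n165948 := ndS (p := 46172) (l := 0) rfl N46172 D165948
theorem N80082 : nd 80082 = n165950 := ndS (p := 46172) (l := 2) rfl N46172 D165950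
theorem N80083 : nd 80083 = n165952 := ndS (p := 46172) (l := 5) rfl N46172 D165952
theorem N80084 : nd 80084 = n166049 := ndS (p := 46178) (l := 5) rfl N46178 D166049
theorem N80085 : nd 80085 = n166050 := ndS (p := 46179) (l := 5) rfl N46179 D166050
theorem N80086 : nd 80086 = n166052 := ndS (p := 46180) (l := 0) rfl N46180 D166052
theorem N80087 : nd 80087 = n166054 := ndS (p := 46180) (l := 4) rfl N46180 D166054
theorem N80088 : nd 80088 = n166060 := ndS (p := 46181) (l := 4) rfl N46181 D166060
theorem N80089 : nd 80089 = n166063 := ndS (p := 46182) (l := 4) rfl N46182 D166063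
theorem N80090 : nd 80090 = n166067 := ndS (p := 46183) (l := 3) rfl N46183 D166067
theorem N80091 : nd 80091 = n166068 := ndS (p := 46183) (l := 5) rfl N46183 D166068
theorem N80092 : nd 80092 = n166079 := ndS (p := 46184) (l := 3) rfl N46184 D166079
theorem N80093 : nd 80093 = n166080 := ndS (p := 46184) (l := 5) rfl N46184 D166080
theorem N80094 : nd 80094 = n166082 := ndS (p := 46186) (l := 3) rfl N46186 D166082
theorem N80095 : nd 80095 = n166088 := ndS (p := 46187) (l := 3) rfl N46187 D166088
theorem N80096 : nd 80096 = n166090 := ndS (p := 46188) (l := 0) rfl N46188 D166090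
theorem N80097 : nd 80097 = n166091 := ndS (p := 46188) (l := 1) rfl N46188 D166091
theorem N80098 : nd 80098 = n166092 := ndS (p := 46188) (l := 2) rfl N46188 D166092
theorem N80099 : nd 80099 = n166111 := ndS (p := 46192) (l := 4) rfl N46192 D166111
theorem N80100 : nd 80100 = n166116 := ndS (p := 46194) (l := 6) rfl N46194 D166116
theorem N80101 : nd 80101 = n166117 := ndS (p := 46195) (l := 3) rfl N46195 D166117
theorem N80102 : nd 80102 = n166122 := ndS (p := 46196) (l := 5) rfl N46196 D166122
theorem N80103 : nd 80103 = n166129 := ndS (p := 46197) (l := 4) rfl N46197 D166129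
theorem N80104 : nd 80104 = n166143 := ndS (p := 46199) (l := 1) rfl N46199 D166143
theorem N80105 : nd 80105 = n166144 := ndS (p := 46199) (l := 2) rfl N46199 D166144
theorem N80106 : nd 80106 = n166145 := ndS (p := 46199) (l := 5) rfl N46199 D166145
theorem N80107 : nd 80107 = n166147 := ndS (p := 46201) (l := 0) rfl N46201 D166147
theorem N80108 : nd 80108 = n166148 := ndS (p := 46201) (l := 1) rfl N46201 D166148
theorem N80109 : nd 80109 = n166149 := ndS (p := 46201) (l := 2) rfl N46201 D166149
theorem N80110 : nd 80110 = n166150 := ndS (p := 46201) (l := 5) rfl N46201 D166150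
theorem N80111 : nd 80111 = n166151 := ndS (p := 46202) (l := 6) rfl N46202 D166151
theorem N80112 : nd 80112 = n166153 := ndS (p := 46203) (l := 1) rfl N46203 D166153
theorem N80113 : nd 80113 = n166154 := ndS (p := 46203) (l := 2) rfl N46203 D166154
theorem N80114 : nd 80114 = n166155 := ndS (p := 46203) (l := 4) rfl N46203 D166155
theorem N80115 : nd 80115 = n166159 := ndS (p := 46204) (l := 0) rfl N46204 D166159
theorem N80116 : nd 80116 = n166160 := ndS (p := 46204) (l := 1) rfl N46204 D166160
theorem N80117 : nd 80117 = n166162 := ndS (p := 46204) (l := 4) rfl N46204 D166162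
theorem N80118 : nd 80118 = n166166 := ndS (p := 46205) (l := 3) rfl N46205 D166166
theorem N80119 : nd 80119 = n166167 := ndS (p := 46205) (l := 4) rfl N46205 D166167
theorem N80120 : nd 80120 = n166169 := ndS (p := 46205) (l := 6) rfl N46205 D166169
theorem N80121 : nd 80121 = n166171 := ndS (p := 46206) (l := 3) rfl N46206 D166171
theorem N80122 : nd 80122 = n166172 := ndS (p := 46206) (l := 4) rfl N46206 D166172
theorem N80123 : nd 80123 = n166173 := ndS (p := 46206) (l := 5) rfl N46206 D166173
theorem N80124 : nd 80124 = n166196 := ndS (p := 46210) (l := 4) rfl N46210 D166196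
theorem N80125 : nd 80125 = n166197 := ndS (p := 46210) (l := 6) rfl N46210 D166197
theorem N80126 : nd 80126 = n166199 := ndS (p := 46211) (l := 5) rfl N46211 D166199
theorem N80127 : nd 80127 = n166202 := ndS (p := 46212) (l := 5) rfl N46212 D166202
theorem N80128 : nd 80128 = n166205 := ndS (p := 46213) (l := 6) rfl N46213 D166205
theorem N80129 : nd 80129 = n166207 := ndS (p := 46214) (l := 3) rfl N46214 D166207
theorem N80130 : nd 80130 = n166208 := ndS (p := 46214) (l := 5) rfl N46214 D166208
theorem N80131 : nd 80131 = n166216 := ndS (p := 46215) (l := 0) rfl N46215 D166216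
theorem N80132 : nd 80132 = n166217 := ndS (p := 46215) (l := 1) rfl N46215 D166217
theorem N80133 : nd 80133 = n166218 := ndS (p := 46215) (l := 4) rfl N46215 D166218
theorem N80134 : nd 80134 = n166222 := ndS (p := 46216) (l := 3) rfl N46216 D166222
theorem N80135 : nd 80135 = n166232 := ndS (p := 46218) (l := 5) rfl N46218 D166232
theorem N80136 : nd 80136 = n166233 := ndS (p := 46218) (l := 6) rfl N46218 D166233
theorem N80137 : nd 80137 = n166234 := ndS (p := 46219) (l := 0) rfl N46219 D166234
theorem N80138 : nd 80138 = n166248 := ndS (p := 46221) (l := 3) rfl N46221 D166248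
theorem N80139 : nd 80139 = n166250 := ndS (p := 46221) (l := 6) rfl N46221 D166250
theorem N80140 : nd 80140 = n166261 := ndS (p := 46224) (l := 4) rfl N46224 D166261
theorem N80141 : nd 80141 = n166272 := ndS (p := 46225) (l := 4) rfl N46225 D166272
theorem N80142 : nd 80142 = n166273 := ndS (p := 46227) (l := 3) rfl N46227 D166273
theorem N80143 : nd 80143 = n166278 := ndS (p := 46229) (l := 0) rfl N46229 D166278
theorem N80144 : nd 80144 = n166279 := ndS (p := 46229) (l := 1) rfl N46229 D166279
theorem N80145 : nd 80145 = n166280 := ndS (p := 46229) (l := 3) rfl N46229 D166280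
theorem N80146 : nd 80146 = n166281 := ndS (p := 46229) (l := 5) rfl N46229 D166281
theorem N80147 : nd 80147 = n166282 := ndS (p := 46230) (l := 5) rfl N46230 D166282
theorem N80148 : nd 80148 = n166283 := ndS (p := 46231) (l := 3) rfl N46231 D166283
theorem N80149 : nd 80149 = n166287 := ndS (p := 46233) (l := 4) rfl N46233 D166287
theorem N80150 : nd 80150 = n166289 := ndS (p := 46234) (l := 1) rfl N46234 D166289
theorem N80151 : nd 80151 = n166314 := ndS (p := 46240) (l := 5) rfl N46240 D166314
theorem N80152 : nd 80152 = n166315 := ndS (p := 46240) (l := 6) rfl N46240 D166315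
theorem N80153 : nd 80153 = n166318 := ndS (p := 46243) (l := 0) rfl N46243 D166318
theorem N80154 : nd 80154 = n166320 := ndS (p := 46243) (l := 2) rfl N46243 D166320
theorem N80155 : nd 80155 = n166321 := ndS (p := 46243) (l := 5) rfl N46243 D166321
theorem N80156 : nd 80156 = n166322 := ndS (p := 46243) (l := 6) rfl N46243 D166322
theorem N80157 : nd 80157 = n166326 := ndS (p := 46244) (l := 6) rfl N46244 D166326
theorem N80158 : nd 80158 = n166334 := ndS (p := 46246) (l := 3) rfl N46246 D166334
theorem N80159 : nd 80159 = n166335 := ndS (p := 46246) (l := 4) rfl N46246 D166335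
theorem N80160 : nd 80160 = n166360 := ndS (p := 46249) (l := 3) rfl N46249 D166360
theorem N80161 : nd 80161 = n166381 := ndS (p := 46251) (l := 3) rfl N46251 D166381
theorem N80162 : nd 80162 = n166386 := ndS (p := 46252) (l := 6) rfl N46252 D166386
theorem N80163 : nd 80163 = n166390 := ndS (p := 46253) (l := 6) rfl N46253 D166390
theorem N80164 : nd 80164 = n166399 := ndS (p := 46256) (l := 3) rfl N46256 D166399
theorem N80165 : nd 80165 = n166400 := ndS (p := 46256) (l := 4) rfl N46256 D166400
theorem N80166 : nd 80166 = n166401 := ndS (p := 46256) (l := 5) rfl N46256 D166401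
theorem N80167 : nd 80167 = n166408 := ndS (p := 46257) (l := 4) rfl N46257 D166408
theorem N80168 : nd 80168 = n166411 := ndS (p := 46258) (l := 0) rfl N46258 D166411
theorem N80169 : nd 80169 = n166413 := ndS (p := 46258) (l := 5) rfl N46258 D166413
theorem N80170 : nd 80170 = n166435 := ndS (p := 46259) (l := 3) rfl N46259 D166435
theorem N80171 : nd 80171 = n166436 := ndS (p := 46259) (l := 4) rfl N46259 D166436
theorem N80172 : nd 80172 = n166437 := ndS (p := 46259) (l := 5) rfl N46259 D166437
theorem N80173 : nd 80173 = n166441 := ndS (p := 46260) (l := 6) rfl N46260 D166441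
theorem N80174 : nd 80174 = n166444 := ndS (p := 46261) (l := 5) rfl N46261 D166444
theorem N80175 : nd 80175 = n166450 := ndS (p := 46262) (l := 0) rfl N46262 D166450
theorem N80176 : nd 80176 = n166457 := ndS (p := 46263) (l := 5) rfl N46263 D166457
theorem N80177 : nd 80177 = n166460 := ndS (p := 46264) (l := 3) rfl N46264 D166460
theorem N80178 : nd 80178 = n166465 := ndS (p := 46265) (l := 1) rfl N46265 D166465
theorem N80179 : nd 80179 = n166466 := ndS (p := 46265) (l := 2) rfl N46265 D166466
theorem N80180 : nd 80180 = n166467 := ndS (p := 46265) (l := 4) rfl N46265 D166467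
theorem N80181 : nd 80181 = n166468 := ndS (p := 46265) (l := 5) rfl N46265 D166468
theorem N80182 : nd 80182 = n166469 := ndS (p := 46265) (l := 6) rfl N46265 D166469
theorem N80183 : nd 80183 = n166470 := ndS (p := 46265) (l := 7) rfl N46265 D166470
theorem N80184 : nd 80184 = n166473 := ndS (p := 46266) (l := 3) rfl N46266 D166473
theorem N80185 : nd 80185 = n166475 := ndS (p := 46266) (l := 6) rfl N46266 D166475
theorem N80186 : nd 80186 = n166477 := ndS (p := 46267) (l := 0) rfl N46267 D166477
theorem N80187 : nd 80187 = n166481 := ndS (p := 46267) (l := 7) rfl N46267 D166481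
theorem N80188 : nd 80188 = n166484 := ndS (p := 46268) (l := 5) rfl N46268 D166484
theorem N80189 : nd 80189 = n166486 := ndS (p := 46269) (l := 6) rfl N46269 D166486
theorem N80190 : nd 80190 = n166489 := ndS (p := 46270) (l := 2) rfl N46270 D166489
theorem N80191 : nd 80191 = n166490 := ndS (p := 46270) (l := 4) rfl N46270 D166490
theorem N80192 : nd 80192 = n166491 := ndS (p := 46270) (l := 5) rfl N46270 D166491
theorem N80193 : nd 80193 = n166492 := ndS (p := 46270) (l := 6) rfl N46270 D166492
theorem N80194 : nd 80194 = n166497 := ndS (p := 46271) (l := 6) rfl N46271 D166497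
theorem N80195 : nd 80195 = n166500 := ndS (p := 46272) (l := 5) rfl N46272 D166500
theorem N80196 : nd 80196 = n166501 := ndS (p := 46272) (l := 7) rfl N46272 D166501
theorem N80197 : nd 80197 = n166513 := ndS (p := 46273) (l := 1) rfl N46273 D166513
theorem N80198 : nd 80198 = n166516 := ndS (p := 46274) (l := 3) rfl N46274 D166516
theorem N80199 : nd 80199 = n166517 := ndS (p := 46274) (l := 4) rfl N46274 D166517
theorem N80200 : nd 80200 = n166525 := ndS (p := 46276) (l := 0) rfl N46276 D166525
theorem N80201 : nd 80201 = n166526 := ndS (p := 46276) (l := 1) rfl N46276 D166526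
theorem N80202 : nd 80202 = n166529 := ndS (p := 46276) (l := 7) rfl N46276 D166529
theorem N80203 : nd 80203 = n166533 := ndS (p := 46278) (l := 2) rfl N46278 D166533
theorem N80204 : nd 80204 = n166554 := ndS (p := 46282) (l := 1) rfl N46282 D166554
theorem N80205 : nd 80205 = n166555 := ndS (p := 46282) (l := 2) rfl N46282 D166555
theorem N80206 : nd 80206 = n166556 := ndS (p := 46282) (l := 6) rfl N46282 D166556
theorem N80207 : nd 80207 = n166558 := ndS (p := 46283) (l := 5) rfl N46283 D166558
theorem N80208 : nd 80208 = n166562 := ndS (p := 46286) (l := 0) rfl N46286 D166562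
theorem N80209 : nd 80209 = n166563 := ndS (p := 46286) (l := 1) rfl N46286 D166563
theorem N80210 : nd 80210 = n166564 := ndS (p := 46286) (l := 2) rfl N46286 D166564
theorem N80211 : nd 80211 = n166575 := ndS (p := 46287) (l := 0) rfl N46287 D166575
theorem N80212 : nd 80212 = n166576 := ndS (p := 46287) (l := 1) rfl N46287 D166576
theorem N80213 : nd 80213 = n166577 := ndS (p := 46287) (l := 2) rfl N46287 D166577
theorem N80214 : nd 80214 = n166583 := ndS (p := 46289) (l := 0) rfl N46289 D166583
theorem N80215 : nd 80215 = n166584 := ndS (p := 46289) (l := 1) rfl N46289 D166584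
theorem N80216 : nd 80216 = n166591 := ndS (p := 46290) (l := 0) rfl N46290 D166591
theorem N80217 : nd 80217 = n166592 := ndS (p := 46290) (l := 1) rfl N46290 D166592
theorem N80218 : nd 80218 = n166593 := ndS (p := 46290) (l := 2) rfl N46290 D166593
theorem N80219 : nd 80219 = n166598 := ndS (p := 46291) (l := 6) rfl N46291 D166598
theorem N80220 : nd 80220 = n166599 := ndS (p := 46292) (l := 3) rfl N46292 D166599
theorem N80221 : nd 80221 = n166600 := ndS (p := 46292) (l := 5) rfl N46292 D166600
theorem N80222 : nd 80222 = n166601 := ndS (p := 46292) (l := 6) rfl N46292 D166601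
theorem N80223 : nd 80223 = n166606 := ndS (p := 46295) (l := 0) rfl N46295 D166606
theorem N80224 : nd 80224 = n166607 := ndS (p := 46295) (l := 1) rfl N46295 D166607
theorem N80225 : nd 80225 = n166610 := ndS (p := 46296) (l := 0) rfl N46296 D166610
theorem N80226 : nd 80226 = n166611 := ndS (p := 46296) (l := 1) rfl N46296 D166611
theorem N80227 : nd 80227 = n166619 := ndS (p := 46297) (l := 0) rfl N46297 D166619
theorem N80228 : nd 80228 = n166620 := ndS (p := 46297) (l := 1) rfl N46297 D166620
theorem N80229 : nd 80229 = n166624 := ndS (p := 46299) (l := 3) rfl N46299 D166624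
theorem N80230 : nd 80230 = n166625 := ndS (p := 46299) (l := 5) rfl N46299 D166625
theorem N80231 : nd 80231 = n166627 := ndS (p := 46300) (l := 3) rfl N46300 D166627
theorem N80232 : nd 80232 = n166630 := ndS (p := 46301) (l := 1) rfl N46301 D166630
theorem N80233 : nd 80233 = n166632 := ndS (p := 46302) (l := 1) rfl N46302 D166632
theorem N80234 : nd 80234 = n166634 := ndS (p := 46302) (l := 5) rfl N46302 D166634
theorem N80235 : nd 80235 = n166640 := ndS (p := 46304) (l := 6) rfl N46304 D166640
theorem N80236 : nd 80236 = n166642 := ndS (p := 46305) (l := 5) rfl N46305 D166642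
theorem N80237 : nd 80237 = n166646 := ndS (p := 46306) (l := 5) rfl N46306 D166646
theorem N80238 : nd 80238 = n166651 := ndS (p := 46307) (l := 7) rfl N46307 D166651
theorem N80239 : nd 80239 = n166653 := ndS (p := 46308) (l := 3) rfl N46308 D166653
theorem N80240 : nd 80240 = n166668 := ndS (p := 46313) (l := 0) rfl N46313 D166668
theorem N80241 : nd 80241 = n166669 := ndS (p := 46313) (l := 1) rfl N46313 D166669
theorem N80242 : nd 80242 = n166670 := ndS (p := 46313) (l := 2) rfl N46313 D166670
theorem N80243 : nd 80243 = n166671 := ndS (p := 46314) (l := 0) rfl N46314 D166671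
theorem N80244 : nd 80244 = n166672 := ndS (p := 46314) (l := 1) rfl N46314 D166672
theorem N80245 : nd 80245 = n166673 := ndS (p := 46314) (l := 2) rfl N46314 D166673
theorem N80246 : nd 80246 = n166674 := ndS (p := 46314) (l := 5) rfl N46314 D166674
theorem N80247 : nd 80247 = n166676 := ndS (p := 46315) (l := 6) rfl N46315 D166676
theorem N80248 : nd 80248 = n166678 := ndS (p := 46316) (l := 0) rfl N46316 D166678
theorem N80249 : nd 80249 = n166679 := ndS (p := 46316) (l := 1) rfl N46316 D166679
theorem N80250 : nd 80250 = n166680 := ndS (p := 46316) (l := 2) rfl N46316 D166680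
theorem N80251 : nd 80251 = n166681 := ndS (p := 46316) (l := 5) rfl N46316 D166681
theorem N80252 : nd 80252 = n166683 := ndS (p := 46317) (l := 6) rfl N46317 D166683
theorem N80253 : nd 80253 = n166686 := ndS (p := 46318) (l := 5) rfl N46318 D166686
theorem N80254 : nd 80254 = n166694 := ndS (p := 46321) (l := 6) rfl N46321 D166694
theorem N80255 : nd 80255 = n166695 := ndS (p := 46322) (l := 5) rfl N46322 D166695
theorem N80256 : nd 80256 = n166697 := ndS (p := 46323) (l := 1) rfl N46323 D166697
theorem N80257 : nd 80257 = n166699 := ndS (p := 46323) (l := 5) rfl N46323 D166699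
theorem N80258 : nd 80258 = n166701 := ndS (p := 46324) (l := 6) rfl N46324 D166701
theorem N80259 : nd 80259 = n166704 := ndS (p := 46325) (l := 3) rfl N46325 D166704
theorem N80260 : nd 80260 = n166705 := ndS (p := 46325) (l := 5) rfl N46325 D166705
theorem N80261 : nd 80261 = n166706 := ndS (p := 46325) (l := 6) rfl N46325 D166706
theorem N80262 : nd 80262 = n166707 := ndS (p := 46326) (l := 3) rfl N46326 D166707
theorem N80263 : nd 80263 = n166708 := ndS (p := 46326) (l := 5) rfl N46326 D166708
theorem N80264 : nd 80264 = n166710 := ndS (p := 46327) (l := 5) rfl N46327 D166710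
theorem N80265 : nd 80265 = n166711 := ndS (p := 46328) (l := 4) rfl N46328 D166711
theorem N80266 : nd 80266 = n166712 := ndS (p := 46328) (l := 6) rfl N46328 D166712
theorem N80267 : nd 80267 = n166713 := ndS (p := 46329) (l := 0) rfl N46329 D166713
theorem N80268 : nd 80268 = n166714 := ndS (p := 46329) (l := 1) rfl N46329 D166714
theorem N80269 : nd 80269 = n166715 := ndS (p := 46329) (l := 7) rfl N46329 D166715
theorem N80270 : nd 80270 = n166718 := ndS (p := 46331) (l := 3) rfl N46331 D166718
theorem N80271 : nd 80271 = n166719 := ndS (p := 46331) (l := 5) rfl N46331 D166719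
theorem N80272 : nd 80272 = n166725 := ndS (p := 46332) (l := 2) rfl N46332 D166725
theorem N80273 : nd 80273 = n166735 := ndS (p := 46334) (l := 6) rfl N46334 D166735
theorem N80274 : nd 80274 = n166736 := ndS (p := 46335) (l := 3) rfl N46335 D166736
theorem N80275 : nd 80275 = n166737 := ndS (p := 46335) (l := 5) rfl N46335 D166737
theorem N80276 : nd 80276 = n166738 := ndS (p := 46335) (l := 6) rfl N46335 D166738
theorem N80277 : nd 80277 = n166740 := ndS (p := 46336) (l := 1) rfl N46336 D166740
theorem N80278 : nd 80278 = n166743 := ndS (p := 46337) (l := 3) rfl N46337 D166743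
theorem N80279 : nd 80279 = n166744 := ndS (p := 46337) (l := 5) rfl N46337 D166744
theorem N80280 : nd 80280 = n166745 := ndS (p := 46337) (l := 6) rfl N46337 D166745
theorem N80281 : nd 80281 = n166749 := ndS (p := 46339) (l := 1) rfl N46339 D166749
theorem N80282 : nd 80282 = n166750 := ndS (p := 46339) (l := 2) rfl N46339 D166750
theorem N80283 : nd 80283 = n166753 := ndS (p := 46340) (l := 0) rfl N46340 D166753
theorem N80284 : nd 80284 = n166754 := ndS (p := 46340) (l := 1) rfl N46340 D166754
theorem N80285 : nd 80285 = n166756 := ndS (p := 46340) (l := 6) rfl N46340 D166756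
theorem N80286 : nd 80286 = n166776 := ndS (p := 46343) (l := 4) rfl N46343 D166776
theorem N80287 : nd 80287 = n166778 := ndS (p := 46344) (l := 3) rfl N46344 D166778
theorem N80288 : nd 80288 = n166843 := ndS (p := 46351) (l := 0) rfl N46351 D166843
theorem N80289 : nd 80289 = n166900 := ndS (p := 46354) (l := 6) rfl N46354 D166900
theorem N80290 : nd 80290 = n166901 := ndS (p := 46355) (l := 6) rfl N46355 D166901
theorem N80291 : nd 80291 = n166905 := ndS (p := 46356) (l := 7) rfl N46356 D166905
theorem N80292 : nd 80292 = n166908 := ndS (p := 46358) (l := 6) rfl N46358 D166908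
theorem N80293 : nd 80293 = n166946 := ndS (p := 46360) (l := 2) rfl N46360 D166946
theorem N80294 : nd 80294 = n166999 := ndS (p := 46365) (l := 6) rfl N46365 D166999
theorem N80295 : nd 80295 = n167007 := ndS (p := 46368) (l := 6) rfl N46368 D167007
theorem N80296 : nd 80296 = n167068 := ndS (p := 46376) (l := 1) rfl N46376 D167068
theorem N80297 : nd 80297 = n167081 := ndS (p := 46378) (l := 1) rfl N46378 D167081
theorem N80298 : nd 80298 = n167083 := ndS (p := 46378) (l := 7) rfl N46378 D167083
theorem N80299 : nd 80299 = n167086 := ndS (p := 46379) (l := 5) rfl N46379 D167086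
theorem N80300 : nd 80300 = n167092 := ndS (p := 46381) (l := 6) rfl N46381 D167092
theorem N80301 : nd 80301 = n167095 := ndS (p := 46382) (l := 4) rfl N46382 D167095
theorem N80302 : nd 80302 = n167098 := ndS (p := 46384) (l := 5) rfl N46384 D167098
theorem N80303 : nd 80303 = n167114 := ndS (p := 46388) (l := 2) rfl N46388 D167114
theorem N80304 : nd 80304 = n167116 := ndS (p := 46388) (l := 6) rfl N46388 D167116
theorem N80305 : nd 80305 = n167233 := ndS (p := 46400) (l := 0) rfl N46400 D167233
theorem N80306 : nd 80306 = n167234 := ndS (p := 46400) (l := 1) rfl N46400 D167234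
theorem N80307 : nd 80307 = n167235 := ndS (p := 46400) (l := 4) rfl N46400 D167235
theorem N80308 : nd 80308 = n167342 := ndS (p := 46404) (l := 5) rfl N46404 D167342
theorem N80309 : nd 80309 = n167343 := ndS (p := 46404) (l := 6) rfl N46404 D167343
theorem N80310 : nd 80310 = n167345 := ndS (p := 46405) (l := 5) rfl N46405 D167345
theorem N80311 : nd 80311 = n167347 := ndS (p := 46406) (l := 0) rfl N46406 D167347
theorem N80312 : nd 80312 = n167349 := ndS (p := 46406) (l := 4) rfl N46406 D167349
theorem N80313 : nd 80313 = n167351 := ndS (p := 46407) (l := 0) rfl N46407 D167351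
theorem N80314 : nd 80314 = n167354 := ndS (p := 46407) (l := 7) rfl N46407 D167354
theorem N80315 : nd 80315 = n167435 := ndS (p := 46410) (l := 7) rfl N46410 D167435
theorem N80316 : nd 80316 = n167442 := ndS (p := 46411) (l := 4) rfl N46411 D167442
theorem N80317 : nd 80317 = n167443 := ndS (p := 46411) (l := 6) rfl N46411 D167443
theorem N80318 : nd 80318 = n167445 := ndS (p := 46412) (l := 7) rfl N46412 D167445
theorem N80319 : nd 80319 = n167465 := ndS (p := 46418) (l := 0) rfl N46418 D167465
theorem N80320 : nd 80320 = n167469 := ndS (p := 46419) (l := 0) rfl N46419 D167469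
theorem N80321 : nd 80321 = n167472 := ndS (p := 46419) (l := 7) rfl N46419 D167472
theorem N80322 : nd 80322 = n167490 := ndS (p := 46422) (l := 3) rfl N46422 D167490
theorem N80323 : nd 80323 = n167492 := ndS (p := 46423) (l := 0) rfl N46423 D167492
theorem N80324 : nd 80324 = n167564 := ndS (p := 46430) (l := 0) rfl N46430 D167564
theorem N80325 : nd 80325 = n167565 := ndS (p := 46430) (l := 1) rfl N46430 D167565
theorem N80326 : nd 80326 = n167567 := ndS (p := 46430) (l := 7) rfl N46430 D167567
theorem N80327 : nd 80327 = n167568 := ndS (p := 46431) (l := 0) rfl N46431 D167568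
theorem N80328 : nd 80328 = n167569 := ndS (p := 46431) (l := 1) rfl N46431 D167569
theorem N80329 : nd 80329 = n167574 := ndS (p := 46432) (l := 4) rfl N46432 D167574
theorem N80330 : nd 80330 = n167576 := ndS (p := 46432) (l := 6) rfl N46432 D167576
theorem N80331 : nd 80331 = n167579 := ndS (p := 46433) (l := 4) rfl N46433 D167579
theorem N80332 : nd 80332 = n167581 := ndS (p := 46433) (l := 6) rfl N46433 D167581
theorem N80333 : nd 80333 = n167582 := ndS (p := 46434) (l := 0) rfl N46434 D167582
theorem N80334 : nd 80334 = n167585 := ndS (p := 46434) (l := 7) rfl N46434 D167585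
theorem N80335 : nd 80335 = n167586 := ndS (p := 46436) (l := 0) rfl N46436 D167586
theorem N80336 : nd 80336 = n167588 := ndS (p := 46436) (l := 2) rfl N46436 D167588
theorem N80337 : nd 80337 = n167590 := ndS (p := 46436) (l := 6) rfl N46436 D167590
theorem N80338 : nd 80338 = n167592 := ndS (p := 46437) (l := 6) rfl N46437 D167592
theorem N80339 : nd 80339 = n167594 := ndS (p := 46439) (l := 1) rfl N46439 D167594
theorem N80340 : nd 80340 = n167596 := ndS (p := 46439) (l := 5) rfl N46439 D167596
theorem N80341 : nd 80341 = n167611 := ndS (p := 46442) (l := 6) rfl N46442 D167611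
theorem N80342 : nd 80342 = n167614 := ndS (p := 46443) (l := 2) rfl N46443 D167614
theorem N80343 : nd 80343 = n167616 := ndS (p := 46443) (l := 6) rfl N46443 D167616
theorem N80344 : nd 80344 = n167641 := ndS (p := 46447) (l := 0) rfl N46447 D167641
theorem N80345 : nd 80345 = n167642 := ndS (p := 46447) (l := 1) rfl N46447 D167642
theorem N80346 : nd 80346 = n167643 := ndS (p := 46447) (l := 5) rfl N46447 D167643
theorem N80347 : nd 80347 = n167648 := ndS (p := 46449) (l := 4) rfl N46449 D167648
theorem N80348 : nd 80348 = n167672 := ndS (p := 46453) (l := 4) rfl N46453 D167672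
theorem N80349 : nd 80349 = n167677 := ndS (p := 46454) (l := 5) rfl N46454 D167677
theorem N80350 : nd 80350 = n167678 := ndS (p := 46454) (l := 6) rfl N46454 D167678
theorem N80351 : nd 80351 = n167679 := ndS (p := 46455) (l := 4) rfl N46455 D167679
theorem N80352 : nd 80352 = n167680 := ndS (p := 46455) (l := 6) rfl N46455 D167680
theorem N80353 : nd 80353 = n167686 := ndS (p := 46457) (l := 6) rfl N46457 D167686
theorem N80354 : nd 80354 = n167687 := ndS (p := 46458) (l := 0) rfl N46458 D167687
theorem N80355 : nd 80355 = n167688 := ndS (p := 46458) (l := 1) rfl N46458 D167688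
theorem N80356 : nd 80356 = n167690 := ndS (p := 46458) (l := 5) rfl N46458 D167690
theorem N80357 : nd 80357 = n167691 := ndS (p := 46458) (l := 7) rfl N46458 D167691
theorem N80358 : nd 80358 = n167709 := ndS (p := 46460) (l := 3) rfl N46460 D167709
theorem N80359 : nd 80359 = n167717 := ndS (p := 46461) (l := 6) rfl N46461 D167717
theorem N80360 : nd 80360 = n167722 := ndS (p := 46463) (l := 3) rfl N46463 D167722
theorem N80361 : nd 80361 = n167760 := ndS (p := 46468) (l := 5) rfl N46468 D167760
theorem N80362 : nd 80362 = n167761 := ndS (p := 46468) (l := 6) rfl N46468 D167761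
theorem N80363 : nd 80363 = n167762 := ndS (p := 46469) (l := 0) rfl N46469 D167762
theorem N80364 : nd 80364 = n167764 := ndS (p := 46469) (l := 4) rfl N46469 D167764
theorem N80365 : nd 80365 = n167765 := ndS (p := 46469) (l := 6) rfl N46469 D167765
theorem N80366 : nd 80366 = n167766 := ndS (p := 46470) (l := 0) rfl N46470 D167766
theorem N80367 : nd 80367 = n167767 := ndS (p := 46470) (l := 1) rfl N46470 D167767
theorem N80368 : nd 80368 = n167768 := ndS (p := 46471) (l := 3) rfl N46471 D167768
theorem N80369 : nd 80369 = n167769 := ndS (p := 46471) (l := 4) rfl N46471 D167769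
theorem N80370 : nd 80370 = n167770 := ndS (p := 46471) (l := 6) rfl N46471 D167770
theorem N80371 : nd 80371 = n167771 := ndS (p := 46472) (l := 3) rfl N46472 D167771
theorem N80372 : nd 80372 = n167772 := ndS (p := 46472) (l := 4) rfl N46472 D167772
theorem N80373 : nd 80373 = n167774 := ndS (p := 46473) (l := 0) rfl N46473 D167774
theorem N80374 : nd 80374 = n167778 := ndS (p := 46473) (l := 6) rfl N46473 D167778
theorem N80375 : nd 80375 = n167779 := ndS (p := 46474) (l := 0) rfl N46474 D167779
theorem N80376 : nd 80376 = n167780 := ndS (p := 46474) (l := 1) rfl N46474 D167780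
theorem N80377 : nd 80377 = n167781 := ndS (p := 46474) (l := 5) rfl N46474 D167781
theorem N80378 : nd 80378 = n167782 := ndS (p := 46474) (l := 7) rfl N46474 D167782
theorem N80379 : nd 80379 = n167783 := ndS (p := 46475) (l := 3) rfl N46475 D167783
theorem N80380 : nd 80380 = n167786 := ndS (p := 46476) (l := 7) rfl N46476 D167786
theorem N80381 : nd 80381 = n167794 := ndS (p := 46478) (l := 0) rfl N46478 D167794
theorem N80382 : nd 80382 = n167806 := ndS (p := 46479) (l := 5) rfl N46479 D167806
theorem N80383 : nd 80383 = n167809 := ndS (p := 46481) (l := 4) rfl N46481 D167809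
theorem N80384 : nd 80384 = n167836 := ndS (p := 46485) (l := 4) rfl N46485 D167836
theorem N80385 : nd 80385 = n167837 := ndS (p := 46486) (l := 3) rfl N46486 D167837
theorem N80386 : nd 80386 = n167879 := ndS (p := 46495) (l := 1) rfl N46495 D167879
theorem N80387 : nd 80387 = n167881 := ndS (p := 46495) (l := 5) rfl N46495 D167881
theorem N80388 : nd 80388 = n167882 := ndS (p := 46495) (l := 6) rfl N46495 D167882
theorem N80389 : nd 80389 = n167897 := ndS (p := 46499) (l := 4) rfl N46499 D167897
theorem N80390 : nd 80390 = n167904 := ndS (p := 46500) (l := 4) rfl N46500 D167904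
theorem N80391 : nd 80391 = n167913 := ndS (p := 46503) (l := 4) rfl N46503 D167913
theorem N80392 : nd 80392 = n167915 := ndS (p := 46504) (l := 0) rfl N46504 D167915
theorem N80393 : nd 80393 = n167920 := ndS (p := 46506) (l := 3) rfl N46506 D167920
theorem N80394 : nd 80394 = n167922 := ndS (p := 46506) (l := 6) rfl N46506 D167922
theorem N80395 : nd 80395 = n167923 := ndS (p := 46507) (l := 0) rfl N46507 D167923
theorem N80396 : nd 80396 = n167924 := ndS (p := 46507) (l := 1) rfl N46507 D167924
theorem N80397 : nd 80397 = n167926 := ndS (p := 46507) (l := 5) rfl N46507 D167926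
theorem N80398 : nd 80398 = n167935 := ndS (p := 46512) (l := 0) rfl N46512 D167935
theorem N80399 : nd 80399 = n167937 := ndS (p := 46512) (l := 2) rfl N46512 D167937
theorem N80400 : nd 80400 = n168081 := ndS (p := 46514) (l := 3) rfl N46514 D168081
theorem N80401 : nd 80401 = n169805 := ndS (p := 46522) (l := 4) rfl N46522 D169805
theorem N80402 : nd 80402 = n169814 := ndS (p := 46524) (l := 0) rfl N46524 D169814
theorem N80403 : nd 80403 = n169816 := ndS (p := 46524) (l := 5) rfl N46524 D169816
theorem N80404 : nd 80404 = n169819 := ndS (p := 46525) (l := 5) rfl N46525 D169819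
theorem N80405 : nd 80405 = n169822 := ndS (p := 46526) (l := 5) rfl N46526 D169822
theorem N80406 : nd 80406 = n169824 := ndS (p := 46527) (l := 0) rfl N46527 D169824
theorem N80407 : nd 80407 = n169826 := ndS (p := 46527) (l := 4) rfl N46527 D169826
theorem N80408 : nd 80408 = n169875 := ndS (p := 46531) (l := 3) rfl N46531 D169875
theorem N80409 : nd 80409 = n169876 := ndS (p := 46531) (l := 5) rfl N46531 D169876
theorem N80410 : nd 80410 = n169883 := ndS (p := 46533) (l := 4) rfl N46533 D169883
theorem N80411 : nd 80411 = n169886 := ndS (p := 46534) (l := 3) rfl N46534 D169886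
theorem N80412 : nd 80412 = n169898 := ndS (p := 46536) (l := 1) rfl N46536 D169898
theorem N80413 : nd 80413 = n169899 := ndS (p := 46536) (l := 2) rfl N46536 D169899
theorem N80414 : nd 80414 = n169900 := ndS (p := 46536) (l := 5) rfl N46536 D169900
theorem N80415 : nd 80415 = n169906 := ndS (p := 46537) (l := 7) rfl N46537 D169906
theorem N80416 : nd 80416 = n169907 := ndS (p := 46539) (l := 0) rfl N46539 D169907
theorem N80417 : nd 80417 = n169908 := ndS (p := 46539) (l := 1) rfl N46539 D169908
theorem N80418 : nd 80418 = n169909 := ndS (p := 46539) (l := 2) rfl N46539 D169909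
theorem N80419 : nd 80419 = n169910 := ndS (p := 46540) (l := 0) rfl N46540 D169910
theorem N80420 : nd 80420 = n169911 := ndS (p := 46540) (l := 1) rfl N46540 D169911
theorem N80421 : nd 80421 = n169912 := ndS (p := 46540) (l := 2) rfl N46540 D169912
theorem N80422 : nd 80422 = n169913 := ndS (p := 46540) (l := 5) rfl N46540 D169913
theorem N80423 : nd 80423 = n169915 := ndS (p := 46541) (l := 6) rfl N46541 D169915
theorem N80424 : nd 80424 = n169917 := ndS (p := 46542) (l := 1) rfl N46542 D169917
theorem N80425 : nd 80425 = n169918 := ndS (p := 46542) (l := 2) rfl N46542 D169918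
theorem N80426 : nd 80426 = n169919 := ndS (p := 46542) (l := 5) rfl N46542 D169919
theorem N80427 : nd 80427 = n169921 := ndS (p := 46543) (l := 6) rfl N46543 D169921
theorem N80428 : nd 80428 = n169936 := ndS (p := 46548) (l := 3) rfl N46548 D169936
theorem N80429 : nd 80429 = n169937 := ndS (p := 46548) (l := 6) rfl N46548 D169937
theorem N80430 : nd 80430 = n169955 := ndS (p := 46551) (l := 4) rfl N46551 D169955
theorem N80431 : nd 80431 = n169956 := ndS (p := 46551) (l := 6) rfl N46551 D169956
theorem N80432 : nd 80432 = n169961 := ndS (p := 46553) (l := 5) rfl N46553 D169961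
theorem N80433 : nd 80433 = n170010 := ndS (p := 46554) (l := 6) rfl N46554 D170010
theorem N80434 : nd 80434 = n170021 := ndS (p := 46558) (l := 3) rfl N46558 D170021
theorem N80435 : nd 80435 = n170022 := ndS (p := 46558) (l := 4) rfl N46558 D170022
theorem N80436 : nd 80436 = n170024 := ndS (p := 46558) (l := 6) rfl N46558 D170024
theorem N80437 : nd 80437 = n170027 := ndS (p := 46559) (l := 4) rfl N46559 D170027
theorem N80438 : nd 80438 = n170051 := ndS (p := 46562) (l := 3) rfl N46562 D170051
theorem N80439 : nd 80439 = n170060 := ndS (p := 46564) (l := 2) rfl N46564 D170060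
theorem N80440 : nd 80440 = n170066 := ndS (p := 46565) (l := 6) rfl N46565 D170066
theorem N80441 : nd 80441 = n170091 := ndS (p := 46569) (l := 6) rfl N46569 D170091
theorem N80442 : nd 80442 = n170227 := ndS (p := 46581) (l := 6) rfl N46581 D170227
theorem N80443 : nd 80443 = n170230 := ndS (p := 46583) (l := 3) rfl N46583 D170230
theorem N80444 : nd 80444 = n170243 := ndS (p := 46584) (l := 0) rfl N46584 D170243
theorem N80445 : nd 80445 = n170246 := ndS (p := 46584) (l := 5) rfl N46584 D170246
theorem N80446 : nd 80446 = n170251 := ndS (p := 46585) (l := 6) rfl N46585 D170251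
theorem N80447 : nd 80447 = n170252 := ndS (p := 46585) (l := 7) rfl N46585 D170252
theorem N80448 : nd 80448 = n170259 := ndS (p := 46589) (l := 6) rfl N46589 D170259
theorem N80449 : nd 80449 = n170260 := ndS (p := 46590) (l := 6) rfl N46590 D170260
theorem N80450 : nd 80450 = n170265 := ndS (p := 46592) (l := 6) rfl N46592 D170265
theorem N80451 : nd 80451 = n170267 := ndS (p := 46594) (l := 6) rfl N46594 D170267
theorem N80452 : nd 80452 = n170270 := ndS (p := 46596) (l := 1) rfl N46596 D170270
theorem N80453 : nd 80453 = n170271 := ndS (p := 46596) (l := 5) rfl N46596 D170271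
theorem N80454 : nd 80454 = n170274 := ndS (p := 46597) (l := 3) rfl N46597 D170274
theorem N80455 : nd 80455 = n170277 := ndS (p := 46597) (l := 6) rfl N46597 D170277
theorem N80456 : nd 80456 = n170279 := ndS (p := 46598) (l := 3) rfl N46598 D170279
theorem N80457 : nd 80457 = n170282 := ndS (p := 46598) (l := 6) rfl N46598 D170282
theorem N80458 : nd 80458 = n170341 := ndS (p := 46604) (l := 3) rfl N46604 D170341
theorem N80459 : nd 80459 = n170357 := ndS (p := 46606) (l := 6) rfl N46606 D170357
theorem N80460 : nd 80460 = n170358 := ndS (p := 46607) (l := 6) rfl N46607 D170358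
theorem N80461 : nd 80461 = n170360 := ndS (p := 46608) (l := 1) rfl N46608 D170360
theorem N80462 : nd 80462 = n170367 := ndS (p := 46609) (l := 6) rfl N46609 D170367
theorem N80463 : nd 80463 = n170375 := ndS (p := 46610) (l := 4) rfl N46610 D170375
theorem N80464 : nd 80464 = n170400 := ndS (p := 46611) (l := 0) rfl N46611 D170400
theorem N80465 : nd 80465 = n170402 := ndS (p := 46611) (l := 2) rfl N46611 D170402
theorem N80466 : nd 80466 = n170404 := ndS (p := 46611) (l := 5) rfl N46611 D170404
theorem N80467 : nd 80467 = n170405 := ndS (p := 46611) (l := 6) rfl N46611 D170405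
theorem N80468 : nd 80468 = n170409 := ndS (p := 46612) (l := 3) rfl N46612 D170409
theorem N80469 : nd 80469 = n170410 := ndS (p := 46612) (l := 5) rfl N46612 D170410
theorem N80470 : nd 80470 = n170411 := ndS (p := 46612) (l := 6) rfl N46612 D170411
theorem N80471 : nd 80471 = n170427 := ndS (p := 46615) (l := 6) rfl N46615 D170427
theorem N80472 : nd 80472 = n170428 := ndS (p := 46616) (l := 5) rfl N46616 D170428
theorem N80473 : nd 80473 = n170429 := ndS (p := 46616) (l := 6) rfl N46616 D170429
theorem N80474 : nd 80474 = n170432 := ndS (p := 46618) (l := 0) rfl N46618 D170432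
theorem N80475 : nd 80475 = n170448 := ndS (p := 46620) (l := 5) rfl N46620 D170448
theorem N80476 : nd 80476 = n170452 := ndS (p := 46622) (l := 4) rfl N46622 D170452
theorem N80477 : nd 80477 = n170463 := ndS (p := 46624) (l := 1) rfl N46624 D170463
theorem N80478 : nd 80478 = n170465 := ndS (p := 46624) (l := 6) rfl N46624 D170465
theorem N80479 : nd 80479 = n170468 := ndS (p := 46625) (l := 5) rfl N46625 D170468
theorem N80480 : nd 80480 = n170478 := ndS (p := 46626) (l := 6) rfl N46626 D170478
theorem N80481 : nd 80481 = n170481 := ndS (p := 46627) (l := 5) rfl N46627 D170481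
theorem N80482 : nd 80482 = n170483 := ndS (p := 46628) (l := 4) rfl N46628 D170483
theorem N80483 : nd 80483 = n170508 := ndS (p := 46630) (l := 3) rfl N46630 D170508
theorem N80484 : nd 80484 = n170522 := ndS (p := 46632) (l := 3) rfl N46632 D170522
theorem N80485 : nd 80485 = n170543 := ndS (p := 46635) (l := 0) rfl N46635 D170543
theorem N80486 : nd 80486 = n170545 := ndS (p := 46635) (l := 2) rfl N46635 D170545
theorem N80487 : nd 80487 = n170546 := ndS (p := 46635) (l := 5) rfl N46635 D170546
theorem N80488 : nd 80488 = n170548 := ndS (p := 46636) (l := 6) rfl N46636 D170548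
theorem N80489 : nd 80489 = n170568 := ndS (p := 46639) (l := 5) rfl N46639 D170568
theorem N80490 : nd 80490 = n170569 := ndS (p := 46639) (l := 6) rfl N46639 D170569
theorem N80491 : nd 80491 = n170571 := ndS (p := 46640) (l := 1) rfl N46640 D170571
theorem N80492 : nd 80492 = n170573 := ndS (p := 46640) (l := 6) rfl N46640 D170573
theorem N80493 : nd 80493 = n170574 := ndS (p := 46641) (l := 0) rfl N46641 D170574
theorem N80494 : nd 80494 = n170576 := ndS (p := 46641) (l := 5) rfl N46641 D170576
theorem N80495 : nd 80495 = n170581 := ndS (p := 46642) (l := 3) rfl N46642 D170581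
theorem N80496 : nd 80496 = n170585 := ndS (p := 46643) (l := 6) rfl N46643 D170585
theorem N80497 : nd 80497 = n170592 := ndS (p := 46645) (l := 4) rfl N46645 D170592
theorem N80498 : nd 80498 = n170600 := ndS (p := 46646) (l := 5) rfl N46646 D170600
theorem N80499 : nd 80499 = n170641 := ndS (p := 46654) (l := 3) rfl N46654 D170641
theorem N80500 : nd 80500 = n170642 := ndS (p := 46654) (l := 5) rfl N46654 D170642
theorem N80501 : nd 80501 = n170643 := ndS (p := 46655) (l := 0) rfl N46655 D170643
theorem N80502 : nd 80502 = n170644 := ndS (p := 46655) (l := 1) rfl N46655 D170644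
theorem N80503 : nd 80503 = n170646 := ndS (p := 46655) (l := 5) rfl N46655 D170646
theorem N80504 : nd 80504 = n170647 := ndS (p := 46656) (l := 4) rfl N46656 D170647
theorem N80505 : nd 80505 = n170649 := ndS (p := 46657) (l := 3) rfl N46657 D170649
theorem N80506 : nd 80506 = n170650 := ndS (p := 46657) (l := 4) rfl N46657 D170650
theorem N80507 : nd 80507 = n170651 := ndS (p := 46657) (l := 6) rfl N46657 D170651
theorem N80508 : nd 80508 = n170652 := ndS (p := 46658) (l := 3) rfl N46658 D170652
theorem N80509 : nd 80509 = n170653 := ndS (p := 46658) (l := 4) rfl N46658 D170653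
theorem N80510 : nd 80510 = n170654 := ndS (p := 46658) (l := 6) rfl N46658 D170654
theorem N80511 : nd 80511 = n170655 := ndS (p := 46659) (l := 0) rfl N46659 D170655
theorem N80512 : nd 80512 = n170657 := ndS (p := 46659) (l := 3) rfl N46659 D170657
theorem N80513 : nd 80513 = n170658 := ndS (p := 46659) (l := 5) rfl N46659 D170658
theorem N80514 : nd 80514 = n170659 := ndS (p := 46659) (l := 6) rfl N46659 D170659
theorem N80515 : nd 80515 = n170660 := ndS (p := 46660) (l := 0) rfl N46660 D170660
theorem N80516 : nd 80516 = n170661 := ndS (p := 46660) (l := 1) rfl N46660 D170661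
theorem N80517 : nd 80517 = n170663 := ndS (p := 46660) (l := 7) rfl N46660 D170663
theorem N80518 : nd 80518 = n170664 := ndS (p := 46661) (l := 3) rfl N46661 D170664
theorem N80519 : nd 80519 = n170667 := ndS (p := 46665) (l := 3) rfl N46665 D170667
theorem N80520 : nd 80520 = n170671 := ndS (p := 46667) (l := 4) rfl N46667 D170671
theorem N80521 : nd 80521 = n170672 := ndS (p := 46667) (l := 6) rfl N46667 D170672
theorem N80522 : nd 80522 = n170675 := ndS (p := 46668) (l := 3) rfl N46668 D170675
theorem N80523 : nd 80523 = n170677 := ndS (p := 46669) (l := 3) rfl N46669 D170677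
theorem N80524 : nd 80524 = n170678 := ndS (p := 46669) (l := 4) rfl N46669 D170678
theorem N80525 : nd 80525 = n170681 := ndS (p := 46672) (l := 0) rfl N46672 D170681
theorem N80526 : nd 80526 = n170683 := ndS (p := 46672) (l := 6) rfl N46672 D170683
theorem N80527 : nd 80527 = n170691 := ndS (p := 46677) (l := 0) rfl N46677 D170691
theorem N80528 : nd 80528 = n170714 := ndS (p := 46681) (l := 5) rfl N46681 D170714
theorem N80529 : nd 80529 = n170716 := ndS (p := 46682) (l := 4) rfl N46682 D170716
theorem N80530 : nd 80530 = n170717 := ndS (p := 46682) (l := 6) rfl N46682 D170717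
theorem N80531 : nd 80531 = n170725 := ndS (p := 46683) (l := 3) rfl N46683 D170725
theorem N80532 : nd 80532 = n170727 := ndS (p := 46685) (l := 6) rfl N46685 D170727
theorem N80533 : nd 80533 = n170728 := ndS (p := 46686) (l := 6) rfl N46686 D170728
theorem N80534 : nd 80534 = n170729 := ndS (p := 46687) (l := 0) rfl N46687 D170729
theorem N80535 : nd 80535 = n170733 := ndS (p := 46688) (l := 1) rfl N46688 D170733
theorem N80536 : nd 80536 = n170734 := ndS (p := 46688) (l := 5) rfl N46688 D170734
theorem N80537 : nd 80537 = n170735 := ndS (p := 46688) (l := 7) rfl N46688 D170735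
theorem N80538 : nd 80538 = n170743 := ndS (p := 46690) (l := 3) rfl N46690 D170743
theorem N80539 : nd 80539 = n170744 := ndS (p := 46690) (l := 5) rfl N46690 D170744
theorem N80540 : nd 80540 = n170745 := ndS (p := 46691) (l := 0) rfl N46691 D170745
theorem N80541 : nd 80541 = n170747 := ndS (p := 46691) (l := 2) rfl N46691 D170747
theorem N80542 : nd 80542 = n170748 := ndS (p := 46691) (l := 5) rfl N46691 D170748
theorem N80543 : nd 80543 = n170749 := ndS (p := 46692) (l := 6) rfl N46692 D170749
theorem N80544 : nd 80544 = n170755 := ndS (p := 46694) (l := 5) rfl N46694 D170755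
theorem N80545 : nd 80545 = n170757 := ndS (p := 46696) (l := 3) rfl N46696 D170757
theorem N80546 : nd 80546 = n170758 := ndS (p := 46696) (l := 5) rfl N46696 D170758
theorem N80547 : nd 80547 = n170762 := ndS (p := 46697) (l := 0) rfl N46697 D170762
theorem N80548 : nd 80548 = n170763 := ndS (p := 46697) (l := 1) rfl N46697 D170763
theorem N80549 : nd 80549 = n170770 := ndS (p := 46699) (l := 3) rfl N46699 D170770
theorem N80550 : nd 80550 = n170772 := ndS (p := 46699) (l := 6) rfl N46699 D170772
theorem N80551 : nd 80551 = n170808 := ndS (p := 46700) (l := 3) rfl N46700 D170808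
theorem N80552 : nd 80552 = n170811 := ndS (p := 46701) (l := 3) rfl N46701 D170811
theorem N80553 : nd 80553 = n170812 := ndS (p := 46701) (l := 5) rfl N46701 D170812
theorem N80554 : nd 80554 = n170814 := ndS (p := 46702) (l := 3) rfl N46702 D170814
theorem N80555 : nd 80555 = n170816 := ndS (p := 46703) (l := 0) rfl N46703 D170816
theorem N80556 : nd 80556 = n170817 := ndS (p := 46703) (l := 1) rfl N46703 D170817
theorem N80557 : nd 80557 = n170818 := ndS (p := 46703) (l := 2) rfl N46703 D170818
theorem N80558 : nd 80558 = n170826 := ndS (p := 46704) (l := 0) rfl N46704 D170826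
theorem N80559 : nd 80559 = n170827 := ndS (p := 46704) (l := 1) rfl N46704 D170827
theorem N80560 : nd 80560 = n170828 := ndS (p := 46704) (l := 2) rfl N46704 D170828
theorem N80561 : nd 80561 = n170835 := ndS (p := 46705) (l := 0) rfl N46705 D170835
theorem N80562 : nd 80562 = n170836 := ndS (p := 46705) (l := 1) rfl N46705 D170836
theorem N80563 : nd 80563 = n170837 := ndS (p := 46705) (l := 2) rfl N46705 D170837
theorem N80564 : nd 80564 = n170838 := ndS (p := 46705) (l := 5) rfl N46705 D170838
theorem N80565 : nd 80565 = n170849 := ndS (p := 46708) (l := 0) rfl N46708 D170849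
theorem N80566 : nd 80566 = n170851 := ndS (p := 46708) (l := 2) rfl N46708 D170851
theorem N80567 : nd 80567 = n170852 := ndS (p := 46708) (l := 5) rfl N46708 D170852
theorem N80568 : nd 80568 = n170853 := ndS (p := 46708) (l := 6) rfl N46708 D170853
theorem N80569 : nd 80569 = n170854 := ndS (p := 46709) (l := 6) rfl N46709 D170854
theorem N80570 : nd 80570 = n170855 := ndS (p := 46710) (l := 5) rfl N46710 D170855
theorem N80571 : nd 80571 = n170857 := ndS (p := 46711) (l := 0) rfl N46711 D170857
theorem N80572 : nd 80572 = n170858 := ndS (p := 46711) (l := 1) rfl N46711 D170858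
theorem N80573 : nd 80573 = n170859 := ndS (p := 46711) (l := 2) rfl N46711 D170859
theorem N80574 : nd 80574 = n170860 := ndS (p := 46711) (l := 5) rfl N46711 D170860
theorem N80575 : nd 80575 = n170865 := ndS (p := 46713) (l := 3) rfl N46713 D170865
theorem N80576 : nd 80576 = n170866 := ndS (p := 46713) (l := 4) rfl N46713 D170866
theorem N80577 : nd 80577 = n170867 := ndS (p := 46713) (l := 5) rfl N46713 D170867
theorem N80578 : nd 80578 = n170868 := ndS (p := 46713) (l := 6) rfl N46713 D170868
theorem N80579 : nd 80579 = n170869 := ndS (p := 46714) (l := 3) rfl N46714 D170869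
theorem N80580 : nd 80580 = n170870 := ndS (p := 46714) (l := 5) rfl N46714 D170870
theorem N80581 : nd 80581 = n170871 := ndS (p := 46714) (l := 6) rfl N46714 D170871
theorem N80582 : nd 80582 = n170872 := ndS (p := 46715) (l := 5) rfl N46715 D170872
theorem N80583 : nd 80583 = n170873 := ndS (p := 46716) (l := 0) rfl N46716 D170873
theorem N80584 : nd 80584 = n170874 := ndS (p := 46716) (l := 1) rfl N46716 D170874
theorem N80585 : nd 80585 = n170875 := ndS (p := 46716) (l := 4) rfl N46716 D170875
theorem N80586 : nd 80586 = n170877 := ndS (p := 46717) (l := 3) rfl N46717 D170877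
theorem N80587 : nd 80587 = n170878 := ndS (p := 46717) (l := 6) rfl N46717 D170878
theorem N80588 : nd 80588 = n170879 := ndS (p := 46718) (l := 3) rfl N46718 D170879
theorem N80589 : nd 80589 = n170880 := ndS (p := 46718) (l := 6) rfl N46718 D170880
theorem N80590 : nd 80590 = n170887 := ndS (p := 46720) (l := 5) rfl N46720 D170887
theorem N80591 : nd 80591 = n170888 := ndS (p := 46720) (l := 7) rfl N46720 D170888
theorem N80592 : nd 80592 = n170889 := ndS (p := 46721) (l := 6) rfl N46721 D170889
theorem N80593 : nd 80593 = n170892 := ndS (p := 46722) (l := 5) rfl N46722 D170892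
theorem N80594 : nd 80594 = n170897 := ndS (p := 46723) (l := 7) rfl N46723 D170897
theorem N80595 : nd 80595 = n171014 := ndS (p := 46727) (l := 6) rfl N46727 D171014
theorem N80596 : nd 80596 = n171027 := ndS (p := 46729) (l := 5) rfl N46729 D171027
theorem N80597 : nd 80597 = n171032 := ndS (p := 46731) (l := 5) rfl N46731 D171032
theorem N80598 : nd 80598 = n171033 := ndS (p := 46731) (l := 6) rfl N46731 D171033
theorem N80599 : nd 80599 = n171052 := ndS (p := 46734) (l := 5) rfl N46734 D171052
theorem N80600 : nd 80600 = n171055 := ndS (p := 46736) (l := 3) rfl N46736 D171055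
theorem N80601 : nd 80601 = n171064 := ndS (p := 46737) (l := 3) rfl N46737 D171064
theorem N80602 : nd 80602 = n171068 := ndS (p := 46738) (l := 1) rfl N46738 D171068
theorem N80603 : nd 80603 = n171069 := ndS (p := 46738) (l := 2) rfl N46738 D171069
theorem N80604 : nd 80604 = n171090 := ndS (p := 46742) (l := 5) rfl N46742 D171090
theorem N80605 : nd 80605 = n171091 := ndS (p := 46743) (l := 3) rfl N46743 D171091
theorem N80606 : nd 80606 = n171092 := ndS (p := 46743) (l := 4) rfl N46743 D171092
theorem N80607 : nd 80607 = n171094 := ndS (p := 46743) (l := 6) rfl N46743 D171094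
theorem N80608 : nd 80608 = n171098 := ndS (p := 46745) (l := 0) rfl N46745 D171098
theorem N80609 : nd 80609 = n171099 := ndS (p := 46745) (l := 1) rfl N46745 D171099
theorem N80610 : nd 80610 = n171100 := ndS (p := 46745) (l := 4) rfl N46745 D171100
theorem N80611 : nd 80611 = n171101 := ndS (p := 46746) (l := 5) rfl N46746 D171101
theorem N80612 : nd 80612 = n171103 := ndS (p := 46747) (l := 3) rfl N46747 D171103
theorem N80613 : nd 80613 = n171105 := ndS (p := 46747) (l := 6) rfl N46747 D171105
theorem N80614 : nd 80614 = n171106 := ndS (p := 46748) (l := 0) rfl N46748 D171106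
theorem N80615 : nd 80615 = n171107 := ndS (p := 46748) (l := 1) rfl N46748 D171107
theorem N80616 : nd 80616 = n171127 := ndS (p := 46750) (l := 4) rfl N46750 D171127
theorem N80617 : nd 80617 = n171128 := ndS (p := 46750) (l := 5) rfl N46750 D171128
theorem N80618 : nd 80618 = n171131 := ndS (p := 46751) (l := 3) rfl N46751 D171131
theorem N80619 : nd 80619 = n171132 := ndS (p := 46751) (l := 4) rfl N46751 D171132
theorem N80620 : nd 80620 = n171133 := ndS (p := 46751) (l := 5) rfl N46751 D171133
theorem N80621 : nd 80621 = n171134 := ndS (p := 46751) (l := 6) rfl N46751 D171134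
theorem N80622 : nd 80622 = n171152 := ndS (p := 46753) (l := 3) rfl N46753 D171152
theorem N80623 : nd 80623 = n171168 := ndS (p := 46755) (l := 6) rfl N46755 D171168
theorem N80624 : nd 80624 = n171173 := ndS (p := 46756) (l := 5) rfl N46756 D171173
theorem N80625 : nd 80625 = n171174 := ndS (p := 46756) (l := 6) rfl N46756 D171174
theorem N80626 : nd 80626 = n171182 := ndS (p := 46758) (l := 1) rfl N46758 D171182
theorem N80627 : nd 80627 = n171183 := ndS (p := 46758) (l := 5) rfl N46758 D171183
theorem N80628 : nd 80628 = n171184 := ndS (p := 46758) (l := 7) rfl N46758 D171184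
theorem N80629 : nd 80629 = n172006 := ndS (p := 46761) (l := 6) rfl N46761 D172006
theorem N80630 : nd 80630 = n172007 := ndS (p := 46762) (l := 6) rfl N46762 D172007
theorem N80631 : nd 80631 = n172012 := ndS (p := 46764) (l := 6) rfl N46764 D172012
theorem N80632 : nd 80632 = n172013 := ndS (p := 46765) (l := 6) rfl N46765 D172013
theorem N80633 : nd 80633 = n172016 := ndS (p := 46766) (l := 5) rfl N46766 D172016
theorem N80634 : nd 80634 = n172017 := ndS (p := 46766) (l := 7) rfl N46766 D172017
theorem N80635 : nd 80635 = n172019 := ndS (p := 46767) (l := 3) rfl N46767 D172019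
theorem N80636 : nd 80636 = n172020 := ndS (p := 46767) (l := 4) rfl N46767 D172020
theorem N80637 : nd 80637 = n172021 := ndS (p := 46767) (l := 5) rfl N46767 D172021
theorem N80638 : nd 80638 = n172022 := ndS (p := 46767) (l := 6) rfl N46767 D172022
theorem N80639 : nd 80639 = n172024 := ndS (p := 46768) (l := 3) rfl N46768 D172024
theorem N80640 : nd 80640 = n172026 := ndS (p := 46768) (l := 5) rfl N46768 D172026
theorem N80641 : nd 80641 = n172028 := ndS (p := 46769) (l := 0) rfl N46769 D172028
theorem N80642 : nd 80642 = n172029 := ndS (p := 46769) (l := 1) rfl N46769 D172029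
theorem N80643 : nd 80643 = n172030 := ndS (p := 46769) (l := 4) rfl N46769 D172030
theorem N80644 : nd 80644 = n172031 := ndS (p := 46769) (l := 7) rfl N46769 D172031
theorem N80645 : nd 80645 = n172048 := ndS (p := 46771) (l := 6) rfl N46771 D172048
theorem N80646 : nd 80646 = n172053 := ndS (p := 46772) (l := 6) rfl N46772 D172053
theorem N80647 : nd 80647 = n172054 := ndS (p := 46773) (l := 0) rfl N46773 D172054
theorem N80648 : nd 80648 = n172056 := ndS (p := 46773) (l := 5) rfl N46773 D172056
theorem N80649 : nd 80649 = n172060 := ndS (p := 46774) (l := 6) rfl N46774 D172060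
theorem N80650 : nd 80650 = n172085 := ndS (p := 46778) (l := 0) rfl N46778 D172085
theorem N80651 : nd 80651 = n172086 := ndS (p := 46778) (l := 1) rfl N46778 D172086
theorem N80652 : nd 80652 = n172087 := ndS (p := 46778) (l := 2) rfl N46778 D172087
theorem N80653 : nd 80653 = n172088 := ndS (p := 46778) (l := 5) rfl N46778 D172088
theorem N80654 : nd 80654 = n172089 := ndS (p := 46778) (l := 7) rfl N46778 D172089
theorem N80655 : nd 80655 = n172094 := ndS (p := 46779) (l := 7) rfl N46779 D172094
theorem N80656 : nd 80656 = n172096 := ndS (p := 46781) (l := 3) rfl N46781 D172096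
theorem N80657 : nd 80657 = n172097 := ndS (p := 46781) (l := 4) rfl N46781 D172097
theorem N80658 : nd 80658 = n172105 := ndS (p := 46783) (l := 5) rfl N46783 D172105
theorem N80659 : nd 80659 = n172106 := ndS (p := 46784) (l := 0) rfl N46784 D172106
theorem N80660 : nd 80660 = n172107 := ndS (p := 46784) (l := 1) rfl N46784 D172107
theorem N80661 : nd 80661 = n172108 := ndS (p := 46784) (l := 4) rfl N46784 D172108
theorem N80662 : nd 80662 = n172109 := ndS (p := 46784) (l := 6) rfl N46784 D172109
theorem N80663 : nd 80663 = n172111 := ndS (p := 46785) (l := 1) rfl N46785 D172111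
theorem N80664 : nd 80664 = n172112 := ndS (p := 46785) (l := 7) rfl N46785 D172112
theorem N80665 : nd 80665 = n172113 := ndS (p := 46786) (l := 0) rfl N46786 D172113
theorem N80666 : nd 80666 = n172116 := ndS (p := 46786) (l := 7) rfl N46786 D172116
theorem N80667 : nd 80667 = n172152 := ndS (p := 46791) (l := 3) rfl N46791 D172152
theorem N80668 : nd 80668 = n172155 := ndS (p := 46791) (l := 6) rfl N46791 D172155
theorem N80669 : nd 80669 = n172163 := ndS (p := 46792) (l := 5) rfl N46792 D172163
theorem N80670 : nd 80670 = n172164 := ndS (p := 46792) (l := 6) rfl N46792 D172164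
theorem N80671 : nd 80671 = n172169 := ndS (p := 46793) (l := 6) rfl N46793 D172169
theorem N80672 : nd 80672 = n172170 := ndS (p := 46794) (l := 0) rfl N46794 D172170
theorem N80673 : nd 80673 = n172173 := ndS (p := 46794) (l := 7) rfl N46794 D172173
theorem N80674 : nd 80674 = n172207 := ndS (p := 46797) (l := 6) rfl N46797 D172207
theorem N80675 : nd 80675 = n172212 := ndS (p := 46799) (l := 6) rfl N46799 D172212
theorem N80676 : nd 80676 = n172214 := ndS (p := 46800) (l := 1) rfl N46800 D172214
theorem N80677 : nd 80677 = n172215 := ndS (p := 46800) (l := 5) rfl N46800 D172215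
theorem N80678 : nd 80678 = n172216 := ndS (p := 46800) (l := 7) rfl N46800 D172216
theorem N80679 : nd 80679 = n172217 := ndS (p := 46801) (l := 5) rfl N46801 D172217
theorem N80680 : nd 80680 = n172219 := ndS (p := 46802) (l := 4) rfl N46802 D172219
theorem N80681 : nd 80681 = n172220 := ndS (p := 46802) (l := 5) rfl N46802 D172220
theorem N80682 : nd 80682 = n172221 := ndS (p := 46802) (l := 6) rfl N46802 D172221
theorem N80683 : nd 80683 = n172223 := ndS (p := 46803) (l := 3) rfl N46803 D172223
theorem N80684 : nd 80684 = n172224 := ndS (p := 46803) (l := 5) rfl N46803 D172224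
theorem N80685 : nd 80685 = n172225 := ndS (p := 46803) (l := 6) rfl N46803 D172225
theorem N80686 : nd 80686 = n172226 := ndS (p := 46804) (l := 0) rfl N46804 D172226
theorem N80687 : nd 80687 = n172227 := ndS (p := 46804) (l := 1) rfl N46804 D172227
theorem N80688 : nd 80688 = n172228 := ndS (p := 46804) (l := 4) rfl N46804 D172228
theorem N80689 : nd 80689 = n172241 := ndS (p := 46809) (l := 6) rfl N46809 D172241
theorem N80690 : nd 80690 = n172242 := ndS (p := 46810) (l := 6) rfl N46810 D172242
theorem N80691 : nd 80691 = n172245 := ndS (p := 46811) (l := 5) rfl N46811 D172245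
theorem N80692 : nd 80692 = n172263 := ndS (p := 46814) (l := 5) rfl N46814 D172263
theorem N80693 : nd 80693 = n172264 := ndS (p := 46814) (l := 6) rfl N46814 D172264
theorem N80694 : nd 80694 = n172270 := ndS (p := 46815) (l := 0) rfl N46815 D172270
theorem N80695 : nd 80695 = n172273 := ndS (p := 46815) (l := 7) rfl N46815 D172273
theorem N80696 : nd 80696 = n172299 := ndS (p := 46819) (l := 6) rfl N46819 D172299
theorem N80697 : nd 80697 = n172314 := ndS (p := 46821) (l := 6) rfl N46821 D172314
theorem N80698 : nd 80698 = n172354 := ndS (p := 46823) (l := 6) rfl N46823 D172354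
theorem N80699 : nd 80699 = n172368 := ndS (p := 46825) (l := 4) rfl N46825 D172368
theorem N80700 : nd 80700 = n172371 := ndS (p := 46826) (l := 5) rfl N46826 D172371
theorem N80701 : nd 80701 = n172372 := ndS (p := 46826) (l := 6) rfl N46826 D172372
theorem N80702 : nd 80702 = n172389 := ndS (p := 46829) (l := 0) rfl N46829 D172389
theorem N80703 : nd 80703 = n172390 := ndS (p := 46829) (l := 1) rfl N46829 D172390
theorem N80704 : nd 80704 = n172395 := ndS (p := 46830) (l := 6) rfl N46830 D172395
theorem N80705 : nd 80705 = n172399 := ndS (p := 46831) (l := 7) rfl N46831 D172399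
theorem N80706 : nd 80706 = n172400 := ndS (p := 46832) (l := 0) rfl N46832 D172400
theorem N80707 : nd 80707 = n172402 := ndS (p := 46832) (l := 4) rfl N46832 D172402
theorem N80708 : nd 80708 = n172403 := ndS (p := 46832) (l := 7) rfl N46832 D172403
theorem N80709 : nd 80709 = n172410 := ndS (p := 46835) (l := 3) rfl N46835 D172410
theorem N80710 : nd 80710 = n172412 := ndS (p := 46835) (l := 5) rfl N46835 D172412
theorem N80711 : nd 80711 = n172413 := ndS (p := 46835) (l := 6) rfl N46835 D172413
theorem N80712 : nd 80712 = n172414 := ndS (p := 46836) (l := 0) rfl N46836 D172414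
theorem N80713 : nd 80713 = n172415 := ndS (p := 46836) (l := 1) rfl N46836 D172415
theorem N80714 : nd 80714 = n172416 := ndS (p := 46836) (l := 4) rfl N46836 D172416
theorem N80715 : nd 80715 = n172417 := ndS (p := 46836) (l := 7) rfl N46836 D172417
theorem N80716 : nd 80716 = n172430 := ndS (p := 46838) (l := 0) rfl N46838 D172430
theorem N80717 : nd 80717 = n172432 := ndS (p := 46838) (l := 4) rfl N46838 D172432
theorem N80718 : nd 80718 = n172438 := ndS (p := 46839) (l := 7) rfl N46839 D172438
theorem N80719 : nd 80719 = n172444 := ndS (p := 46841) (l := 4) rfl N46841 D172444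
theorem N80720 : nd 80720 = n172446 := ndS (p := 46842) (l := 0) rfl N46842 D172446
theorem N80721 : nd 80721 = n172448 := ndS (p := 46842) (l := 5) rfl N46842 D172448
theorem N80722 : nd 80722 = n172449 := ndS (p := 46842) (l := 7) rfl N46842 D172449
theorem N80723 : nd 80723 = n172452 := ndS (p := 46843) (l := 4) rfl N46843 D172452
theorem N80724 : nd 80724 = n172461 := ndS (p := 46845) (l := 3) rfl N46845 D172461
theorem N80725 : nd 80725 = n172463 := ndS (p := 46845) (l := 7) rfl N46845 D172463
theorem N80726 : nd 80726 = n172487 := ndS (p := 46848) (l := 0) rfl N46848 D172487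
theorem N80727 : nd 80727 = n172489 := ndS (p := 46848) (l := 3) rfl N46848 D172489
theorem N80728 : nd 80728 = n172497 := ndS (p := 46852) (l := 6) rfl N46852 D172497
theorem N80729 : nd 80729 = n172502 := ndS (p := 46853) (l := 0) rfl N46853 D172502
theorem N80730 : nd 80730 = n172506 := ndS (p := 46854) (l := 6) rfl N46854 D172506
theorem N80731 : nd 80731 = n172507 := ndS (p := 46855) (l := 0) rfl N46855 D172507
theorem N80732 : nd 80732 = n172508 := ndS (p := 46855) (l := 1) rfl N46855 D172508
theorem N80733 : nd 80733 = n172517 := ndS (p := 46857) (l := 6) rfl N46857 D172517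
theorem N80734 : nd 80734 = n172519 := ndS (p := 46858) (l := 6) rfl N46858 D172519
theorem N80735 : nd 80735 = n172536 := ndS (p := 46861) (l := 3) rfl N46861 D172536
theorem N80736 : nd 80736 = n172537 := ndS (p := 46861) (l := 6) rfl N46861 D172537
theorem N80737 : nd 80737 = n172538 := ndS (p := 46862) (l := 3) rfl N46862 D172538
theorem N80738 : nd 80738 = n172540 := ndS (p := 46863) (l := 0) rfl N46863 D172540
theorem N80739 : nd 80739 = n172542 := ndS (p := 46863) (l := 2) rfl N46863 D172542
theorem N80740 : nd 80740 = n172545 := ndS (p := 46864) (l := 6) rfl N46864 D172545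
theorem N80741 : nd 80741 = n172550 := ndS (p := 46865) (l := 3) rfl N46865 D172550
theorem N80742 : nd 80742 = n172552 := ndS (p := 46865) (l := 5) rfl N46865 D172552
theorem N80743 : nd 80743 = n172560 := ndS (p := 46866) (l := 6) rfl N46866 D172560
theorem N80744 : nd 80744 = n172562 := ndS (p := 46867) (l := 1) rfl N46867 D172562
theorem N80745 : nd 80745 = n172563 := ndS (p := 46867) (l := 4) rfl N46867 D172563
theorem N80746 : nd 80746 = n172565 := ndS (p := 46868) (l := 0) rfl N46868 D172565
theorem N80747 : nd 80747 = n172567 := ndS (p := 46868) (l := 7) rfl N46868 D172567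
theorem N80748 : nd 80748 = n172568 := ndS (p := 46869) (l := 3) rfl N46869 D172568
theorem N80749 : nd 80749 = n172569 := ndS (p := 46869) (l := 6) rfl N46869 D172569
theorem N80750 : nd 80750 = n172571 := ndS (p := 46870) (l := 1) rfl N46870 D172571
theorem N80751 : nd 80751 = n172572 := ndS (p := 46870) (l := 7) rfl N46870 D172572
theorem N80752 : nd 80752 = n172574 := ndS (p := 46872) (l := 0) rfl N46872 D172574
theorem N80753 : nd 80753 = n172576 := ndS (p := 46872) (l := 2) rfl N46872 D172576
theorem N80754 : nd 80754 = n172783 := ndS (p := 46882) (l := 5) rfl N46882 D172783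
theorem N80755 : nd 80755 = n172787 := ndS (p := 46883) (l := 5) rfl N46883 D172787
theorem N80756 : nd 80756 = n172789 := ndS (p := 46884) (l := 5) rfl N46884 D172789
theorem N80757 : nd 80757 = n172792 := ndS (p := 46885) (l := 4) rfl N46885 D172792
theorem N80758 : nd 80758 = n172797 := ndS (p := 46886) (l := 4) rfl N46886 D172797
theorem N80759 : nd 80759 = n172798 := ndS (p := 46886) (l := 5) rfl N46886 D172798
theorem N80760 : nd 80760 = n172838 := ndS (p := 46892) (l := 0) rfl N46892 D172838
theorem N80761 : nd 80761 = n172846 := ndS (p := 46893) (l := 4) rfl N46893 D172846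
theorem N80762 : nd 80762 = n172847 := ndS (p := 46893) (l := 6) rfl N46893 D172847
theorem N80763 : nd 80763 = n172849 := ndS (p := 46894) (l := 1) rfl N46894 D172849
theorem N80764 : nd 80764 = n172850 := ndS (p := 46894) (l := 5) rfl N46894 D172850
theorem N80765 : nd 80765 = n172857 := ndS (p := 46895) (l := 4) rfl N46895 D172857
theorem N80766 : nd 80766 = n172866 := ndS (p := 46896) (l := 5) rfl N46896 D172866
theorem N80767 : nd 80767 = n173197 := ndS (p := 46899) (l := 6) rfl N46899 D173197
theorem N80768 : nd 80768 = n173199 := ndS (p := 46901) (l := 6) rfl N46901 D173199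
theorem N80769 : nd 80769 = n173200 := ndS (p := 46902) (l := 0) rfl N46902 D173200
theorem N80770 : nd 80770 = n173201 := ndS (p := 46902) (l := 1) rfl N46902 D173201
theorem N80771 : nd 80771 = n173207 := ndS (p := 46904) (l := 7) rfl N46904 D173207
theorem N80772 : nd 80772 = n173210 := ndS (p := 46905) (l := 5) rfl N46905 D173210
theorem N80773 : nd 80773 = n173213 := ndS (p := 46906) (l := 5) rfl N46906 D173213
theorem N80774 : nd 80774 = n173214 := ndS (p := 46906) (l := 6) rfl N46906 D173214
theorem N80775 : nd 80775 = n173222 := ndS (p := 46910) (l := 4) rfl N46910 D173222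
theorem N80776 : nd 80776 = n173225 := ndS (p := 46913) (l := 4) rfl N46913 D173225
theorem N80777 : nd 80777 = n173231 := ndS (p := 46914) (l := 4) rfl N46914 D173231
theorem N80778 : nd 80778 = n173232 := ndS (p := 46914) (l := 6) rfl N46914 D173232
theorem N80779 : nd 80779 = n173237 := ndS (p := 46916) (l := 0) rfl N46916 D173237
theorem N80780 : nd 80780 = n173238 := ndS (p := 46916) (l := 1) rfl N46916 D173238
theorem N80781 : nd 80781 = n173240 := ndS (p := 46916) (l := 5) rfl N46916 D173240
theorem N80782 : nd 80782 = n173241 := ndS (p := 46916) (l := 7) rfl N46916 D173241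
theorem N80783 : nd 80783 = n173242 := ndS (p := 46917) (l := 6) rfl N46917 D173242
theorem N80784 : nd 80784 = n173245 := ndS (p := 46918) (l := 5) rfl N46918 D173245
theorem N80785 : nd 80785 = n173247 := ndS (p := 46919) (l := 4) rfl N46919 D173247
theorem N80786 : nd 80786 = n173249 := ndS (p := 46920) (l := 3) rfl N46920 D173249
theorem N80787 : nd 80787 = n173254 := ndS (p := 46922) (l := 3) rfl N46922 D173254
theorem N80788 : nd 80788 = n173255 := ndS (p := 46922) (l := 5) rfl N46922 D173255
theorem N80789 : nd 80789 = n173264 := ndS (p := 46923) (l := 0) rfl N46923 D173264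
theorem N80790 : nd 80790 = n173265 := ndS (p := 46923) (l := 1) rfl N46923 D173265
theorem N80791 : nd 80791 = n173266 := ndS (p := 46923) (l := 4) rfl N46923 D173266
theorem N80792 : nd 80792 = n173267 := ndS (p := 46923) (l := 6) rfl N46923 D173267
theorem N80793 : nd 80793 = n173280 := ndS (p := 46926) (l := 5) rfl N46926 D173280
theorem N80794 : nd 80794 = n173288 := ndS (p := 46928) (l := 1) rfl N46928 D173288
theorem N80795 : nd 80795 = n173289 := ndS (p := 46928) (l := 4) rfl N46928 D173289
theorem N80796 : nd 80796 = n173290 := ndS (p := 46928) (l := 7) rfl N46928 D173290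
theorem N80797 : nd 80797 = n173291 := ndS (p := 46930) (l := 0) rfl N46930 D173291
theorem N80798 : nd 80798 = n173292 := ndS (p := 46930) (l := 4) rfl N46930 D173292
theorem N80799 : nd 80799 = n173293 := ndS (p := 46930) (l := 7) rfl N46930 D173293
theorem N80800 : nd 80800 = n173299 := ndS (p := 46932) (l := 5) rfl N46932 D173299
theorem N80801 : nd 80801 = n173300 := ndS (p := 46933) (l := 4) rfl N46933 D173300
theorem N80802 : nd 80802 = n173301 := ndS (p := 46933) (l := 6) rfl N46933 D173301
theorem N80803 : nd 80803 = n173303 := ndS (p := 46934) (l := 6) rfl N46934 D173303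
theorem N80804 : nd 80804 = n173306 := ndS (p := 46936) (l := 0) rfl N46936 D173306
theorem N80805 : nd 80805 = n173307 := ndS (p := 46936) (l := 1) rfl N46936 D173307
theorem N80806 : nd 80806 = n173308 := ndS (p := 46936) (l := 3) rfl N46936 D173308
theorem N80807 : nd 80807 = n173309 := ndS (p := 46936) (l := 5) rfl N46936 D173309
theorem N80808 : nd 80808 = n173310 := ndS (p := 46936) (l := 7) rfl N46936 D173310
theorem N80809 : nd 80809 = n173311 := ndS (p := 46937) (l := 6) rfl N46937 D173311
theorem N80810 : nd 80810 = n173319 := ndS (p := 46938) (l := 3) rfl N46938 D173319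
theorem N80811 : nd 80811 = n173320 := ndS (p := 46938) (l := 5) rfl N46938 D173320
theorem N80812 : nd 80812 = n173322 := ndS (p := 46939) (l := 3) rfl N46939 D173322
theorem N80813 : nd 80813 = n173323 := ndS (p := 46939) (l := 5) rfl N46939 D173323
theorem N80814 : nd 80814 = n173325 := ndS (p := 46940) (l := 3) rfl N46940 D173325
theorem N80815 : nd 80815 = n173326 := ndS (p := 46940) (l := 5) rfl N46940 D173326
theorem N80816 : nd 80816 = n173333 := ndS (p := 46942) (l := 1) rfl N46942 D173333
theorem N80817 : nd 80817 = n173334 := ndS (p := 46942) (l := 4) rfl N46942 D173334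
theorem N80818 : nd 80818 = n173335 := ndS (p := 46942) (l := 6) rfl N46942 D173335
theorem N80819 : nd 80819 = n173336 := ndS (p := 46942) (l := 7) rfl N46942 D173336
theorem N80820 : nd 80820 = n173338 := ndS (p := 46945) (l := 3) rfl N46945 D173338
theorem N80821 : nd 80821 = n173341 := ndS (p := 46946) (l := 5) rfl N46946 D173341
theorem N80822 : nd 80822 = n173344 := ndS (p := 46947) (l := 6) rfl N46947 D173344
theorem N80823 : nd 80823 = n173347 := ndS (p := 46948) (l := 5) rfl N46948 D173347
theorem N80824 : nd 80824 = n173352 := ndS (p := 46950) (l := 5) rfl N46950 D173352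
theorem N80825 : nd 80825 = n173356 := ndS (p := 46951) (l := 5) rfl N46951 D173356
theorem N80826 : nd 80826 = n173359 := ndS (p := 46952) (l := 3) rfl N46952 D173359
theorem N80827 : nd 80827 = n173363 := ndS (p := 46953) (l := 0) rfl N46953 D173363
theorem N80828 : nd 80828 = n173364 := ndS (p := 46953) (l := 1) rfl N46953 D173364
theorem N80829 : nd 80829 = n173365 := ndS (p := 46953) (l := 4) rfl N46953 D173365
theorem N80830 : nd 80830 = n173372 := ndS (p := 46956) (l := 0) rfl N46956 D173372
theorem N80831 : nd 80831 = n173373 := ndS (p := 46956) (l := 1) rfl N46956 D173373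
theorem N80832 : nd 80832 = n173374 := ndS (p := 46956) (l := 4) rfl N46956 D173374
theorem N80833 : nd 80833 = n173375 := ndS (p := 46956) (l := 7) rfl N46956 D173375
theorem N80834 : nd 80834 = n173376 := ndS (p := 46958) (l := 3) rfl N46958 D173376
theorem N80835 : nd 80835 = n173378 := ndS (p := 46959) (l := 6) rfl N46959 D173378
theorem N80836 : nd 80836 = n173379 := ndS (p := 46960) (l := 3) rfl N46960 D173379
theorem N80837 : nd 80837 = n173380 := ndS (p := 46960) (l := 5) rfl N46960 D173380
theorem N80838 : nd 80838 = n173388 := ndS (p := 46961) (l := 7) rfl N46961 D173388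
theorem N80839 : nd 80839 = n173390 := ndS (p := 46963) (l := 0) rfl N46963 D173390
theorem N80840 : nd 80840 = n173393 := ndS (p := 46963) (l := 7) rfl N46963 D173393
theorem N80841 : nd 80841 = n173402 := ndS (p := 46964) (l := 6) rfl N46964 D173402
theorem N80842 : nd 80842 = n173408 := ndS (p := 46965) (l := 0) rfl N46965 D173408
theorem N80843 : nd 80843 = n173410 := ndS (p := 46965) (l := 4) rfl N46965 D173410
theorem N80844 : nd 80844 = n173411 := ndS (p := 46965) (l := 7) rfl N46965 D173411
theorem N80845 : nd 80845 = n173412 := ndS (p := 46967) (l := 6) rfl N46967 D173412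
theorem N80846 : nd 80846 = n173413 := ndS (p := 46968) (l := 6) rfl N46968 D173413
theorem N80847 : nd 80847 = n173416 := ndS (p := 46969) (l := 5) rfl N46969 D173416
theorem N80848 : nd 80848 = n173417 := ndS (p := 46969) (l := 7) rfl N46969 D173417
theorem N80849 : nd 80849 = n173418 := ndS (p := 46970) (l := 6) rfl N46970 D173418
theorem N80850 : nd 80850 = n173419 := ndS (p := 46971) (l := 0) rfl N46971 D173419
theorem N80851 : nd 80851 = n173421 := ndS (p := 46971) (l := 5) rfl N46971 D173421
theorem N80852 : nd 80852 = n173425 := ndS (p := 46972) (l := 5) rfl N46972 D173425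
theorem N80853 : nd 80853 = n173436 := ndS (p := 46973) (l := 6) rfl N46973 D173436
theorem N80854 : nd 80854 = n173438 := ndS (p := 46974) (l := 1) rfl N46974 D173438
theorem N80855 : nd 80855 = n173443 := ndS (p := 46976) (l := 5) rfl N46976 D173443
theorem N80856 : nd 80856 = n173447 := ndS (p := 46977) (l := 4) rfl N46977 D173447
theorem N80857 : nd 80857 = n173453 := ndS (p := 46978) (l := 5) rfl N46978 D173453
theorem N80858 : nd 80858 = n173454 := ndS (p := 46978) (l := 6) rfl N46978 D173454
theorem N80859 : nd 80859 = n173462 := ndS (p := 46982) (l := 5) rfl N46982 D173462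
theorem N80860 : nd 80860 = n173478 := ndS (p := 46984) (l := 0) rfl N46984 D173478
theorem N80861 : nd 80861 = n173481 := ndS (p := 46984) (l := 7) rfl N46984 D173481
theorem N80862 : nd 80862 = n173491 := ndS (p := 46986) (l := 5) rfl N46986 D173491
theorem N80863 : nd 80863 = n173492 := ndS (p := 46986) (l := 6) rfl N46986 D173492
theorem N80864 : nd 80864 = n173494 := ndS (p := 46987) (l := 0) rfl N46987 D173494
theorem N80865 : nd 80865 = n173495 := ndS (p := 46987) (l := 5) rfl N46987 D173495
theorem N80866 : nd 80866 = n173496 := ndS (p := 46987) (l := 6) rfl N46987 D173496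
theorem N80867 : nd 80867 = n173498 := ndS (p := 46988) (l := 0) rfl N46988 D173498
theorem N80868 : nd 80868 = n173499 := ndS (p := 46988) (l := 1) rfl N46988 D173499
theorem N80869 : nd 80869 = n173500 := ndS (p := 46988) (l := 4) rfl N46988 D173500
theorem N80870 : nd 80870 = n173506 := ndS (p := 46989) (l := 7) rfl N46989 D173506
theorem N80871 : nd 80871 = n173512 := ndS (p := 46990) (l := 5) rfl N46990 D173512
theorem N80872 : nd 80872 = n173514 := ndS (p := 46991) (l := 5) rfl N46991 D173514
theorem N80873 : nd 80873 = n173515 := ndS (p := 46991) (l := 6) rfl N46991 D173515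
theorem N80874 : nd 80874 = n173516 := ndS (p := 46992) (l := 4) rfl N46992 D173516
theorem N80875 : nd 80875 = n173517 := ndS (p := 46992) (l := 6) rfl N46992 D173517
theorem N80876 : nd 80876 = n173520 := ndS (p := 46993) (l := 5) rfl N46993 D173520
theorem N80877 : nd 80877 = n173521 := ndS (p := 46993) (l := 7) rfl N46993 D173521
theorem N80878 : nd 80878 = n173537 := ndS (p := 46995) (l := 6) rfl N46995 D173537
theorem N80879 : nd 80879 = n173557 := ndS (p := 46996) (l := 0) rfl N46996 D173557
theorem N80880 : nd 80880 = n173573 := ndS (p := 46997) (l := 5) rfl N46997 D173573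
theorem N80881 : nd 80881 = n173576 := ndS (p := 46998) (l := 6) rfl N46998 D173576
theorem N80882 : nd 80882 = n173578 := ndS (p := 46999) (l := 5) rfl N46999 D173578
theorem N80883 : nd 80883 = n173582 := ndS (p := 47000) (l := 4) rfl N47000 D173582
theorem N80884 : nd 80884 = n173586 := ndS (p := 47001) (l := 3) rfl N47001 D173586
theorem N80885 : nd 80885 = n173589 := ndS (p := 47002) (l := 0) rfl N47002 D173589
theorem N80886 : nd 80886 = n173593 := ndS (p := 47002) (l := 7) rfl N47002 D173593
theorem N80887 : nd 80887 = n173594 := ndS (p := 47003) (l := 6) rfl N47003 D173594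
theorem N80888 : nd 80888 = n173614 := ndS (p := 47004) (l := 3) rfl N47004 D173614
theorem N80889 : nd 80889 = n173632 := ndS (p := 47007) (l := 4) rfl N47007 D173632
theorem N80890 : nd 80890 = n173633 := ndS (p := 47007) (l := 5) rfl N47007 D173633
theorem N80891 : nd 80891 = n173635 := ndS (p := 47008) (l := 5) rfl N47008 D173635
theorem N80892 : nd 80892 = n173637 := ndS (p := 47009) (l := 0) rfl N47009 D173637
theorem N80893 : nd 80893 = n173640 := ndS (p := 47009) (l := 6) rfl N47009 D173640
theorem N80894 : nd 80894 = n173647 := ndS (p := 47011) (l := 0) rfl N47011 D173647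
theorem N80895 : nd 80895 = n173648 := ndS (p := 47011) (l := 1) rfl N47011 D173648
theorem N80896 : nd 80896 = n173649 := ndS (p := 47011) (l := 5) rfl N47011 D173649
theorem N80897 : nd 80897 = n173650 := ndS (p := 47011) (l := 7) rfl N47011 D173650
theorem N80898 : nd 80898 = n173656 := ndS (p := 47014) (l := 3) rfl N47014 D173656
theorem N80899 : nd 80899 = n173657 := ndS (p := 47014) (l := 6) rfl N47014 D173657
theorem N80900 : nd 80900 = n173658 := ndS (p := 47015) (l := 0) rfl N47015 D173658
theorem N80901 : nd 80901 = n173672 := ndS (p := 47017) (l := 3) rfl N47017 D173672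
theorem N80902 : nd 80902 = n173679 := ndS (p := 47019) (l := 0) rfl N47019 D173679
theorem N80903 : nd 80903 = n173680 := ndS (p := 47019) (l := 1) rfl N47019 D173680
theorem N80904 : nd 80904 = n173692 := ndS (p := 47021) (l := 6) rfl N47021 D173692
theorem N80905 : nd 80905 = n173693 := ndS (p := 47022) (l := 3) rfl N47022 D173693
theorem N80906 : nd 80906 = n173694 := ndS (p := 47022) (l := 5) rfl N47022 D173694
theorem N80907 : nd 80907 = n173696 := ndS (p := 47024) (l := 0) rfl N47024 D173696
theorem N80908 : nd 80908 = n173698 := ndS (p := 47024) (l := 4) rfl N47024 D173698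
theorem N80909 : nd 80909 = n173728 := ndS (p := 47028) (l := 5) rfl N47028 D173728
theorem N80910 : nd 80910 = n173768 := ndS (p := 47040) (l := 0) rfl N47040 D173768
theorem N80911 : nd 80911 = n173777 := ndS (p := 47042) (l := 3) rfl N47042 D173777
theorem N80912 : nd 80912 = n173794 := ndS (p := 47045) (l := 6) rfl N47045 D173794
theorem N80913 : nd 80913 = n173796 := ndS (p := 47046) (l := 1) rfl N47046 D173796
theorem N80914 : nd 80914 = n173798 := ndS (p := 47046) (l := 7) rfl N47046 D173798
theorem N80915 : nd 80915 = n173801 := ndS (p := 47048) (l := 5) rfl N47048 D173801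
theorem N80916 : nd 80916 = n173804 := ndS (p := 47049) (l := 6) rfl N47049 D173804
theorem N80917 : nd 80917 = n173810 := ndS (p := 47051) (l := 0) rfl N47051 D173810
theorem N80918 : nd 80918 = n173813 := ndS (p := 47051) (l := 5) rfl N47051 D173813
theorem N80919 : nd 80919 = n173815 := ndS (p := 47052) (l := 6) rfl N47052 D173815
theorem N80920 : nd 80920 = n173824 := ndS (p := 47055) (l := 3) rfl N47055 D173824
theorem N80921 : nd 80921 = n173825 := ndS (p := 47055) (l := 5) rfl N47055 D173825
theorem N80922 : nd 80922 = n173831 := ndS (p := 47056) (l := 6) rfl N47056 D173831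
theorem N80923 : nd 80923 = n173833 := ndS (p := 47057) (l := 3) rfl N47057 D173833
theorem N80924 : nd 80924 = n173834 := ndS (p := 47057) (l := 5) rfl N47057 D173834
theorem N80925 : nd 80925 = n173837 := ndS (p := 47058) (l := 3) rfl N47058 D173837
theorem N80926 : nd 80926 = n173838 := ndS (p := 47058) (l := 5) rfl N47058 D173838
theorem N80927 : nd 80927 = n173848 := ndS (p := 47059) (l := 3) rfl N47059 D173848
theorem N80928 : nd 80928 = n173849 := ndS (p := 47059) (l := 5) rfl N47059 D173849
theorem N80929 : nd 80929 = n173851 := ndS (p := 47060) (l := 0) rfl N47060 D173851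
theorem N80930 : nd 80930 = n173852 := ndS (p := 47060) (l := 1) rfl N47060 D173852
theorem N80931 : nd 80931 = n173853 := ndS (p := 47060) (l := 2) rfl N47060 D173853
theorem N80932 : nd 80932 = n173854 := ndS (p := 47060) (l := 5) rfl N47060 D173854
theorem N80933 : nd 80933 = n173855 := ndS (p := 47060) (l := 7) rfl N47060 D173855
theorem N80934 : nd 80934 = n173856 := ndS (p := 47061) (l := 1) rfl N47061 D173856
theorem N80935 : nd 80935 = n173857 := ndS (p := 47061) (l := 4) rfl N47061 D173857
theorem N80936 : nd 80936 = n173858 := ndS (p := 47061) (l := 6) rfl N47061 D173858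
theorem N80937 : nd 80937 = n173859 := ndS (p := 47061) (l := 7) rfl N47061 D173859
theorem N80938 : nd 80938 = n173861 := ndS (p := 47064) (l := 6) rfl N47064 D173861
theorem N80939 : nd 80939 = n173870 := ndS (p := 47067) (l := 5) rfl N47067 D173870
theorem N80940 : nd 80940 = n173892 := ndS (p := 47068) (l := 5) rfl N47068 D173892
theorem N80941 : nd 80941 = n173906 := ndS (p := 47073) (l := 6) rfl N47073 D173906
theorem N80942 : nd 80942 = n173927 := ndS (p := 47076) (l := 4) rfl N47076 D173927
theorem N80943 : nd 80943 = n173930 := ndS (p := 47077) (l := 4) rfl N47077 D173930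
theorem N80944 : nd 80944 = n173935 := ndS (p := 47078) (l := 4) rfl N47078 D173935
theorem N80945 : nd 80945 = n173948 := ndS (p := 47082) (l := 5) rfl N47082 D173948
theorem N80946 : nd 80946 = n173962 := ndS (p := 47083) (l := 4) rfl N47083 D173962
theorem N80947 : nd 80947 = n173967 := ndS (p := 47085) (l := 4) rfl N47085 D173967
theorem N80948 : nd 80948 = n173980 := ndS (p := 47086) (l := 4) rfl N47086 D173980
theorem N80949 : nd 80949 = n173983 := ndS (p := 47087) (l := 0) rfl N47087 D173983
theorem N80950 : nd 80950 = n173984 := ndS (p := 47087) (l := 1) rfl N47087 D173984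
theorem N80951 : nd 80951 = n173987 := ndS (p := 47087) (l := 7) rfl N47087 D173987
theorem N80952 : nd 80952 = n174016 := ndS (p := 47093) (l := 5) rfl N47093 D174016
theorem N80953 : nd 80953 = n174017 := ndS (p := 47093) (l := 6) rfl N47093 D174017
theorem N80954 : nd 80954 = n174019 := ndS (p := 47094) (l := 3) rfl N47094 D174019
theorem N80955 : nd 80955 = n174020 := ndS (p := 47094) (l := 5) rfl N47094 D174020
theorem N80956 : nd 80956 = n174021 := ndS (p := 47094) (l := 6) rfl N47094 D174021
theorem N80957 : nd 80957 = n174033 := ndS (p := 47097) (l := 4) rfl N47097 D174033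
theorem N80958 : nd 80958 = n174034 := ndS (p := 47097) (l := 5) rfl N47097 D174034
theorem N80959 : nd 80959 = n174035 := ndS (p := 47097) (l := 6) rfl N47097 D174035
theorem N80960 : nd 80960 = n174037 := ndS (p := 47098) (l := 0) rfl N47098 D174037
theorem N80961 : nd 80961 = n174038 := ndS (p := 47098) (l := 1) rfl N47098 D174038
theorem N80962 : nd 80962 = n174039 := ndS (p := 47098) (l := 4) rfl N47098 D174039
theorem N80963 : nd 80963 = n174040 := ndS (p := 47098) (l := 6) rfl N47098 D174040
theorem N80964 : nd 80964 = n174043 := ndS (p := 47099) (l := 1) rfl N47099 D174043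
theorem N80965 : nd 80965 = n174044 := ndS (p := 47099) (l := 7) rfl N47099 D174044
theorem N80966 : nd 80966 = n174050 := ndS (p := 47100) (l := 4) rfl N47100 D174050
theorem N80967 : nd 80967 = n174051 := ndS (p := 47100) (l := 6) rfl N47100 D174051
theorem N80968 : nd 80968 = n174052 := ndS (p := 47101) (l := 0) rfl N47101 D174052
theorem N80969 : nd 80969 = n174053 := ndS (p := 47101) (l := 7) rfl N47101 D174053
theorem N80970 : nd 80970 = n174054 := ndS (p := 47102) (l := 3) rfl N47102 D174054
theorem N80971 : nd 80971 = n174055 := ndS (p := 47102) (l := 4) rfl N47102 D174055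
theorem N80972 : nd 80972 = n174060 := ndS (p := 47103) (l := 0) rfl N47103 D174060
theorem N80973 : nd 80973 = n174065 := ndS (p := 47104) (l := 6) rfl N47104 D174065
theorem N80974 : nd 80974 = n174092 := ndS (p := 47107) (l := 3) rfl N47107 D174092
theorem N80975 : nd 80975 = n174093 := ndS (p := 47107) (l := 5) rfl N47107 D174093
theorem N80976 : nd 80976 = n174099 := ndS (p := 47110) (l := 4) rfl N47110 D174099
theorem N80977 : nd 80977 = n174103 := ndS (p := 47111) (l := 1) rfl N47111 D174103
theorem N80978 : nd 80978 = n174104 := ndS (p := 47111) (l := 5) rfl N47111 D174104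
theorem N80979 : nd 80979 = n174108 := ndS (p := 47112) (l := 4) rfl N47112 D174108
theorem N80980 : nd 80980 = n174114 := ndS (p := 47113) (l := 3) rfl N47113 D174114
theorem N80981 : nd 80981 = n174115 := ndS (p := 47113) (l := 5) rfl N47113 D174115
theorem N80982 : nd 80982 = n174116 := ndS (p := 47113) (l := 6) rfl N47113 D174116
theorem N80983 : nd 80983 = n174118 := ndS (p := 47114) (l := 1) rfl N47114 D174118
theorem N80984 : nd 80984 = n174129 := ndS (p := 47116) (l := 3) rfl N47116 D174129
theorem N80985 : nd 80985 = n174130 := ndS (p := 47116) (l := 5) rfl N47116 D174130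
theorem N80986 : nd 80986 = n174131 := ndS (p := 47116) (l := 6) rfl N47116 D174131
theorem N80987 : nd 80987 = n174136 := ndS (p := 47118) (l := 4) rfl N47118 D174136
theorem N80988 : nd 80988 = n174138 := ndS (p := 47119) (l := 3) rfl N47119 D174138
theorem N80989 : nd 80989 = n174139 := ndS (p := 47119) (l := 5) rfl N47119 D174139
theorem N80990 : nd 80990 = n174140 := ndS (p := 47119) (l := 6) rfl N47119 D174140
theorem N80991 : nd 80991 = n174141 := ndS (p := 47120) (l := 0) rfl N47120 D174141
theorem N80992 : nd 80992 = n174144 := ndS (p := 47121) (l := 3) rfl N47121 D174144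
theorem N80993 : nd 80993 = n174145 := ndS (p := 47121) (l := 5) rfl N47121 D174145
theorem N80994 : nd 80994 = n174150 := ndS (p := 47123) (l := 0) rfl N47123 D174150
theorem N80995 : nd 80995 = n174151 := ndS (p := 47123) (l := 1) rfl N47123 D174151
theorem N80996 : nd 80996 = n174153 := ndS (p := 47123) (l := 5) rfl N47123 D174153
theorem N80997 : nd 80997 = n174154 := ndS (p := 47123) (l := 7) rfl N47123 D174154
theorem N80998 : nd 80998 = n174155 := ndS (p := 47124) (l := 0) rfl N47124 D174155
theorem N80999 : nd 80999 = n174157 := ndS (p := 47124) (l := 6) rfl N47124 D174157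
theorem N81000 : nd 81000 = n174158 := ndS (p := 47125) (l := 6) rfl N47125 D174158
theorem N81001 : nd 81001 = n174159 := ndS (p := 47126) (l := 0) rfl N47126 D174159
theorem N81002 : nd 81002 = n174160 := ndS (p := 47126) (l := 1) rfl N47126 D174160
theorem N81003 : nd 81003 = n174173 := ndS (p := 47127) (l := 0) rfl N47127 D174173
theorem N81004 : nd 81004 = n174174 := ndS (p := 47127) (l := 1) rfl N47127 D174174
theorem N81005 : nd 81005 = n174175 := ndS (p := 47127) (l := 4) rfl N47127 D174175
theorem N81006 : nd 81006 = n174180 := ndS (p := 47129) (l := 4) rfl N47129 D174180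
theorem N81007 : nd 81007 = n174182 := ndS (p := 47130) (l := 3) rfl N47130 D174182
theorem N81008 : nd 81008 = n174190 := ndS (p := 47132) (l := 5) rfl N47132 D174190
theorem N81009 : nd 81009 = n174192 := ndS (p := 47133) (l := 5) rfl N47133 D174192
theorem N81010 : nd 81010 = n174197 := ndS (p := 47134) (l := 6) rfl N47134 D174197
theorem N81011 : nd 81011 = n174202 := ndS (p := 47136) (l := 6) rfl N47136 D174202
theorem N81012 : nd 81012 = n174209 := ndS (p := 47138) (l := 0) rfl N47138 D174209
theorem N81013 : nd 81013 = n174210 := ndS (p := 47138) (l := 1) rfl N47138 D174210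
theorem N81014 : nd 81014 = n174211 := ndS (p := 47138) (l := 2) rfl N47138 D174211
theorem N81015 : nd 81015 = n174227 := ndS (p := 47142) (l := 6) rfl N47142 D174227
theorem N81016 : nd 81016 = n174231 := ndS (p := 47143) (l := 0) rfl N47143 D174231
theorem N81017 : nd 81017 = n174232 := ndS (p := 47143) (l := 1) rfl N47143 D174232
theorem N81018 : nd 81018 = n174233 := ndS (p := 47143) (l := 2) rfl N47143 D174233
theorem N81019 : nd 81019 = n174235 := ndS (p := 47144) (l := 0) rfl N47144 D174235
theorem N81020 : nd 81020 = n174236 := ndS (p := 47144) (l := 1) rfl N47144 D174236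
theorem N81021 : nd 81021 = n174237 := ndS (p := 47144) (l := 6) rfl N47144 D174237
theorem N81022 : nd 81022 = n174238 := ndS (p := 47145) (l := 0) rfl N47145 D174238
theorem N81023 : nd 81023 = n174239 := ndS (p := 47145) (l := 1) rfl N47145 D174239
theorem N81024 : nd 81024 = n174240 := ndS (p := 47145) (l := 2) rfl N47145 D174240
theorem N81025 : nd 81025 = n174242 := ndS (p := 47145) (l := 5) rfl N47145 D174242
theorem N81026 : nd 81026 = n174245 := ndS (p := 47146) (l := 6) rfl N47146 D174245
theorem N81027 : nd 81027 = n174250 := ndS (p := 47147) (l := 3) rfl N47147 D174250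
theorem N81028 : nd 81028 = n174254 := ndS (p := 47147) (l := 7) rfl N47147 D174254
theorem N81029 : nd 81029 = n174261 := ndS (p := 47149) (l := 5) rfl N47149 D174261
theorem N81030 : nd 81030 = n174265 := ndS (p := 47150) (l := 6) rfl N47150 D174265
theorem N81031 : nd 81031 = n174266 := ndS (p := 47150) (l := 7) rfl N47150 D174266
theorem N81032 : nd 81032 = n174270 := ndS (p := 47153) (l := 3) rfl N47153 D174270
theorem N81033 : nd 81033 = n174271 := ndS (p := 47153) (l := 6) rfl N47153 D174271
theorem N81034 : nd 81034 = n174273 := ndS (p := 47154) (l := 6) rfl N47154 D174273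
theorem N81035 : nd 81035 = n174274 := ndS (p := 47155) (l := 0) rfl N47155 D174274
theorem N81036 : nd 81036 = n174275 := ndS (p := 47155) (l := 1) rfl N47155 D174275
theorem N81037 : nd 81037 = n174276 := ndS (p := 47155) (l := 7) rfl N47155 D174276
theorem N81038 : nd 81038 = n174277 := ndS (p := 47156) (l := 6) rfl N47156 D174277
theorem N81039 : nd 81039 = n174279 := ndS (p := 47157) (l := 6) rfl N47157 D174279
theorem N81040 : nd 81040 = n174281 := ndS (p := 47158) (l := 1) rfl N47158 D174281
theorem N81041 : nd 81041 = n174298 := ndS (p := 47163) (l := 5) rfl N47163 D174298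
theorem N81042 : nd 81042 = n174299 := ndS (p := 47163) (l := 7) rfl N47163 D174299
theorem N81043 : nd 81043 = n174311 := ndS (p := 47166) (l := 5) rfl N47166 D174311
theorem N81044 : nd 81044 = n174313 := ndS (p := 47167) (l := 0) rfl N47167 D174313
theorem N81045 : nd 81045 = n174314 := ndS (p := 47167) (l := 1) rfl N47167 D174314
theorem N81046 : nd 81046 = n174315 := ndS (p := 47167) (l := 4) rfl N47167 D174315
theorem N81047 : nd 81047 = n174316 := ndS (p := 47167) (l := 7) rfl N47167 D174316
theorem N81048 : nd 81048 = n174376 := ndS (p := 47173) (l := 0) rfl N47173 D174376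
theorem N81049 : nd 81049 = n174377 := ndS (p := 47173) (l := 1) rfl N47173 D174377
theorem N81050 : nd 81050 = n174379 := ndS (p := 47174) (l := 0) rfl N47174 D174379
theorem N81051 : nd 81051 = n174387 := ndS (p := 47176) (l := 7) rfl N47176 D174387
theorem N81052 : nd 81052 = n174390 := ndS (p := 47178) (l := 5) rfl N47178 D174390
theorem N81053 : nd 81053 = n174391 := ndS (p := 47178) (l := 7) rfl N47178 D174391
theorem N81054 : nd 81054 = n174395 := ndS (p := 47180) (l := 5) rfl N47180 D174395
theorem N81055 : nd 81055 = n174398 := ndS (p := 47181) (l := 1) rfl N47181 D174398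
theorem N81056 : nd 81056 = n174399 := ndS (p := 47181) (l := 4) rfl N47181 D174399
theorem N81057 : nd 81057 = n174400 := ndS (p := 47181) (l := 7) rfl N47181 D174400
theorem N81058 : nd 81058 = n174404 := ndS (p := 47183) (l := 5) rfl N47183 D174404
theorem N81059 : nd 81059 = n174419 := ndS (p := 47185) (l := 6) rfl N47185 D174419
theorem N81060 : nd 81060 = n174421 := ndS (p := 47186) (l := 1) rfl N47186 D174421
theorem N81061 : nd 81061 = n174423 := ndS (p := 47186) (l := 7) rfl N47186 D174423
theorem N81062 : nd 81062 = n174427 := ndS (p := 47188) (l := 5) rfl N47188 D174427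
theorem N81063 : nd 81063 = n174434 := ndS (p := 47190) (l := 0) rfl N47190 D174434
theorem N81064 : nd 81064 = n174435 := ndS (p := 47190) (l := 1) rfl N47190 D174435
theorem N81065 : nd 81065 = n174436 := ndS (p := 47190) (l := 4) rfl N47190 D174436
theorem N81066 : nd 81066 = n174442 := ndS (p := 47192) (l := 4) rfl N47192 D174442
theorem N81067 : nd 81067 = n174443 := ndS (p := 47192) (l := 6) rfl N47192 D174443
theorem N81068 : nd 81068 = n174447 := ndS (p := 47194) (l := 3) rfl N47194 D174447
theorem N81069 : nd 81069 = n174449 := ndS (p := 47194) (l := 5) rfl N47194 D174449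
theorem N81070 : nd 81070 = n174454 := ndS (p := 47195) (l := 5) rfl N47195 D174454
theorem N81071 : nd 81071 = n174455 := ndS (p := 47195) (l := 6) rfl N47195 D174455
theorem N81072 : nd 81072 = n174457 := ndS (p := 47196) (l := 1) rfl N47196 D174457
theorem N81073 : nd 81073 = n174458 := ndS (p := 47196) (l := 3) rfl N47196 D174458
theorem N81074 : nd 81074 = n174459 := ndS (p := 47196) (l := 5) rfl N47196 D174459
theorem N81075 : nd 81075 = n174460 := ndS (p := 47196) (l := 7) rfl N47196 D174460
theorem N81076 : nd 81076 = n174461 := ndS (p := 47197) (l := 6) rfl N47197 D174461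
theorem N81077 : nd 81077 = n174473 := ndS (p := 47199) (l := 1) rfl N47199 D174473
theorem N81078 : nd 81078 = n174474 := ndS (p := 47199) (l := 4) rfl N47199 D174474
theorem N81079 : nd 81079 = n174478 := ndS (p := 47200) (l := 1) rfl N47200 D174478
theorem N81080 : nd 81080 = n174479 := ndS (p := 47200) (l := 7) rfl N47200 D174479
theorem N81081 : nd 81081 = n174482 := ndS (p := 47201) (l := 1) rfl N47201 D174482
theorem N81082 : nd 81082 = n174483 := ndS (p := 47201) (l := 2) rfl N47201 D174483
theorem N81083 : nd 81083 = n174485 := ndS (p := 47201) (l := 5) rfl N47201 D174485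
theorem N81084 : nd 81084 = n174486 := ndS (p := 47201) (l := 6) rfl N47201 D174486
theorem N81085 : nd 81085 = n174487 := ndS (p := 47202) (l := 4) rfl N47202 D174487
theorem N81086 : nd 81086 = n174488 := ndS (p := 47202) (l := 6) rfl N47202 D174488
theorem N81087 : nd 81087 = n174489 := ndS (p := 47203) (l := 0) rfl N47203 D174489
theorem N81088 : nd 81088 = n174491 := ndS (p := 47203) (l := 5) rfl N47203 D174491
theorem N81089 : nd 81089 = n174492 := ndS (p := 47203) (l := 7) rfl N47203 D174492
theorem N81090 : nd 81090 = n174494 := ndS (p := 47204) (l := 4) rfl N47204 D174494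
theorem N81091 : nd 81091 = n174495 := ndS (p := 47204) (l := 6) rfl N47204 D174495
theorem N81092 : nd 81092 = n174496 := ndS (p := 47205) (l := 3) rfl N47205 D174496
theorem N81093 : nd 81093 = n174497 := ndS (p := 47205) (l := 4) rfl N47205 D174497
theorem N81094 : nd 81094 = n174498 := ndS (p := 47205) (l := 6) rfl N47205 D174498
theorem N81095 : nd 81095 = n174499 := ndS (p := 47206) (l := 0) rfl N47206 D174499
theorem N81096 : nd 81096 = n174500 := ndS (p := 47206) (l := 1) rfl N47206 D174500
theorem N81097 : nd 81097 = n174501 := ndS (p := 47206) (l := 3) rfl N47206 D174501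
theorem N81098 : nd 81098 = n174502 := ndS (p := 47206) (l := 5) rfl N47206 D174502
theorem N81099 : nd 81099 = n174503 := ndS (p := 47206) (l := 7) rfl N47206 D174503
theorem N81100 : nd 81100 = n174504 := ndS (p := 47207) (l := 6) rfl N47207 D174504
theorem N81101 : nd 81101 = n174505 := ndS (p := 47208) (l := 5) rfl N47208 D174505
theorem N81102 : nd 81102 = n174508 := ndS (p := 47209) (l := 0) rfl N47209 D174508
theorem N81103 : nd 81103 = n174509 := ndS (p := 47209) (l := 1) rfl N47209 D174509
theorem N81104 : nd 81104 = n174510 := ndS (p := 47209) (l := 4) rfl N47209 D174510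
theorem N81105 : nd 81105 = n174511 := ndS (p := 47209) (l := 6) rfl N47209 D174511
theorem N81106 : nd 81106 = n174514 := ndS (p := 47210) (l := 3) rfl N47210 D174514
theorem N81107 : nd 81107 = n174516 := ndS (p := 47210) (l := 6) rfl N47210 D174516
theorem N81108 : nd 81108 = n174519 := ndS (p := 47211) (l := 6) rfl N47211 D174519
theorem N81109 : nd 81109 = n174520 := ndS (p := 47212) (l := 0) rfl N47212 D174520
theorem N81110 : nd 81110 = n174521 := ndS (p := 47212) (l := 1) rfl N47212 D174521
theorem N81111 : nd 81111 = n174522 := ndS (p := 47212) (l := 3) rfl N47212 D174522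
theorem N81112 : nd 81112 = n174523 := ndS (p := 47212) (l := 5) rfl N47212 D174523
theorem N81113 : nd 81113 = n174524 := ndS (p := 47212) (l := 6) rfl N47212 D174524
theorem N81114 : nd 81114 = n174525 := ndS (p := 47213) (l := 0) rfl N47213 D174525
theorem N81115 : nd 81115 = n174526 := ndS (p := 47213) (l := 1) rfl N47213 D174526
theorem N81116 : nd 81116 = n174527 := ndS (p := 47213) (l := 7) rfl N47213 D174527
theorem N81117 : nd 81117 = n174548 := ndS (p := 47214) (l := 5) rfl N47214 D174548
theorem N81118 : nd 81118 = n174552 := ndS (p := 47215) (l := 7) rfl N47215 D174552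
theorem N81119 : nd 81119 = n174556 := ndS (p := 47216) (l := 4) rfl N47216 D174556
theorem N81120 : nd 81120 = n174557 := ndS (p := 47216) (l := 5) rfl N47216 D174557
theorem N81121 : nd 81121 = n174559 := ndS (p := 47217) (l := 3) rfl N47217 D174559
theorem N81122 : nd 81122 = n174560 := ndS (p := 47217) (l := 5) rfl N47217 D174560
theorem N81123 : nd 81123 = n174561 := ndS (p := 47217) (l := 6) rfl N47217 D174561
theorem N81124 : nd 81124 = n174562 := ndS (p := 47219) (l := 0) rfl N47219 D174562
theorem N81125 : nd 81125 = n174563 := ndS (p := 47219) (l := 1) rfl N47219 D174563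
theorem N81126 : nd 81126 = n174564 := ndS (p := 47219) (l := 5) rfl N47219 D174564
theorem N81127 : nd 81127 = n174569 := ndS (p := 47220) (l := 4) rfl N47220 D174569
theorem N81128 : nd 81128 = n174571 := ndS (p := 47221) (l := 3) rfl N47221 D174571
theorem N81129 : nd 81129 = n174572 := ndS (p := 47221) (l := 5) rfl N47221 D174572
theorem N81130 : nd 81130 = n174573 := ndS (p := 47221) (l := 6) rfl N47221 D174573
theorem N81131 : nd 81131 = n174576 := ndS (p := 47222) (l := 7) rfl N47222 D174576
theorem N81132 : nd 81132 = n174577 := ndS (p := 47223) (l := 3) rfl N47223 D174577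
theorem N81133 : nd 81133 = n174578 := ndS (p := 47223) (l := 5) rfl N47223 D174578
theorem N81134 : nd 81134 = n174581 := ndS (p := 47224) (l := 5) rfl N47224 D174581
theorem N81135 : nd 81135 = n174583 := ndS (p := 47225) (l := 0) rfl N47225 D174583
theorem N81136 : nd 81136 = n174584 := ndS (p := 47225) (l := 1) rfl N47225 D174584
theorem N81137 : nd 81137 = n174585 := ndS (p := 47225) (l := 2) rfl N47225 D174585
theorem N81138 : nd 81138 = n174586 := ndS (p := 47225) (l := 5) rfl N47225 D174586
theorem N81139 : nd 81139 = n174587 := ndS (p := 47225) (l := 7) rfl N47225 D174587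
theorem N81140 : nd 81140 = n174588 := ndS (p := 47226) (l := 0) rfl N47226 D174588
theorem N81141 : nd 81141 = n174590 := ndS (p := 47226) (l := 6) rfl N47226 D174590
theorem N81142 : nd 81142 = n174592 := ndS (p := 47228) (l := 0) rfl N47228 D174592
theorem N81143 : nd 81143 = n174593 := ndS (p := 47228) (l := 1) rfl N47228 D174593
theorem N81144 : nd 81144 = n174599 := ndS (p := 47231) (l := 3) rfl N47231 D174599
theorem N81145 : nd 81145 = n174600 := ndS (p := 47231) (l := 6) rfl N47231 D174600
theorem N81146 : nd 81146 = n174601 := ndS (p := 47232) (l := 0) rfl N47232 D174601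
theorem N81147 : nd 81147 = n174602 := ndS (p := 47232) (l := 1) rfl N47232 D174602
theorem N81148 : nd 81148 = n174603 := ndS (p := 47232) (l := 7) rfl N47232 D174603
theorem N81149 : nd 81149 = n174606 := ndS (p := 47233) (l := 5) rfl N47233 D174606
theorem N81150 : nd 81150 = n174608 := ndS (p := 47234) (l := 5) rfl N47234 D174608
theorem N81151 : nd 81151 = n174617 := ndS (p := 47235) (l := 5) rfl N47235 D174617
theorem N81152 : nd 81152 = n174620 := ndS (p := 47236) (l := 6) rfl N47236 D174620
theorem N81153 : nd 81153 = n174646 := ndS (p := 47238) (l := 0) rfl N47238 D174646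
theorem N81154 : nd 81154 = n174647 := ndS (p := 47238) (l := 1) rfl N47238 D174647
theorem N81155 : nd 81155 = n174649 := ndS (p := 47238) (l := 5) rfl N47238 D174649
theorem N81156 : nd 81156 = n174650 := ndS (p := 47239) (l := 6) rfl N47239 D174650
theorem N81157 : nd 81157 = n174652 := ndS (p := 47240) (l := 0) rfl N47240 D174652
theorem N81158 : nd 81158 = n174653 := ndS (p := 47240) (l := 1) rfl N47240 D174653
theorem N81159 : nd 81159 = n174654 := ndS (p := 47240) (l := 6) rfl N47240 D174654
theorem N81160 : nd 81160 = n174660 := ndS (p := 47242) (l := 0) rfl N47242 D174660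
theorem N81161 : nd 81161 = n174662 := ndS (p := 47242) (l := 2) rfl N47242 D174662
theorem N81162 : nd 81162 = n174663 := ndS (p := 47242) (l := 5) rfl N47242 D174663
theorem N81163 : nd 81163 = n174665 := ndS (p := 47243) (l := 6) rfl N47243 D174665
theorem N81164 : nd 81164 = n174667 := ndS (p := 47244) (l := 0) rfl N47244 D174667
theorem N81165 : nd 81165 = n174668 := ndS (p := 47244) (l := 1) rfl N47244 D174668
theorem N81166 : nd 81166 = n174669 := ndS (p := 47244) (l := 2) rfl N47244 D174669
theorem N81167 : nd 81167 = n174670 := ndS (p := 47244) (l := 5) rfl N47244 D174670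
theorem N81168 : nd 81168 = n174674 := ndS (p := 47245) (l := 6) rfl N47245 D174674
theorem N81169 : nd 81169 = n174678 := ndS (p := 47246) (l := 0) rfl N47246 D174678
theorem N81170 : nd 81170 = n174679 := ndS (p := 47246) (l := 1) rfl N47246 D174679
theorem N81171 : nd 81171 = n174680 := ndS (p := 47246) (l := 2) rfl N47246 D174680
theorem N81172 : nd 81172 = n174681 := ndS (p := 47246) (l := 5) rfl N47246 D174681
theorem N81173 : nd 81173 = n174683 := ndS (p := 47247) (l := 6) rfl N47247 D174683
theorem N81174 : nd 81174 = n174692 := ndS (p := 47248) (l := 3) rfl N47248 D174692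
theorem N81175 : nd 81175 = n174694 := ndS (p := 47248) (l := 5) rfl N47248 D174694
theorem N81176 : nd 81176 = n174698 := ndS (p := 47249) (l := 5) rfl N47249 D174698
theorem N81177 : nd 81177 = n174699 := ndS (p := 47250) (l := 0) rfl N47250 D174699
theorem N81178 : nd 81178 = n174700 := ndS (p := 47250) (l := 1) rfl N47250 D174700
theorem N81179 : nd 81179 = n174701 := ndS (p := 47250) (l := 4) rfl N47250 D174701
theorem N81180 : nd 81180 = n174702 := ndS (p := 47250) (l := 6) rfl N47250 D174702
theorem N81181 : nd 81181 = n174705 := ndS (p := 47251) (l := 3) rfl N47251 D174705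
theorem N81182 : nd 81182 = n174706 := ndS (p := 47251) (l := 6) rfl N47251 D174706
theorem N81183 : nd 81183 = n174707 := ndS (p := 47252) (l := 3) rfl N47252 D174707
theorem N81184 : nd 81184 = n174708 := ndS (p := 47252) (l := 6) rfl N47252 D174708
theorem N81185 : nd 81185 = n174709 := ndS (p := 47253) (l := 3) rfl N47253 D174709
theorem N81186 : nd 81186 = n174710 := ndS (p := 47253) (l := 6) rfl N47253 D174710
theorem N81187 : nd 81187 = n174711 := ndS (p := 47254) (l := 0) rfl N47254 D174711
theorem N81188 : nd 81188 = n174712 := ndS (p := 47254) (l := 1) rfl N47254 D174712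
theorem N81189 : nd 81189 = n174713 := ndS (p := 47254) (l := 7) rfl N47254 D174713
theorem N81190 : nd 81190 = n174714 := ndS (p := 47255) (l := 6) rfl N47255 D174714
theorem N81191 : nd 81191 = n174722 := ndS (p := 47257) (l := 5) rfl N47257 D174722
theorem N81192 : nd 81192 = n174738 := ndS (p := 47260) (l := 7) rfl N47260 D174738
theorem N81193 : nd 81193 = n174745 := ndS (p := 47263) (l := 1) rfl N47263 D174745
theorem N81194 : nd 81194 = n174746 := ndS (p := 47263) (l := 5) rfl N47263 D174746
theorem N81195 : nd 81195 = n174761 := ndS (p := 47264) (l := 4) rfl N47264 D174761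
theorem N81196 : nd 81196 = n174764 := ndS (p := 47265) (l := 4) rfl N47265 D174764
theorem N81197 : nd 81197 = n174768 := ndS (p := 47266) (l := 4) rfl N47266 D174768
theorem N81198 : nd 81198 = n174785 := ndS (p := 47269) (l := 6) rfl N47269 D174785
theorem N81199 : nd 81199 = n174788 := ndS (p := 47270) (l := 5) rfl N47270 D174788
theorem N81200 : nd 81200 = n174789 := ndS (p := 47270) (l := 7) rfl N47270 D174789
theorem N81201 : nd 81201 = n174807 := ndS (p := 47274) (l := 5) rfl N47274 D174807
theorem N81202 : nd 81202 = n174808 := ndS (p := 47274) (l := 6) rfl N47274 D174808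
theorem N81203 : nd 81203 = n174812 := ndS (p := 47275) (l := 3) rfl N47275 D174812
theorem N81204 : nd 81204 = n174813 := ndS (p := 47275) (l := 5) rfl N47275 D174813
theorem N81205 : nd 81205 = n174814 := ndS (p := 47275) (l := 6) rfl N47275 D174814
theorem N81206 : nd 81206 = n174817 := ndS (p := 47276) (l := 4) rfl N47276 D174817
theorem N81207 : nd 81207 = n174825 := ndS (p := 47278) (l := 5) rfl N47278 D174825
theorem N81208 : nd 81208 = n174829 := ndS (p := 47279) (l := 6) rfl N47279 D174829
theorem N81209 : nd 81209 = n174830 := ndS (p := 47280) (l := 4) rfl N47280 D174830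
theorem N81210 : nd 81210 = n174837 := ndS (p := 47282) (l := 3) rfl N47282 D174837
theorem N81211 : nd 81211 = n174843 := ndS (p := 47283) (l := 4) rfl N47283 D174843
theorem N81212 : nd 81212 = n174845 := ndS (p := 47283) (l := 6) rfl N47283 D174845
theorem N81213 : nd 81213 = n174846 := ndS (p := 47284) (l := 0) rfl N47284 D174846
theorem N81214 : nd 81214 = n174847 := ndS (p := 47284) (l := 1) rfl N47284 D174847
theorem N81215 : nd 81215 = n174849 := ndS (p := 47284) (l := 5) rfl N47284 D174849
theorem N81216 : nd 81216 = n174850 := ndS (p := 47284) (l := 7) rfl N47284 D174850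
theorem N81217 : nd 81217 = n174859 := ndS (p := 47287) (l := 4) rfl N47287 D174859
theorem N81218 : nd 81218 = n174862 := ndS (p := 47288) (l := 1) rfl N47288 D174862
theorem N81219 : nd 81219 = n174871 := ndS (p := 47291) (l := 3) rfl N47291 D174871
theorem N81220 : nd 81220 = n174876 := ndS (p := 47292) (l := 0) rfl N47292 D174876
theorem N81221 : nd 81221 = n174880 := ndS (p := 47292) (l := 7) rfl N47292 D174880
theorem N81222 : nd 81222 = n174885 := ndS (p := 47294) (l := 4) rfl N47294 D174885
theorem N81223 : nd 81223 = n174895 := ndS (p := 47295) (l := 3) rfl N47295 D174895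
theorem N81224 : nd 81224 = n174901 := ndS (p := 47296) (l := 0) rfl N47296 D174901
theorem N81225 : nd 81225 = n174902 := ndS (p := 47296) (l := 1) rfl N47296 D174902
theorem N81226 : nd 81226 = n174903 := ndS (p := 47296) (l := 2) rfl N47296 D174903
theorem N81227 : nd 81227 = n174904 := ndS (p := 47296) (l := 5) rfl N47296 D174904
theorem N81228 : nd 81228 = n174905 := ndS (p := 47296) (l := 7) rfl N47296 D174905
theorem N81229 : nd 81229 = n174906 := ndS (p := 47297) (l := 0) rfl N47297 D174906
theorem N81230 : nd 81230 = n174907 := ndS (p := 47297) (l := 1) rfl N47297 D174907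
theorem N81231 : nd 81231 = n174908 := ndS (p := 47297) (l := 6) rfl N47297 D174908
theorem N81232 : nd 81232 = n174909 := ndS (p := 47297) (l := 7) rfl N47297 D174909
theorem N81233 : nd 81233 = n174910 := ndS (p := 47298) (l := 6) rfl N47298 D174910
theorem N81234 : nd 81234 = n174916 := ndS (p := 47301) (l := 5) rfl N47301 D174916
theorem N81235 : nd 81235 = n174939 := ndS (p := 47305) (l := 5) rfl N47305 D174939
theorem N81236 : nd 81236 = n174954 := ndS (p := 47307) (l := 5) rfl N47307 D174954
theorem N81237 : nd 81237 = n174968 := ndS (p := 47309) (l := 3) rfl N47309 D174968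
theorem N81238 : nd 81238 = n174982 := ndS (p := 47311) (l := 6) rfl N47311 D174982
theorem N81239 : nd 81239 = n174995 := ndS (p := 47315) (l := 3) rfl N47315 D174995
theorem N81240 : nd 81240 = n174999 := ndS (p := 47316) (l := 3) rfl N47316 D174999
theorem N81241 : nd 81241 = n175000 := ndS (p := 47316) (l := 6) rfl N47316 D175000
theorem N81242 : nd 81242 = n175001 := ndS (p := 47317) (l := 0) rfl N47317 D175001
theorem N81243 : nd 81243 = n175002 := ndS (p := 47317) (l := 1) rfl N47317 D175002
theorem N81244 : nd 81244 = n175004 := ndS (p := 47317) (l := 5) rfl N47317 D175004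
theorem N81245 : nd 81245 = n175005 := ndS (p := 47317) (l := 7) rfl N47317 D175005
theorem N81246 : nd 81246 = n175007 := ndS (p := 47319) (l := 4) rfl N47319 D175007
theorem N81247 : nd 81247 = n175018 := ndS (p := 47321) (l := 0) rfl N47321 D175018
theorem N81248 : nd 81248 = n175019 := ndS (p := 47321) (l := 1) rfl N47321 D175019
theorem N81249 : nd 81249 = n175021 := ndS (p := 47322) (l := 3) rfl N47322 D175021
theorem N81250 : nd 81250 = n175022 := ndS (p := 47322) (l := 5) rfl N47322 D175022
theorem N81251 : nd 81251 = n175024 := ndS (p := 47323) (l := 3) rfl N47323 D175024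
theorem N81252 : nd 81252 = n175025 := ndS (p := 47323) (l := 5) rfl N47323 D175025
theorem N81253 : nd 81253 = n175026 := ndS (p := 47323) (l := 6) rfl N47323 D175026
theorem N81254 : nd 81254 = n175028 := ndS (p := 47324) (l := 1) rfl N47324 D175028
theorem N81255 : nd 81255 = n175029 := ndS (p := 47324) (l := 2) rfl N47324 D175029
theorem N81256 : nd 81256 = n175030 := ndS (p := 47324) (l := 5) rfl N47324 D175030
theorem N81257 : nd 81257 = n175031 := ndS (p := 47324) (l := 7) rfl N47324 D175031
theorem N81258 : nd 81258 = n175034 := ndS (p := 47325) (l := 6) rfl N47325 D175034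
theorem N81259 : nd 81259 = n175035 := ndS (p := 47325) (l := 7) rfl N47325 D175035
theorem N81260 : nd 81260 = n175036 := ndS (p := 47326) (l := 6) rfl N47326 D175036
theorem N81261 : nd 81261 = n175048 := ndS (p := 47331) (l := 6) rfl N47331 D175048
theorem N81262 : nd 81262 = n175055 := ndS (p := 47333) (l := 3) rfl N47333 D175055
theorem N81263 : nd 81263 = n175063 := ndS (p := 47335) (l := 5) rfl N47335 D175063
theorem N81264 : nd 81264 = n175064 := ndS (p := 47335) (l := 6) rfl N47335 D175064
theorem N81265 : nd 81265 = n175073 := ndS (p := 47338) (l := 6) rfl N47338 D175073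
theorem N81266 : nd 81266 = n175074 := ndS (p := 47339) (l := 0) rfl N47339 D175074
theorem N81267 : nd 81267 = n175081 := ndS (p := 47341) (l := 7) rfl N47341 D175081
theorem N81268 : nd 81268 = n175092 := ndS (p := 47345) (l := 5) rfl N47345 D175092
theorem N81269 : nd 81269 = n175101 := ndS (p := 47346) (l := 5) rfl N47346 D175101
theorem N81270 : nd 81270 = n175103 := ndS (p := 47347) (l := 0) rfl N47347 D175103
theorem N81271 : nd 81271 = n175104 := ndS (p := 47347) (l := 1) rfl N47347 D175104
theorem N81272 : nd 81272 = n175105 := ndS (p := 47347) (l := 4) rfl N47347 D175105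
theorem N81273 : nd 81273 = n175106 := ndS (p := 47347) (l := 7) rfl N47347 D175106
theorem N81274 : nd 81274 = n175111 := ndS (p := 47350) (l := 1) rfl N47350 D175111
theorem N81275 : nd 81275 = n175112 := ndS (p := 47350) (l := 4) rfl N47350 D175112
theorem N81276 : nd 81276 = n175113 := ndS (p := 47350) (l := 7) rfl N47350 D175113
theorem N81277 : nd 81277 = n175119 := ndS (p := 47354) (l := 5) rfl N47354 D175119
theorem N81278 : nd 81278 = n175120 := ndS (p := 47354) (l := 6) rfl N47354 D175120
theorem N81279 : nd 81279 = n175122 := ndS (p := 47355) (l := 1) rfl N47355 D175122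
theorem N81280 : nd 81280 = n175123 := ndS (p := 47355) (l := 3) rfl N47355 D175123
theorem N81281 : nd 81281 = n175124 := ndS (p := 47355) (l := 5) rfl N47355 D175124
theorem N81282 : nd 81282 = n175125 := ndS (p := 47355) (l := 7) rfl N47355 D175125
theorem N81283 : nd 81283 = n175126 := ndS (p := 47356) (l := 6) rfl N47356 D175126
theorem N81284 : nd 81284 = n175130 := ndS (p := 47357) (l := 5) rfl N47357 D175130
theorem N81285 : nd 81285 = n175135 := ndS (p := 47358) (l := 5) rfl N47358 D175135
theorem N81286 : nd 81286 = n175137 := ndS (p := 47359) (l := 0) rfl N47359 D175137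
theorem N81287 : nd 81287 = n175138 := ndS (p := 47359) (l := 1) rfl N47359 D175138
theorem N81288 : nd 81288 = n175140 := ndS (p := 47359) (l := 7) rfl N47359 D175140
theorem N81289 : nd 81289 = n175144 := ndS (p := 47361) (l := 5) rfl N47361 D175144
theorem N81290 : nd 81290 = n175146 := ndS (p := 47362) (l := 1) rfl N47362 D175146
theorem N81291 : nd 81291 = n175147 := ndS (p := 47362) (l := 4) rfl N47362 D175147
theorem N81292 : nd 81292 = n175148 := ndS (p := 47362) (l := 6) rfl N47362 D175148
theorem N81293 : nd 81293 = n175154 := ndS (p := 47365) (l := 6) rfl N47365 D175154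
theorem N81294 : nd 81294 = n175157 := ndS (p := 47367) (l := 5) rfl N47367 D175157
theorem N81295 : nd 81295 = n175159 := ndS (p := 47368) (l := 4) rfl N47368 D175159
theorem N81296 : nd 81296 = n175161 := ndS (p := 47368) (l := 6) rfl N47368 D175161
theorem N81297 : nd 81297 = n175163 := ndS (p := 47369) (l := 4) rfl N47369 D175163
theorem N81298 : nd 81298 = n175167 := ndS (p := 47370) (l := 3) rfl N47370 D175167
theorem N81299 : nd 81299 = n175169 := ndS (p := 47370) (l := 7) rfl N47370 D175169
theorem N81300 : nd 81300 = n175171 := ndS (p := 47372) (l := 5) rfl N47372 D175171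
theorem N81301 : nd 81301 = n175174 := ndS (p := 47373) (l := 1) rfl N47373 D175174
theorem N81302 : nd 81302 = n175175 := ndS (p := 47373) (l := 5) rfl N47373 D175175
theorem N81303 : nd 81303 = n175178 := ndS (p := 47375) (l := 6) rfl N47375 D175178
theorem N81304 : nd 81304 = n175197 := ndS (p := 47377) (l := 5) rfl N47377 D175197
theorem N81305 : nd 81305 = n175198 := ndS (p := 47377) (l := 6) rfl N47377 D175198
theorem N81306 : nd 81306 = n175200 := ndS (p := 47378) (l := 5) rfl N47378 D175200
theorem N81307 : nd 81307 = n175202 := ndS (p := 47379) (l := 0) rfl N47379 D175202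
theorem N81308 : nd 81308 = n175210 := ndS (p := 47381) (l := 5) rfl N47381 D175210
theorem N81309 : nd 81309 = n175222 := ndS (p := 47383) (l := 0) rfl N47383 D175222
theorem N81310 : nd 81310 = n175223 := ndS (p := 47383) (l := 1) rfl N47383 D175223
theorem N81311 : nd 81311 = n175224 := ndS (p := 47383) (l := 4) rfl N47383 D175224
theorem N81312 : nd 81312 = n175225 := ndS (p := 47383) (l := 7) rfl N47383 D175225
theorem N81313 : nd 81313 = n175239 := ndS (p := 47385) (l := 0) rfl N47385 D175239
theorem N81314 : nd 81314 = n175245 := ndS (p := 47386) (l := 0) rfl N47386 D175245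
theorem N81315 : nd 81315 = n175246 := ndS (p := 47386) (l := 1) rfl N47386 D175246
theorem N81316 : nd 81316 = n175259 := ndS (p := 47387) (l := 5) rfl N47387 D175259
theorem N81317 : nd 81317 = n175264 := ndS (p := 47389) (l := 4) rfl N47389 D175264
theorem N81318 : nd 81318 = n175265 := ndS (p := 47389) (l := 6) rfl N47389 D175265
theorem N81319 : nd 81319 = n175266 := ndS (p := 47390) (l := 0) rfl N47390 D175266
theorem N81320 : nd 81320 = n175272 := ndS (p := 47391) (l := 4) rfl N47391 D175272
theorem N81321 : nd 81321 = n175277 := ndS (p := 47392) (l := 4) rfl N47392 D175277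
theorem N81322 : nd 81322 = n175279 := ndS (p := 47392) (l := 6) rfl N47392 D175279
theorem N81323 : nd 81323 = n175280 := ndS (p := 47393) (l := 0) rfl N47393 D175280
theorem N81324 : nd 81324 = n175282 := ndS (p := 47393) (l := 3) rfl N47393 D175282
theorem N81325 : nd 81325 = n175311 := ndS (p := 47399) (l := 4) rfl N47399 D175311
theorem N81326 : nd 81326 = n175313 := ndS (p := 47399) (l := 6) rfl N47399 D175313
theorem N81327 : nd 81327 = n175314 := ndS (p := 47400) (l := 4) rfl N47400 D175314
theorem N81328 : nd 81328 = n175315 := ndS (p := 47400) (l := 6) rfl N47400 D175315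
theorem N81329 : nd 81329 = n175317 := ndS (p := 47401) (l := 1) rfl N47401 D175317
theorem N81330 : nd 81330 = n175322 := ndS (p := 47402) (l := 1) rfl N47402 D175322
theorem N81331 : nd 81331 = n175324 := ndS (p := 47402) (l := 7) rfl N47402 D175324
theorem N81332 : nd 81332 = n175332 := ndS (p := 47404) (l := 4) rfl N47404 D175332
theorem N81333 : nd 81333 = n175334 := ndS (p := 47404) (l := 6) rfl N47404 D175334
theorem N81334 : nd 81334 = n175336 := ndS (p := 47405) (l := 6) rfl N47405 D175336
theorem N81335 : nd 81335 = n175338 := ndS (p := 47406) (l := 1) rfl N47406 D175338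
theorem N81336 : nd 81336 = n175343 := ndS (p := 47407) (l := 5) rfl N47407 D175343
theorem N81337 : nd 81337 = n175344 := ndS (p := 47407) (l := 7) rfl N47407 D175344
theorem N81338 : nd 81338 = n175345 := ndS (p := 47408) (l := 4) rfl N47408 D175345
theorem N81339 : nd 81339 = n175346 := ndS (p := 47408) (l := 6) rfl N47408 D175346
theorem N81340 : nd 81340 = n175347 := ndS (p := 47409) (l := 0) rfl N47409 D175347
theorem N81341 : nd 81341 = n175351 := ndS (p := 47411) (l := 0) rfl N47411 D175351
theorem N81342 : nd 81342 = n175352 := ndS (p := 47411) (l := 1) rfl N47411 D175352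
theorem N81343 : nd 81343 = n175353 := ndS (p := 47411) (l := 5) rfl N47411 D175353
theorem N81344 : nd 81344 = n175354 := ndS (p := 47411) (l := 7) rfl N47411 D175354
theorem N81345 : nd 81345 = n175357 := ndS (p := 47413) (l := 7) rfl N47413 D175357
theorem N81346 : nd 81346 = n175365 := ndS (p := 47416) (l := 1) rfl N47416 D175365
theorem N81347 : nd 81347 = n175366 := ndS (p := 47416) (l := 3) rfl N47416 D175366
theorem N81348 : nd 81348 = n175370 := ndS (p := 47417) (l := 6) rfl N47417 D175370
theorem N81349 : nd 81349 = n175372 := ndS (p := 47418) (l := 1) rfl N47418 D175372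
theorem N81350 : nd 81350 = n175373 := ndS (p := 47418) (l := 5) rfl N47418 D175373
theorem N81351 : nd 81351 = n175374 := ndS (p := 47418) (l := 7) rfl N47418 D175374
theorem N81352 : nd 81352 = n175386 := ndS (p := 47422) (l := 5) rfl N47422 D175386
theorem N81353 : nd 81353 = n175389 := ndS (p := 47423) (l := 3) rfl N47423 D175389
theorem N81354 : nd 81354 = n175392 := ndS (p := 47423) (l := 6) rfl N47423 D175392
theorem N81355 : nd 81355 = n175403 := ndS (p := 47426) (l := 0) rfl N47426 D175403
theorem N81356 : nd 81356 = n175404 := ndS (p := 47426) (l := 1) rfl N47426 D175404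
theorem N81357 : nd 81357 = n175408 := ndS (p := 47427) (l := 6) rfl N47427 D175408
theorem N81358 : nd 81358 = n175415 := ndS (p := 47431) (l := 4) rfl N47431 D175415
theorem N81359 : nd 81359 = n175420 := ndS (p := 47432) (l := 4) rfl N47432 D175420
theorem N81360 : nd 81360 = n175424 := ndS (p := 47433) (l := 4) rfl N47433 D175424
theorem N81361 : nd 81361 = n175429 := ndS (p := 47434) (l := 4) rfl N47434 D175429
theorem N81362 : nd 81362 = n175432 := ndS (p := 47435) (l := 4) rfl N47435 D175432
theorem N81363 : nd 81363 = n175446 := ndS (p := 47440) (l := 6) rfl N47440 D175446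
theorem N81364 : nd 81364 = n175450 := ndS (p := 47441) (l := 6) rfl N47441 D175450
theorem N81365 : nd 81365 = n175455 := ndS (p := 47443) (l := 5) rfl N47443 D175455
theorem N81366 : nd 81366 = n175462 := ndS (p := 47446) (l := 3) rfl N47446 D175462
theorem N81367 : nd 81367 = n175477 := ndS (p := 47449) (l := 5) rfl N47449 D175477
theorem N81368 : nd 81368 = n175482 := ndS (p := 47450) (l := 5) rfl N47450 D175482
theorem N81369 : nd 81369 = n175485 := ndS (p := 47451) (l := 3) rfl N47451 D175485
theorem N81370 : nd 81370 = n175486 := ndS (p := 47451) (l := 4) rfl N47451 D175486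
theorem N81371 : nd 81371 = n175487 := ndS (p := 47451) (l := 5) rfl N47451 D175487
theorem N81372 : nd 81372 = n175489 := ndS (p := 47452) (l := 0) rfl N47452 D175489
theorem N81373 : nd 81373 = n175490 := ndS (p := 47452) (l := 1) rfl N47452 D175490
theorem N81374 : nd 81374 = n175492 := ndS (p := 47452) (l := 7) rfl N47452 D175492
theorem N81375 : nd 81375 = n175505 := ndS (p := 47454) (l := 1) rfl N47454 D175505
theorem N81376 : nd 81376 = n175506 := ndS (p := 47454) (l := 4) rfl N47454 D175506
theorem N81377 : nd 81377 = n175507 := ndS (p := 47454) (l := 6) rfl N47454 D175507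
theorem N81378 : nd 81378 = n175514 := ndS (p := 47455) (l := 1) rfl N47455 D175514
theorem N81379 : nd 81379 = n175517 := ndS (p := 47455) (l := 5) rfl N47455 D175517
theorem N81380 : nd 81380 = n175519 := ndS (p := 47456) (l := 4) rfl N47456 D175519
theorem N81381 : nd 81381 = n175520 := ndS (p := 47456) (l := 6) rfl N47456 D175520
theorem N81382 : nd 81382 = n175524 := ndS (p := 47458) (l := 3) rfl N47458 D175524
theorem N81383 : nd 81383 = n175525 := ndS (p := 47458) (l := 4) rfl N47458 D175525
theorem N81384 : nd 81384 = n175526 := ndS (p := 47458) (l := 5) rfl N47458 D175526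
theorem N81385 : nd 81385 = n175527 := ndS (p := 47458) (l := 6) rfl N47458 D175527
theorem N81386 : nd 81386 = n175529 := ndS (p := 47459) (l := 3) rfl N47459 D175529
theorem N81387 : nd 81387 = n175530 := ndS (p := 47459) (l := 4) rfl N47459 D175530
theorem N81388 : nd 81388 = n175531 := ndS (p := 47459) (l := 6) rfl N47459 D175531
theorem N81389 : nd 81389 = n175532 := ndS (p := 47460) (l := 0) rfl N47460 D175532
theorem N81390 : nd 81390 = n175533 := ndS (p := 47460) (l := 1) rfl N47460 D175533
theorem N81391 : nd 81391 = n175535 := ndS (p := 47460) (l := 5) rfl N47460 D175535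
theorem N81392 : nd 81392 = n175536 := ndS (p := 47460) (l := 7) rfl N47460 D175536
theorem N81393 : nd 81393 = n175537 := ndS (p := 47461) (l := 6) rfl N47461 D175537
theorem N81394 : nd 81394 = n175565 := ndS (p := 47462) (l := 5) rfl N47462 D175565
theorem N81395 : nd 81395 = n175571 := ndS (p := 47463) (l := 1) rfl N47463 D175571
theorem N81396 : nd 81396 = n175572 := ndS (p := 47463) (l := 4) rfl N47463 D175572
theorem N81397 : nd 81397 = n175573 := ndS (p := 47463) (l := 6) rfl N47463 D175573
theorem N81398 : nd 81398 = n175579 := ndS (p := 47464) (l := 6) rfl N47464 D175579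
theorem N81399 : nd 81399 = n175625 := ndS (p := 47466) (l := 4) rfl N47466 D175625
theorem N81400 : nd 81400 = n175626 := ndS (p := 47466) (l := 6) rfl N47466 D175626
theorem N81401 : nd 81401 = n175630 := ndS (p := 47467) (l := 5) rfl N47467 D175630
theorem N81402 : nd 81402 = n175636 := ndS (p := 47469) (l := 4) rfl N47469 D175636
theorem N81403 : nd 81403 = n175644 := ndS (p := 47471) (l := 0) rfl N47471 D175644
theorem N81404 : nd 81404 = n175645 := ndS (p := 47471) (l := 1) rfl N47471 D175645
theorem N81405 : nd 81405 = n175647 := ndS (p := 47471) (l := 5) rfl N47471 D175647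
theorem N81406 : nd 81406 = n175649 := ndS (p := 47472) (l := 4) rfl N47472 D175649
theorem N81407 : nd 81407 = n175675 := ndS (p := 47478) (l := 1) rfl N47478 D175675
theorem N81408 : nd 81408 = n175678 := ndS (p := 47478) (l := 7) rfl N47478 D175678
theorem N81409 : nd 81409 = n175680 := ndS (p := 47479) (l := 1) rfl N47479 D175680
theorem N81410 : nd 81410 = n175681 := ndS (p := 47479) (l := 4) rfl N47479 D175681
theorem N81411 : nd 81411 = n175683 := ndS (p := 47479) (l := 7) rfl N47479 D175683
theorem N81412 : nd 81412 = n175684 := ndS (p := 47480) (l := 6) rfl N47480 D175684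
theorem N81413 : nd 81413 = n175685 := ndS (p := 47481) (l := 5) rfl N47481 D175685
theorem N81414 : nd 81414 = n175686 := ndS (p := 47482) (l := 4) rfl N47482 D175686
theorem N81415 : nd 81415 = n175696 := ndS (p := 47484) (l := 5) rfl N47484 D175696
theorem N81416 : nd 81416 = n175697 := ndS (p := 47484) (l := 6) rfl N47484 D175697
theorem N81417 : nd 81417 = n175698 := ndS (p := 47485) (l := 0) rfl N47485 D175698
theorem N81418 : nd 81418 = n175699 := ndS (p := 47485) (l := 1) rfl N47485 D175699
theorem N81419 : nd 81419 = n175700 := ndS (p := 47485) (l := 4) rfl N47485 D175700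
theorem N81420 : nd 81420 = n175701 := ndS (p := 47485) (l := 6) rfl N47485 D175701
theorem N81421 : nd 81421 = n175711 := ndS (p := 47487) (l := 4) rfl N47487 D175711
theorem N81422 : nd 81422 = n175716 := ndS (p := 47488) (l := 4) rfl N47488 D175716
theorem N81423 : nd 81423 = n175717 := ndS (p := 47488) (l := 6) rfl N47488 D175717
theorem N81424 : nd 81424 = n175722 := ndS (p := 47489) (l := 0) rfl N47489 D175722
theorem N81425 : nd 81425 = n175723 := ndS (p := 47489) (l := 1) rfl N47489 D175723
theorem N81426 : nd 81426 = n175724 := ndS (p := 47489) (l := 3) rfl N47489 D175724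
theorem N81427 : nd 81427 = n175734 := ndS (p := 47490) (l := 5) rfl N47490 D175734
theorem N81428 : nd 81428 = n175739 := ndS (p := 47491) (l := 4) rfl N47491 D175739
theorem N81429 : nd 81429 = n175768 := ndS (p := 47494) (l := 5) rfl N47494 D175768
theorem N81430 : nd 81430 = n175769 := ndS (p := 47495) (l := 0) rfl N47495 D175769
theorem N81431 : nd 81431 = n175770 := ndS (p := 47495) (l := 1) rfl N47495 D175770
theorem N81432 : nd 81432 = n175772 := ndS (p := 47495) (l := 6) rfl N47495 D175772
theorem N81433 : nd 81433 = n175782 := ndS (p := 47497) (l := 3) rfl N47497 D175782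
theorem N81434 : nd 81434 = n175784 := ndS (p := 47497) (l := 5) rfl N47497 D175784
theorem N81435 : nd 81435 = n175786 := ndS (p := 47498) (l := 0) rfl N47498 D175786
theorem N81436 : nd 81436 = n175811 := ndS (p := 47500) (l := 6) rfl N47500 D175811
theorem N81437 : nd 81437 = n175814 := ndS (p := 47501) (l := 6) rfl N47501 D175814
theorem N81438 : nd 81438 = n175822 := ndS (p := 47506) (l := 3) rfl N47506 D175822
theorem N81439 : nd 81439 = n175825 := ndS (p := 47507) (l := 6) rfl N47507 D175825
theorem N81440 : nd 81440 = n175842 := ndS (p := 47508) (l := 6) rfl N47508 D175842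
theorem N81441 : nd 81441 = n175930 := ndS (p := 47513) (l := 6) rfl N47513 D175930
theorem N81442 : nd 81442 = n175932 := ndS (p := 47514) (l := 1) rfl N47514 D175932
theorem N81443 : nd 81443 = n175933 := ndS (p := 47514) (l := 5) rfl N47514 D175933
theorem N81444 : nd 81444 = n175936 := ndS (p := 47515) (l := 4) rfl N47515 D175936
theorem N81445 : nd 81445 = n175938 := ndS (p := 47515) (l := 6) rfl N47515 D175938
theorem N81446 : nd 81446 = n175939 := ndS (p := 47516) (l := 3) rfl N47516 D175939
theorem N81447 : nd 81447 = n175943 := ndS (p := 47517) (l := 4) rfl N47517 D175943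
theorem N81448 : nd 81448 = n175969 := ndS (p := 47522) (l := 5) rfl N47522 D175969
theorem N81449 : nd 81449 = n175972 := ndS (p := 47523) (l := 6) rfl N47523 D175972
theorem N81450 : nd 81450 = n175978 := ndS (p := 47525) (l := 0) rfl N47525 D175978
theorem N81451 : nd 81451 = n175979 := ndS (p := 47525) (l := 1) rfl N47525 D175979
theorem N81452 : nd 81452 = n175980 := ndS (p := 47525) (l := 5) rfl N47525 D175980
theorem N81453 : nd 81453 = n175990 := ndS (p := 47527) (l := 5) rfl N47527 D175990
theorem N81454 : nd 81454 = n175991 := ndS (p := 47527) (l := 6) rfl N47527 D175991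
theorem N81455 : nd 81455 = n175992 := ndS (p := 47528) (l := 1) rfl N47528 D175992
theorem N81456 : nd 81456 = n175993 := ndS (p := 47528) (l := 4) rfl N47528 D175993
theorem N81457 : nd 81457 = n175994 := ndS (p := 47528) (l := 7) rfl N47528 D175994
theorem N81458 : nd 81458 = n176019 := ndS (p := 47531) (l := 0) rfl N47531 D176019
theorem N81459 : nd 81459 = n176020 := ndS (p := 47531) (l := 1) rfl N47531 D176020
theorem N81460 : nd 81460 = n176045 := ndS (p := 47533) (l := 6) rfl N47533 D176045
theorem N81461 : nd 81461 = n176048 := ndS (p := 47534) (l := 5) rfl N47534 D176048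
theorem N81462 : nd 81462 = n176050 := ndS (p := 47535) (l := 0) rfl N47535 D176050
theorem N81463 : nd 81463 = n176075 := ndS (p := 47536) (l := 4) rfl N47536 D176075
theorem N81464 : nd 81464 = n176082 := ndS (p := 47537) (l := 1) rfl N47537 D176082
theorem N81465 : nd 81465 = n176083 := ndS (p := 47537) (l := 5) rfl N47537 D176083
theorem N81466 : nd 81466 = n176085 := ndS (p := 47538) (l := 3) rfl N47538 D176085
theorem N81467 : nd 81467 = n176086 := ndS (p := 47538) (l := 4) rfl N47538 D176086
theorem N81468 : nd 81468 = n176087 := ndS (p := 47538) (l := 5) rfl N47538 D176087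
theorem N81469 : nd 81469 = n176088 := ndS (p := 47538) (l := 6) rfl N47538 D176088
theorem N81470 : nd 81470 = n176091 := ndS (p := 47539) (l := 4) rfl N47539 D176091
theorem N81471 : nd 81471 = n176092 := ndS (p := 47539) (l := 5) rfl N47539 D176092
theorem N81472 : nd 81472 = n176094 := ndS (p := 47540) (l := 0) rfl N47540 D176094
theorem N81473 : nd 81473 = n176095 := ndS (p := 47540) (l := 1) rfl N47540 D176095
theorem N81474 : nd 81474 = n176110 := ndS (p := 47541) (l := 0) rfl N47541 D176110
theorem N81475 : nd 81475 = n176111 := ndS (p := 47541) (l := 1) rfl N47541 D176111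
theorem N81476 : nd 81476 = n176112 := ndS (p := 47541) (l := 4) rfl N47541 D176112
theorem N81477 : nd 81477 = n176117 := ndS (p := 47542) (l := 3) rfl N47542 D176117
theorem N81478 : nd 81478 = n176119 := ndS (p := 47542) (l := 6) rfl N47542 D176119
theorem N81479 : nd 81479 = n176121 := ndS (p := 47544) (l := 1) rfl N47544 D176121
theorem N81480 : nd 81480 = n176122 := ndS (p := 47544) (l := 3) rfl N47544 D176122
theorem N81481 : nd 81481 = n176123 := ndS (p := 47544) (l := 5) rfl N47544 D176123
theorem N81482 : nd 81482 = n176124 := ndS (p := 47544) (l := 6) rfl N47544 D176124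
theorem N81483 : nd 81483 = n176125 := ndS (p := 47545) (l := 0) rfl N47545 D176125
theorem N81484 : nd 81484 = n176126 := ndS (p := 47545) (l := 1) rfl N47545 D176126
theorem N81485 : nd 81485 = n176128 := ndS (p := 47545) (l := 7) rfl N47545 D176128
theorem N81486 : nd 81486 = n176153 := ndS (p := 47546) (l := 5) rfl N47546 D176153
theorem N81487 : nd 81487 = n176154 := ndS (p := 47546) (l := 6) rfl N47546 D176154
theorem N81488 : nd 81488 = n176155 := ndS (p := 47547) (l := 0) rfl N47547 D176155
theorem N81489 : nd 81489 = n176156 := ndS (p := 47547) (l := 1) rfl N47547 D176156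
theorem N81490 : nd 81490 = n176162 := ndS (p := 47548) (l := 4) rfl N47548 D176162
theorem N81491 : nd 81491 = n176167 := ndS (p := 47549) (l := 6) rfl N47549 D176167
theorem N81492 : nd 81492 = n176168 := ndS (p := 47550) (l := 0) rfl N47550 D176168
theorem N81493 : nd 81493 = n176170 := ndS (p := 47550) (l := 7) rfl N47550 D176170
theorem N81494 : nd 81494 = n176191 := ndS (p := 47551) (l := 5) rfl N47551 D176191
theorem N81495 : nd 81495 = n176192 := ndS (p := 47552) (l := 0) rfl N47552 D176192
theorem N81496 : nd 81496 = n176270 := ndS (p := 47557) (l := 6) rfl N47557 D176270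
theorem N81497 : nd 81497 = n176271 := ndS (p := 47558) (l := 0) rfl N47558 D176271
theorem N81498 : nd 81498 = n176272 := ndS (p := 47558) (l := 1) rfl N47558 D176272
theorem N81499 : nd 81499 = n176312 := ndS (p := 47561) (l := 4) rfl N47561 D176312
theorem N81500 : nd 81500 = n176321 := ndS (p := 47562) (l := 3) rfl N47562 D176321
theorem N81501 : nd 81501 = n176325 := ndS (p := 47563) (l := 0) rfl N47563 D176325
theorem N81502 : nd 81502 = n176326 := ndS (p := 47563) (l := 1) rfl N47563 D176326
theorem N81503 : nd 81503 = n176331 := ndS (p := 47564) (l := 1) rfl N47564 D176331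
theorem N81504 : nd 81504 = n176333 := ndS (p := 47564) (l := 7) rfl N47564 D176333
theorem N81505 : nd 81505 = n176359 := ndS (p := 47565) (l := 4) rfl N47565 D176359
theorem N81506 : nd 81506 = n176362 := ndS (p := 47566) (l := 3) rfl N47566 D176362
theorem N81507 : nd 81507 = n176363 := ndS (p := 47566) (l := 6) rfl N47566 D176363
theorem N81508 : nd 81508 = n176364 := ndS (p := 47567) (l := 0) rfl N47567 D176364
theorem N81509 : nd 81509 = n176368 := ndS (p := 47568) (l := 1) rfl N47568 D176368
theorem N81510 : nd 81510 = n176441 := ndS (p := 47574) (l := 5) rfl N47574 D176441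
theorem N81511 : nd 81511 = n176444 := ndS (p := 47575) (l := 6) rfl N47575 D176444
theorem N81512 : nd 81512 = n176472 := ndS (p := 47578) (l := 5) rfl N47578 D176472
theorem N81513 : nd 81513 = n176474 := ndS (p := 47579) (l := 6) rfl N47579 D176474
theorem N81514 : nd 81514 = n176475 := ndS (p := 47580) (l := 4) rfl N47580 D176475
theorem N81515 : nd 81515 = n176476 := ndS (p := 47580) (l := 6) rfl N47580 D176476
theorem N81516 : nd 81516 = n176477 := ndS (p := 47581) (l := 0) rfl N47581 D176477
theorem N81517 : nd 81517 = n176479 := ndS (p := 47581) (l := 5) rfl N47581 D176479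
theorem N81518 : nd 81518 = n176480 := ndS (p := 47581) (l := 7) rfl N47581 D176480
theorem N81519 : nd 81519 = n176485 := ndS (p := 47583) (l := 3) rfl N47583 D176485
theorem N81520 : nd 81520 = n176490 := ndS (p := 47584) (l := 3) rfl N47584 D176490
theorem N81521 : nd 81521 = n176492 := ndS (p := 47584) (l := 6) rfl N47584 D176492
theorem N81522 : nd 81522 = n176493 := ndS (p := 47585) (l := 0) rfl N47585 D176493
theorem N81523 : nd 81523 = n176494 := ndS (p := 47585) (l := 1) rfl N47585 D176494
theorem N81524 : nd 81524 = n176495 := ndS (p := 47585) (l := 5) rfl N47585 D176495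
theorem N81525 : nd 81525 = n176499 := ndS (p := 47586) (l := 4) rfl N47586 D176499
theorem N81526 : nd 81526 = n176502 := ndS (p := 47588) (l := 0) rfl N47588 D176502
theorem N81527 : nd 81527 = n176503 := ndS (p := 47588) (l := 1) rfl N47588 D176503
theorem N81528 : nd 81528 = n176504 := ndS (p := 47588) (l := 4) rfl N47588 D176504
theorem N81529 : nd 81529 = n176506 := ndS (p := 47590) (l := 0) rfl N47590 D176506
theorem N81530 : nd 81530 = n176507 := ndS (p := 47590) (l := 1) rfl N47590 D176507
theorem N81531 : nd 81531 = n176508 := ndS (p := 47590) (l := 2) rfl N47590 D176508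
theorem N81532 : nd 81532 = n176525 := ndS (p := 47592) (l := 4) rfl N47592 D176525
theorem N81533 : nd 81533 = n176530 := ndS (p := 47594) (l := 3) rfl N47594 D176530
theorem N81534 : nd 81534 = n176535 := ndS (p := 47595) (l := 4) rfl N47595 D176535
theorem N81535 : nd 81535 = n176540 := ndS (p := 47596) (l := 4) rfl N47596 D176540
theorem N81536 : nd 81536 = n176551 := ndS (p := 47598) (l := 5) rfl N47598 D176551
theorem N81537 : nd 81537 = n176552 := ndS (p := 47599) (l := 6) rfl N47599 D176552
theorem N81538 : nd 81538 = n176587 := ndS (p := 47601) (l := 3) rfl N47601 D176587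
theorem N81539 : nd 81539 = n176590 := ndS (p := 47602) (l := 6) rfl N47602 D176590
theorem N81540 : nd 81540 = n176592 := ndS (p := 47603) (l := 1) rfl N47603 D176592
theorem N81541 : nd 81541 = n176594 := ndS (p := 47603) (l := 7) rfl N47603 D176594
theorem N81542 : nd 81542 = n176622 := ndS (p := 47607) (l := 1) rfl N47607 D176622
theorem N81543 : nd 81543 = n176630 := ndS (p := 47608) (l := 0) rfl N47608 D176630
theorem N81544 : nd 81544 = n176631 := ndS (p := 47608) (l := 1) rfl N47608 D176631
theorem N81545 : nd 81545 = n176633 := ndS (p := 47608) (l := 7) rfl N47608 D176633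
theorem N81546 : nd 81546 = n176660 := ndS (p := 47610) (l := 5) rfl N47610 D176660
theorem N81547 : nd 81547 = n176672 := ndS (p := 47612) (l := 6) rfl N47612 D176672
theorem N81548 : nd 81548 = n176674 := ndS (p := 47613) (l := 6) rfl N47613 D176674
theorem N81549 : nd 81549 = n176676 := ndS (p := 47614) (l := 5) rfl N47614 D176676
theorem N81550 : nd 81550 = n176677 := ndS (p := 47615) (l := 0) rfl N47615 D176677
theorem N81551 : nd 81551 = n176679 := ndS (p := 47615) (l := 2) rfl N47615 D176679
theorem N81552 : nd 81552 = n176680 := ndS (p := 47615) (l := 4) rfl N47615 D176680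
theorem N81553 : nd 81553 = n176687 := ndS (p := 47617) (l := 6) rfl N47617 D176687
theorem N81554 : nd 81554 = n176694 := ndS (p := 47619) (l := 0) rfl N47619 D176694
theorem N81555 : nd 81555 = n176696 := ndS (p := 47619) (l := 4) rfl N47619 D176696
theorem N81556 : nd 81556 = n176698 := ndS (p := 47620) (l := 3) rfl N47620 D176698
theorem N81557 : nd 81557 = n176699 := ndS (p := 47620) (l := 6) rfl N47620 D176699
theorem N81558 : nd 81558 = n176702 := ndS (p := 47622) (l := 3) rfl N47622 D176702
theorem N81559 : nd 81559 = n176705 := ndS (p := 47623) (l := 1) rfl N47623 D176705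
theorem N81560 : nd 81560 = n176707 := ndS (p := 47624) (l := 0) rfl N47624 D176707
theorem N81561 : nd 81561 = n176708 := ndS (p := 47624) (l := 1) rfl N47624 D176708
theorem N81562 : nd 81562 = n176710 := ndS (p := 47625) (l := 0) rfl N47625 D176710
theorem N81563 : nd 81563 = n176711 := ndS (p := 47625) (l := 1) rfl N47625 D176711
theorem N81564 : nd 81564 = n176712 := ndS (p := 47625) (l := 2) rfl N47625 D176712
theorem N81565 : nd 81565 = n176714 := ndS (p := 47625) (l := 6) rfl N47625 D176714
theorem N81566 : nd 81566 = n176716 := ndS (p := 47626) (l := 5) rfl N47626 D176716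
theorem N81567 : nd 81567 = n176717 := ndS (p := 47627) (l := 1) rfl N47627 D176717
theorem N81568 : nd 81568 = n176718 := ndS (p := 47627) (l := 2) rfl N47627 D176718
theorem N81569 : nd 81569 = n176719 := ndS (p := 47627) (l := 5) rfl N47627 D176719
theorem N81570 : nd 81570 = n176721 := ndS (p := 47628) (l := 6) rfl N47628 D176721
theorem N81571 : nd 81571 = n176724 := ndS (p := 47629) (l := 3) rfl N47629 D176724
theorem N81572 : nd 81572 = n176725 := ndS (p := 47629) (l := 4) rfl N47629 D176725
theorem N81573 : nd 81573 = n176726 := ndS (p := 47629) (l := 5) rfl N47629 D176726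
theorem N81574 : nd 81574 = n176727 := ndS (p := 47629) (l := 6) rfl N47629 D176727
theorem N81575 : nd 81575 = n176729 := ndS (p := 47630) (l := 3) rfl N47630 D176729
theorem N81576 : nd 81576 = n176730 := ndS (p := 47630) (l := 4) rfl N47630 D176730
theorem N81577 : nd 81577 = n176731 := ndS (p := 47630) (l := 5) rfl N47630 D176731
theorem N81578 : nd 81578 = n176733 := ndS (p := 47631) (l := 5) rfl N47631 D176733
theorem N81579 : nd 81579 = n176736 := ndS (p := 47632) (l := 4) rfl N47632 D176736
theorem N81580 : nd 81580 = n176737 := ndS (p := 47632) (l := 6) rfl N47632 D176737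
theorem N81581 : nd 81581 = n176738 := ndS (p := 47633) (l := 0) rfl N47633 D176738
theorem N81582 : nd 81582 = n176739 := ndS (p := 47633) (l := 1) rfl N47633 D176739
theorem N81583 : nd 81583 = n176740 := ndS (p := 47633) (l := 7) rfl N47633 D176740
theorem N81584 : nd 81584 = n176762 := ndS (p := 47634) (l := 1) rfl N47634 D176762
theorem N81585 : nd 81585 = n176764 := ndS (p := 47634) (l := 7) rfl N47634 D176764
theorem N81586 : nd 81586 = n176821 := ndS (p := 47636) (l := 4) rfl N47636 D176821
theorem N81587 : nd 81587 = n176822 := ndS (p := 47636) (l := 5) rfl N47636 D176822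
theorem N81588 : nd 81588 = n176823 := ndS (p := 47636) (l := 6) rfl N47636 D176823
theorem N81589 : nd 81589 = n176825 := ndS (p := 47637) (l := 3) rfl N47637 D176825
theorem N81590 : nd 81590 = n176826 := ndS (p := 47637) (l := 4) rfl N47637 D176826
theorem N81591 : nd 81591 = n176827 := ndS (p := 47637) (l := 5) rfl N47637 D176827
theorem N81592 : nd 81592 = n176829 := ndS (p := 47638) (l := 5) rfl N47638 D176829
theorem N81593 : nd 81593 = n176830 := ndS (p := 47638) (l := 6) rfl N47638 D176830
theorem N81594 : nd 81594 = n176831 := ndS (p := 47639) (l := 0) rfl N47639 D176831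
theorem N81595 : nd 81595 = n176832 := ndS (p := 47639) (l := 1) rfl N47639 D176832
theorem N81596 : nd 81596 = n176833 := ndS (p := 47639) (l := 4) rfl N47639 D176833
theorem N81597 : nd 81597 = n176834 := ndS (p := 47639) (l := 6) rfl N47639 D176834
theorem N81598 : nd 81598 = n176838 := ndS (p := 47640) (l := 7) rfl N47640 D176838
theorem N81599 : nd 81599 = n176839 := ndS (p := 47641) (l := 0) rfl N47641 D176839
theorem N81600 : nd 81600 = n176840 := ndS (p := 47641) (l := 1) rfl N47641 D176840
theorem N81601 : nd 81601 = n176841 := ndS (p := 47641) (l := 5) rfl N47641 D176841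
theorem N81602 : nd 81602 = n176842 := ndS (p := 47641) (l := 7) rfl N47641 D176842
theorem N81603 : nd 81603 = n176843 := ndS (p := 47642) (l := 4) rfl N47642 D176843
theorem N81604 : nd 81604 = n176844 := ndS (p := 47642) (l := 7) rfl N47642 D176844
theorem N81605 : nd 81605 = n176847 := ndS (p := 47644) (l := 4) rfl N47644 D176847
theorem N81606 : nd 81606 = n176851 := ndS (p := 47645) (l := 3) rfl N47645 D176851
theorem N81607 : nd 81607 = n176852 := ndS (p := 47645) (l := 4) rfl N47645 D176852
theorem N81608 : nd 81608 = n176855 := ndS (p := 47646) (l := 5) rfl N47646 D176855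
theorem N81609 : nd 81609 = n176858 := ndS (p := 47647) (l := 1) rfl N47647 D176858
theorem N81610 : nd 81610 = n176860 := ndS (p := 47647) (l := 6) rfl N47647 D176860
theorem N81611 : nd 81611 = n176865 := ndS (p := 47648) (l := 0) rfl N47648 D176865
theorem N81612 : nd 81612 = n176866 := ndS (p := 47648) (l := 1) rfl N47648 D176866
theorem N81613 : nd 81613 = n176867 := ndS (p := 47648) (l := 5) rfl N47648 D176867
theorem N81614 : nd 81614 = n176868 := ndS (p := 47648) (l := 7) rfl N47648 D176868
theorem N81615 : nd 81615 = n176871 := ndS (p := 47649) (l := 4) rfl N47649 D176871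
theorem N81616 : nd 81616 = n176872 := ndS (p := 47649) (l := 7) rfl N47649 D176872
theorem N81617 : nd 81617 = n176875 := ndS (p := 47651) (l := 5) rfl N47651 D176875
theorem N81618 : nd 81618 = n176876 := ndS (p := 47651) (l := 6) rfl N47651 D176876
theorem N81619 : nd 81619 = n176877 := ndS (p := 47652) (l := 6) rfl N47652 D176877
theorem N81620 : nd 81620 = n176878 := ndS (p := 47653) (l := 0) rfl N47653 D176878
theorem N81621 : nd 81621 = n176883 := ndS (p := 47654) (l := 5) rfl N47654 D176883
theorem N81622 : nd 81622 = n176884 := ndS (p := 47654) (l := 7) rfl N47654 D176884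
theorem N81623 : nd 81623 = n176887 := ndS (p := 47655) (l := 5) rfl N47655 D176887
theorem N81624 : nd 81624 = n176888 := ndS (p := 47655) (l := 6) rfl N47655 D176888
theorem N81625 : nd 81625 = n176889 := ndS (p := 47656) (l := 4) rfl N47656 D176889
theorem N81626 : nd 81626 = n176890 := ndS (p := 47656) (l := 6) rfl N47656 D176890
theorem N81627 : nd 81627 = n176892 := ndS (p := 47657) (l := 1) rfl N47657 D176892
theorem N81628 : nd 81628 = n176893 := ndS (p := 47657) (l := 5) rfl N47657 D176893
theorem N81629 : nd 81629 = n176895 := ndS (p := 47658) (l := 4) rfl N47658 D176895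
theorem N81630 : nd 81630 = n176897 := ndS (p := 47659) (l := 3) rfl N47659 D176897
theorem N81631 : nd 81631 = n176898 := ndS (p := 47659) (l := 4) rfl N47659 D176898
theorem N81632 : nd 81632 = n176899 := ndS (p := 47659) (l := 6) rfl N47659 D176899
theorem N81633 : nd 81633 = n176901 := ndS (p := 47660) (l := 4) rfl N47660 D176901
theorem N81634 : nd 81634 = n176902 := ndS (p := 47660) (l := 6) rfl N47660 D176902
theorem N81635 : nd 81635 = n176903 := ndS (p := 47661) (l := 0) rfl N47661 D176903
theorem N81636 : nd 81636 = n176904 := ndS (p := 47661) (l := 1) rfl N47661 D176904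
theorem N81637 : nd 81637 = n176905 := ndS (p := 47661) (l := 3) rfl N47661 D176905
theorem N81638 : nd 81638 = n176906 := ndS (p := 47661) (l := 5) rfl N47661 D176906
theorem N81639 : nd 81639 = n176907 := ndS (p := 47661) (l := 6) rfl N47661 D176907
theorem N81640 : nd 81640 = n176908 := ndS (p := 47662) (l := 0) rfl N47662 D176908
theorem N81641 : nd 81641 = n176913 := ndS (p := 47663) (l := 2) rfl N47663 D176913
theorem N81642 : nd 81642 = n176914 := ndS (p := 47663) (l := 4) rfl N47663 D176914
theorem N81643 : nd 81643 = n176915 := ndS (p := 47663) (l := 6) rfl N47663 D176915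
theorem N81644 : nd 81644 = n176916 := ndS (p := 47664) (l := 0) rfl N47664 D176916
theorem N81645 : nd 81645 = n176917 := ndS (p := 47664) (l := 1) rfl N47664 D176917
theorem N81646 : nd 81646 = n176918 := ndS (p := 47664) (l := 5) rfl N47664 D176918
theorem N81647 : nd 81647 = n176919 := ndS (p := 47664) (l := 7) rfl N47664 D176919
theorem N81648 : nd 81648 = n176924 := ndS (p := 47665) (l := 6) rfl N47665 D176924
theorem N81649 : nd 81649 = n176925 := ndS (p := 47666) (l := 0) rfl N47666 D176925
theorem N81650 : nd 81650 = n176926 := ndS (p := 47666) (l := 1) rfl N47666 D176926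
theorem N81651 : nd 81651 = n176927 := ndS (p := 47666) (l := 5) rfl N47666 D176927
theorem N81652 : nd 81652 = n176928 := ndS (p := 47666) (l := 7) rfl N47666 D176928
theorem N81653 : nd 81653 = n176932 := ndS (p := 47667) (l := 6) rfl N47667 D176932
theorem N81654 : nd 81654 = n176933 := ndS (p := 47668) (l := 0) rfl N47668 D176933
theorem N81655 : nd 81655 = n176934 := ndS (p := 47668) (l := 1) rfl N47668 D176934
theorem N81656 : nd 81656 = n176936 := ndS (p := 47668) (l := 7) rfl N47668 D176936
theorem N81657 : nd 81657 = n176939 := ndS (p := 47669) (l := 4) rfl N47669 D176939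
theorem N81658 : nd 81658 = n176940 := ndS (p := 47669) (l := 5) rfl N47669 D176940
theorem N81659 : nd 81659 = n176941 := ndS (p := 47669) (l := 6) rfl N47669 D176941
theorem N81660 : nd 81660 = n176944 := ndS (p := 47670) (l := 4) rfl N47670 D176944
theorem N81661 : nd 81661 = n176945 := ndS (p := 47670) (l := 5) rfl N47670 D176945
theorem N81662 : nd 81662 = n176946 := ndS (p := 47670) (l := 6) rfl N47670 D176946
theorem N81663 : nd 81663 = n176947 := ndS (p := 47672) (l := 6) rfl N47672 D176947
theorem N81664 : nd 81664 = n176958 := ndS (p := 47674) (l := 3) rfl N47674 D176958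
theorem N81665 : nd 81665 = n176987 := ndS (p := 47679) (l := 3) rfl N47679 D176987
theorem N81666 : nd 81666 = n176988 := ndS (p := 47679) (l := 5) rfl N47679 D176988
theorem N81667 : nd 81667 = n176998 := ndS (p := 47681) (l := 5) rfl N47681 D176998
theorem N81668 : nd 81668 = n177007 := ndS (p := 47683) (l := 5) rfl N47683 D177007
theorem N81669 : nd 81669 = n177013 := ndS (p := 47684) (l := 0) rfl N47684 D177013
theorem N81670 : nd 81670 = n177014 := ndS (p := 47684) (l := 1) rfl N47684 D177014
theorem N81671 : nd 81671 = n177015 := ndS (p := 47684) (l := 2) rfl N47684 D177015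
theorem N81672 : nd 81672 = n177016 := ndS (p := 47684) (l := 5) rfl N47684 D177016
theorem N81673 : nd 81673 = n177019 := ndS (p := 47685) (l := 1) rfl N47685 D177019
theorem N81674 : nd 81674 = n177020 := ndS (p := 47685) (l := 4) rfl N47685 D177020
theorem N81675 : nd 81675 = n177021 := ndS (p := 47685) (l := 6) rfl N47685 D177021
theorem N81676 : nd 81676 = n177024 := ndS (p := 47686) (l := 6) rfl N47686 D177024
theorem N81677 : nd 81677 = n177028 := ndS (p := 47688) (l := 5) rfl N47688 D177028
theorem N81678 : nd 81678 = n177030 := ndS (p := 47689) (l := 6) rfl N47689 D177030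
theorem N81679 : nd 81679 = n177031 := ndS (p := 47690) (l := 6) rfl N47690 D177031
theorem N81680 : nd 81680 = n177034 := ndS (p := 47691) (l := 5) rfl N47691 D177034
theorem N81681 : nd 81681 = n177036 := ndS (p := 47692) (l := 0) rfl N47692 D177036
theorem N81682 : nd 81682 = n177037 := ndS (p := 47692) (l := 1) rfl N47692 D177037
theorem N81683 : nd 81683 = n177038 := ndS (p := 47692) (l := 5) rfl N47692 D177038
theorem N81684 : nd 81684 = n177042 := ndS (p := 47693) (l := 4) rfl N47693 D177042
theorem N81685 : nd 81685 = n177044 := ndS (p := 47693) (l := 6) rfl N47693 D177044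
theorem N81686 : nd 81686 = n177046 := ndS (p := 47694) (l := 3) rfl N47694 D177046
theorem N81687 : nd 81687 = n177047 := ndS (p := 47694) (l := 4) rfl N47694 D177047
theorem N81688 : nd 81688 = n177048 := ndS (p := 47694) (l := 5) rfl N47694 D177048
theorem N81689 : nd 81689 = n177050 := ndS (p := 47695) (l := 0) rfl N47695 D177050
theorem N81690 : nd 81690 = n177051 := ndS (p := 47695) (l := 1) rfl N47695 D177051
theorem N81691 : nd 81691 = n177053 := ndS (p := 47695) (l := 7) rfl N47695 D177053
theorem N81692 : nd 81692 = n177054 := ndS (p := 47697) (l := 3) rfl N47697 D177054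
theorem N81693 : nd 81693 = n177055 := ndS (p := 47697) (l := 6) rfl N47697 D177055
theorem N81694 : nd 81694 = n177056 := ndS (p := 47698) (l := 0) rfl N47698 D177056
theorem N81695 : nd 81695 = n177057 := ndS (p := 47698) (l := 1) rfl N47698 D177057
theorem N81696 : nd 81696 = n177058 := ndS (p := 47698) (l := 3) rfl N47698 D177058
theorem N81697 : nd 81697 = n177059 := ndS (p := 47698) (l := 5) rfl N47698 D177059
theorem N81698 : nd 81698 = n177062 := ndS (p := 47700) (l := 5) rfl N47700 D177062
theorem N81699 : nd 81699 = n177127 := ndS (p := 47709) (l := 0) rfl N47709 D177127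
theorem N81700 : nd 81700 = n177139 := ndS (p := 47710) (l := 2) rfl N47710 D177139
theorem N81701 : nd 81701 = n177140 := ndS (p := 47710) (l := 4) rfl N47710 D177140
theorem N81702 : nd 81702 = n177141 := ndS (p := 47710) (l := 5) rfl N47710 D177141
theorem N81703 : nd 81703 = n177147 := ndS (p := 47711) (l := 5) rfl N47711 D177147
theorem N81704 : nd 81704 = n177163 := ndS (p := 47713) (l := 6) rfl N47713 D177163
theorem N81705 : nd 81705 = n177164 := ndS (p := 47714) (l := 5) rfl N47714 D177164
theorem N81706 : nd 81706 = n177165 := ndS (p := 47714) (l := 6) rfl N47714 D177165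
theorem N81707 : nd 81707 = n177173 := ndS (p := 47717) (l := 3) rfl N47717 D177173
theorem N81708 : nd 81708 = n177174 := ndS (p := 47717) (l := 4) rfl N47717 D177174
theorem N81709 : nd 81709 = n177176 := ndS (p := 47717) (l := 6) rfl N47717 D177176
theorem N81710 : nd 81710 = n177183 := ndS (p := 47718) (l := 3) rfl N47718 D177183
theorem N81711 : nd 81711 = n177184 := ndS (p := 47718) (l := 5) rfl N47718 D177184
theorem N81712 : nd 81712 = n177188 := ndS (p := 47720) (l := 4) rfl N47720 D177188
theorem N81713 : nd 81713 = n177189 := ndS (p := 47720) (l := 5) rfl N47720 D177189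
theorem N81714 : nd 81714 = n177199 := ndS (p := 47722) (l := 1) rfl N47722 D177199
theorem N81715 : nd 81715 = n177200 := ndS (p := 47722) (l := 4) rfl N47722 D177200
theorem N81716 : nd 81716 = n177203 := ndS (p := 47723) (l := 1) rfl N47723 D177203
theorem N81717 : nd 81717 = n177204 := ndS (p := 47724) (l := 4) rfl N47724 D177204
theorem N81718 : nd 81718 = n177210 := ndS (p := 47727) (l := 0) rfl N47727 D177210
theorem N81719 : nd 81719 = n177212 := ndS (p := 47727) (l := 3) rfl N47727 D177212
theorem N81720 : nd 81720 = n177213 := ndS (p := 47727) (l := 5) rfl N47727 D177213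
theorem N81721 : nd 81721 = n177245 := ndS (p := 47730) (l := 5) rfl N47730 D177245
theorem N81722 : nd 81722 = n177255 := ndS (p := 47731) (l := 4) rfl N47731 D177255
theorem N81723 : nd 81723 = n177280 := ndS (p := 47733) (l := 3) rfl N47733 D177280
theorem N81724 : nd 81724 = n177281 := ndS (p := 47733) (l := 5) rfl N47733 D177281
theorem N81725 : nd 81725 = n177283 := ndS (p := 47734) (l := 0) rfl N47734 D177283
theorem N81726 : nd 81726 = n177284 := ndS (p := 47734) (l := 1) rfl N47734 D177284
theorem N81727 : nd 81727 = n177285 := ndS (p := 47734) (l := 2) rfl N47734 D177285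
theorem N81728 : nd 81728 = n177286 := ndS (p := 47734) (l := 5) rfl N47734 D177286
theorem N81729 : nd 81729 = n177288 := ndS (p := 47735) (l := 1) rfl N47735 D177288
theorem N81730 : nd 81730 = n177289 := ndS (p := 47735) (l := 6) rfl N47735 D177289
theorem N81731 : nd 81731 = n177290 := ndS (p := 47736) (l := 6) rfl N47736 D177290
theorem N81732 : nd 81732 = n177331 := ndS (p := 47741) (l := 3) rfl N47741 D177331
theorem N81733 : nd 81733 = n177332 := ndS (p := 47741) (l := 5) rfl N47741 D177332
theorem N81734 : nd 81734 = n177333 := ndS (p := 47742) (l := 3) rfl N47742 D177333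
theorem N81735 : nd 81735 = n177334 := ndS (p := 47742) (l := 5) rfl N47742 D177334
theorem N81736 : nd 81736 = n177345 := ndS (p := 47743) (l := 1) rfl N47743 D177345
theorem N81737 : nd 81737 = n177346 := ndS (p := 47743) (l := 6) rfl N47743 D177346
theorem N81738 : nd 81738 = n177347 := ndS (p := 47744) (l := 5) rfl N47744 D177347
theorem N81739 : nd 81739 = n177368 := ndS (p := 47749) (l := 3) rfl N47749 D177368
theorem N81740 : nd 81740 = n177389 := ndS (p := 47752) (l := 3) rfl N47752 D177389
theorem N81741 : nd 81741 = n177395 := ndS (p := 47753) (l := 0) rfl N47753 D177395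
theorem N81742 : nd 81742 = n177396 := ndS (p := 47753) (l := 1) rfl N47753 D177396
theorem N81743 : nd 81743 = n177400 := ndS (p := 47754) (l := 5) rfl N47754 D177400
theorem N81744 : nd 81744 = n177408 := ndS (p := 47756) (l := 0) rfl N47756 D177408
theorem N81745 : nd 81745 = n177413 := ndS (p := 47757) (l := 6) rfl N47757 D177413
theorem N81746 : nd 81746 = n177422 := ndS (p := 47758) (l := 1) rfl N47758 D177422
theorem N81747 : nd 81747 = n177423 := ndS (p := 47758) (l := 2) rfl N47758 D177423
theorem N81748 : nd 81748 = n177424 := ndS (p := 47758) (l := 5) rfl N47758 D177424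
theorem N81749 : nd 81749 = n177428 := ndS (p := 47759) (l := 6) rfl N47759 D177428
theorem N81750 : nd 81750 = n177429 := ndS (p := 47760) (l := 5) rfl N47760 D177429
theorem N81751 : nd 81751 = n177438 := ndS (p := 47761) (l := 0) rfl N47761 D177438
theorem N81752 : nd 81752 = n177440 := ndS (p := 47761) (l := 3) rfl N47761 D177440
theorem N81753 : nd 81753 = n177442 := ndS (p := 47761) (l := 5) rfl N47761 D177442
theorem N81754 : nd 81754 = n177443 := ndS (p := 47761) (l := 6) rfl N47761 D177443
theorem N81755 : nd 81755 = n177444 := ndS (p := 47761) (l := 7) rfl N47761 D177444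
theorem N81756 : nd 81756 = n177446 := ndS (p := 47762) (l := 5) rfl N47762 D177446
theorem N81757 : nd 81757 = n177449 := ndS (p := 47763) (l := 5) rfl N47763 D177449
theorem N81758 : nd 81758 = n177450 := ndS (p := 47764) (l := 0) rfl N47764 D177450
theorem N81759 : nd 81759 = n177451 := ndS (p := 47764) (l := 1) rfl N47764 D177451
theorem N81760 : nd 81760 = n177454 := ndS (p := 47764) (l := 7) rfl N47764 D177454
theorem N81761 : nd 81761 = n177456 := ndS (p := 47766) (l := 3) rfl N47766 D177456
theorem N81762 : nd 81762 = n177457 := ndS (p := 47766) (l := 6) rfl N47766 D177457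
theorem N81763 : nd 81763 = n177460 := ndS (p := 47768) (l := 3) rfl N47768 D177460
theorem N81764 : nd 81764 = n177462 := ndS (p := 47769) (l := 0) rfl N47769 D177462
theorem N81765 : nd 81765 = n177463 := ndS (p := 47769) (l := 1) rfl N47769 D177463
theorem N81766 : nd 81766 = n177464 := ndS (p := 47769) (l := 7) rfl N47769 D177464
theorem N81767 : nd 81767 = n177465 := ndS (p := 47770) (l := 6) rfl N47770 D177465
theorem N81768 : nd 81768 = n177486 := ndS (p := 47772) (l := 5) rfl N47772 D177486
theorem N81769 : nd 81769 = n177494 := ndS (p := 47774) (l := 3) rfl N47774 D177494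
theorem N81770 : nd 81770 = n177496 := ndS (p := 47775) (l := 3) rfl N47775 D177496
theorem N81771 : nd 81771 = n177498 := ndS (p := 47776) (l := 0) rfl N47776 D177498
theorem N81772 : nd 81772 = n177499 := ndS (p := 47776) (l := 1) rfl N47776 D177499
theorem N81773 : nd 81773 = n177500 := ndS (p := 47776) (l := 2) rfl N47776 D177500
theorem N81774 : nd 81774 = n177506 := ndS (p := 47777) (l := 5) rfl N47777 D177506
theorem N81775 : nd 81775 = n177508 := ndS (p := 47778) (l := 1) rfl N47778 D177508
theorem N81776 : nd 81776 = n177509 := ndS (p := 47778) (l := 2) rfl N47778 D177509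
theorem N81777 : nd 81777 = n177511 := ndS (p := 47779) (l := 3) rfl N47779 D177511
theorem N81778 : nd 81778 = n177512 := ndS (p := 47779) (l := 4) rfl N47779 D177512
theorem N81779 : nd 81779 = n177513 := ndS (p := 47779) (l := 5) rfl N47779 D177513
theorem N81780 : nd 81780 = n177517 := ndS (p := 47780) (l := 4) rfl N47780 D177517
theorem N81781 : nd 81781 = n177518 := ndS (p := 47780) (l := 5) rfl N47780 D177518
theorem N81782 : nd 81782 = n177525 := ndS (p := 47782) (l := 3) rfl N47782 D177525
theorem N81783 : nd 81783 = n177526 := ndS (p := 47782) (l := 4) rfl N47782 D177526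
theorem N81784 : nd 81784 = n177531 := ndS (p := 47783) (l := 4) rfl N47783 D177531
theorem N81785 : nd 81785 = n177533 := ndS (p := 47783) (l := 6) rfl N47783 D177533
theorem N81786 : nd 81786 = n177547 := ndS (p := 47787) (l := 3) rfl N47787 D177547
theorem N81787 : nd 81787 = n177549 := ndS (p := 47787) (l := 5) rfl N47787 D177549
theorem N81788 : nd 81788 = n177556 := ndS (p := 47788) (l := 4) rfl N47788 D177556
theorem N81789 : nd 81789 = n177557 := ndS (p := 47788) (l := 5) rfl N47788 D177557
theorem N81790 : nd 81790 = n177558 := ndS (p := 47789) (l := 0) rfl N47789 D177558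
theorem N81791 : nd 81791 = n177560 := ndS (p := 47789) (l := 5) rfl N47789 D177560
theorem N81792 : nd 81792 = n177563 := ndS (p := 47790) (l := 4) rfl N47790 D177563
theorem N81793 : nd 81793 = n177582 := ndS (p := 47791) (l := 1) rfl N47791 D177582
theorem N81794 : nd 81794 = n177583 := ndS (p := 47791) (l := 5) rfl N47791 D177583
theorem N81795 : nd 81795 = n177597 := ndS (p := 47793) (l := 5) rfl N47793 D177597
theorem N81796 : nd 81796 = n177598 := ndS (p := 47793) (l := 6) rfl N47793 D177598
theorem N81797 : nd 81797 = n177601 := ndS (p := 47794) (l := 3) rfl N47794 D177601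
theorem N81798 : nd 81798 = n177602 := ndS (p := 47794) (l := 4) rfl N47794 D177602
theorem N81799 : nd 81799 = n177603 := ndS (p := 47794) (l := 5) rfl N47794 D177603
theorem N81800 : nd 81800 = n177606 := ndS (p := 47795) (l := 1) rfl N47795 D177606
theorem N81801 : nd 81801 = n177609 := ndS (p := 47795) (l := 5) rfl N47795 D177609
theorem N81802 : nd 81802 = n177610 := ndS (p := 47795) (l := 6) rfl N47795 D177610
theorem N81803 : nd 81803 = n177612 := ndS (p := 47796) (l := 0) rfl N47796 D177612
theorem N81804 : nd 81804 = n177613 := ndS (p := 47796) (l := 1) rfl N47796 D177613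
theorem N81805 : nd 81805 = n177616 := ndS (p := 47796) (l := 6) rfl N47796 D177616
theorem N81806 : nd 81806 = n177617 := ndS (p := 47796) (l := 7) rfl N47796 D177617
theorem N81807 : nd 81807 = n177621 := ndS (p := 47797) (l := 6) rfl N47797 D177621
theorem N81808 : nd 81808 = n177622 := ndS (p := 47797) (l := 7) rfl N47797 D177622
theorem N81809 : nd 81809 = n177625 := ndS (p := 47798) (l := 5) rfl N47798 D177625
theorem N81810 : nd 81810 = n177628 := ndS (p := 47800) (l := 0) rfl N47800 D177628
theorem N81811 : nd 81811 = n177630 := ndS (p := 47800) (l := 2) rfl N47800 D177630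
theorem N81812 : nd 81812 = n177631 := ndS (p := 47800) (l := 4) rfl N47800 D177631
theorem N81813 : nd 81813 = n177632 := ndS (p := 47800) (l := 5) rfl N47800 D177632
theorem N81814 : nd 81814 = n177633 := ndS (p := 47800) (l := 6) rfl N47800 D177633
theorem N81815 : nd 81815 = n177634 := ndS (p := 47801) (l := 3) rfl N47801 D177634
theorem N81816 : nd 81816 = n177635 := ndS (p := 47801) (l := 5) rfl N47801 D177635
theorem N81817 : nd 81817 = n177636 := ndS (p := 47801) (l := 6) rfl N47801 D177636
theorem N81818 : nd 81818 = n177654 := ndS (p := 47804) (l := 1) rfl N47804 D177654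
theorem N81819 : nd 81819 = n177655 := ndS (p := 47804) (l := 4) rfl N47804 D177655
theorem N81820 : nd 81820 = n177656 := ndS (p := 47804) (l := 6) rfl N47804 D177656
theorem N81821 : nd 81821 = n177658 := ndS (p := 47805) (l := 3) rfl N47805 D177658
theorem N81822 : nd 81822 = n177663 := ndS (p := 47806) (l := 3) rfl N47806 D177663
theorem N81823 : nd 81823 = n177664 := ndS (p := 47806) (l := 4) rfl N47806 D177664
theorem N81824 : nd 81824 = n177667 := ndS (p := 47807) (l := 0) rfl N47807 D177667
theorem N81825 : nd 81825 = n177672 := ndS (p := 47807) (l := 7) rfl N47807 D177672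
theorem N81826 : nd 81826 = n177674 := ndS (p := 47808) (l := 1) rfl N47808 D177674
theorem N81827 : nd 81827 = n177675 := ndS (p := 47808) (l := 7) rfl N47808 D177675
theorem N81828 : nd 81828 = n177677 := ndS (p := 47810) (l := 0) rfl N47810 D177677
theorem N81829 : nd 81829 = n177678 := ndS (p := 47810) (l := 1) rfl N47810 D177678
theorem N81830 : nd 81830 = n177682 := ndS (p := 47811) (l := 2) rfl N47811 D177682
theorem N81831 : nd 81831 = n177683 := ndS (p := 47811) (l := 4) rfl N47811 D177683
theorem N81832 : nd 81832 = n177700 := ndS (p := 47813) (l := 3) rfl N47813 D177700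
theorem N81833 : nd 81833 = n177717 := ndS (p := 47817) (l := 5) rfl N47817 D177717
theorem N81834 : nd 81834 = n177721 := ndS (p := 47818) (l := 5) rfl N47818 D177721
theorem N81835 : nd 81835 = n177729 := ndS (p := 47819) (l := 3) rfl N47819 D177729
theorem N81836 : nd 81836 = n177731 := ndS (p := 47819) (l := 5) rfl N47819 D177731
theorem N81837 : nd 81837 = n177733 := ndS (p := 47820) (l := 0) rfl N47820 D177733
theorem N81838 : nd 81838 = n177734 := ndS (p := 47820) (l := 1) rfl N47820 D177734
theorem N81839 : nd 81839 = n177735 := ndS (p := 47820) (l := 4) rfl N47820 D177735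
theorem N81840 : nd 81840 = n177745 := ndS (p := 47821) (l := 5) rfl N47821 D177745
theorem N81841 : nd 81841 = n177747 := ndS (p := 47822) (l := 0) rfl N47822 D177747
theorem N81842 : nd 81842 = n177748 := ndS (p := 47822) (l := 4) rfl N47822 D177748
theorem N81843 : nd 81843 = n177760 := ndS (p := 47823) (l := 4) rfl N47823 D177760
theorem N81844 : nd 81844 = n177761 := ndS (p := 47823) (l := 6) rfl N47823 D177761
theorem N81845 : nd 81845 = n177762 := ndS (p := 47824) (l := 3) rfl N47824 D177762
theorem N81846 : nd 81846 = n177763 := ndS (p := 47824) (l := 4) rfl N47824 D177763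
theorem N81847 : nd 81847 = n177766 := ndS (p := 47825) (l := 4) rfl N47825 D177766
theorem N81848 : nd 81848 = n177767 := ndS (p := 47825) (l := 6) rfl N47825 D177767
theorem N81849 : nd 81849 = n177768 := ndS (p := 47826) (l := 0) rfl N47826 D177768
theorem N81850 : nd 81850 = n177769 := ndS (p := 47826) (l := 1) rfl N47826 D177769
theorem N81851 : nd 81851 = n177770 := ndS (p := 47826) (l := 3) rfl N47826 D177770
theorem N81852 : nd 81852 = n177771 := ndS (p := 47826) (l := 5) rfl N47826 D177771
theorem N81853 : nd 81853 = n177786 := ndS (p := 47827) (l := 3) rfl N47827 D177786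
theorem N81854 : nd 81854 = n177787 := ndS (p := 47827) (l := 5) rfl N47827 D177787
theorem N81855 : nd 81855 = n177789 := ndS (p := 47828) (l := 4) rfl N47828 D177789
theorem N81856 : nd 81856 = n177794 := ndS (p := 47830) (l := 3) rfl N47830 D177794
theorem N81857 : nd 81857 = n177795 := ndS (p := 47830) (l := 5) rfl N47830 D177795
theorem N81858 : nd 81858 = n177796 := ndS (p := 47831) (l := 0) rfl N47831 D177796
theorem N81859 : nd 81859 = n177797 := ndS (p := 47831) (l := 1) rfl N47831 D177797
theorem N81860 : nd 81860 = n177798 := ndS (p := 47831) (l := 2) rfl N47831 D177798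
theorem N81861 : nd 81861 = n177799 := ndS (p := 47831) (l := 5) rfl N47831 D177799
theorem N81862 : nd 81862 = n177802 := ndS (p := 47832) (l := 1) rfl N47832 D177802
theorem N81863 : nd 81863 = n177803 := ndS (p := 47832) (l := 4) rfl N47832 D177803
theorem N81864 : nd 81864 = n177806 := ndS (p := 47833) (l := 6) rfl N47833 D177806
theorem N81865 : nd 81865 = n177809 := ndS (p := 47834) (l := 5) rfl N47834 D177809
theorem N81866 : nd 81866 = n177818 := ndS (p := 47837) (l := 4) rfl N47837 D177818
theorem N81867 : nd 81867 = n177819 := ndS (p := 47837) (l := 5) rfl N47837 D177819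
theorem N81868 : nd 81868 = n177822 := ndS (p := 47838) (l := 3) rfl N47838 D177822
theorem N81869 : nd 81869 = n177823 := ndS (p := 47838) (l := 4) rfl N47838 D177823
theorem N81870 : nd 81870 = n177824 := ndS (p := 47838) (l := 5) rfl N47838 D177824
theorem N81871 : nd 81871 = n177825 := ndS (p := 47838) (l := 6) rfl N47838 D177825
theorem N81872 : nd 81872 = n177826 := ndS (p := 47839) (l := 0) rfl N47839 D177826
theorem N81873 : nd 81873 = n177827 := ndS (p := 47839) (l := 1) rfl N47839 D177827
theorem N81874 : nd 81874 = n177828 := ndS (p := 47839) (l := 4) rfl N47839 D177828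
theorem N81875 : nd 81875 = n177831 := ndS (p := 47840) (l := 0) rfl N47840 D177831
theorem N81876 : nd 81876 = n177832 := ndS (p := 47840) (l := 1) rfl N47840 D177832
theorem N81877 : nd 81877 = n177833 := ndS (p := 47840) (l := 3) rfl N47840 D177833
theorem N81878 : nd 81878 = n177856 := ndS (p := 47841) (l := 5) rfl N47841 D177856
theorem N81879 : nd 81879 = n177857 := ndS (p := 47841) (l := 6) rfl N47841 D177857
theorem N81880 : nd 81880 = n177862 := ndS (p := 47842) (l := 5) rfl N47842 D177862
theorem N81881 : nd 81881 = n177865 := ndS (p := 47843) (l := 1) rfl N47843 D177865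
theorem N81882 : nd 81882 = n177866 := ndS (p := 47843) (l := 4) rfl N47843 D177866
theorem N81883 : nd 81883 = n177867 := ndS (p := 47843) (l := 6) rfl N47843 D177867
theorem N81884 : nd 81884 = n177882 := ndS (p := 47845) (l := 4) rfl N47845 D177882
theorem N81885 : nd 81885 = n177883 := ndS (p := 47845) (l := 6) rfl N47845 D177883
theorem N81886 : nd 81886 = n177888 := ndS (p := 47846) (l := 3) rfl N47846 D177888
theorem N81887 : nd 81887 = n177889 := ndS (p := 47846) (l := 4) rfl N47846 D177889
theorem N81888 : nd 81888 = n177892 := ndS (p := 47847) (l := 4) rfl N47847 D177892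
theorem N81889 : nd 81889 = n177893 := ndS (p := 47847) (l := 6) rfl N47847 D177893
theorem N81890 : nd 81890 = n177894 := ndS (p := 47848) (l := 0) rfl N47848 D177894
theorem N81891 : nd 81891 = n177895 := ndS (p := 47848) (l := 1) rfl N47848 D177895
theorem N81892 : nd 81892 = n177896 := ndS (p := 47848) (l := 3) rfl N47848 D177896
theorem N81893 : nd 81893 = n177897 := ndS (p := 47848) (l := 5) rfl N47848 D177897
theorem N81894 : nd 81894 = n177898 := ndS (p := 47848) (l := 7) rfl N47848 D177898
theorem N81895 : nd 81895 = n177911 := ndS (p := 47850) (l := 0) rfl N47850 D177911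
theorem N81896 : nd 81896 = n177912 := ndS (p := 47850) (l := 1) rfl N47850 D177912
theorem N81897 : nd 81897 = n177913 := ndS (p := 47850) (l := 4) rfl N47850 D177913
theorem N81898 : nd 81898 = n177919 := ndS (p := 47851) (l := 3) rfl N47851 D177919
theorem N81899 : nd 81899 = n177921 := ndS (p := 47851) (l := 6) rfl N47851 D177921
theorem N81900 : nd 81900 = n177923 := ndS (p := 47852) (l := 6) rfl N47852 D177923
theorem N81901 : nd 81901 = n177924 := ndS (p := 47853) (l := 0) rfl N47853 D177924
theorem N81902 : nd 81902 = n177925 := ndS (p := 47853) (l := 1) rfl N47853 D177925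
theorem N81903 : nd 81903 = n177928 := ndS (p := 47853) (l := 6) rfl N47853 D177928
theorem N81904 : nd 81904 = n177929 := ndS (p := 47854) (l := 0) rfl N47854 D177929
theorem N81905 : nd 81905 = n177930 := ndS (p := 47854) (l := 1) rfl N47854 D177930
theorem N81906 : nd 81906 = n177931 := ndS (p := 47854) (l := 7) rfl N47854 D177931
theorem N81907 : nd 81907 = n177950 := ndS (p := 47855) (l := 3) rfl N47855 D177950
theorem N81908 : nd 81908 = n177951 := ndS (p := 47855) (l := 5) rfl N47855 D177951
theorem N81909 : nd 81909 = n177952 := ndS (p := 47855) (l := 6) rfl N47855 D177952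
theorem N81910 : nd 81910 = n177953 := ndS (p := 47856) (l := 0) rfl N47856 D177953
theorem N81911 : nd 81911 = n177954 := ndS (p := 47856) (l := 1) rfl N47856 D177954
theorem N81912 : nd 81912 = n177955 := ndS (p := 47856) (l := 7) rfl N47856 D177955
theorem N81913 : nd 81913 = n177959 := ndS (p := 47857) (l := 4) rfl N47857 D177959
theorem N81914 : nd 81914 = n177960 := ndS (p := 47857) (l := 5) rfl N47857 D177960
theorem N81915 : nd 81915 = n177961 := ndS (p := 47857) (l := 6) rfl N47857 D177961
theorem N81916 : nd 81916 = n177962 := ndS (p := 47858) (l := 0) rfl N47858 D177962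
theorem N81917 : nd 81917 = n177963 := ndS (p := 47858) (l := 1) rfl N47858 D177963
theorem N81918 : nd 81918 = n177965 := ndS (p := 47858) (l := 5) rfl N47858 D177965
theorem N81919 : nd 81919 = n177966 := ndS (p := 47858) (l := 6) rfl N47858 D177966
theorem N81920 : nd 81920 = n177974 := ndS (p := 47861) (l := 2) rfl N47861 D177974
theorem N81921 : nd 81921 = n177976 := ndS (p := 47861) (l := 6) rfl N47861 D177976
theorem N81922 : nd 81922 = n177977 := ndS (p := 47862) (l := 3) rfl N47862 D177977
theorem N81923 : nd 81923 = n177978 := ndS (p := 47862) (l := 5) rfl N47862 D177978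
theorem N81924 : nd 81924 = n177979 := ndS (p := 47862) (l := 6) rfl N47862 D177979
theorem N81925 : nd 81925 = n177980 := ndS (p := 47863) (l := 0) rfl N47863 D177980
theorem N81926 : nd 81926 = n177981 := ndS (p := 47863) (l := 1) rfl N47863 D177981
theorem N81927 : nd 81927 = n177982 := ndS (p := 47863) (l := 7) rfl N47863 D177982
theorem N81928 : nd 81928 = n177983 := ndS (p := 47864) (l := 3) rfl N47864 D177983
theorem N81929 : nd 81929 = n177984 := ndS (p := 47864) (l := 5) rfl N47864 D177984
theorem N81930 : nd 81930 = n177985 := ndS (p := 47864) (l := 6) rfl N47864 D177985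
theorem N81931 : nd 81931 = n177986 := ndS (p := 47865) (l := 3) rfl N47865 D177986
theorem N81932 : nd 81932 = n177987 := ndS (p := 47865) (l := 5) rfl N47865 D177987
theorem N81933 : nd 81933 = n177988 := ndS (p := 47865) (l := 6) rfl N47865 D177988
theorem N81934 : nd 81934 = n177989 := ndS (p := 47866) (l := 0) rfl N47866 D177989
theorem N81935 : nd 81935 = n177990 := ndS (p := 47866) (l := 1) rfl N47866 D177990
theorem N81936 : nd 81936 = n177991 := ndS (p := 47866) (l := 2) rfl N47866 D177991
theorem N81937 : nd 81937 = n177992 := ndS (p := 47866) (l := 5) rfl N47866 D177992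
theorem N81938 : nd 81938 = n177993 := ndS (p := 47866) (l := 7) rfl N47866 D177993
theorem N81939 : nd 81939 = n177996 := ndS (p := 47867) (l := 6) rfl N47867 D177996
theorem N81940 : nd 81940 = n177997 := ndS (p := 47868) (l := 6) rfl N47868 D177997
theorem N81941 : nd 81941 = n177998 := ndS (p := 47869) (l := 0) rfl N47869 D177998
theorem N81942 : nd 81942 = n177999 := ndS (p := 47869) (l := 1) rfl N47869 D177999
theorem N81943 : nd 81943 = n178073 := ndS (p := 47870) (l := 4) rfl N47870 D178073
theorem N81944 : nd 81944 = n178074 := ndS (p := 47870) (l := 6) rfl N47870 D178074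
theorem N81945 : nd 81945 = n178078 := ndS (p := 47871) (l := 3) rfl N47871 D178078
theorem N81946 : nd 81946 = n178079 := ndS (p := 47871) (l := 6) rfl N47871 D178079
theorem N81947 : nd 81947 = n178080 := ndS (p := 47872) (l := 0) rfl N47872 D178080
theorem N81948 : nd 81948 = n178081 := ndS (p := 47872) (l := 1) rfl N47872 D178081
theorem N81949 : nd 81949 = n178083 := ndS (p := 47872) (l := 7) rfl N47872 D178083
theorem N81950 : nd 81950 = n178084 := ndS (p := 47873) (l := 0) rfl N47873 D178084
theorem N81951 : nd 81951 = n178085 := ndS (p := 47873) (l := 1) rfl N47873 D178085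
theorem N81952 : nd 81952 = n178086 := ndS (p := 47873) (l := 2) rfl N47873 D178086
theorem N81953 : nd 81953 = n178087 := ndS (p := 47873) (l := 5) rfl N47873 D178087
theorem N81954 : nd 81954 = n178088 := ndS (p := 47873) (l := 6) rfl N47873 D178088
theorem N81955 : nd 81955 = n178089 := ndS (p := 47874) (l := 6) rfl N47874 D178089
theorem N81956 : nd 81956 = n178090 := ndS (p := 47875) (l := 5) rfl N47875 D178090
theorem N81957 : nd 81957 = n178092 := ndS (p := 47876) (l := 3) rfl N47876 D178092
theorem N81958 : nd 81958 = n178094 := ndS (p := 47877) (l := 3) rfl N47877 D178094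
theorem N81959 : nd 81959 = n178096 := ndS (p := 47878) (l := 1) rfl N47878 D178096
theorem N81960 : nd 81960 = n178098 := ndS (p := 47878) (l := 5) rfl N47878 D178098
theorem N81961 : nd 81961 = n178100 := ndS (p := 47879) (l := 0) rfl N47879 D178100
theorem N81962 : nd 81962 = n178101 := ndS (p := 47879) (l := 1) rfl N47879 D178101
theorem N81963 : nd 81963 = n178102 := ndS (p := 47879) (l := 6) rfl N47879 D178102
theorem N81964 : nd 81964 = n178105 := ndS (p := 47880) (l := 5) rfl N47880 D178105
theorem N81965 : nd 81965 = n178114 := ndS (p := 47882) (l := 0) rfl N47882 D178114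
theorem N81966 : nd 81966 = n178115 := ndS (p := 47882) (l := 1) rfl N47882 D178115
theorem N81967 : nd 81967 = n178116 := ndS (p := 47882) (l := 2) rfl N47882 D178116
theorem N81968 : nd 81968 = n178117 := ndS (p := 47882) (l := 5) rfl N47882 D178117
theorem N81969 : nd 81969 = n178119 := ndS (p := 47883) (l := 6) rfl N47883 D178119
theorem N81970 : nd 81970 = n178122 := ndS (p := 47884) (l := 3) rfl N47884 D178122
theorem N81971 : nd 81971 = n178123 := ndS (p := 47885) (l := 0) rfl N47885 D178123
theorem N81972 : nd 81972 = n178124 := ndS (p := 47885) (l := 1) rfl N47885 D178124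
theorem N81973 : nd 81973 = n178127 := ndS (p := 47885) (l := 6) rfl N47885 D178127
theorem N81974 : nd 81974 = n178129 := ndS (p := 47887) (l := 0) rfl N47887 D178129
theorem N81975 : nd 81975 = n178130 := ndS (p := 47887) (l := 1) rfl N47887 D178130
theorem N81976 : nd 81976 = n178142 := ndS (p := 47891) (l := 0) rfl N47891 D178142
theorem N81977 : nd 81977 = n178147 := ndS (p := 47891) (l := 6) rfl N47891 D178147
theorem N81978 : nd 81978 = n178149 := ndS (p := 47892) (l := 3) rfl N47892 D178149
theorem N81979 : nd 81979 = n178150 := ndS (p := 47892) (l := 5) rfl N47892 D178150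
theorem N81980 : nd 81980 = n178153 := ndS (p := 47893) (l := 5) rfl N47893 D178153
theorem N81981 : nd 81981 = n178154 := ndS (p := 47894) (l := 0) rfl N47894 D178154
theorem N81982 : nd 81982 = n178155 := ndS (p := 47894) (l := 1) rfl N47894 D178155
theorem N81983 : nd 81983 = n178156 := ndS (p := 47894) (l := 4) rfl N47894 D178156
theorem N81984 : nd 81984 = n178157 := ndS (p := 47894) (l := 6) rfl N47894 D178157
theorem N81985 : nd 81985 = n178158 := ndS (p := 47894) (l := 7) rfl N47894 D178158
theorem N81986 : nd 81986 = n178160 := ndS (p := 47896) (l := 3) rfl N47896 D178160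
theorem N81987 : nd 81987 = n178161 := ndS (p := 47896) (l := 6) rfl N47896 D178161
theorem N81988 : nd 81988 = n178163 := ndS (p := 47897) (l := 6) rfl N47897 D178163
theorem N81989 : nd 81989 = n178164 := ndS (p := 47898) (l := 3) rfl N47898 D178164
theorem N81990 : nd 81990 = n178169 := ndS (p := 47900) (l := 6) rfl N47900 D178169
theorem N81991 : nd 81991 = n178174 := ndS (p := 47901) (l := 1) rfl N47901 D178174
theorem N81992 : nd 81992 = n178176 := ndS (p := 47902) (l := 0) rfl N47902 D178176
theorem N81993 : nd 81993 = n178177 := ndS (p := 47902) (l := 1) rfl N47902 D178177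
theorem N81994 : nd 81994 = n178178 := ndS (p := 47902) (l := 2) rfl N47902 D178178
theorem N81995 : nd 81995 = n178180 := ndS (p := 47903) (l := 3) rfl N47903 D178180
theorem N81996 : nd 81996 = n178181 := ndS (p := 47903) (l := 4) rfl N47903 D178181
theorem N81997 : nd 81997 = n178182 := ndS (p := 47903) (l := 5) rfl N47903 D178182
theorem N81998 : nd 81998 = n178186 := ndS (p := 47904) (l := 4) rfl N47904 D178186
theorem N81999 : nd 81999 = n178221 := ndS (p := 47906) (l := 0) rfl N47906 D178221
theorem N82000 : nd 82000 = n178222 := ndS (p := 47906) (l := 1) rfl N47906 D178222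
theorem N82001 : nd 82001 = n178223 := ndS (p := 47906) (l := 2) rfl N47906 D178223
theorem N82002 : nd 82002 = n178224 := ndS (p := 47906) (l := 5) rfl N47906 D178224
theorem N82003 : nd 82003 = n178230 := ndS (p := 47908) (l := 4) rfl N47908 D178230
theorem N82004 : nd 82004 = n178231 := ndS (p := 47908) (l := 5) rfl N47908 D178231
theorem N82005 : nd 82005 = n178234 := ndS (p := 47909) (l := 3) rfl N47909 D178234
theorem N82006 : nd 82006 = n178235 := ndS (p := 47909) (l := 4) rfl N47909 D178235
theorem N82007 : nd 82007 = n178236 := ndS (p := 47909) (l := 5) rfl N47909 D178236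
theorem N82008 : nd 82008 = n178237 := ndS (p := 47909) (l := 6) rfl N47909 D178237
theorem N82009 : nd 82009 = n178238 := ndS (p := 47911) (l := 3) rfl N47911 D178238
theorem N82010 : nd 82010 = n178239 := ndS (p := 47912) (l := 0) rfl N47912 D178239
theorem N82011 : nd 82011 = n178240 := ndS (p := 47912) (l := 1) rfl N47912 D178240
theorem N82012 : nd 82012 = n178245 := ndS (p := 47913) (l := 3) rfl N47913 D178245
theorem N82013 : nd 82013 = n178247 := ndS (p := 47913) (l := 5) rfl N47913 D178247
theorem N82014 : nd 82014 = n178248 := ndS (p := 47913) (l := 6) rfl N47913 D178248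
theorem N82015 : nd 82015 = n178250 := ndS (p := 47914) (l := 3) rfl N47914 D178250
theorem N82016 : nd 82016 = n178284 := ndS (p := 47917) (l := 4) rfl N47917 D178284
theorem N82017 : nd 82017 = n178285 := ndS (p := 47917) (l := 5) rfl N47917 D178285
theorem N82018 : nd 82018 = n178286 := ndS (p := 47917) (l := 6) rfl N47917 D178286
theorem N82019 : nd 82019 = n178287 := ndS (p := 47918) (l := 0) rfl N47918 D178287
theorem N82020 : nd 82020 = n178288 := ndS (p := 47918) (l := 1) rfl N47918 D178288
theorem N82021 : nd 82021 = n178289 := ndS (p := 47918) (l := 5) rfl N47918 D178289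
theorem N82022 : nd 82022 = n178307 := ndS (p := 47923) (l := 4) rfl N47923 D178307
theorem N82023 : nd 82023 = n178317 := ndS (p := 47924) (l := 0) rfl N47924 D178317
theorem N82024 : nd 82024 = n178318 := ndS (p := 47924) (l := 1) rfl N47924 D178318
theorem N82025 : nd 82025 = n178322 := ndS (p := 47924) (l := 7) rfl N47924 D178322
theorem N82026 : nd 82026 = n178333 := ndS (p := 47927) (l := 0) rfl N47927 D178333
theorem N82027 : nd 82027 = n178336 := ndS (p := 47927) (l := 4) rfl N47927 D178336
theorem N82028 : nd 82028 = n178339 := ndS (p := 47928) (l := 3) rfl N47928 D178339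
theorem N82029 : nd 82029 = n178340 := ndS (p := 47928) (l := 5) rfl N47928 D178340
theorem N82030 : nd 82030 = n178358 := ndS (p := 47930) (l := 0) rfl N47930 D178358
theorem N82031 : nd 82031 = n178360 := ndS (p := 47930) (l := 4) rfl N47930 D178360
theorem N82032 : nd 82032 = n178363 := ndS (p := 47931) (l := 3) rfl N47931 D178363
theorem N82033 : nd 82033 = n178364 := ndS (p := 47931) (l := 4) rfl N47931 D178364
theorem N82034 : nd 82034 = n178368 := ndS (p := 47932) (l := 3) rfl N47932 D178368
theorem N82035 : nd 82035 = n178373 := ndS (p := 47933) (l := 1) rfl N47933 D178373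
theorem N82036 : nd 82036 = n178375 := ndS (p := 47933) (l := 5) rfl N47933 D178375
theorem N82037 : nd 82037 = n178377 := ndS (p := 47933) (l := 7) rfl N47933 D178377
theorem N82038 : nd 82038 = n178409 := ndS (p := 47939) (l := 5) rfl N47939 D178409
theorem N82039 : nd 82039 = n178439 := ndS (p := 47948) (l := 6) rfl N47948 D178439
theorem N82040 : nd 82040 = n178452 := ndS (p := 47951) (l := 6) rfl N47951 D178452
theorem N82041 : nd 82041 = n178458 := ndS (p := 47953) (l := 7) rfl N47953 D178458
theorem N82042 : nd 82042 = n178459 := ndS (p := 47954) (l := 6) rfl N47954 D178459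
theorem N82043 : nd 82043 = n178466 := ndS (p := 47956) (l := 3) rfl N47956 D178466
theorem N82044 : nd 82044 = n178481 := ndS (p := 47962) (l := 4) rfl N47962 D178481
theorem N82045 : nd 82045 = n178492 := ndS (p := 47963) (l := 5) rfl N47963 D178492
theorem N82046 : nd 82046 = n178493 := ndS (p := 47963) (l := 6) rfl N47963 D178493
theorem N82047 : nd 82047 = n178496 := ndS (p := 47964) (l := 4) rfl N47964 D178496
theorem N82048 : nd 82048 = n178498 := ndS (p := 47966) (l := 5) rfl N47966 D178498
theorem N82049 : nd 82049 = n178500 := ndS (p := 47967) (l := 0) rfl N47967 D178500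
theorem N82050 : nd 82050 = n178502 := ndS (p := 47967) (l := 4) rfl N47967 D178502
theorem N82051 : nd 82051 = n178507 := ndS (p := 47970) (l := 4) rfl N47970 D178507
theorem N82052 : nd 82052 = n178513 := ndS (p := 47971) (l := 4) rfl N47971 D178513
theorem N82053 : nd 82053 = n178514 := ndS (p := 47971) (l := 5) rfl N47971 D178514
theorem N82054 : nd 82054 = n178517 := ndS (p := 47972) (l := 3) rfl N47972 D178517
theorem N82055 : nd 82055 = n178518 := ndS (p := 47972) (l := 4) rfl N47972 D178518
theorem N82056 : nd 82056 = n178519 := ndS (p := 47972) (l := 5) rfl N47972 D178519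
theorem N82057 : nd 82057 = n178520 := ndS (p := 47972) (l := 6) rfl N47972 D178520
theorem N82058 : nd 82058 = n178521 := ndS (p := 47973) (l := 3) rfl N47973 D178521
theorem N82059 : nd 82059 = n178522 := ndS (p := 47973) (l := 5) rfl N47973 D178522
theorem N82060 : nd 82060 = n178523 := ndS (p := 47973) (l := 7) rfl N47973 D178523
theorem N82061 : nd 82061 = n178524 := ndS (p := 47974) (l := 6) rfl N47974 D178524
theorem N82062 : nd 82062 = n178534 := ndS (p := 47979) (l := 4) rfl N47979 D178534
theorem N82063 : nd 82063 = n178537 := ndS (p := 47980) (l := 3) rfl N47980 D178537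
theorem N82064 : nd 82064 = n178538 := ndS (p := 47980) (l := 5) rfl N47980 D178538
theorem N82065 : nd 82065 = n178545 := ndS (p := 47982) (l := 0) rfl N47982 D178545
theorem N82066 : nd 82066 = n178546 := ndS (p := 47982) (l := 1) rfl N47982 D178546
theorem N82067 : nd 82067 = n178547 := ndS (p := 47982) (l := 4) rfl N47982 D178547
theorem N82068 : nd 82068 = n178548 := ndS (p := 47982) (l := 6) rfl N47982 D178548
theorem N82069 : nd 82069 = n178550 := ndS (p := 47984) (l := 1) rfl N47984 D178550
theorem N82070 : nd 82070 = n178551 := ndS (p := 47984) (l := 4) rfl N47984 D178551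
theorem N82071 : nd 82071 = n178565 := ndS (p := 47986) (l := 6) rfl N47986 D178565
theorem N82072 : nd 82072 = n178568 := ndS (p := 47988) (l := 3) rfl N47988 D178568
theorem N82073 : nd 82073 = n178614 := ndS (p := 47990) (l := 5) rfl N47990 D178614
theorem N82074 : nd 82074 = n178621 := ndS (p := 47993) (l := 6) rfl N47993 D178621
theorem N82075 : nd 82075 = n178633 := ndS (p := 47994) (l := 3) rfl N47994 D178633
theorem N82076 : nd 82076 = n178634 := ndS (p := 47994) (l := 4) rfl N47994 D178634
theorem N82077 : nd 82077 = n178649 := ndS (p := 47997) (l := 3) rfl N47997 D178649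
theorem N82078 : nd 82078 = n178650 := ndS (p := 47997) (l := 5) rfl N47997 D178650
theorem N82079 : nd 82079 = n178651 := ndS (p := 47997) (l := 6) rfl N47997 D178651
theorem N82080 : nd 82080 = n178652 := ndS (p := 47999) (l := 3) rfl N47999 D178652
theorem N82081 : nd 82081 = n178653 := ndS (p := 47999) (l := 5) rfl N47999 D178653
theorem N82082 : nd 82082 = n178656 := ndS (p := 48000) (l := 6) rfl N48000 D178656
theorem N82083 : nd 82083 = n178657 := ndS (p := 48001) (l := 3) rfl N48001 D178657
theorem N82084 : nd 82084 = n178660 := ndS (p := 48002) (l := 0) rfl N48002 D178660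
theorem N82085 : nd 82085 = n178661 := ndS (p := 48002) (l := 1) rfl N48002 D178661
theorem N82086 : nd 82086 = n178663 := ndS (p := 48002) (l := 5) rfl N48002 D178663
theorem N82087 : nd 82087 = n178664 := ndS (p := 48002) (l := 6) rfl N48002 D178664
theorem N82088 : nd 82088 = n178667 := ndS (p := 48003) (l := 6) rfl N48003 D178667
theorem N82089 : nd 82089 = n178668 := ndS (p := 48004) (l := 0) rfl N48004 D178668
theorem N82090 : nd 82090 = n178669 := ndS (p := 48004) (l := 1) rfl N48004 D178669
theorem N82091 : nd 82091 = n178670 := ndS (p := 48004) (l := 5) rfl N48004 D178670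
theorem N82092 : nd 82092 = n178671 := ndS (p := 48004) (l := 7) rfl N48004 D178671
theorem N82093 : nd 82093 = n178672 := ndS (p := 48005) (l := 4) rfl N48005 D178672
theorem N82094 : nd 82094 = n178675 := ndS (p := 48007) (l := 7) rfl N48007 D178675
theorem N82095 : nd 82095 = n178690 := ndS (p := 48012) (l := 3) rfl N48012 D178690
theorem N82096 : nd 82096 = n178691 := ndS (p := 48012) (l := 6) rfl N48012 D178691
theorem N82097 : nd 82097 = n178693 := ndS (p := 48013) (l := 1) rfl N48013 D178693
theorem N82098 : nd 82098 = n178696 := ndS (p := 48014) (l := 4) rfl N48014 D178696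
theorem N82099 : nd 82099 = n178713 := ndS (p := 48018) (l := 0) rfl N48018 D178713
theorem N82100 : nd 82100 = n178766 := ndS (p := 48020) (l := 0) rfl N48020 D178766
theorem N82101 : nd 82101 = n178767 := ndS (p := 48020) (l := 1) rfl N48020 D178767
theorem N82102 : nd 82102 = n178768 := ndS (p := 48020) (l := 6) rfl N48020 D178768
theorem N82103 : nd 82103 = n178779 := ndS (p := 48022) (l := 6) rfl N48022 D178779
theorem N82104 : nd 82104 = n178782 := ndS (p := 48023) (l := 5) rfl N48023 D178782
theorem N82105 : nd 82105 = n178791 := ndS (p := 48025) (l := 3) rfl N48025 D178791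
theorem N82106 : nd 82106 = n178794 := ndS (p := 48025) (l := 6) rfl N48025 D178794
theorem N82107 : nd 82107 = n178801 := ndS (p := 48027) (l := 6) rfl N48027 D178801
theorem N82108 : nd 82108 = n178806 := ndS (p := 48028) (l := 6) rfl N48028 D178806
theorem N82109 : nd 82109 = n178811 := ndS (p := 48030) (l := 6) rfl N48030 D178811
theorem N82110 : nd 82110 = n178812 := ndS (p := 48031) (l := 0) rfl N48031 D178812
theorem N82111 : nd 82111 = n178813 := ndS (p := 48031) (l := 1) rfl N48031 D178813
theorem N82112 : nd 82112 = n178814 := ndS (p := 48031) (l := 7) rfl N48031 D178814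
theorem N82113 : nd 82113 = n178818 := ndS (p := 48032) (l := 4) rfl N48032 D178818
theorem N82114 : nd 82114 = n178819 := ndS (p := 48032) (l := 6) rfl N48032 D178819
theorem N82115 : nd 82115 = n178827 := ndS (p := 48034) (l := 3) rfl N48034 D178827
theorem N82116 : nd 82116 = n178828 := ndS (p := 48034) (l := 5) rfl N48034 D178828
theorem N82117 : nd 82117 = n178829 := ndS (p := 48034) (l := 6) rfl N48034 D178829
theorem N82118 : nd 82118 = n178830 := ndS (p := 48035) (l := 0) rfl N48035 D178830
theorem N82119 : nd 82119 = n178833 := ndS (p := 48038) (l := 4) rfl N48038 D178833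
theorem N82120 : nd 82120 = n178853 := ndS (p := 48039) (l := 4) rfl N48039 D178853
theorem N82121 : nd 82121 = n178864 := ndS (p := 48040) (l := 5) rfl N48040 D178864
theorem N82122 : nd 82122 = n178867 := ndS (p := 48041) (l := 5) rfl N48041 D178867
theorem N82123 : nd 82123 = n178869 := ndS (p := 48042) (l := 3) rfl N48042 D178869
theorem N82124 : nd 82124 = n178870 := ndS (p := 48042) (l := 5) rfl N48042 D178870
theorem N82125 : nd 82125 = n178876 := ndS (p := 48043) (l := 0) rfl N48043 D178876
theorem N82126 : nd 82126 = n178877 := ndS (p := 48043) (l := 1) rfl N48043 D178877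
theorem N82127 : nd 82127 = n178878 := ndS (p := 48043) (l := 4) rfl N48043 D178878
theorem N82128 : nd 82128 = n178879 := ndS (p := 48043) (l := 6) rfl N48043 D178879
theorem N82129 : nd 82129 = n178880 := ndS (p := 48044) (l := 0) rfl N48044 D178880
theorem N82130 : nd 82130 = n178883 := ndS (p := 48044) (l := 7) rfl N48044 D178883
theorem N82131 : nd 82131 = n178884 := ndS (p := 48045) (l := 4) rfl N48045 D178884
theorem N82132 : nd 82132 = n178885 := ndS (p := 48046) (l := 4) rfl N48046 D178885
theorem N82133 : nd 82133 = n178886 := ndS (p := 48047) (l := 4) rfl N48047 D178886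
theorem N82134 : nd 82134 = n178890 := ndS (p := 48049) (l := 5) rfl N48049 D178890
theorem N82135 : nd 82135 = n178895 := ndS (p := 48051) (l := 1) rfl N48051 D178895
theorem N82136 : nd 82136 = n178896 := ndS (p := 48051) (l := 3) rfl N48051 D178896
theorem N82137 : nd 82137 = n178901 := ndS (p := 48052) (l := 5) rfl N48052 D178901
theorem N82138 : nd 82138 = n178902 := ndS (p := 48052) (l := 6) rfl N48052 D178902
theorem N82139 : nd 82139 = n178906 := ndS (p := 48054) (l := 2) rfl N48054 D178906
theorem N82140 : nd 82140 = n178907 := ndS (p := 48054) (l := 5) rfl N48054 D178907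
theorem N82141 : nd 82141 = n178908 := ndS (p := 48054) (l := 6) rfl N48054 D178908
theorem N82142 : nd 82142 = n178909 := ndS (p := 48055) (l := 6) rfl N48055 D178909
theorem N82143 : nd 82143 = n178915 := ndS (p := 48057) (l := 1) rfl N48057 D178915
theorem N82144 : nd 82144 = n178917 := ndS (p := 48057) (l := 5) rfl N48057 D178917
theorem N82145 : nd 82145 = n178918 := ndS (p := 48059) (l := 0) rfl N48059 D178918
theorem N82146 : nd 82146 = n178921 := ndS (p := 48059) (l := 4) rfl N48059 D178921
theorem N82147 : nd 82147 = n178929 := ndS (p := 48061) (l := 3) rfl N48061 D178929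
theorem N82148 : nd 82148 = n178930 := ndS (p := 48061) (l := 4) rfl N48061 D178930
theorem N82149 : nd 82149 = n178931 := ndS (p := 48061) (l := 5) rfl N48061 D178931
theorem N82150 : nd 82150 = n178932 := ndS (p := 48061) (l := 6) rfl N48061 D178932
theorem N82151 : nd 82151 = n178934 := ndS (p := 48062) (l := 3) rfl N48062 D178934
theorem N82152 : nd 82152 = n178936 := ndS (p := 48062) (l := 5) rfl N48062 D178936
theorem N82153 : nd 82153 = n178938 := ndS (p := 48063) (l := 6) rfl N48063 D178938
theorem N82154 : nd 82154 = n178939 := ndS (p := 48064) (l := 0) rfl N48064 D178939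
theorem N82155 : nd 82155 = n178940 := ndS (p := 48064) (l := 1) rfl N48064 D178940
theorem N82156 : nd 82156 = n178949 := ndS (p := 48065) (l := 4) rfl N48065 D178949
theorem N82157 : nd 82157 = n178955 := ndS (p := 48066) (l := 3) rfl N48066 D178955
theorem N82158 : nd 82158 = n178958 := ndS (p := 48068) (l := 0) rfl N48068 D178958
theorem N82159 : nd 82159 = n178959 := ndS (p := 48068) (l := 1) rfl N48068 D178959
theorem N82160 : nd 82160 = n178960 := ndS (p := 48068) (l := 2) rfl N48068 D178960
theorem N82161 : nd 82161 = n178964 := ndS (p := 48070) (l := 3) rfl N48070 D178964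
theorem N82162 : nd 82162 = n178965 := ndS (p := 48070) (l := 5) rfl N48070 D178965
theorem N82163 : nd 82163 = n178966 := ndS (p := 48070) (l := 6) rfl N48070 D178966
theorem N82164 : nd 82164 = n179010 := ndS (p := 48075) (l := 6) rfl N48075 D179010
theorem N82165 : nd 82165 = n179012 := ndS (p := 48078) (l := 3) rfl N48078 D179012
theorem N82166 : nd 82166 = n179013 := ndS (p := 48078) (l := 5) rfl N48078 D179013
theorem N82167 : nd 82167 = n179014 := ndS (p := 48078) (l := 6) rfl N48078 D179014
theorem N82168 : nd 82168 = n179036 := ndS (p := 48080) (l := 4) rfl N48080 D179036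
theorem N82169 : nd 82169 = n179061 := ndS (p := 48085) (l := 3) rfl N48085 D179061
theorem N82170 : nd 82170 = n179063 := ndS (p := 48085) (l := 5) rfl N48085 D179063
theorem N82171 : nd 82171 = n179064 := ndS (p := 48085) (l := 6) rfl N48085 D179064
theorem N82172 : nd 82172 = n179092 := ndS (p := 48087) (l := 6) rfl N48087 D179092
theorem N82173 : nd 82173 = n179093 := ndS (p := 48088) (l := 3) rfl N48088 D179093
theorem N82174 : nd 82174 = n179099 := ndS (p := 48090) (l := 0) rfl N48090 D179099
theorem N82175 : nd 82175 = n179100 := ndS (p := 48090) (l := 1) rfl N48090 D179100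
theorem N82176 : nd 82176 = n179101 := ndS (p := 48090) (l := 4) rfl N48090 D179101
theorem N82177 : nd 82177 = n179102 := ndS (p := 48090) (l := 6) rfl N48090 D179102
theorem N82178 : nd 82178 = n179114 := ndS (p := 48091) (l := 2) rfl N48091 D179114
theorem N82179 : nd 82179 = n179115 := ndS (p := 48091) (l := 4) rfl N48091 D179115
theorem N82180 : nd 82180 = n179116 := ndS (p := 48091) (l := 6) rfl N48091 D179116
theorem N82181 : nd 82181 = n179118 := ndS (p := 48093) (l := 3) rfl N48093 D179118
theorem N82182 : nd 82182 = n179121 := ndS (p := 48093) (l := 6) rfl N48093 D179121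
theorem N82183 : nd 82183 = n179128 := ndS (p := 48096) (l := 0) rfl N48096 D179128
theorem N82184 : nd 82184 = n179129 := ndS (p := 48096) (l := 1) rfl N48096 D179129
theorem N82185 : nd 82185 = n179157 := ndS (p := 48099) (l := 2) rfl N48099 D179157
theorem N82186 : nd 82186 = n179158 := ndS (p := 48099) (l := 5) rfl N48099 D179158
theorem N82187 : nd 82187 = n179164 := ndS (p := 48101) (l := 0) rfl N48101 D179164
theorem N82188 : nd 82188 = n179166 := ndS (p := 48101) (l := 5) rfl N48101 D179166
theorem N82189 : nd 82189 = n179168 := ndS (p := 48102) (l := 3) rfl N48102 D179168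
theorem N82190 : nd 82190 = n179170 := ndS (p := 48102) (l := 6) rfl N48102 D179170
theorem N82191 : nd 82191 = n179221 := ndS (p := 48109) (l := 3) rfl N48109 D179221
theorem N82192 : nd 82192 = n179222 := ndS (p := 48109) (l := 4) rfl N48109 D179222
theorem N82193 : nd 82193 = n179226 := ndS (p := 48110) (l := 3) rfl N48110 D179226
theorem N82194 : nd 82194 = n179227 := ndS (p := 48110) (l := 4) rfl N48110 D179227
theorem N82195 : nd 82195 = n179229 := ndS (p := 48110) (l := 6) rfl N48110 D179229
theorem N82196 : nd 82196 = n179244 := ndS (p := 48113) (l := 6) rfl N48113 D179244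
theorem N82197 : nd 82197 = n179247 := ndS (p := 48114) (l := 3) rfl N48114 D179247
theorem N82198 : nd 82198 = n179249 := ndS (p := 48114) (l := 5) rfl N48114 D179249
theorem N82199 : nd 82199 = n179252 := ndS (p := 48115) (l := 1) rfl N48115 D179252
theorem N82200 : nd 82200 = n179253 := ndS (p := 48115) (l := 2) rfl N48115 D179253
theorem N82201 : nd 82201 = n179254 := ndS (p := 48115) (l := 4) rfl N48115 D179254
theorem N82202 : nd 82202 = n179255 := ndS (p := 48115) (l := 5) rfl N48115 D179255
theorem N82203 : nd 82203 = n179256 := ndS (p := 48115) (l := 6) rfl N48115 D179256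
theorem N82204 : nd 82204 = n179257 := ndS (p := 48115) (l := 7) rfl N48115 D179257
theorem N82205 : nd 82205 = n179264 := ndS (p := 48116) (l := 0) rfl N48116 D179264
theorem N82206 : nd 82206 = n179266 := ndS (p := 48116) (l := 4) rfl N48116 D179266
theorem N82207 : nd 82207 = n179267 := ndS (p := 48116) (l := 6) rfl N48116 D179267
theorem N82208 : nd 82208 = n179268 := ndS (p := 48116) (l := 7) rfl N48116 D179268
theorem N82209 : nd 82209 = n179271 := ndS (p := 48117) (l := 5) rfl N48117 D179271
theorem N82210 : nd 82210 = n179276 := ndS (p := 48119) (l := 2) rfl N48119 D179276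
theorem N82211 : nd 82211 = n179277 := ndS (p := 48119) (l := 4) rfl N48119 D179277
theorem N82212 : nd 82212 = n179278 := ndS (p := 48119) (l := 5) rfl N48119 D179278
theorem N82213 : nd 82213 = n179279 := ndS (p := 48119) (l := 6) rfl N48119 D179279
theorem N82214 : nd 82214 = n179286 := ndS (p := 48121) (l := 1) rfl N48121 D179286
theorem N82215 : nd 82215 = n179299 := ndS (p := 48122) (l := 4) rfl N48122 D179299
theorem N82216 : nd 82216 = n179312 := ndS (p := 48125) (l := 1) rfl N48125 D179312
theorem N82217 : nd 82217 = n179313 := ndS (p := 48125) (l := 5) rfl N48125 D179313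
theorem N82218 : nd 82218 = n179317 := ndS (p := 48127) (l := 0) rfl N48127 D179317
theorem N82219 : nd 82219 = n179318 := ndS (p := 48127) (l := 1) rfl N48127 D179318
theorem N82220 : nd 82220 = n179371 := ndS (p := 48130) (l := 6) rfl N48130 D179371
theorem N82221 : nd 82221 = n179541 := ndS (p := 48135) (l := 6) rfl N48135 D179541
theorem N82222 : nd 82222 = n179559 := ndS (p := 48139) (l := 1) rfl N48139 D179559
theorem N82223 : nd 82223 = n179561 := ndS (p := 48140) (l := 1) rfl N48140 D179561
theorem N82224 : nd 82224 = n179562 := ndS (p := 48140) (l := 2) rfl N48140 D179562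
theorem N82225 : nd 82225 = n179594 := ndS (p := 48143) (l := 3) rfl N48143 D179594
theorem N82226 : nd 82226 = n179596 := ndS (p := 48143) (l := 6) rfl N48143 D179596
theorem N82227 : nd 82227 = n179597 := ndS (p := 48144) (l := 0) rfl N48144 D179597
theorem N82228 : nd 82228 = n179598 := ndS (p := 48144) (l := 1) rfl N48144 D179598
theorem N82229 : nd 82229 = n179602 := ndS (p := 48145) (l := 6) rfl N48145 D179602
theorem N82230 : nd 82230 = n179609 := ndS (p := 48149) (l := 3) rfl N48149 D179609
theorem N82231 : nd 82231 = n179610 := ndS (p := 48149) (l := 5) rfl N48149 D179610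
theorem N82232 : nd 82232 = n179631 := ndS (p := 48152) (l := 0) rfl N48152 D179631
theorem N82233 : nd 82233 = n179632 := ndS (p := 48152) (l := 2) rfl N48152 D179632
theorem N82234 : nd 82234 = n179637 := ndS (p := 48153) (l := 2) rfl N48153 D179637
theorem N82235 : nd 82235 = n179638 := ndS (p := 48153) (l := 4) rfl N48153 D179638
theorem N82236 : nd 82236 = n179640 := ndS (p := 48154) (l := 3) rfl N48154 D179640
theorem N82237 : nd 82237 = n179642 := ndS (p := 48155) (l := 3) rfl N48155 D179642
theorem N82238 : nd 82238 = n179651 := ndS (p := 48160) (l := 0) rfl N48160 D179651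
theorem N82239 : nd 82239 = n179652 := ndS (p := 48160) (l := 1) rfl N48160 D179652
theorem N82240 : nd 82240 = n179653 := ndS (p := 48160) (l := 2) rfl N48160 D179653
theorem N82241 : nd 82241 = n179660 := ndS (p := 48161) (l := 3) rfl N48161 D179660
theorem N82242 : nd 82242 = n179663 := ndS (p := 48162) (l := 4) rfl N48162 D179663
theorem N82243 : nd 82243 = n179685 := ndS (p := 48166) (l := 5) rfl N48166 D179685
theorem N82244 : nd 82244 = n179688 := ndS (p := 48167) (l := 4) rfl N48167 D179688
theorem N82245 : nd 82245 = n179710 := ndS (p := 48168) (l := 5) rfl N48168 D179710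
theorem N82246 : nd 82246 = n179712 := ndS (p := 48169) (l := 3) rfl N48169 D179712
theorem N82247 : nd 82247 = n179714 := ndS (p := 48170) (l := 0) rfl N48170 D179714
theorem N82248 : nd 82248 = n179715 := ndS (p := 48170) (l := 1) rfl N48170 D179715
theorem N82249 : nd 82249 = n179716 := ndS (p := 48170) (l := 5) rfl N48170 D179716
theorem N82250 : nd 82250 = n179717 := ndS (p := 48170) (l := 7) rfl N48170 D179717
theorem N82251 : nd 82251 = n179718 := ndS (p := 48171) (l := 4) rfl N48171 D179718
theorem N82252 : nd 82252 = n179730 := ndS (p := 48174) (l := 4) rfl N48174 D179730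
theorem N82253 : nd 82253 = n179732 := ndS (p := 48175) (l := 4) rfl N48175 D179732
theorem N82254 : nd 82254 = n179733 := ndS (p := 48175) (l := 6) rfl N48175 D179733
theorem N82255 : nd 82255 = n179734 := ndS (p := 48176) (l := 5) rfl N48176 D179734
theorem N82256 : nd 82256 = n179736 := ndS (p := 48177) (l := 3) rfl N48177 D179736
theorem N82257 : nd 82257 = n179737 := ndS (p := 48177) (l := 4) rfl N48177 D179737
theorem N82258 : nd 82258 = n179741 := ndS (p := 48178) (l := 4) rfl N48178 D179741
theorem N82259 : nd 82259 = n179744 := ndS (p := 48179) (l := 1) rfl N48179 D179744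
theorem N82260 : nd 82260 = n179747 := ndS (p := 48179) (l := 6) rfl N48179 D179747
theorem N82261 : nd 82261 = n179748 := ndS (p := 48180) (l := 0) rfl N48180 D179748
theorem N82262 : nd 82262 = n179749 := ndS (p := 48180) (l := 1) rfl N48180 D179749
theorem N82263 : nd 82263 = n179750 := ndS (p := 48180) (l := 5) rfl N48180 D179750
theorem N82264 : nd 82264 = n179751 := ndS (p := 48180) (l := 7) rfl N48180 D179751
theorem N82265 : nd 82265 = n179752 := ndS (p := 48181) (l := 3) rfl N48181 D179752
theorem N82266 : nd 82266 = n179755 := ndS (p := 48183) (l := 0) rfl N48183 D179755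
theorem N82267 : nd 82267 = n179756 := ndS (p := 48183) (l := 1) rfl N48183 D179756
theorem N82268 : nd 82268 = n179757 := ndS (p := 48183) (l := 4) rfl N48183 D179757
theorem N82269 : nd 82269 = n179761 := ndS (p := 48184) (l := 2) rfl N48184 D179761
theorem N82270 : nd 82270 = n179763 := ndS (p := 48184) (l := 5) rfl N48184 D179763
theorem N82271 : nd 82271 = n179764 := ndS (p := 48184) (l := 6) rfl N48184 D179764
theorem N82272 : nd 82272 = n179769 := ndS (p := 48185) (l := 6) rfl N48185 D179769
theorem N82273 : nd 82273 = n179770 := ndS (p := 48187) (l := 0) rfl N48187 D179770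
theorem N82274 : nd 82274 = n179771 := ndS (p := 48187) (l := 1) rfl N48187 D179771
theorem N82275 : nd 82275 = n179776 := ndS (p := 48188) (l := 4) rfl N48188 D179776
theorem N82276 : nd 82276 = n179784 := ndS (p := 48190) (l := 3) rfl N48190 D179784
theorem N82277 : nd 82277 = n179786 := ndS (p := 48190) (l := 6) rfl N48190 D179786
theorem N82278 : nd 82278 = n179787 := ndS (p := 48191) (l := 3) rfl N48191 D179787
theorem N82279 : nd 82279 = n179795 := ndS (p := 48192) (l := 6) rfl N48192 D179795
theorem N82280 : nd 82280 = n179798 := ndS (p := 48193) (l := 5) rfl N48193 D179798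
theorem N82281 : nd 82281 = n179801 := ndS (p := 48194) (l := 3) rfl N48194 D179801
theorem N82282 : nd 82282 = n179802 := ndS (p := 48194) (l := 4) rfl N48194 D179802
theorem N82283 : nd 82283 = n179803 := ndS (p := 48194) (l := 5) rfl N48194 D179803
theorem N82284 : nd 82284 = n179807 := ndS (p := 48195) (l := 4) rfl N48195 D179807
theorem N82285 : nd 82285 = n179808 := ndS (p := 48195) (l := 5) rfl N48195 D179808
theorem N82286 : nd 82286 = n179810 := ndS (p := 48196) (l := 0) rfl N48196 D179810
theorem N82287 : nd 82287 = n179811 := ndS (p := 48196) (l := 1) rfl N48196 D179811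
theorem N82288 : nd 82288 = n179812 := ndS (p := 48196) (l := 4) rfl N48196 D179812
theorem N82289 : nd 82289 = n179813 := ndS (p := 48196) (l := 7) rfl N48196 D179813
theorem N82290 : nd 82290 = n179819 := ndS (p := 48199) (l := 1) rfl N48199 D179819
theorem N82291 : nd 82291 = n179821 := ndS (p := 48200) (l := 3) rfl N48200 D179821
theorem N82292 : nd 82292 = n179822 := ndS (p := 48200) (l := 4) rfl N48200 D179822
theorem N82293 : nd 82293 = n179823 := ndS (p := 48200) (l := 6) rfl N48200 D179823
theorem N82294 : nd 82294 = n179825 := ndS (p := 48201) (l := 1) rfl N48201 D179825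
theorem N82295 : nd 82295 = n179826 := ndS (p := 48201) (l := 3) rfl N48201 D179826
theorem N82296 : nd 82296 = n179846 := ndS (p := 48202) (l := 5) rfl N48202 D179846
theorem N82297 : nd 82297 = n179862 := ndS (p := 48207) (l := 4) rfl N48207 D179862
theorem N82298 : nd 82298 = n179863 := ndS (p := 48207) (l := 6) rfl N48207 D179863
theorem N82299 : nd 82299 = n179864 := ndS (p := 48208) (l := 3) rfl N48208 D179864
theorem N82300 : nd 82300 = n179866 := ndS (p := 48209) (l := 0) rfl N48209 D179866
theorem N82301 : nd 82301 = n179867 := ndS (p := 48209) (l := 1) rfl N48209 D179867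
theorem N82302 : nd 82302 = n179868 := ndS (p := 48209) (l := 7) rfl N48209 D179868
theorem N82303 : nd 82303 = n179881 := ndS (p := 48210) (l := 5) rfl N48210 D179881
theorem N82304 : nd 82304 = n179882 := ndS (p := 48211) (l := 6) rfl N48211 D179882
theorem N82305 : nd 82305 = n179884 := ndS (p := 48212) (l := 4) rfl N48212 D179884
theorem N82306 : nd 82306 = n179891 := ndS (p := 48213) (l := 4) rfl N48213 D179891
theorem N82307 : nd 82307 = n179892 := ndS (p := 48214) (l := 4) rfl N48214 D179892
theorem N82308 : nd 82308 = n179895 := ndS (p := 48217) (l := 0) rfl N48217 D179895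
theorem N82309 : nd 82309 = n179897 := ndS (p := 48217) (l := 3) rfl N48217 D179897
theorem N82310 : nd 82310 = n179905 := ndS (p := 48220) (l := 3) rfl N48220 D179905
theorem N82311 : nd 82311 = n179906 := ndS (p := 48220) (l := 5) rfl N48220 D179906
theorem N82312 : nd 82312 = n179908 := ndS (p := 48221) (l := 5) rfl N48221 D179908
theorem N82313 : nd 82313 = n179910 := ndS (p := 48222) (l := 0) rfl N48222 D179910
theorem N82314 : nd 82314 = n179911 := ndS (p := 48222) (l := 1) rfl N48222 D179911
theorem N82315 : nd 82315 = n179913 := ndS (p := 48222) (l := 5) rfl N48222 D179913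
theorem N82316 : nd 82316 = n179918 := ndS (p := 48223) (l := 6) rfl N48223 D179918
theorem N82317 : nd 82317 = n179926 := ndS (p := 48225) (l := 4) rfl N48225 D179926
theorem N82318 : nd 82318 = n179929 := ndS (p := 48226) (l := 2) rfl N48226 D179929
theorem N82319 : nd 82319 = n179932 := ndS (p := 48227) (l := 0) rfl N48227 D179932
theorem N82320 : nd 82320 = n179934 := ndS (p := 48227) (l := 5) rfl N48227 D179934
theorem N82321 : nd 82321 = n179936 := ndS (p := 48230) (l := 5) rfl N48230 D179936
theorem N82322 : nd 82322 = n179937 := ndS (p := 48231) (l := 4) rfl N48231 D179937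
theorem N82323 : nd 82323 = n179940 := ndS (p := 48232) (l := 0) rfl N48232 D179940
theorem N82324 : nd 82324 = n179943 := ndS (p := 48232) (l := 5) rfl N48232 D179943
theorem N82325 : nd 82325 = n179946 := ndS (p := 48233) (l := 4) rfl N48233 D179946
theorem N82326 : nd 82326 = n179951 := ndS (p := 48234) (l := 4) rfl N48234 D179951
theorem N82327 : nd 82327 = n179952 := ndS (p := 48234) (l := 5) rfl N48234 D179952
theorem N82328 : nd 82328 = n179979 := ndS (p := 48236) (l := 5) rfl N48236 D179979
theorem N82329 : nd 82329 = n179980 := ndS (p := 48237) (l := 0) rfl N48237 D179980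
theorem N82330 : nd 82330 = n179981 := ndS (p := 48237) (l := 1) rfl N48237 D179981
theorem N82331 : nd 82331 = n179983 := ndS (p := 48237) (l := 5) rfl N48237 D179983
theorem N82332 : nd 82332 = n179985 := ndS (p := 48238) (l := 6) rfl N48238 D179985
theorem N82333 : nd 82333 = n179986 := ndS (p := 48239) (l := 5) rfl N48239 D179986
theorem N82334 : nd 82334 = n179989 := ndS (p := 48240) (l := 5) rfl N48240 D179989
theorem N82335 : nd 82335 = n179992 := ndS (p := 48242) (l := 6) rfl N48242 D179992
theorem N82336 : nd 82336 = n179993 := ndS (p := 48243) (l := 7) rfl N48243 D179993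
theorem N82337 : nd 82337 = n179994 := ndS (p := 48244) (l := 3) rfl N48244 D179994
theorem N82338 : nd 82338 = n179996 := ndS (p := 48246) (l := 3) rfl N48246 D179996
theorem N82339 : nd 82339 = n179997 := ndS (p := 48246) (l := 4) rfl N48246 D179997
theorem N82340 : nd 82340 = n180009 := ndS (p := 48248) (l := 4) rfl N48248 D180009
theorem N82341 : nd 82341 = n180012 := ndS (p := 48249) (l := 1) rfl N48249 D180012
theorem N82342 : nd 82342 = n180022 := ndS (p := 48250) (l := 3) rfl N48250 D180022
theorem N82343 : nd 82343 = n180023 := ndS (p := 48250) (l := 5) rfl N48250 D180023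
theorem N82344 : nd 82344 = n180024 := ndS (p := 48251) (l := 3) rfl N48251 D180024
theorem N82345 : nd 82345 = n180025 := ndS (p := 48251) (l := 5) rfl N48251 D180025
theorem N82346 : nd 82346 = n180033 := ndS (p := 48252) (l := 0) rfl N48252 D180033
theorem N82347 : nd 82347 = n180034 := ndS (p := 48252) (l := 4) rfl N48252 D180034
theorem N82348 : nd 82348 = n180035 := ndS (p := 48252) (l := 6) rfl N48252 D180035
theorem N82349 : nd 82349 = n180038 := ndS (p := 48253) (l := 5) rfl N48253 D180038
theorem N82350 : nd 82350 = n180111 := ndS (p := 48256) (l := 3) rfl N48256 D180111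
theorem N82351 : nd 82351 = n180112 := ndS (p := 48256) (l := 4) rfl N48256 D180112
theorem N82352 : nd 82352 = n180123 := ndS (p := 48258) (l := 3) rfl N48258 D180123
theorem N82353 : nd 82353 = n180131 := ndS (p := 48259) (l := 4) rfl N48259 D180131
theorem N82354 : nd 82354 = n180132 := ndS (p := 48259) (l := 6) rfl N48259 D180132
theorem N82355 : nd 82355 = n180133 := ndS (p := 48260) (l := 0) rfl N48260 D180133
theorem N82356 : nd 82356 = n180163 := ndS (p := 48261) (l := 4) rfl N48261 D180163
theorem N82357 : nd 82357 = n180166 := ndS (p := 48262) (l := 3) rfl N48262 D180166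
theorem N82358 : nd 82358 = n180168 := ndS (p := 48264) (l := 0) rfl N48264 D180168
theorem N82359 : nd 82359 = n180170 := ndS (p := 48264) (l := 2) rfl N48264 D180170
theorem N82360 : nd 82360 = n180171 := ndS (p := 48264) (l := 5) rfl N48264 D180171
theorem N82361 : nd 82361 = n180178 := ndS (p := 48266) (l := 4) rfl N48266 D180178
theorem N82362 : nd 82362 = n180182 := ndS (p := 48267) (l := 3) rfl N48267 D180182
theorem N82363 : nd 82363 = n180183 := ndS (p := 48267) (l := 4) rfl N48267 D180183
theorem N82364 : nd 82364 = n180218 := ndS (p := 48273) (l := 3) rfl N48273 D180218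
theorem N82365 : nd 82365 = n180231 := ndS (p := 48274) (l := 3) rfl N48274 D180231
theorem N82366 : nd 82366 = n180253 := ndS (p := 48278) (l := 1) rfl N48278 D180253
theorem N82367 : nd 82367 = n180255 := ndS (p := 48278) (l := 4) rfl N48278 D180255
theorem N82368 : nd 82368 = n180257 := ndS (p := 48278) (l := 6) rfl N48278 D180257
theorem N82369 : nd 82369 = n180259 := ndS (p := 48279) (l := 0) rfl N48279 D180259
theorem N82370 : nd 82370 = n180260 := ndS (p := 48279) (l := 1) rfl N48279 D180260
theorem N82371 : nd 82371 = n180263 := ndS (p := 48279) (l := 6) rfl N48279 D180263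
theorem N82372 : nd 82372 = n180270 := ndS (p := 48280) (l := 0) rfl N48280 D180270
theorem N82373 : nd 82373 = n180281 := ndS (p := 48281) (l := 3) rfl N48281 D180281
theorem N82374 : nd 82374 = n180282 := ndS (p := 48281) (l := 5) rfl N48281 D180282
theorem N82375 : nd 82375 = n180290 := ndS (p := 48282) (l := 4) rfl N48282 D180290
theorem N82376 : nd 82376 = n180303 := ndS (p := 48284) (l := 5) rfl N48284 D180303
theorem N82377 : nd 82377 = n180328 := ndS (p := 48287) (l := 0) rfl N48287 D180328
theorem N82378 : nd 82378 = n180329 := ndS (p := 48287) (l := 1) rfl N48287 D180329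
theorem N82379 : nd 82379 = n180331 := ndS (p := 48287) (l := 5) rfl N48287 D180331
theorem N82380 : nd 82380 = n180337 := ndS (p := 48289) (l := 1) rfl N48289 D180337
theorem N82381 : nd 82381 = n180338 := ndS (p := 48289) (l := 2) rfl N48289 D180338
theorem N82382 : nd 82382 = n180340 := ndS (p := 48289) (l := 6) rfl N48289 D180340
theorem N82383 : nd 82383 = n180343 := ndS (p := 48291) (l := 0) rfl N48291 D180343
theorem N82384 : nd 82384 = n180344 := ndS (p := 48291) (l := 1) rfl N48291 D180344
theorem N82385 : nd 82385 = n180350 := ndS (p := 48293) (l := 3) rfl N48293 D180350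
theorem N82386 : nd 82386 = n180351 := ndS (p := 48293) (l := 5) rfl N48293 D180351
theorem N82387 : nd 82387 = n180355 := ndS (p := 48294) (l := 6) rfl N48294 D180355
theorem N82388 : nd 82388 = n180358 := ndS (p := 48296) (l := 6) rfl N48296 D180358
theorem N82389 : nd 82389 = n180359 := ndS (p := 48297) (l := 0) rfl N48297 D180359
theorem N82390 : nd 82390 = n180360 := ndS (p := 48297) (l := 1) rfl N48297 D180360
theorem N82391 : nd 82391 = n180361 := ndS (p := 48297) (l := 7) rfl N48297 D180361
theorem N82392 : nd 82392 = n180363 := ndS (p := 48299) (l := 0) rfl N48299 D180363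
theorem N82393 : nd 82393 = n180364 := ndS (p := 48299) (l := 1) rfl N48299 D180364
theorem N82394 : nd 82394 = n180365 := ndS (p := 48299) (l := 3) rfl N48299 D180365
theorem N82395 : nd 82395 = n180366 := ndS (p := 48299) (l := 5) rfl N48299 D180366
theorem N82396 : nd 82396 = n180372 := ndS (p := 48301) (l := 2) rfl N48301 D180372
theorem N82397 : nd 82397 = n180373 := ndS (p := 48301) (l := 4) rfl N48301 D180373
theorem N82398 : nd 82398 = n180374 := ndS (p := 48301) (l := 6) rfl N48301 D180374
theorem N82399 : nd 82399 = n180375 := ndS (p := 48302) (l := 3) rfl N48302 D180375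
theorem N82400 : nd 82400 = n180376 := ndS (p := 48302) (l := 5) rfl N48302 D180376
theorem N82401 : nd 82401 = n180377 := ndS (p := 48302) (l := 6) rfl N48302 D180377
theorem N82402 : nd 82402 = n180382 := ndS (p := 48304) (l := 0) rfl N48304 D180382
theorem N82403 : nd 82403 = n180383 := ndS (p := 48304) (l := 1) rfl N48304 D180383
theorem N82404 : nd 82404 = n180384 := ndS (p := 48304) (l := 2) rfl N48304 D180384
theorem N82405 : nd 82405 = n180385 := ndS (p := 48304) (l := 5) rfl N48304 D180385
theorem N82406 : nd 82406 = n180386 := ndS (p := 48304) (l := 6) rfl N48304 D180386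
theorem N82407 : nd 82407 = n180387 := ndS (p := 48305) (l := 6) rfl N48305 D180387
theorem N82408 : nd 82408 = n180389 := ndS (p := 48306) (l := 5) rfl N48306 D180389
theorem N82409 : nd 82409 = n180390 := ndS (p := 48307) (l := 0) rfl N48307 D180390
theorem N82410 : nd 82410 = n180391 := ndS (p := 48307) (l := 1) rfl N48307 D180391
theorem N82411 : nd 82411 = n180393 := ndS (p := 48307) (l := 5) rfl N48307 D180393
theorem N82412 : nd 82412 = n180395 := ndS (p := 48308) (l := 6) rfl N48308 D180395
theorem N82413 : nd 82413 = n180403 := ndS (p := 48310) (l := 5) rfl N48310 D180403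
theorem N82414 : nd 82414 = n180404 := ndS (p := 48311) (l := 3) rfl N48311 D180404
theorem N82415 : nd 82415 = n180405 := ndS (p := 48311) (l := 5) rfl N48311 D180405
theorem N82416 : nd 82416 = n180407 := ndS (p := 48312) (l := 5) rfl N48312 D180407
theorem N82417 : nd 82417 = n180408 := ndS (p := 48312) (l := 6) rfl N48312 D180408
theorem N82418 : nd 82418 = n180409 := ndS (p := 48313) (l := 0) rfl N48313 D180409
theorem N82419 : nd 82419 = n180410 := ndS (p := 48313) (l := 1) rfl N48313 D180410
theorem N82420 : nd 82420 = n180411 := ndS (p := 48313) (l := 4) rfl N48313 D180411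
theorem N82421 : nd 82421 = n180412 := ndS (p := 48313) (l := 6) rfl N48313 D180412
theorem N82422 : nd 82422 = n180413 := ndS (p := 48314) (l := 0) rfl N48314 D180413
theorem N82423 : nd 82423 = n180414 := ndS (p := 48314) (l := 1) rfl N48314 D180414
theorem N82424 : nd 82424 = n180418 := ndS (p := 48315) (l := 0) rfl N48315 D180418
theorem N82425 : nd 82425 = n180431 := ndS (p := 48317) (l := 3) rfl N48317 D180431
theorem N82426 : nd 82426 = n180436 := ndS (p := 48319) (l := 0) rfl N48319 D180436
theorem N82427 : nd 82427 = n180437 := ndS (p := 48319) (l := 1) rfl N48319 D180437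
theorem N82428 : nd 82428 = n180439 := ndS (p := 48319) (l := 5) rfl N48319 D180439
theorem N82429 : nd 82429 = n180445 := ndS (p := 48321) (l := 2) rfl N48321 D180445
theorem N82430 : nd 82430 = n180446 := ndS (p := 48321) (l := 4) rfl N48321 D180446
theorem N82431 : nd 82431 = n180448 := ndS (p := 48322) (l := 3) rfl N48322 D180448
theorem N82432 : nd 82432 = n180449 := ndS (p := 48322) (l := 5) rfl N48322 D180449
theorem N82433 : nd 82433 = n180462 := ndS (p := 48325) (l := 4) rfl N48325 D180462
theorem N82434 : nd 82434 = n180467 := ndS (p := 48326) (l := 2) rfl N48326 D180467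
theorem N82435 : nd 82435 = n180475 := ndS (p := 48327) (l := 4) rfl N48327 D180475
theorem N82436 : nd 82436 = n180476 := ndS (p := 48327) (l := 5) rfl N48327 D180476
theorem N82437 : nd 82437 = n180480 := ndS (p := 48329) (l := 0) rfl N48329 D180480
theorem N82438 : nd 82438 = n180481 := ndS (p := 48329) (l := 1) rfl N48329 D180481
theorem N82439 : nd 82439 = n180482 := ndS (p := 48329) (l := 2) rfl N48329 D180482
theorem N82440 : nd 82440 = n180483 := ndS (p := 48330) (l := 3) rfl N48330 D180483
theorem N82441 : nd 82441 = n180485 := ndS (p := 48331) (l := 3) rfl N48331 D180485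
theorem N82442 : nd 82442 = n180488 := ndS (p := 48332) (l := 6) rfl N48332 D180488
theorem N82443 : nd 82443 = n180491 := ndS (p := 48334) (l := 0) rfl N48334 D180491
theorem N82444 : nd 82444 = n180492 := ndS (p := 48334) (l := 1) rfl N48334 D180492
theorem N82445 : nd 82445 = n180493 := ndS (p := 48334) (l := 5) rfl N48334 D180493
theorem N82446 : nd 82446 = n180499 := ndS (p := 48336) (l := 5) rfl N48336 D180499
theorem N82447 : nd 82447 = n180507 := ndS (p := 48337) (l := 0) rfl N48337 D180507
theorem N82448 : nd 82448 = n180509 := ndS (p := 48337) (l := 4) rfl N48337 D180509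
theorem N82449 : nd 82449 = n180526 := ndS (p := 48339) (l := 5) rfl N48339 D180526
theorem N82450 : nd 82450 = n180533 := ndS (p := 48341) (l := 5) rfl N48341 D180533
theorem N82451 : nd 82451 = n180564 := ndS (p := 48346) (l := 6) rfl N48346 D180564
theorem N82452 : nd 82452 = n180574 := ndS (p := 48348) (l := 5) rfl N48348 D180574
theorem N82453 : nd 82453 = n180579 := ndS (p := 48349) (l := 5) rfl N48349 D180579
theorem N82454 : nd 82454 = n180588 := ndS (p := 48352) (l := 3) rfl N48352 D180588
theorem N82455 : nd 82455 = n180590 := ndS (p := 48353) (l := 3) rfl N48353 D180590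
theorem N82456 : nd 82456 = n180599 := ndS (p := 48355) (l := 3) rfl N48355 D180599
theorem N82457 : nd 82457 = n180600 := ndS (p := 48355) (l := 4) rfl N48355 D180600
theorem N82458 : nd 82458 = n180601 := ndS (p := 48355) (l := 5) rfl N48355 D180601
theorem N82459 : nd 82459 = n180606 := ndS (p := 48356) (l := 5) rfl N48356 D180606
theorem N82460 : nd 82460 = n180609 := ndS (p := 48357) (l := 1) rfl N48357 D180609
theorem N82461 : nd 82461 = n180610 := ndS (p := 48357) (l := 4) rfl N48357 D180610
theorem N82462 : nd 82462 = n180611 := ndS (p := 48357) (l := 7) rfl N48357 D180611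
theorem N82463 : nd 82463 = n180619 := ndS (p := 48360) (l := 6) rfl N48360 D180619
theorem N82464 : nd 82464 = n180621 := ndS (p := 48362) (l := 5) rfl N48362 D180621
theorem N82465 : nd 82465 = n180622 := ndS (p := 48362) (l := 6) rfl N48362 D180622
theorem N82466 : nd 82466 = n180623 := ndS (p := 48363) (l := 1) rfl N48363 D180623
theorem N82467 : nd 82467 = n180625 := ndS (p := 48364) (l := 0) rfl N48364 D180625
theorem N82468 : nd 82468 = n180626 := ndS (p := 48364) (l := 1) rfl N48364 D180626
theorem N82469 : nd 82469 = n180627 := ndS (p := 48364) (l := 5) rfl N48364 D180627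
theorem N82470 : nd 82470 = n180628 := ndS (p := 48364) (l := 7) rfl N48364 D180628
theorem N82471 : nd 82471 = n180629 := ndS (p := 48365) (l := 3) rfl N48365 D180629
theorem N82472 : nd 82472 = n180630 := ndS (p := 48365) (l := 5) rfl N48365 D180630
theorem N82473 : nd 82473 = n180632 := ndS (p := 48366) (l := 5) rfl N48366 D180632
theorem N82474 : nd 82474 = n180634 := ndS (p := 48367) (l := 1) rfl N48367 D180634
theorem N82475 : nd 82475 = n180635 := ndS (p := 48367) (l := 2) rfl N48367 D180635
theorem N82476 : nd 82476 = n180636 := ndS (p := 48367) (l := 5) rfl N48367 D180636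
theorem N82477 : nd 82477 = n180637 := ndS (p := 48367) (l := 6) rfl N48367 D180637
theorem N82478 : nd 82478 = n180638 := ndS (p := 48368) (l := 0) rfl N48368 D180638
theorem N82479 : nd 82479 = n180639 := ndS (p := 48368) (l := 1) rfl N48368 D180639
theorem N82480 : nd 82480 = n180640 := ndS (p := 48368) (l := 4) rfl N48368 D180640
theorem N82481 : nd 82481 = n180641 := ndS (p := 48368) (l := 6) rfl N48368 D180641
theorem N82482 : nd 82482 = n180642 := ndS (p := 48369) (l := 0) rfl N48369 D180642
theorem N82483 : nd 82483 = n180643 := ndS (p := 48369) (l := 1) rfl N48369 D180643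
theorem N82484 : nd 82484 = n180644 := ndS (p := 48369) (l := 5) rfl N48369 D180644
theorem N82485 : nd 82485 = n180645 := ndS (p := 48369) (l := 7) rfl N48369 D180645
theorem N82486 : nd 82486 = n180646 := ndS (p := 48370) (l := 1) rfl N48370 D180646
theorem N82487 : nd 82487 = n180647 := ndS (p := 48370) (l := 3) rfl N48370 D180647
theorem N82488 : nd 82488 = n180648 := ndS (p := 48370) (l := 5) rfl N48370 D180648
theorem N82489 : nd 82489 = n180649 := ndS (p := 48370) (l := 6) rfl N48370 D180649
theorem N82490 : nd 82490 = n180653 := ndS (p := 48371) (l := 7) rfl N48371 D180653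
theorem N82491 : nd 82491 = n180664 := ndS (p := 48373) (l := 0) rfl N48373 D180664
theorem N82492 : nd 82492 = n180669 := ndS (p := 48376) (l := 4) rfl N48376 D180669
theorem N82493 : nd 82493 = n180671 := ndS (p := 48377) (l := 3) rfl N48377 D180671
theorem N82494 : nd 82494 = n180672 := ndS (p := 48377) (l := 5) rfl N48377 D180672
theorem N82495 : nd 82495 = n180673 := ndS (p := 48377) (l := 6) rfl N48377 D180673
theorem N82496 : nd 82496 = n180674 := ndS (p := 48378) (l := 6) rfl N48378 D180674
theorem N82497 : nd 82497 = n180682 := ndS (p := 48381) (l := 4) rfl N48381 D180682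
theorem N82498 : nd 82498 = n180688 := ndS (p := 48383) (l := 3) rfl N48383 D180688
theorem N82499 : nd 82499 = n180689 := ndS (p := 48383) (l := 5) rfl N48383 D180689
theorem N82500 : nd 82500 = n180690 := ndS (p := 48383) (l := 6) rfl N48383 D180690
theorem N82501 : nd 82501 = n180739 := ndS (p := 48390) (l := 5) rfl N48390 D180739
theorem N82502 : nd 82502 = n180745 := ndS (p := 48391) (l := 6) rfl N48391 D180745
theorem N82503 : nd 82503 = n180746 := ndS (p := 48392) (l := 0) rfl N48392 D180746
theorem N82504 : nd 82504 = n180747 := ndS (p := 48392) (l := 1) rfl N48392 D180747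
theorem N82505 : nd 82505 = n180749 := ndS (p := 48392) (l := 7) rfl N48392 D180749
theorem N82506 : nd 82506 = n180777 := ndS (p := 48394) (l := 0) rfl N48394 D180777
theorem N82507 : nd 82507 = n180778 := ndS (p := 48394) (l := 1) rfl N48394 D180778
theorem N82508 : nd 82508 = n180779 := ndS (p := 48394) (l := 2) rfl N48394 D180779
theorem N82509 : nd 82509 = n180781 := ndS (p := 48395) (l := 1) rfl N48395 D180781
theorem N82510 : nd 82510 = n180787 := ndS (p := 48397) (l := 3) rfl N48397 D180787
theorem N82511 : nd 82511 = n180788 := ndS (p := 48397) (l := 6) rfl N48397 D180788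
theorem N82512 : nd 82512 = n180789 := ndS (p := 48398) (l := 5) rfl N48398 D180789
theorem N82513 : nd 82513 = n180790 := ndS (p := 48399) (l := 4) rfl N48399 D180790
theorem N82514 : nd 82514 = n180791 := ndS (p := 48399) (l := 6) rfl N48399 D180791
theorem N82515 : nd 82515 = n180792 := ndS (p := 48400) (l := 0) rfl N48400 D180792
theorem N82516 : nd 82516 = n180794 := ndS (p := 48400) (l := 7) rfl N48400 D180794
theorem N82517 : nd 82517 = n180796 := ndS (p := 48401) (l := 1) rfl N48401 D180796
theorem N82518 : nd 82518 = n180798 := ndS (p := 48401) (l := 5) rfl N48401 D180798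
theorem N82519 : nd 82519 = n180804 := ndS (p := 48402) (l := 6) rfl N48402 D180804
theorem N82520 : nd 82520 = n180805 := ndS (p := 48403) (l := 3) rfl N48403 D180805
theorem N82521 : nd 82521 = n180806 := ndS (p := 48403) (l := 5) rfl N48403 D180806
theorem N82522 : nd 82522 = n180807 := ndS (p := 48403) (l := 6) rfl N48403 D180807
theorem N82523 : nd 82523 = n180813 := ndS (p := 48405) (l := 1) rfl N48405 D180813
theorem N82524 : nd 82524 = n180815 := ndS (p := 48405) (l := 5) rfl N48405 D180815
theorem N82525 : nd 82525 = n180817 := ndS (p := 48407) (l := 4) rfl N48407 D180817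
theorem N82526 : nd 82526 = n180820 := ndS (p := 48408) (l := 6) rfl N48408 D180820
theorem N82527 : nd 82527 = n180879 := ndS (p := 48413) (l := 6) rfl N48413 D180879
theorem N82528 : nd 82528 = n180886 := ndS (p := 48414) (l := 7) rfl N48414 D180886
theorem N82529 : nd 82529 = n181007 := ndS (p := 48416) (l := 3) rfl N48416 D181007
theorem N82530 : nd 82530 = n181008 := ndS (p := 48416) (l := 5) rfl N48416 D181008
theorem N82531 : nd 82531 = n181034 := ndS (p := 48424) (l := 3) rfl N48424 D181034
theorem N82532 : nd 82532 = n181132 := ndS (p := 48434) (l := 3) rfl N48434 D181132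
theorem N82533 : nd 82533 = n181133 := ndS (p := 48434) (l := 5) rfl N48434 D181133
theorem N82534 : nd 82534 = n181139 := ndS (p := 48435) (l := 0) rfl N48435 D181139
theorem N82535 : nd 82535 = n181140 := ndS (p := 48435) (l := 1) rfl N48435 D181140
theorem N82536 : nd 82536 = n181141 := ndS (p := 48435) (l := 2) rfl N48435 D181141
theorem N82537 : nd 82537 = n181142 := ndS (p := 48435) (l := 5) rfl N48435 D181142
theorem N82538 : nd 82538 = n181144 := ndS (p := 48436) (l := 0) rfl N48436 D181144
theorem N82539 : nd 82539 = n181145 := ndS (p := 48436) (l := 1) rfl N48436 D181145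
theorem N82540 : nd 82540 = n181149 := ndS (p := 48437) (l := 6) rfl N48437 D181149
theorem N82541 : nd 82541 = n181152 := ndS (p := 48438) (l := 5) rfl N48438 D181152
theorem N82542 : nd 82542 = n181153 := ndS (p := 48439) (l := 0) rfl N48439 D181153
theorem N82543 : nd 82543 = n181154 := ndS (p := 48440) (l := 3) rfl N48440 D181154
theorem N82544 : nd 82544 = n181155 := ndS (p := 48440) (l := 5) rfl N48440 D181155
theorem N82545 : nd 82545 = n181198 := ndS (p := 48445) (l := 3) rfl N48445 D181198
theorem N82546 : nd 82546 = n181208 := ndS (p := 48446) (l := 7) rfl N48446 D181208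
theorem N82547 : nd 82547 = n181222 := ndS (p := 48448) (l := 5) rfl N48448 D181222
theorem N82548 : nd 82548 = n181228 := ndS (p := 48449) (l := 1) rfl N48449 D181228
theorem N82549 : nd 82549 = n181229 := ndS (p := 48449) (l := 2) rfl N48449 D181229
theorem N82550 : nd 82550 = n181231 := ndS (p := 48449) (l := 7) rfl N48449 D181231
theorem N82551 : nd 82551 = n181233 := ndS (p := 48450) (l := 1) rfl N48450 D181233
theorem N82552 : nd 82552 = n181234 := ndS (p := 48450) (l := 4) rfl N48450 D181234
theorem N82553 : nd 82553 = n181235 := ndS (p := 48450) (l := 6) rfl N48450 D181235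
theorem N82554 : nd 82554 = n181236 := ndS (p := 48450) (l := 7) rfl N48450 D181236
theorem N82555 : nd 82555 = n181285 := ndS (p := 48454) (l := 6) rfl N48454 D181285
theorem N82556 : nd 82556 = n181323 := ndS (p := 48458) (l := 3) rfl N48458 D181323
theorem N82557 : nd 82557 = n181400 := ndS (p := 48470) (l := 3) rfl N48470 D181400
theorem N82558 : nd 82558 = n181402 := ndS (p := 48470) (l := 6) rfl N48470 D181402
theorem N82559 : nd 82559 = n181423 := ndS (p := 48472) (l := 6) rfl N48472 D181423
theorem N82560 : nd 82560 = n181589 := ndS (p := 48479) (l := 4) rfl N48479 D181589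
theorem N82561 : nd 82561 = n181680 := ndS (p := 48484) (l := 3) rfl N48484 D181680
theorem N82562 : nd 82562 = n181681 := ndS (p := 48484) (l := 5) rfl N48484 D181681
theorem N82563 : nd 82563 = n181684 := ndS (p := 48486) (l := 5) rfl N48486 D181684
theorem N82564 : nd 82564 = n181686 := ndS (p := 48487) (l := 4) rfl N48487 D181686
theorem N82565 : nd 82565 = n181689 := ndS (p := 48488) (l := 3) rfl N48488 D181689
theorem N82566 : nd 82566 = n181690 := ndS (p := 48488) (l := 5) rfl N48488 D181690
theorem N82567 : nd 82567 = n181694 := ndS (p := 48489) (l := 0) rfl N48489 D181694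
theorem N82568 : nd 82568 = n181695 := ndS (p := 48489) (l := 1) rfl N48489 D181695
theorem N82569 : nd 82569 = n181696 := ndS (p := 48489) (l := 2) rfl N48489 D181696
theorem N82570 : nd 82570 = n181699 := ndS (p := 48490) (l := 0) rfl N48490 D181699
theorem N82571 : nd 82571 = n181700 := ndS (p := 48490) (l := 1) rfl N48490 D181700
theorem N82572 : nd 82572 = n181701 := ndS (p := 48490) (l := 2) rfl N48490 D181701
theorem N82573 : nd 82573 = n181703 := ndS (p := 48490) (l := 6) rfl N48490 D181703
theorem N82574 : nd 82574 = n181739 := ndS (p := 48496) (l := 5) rfl N48496 D181739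
theorem N82575 : nd 82575 = n181740 := ndS (p := 48496) (l := 6) rfl N48496 D181740
theorem N82576 : nd 82576 = n181743 := ndS (p := 48497) (l := 5) rfl N48497 D181743
theorem N82577 : nd 82577 = n181745 := ndS (p := 48498) (l := 4) rfl N48498 D181745
theorem N82578 : nd 82578 = n181746 := ndS (p := 48499) (l := 6) rfl N48499 D181746
theorem N82579 : nd 82579 = n181757 := ndS (p := 48504) (l := 5) rfl N48504 D181757
theorem N82580 : nd 82580 = n181759 := ndS (p := 48506) (l := 3) rfl N48506 D181759
theorem N82581 : nd 82581 = n181760 := ndS (p := 48506) (l := 5) rfl N48506 D181760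
theorem N82582 : nd 82582 = n181764 := ndS (p := 48507) (l := 6) rfl N48507 D181764
theorem N82583 : nd 82583 = n181766 := ndS (p := 48508) (l := 5) rfl N48508 D181766
theorem N82584 : nd 82584 = n181796 := ndS (p := 48511) (l := 3) rfl N48511 D181796
theorem N82585 : nd 82585 = n181800 := ndS (p := 48512) (l := 5) rfl N48512 D181800
theorem N82586 : nd 82586 = n181801 := ndS (p := 48513) (l := 0) rfl N48513 D181801
theorem N82587 : nd 82587 = n181802 := ndS (p := 48513) (l := 1) rfl N48513 D181802
theorem N82588 : nd 82588 = n181803 := ndS (p := 48513) (l := 4) rfl N48513 D181803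
theorem N82589 : nd 82589 = n181804 := ndS (p := 48513) (l := 6) rfl N48513 D181804
theorem N82590 : nd 82590 = n181879 := ndS (p := 48517) (l := 0) rfl N48517 D181879
theorem N82591 : nd 82591 = n181880 := ndS (p := 48517) (l := 1) rfl N48517 D181880
theorem N82592 : nd 82592 = n181881 := ndS (p := 48517) (l := 2) rfl N48517 D181881
theorem N82593 : nd 82593 = n181884 := ndS (p := 48518) (l := 1) rfl N48518 D181884
theorem N82594 : nd 82594 = n181885 := ndS (p := 48518) (l := 2) rfl N48518 D181885
theorem N82595 : nd 82595 = n181893 := ndS (p := 48520) (l := 3) rfl N48520 D181893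
theorem N82596 : nd 82596 = n181897 := ndS (p := 48521) (l := 5) rfl N48521 D181897
theorem N82597 : nd 82597 = n181899 := ndS (p := 48522) (l := 1) rfl N48522 D181899
theorem N82598 : nd 82598 = n181900 := ndS (p := 48522) (l := 4) rfl N48522 D181900
theorem N82599 : nd 82599 = n181905 := ndS (p := 48524) (l := 0) rfl N48524 D181905
theorem N82600 : nd 82600 = n181906 := ndS (p := 48524) (l := 1) rfl N48524 D181906
theorem N82601 : nd 82601 = n181907 := ndS (p := 48524) (l := 7) rfl N48524 D181907
theorem N82602 : nd 82602 = n181908 := ndS (p := 48525) (l := 0) rfl N48525 D181908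
theorem N82603 : nd 82603 = n181923 := ndS (p := 48526) (l := 5) rfl N48526 D181923
theorem N82604 : nd 82604 = n181927 := ndS (p := 48527) (l := 5) rfl N48527 D181927
theorem N82605 : nd 82605 = n181928 := ndS (p := 48528) (l := 0) rfl N48528 D181928
theorem N82606 : nd 82606 = n181930 := ndS (p := 48528) (l := 4) rfl N48528 D181930
theorem N82607 : nd 82607 = n181931 := ndS (p := 48528) (l := 6) rfl N48528 D181931
theorem N82608 : nd 82608 = n181932 := ndS (p := 48529) (l := 6) rfl N48529 D181932
theorem N82609 : nd 82609 = n181933 := ndS (p := 48530) (l := 0) rfl N48530 D181933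
theorem N82610 : nd 82610 = n181935 := ndS (p := 48530) (l := 7) rfl N48530 D181935
theorem N82611 : nd 82611 = n181939 := ndS (p := 48532) (l := 5) rfl N48532 D181939
theorem N82612 : nd 82612 = n181942 := ndS (p := 48533) (l := 4) rfl N48533 D181942
theorem N82613 : nd 82613 = n181945 := ndS (p := 48534) (l := 4) rfl N48534 D181945
theorem N82614 : nd 82614 = n181946 := ndS (p := 48534) (l := 5) rfl N48534 D181946
theorem N82615 : nd 82615 = n181948 := ndS (p := 48535) (l := 0) rfl N48535 D181948
theorem N82616 : nd 82616 = n181949 := ndS (p := 48535) (l := 1) rfl N48535 D181949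
theorem N82617 : nd 82617 = n181950 := ndS (p := 48535) (l := 4) rfl N48535 D181950
theorem N82618 : nd 82618 = n181951 := ndS (p := 48535) (l := 7) rfl N48535 D181951
theorem N82619 : nd 82619 = n181962 := ndS (p := 48537) (l := 4) rfl N48537 D181962
theorem N82620 : nd 82620 = n181965 := ndS (p := 48538) (l := 1) rfl N48538 D181965
theorem N82621 : nd 82621 = n181966 := ndS (p := 48538) (l := 2) rfl N48538 D181966
theorem N82622 : nd 82622 = n181967 := ndS (p := 48538) (l := 5) rfl N48538 D181967
theorem N82623 : nd 82623 = n181970 := ndS (p := 48540) (l := 0) rfl N48540 D181970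
theorem N82624 : nd 82624 = n181971 := ndS (p := 48540) (l := 3) rfl N48540 D181971
theorem N82625 : nd 82625 = n181973 := ndS (p := 48543) (l := 4) rfl N48543 D181973
theorem N82626 : nd 82626 = n181974 := ndS (p := 48543) (l := 6) rfl N48543 D181974
theorem N82627 : nd 82627 = n181977 := ndS (p := 48545) (l := 4) rfl N48545 D181977
theorem N82628 : nd 82628 = n181983 := ndS (p := 48548) (l := 4) rfl N48548 D181983
theorem N82629 : nd 82629 = n181992 := ndS (p := 48549) (l := 1) rfl N48549 D181992
theorem N82630 : nd 82630 = n182024 := ndS (p := 48551) (l := 5) rfl N48551 D182024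
theorem N82631 : nd 82631 = n182025 := ndS (p := 48552) (l := 4) rfl N48552 D182025
theorem N82632 : nd 82632 = n182030 := ndS (p := 48555) (l := 0) rfl N48555 D182030
theorem N82633 : nd 82633 = n182031 := ndS (p := 48555) (l := 1) rfl N48555 D182031
theorem N82634 : nd 82634 = n182032 := ndS (p := 48555) (l := 4) rfl N48555 D182032
theorem N82635 : nd 82635 = n182033 := ndS (p := 48555) (l := 7) rfl N48555 D182033
theorem N82636 : nd 82636 = n182034 := ndS (p := 48557) (l := 4) rfl N48557 D182034
theorem N82637 : nd 82637 = n182035 := ndS (p := 48557) (l := 6) rfl N48557 D182035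
theorem N82638 : nd 82638 = n182036 := ndS (p := 48558) (l := 4) rfl N48558 D182036
theorem N82639 : nd 82639 = n182037 := ndS (p := 48558) (l := 6) rfl N48558 D182037
theorem N82640 : nd 82640 = n182038 := ndS (p := 48559) (l := 3) rfl N48559 D182038
theorem N82641 : nd 82641 = n182039 := ndS (p := 48559) (l := 4) rfl N48559 D182039
theorem N82642 : nd 82642 = n182040 := ndS (p := 48559) (l := 6) rfl N48559 D182040
theorem N82643 : nd 82643 = n182041 := ndS (p := 48560) (l := 3) rfl N48560 D182041
theorem N82644 : nd 82644 = n182048 := ndS (p := 48562) (l := 5) rfl N48562 D182048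
theorem N82645 : nd 82645 = n182051 := ndS (p := 48563) (l := 4) rfl N48563 D182051
theorem N82646 : nd 82646 = n182053 := ndS (p := 48563) (l := 6) rfl N48563 D182053
theorem N82647 : nd 82647 = n182055 := ndS (p := 48564) (l := 3) rfl N48564 D182055
theorem N82648 : nd 82648 = n182056 := ndS (p := 48564) (l := 5) rfl N48564 D182056
theorem N82649 : nd 82649 = n182057 := ndS (p := 48564) (l := 6) rfl N48564 D182057
theorem N82650 : nd 82650 = n182060 := ndS (p := 48565) (l := 4) rfl N48565 D182060
theorem N82651 : nd 82651 = n182069 := ndS (p := 48566) (l := 5) rfl N48566 D182069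
theorem N82652 : nd 82652 = n182128 := ndS (p := 48568) (l := 3) rfl N48568 D182128
theorem N82653 : nd 82653 = n182131 := ndS (p := 48568) (l := 6) rfl N48568 D182131
theorem N82654 : nd 82654 = n182135 := ndS (p := 48569) (l := 6) rfl N48569 D182135
theorem N82655 : nd 82655 = n182136 := ndS (p := 48570) (l := 0) rfl N48570 D182136
theorem N82656 : nd 82656 = n182137 := ndS (p := 48570) (l := 1) rfl N48570 D182137
theorem N82657 : nd 82657 = n182138 := ndS (p := 48570) (l := 3) rfl N48570 D182138
theorem N82658 : nd 82658 = n182139 := ndS (p := 48570) (l := 5) rfl N48570 D182139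
theorem N82659 : nd 82659 = n182143 := ndS (p := 48571) (l := 4) rfl N48571 D182143
theorem N82660 : nd 82660 = n182144 := ndS (p := 48571) (l := 5) rfl N48571 D182144
theorem N82661 : nd 82661 = n182151 := ndS (p := 48572) (l := 5) rfl N48572 D182151
theorem N82662 : nd 82662 = n182152 := ndS (p := 48572) (l := 6) rfl N48572 D182152
theorem N82663 : nd 82663 = n182153 := ndS (p := 48573) (l := 0) rfl N48573 D182153
theorem N82664 : nd 82664 = n182154 := ndS (p := 48573) (l := 1) rfl N48573 D182154
theorem N82665 : nd 82665 = n182155 := ndS (p := 48573) (l := 4) rfl N48573 D182155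
theorem N82666 : nd 82666 = n182156 := ndS (p := 48573) (l := 6) rfl N48573 D182156
theorem N82667 : nd 82667 = n182158 := ndS (p := 48574) (l := 1) rfl N48574 D182158
theorem N82668 : nd 82668 = n182159 := ndS (p := 48575) (l := 3) rfl N48575 D182159
theorem N82669 : nd 82669 = n182160 := ndS (p := 48575) (l := 4) rfl N48575 D182160
theorem N82670 : nd 82670 = n182161 := ndS (p := 48575) (l := 6) rfl N48575 D182161
theorem N82671 : nd 82671 = n182164 := ndS (p := 48576) (l := 0) rfl N48576 D182164
theorem N82672 : nd 82672 = n182165 := ndS (p := 48576) (l := 1) rfl N48576 D182165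
theorem N82673 : nd 82673 = n182166 := ndS (p := 48576) (l := 3) rfl N48576 D182166
theorem N82674 : nd 82674 = n182167 := ndS (p := 48576) (l := 6) rfl N48576 D182167
theorem N82675 : nd 82675 = n182168 := ndS (p := 48577) (l := 0) rfl N48577 D182168
theorem N82676 : nd 82676 = n182169 := ndS (p := 48577) (l := 1) rfl N48577 D182169
theorem N82677 : nd 82677 = n182170 := ndS (p := 48577) (l := 7) rfl N48577 D182170
theorem N82678 : nd 82678 = n182176 := ndS (p := 48578) (l := 5) rfl N48578 D182176
theorem N82679 : nd 82679 = n182178 := ndS (p := 48579) (l := 5) rfl N48579 D182178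
theorem N82680 : nd 82680 = n182180 := ndS (p := 48580) (l := 0) rfl N48580 D182180
theorem N82681 : nd 82681 = n182181 := ndS (p := 48580) (l := 1) rfl N48580 D182181
theorem N82682 : nd 82682 = n182182 := ndS (p := 48580) (l := 4) rfl N48580 D182182
theorem N82683 : nd 82683 = n182183 := ndS (p := 48580) (l := 6) rfl N48580 D182183
theorem N82684 : nd 82684 = n182188 := ndS (p := 48583) (l := 0) rfl N48583 D182188
theorem N82685 : nd 82685 = n182189 := ndS (p := 48583) (l := 1) rfl N48583 D182189
theorem N82686 : nd 82686 = n182192 := ndS (p := 48584) (l := 2) rfl N48584 D182192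
theorem N82687 : nd 82687 = n182193 := ndS (p := 48584) (l := 4) rfl N48584 D182193
theorem N82688 : nd 82688 = n182194 := ndS (p := 48584) (l := 6) rfl N48584 D182194
theorem N82689 : nd 82689 = n182195 := ndS (p := 48585) (l := 0) rfl N48585 D182195
theorem N82690 : nd 82690 = n182196 := ndS (p := 48585) (l := 3) rfl N48585 D182196
theorem N82691 : nd 82691 = n182197 := ndS (p := 48585) (l := 6) rfl N48585 D182197
theorem N82692 : nd 82692 = n182198 := ndS (p := 48586) (l := 0) rfl N48586 D182198
theorem N82693 : nd 82693 = n182199 := ndS (p := 48586) (l := 1) rfl N48586 D182199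
theorem N82694 : nd 82694 = n182203 := ndS (p := 48587) (l := 2) rfl N48587 D182203
theorem N82695 : nd 82695 = n182204 := ndS (p := 48587) (l := 4) rfl N48587 D182204
theorem N82696 : nd 82696 = n182205 := ndS (p := 48587) (l := 6) rfl N48587 D182205
theorem N82697 : nd 82697 = n182211 := ndS (p := 48589) (l := 3) rfl N48589 D182211
theorem N82698 : nd 82698 = n182212 := ndS (p := 48589) (l := 6) rfl N48589 D182212
theorem N82699 : nd 82699 = n182213 := ndS (p := 48590) (l := 3) rfl N48590 D182213
theorem N82700 : nd 82700 = n182215 := ndS (p := 48591) (l := 0) rfl N48591 D182215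
theorem N82701 : nd 82701 = n182216 := ndS (p := 48591) (l := 1) rfl N48591 D182216
theorem N82702 : nd 82702 = n182217 := ndS (p := 48591) (l := 2) rfl N48591 D182217
theorem N82703 : nd 82703 = n182218 := ndS (p := 48591) (l := 5) rfl N48591 D182218
theorem N82704 : nd 82704 = n182219 := ndS (p := 48591) (l := 7) rfl N48591 D182219
theorem N82705 : nd 82705 = n182220 := ndS (p := 48592) (l := 6) rfl N48592 D182220
theorem N82706 : nd 82706 = n182221 := ndS (p := 48593) (l := 6) rfl N48593 D182221
theorem N82707 : nd 82707 = n182224 := ndS (p := 48595) (l := 5) rfl N48595 D182224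
theorem N82708 : nd 82708 = n182225 := ndS (p := 48596) (l := 4) rfl N48596 D182225
theorem N82709 : nd 82709 = n182226 := ndS (p := 48596) (l := 6) rfl N48596 D182226
theorem N82710 : nd 82710 = n182229 := ndS (p := 48597) (l := 5) rfl N48597 D182229
theorem N82711 : nd 82711 = n182236 := ndS (p := 48598) (l := 5) rfl N48598 D182236
theorem N82712 : nd 82712 = n182237 := ndS (p := 48598) (l := 6) rfl N48598 D182237
theorem N82713 : nd 82713 = n182238 := ndS (p := 48599) (l := 0) rfl N48599 D182238
theorem N82714 : nd 82714 = n182239 := ndS (p := 48599) (l := 1) rfl N48599 D182239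
theorem N82715 : nd 82715 = n182240 := ndS (p := 48599) (l := 4) rfl N48599 D182240
theorem N82716 : nd 82716 = n182241 := ndS (p := 48599) (l := 6) rfl N48599 D182241
theorem N82717 : nd 82717 = n182245 := ndS (p := 48601) (l := 3) rfl N48601 D182245
theorem N82718 : nd 82718 = n182246 := ndS (p := 48601) (l := 4) rfl N48601 D182246
theorem N82719 : nd 82719 = n182247 := ndS (p := 48601) (l := 6) rfl N48601 D182247
theorem N82720 : nd 82720 = n182248 := ndS (p := 48602) (l := 3) rfl N48602 D182248
theorem N82721 : nd 82721 = n182249 := ndS (p := 48602) (l := 4) rfl N48602 D182249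
theorem N82722 : nd 82722 = n182250 := ndS (p := 48602) (l := 6) rfl N48602 D182250
theorem N82723 : nd 82723 = n182251 := ndS (p := 48603) (l := 3) rfl N48603 D182251
theorem N82724 : nd 82724 = n182252 := ndS (p := 48603) (l := 6) rfl N48603 D182252
theorem N82725 : nd 82725 = n182253 := ndS (p := 48604) (l := 0) rfl N48604 D182253
theorem N82726 : nd 82726 = n182254 := ndS (p := 48604) (l := 1) rfl N48604 D182254
theorem N82727 : nd 82727 = n182255 := ndS (p := 48604) (l := 5) rfl N48604 D182255
theorem N82728 : nd 82728 = n182256 := ndS (p := 48604) (l := 7) rfl N48604 D182256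
theorem N82729 : nd 82729 = n182257 := ndS (p := 48607) (l := 3) rfl N48607 D182257
theorem N82730 : nd 82730 = n182258 := ndS (p := 48608) (l := 3) rfl N48608 D182258
theorem N82731 : nd 82731 = n182262 := ndS (p := 48609) (l := 5) rfl N48609 D182262
theorem N82732 : nd 82732 = n182265 := ndS (p := 48613) (l := 0) rfl N48613 D182265
theorem N82733 : nd 82733 = n182266 := ndS (p := 48613) (l := 4) rfl N48613 D182266
theorem N82734 : nd 82734 = n182267 := ndS (p := 48613) (l := 6) rfl N48613 D182267
theorem N82735 : nd 82735 = n182268 := ndS (p := 48614) (l := 0) rfl N48614 D182268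
theorem N82736 : nd 82736 = n182269 := ndS (p := 48615) (l := 3) rfl N48615 D182269
theorem N82737 : nd 82737 = n182271 := ndS (p := 48616) (l := 0) rfl N48616 D182271
theorem N82738 : nd 82738 = n182272 := ndS (p := 48616) (l := 1) rfl N48616 D182272
theorem N82739 : nd 82739 = n182273 := ndS (p := 48616) (l := 5) rfl N48616 D182273
theorem N82740 : nd 82740 = n182278 := ndS (p := 48620) (l := 6) rfl N48620 D182278
theorem N82741 : nd 82741 = n182279 := ndS (p := 48621) (l := 3) rfl N48621 D182279
theorem N82742 : nd 82742 = n182283 := ndS (p := 48622) (l := 0) rfl N48622 D182283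
theorem N82743 : nd 82743 = n182285 := ndS (p := 48622) (l := 3) rfl N48622 D182285
theorem N82744 : nd 82744 = n182290 := ndS (p := 48623) (l := 3) rfl N48623 D182290
theorem N82745 : nd 82745 = n182291 := ndS (p := 48624) (l := 3) rfl N48624 D182291
theorem N82746 : nd 82746 = n182292 := ndS (p := 48625) (l := 4) rfl N48625 D182292
theorem N82747 : nd 82747 = n182293 := ndS (p := 48626) (l := 0) rfl N48626 D182293
theorem N82748 : nd 82748 = n182294 := ndS (p := 48626) (l := 3) rfl N48626 D182294
theorem N82749 : nd 82749 = n182297 := ndS (p := 48627) (l := 4) rfl N48627 D182297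
theorem N82750 : nd 82750 = n182316 := ndS (p := 48629) (l := 3) rfl N48629 D182316
theorem N82751 : nd 82751 = n182317 := ndS (p := 48629) (l := 4) rfl N48629 D182317
theorem N82752 : nd 82752 = n182318 := ndS (p := 48629) (l := 5) rfl N48629 D182318
theorem N82753 : nd 82753 = n182325 := ndS (p := 48631) (l := 0) rfl N48631 D182325
theorem N82754 : nd 82754 = n182326 := ndS (p := 48631) (l := 1) rfl N48631 D182326
theorem N82755 : nd 82755 = n182327 := ndS (p := 48631) (l := 7) rfl N48631 D182327
theorem N82756 : nd 82756 = n182328 := ndS (p := 48632) (l := 0) rfl N48632 D182328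
theorem N82757 : nd 82757 = n182329 := ndS (p := 48632) (l := 1) rfl N48632 D182329
theorem N82758 : nd 82758 = n182330 := ndS (p := 48632) (l := 2) rfl N48632 D182330
theorem N82759 : nd 82759 = n182386 := ndS (p := 48633) (l := 4) rfl N48633 D182386
theorem N82760 : nd 82760 = n182387 := ndS (p := 48633) (l := 6) rfl N48633 D182387
theorem N82761 : nd 82761 = n182392 := ndS (p := 48634) (l := 0) rfl N48634 D182392
theorem N82762 : nd 82762 = n182393 := ndS (p := 48634) (l := 1) rfl N48634 D182393
theorem N82763 : nd 82763 = n182395 := ndS (p := 48634) (l := 7) rfl N48634 D182395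
theorem N82764 : nd 82764 = n182407 := ndS (p := 48635) (l := 4) rfl N48635 D182407
theorem N82765 : nd 82765 = n182409 := ndS (p := 48635) (l := 6) rfl N48635 D182409
theorem N82766 : nd 82766 = n182411 := ndS (p := 48636) (l := 3) rfl N48636 D182411
theorem N82767 : nd 82767 = n182415 := ndS (p := 48637) (l := 5) rfl N48637 D182415
theorem N82768 : nd 82768 = n182419 := ndS (p := 48639) (l := 0) rfl N48639 D182419
theorem N82769 : nd 82769 = n182420 := ndS (p := 48639) (l := 1) rfl N48639 D182420
theorem N82770 : nd 82770 = n182421 := ndS (p := 48639) (l := 4) rfl N48639 D182421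
theorem N82771 : nd 82771 = n182430 := ndS (p := 48640) (l := 7) rfl N48640 D182430
theorem N82772 : nd 82772 = n182434 := ndS (p := 48641) (l := 3) rfl N48641 D182434
theorem N82773 : nd 82773 = n182442 := ndS (p := 48643) (l := 6) rfl N48643 D182442
theorem N82774 : nd 82774 = n182446 := ndS (p := 48644) (l := 0) rfl N48644 D182446
theorem N82775 : nd 82775 = n182453 := ndS (p := 48645) (l := 4) rfl N48645 D182453
theorem N82776 : nd 82776 = n182488 := ndS (p := 48646) (l := 0) rfl N48646 D182488
theorem N82777 : nd 82777 = n182490 := ndS (p := 48646) (l := 7) rfl N48646 D182490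
theorem N82778 : nd 82778 = n182509 := ndS (p := 48647) (l := 0) rfl N48647 D182509
theorem N82779 : nd 82779 = n182510 := ndS (p := 48647) (l := 1) rfl N48647 D182510
theorem N82780 : nd 82780 = n182511 := ndS (p := 48647) (l := 2) rfl N48647 D182511
theorem N82781 : nd 82781 = n182512 := ndS (p := 48647) (l := 6) rfl N48647 D182512
theorem N82782 : nd 82782 = n182513 := ndS (p := 48648) (l := 0) rfl N48648 D182513
theorem N82783 : nd 82783 = n182514 := ndS (p := 48648) (l := 1) rfl N48648 D182514
theorem N82784 : nd 82784 = n182515 := ndS (p := 48648) (l := 5) rfl N48648 D182515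
theorem N82785 : nd 82785 = n182516 := ndS (p := 48648) (l := 7) rfl N48648 D182516
theorem N82786 : nd 82786 = n182518 := ndS (p := 48649) (l := 3) rfl N48649 D182518
theorem N82787 : nd 82787 = n182519 := ndS (p := 48649) (l := 4) rfl N48649 D182519
theorem N82788 : nd 82788 = n182524 := ndS (p := 48650) (l := 4) rfl N48650 D182524
theorem N82789 : nd 82789 = n182525 := ndS (p := 48650) (l := 5) rfl N48650 D182525
theorem N82790 : nd 82790 = n182526 := ndS (p := 48650) (l := 6) rfl N48650 D182526
theorem N82791 : nd 82791 = n182590 := ndS (p := 48652) (l := 3) rfl N48652 D182590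
theorem N82792 : nd 82792 = n182593 := ndS (p := 48652) (l := 6) rfl N48652 D182593
theorem N82793 : nd 82793 = n182599 := ndS (p := 48655) (l := 4) rfl N48655 D182599
theorem N82794 : nd 82794 = n182605 := ndS (p := 48657) (l := 3) rfl N48657 D182605
theorem N82795 : nd 82795 = n182631 := ndS (p := 48661) (l := 6) rfl N48661 D182631
theorem N82796 : nd 82796 = n182632 := ndS (p := 48662) (l := 3) rfl N48662 D182632
theorem N82797 : nd 82797 = n182692 := ndS (p := 48664) (l := 6) rfl N48664 D182692
theorem N82798 : nd 82798 = n182694 := ndS (p := 48665) (l := 3) rfl N48665 D182694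
theorem N82799 : nd 82799 = n182700 := ndS (p := 48667) (l := 0) rfl N48667 D182700
theorem N82800 : nd 82800 = n182701 := ndS (p := 48667) (l := 1) rfl N48667 D182701
theorem N82801 : nd 82801 = n182702 := ndS (p := 48667) (l := 4) rfl N48667 D182702
theorem N82802 : nd 82802 = n182716 := ndS (p := 48669) (l := 3) rfl N48669 D182716
theorem N82803 : nd 82803 = n182722 := ndS (p := 48670) (l := 6) rfl N48670 D182722
theorem N82804 : nd 82804 = n182766 := ndS (p := 48672) (l := 0) rfl N48672 D182766
theorem N82805 : nd 82805 = n182767 := ndS (p := 48672) (l := 1) rfl N48672 D182767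
theorem N82806 : nd 82806 = n182768 := ndS (p := 48672) (l := 2) rfl N48672 D182768
theorem N82807 : nd 82807 = n182769 := ndS (p := 48672) (l := 6) rfl N48672 D182769
theorem N82808 : nd 82808 = n182770 := ndS (p := 48673) (l := 0) rfl N48673 D182770
theorem N82809 : nd 82809 = n182771 := ndS (p := 48673) (l := 1) rfl N48673 D182771
theorem N82810 : nd 82810 = n182772 := ndS (p := 48673) (l := 5) rfl N48673 D182772
theorem N82811 : nd 82811 = n182773 := ndS (p := 48673) (l := 7) rfl N48673 D182773
theorem N82812 : nd 82812 = n182775 := ndS (p := 48674) (l := 3) rfl N48674 D182775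
theorem N82813 : nd 82813 = n182776 := ndS (p := 48674) (l := 4) rfl N48674 D182776
theorem N82814 : nd 82814 = n182777 := ndS (p := 48674) (l := 5) rfl N48674 D182777
theorem N82815 : nd 82815 = n182778 := ndS (p := 48674) (l := 6) rfl N48674 D182778
theorem N82816 : nd 82816 = n182848 := ndS (p := 48676) (l := 4) rfl N48676 D182848
theorem N82817 : nd 82817 = n182852 := ndS (p := 48677) (l := 3) rfl N48677 D182852
theorem N82818 : nd 82818 = n182853 := ndS (p := 48677) (l := 4) rfl N48677 D182853
theorem N82819 : nd 82819 = n182862 := ndS (p := 48680) (l := 1) rfl N48680 D182862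
theorem N82820 : nd 82820 = n182863 := ndS (p := 48680) (l := 7) rfl N48680 D182863
theorem N82821 : nd 82821 = n182878 := ndS (p := 48681) (l := 6) rfl N48681 D182878
theorem N82822 : nd 82822 = n182916 := ndS (p := 48682) (l := 5) rfl N48682 D182916
theorem N82823 : nd 82823 = n182917 := ndS (p := 48683) (l := 5) rfl N48683 D182917
theorem N82824 : nd 82824 = n182918 := ndS (p := 48684) (l := 0) rfl N48684 D182918
theorem N82825 : nd 82825 = n182919 := ndS (p := 48684) (l := 1) rfl N48684 D182919
theorem N82826 : nd 82826 = n182920 := ndS (p := 48684) (l := 5) rfl N48684 D182920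
theorem N82827 : nd 82827 = n182924 := ndS (p := 48685) (l := 4) rfl N48685 D182924
theorem N82828 : nd 82828 = n182925 := ndS (p := 48685) (l := 5) rfl N48685 D182925
theorem N82829 : nd 82829 = n182926 := ndS (p := 48685) (l := 6) rfl N48685 D182926
theorem N82830 : nd 82830 = n182927 := ndS (p := 48686) (l := 4) rfl N48686 D182927
theorem N82831 : nd 82831 = n182928 := ndS (p := 48686) (l := 5) rfl N48686 D182928
theorem N82832 : nd 82832 = n182929 := ndS (p := 48686) (l := 6) rfl N48686 D182929
theorem N82833 : nd 82833 = n182930 := ndS (p := 48687) (l := 0) rfl N48687 D182930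
theorem N82834 : nd 82834 = n182931 := ndS (p := 48687) (l := 1) rfl N48687 D182931
theorem N82835 : nd 82835 = n182932 := ndS (p := 48687) (l := 4) rfl N48687 D182932
theorem N82836 : nd 82836 = n182945 := ndS (p := 48688) (l := 4) rfl N48688 D182945
theorem N82837 : nd 82837 = n182947 := ndS (p := 48689) (l := 6) rfl N48689 D182947
theorem N82838 : nd 82838 = n182948 := ndS (p := 48690) (l := 3) rfl N48690 D182948
theorem N82839 : nd 82839 = n182962 := ndS (p := 48691) (l := 3) rfl N48691 D182962
theorem N82840 : nd 82840 = n182967 := ndS (p := 48692) (l := 7) rfl N48692 D182967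
theorem N82841 : nd 82841 = n182979 := ndS (p := 48694) (l := 0) rfl N48694 D182979
theorem N82842 : nd 82842 = n182981 := ndS (p := 48694) (l := 4) rfl N48694 D182981
theorem N82843 : nd 82843 = n182984 := ndS (p := 48695) (l := 1) rfl N48695 D182984
theorem N82844 : nd 82844 = n182986 := ndS (p := 48695) (l := 7) rfl N48695 D182986
theorem N82845 : nd 82845 = n182995 := ndS (p := 48696) (l := 5) rfl N48696 D182995
theorem N82846 : nd 82846 = n183001 := ndS (p := 48699) (l := 3) rfl N48699 D183001
theorem N82847 : nd 82847 = n183002 := ndS (p := 48699) (l := 5) rfl N48699 D183002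
theorem N82848 : nd 82848 = n183004 := ndS (p := 48700) (l := 5) rfl N48700 D183004
theorem N82849 : nd 82849 = n183006 := ndS (p := 48701) (l := 0) rfl N48701 D183006
theorem N82850 : nd 82850 = n183007 := ndS (p := 48701) (l := 1) rfl N48701 D183007
theorem N82851 : nd 82851 = n183008 := ndS (p := 48701) (l := 4) rfl N48701 D183008
theorem N82852 : nd 82852 = n183009 := ndS (p := 48701) (l := 7) rfl N48701 D183009
theorem N82853 : nd 82853 = n183010 := ndS (p := 48703) (l := 0) rfl N48703 D183010
theorem N82854 : nd 82854 = n183012 := ndS (p := 48703) (l := 4) rfl N48703 D183012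
theorem N82855 : nd 82855 = n183016 := ndS (p := 48704) (l := 0) rfl N48704 D183016
theorem N82856 : nd 82856 = n183017 := ndS (p := 48704) (l := 1) rfl N48704 D183017
theorem N82857 : nd 82857 = n183019 := ndS (p := 48704) (l := 6) rfl N48704 D183019
theorem N82858 : nd 82858 = n183025 := ndS (p := 48706) (l := 5) rfl N48706 D183025
theorem N82859 : nd 82859 = n183026 := ndS (p := 48706) (l := 6) rfl N48706 D183026
theorem N82860 : nd 82860 = n183029 := ndS (p := 48707) (l := 4) rfl N48707 D183029
theorem N82861 : nd 82861 = n183039 := ndS (p := 48709) (l := 6) rfl N48709 D183039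
theorem N82862 : nd 82862 = n183041 := ndS (p := 48710) (l := 3) rfl N48710 D183041
theorem N82863 : nd 82863 = n183042 := ndS (p := 48710) (l := 4) rfl N48710 D183042
theorem N82864 : nd 82864 = n183044 := ndS (p := 48710) (l := 6) rfl N48710 D183044
theorem N82865 : nd 82865 = n183045 := ndS (p := 48711) (l := 0) rfl N48711 D183045
theorem N82866 : nd 82866 = n183046 := ndS (p := 48711) (l := 1) rfl N48711 D183046
theorem N82867 : nd 82867 = n183047 := ndS (p := 48711) (l := 3) rfl N48711 D183047
theorem N82868 : nd 82868 = n183049 := ndS (p := 48711) (l := 7) rfl N48711 D183049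
theorem N82869 : nd 82869 = n183053 := ndS (p := 48713) (l := 5) rfl N48713 D183053
theorem N82870 : nd 82870 = n183083 := ndS (p := 48715) (l := 5) rfl N48715 D183083
theorem N82871 : nd 82871 = n183089 := ndS (p := 48716) (l := 4) rfl N48716 D183089
theorem N82872 : nd 82872 = n183090 := ndS (p := 48716) (l := 6) rfl N48716 D183090
theorem N82873 : nd 82873 = n183097 := ndS (p := 48717) (l := 4) rfl N48717 D183097
theorem N82874 : nd 82874 = n183098 := ndS (p := 48717) (l := 6) rfl N48717 D183098
theorem N82875 : nd 82875 = n183104 := ndS (p := 48719) (l := 3) rfl N48719 D183104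
theorem N82876 : nd 82876 = n183105 := ndS (p := 48719) (l := 4) rfl N48719 D183105
theorem N82877 : nd 82877 = n183107 := ndS (p := 48719) (l := 6) rfl N48719 D183107
theorem N82878 : nd 82878 = n183109 := ndS (p := 48720) (l := 4) rfl N48720 D183109
theorem N82879 : nd 82879 = n183110 := ndS (p := 48720) (l := 6) rfl N48720 D183110
theorem N82880 : nd 82880 = n183111 := ndS (p := 48721) (l := 0) rfl N48721 D183111
theorem N82881 : nd 82881 = n183112 := ndS (p := 48721) (l := 1) rfl N48721 D183112
theorem N82882 : nd 82882 = n183113 := ndS (p := 48721) (l := 3) rfl N48721 D183113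
theorem N82883 : nd 82883 = n183114 := ndS (p := 48721) (l := 5) rfl N48721 D183114
theorem N82884 : nd 82884 = n183115 := ndS (p := 48721) (l := 7) rfl N48721 D183115
theorem N82885 : nd 82885 = n183116 := ndS (p := 48722) (l := 6) rfl N48722 D183116
theorem N82886 : nd 82886 = n183117 := ndS (p := 48723) (l := 4) rfl N48723 D183117
theorem N82887 : nd 82887 = n183118 := ndS (p := 48723) (l := 5) rfl N48723 D183118
theorem N82888 : nd 82888 = n183119 := ndS (p := 48724) (l := 0) rfl N48724 D183119
theorem N82889 : nd 82889 = n183120 := ndS (p := 48724) (l := 1) rfl N48724 D183120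
theorem N82890 : nd 82890 = n183121 := ndS (p := 48724) (l := 4) rfl N48724 D183121
theorem N82891 : nd 82891 = n183122 := ndS (p := 48724) (l := 6) rfl N48724 D183122
theorem N82892 : nd 82892 = n183123 := ndS (p := 48725) (l := 0) rfl N48725 D183123
theorem N82893 : nd 82893 = n183124 := ndS (p := 48725) (l := 1) rfl N48725 D183124
theorem N82894 : nd 82894 = n183128 := ndS (p := 48727) (l := 3) rfl N48727 D183128
theorem N82895 : nd 82895 = n183129 := ndS (p := 48727) (l := 6) rfl N48727 D183129
theorem N82896 : nd 82896 = n183130 := ndS (p := 48728) (l := 0) rfl N48728 D183130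
theorem N82897 : nd 82897 = n183131 := ndS (p := 48728) (l := 1) rfl N48728 D183131
theorem N82898 : nd 82898 = n183132 := ndS (p := 48728) (l := 7) rfl N48728 D183132
theorem N82899 : nd 82899 = n183133 := ndS (p := 48729) (l := 3) rfl N48729 D183133
theorem N82900 : nd 82900 = n183134 := ndS (p := 48729) (l := 6) rfl N48729 D183134
theorem N82901 : nd 82901 = n183135 := ndS (p := 48730) (l := 0) rfl N48730 D183135
theorem N82902 : nd 82902 = n183136 := ndS (p := 48730) (l := 1) rfl N48730 D183136
theorem N82903 : nd 82903 = n183137 := ndS (p := 48730) (l := 5) rfl N48730 D183137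
theorem N82904 : nd 82904 = n183138 := ndS (p := 48730) (l := 7) rfl N48730 D183138
theorem N82905 : nd 82905 = n183141 := ndS (p := 48732) (l := 4) rfl N48732 D183141
theorem N82906 : nd 82906 = n183142 := ndS (p := 48732) (l := 6) rfl N48732 D183142
theorem N82907 : nd 82907 = n183143 := ndS (p := 48733) (l := 3) rfl N48733 D183143
theorem N82908 : nd 82908 = n183144 := ndS (p := 48733) (l := 6) rfl N48733 D183144
theorem N82909 : nd 82909 = n183145 := ndS (p := 48734) (l := 0) rfl N48734 D183145
theorem N82910 : nd 82910 = n183146 := ndS (p := 48734) (l := 1) rfl N48734 D183146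
theorem N82911 : nd 82911 = n183148 := ndS (p := 48734) (l := 7) rfl N48734 D183148
theorem N82912 : nd 82912 = n183149 := ndS (p := 48735) (l := 3) rfl N48735 D183149
theorem N82913 : nd 82913 = n183150 := ndS (p := 48735) (l := 6) rfl N48735 D183150
theorem N82914 : nd 82914 = n183151 := ndS (p := 48736) (l := 0) rfl N48736 D183151
theorem N82915 : nd 82915 = n183152 := ndS (p := 48736) (l := 1) rfl N48736 D183152
theorem N82916 : nd 82916 = n183153 := ndS (p := 48736) (l := 7) rfl N48736 D183153
theorem N82917 : nd 82917 = n183155 := ndS (p := 48737) (l := 6) rfl N48737 D183155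
theorem N82918 : nd 82918 = n183158 := ndS (p := 48738) (l := 0) rfl N48738 D183158
theorem N82919 : nd 82919 = n183159 := ndS (p := 48738) (l := 1) rfl N48738 D183159
theorem N82920 : nd 82920 = n183160 := ndS (p := 48738) (l := 2) rfl N48738 D183160
theorem N82921 : nd 82921 = n183161 := ndS (p := 48738) (l := 5) rfl N48738 D183161
theorem N82922 : nd 82922 = n183162 := ndS (p := 48738) (l := 7) rfl N48738 D183162
theorem N82923 : nd 82923 = n183163 := ndS (p := 48739) (l := 6) rfl N48739 D183163
theorem N82924 : nd 82924 = n183164 := ndS (p := 48740) (l := 6) rfl N48740 D183164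
theorem N82925 : nd 82925 = n183165 := ndS (p := 48741) (l := 0) rfl N48741 D183165
theorem N82926 : nd 82926 = n183166 := ndS (p := 48741) (l := 1) rfl N48741 D183166
theorem N82927 : nd 82927 = n183167 := ndS (p := 48742) (l := 4) rfl N48742 D183167
theorem N82928 : nd 82928 = n183168 := ndS (p := 48742) (l := 6) rfl N48742 D183168
theorem N82929 : nd 82929 = n183170 := ndS (p := 48743) (l := 1) rfl N48743 D183170
theorem N82930 : nd 82930 = n183172 := ndS (p := 48744) (l := 3) rfl N48744 D183172
theorem N82931 : nd 82931 = n183173 := ndS (p := 48744) (l := 6) rfl N48744 D183173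
theorem N82932 : nd 82932 = n183174 := ndS (p := 48745) (l := 0) rfl N48745 D183174
theorem N82933 : nd 82933 = n183175 := ndS (p := 48745) (l := 1) rfl N48745 D183175
theorem N82934 : nd 82934 = n183176 := ndS (p := 48745) (l := 7) rfl N48745 D183176
theorem N82935 : nd 82935 = n183181 := ndS (p := 48748) (l := 6) rfl N48748 D183181
theorem N82936 : nd 82936 = n183213 := ndS (p := 48749) (l := 6) rfl N48749 D183213
theorem N82937 : nd 82937 = n183216 := ndS (p := 48750) (l := 5) rfl N48750 D183216
theorem N82938 : nd 82938 = n183218 := ndS (p := 48751) (l := 6) rfl N48751 D183218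
theorem N82939 : nd 82939 = n183221 := ndS (p := 48752) (l := 5) rfl N48752 D183221
theorem N82940 : nd 82940 = n183224 := ndS (p := 48754) (l := 5) rfl N48754 D183224
theorem N82941 : nd 82941 = n183227 := ndS (p := 48757) (l := 0) rfl N48757 D183227
theorem N82942 : nd 82942 = n183228 := ndS (p := 48757) (l := 1) rfl N48757 D183228
theorem N82943 : nd 82943 = n183231 := ndS (p := 48758) (l := 4) rfl N48758 D183231
theorem N82944 : nd 82944 = n183232 := ndS (p := 48758) (l := 5) rfl N48758 D183232
theorem N82945 : nd 82945 = n183234 := ndS (p := 48759) (l := 5) rfl N48759 D183234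
theorem N82946 : nd 82946 = n183235 := ndS (p := 48759) (l := 6) rfl N48759 D183235
theorem N82947 : nd 82947 = n183236 := ndS (p := 48760) (l := 0) rfl N48760 D183236
theorem N82948 : nd 82948 = n183237 := ndS (p := 48760) (l := 1) rfl N48760 D183237
theorem N82949 : nd 82949 = n183255 := ndS (p := 48762) (l := 0) rfl N48762 D183255
theorem N82950 : nd 82950 = n183256 := ndS (p := 48762) (l := 1) rfl N48762 D183256
theorem N82951 : nd 82951 = n183292 := ndS (p := 48765) (l := 6) rfl N48765 D183292
theorem N82952 : nd 82952 = n183385 := ndS (p := 48769) (l := 5) rfl N48769 D183385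
theorem N82953 : nd 82953 = n183388 := ndS (p := 48770) (l := 7) rfl N48770 D183388
theorem N82954 : nd 82954 = n183390 := ndS (p := 48773) (l := 4) rfl N48773 D183390
theorem N82955 : nd 82955 = n183393 := ndS (p := 48774) (l := 5) rfl N48774 D183393
theorem N82956 : nd 82956 = n183394 := ndS (p := 48774) (l := 7) rfl N48774 D183394
theorem N82957 : nd 82957 = n183398 := ndS (p := 48776) (l := 4) rfl N48776 D183398
theorem N82958 : nd 82958 = n183399 := ndS (p := 48776) (l := 5) rfl N48776 D183399
theorem N82959 : nd 82959 = n183400 := ndS (p := 48776) (l := 6) rfl N48776 D183400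
theorem N82960 : nd 82960 = n183402 := ndS (p := 48777) (l := 4) rfl N48777 D183402
theorem N82961 : nd 82961 = n183403 := ndS (p := 48777) (l := 7) rfl N48777 D183403
theorem N82962 : nd 82962 = n183404 := ndS (p := 48779) (l := 4) rfl N48779 D183404
theorem N82963 : nd 82963 = n183405 := ndS (p := 48779) (l := 6) rfl N48779 D183405
theorem N82964 : nd 82964 = n183406 := ndS (p := 48780) (l := 5) rfl N48780 D183406
theorem N82965 : nd 82965 = n183407 := ndS (p := 48781) (l := 4) rfl N48781 D183407
theorem N82966 : nd 82966 = n183408 := ndS (p := 48781) (l := 6) rfl N48781 D183408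
theorem N82967 : nd 82967 = n183409 := ndS (p := 48782) (l := 0) rfl N48782 D183409
theorem N82968 : nd 82968 = n183410 := ndS (p := 48782) (l := 1) rfl N48782 D183410
theorem N82969 : nd 82969 = n183411 := ndS (p := 48782) (l := 3) rfl N48782 D183411
theorem N82970 : nd 82970 = n183412 := ndS (p := 48782) (l := 5) rfl N48782 D183412
theorem N82971 : nd 82971 = n183423 := ndS (p := 48783) (l := 5) rfl N48783 D183423
theorem N82972 : nd 82972 = n183432 := ndS (p := 48784) (l := 4) rfl N48784 D183432
theorem N82973 : nd 82973 = n183433 := ndS (p := 48784) (l := 6) rfl N48784 D183433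
theorem N82974 : nd 82974 = n183451 := ndS (p := 48785) (l := 3) rfl N48785 D183451
theorem N82975 : nd 82975 = n183452 := ndS (p := 48785) (l := 4) rfl N48785 D183452
theorem N82976 : nd 82976 = n183456 := ndS (p := 48786) (l := 3) rfl N48786 D183456
theorem N82977 : nd 82977 = n183457 := ndS (p := 48786) (l := 4) rfl N48786 D183457
theorem N82978 : nd 82978 = n183459 := ndS (p := 48787) (l := 0) rfl N48787 D183459
theorem N82979 : nd 82979 = n183460 := ndS (p := 48787) (l := 1) rfl N48787 D183460
theorem N82980 : nd 82980 = n183463 := ndS (p := 48787) (l := 7) rfl N48787 D183463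
theorem N82981 : nd 82981 = n183465 := ndS (p := 48789) (l := 1) rfl N48789 D183465
theorem N82982 : nd 82982 = n183466 := ndS (p := 48789) (l := 4) rfl N48789 D183466
theorem N82983 : nd 82983 = n183467 := ndS (p := 48789) (l := 6) rfl N48789 D183467
theorem N82984 : nd 82984 = n183475 := ndS (p := 48791) (l := 0) rfl N48791 D183475
theorem N82985 : nd 82985 = n183476 := ndS (p := 48791) (l := 1) rfl N48791 D183476
theorem N82986 : nd 82986 = n183477 := ndS (p := 48791) (l := 7) rfl N48791 D183477
theorem N82987 : nd 82987 = n183478 := ndS (p := 48792) (l := 4) rfl N48792 D183478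
theorem N82988 : nd 82988 = n183479 := ndS (p := 48792) (l := 5) rfl N48792 D183479
theorem N82989 : nd 82989 = n183480 := ndS (p := 48793) (l := 5) rfl N48793 D183480
theorem N82990 : nd 82990 = n183481 := ndS (p := 48793) (l := 6) rfl N48793 D183481
theorem N82991 : nd 82991 = n183482 := ndS (p := 48794) (l := 0) rfl N48794 D183482
theorem N82992 : nd 82992 = n183483 := ndS (p := 48794) (l := 1) rfl N48794 D183483
theorem N82993 : nd 82993 = n183486 := ndS (p := 48795) (l := 0) rfl N48795 D183486
theorem N82994 : nd 82994 = n183487 := ndS (p := 48795) (l := 1) rfl N48795 D183487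
theorem N82995 : nd 82995 = n183491 := ndS (p := 48796) (l := 0) rfl N48796 D183491
theorem N82996 : nd 82996 = n183492 := ndS (p := 48796) (l := 1) rfl N48796 D183492
theorem N82997 : nd 82997 = n183493 := ndS (p := 48796) (l := 7) rfl N48796 D183493
theorem N82998 : nd 82998 = n183494 := ndS (p := 48797) (l := 4) rfl N48797 D183494
theorem N82999 : nd 82999 = n183496 := ndS (p := 48798) (l := 3) rfl N48798 D183496
theorem N83000 : nd 83000 = n183498 := ndS (p := 48798) (l := 6) rfl N48798 D183498
theorem N83001 : nd 83001 = n183500 := ndS (p := 48799) (l := 1) rfl N48799 D183500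
theorem N83002 : nd 83002 = n183501 := ndS (p := 48799) (l := 7) rfl N48799 D183501
theorem N83003 : nd 83003 = n183503 := ndS (p := 48800) (l := 2) rfl N48800 D183503
theorem N83004 : nd 83004 = n183504 := ndS (p := 48800) (l := 4) rfl N48800 D183504
theorem N83005 : nd 83005 = n183505 := ndS (p := 48800) (l := 6) rfl N48800 D183505
theorem N83006 : nd 83006 = n183506 := ndS (p := 48801) (l := 3) rfl N48801 D183506
theorem N83007 : nd 83007 = n183508 := ndS (p := 48801) (l := 6) rfl N48801 D183508
theorem N83008 : nd 83008 = n183509 := ndS (p := 48802) (l := 0) rfl N48802 D183509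
theorem N83009 : nd 83009 = n183511 := ndS (p := 48802) (l := 7) rfl N48802 D183511
theorem N83010 : nd 83010 = n183517 := ndS (p := 48803) (l := 0) rfl N48803 D183517
theorem N83011 : nd 83011 = n183518 := ndS (p := 48803) (l := 1) rfl N48803 D183518
theorem N83012 : nd 83012 = n183519 := ndS (p := 48803) (l := 2) rfl N48803 D183519
theorem N83013 : nd 83013 = n183526 := ndS (p := 48804) (l := 4) rfl N48804 D183526
theorem N83014 : nd 83014 = n183527 := ndS (p := 48804) (l := 6) rfl N48804 D183527
theorem N83015 : nd 83015 = n183528 := ndS (p := 48805) (l := 0) rfl N48805 D183528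
theorem N83016 : nd 83016 = n183532 := ndS (p := 48806) (l := 0) rfl N48806 D183532
theorem N83017 : nd 83017 = n183534 := ndS (p := 48806) (l := 7) rfl N48806 D183534
theorem N83018 : nd 83018 = n183753 := ndS (p := 48808) (l := 0) rfl N48808 D183753
theorem N83019 : nd 83019 = n183754 := ndS (p := 48808) (l := 5) rfl N48808 D183754
theorem N83020 : nd 83020 = n183755 := ndS (p := 48808) (l := 6) rfl N48808 D183755
theorem N83021 : nd 83021 = n183756 := ndS (p := 48809) (l := 5) rfl N48809 D183756
theorem N83022 : nd 83022 = n183757 := ndS (p := 48809) (l := 6) rfl N48809 D183757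
theorem N83023 : nd 83023 = n183758 := ndS (p := 48810) (l := 4) rfl N48810 D183758
theorem N83024 : nd 83024 = n183759 := ndS (p := 48810) (l := 6) rfl N48810 D183759
theorem N83025 : nd 83025 = n183762 := ndS (p := 48811) (l := 5) rfl N48811 D183762
theorem N83026 : nd 83026 = n183764 := ndS (p := 48812) (l := 2) rfl N48812 D183764
theorem N83027 : nd 83027 = n183765 := ndS (p := 48812) (l := 5) rfl N48812 D183765
theorem N83028 : nd 83028 = n183767 := ndS (p := 48813) (l := 5) rfl N48813 D183767
theorem N83029 : nd 83029 = n183770 := ndS (p := 48814) (l := 6) rfl N48814 D183770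
theorem N83030 : nd 83030 = n183774 := ndS (p := 48815) (l := 3) rfl N48815 D183774
theorem N83031 : nd 83031 = n183775 := ndS (p := 48815) (l := 4) rfl N48815 D183775
theorem N83032 : nd 83032 = n183776 := ndS (p := 48815) (l := 6) rfl N48815 D183776
theorem N83033 : nd 83033 = n183778 := ndS (p := 48816) (l := 3) rfl N48816 D183778
theorem N83034 : nd 83034 = n183779 := ndS (p := 48816) (l := 4) rfl N48816 D183779
theorem N83035 : nd 83035 = n183780 := ndS (p := 48816) (l := 6) rfl N48816 D183780
theorem N83036 : nd 83036 = n183781 := ndS (p := 48817) (l := 0) rfl N48817 D183781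
theorem N83037 : nd 83037 = n183782 := ndS (p := 48817) (l := 1) rfl N48817 D183782
theorem N83038 : nd 83038 = n183783 := ndS (p := 48817) (l := 3) rfl N48817 D183783
theorem N83039 : nd 83039 = n183784 := ndS (p := 48817) (l := 5) rfl N48817 D183784
theorem N83040 : nd 83040 = n183785 := ndS (p := 48817) (l := 7) rfl N48817 D183785
theorem N83041 : nd 83041 = n183848 := ndS (p := 48819) (l := 5) rfl N48819 D183848
theorem N83042 : nd 83042 = n183850 := ndS (p := 48820) (l := 5) rfl N48820 D183850
theorem N83043 : nd 83043 = n183852 := ndS (p := 48821) (l := 0) rfl N48821 D183852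
theorem N83044 : nd 83044 = n183853 := ndS (p := 48821) (l := 1) rfl N48821 D183853
theorem N83045 : nd 83045 = n183855 := ndS (p := 48821) (l := 6) rfl N48821 D183855
theorem N83046 : nd 83046 = n183858 := ndS (p := 48822) (l := 3) rfl N48822 D183858
theorem N83047 : nd 83047 = n183865 := ndS (p := 48824) (l := 2) rfl N48824 D183865
theorem N83048 : nd 83048 = n183868 := ndS (p := 48825) (l := 3) rfl N48825 D183868
theorem N83049 : nd 83049 = n183873 := ndS (p := 48827) (l := 2) rfl N48827 D183873
theorem N83050 : nd 83050 = n183874 := ndS (p := 48827) (l := 4) rfl N48827 D183874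
theorem N83051 : nd 83051 = n183875 := ndS (p := 48827) (l := 6) rfl N48827 D183875
theorem N83052 : nd 83052 = n183876 := ndS (p := 48828) (l := 3) rfl N48828 D183876
theorem N83053 : nd 83053 = n183877 := ndS (p := 48828) (l := 6) rfl N48828 D183877
theorem N83054 : nd 83054 = n183881 := ndS (p := 48830) (l := 3) rfl N48830 D183881
theorem N83055 : nd 83055 = n183883 := ndS (p := 48831) (l := 3) rfl N48831 D183883
theorem N83056 : nd 83056 = n183884 := ndS (p := 48831) (l := 6) rfl N48831 D183884
theorem N83057 : nd 83057 = n183885 := ndS (p := 48832) (l := 0) rfl N48832 D183885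
theorem N83058 : nd 83058 = n183886 := ndS (p := 48832) (l := 1) rfl N48832 D183886
theorem N83059 : nd 83059 = n183887 := ndS (p := 48832) (l := 2) rfl N48832 D183887
theorem N83060 : nd 83060 = n183890 := ndS (p := 48834) (l := 6) rfl N48834 D183890
theorem N83061 : nd 83061 = n183892 := ndS (p := 48836) (l := 5) rfl N48836 D183892
theorem N83062 : nd 83062 = n183893 := ndS (p := 48837) (l := 0) rfl N48837 D183893
theorem N83063 : nd 83063 = n183895 := ndS (p := 48837) (l := 6) rfl N48837 D183895
theorem N83064 : nd 83064 = n183897 := ndS (p := 48839) (l := 3) rfl N48839 D183897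
theorem N83065 : nd 83065 = n183898 := ndS (p := 48839) (l := 6) rfl N48839 D183898
theorem N83066 : nd 83066 = n183905 := ndS (p := 48841) (l := 2) rfl N48841 D183905
theorem N83067 : nd 83067 = n183906 := ndS (p := 48842) (l := 3) rfl N48842 D183906
theorem N83068 : nd 83068 = n183907 := ndS (p := 48842) (l := 6) rfl N48842 D183907
theorem N83069 : nd 83069 = n183909 := ndS (p := 48843) (l := 1) rfl N48843 D183909
theorem N83070 : nd 83070 = n183920 := ndS (p := 48846) (l := 5) rfl N48846 D183920
theorem N83071 : nd 83071 = n183921 := ndS (p := 48847) (l := 5) rfl N48847 D183921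
theorem N83072 : nd 83072 = n183923 := ndS (p := 48848) (l := 6) rfl N48848 D183923
theorem N83073 : nd 83073 = n183929 := ndS (p := 48851) (l := 6) rfl N48851 D183929
theorem N83074 : nd 83074 = n183930 := ndS (p := 48852) (l := 3) rfl N48852 D183930
theorem N83075 : nd 83075 = n183932 := ndS (p := 48853) (l := 3) rfl N48853 D183932
theorem N83076 : nd 83076 = n183949 := ndS (p := 48855) (l := 5) rfl N48855 D183949
theorem N83077 : nd 83077 = n183965 := ndS (p := 48857) (l := 3) rfl N48857 D183965
theorem N83078 : nd 83078 = n183966 := ndS (p := 48857) (l := 5) rfl N48857 D183966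
theorem N83079 : nd 83079 = n183967 := ndS (p := 48858) (l := 5) rfl N48858 D183967
theorem N83080 : nd 83080 = n183969 := ndS (p := 48859) (l := 0) rfl N48859 D183969
theorem N83081 : nd 83081 = n183970 := ndS (p := 48859) (l := 1) rfl N48859 D183970
theorem N83082 : nd 83082 = n183973 := ndS (p := 48861) (l := 5) rfl N48861 D183973
theorem N83083 : nd 83083 = n183975 := ndS (p := 48862) (l := 0) rfl N48862 D183975
theorem N83084 : nd 83084 = n183978 := ndS (p := 48862) (l := 6) rfl N48862 D183978
theorem N83085 : nd 83085 = n183981 := ndS (p := 48864) (l := 1) rfl N48864 D183981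
theorem N83086 : nd 83086 = n183982 := ndS (p := 48864) (l := 5) rfl N48864 D183982
theorem N83087 : nd 83087 = n183983 := ndS (p := 48864) (l := 6) rfl N48864 D183983
theorem N83088 : nd 83088 = n183984 := ndS (p := 48865) (l := 5) rfl N48865 D183984
theorem N83089 : nd 83089 = n183987 := ndS (p := 48866) (l := 6) rfl N48866 D183987
theorem N83090 : nd 83090 = n183990 := ndS (p := 48867) (l := 5) rfl N48867 D183990
theorem N83091 : nd 83091 = n183992 := ndS (p := 48868) (l := 4) rfl N48868 D183992
theorem N83092 : nd 83092 = n183994 := ndS (p := 48868) (l := 6) rfl N48868 D183994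
theorem N83093 : nd 83093 = n183995 := ndS (p := 48869) (l := 3) rfl N48869 D183995
theorem N83094 : nd 83094 = n183996 := ndS (p := 48869) (l := 4) rfl N48869 D183996
theorem N83095 : nd 83095 = n183997 := ndS (p := 48869) (l := 6) rfl N48869 D183997
theorem N83096 : nd 83096 = n183999 := ndS (p := 48870) (l := 3) rfl N48870 D183999
theorem N83097 : nd 83097 = n184000 := ndS (p := 48870) (l := 5) rfl N48870 D184000
theorem N83098 : nd 83098 = n184001 := ndS (p := 48870) (l := 7) rfl N48870 D184001
theorem N83099 : nd 83099 = n184002 := ndS (p := 48871) (l := 6) rfl N48871 D184002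
theorem N83100 : nd 83100 = n184035 := ndS (p := 48872) (l := 5) rfl N48872 D184035
theorem N83101 : nd 83101 = n184036 := ndS (p := 48872) (l := 6) rfl N48872 D184036
theorem N83102 : nd 83102 = n184041 := ndS (p := 48873) (l := 6) rfl N48873 D184041
theorem N83103 : nd 83103 = n184048 := ndS (p := 48875) (l := 6) rfl N48875 D184048
theorem N83104 : nd 83104 = n184053 := ndS (p := 48876) (l := 3) rfl N48876 D184053
theorem N83105 : nd 83105 = n184054 := ndS (p := 48876) (l := 4) rfl N48876 D184054
theorem N83106 : nd 83106 = n184055 := ndS (p := 48876) (l := 6) rfl N48876 D184055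
theorem N83107 : nd 83107 = n184056 := ndS (p := 48877) (l := 4) rfl N48877 D184056
theorem N83108 : nd 83108 = n184057 := ndS (p := 48877) (l := 6) rfl N48877 D184057
theorem N83109 : nd 83109 = n184060 := ndS (p := 48878) (l := 3) rfl N48878 D184060
theorem N83110 : nd 83110 = n184062 := ndS (p := 48878) (l := 7) rfl N48878 D184062
theorem N83111 : nd 83111 = n184063 := ndS (p := 48879) (l := 6) rfl N48879 D184063
theorem N83112 : nd 83112 = n184064 := ndS (p := 48880) (l := 4) rfl N48880 D184064
theorem N83113 : nd 83113 = n184065 := ndS (p := 48880) (l := 5) rfl N48880 D184065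
theorem N83114 : nd 83114 = n184066 := ndS (p := 48881) (l := 0) rfl N48881 D184066
theorem N83115 : nd 83115 = n184067 := ndS (p := 48881) (l := 1) rfl N48881 D184067
theorem N83116 : nd 83116 = n184068 := ndS (p := 48881) (l := 4) rfl N48881 D184068
theorem N83117 : nd 83117 = n184069 := ndS (p := 48881) (l := 6) rfl N48881 D184069
theorem N83118 : nd 83118 = n184070 := ndS (p := 48882) (l := 0) rfl N48882 D184070
theorem N83119 : nd 83119 = n184071 := ndS (p := 48882) (l := 1) rfl N48882 D184071
theorem N83120 : nd 83120 = n184074 := ndS (p := 48884) (l := 3) rfl N48884 D184074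
theorem N83121 : nd 83121 = n184079 := ndS (p := 48885) (l := 7) rfl N48885 D184079
theorem N83122 : nd 83122 = n184080 := ndS (p := 48886) (l := 3) rfl N48886 D184080
theorem N83123 : nd 83123 = n184082 := ndS (p := 48886) (l := 6) rfl N48886 D184082
theorem N83124 : nd 83124 = n184083 := ndS (p := 48887) (l := 0) rfl N48887 D184083
theorem N83125 : nd 83125 = n184085 := ndS (p := 48887) (l := 5) rfl N48887 D184085
theorem N83126 : nd 83126 = n184086 := ndS (p := 48887) (l := 7) rfl N48887 D184086
theorem N83127 : nd 83127 = n184087 := ndS (p := 48888) (l := 4) rfl N48888 D184087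
theorem N83128 : nd 83128 = n184090 := ndS (p := 48889) (l := 4) rfl N48889 D184090
theorem N83129 : nd 83129 = n184092 := ndS (p := 48889) (l := 6) rfl N48889 D184092
theorem N83130 : nd 83130 = n184093 := ndS (p := 48890) (l := 3) rfl N48890 D184093
theorem N83131 : nd 83131 = n184096 := ndS (p := 48891) (l := 0) rfl N48891 D184096
theorem N83132 : nd 83132 = n184097 := ndS (p := 48891) (l := 1) rfl N48891 D184097
theorem N83133 : nd 83133 = n184098 := ndS (p := 48891) (l := 7) rfl N48891 D184098
theorem N83134 : nd 83134 = n184099 := ndS (p := 48892) (l := 3) rfl N48892 D184099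
theorem N83135 : nd 83135 = n184101 := ndS (p := 48892) (l := 6) rfl N48892 D184101
theorem N83136 : nd 83136 = n184102 := ndS (p := 48893) (l := 0) rfl N48893 D184102
theorem N83137 : nd 83137 = n184103 := ndS (p := 48893) (l := 1) rfl N48893 D184103
theorem N83138 : nd 83138 = n184104 := ndS (p := 48893) (l := 7) rfl N48893 D184104
theorem N83139 : nd 83139 = n184110 := ndS (p := 48894) (l := 0) rfl N48894 D184110
theorem N83140 : nd 83140 = n184111 := ndS (p := 48894) (l := 1) rfl N48894 D184111
theorem N83141 : nd 83141 = n184112 := ndS (p := 48894) (l := 2) rfl N48894 D184112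
theorem N83142 : nd 83142 = n184114 := ndS (p := 48894) (l := 7) rfl N48894 D184114
theorem N83143 : nd 83143 = n184116 := ndS (p := 48895) (l := 6) rfl N48895 D184116
theorem N83144 : nd 83144 = n184117 := ndS (p := 48896) (l := 0) rfl N48896 D184117
theorem N83145 : nd 83145 = n184118 := ndS (p := 48896) (l := 1) rfl N48896 D184118
theorem N83146 : nd 83146 = n184119 := ndS (p := 48897) (l := 4) rfl N48897 D184119
theorem N83147 : nd 83147 = n184120 := ndS (p := 48897) (l := 6) rfl N48897 D184120
theorem N83148 : nd 83148 = n184123 := ndS (p := 48898) (l := 3) rfl N48898 D184123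
theorem N83149 : nd 83149 = n184128 := ndS (p := 48900) (l := 0) rfl N48900 D184128
theorem N83150 : nd 83150 = n184192 := ndS (p := 48906) (l := 5) rfl N48906 D184192
theorem N83151 : nd 83151 = n184193 := ndS (p := 48907) (l := 6) rfl N48907 D184193
theorem N83152 : nd 83152 = n184197 := ndS (p := 48908) (l := 5) rfl N48908 D184197
theorem N83153 : nd 83153 = n184198 := ndS (p := 48908) (l := 7) rfl N48908 D184198
theorem N83154 : nd 83154 = n184199 := ndS (p := 48909) (l := 5) rfl N48909 D184199
theorem N83155 : nd 83155 = n184202 := ndS (p := 48910) (l := 6) rfl N48910 D184202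
theorem N83156 : nd 83156 = n184203 := ndS (p := 48911) (l := 0) rfl N48911 D184203
theorem N83157 : nd 83157 = n184205 := ndS (p := 48911) (l := 4) rfl N48911 D184205
theorem N83158 : nd 83158 = n184216 := ndS (p := 48912) (l := 0) rfl N48912 D184216
theorem N83159 : nd 83159 = n184217 := ndS (p := 48912) (l := 1) rfl N48912 D184217
theorem N83160 : nd 83160 = n184218 := ndS (p := 48912) (l := 4) rfl N48912 D184218
theorem N83161 : nd 83161 = n184219 := ndS (p := 48912) (l := 7) rfl N48912 D184219
theorem N83162 : nd 83162 = n184221 := ndS (p := 48915) (l := 3) rfl N48915 D184221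
theorem N83163 : nd 83163 = n184228 := ndS (p := 48916) (l := 0) rfl N48916 D184228
theorem N83164 : nd 83164 = n184229 := ndS (p := 48916) (l := 1) rfl N48916 D184229
theorem N83165 : nd 83165 = n184230 := ndS (p := 48916) (l := 2) rfl N48916 D184230
theorem N83166 : nd 83166 = n184234 := ndS (p := 48917) (l := 0) rfl N48917 D184234
theorem N83167 : nd 83167 = n184236 := ndS (p := 48918) (l := 4) rfl N48918 D184236
theorem N83168 : nd 83168 = n184237 := ndS (p := 48919) (l := 6) rfl N48919 D184237
theorem N83169 : nd 83169 = n184240 := ndS (p := 48920) (l := 5) rfl N48920 D184240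
theorem N83170 : nd 83170 = n184242 := ndS (p := 48921) (l := 4) rfl N48921 D184242
theorem N83171 : nd 83171 = n184243 := ndS (p := 48921) (l := 5) rfl N48921 D184243
theorem N83172 : nd 83172 = n184245 := ndS (p := 48922) (l := 0) rfl N48922 D184245
theorem N83173 : nd 83173 = n184247 := ndS (p := 48922) (l := 4) rfl N48922 D184247
theorem N83174 : nd 83174 = n184249 := ndS (p := 48923) (l := 4) rfl N48923 D184249
theorem N83175 : nd 83175 = n184250 := ndS (p := 48923) (l := 6) rfl N48923 D184250
theorem N83176 : nd 83176 = n184251 := ndS (p := 48924) (l := 4) rfl N48924 D184251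
theorem N83177 : nd 83177 = n184252 := ndS (p := 48924) (l := 5) rfl N48924 D184252
theorem N83178 : nd 83178 = n184253 := ndS (p := 48924) (l := 6) rfl N48924 D184253
theorem N83179 : nd 83179 = n184254 := ndS (p := 48925) (l := 0) rfl N48925 D184254
theorem N83180 : nd 83180 = n184255 := ndS (p := 48925) (l := 1) rfl N48925 D184255
theorem N83181 : nd 83181 = n184256 := ndS (p := 48925) (l := 3) rfl N48925 D184256
theorem N83182 : nd 83182 = n184257 := ndS (p := 48925) (l := 5) rfl N48925 D184257
theorem N83183 : nd 83183 = n184258 := ndS (p := 48925) (l := 7) rfl N48925 D184258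
theorem N83184 : nd 83184 = n184259 := ndS (p := 48926) (l := 6) rfl N48926 D184259
theorem N83185 : nd 83185 = n184272 := ndS (p := 48927) (l := 6) rfl N48927 D184272
theorem N83186 : nd 83186 = n184286 := ndS (p := 48929) (l := 4) rfl N48929 D184286
theorem N83187 : nd 83187 = n184287 := ndS (p := 48929) (l := 6) rfl N48929 D184287
theorem N83188 : nd 83188 = n184295 := ndS (p := 48930) (l := 3) rfl N48930 D184295
theorem N83189 : nd 83189 = n184297 := ndS (p := 48930) (l := 6) rfl N48930 D184297
theorem N83190 : nd 83190 = n184300 := ndS (p := 48931) (l := 3) rfl N48931 D184300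
theorem N83191 : nd 83191 = n184301 := ndS (p := 48931) (l := 5) rfl N48931 D184301
theorem N83192 : nd 83192 = n184303 := ndS (p := 48932) (l := 6) rfl N48932 D184303
theorem N83193 : nd 83193 = n184313 := ndS (p := 48933) (l := 0) rfl N48933 D184313
theorem N83194 : nd 83194 = n184314 := ndS (p := 48933) (l := 1) rfl N48933 D184314
theorem N83195 : nd 83195 = n184315 := ndS (p := 48933) (l := 7) rfl N48933 D184315
theorem N83196 : nd 83196 = n184316 := ndS (p := 48934) (l := 5) rfl N48934 D184316
theorem N83197 : nd 83197 = n184318 := ndS (p := 48935) (l := 6) rfl N48935 D184318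
theorem N83198 : nd 83198 = n184319 := ndS (p := 48936) (l := 0) rfl N48936 D184319
theorem N83199 : nd 83199 = n184320 := ndS (p := 48936) (l := 1) rfl N48936 D184320
theorem N83200 : nd 83200 = n184322 := ndS (p := 48936) (l := 6) rfl N48936 D184322
theorem N83201 : nd 83201 = n184323 := ndS (p := 48937) (l := 0) rfl N48937 D184323
theorem N83202 : nd 83202 = n184324 := ndS (p := 48937) (l := 1) rfl N48937 D184324
theorem N83203 : nd 83203 = n184328 := ndS (p := 48938) (l := 0) rfl N48938 D184328
theorem N83204 : nd 83204 = n184330 := ndS (p := 48938) (l := 7) rfl N48938 D184330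
theorem N83205 : nd 83205 = n184337 := ndS (p := 48940) (l := 0) rfl N48940 D184337
theorem N83206 : nd 83206 = n184338 := ndS (p := 48940) (l := 1) rfl N48940 D184338
theorem N83207 : nd 83207 = n184343 := ndS (p := 48941) (l := 6) rfl N48941 D184343
theorem N83208 : nd 83208 = n184347 := ndS (p := 48943) (l := 0) rfl N48943 D184347
theorem N83209 : nd 83209 = n184349 := ndS (p := 48943) (l := 7) rfl N48943 D184349
theorem N83210 : nd 83210 = n184361 := ndS (p := 48947) (l := 6) rfl N48947 D184361
theorem N83211 : nd 83211 = n184364 := ndS (p := 48949) (l := 4) rfl N48949 D184364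
theorem N83212 : nd 83212 = n184365 := ndS (p := 48949) (l := 6) rfl N48949 D184365
theorem N83213 : nd 83213 = n184368 := ndS (p := 48951) (l := 0) rfl N48951 D184368
theorem N83214 : nd 83214 = n184369 := ndS (p := 48951) (l := 1) rfl N48951 D184369
theorem N83215 : nd 83215 = n184370 := ndS (p := 48951) (l := 7) rfl N48951 D184370
theorem N83216 : nd 83216 = n184379 := ndS (p := 48952) (l := 5) rfl N48952 D184379
theorem N83217 : nd 83217 = n184381 := ndS (p := 48953) (l := 6) rfl N48953 D184381
theorem N83218 : nd 83218 = n184384 := ndS (p := 48955) (l := 1) rfl N48955 D184384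
theorem N83219 : nd 83219 = n184385 := ndS (p := 48955) (l := 2) rfl N48955 D184385
theorem N83220 : nd 83220 = n184388 := ndS (p := 48956) (l := 6) rfl N48956 D184388
theorem N83221 : nd 83221 = n184397 := ndS (p := 48958) (l := 0) rfl N48958 D184397
theorem N83222 : nd 83222 = n184399 := ndS (p := 48958) (l := 3) rfl N48958 D184399
theorem N83223 : nd 83223 = n184400 := ndS (p := 48958) (l := 4) rfl N48958 D184400
theorem N83224 : nd 83224 = n184401 := ndS (p := 48958) (l := 5) rfl N48958 D184401
theorem N83225 : nd 83225 = n184403 := ndS (p := 48958) (l := 7) rfl N48958 D184403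
theorem N83226 : nd 83226 = n184426 := ndS (p := 48964) (l := 6) rfl N48964 D184426
theorem N83227 : nd 83227 = n184447 := ndS (p := 48967) (l := 5) rfl N48967 D184447
theorem N83228 : nd 83228 = n184466 := ndS (p := 48970) (l := 5) rfl N48970 D184466
theorem N83229 : nd 83229 = n184470 := ndS (p := 48971) (l := 7) rfl N48971 D184470
theorem N83230 : nd 83230 = n184476 := ndS (p := 48975) (l := 5) rfl N48975 D184476
theorem N83231 : nd 83231 = n184480 := ndS (p := 48978) (l := 0) rfl N48978 D184480
theorem N83232 : nd 83232 = n184483 := ndS (p := 48978) (l := 7) rfl N48978 D184483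
theorem N83233 : nd 83233 = n184484 := ndS (p := 48979) (l := 5) rfl N48979 D184484
theorem N83234 : nd 83234 = n184485 := ndS (p := 48979) (l := 6) rfl N48979 D184485
theorem N83235 : nd 83235 = n184486 := ndS (p := 48980) (l := 3) rfl N48980 D184486
theorem N83236 : nd 83236 = n184488 := ndS (p := 48980) (l := 5) rfl N48980 D184488
theorem N83237 : nd 83237 = n184492 := ndS (p := 48981) (l := 4) rfl N48981 D184492
theorem N83238 : nd 83238 = n184493 := ndS (p := 48981) (l := 7) rfl N48981 D184493
theorem N83239 : nd 83239 = n184494 := ndS (p := 48983) (l := 5) rfl N48983 D184494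
theorem N83240 : nd 83240 = n184495 := ndS (p := 48983) (l := 6) rfl N48983 D184495
theorem N83241 : nd 83241 = n184498 := ndS (p := 48984) (l := 4) rfl N48984 D184498
theorem N83242 : nd 83242 = n184499 := ndS (p := 48984) (l := 6) rfl N48984 D184499
theorem N83243 : nd 83243 = n184502 := ndS (p := 48985) (l := 5) rfl N48985 D184502
theorem N83244 : nd 83244 = n184504 := ndS (p := 48986) (l := 5) rfl N48986 D184504
theorem N83245 : nd 83245 = n184505 := ndS (p := 48986) (l := 6) rfl N48986 D184505
theorem N83246 : nd 83246 = n184506 := ndS (p := 48987) (l := 5) rfl N48987 D184506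
theorem N83247 : nd 83247 = n184508 := ndS (p := 48988) (l := 4) rfl N48988 D184508
theorem N83248 : nd 83248 = n184509 := ndS (p := 48988) (l := 6) rfl N48988 D184509
theorem N83249 : nd 83249 = n184520 := ndS (p := 48991) (l := 3) rfl N48991 D184520
theorem N83250 : nd 83250 = n184521 := ndS (p := 48991) (l := 4) rfl N48991 D184521
theorem N83251 : nd 83251 = n184523 := ndS (p := 48991) (l := 6) rfl N48991 D184523
theorem N83252 : nd 83252 = n184529 := ndS (p := 48993) (l := 6) rfl N48993 D184529
theorem N83253 : nd 83253 = n184547 := ndS (p := 48995) (l := 4) rfl N48995 D184547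
theorem N83254 : nd 83254 = n184548 := ndS (p := 48995) (l := 5) rfl N48995 D184548
theorem N83255 : nd 83255 = n184549 := ndS (p := 48995) (l := 6) rfl N48995 D184549
theorem N83256 : nd 83256 = n184551 := ndS (p := 48996) (l := 4) rfl N48996 D184551
theorem N83257 : nd 83257 = n184552 := ndS (p := 48996) (l := 6) rfl N48996 D184552
theorem N83258 : nd 83258 = n184556 := ndS (p := 48998) (l := 4) rfl N48998 D184556
theorem N83259 : nd 83259 = n184557 := ndS (p := 48998) (l := 6) rfl N48998 D184557
theorem N83260 : nd 83260 = n184567 := ndS (p := 48999) (l := 3) rfl N48999 D184567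
theorem N83261 : nd 83261 = n184568 := ndS (p := 48999) (l := 5) rfl N48999 D184568
theorem N83262 : nd 83262 = n184569 := ndS (p := 48999) (l := 7) rfl N48999 D184569
theorem N83263 : nd 83263 = n184570 := ndS (p := 49000) (l := 6) rfl N49000 D184570
theorem N83264 : nd 83264 = n184571 := ndS (p := 49001) (l := 4) rfl N49001 D184571
theorem N83265 : nd 83265 = n184572 := ndS (p := 49001) (l := 6) rfl N49001 D184572
theorem N83266 : nd 83266 = n184581 := ndS (p := 49003) (l := 6) rfl N49003 D184581
theorem N83267 : nd 83267 = n184582 := ndS (p := 49004) (l := 3) rfl N49004 D184582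
theorem N83268 : nd 83268 = n184584 := ndS (p := 49004) (l := 6) rfl N49004 D184584
theorem N83269 : nd 83269 = n184593 := ndS (p := 49006) (l := 6) rfl N49006 D184593
theorem N83270 : nd 83270 = n184594 := ndS (p := 49007) (l := 0) rfl N49007 D184594
theorem N83271 : nd 83271 = n184595 := ndS (p := 49007) (l := 1) rfl N49007 D184595
theorem N83272 : nd 83272 = n184598 := ndS (p := 49008) (l := 5) rfl N49008 D184598
theorem N83273 : nd 83273 = n184612 := ndS (p := 49009) (l := 4) rfl N49009 D184612
theorem N83274 : nd 83274 = n184626 := ndS (p := 49010) (l := 4) rfl N49010 D184626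
theorem N83275 : nd 83275 = n184664 := ndS (p := 49016) (l := 4) rfl N49016 D184664
theorem N83276 : nd 83276 = n184665 := ndS (p := 49016) (l := 6) rfl N49016 D184665
theorem N83277 : nd 83277 = n184670 := ndS (p := 49018) (l := 5) rfl N49018 D184670
theorem N83278 : nd 83278 = n184671 := ndS (p := 49018) (l := 6) rfl N49018 D184671
theorem N83279 : nd 83279 = n184685 := ndS (p := 49022) (l := 0) rfl N49022 D184685
theorem N83280 : nd 83280 = n184687 := ndS (p := 49022) (l := 7) rfl N49022 D184687
theorem N83281 : nd 83281 = n184688 := ndS (p := 49023) (l := 4) rfl N49023 D184688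
theorem N83282 : nd 83282 = n184689 := ndS (p := 49023) (l := 6) rfl N49023 D184689
theorem N83283 : nd 83283 = n184690 := ndS (p := 49024) (l := 0) rfl N49024 D184690
theorem N83284 : nd 83284 = n184691 := ndS (p := 49024) (l := 1) rfl N49024 D184691
theorem N83285 : nd 83285 = n184692 := ndS (p := 49024) (l := 7) rfl N49024 D184692
theorem N83286 : nd 83286 = n184712 := ndS (p := 49027) (l := 4) rfl N49027 D184712
theorem N83287 : nd 83287 = n184717 := ndS (p := 49028) (l := 1) rfl N49028 D184717
theorem N83288 : nd 83288 = n184721 := ndS (p := 49029) (l := 4) rfl N49029 D184721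
theorem N83289 : nd 83289 = n184722 := ndS (p := 49029) (l := 6) rfl N49029 D184722
theorem N83290 : nd 83290 = n184724 := ndS (p := 49030) (l := 5) rfl N49030 D184724
theorem N83291 : nd 83291 = n184729 := ndS (p := 49032) (l := 6) rfl N49032 D184729
theorem N83292 : nd 83292 = n184730 := ndS (p := 49033) (l := 0) rfl N49033 D184730
theorem N83293 : nd 83293 = n184731 := ndS (p := 49033) (l := 1) rfl N49033 D184731
theorem N83294 : nd 83294 = n184732 := ndS (p := 49033) (l := 3) rfl N49033 D184732
theorem N83295 : nd 83295 = n184733 := ndS (p := 49033) (l := 5) rfl N49033 D184733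
theorem N83296 : nd 83296 = n184734 := ndS (p := 49033) (l := 7) rfl N49033 D184734
theorem N83297 : nd 83297 = n184747 := ndS (p := 49035) (l := 6) rfl N49035 D184747
theorem N83298 : nd 83298 = n184748 := ndS (p := 49036) (l := 3) rfl N49036 D184748
theorem N83299 : nd 83299 = n184749 := ndS (p := 49036) (l := 6) rfl N49036 D184749
theorem N83300 : nd 83300 = n184751 := ndS (p := 49037) (l := 1) rfl N49037 D184751
theorem N83301 : nd 83301 = n184777 := ndS (p := 49040) (l := 5) rfl N49040 D184777
theorem N83302 : nd 83302 = n184828 := ndS (p := 49044) (l := 5) rfl N49044 D184828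
theorem N83303 : nd 83303 = n184836 := ndS (p := 49046) (l := 3) rfl N49046 D184836
theorem N83304 : nd 83304 = n184951 := ndS (p := 49047) (l := 2) rfl N49047 D184951
theorem N83305 : nd 83305 = n184952 := ndS (p := 49047) (l := 4) rfl N49047 D184952
theorem N83306 : nd 83306 = n184953 := ndS (p := 49047) (l := 5) rfl N49047 D184953
theorem N83307 : nd 83307 = n184954 := ndS (p := 49047) (l := 6) rfl N49047 D184954
theorem N83308 : nd 83308 = n184962 := ndS (p := 49050) (l := 1) rfl N49050 D184962
theorem N83309 : nd 83309 = n184979 := ndS (p := 49053) (l := 3) rfl N49053 D184979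
theorem N83310 : nd 83310 = n184980 := ndS (p := 49053) (l := 5) rfl N49053 D184980
theorem N83311 : nd 83311 = n184981 := ndS (p := 49053) (l := 6) rfl N49053 D184981
theorem N83312 : nd 83312 = n184983 := ndS (p := 49054) (l := 3) rfl N49054 D184983
theorem N83313 : nd 83313 = n184987 := ndS (p := 49055) (l := 0) rfl N49055 D184987
theorem N83314 : nd 83314 = n184988 := ndS (p := 49055) (l := 1) rfl N49055 D184988
theorem N83315 : nd 83315 = n184989 := ndS (p := 49055) (l := 2) rfl N49055 D184989
theorem N83316 : nd 83316 = n184992 := ndS (p := 49056) (l := 0) rfl N49056 D184992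
theorem N83317 : nd 83317 = n184993 := ndS (p := 49056) (l := 1) rfl N49056 D184993
theorem N83318 : nd 83318 = n184995 := ndS (p := 49056) (l := 6) rfl N49056 D184995
theorem N83319 : nd 83319 = n185017 := ndS (p := 49059) (l := 6) rfl N49059 D185017
theorem N83320 : nd 83320 = n185020 := ndS (p := 49060) (l := 5) rfl N49060 D185020
theorem N83321 : nd 83321 = n185021 := ndS (p := 49060) (l := 7) rfl N49060 D185021
theorem N83322 : nd 83322 = n185025 := ndS (p := 49061) (l := 1) rfl N49061 D185025
theorem N83323 : nd 83323 = n185028 := ndS (p := 49062) (l := 4) rfl N49062 D185028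
theorem N83324 : nd 83324 = n185030 := ndS (p := 49062) (l := 6) rfl N49062 D185030
theorem N83325 : nd 83325 = n185032 := ndS (p := 49063) (l := 3) rfl N49063 D185032
theorem N83326 : nd 83326 = n185034 := ndS (p := 49063) (l := 5) rfl N49063 D185034
theorem N83327 : nd 83327 = n185036 := ndS (p := 49064) (l := 0) rfl N49064 D185036
theorem N83328 : nd 83328 = n185038 := ndS (p := 49064) (l := 3) rfl N49064 D185038
theorem N83329 : nd 83329 = n185040 := ndS (p := 49064) (l := 6) rfl N49064 D185040
theorem N83330 : nd 83330 = n185041 := ndS (p := 49065) (l := 0) rfl N49065 D185041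
theorem N83331 : nd 83331 = n185042 := ndS (p := 49065) (l := 1) rfl N49065 D185042
theorem N83332 : nd 83332 = n185043 := ndS (p := 49065) (l := 5) rfl N49065 D185043
theorem N83333 : nd 83333 = n185047 := ndS (p := 49066) (l := 4) rfl N49066 D185047
theorem N83334 : nd 83334 = n185051 := ndS (p := 49067) (l := 3) rfl N49067 D185051
theorem N83335 : nd 83335 = n185052 := ndS (p := 49067) (l := 4) rfl N49067 D185052
theorem N83336 : nd 83336 = n185054 := ndS (p := 49068) (l := 0) rfl N49068 D185054
theorem N83337 : nd 83337 = n185055 := ndS (p := 49068) (l := 1) rfl N49068 D185055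
theorem N83338 : nd 83338 = n185056 := ndS (p := 49068) (l := 4) rfl N49068 D185056
theorem N83339 : nd 83339 = n185057 := ndS (p := 49070) (l := 4) rfl N49070 D185057
theorem N83340 : nd 83340 = n185058 := ndS (p := 49070) (l := 6) rfl N49070 D185058
theorem N83341 : nd 83341 = n185059 := ndS (p := 49071) (l := 3) rfl N49071 D185059
theorem N83342 : nd 83342 = n185060 := ndS (p := 49071) (l := 6) rfl N49071 D185060
theorem N83343 : nd 83343 = n185061 := ndS (p := 49072) (l := 0) rfl N49072 D185061
theorem N83344 : nd 83344 = n185063 := ndS (p := 49072) (l := 7) rfl N49072 D185063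
theorem N83345 : nd 83345 = n185064 := ndS (p := 49073) (l := 3) rfl N49073 D185064
theorem N83346 : nd 83346 = n185065 := ndS (p := 49073) (l := 5) rfl N49073 D185065
theorem N83347 : nd 83347 = n185066 := ndS (p := 49073) (l := 6) rfl N49073 D185066
theorem N83348 : nd 83348 = n185068 := ndS (p := 49075) (l := 3) rfl N49075 D185068
theorem N83349 : nd 83349 = n185070 := ndS (p := 49076) (l := 3) rfl N49076 D185070
theorem N83350 : nd 83350 = n185071 := ndS (p := 49076) (l := 6) rfl N49076 D185071
theorem N83351 : nd 83351 = n185072 := ndS (p := 49077) (l := 0) rfl N49077 D185072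
theorem N83352 : nd 83352 = n185073 := ndS (p := 49077) (l := 1) rfl N49077 D185073
theorem N83353 : nd 83353 = n185074 := ndS (p := 49077) (l := 2) rfl N49077 D185074
theorem N83354 : nd 83354 = n185081 := ndS (p := 49078) (l := 3) rfl N49078 D185081
theorem N83355 : nd 83355 = n185088 := ndS (p := 49079) (l := 6) rfl N49079 D185088
theorem N83356 : nd 83356 = n185104 := ndS (p := 49081) (l := 4) rfl N49081 D185104
theorem N83357 : nd 83357 = n185105 := ndS (p := 49081) (l := 6) rfl N49081 D185105
theorem N83358 : nd 83358 = n185110 := ndS (p := 49082) (l := 4) rfl N49082 D185110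
theorem N83359 : nd 83359 = n185111 := ndS (p := 49082) (l := 6) rfl N49082 D185111
theorem N83360 : nd 83360 = n185117 := ndS (p := 49084) (l := 3) rfl N49084 D185117
theorem N83361 : nd 83361 = n185118 := ndS (p := 49084) (l := 4) rfl N49084 D185118
theorem N83362 : nd 83362 = n185119 := ndS (p := 49084) (l := 5) rfl N49084 D185119
theorem N83363 : nd 83363 = n185123 := ndS (p := 49085) (l := 4) rfl N49085 D185123
theorem N83364 : nd 83364 = n185125 := ndS (p := 49085) (l := 6) rfl N49085 D185125
theorem N83365 : nd 83365 = n185126 := ndS (p := 49086) (l := 0) rfl N49086 D185126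
theorem N83366 : nd 83366 = n185127 := ndS (p := 49086) (l := 1) rfl N49086 D185127
theorem N83367 : nd 83367 = n185128 := ndS (p := 49086) (l := 3) rfl N49086 D185128
theorem N83368 : nd 83368 = n185129 := ndS (p := 49086) (l := 5) rfl N49086 D185129
theorem N83369 : nd 83369 = n185130 := ndS (p := 49086) (l := 6) rfl N49086 D185130
theorem N83370 : nd 83370 = n185131 := ndS (p := 49087) (l := 0) rfl N49087 D185131
theorem N83371 : nd 83371 = n185133 := ndS (p := 49087) (l := 5) rfl N49087 D185133
theorem N83372 : nd 83372 = n185134 := ndS (p := 49087) (l := 7) rfl N49087 D185134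
theorem N83373 : nd 83373 = n185136 := ndS (p := 49088) (l := 3) rfl N49088 D185136
theorem N83374 : nd 83374 = n185144 := ndS (p := 49090) (l := 0) rfl N49090 D185144
theorem N83375 : nd 83375 = n185145 := ndS (p := 49090) (l := 1) rfl N49090 D185145
theorem N83376 : nd 83376 = n185147 := ndS (p := 49091) (l := 0) rfl N49091 D185147
theorem N83377 : nd 83377 = n185148 := ndS (p := 49091) (l := 1) rfl N49091 D185148
theorem N83378 : nd 83378 = n185149 := ndS (p := 49091) (l := 2) rfl N49091 D185149
theorem N83379 : nd 83379 = n185150 := ndS (p := 49091) (l := 6) rfl N49091 D185150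
theorem N83380 : nd 83380 = n185157 := ndS (p := 49093) (l := 5) rfl N49093 D185157
theorem N83381 : nd 83381 = n185161 := ndS (p := 49094) (l := 0) rfl N49094 D185161
theorem N83382 : nd 83382 = n185162 := ndS (p := 49094) (l := 1) rfl N49094 D185162
theorem N83383 : nd 83383 = n185166 := ndS (p := 49097) (l := 4) rfl N49097 D185166
theorem N83384 : nd 83384 = n185167 := ndS (p := 49097) (l := 5) rfl N49097 D185167
theorem N83385 : nd 83385 = n185168 := ndS (p := 49097) (l := 6) rfl N49097 D185168
theorem N83386 : nd 83386 = n185169 := ndS (p := 49098) (l := 0) rfl N49098 D185169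
theorem N83387 : nd 83387 = n185170 := ndS (p := 49098) (l := 1) rfl N49098 D185170
theorem N83388 : nd 83388 = n185171 := ndS (p := 49098) (l := 3) rfl N49098 D185171
theorem N83389 : nd 83389 = n185172 := ndS (p := 49098) (l := 5) rfl N49098 D185172
theorem N83390 : nd 83390 = n185173 := ndS (p := 49098) (l := 6) rfl N49098 D185173
theorem N83391 : nd 83391 = n185174 := ndS (p := 49099) (l := 0) rfl N49099 D185174
theorem N83392 : nd 83392 = n185176 := ndS (p := 49100) (l := 0) rfl N49100 D185176
theorem N83393 : nd 83393 = n185177 := ndS (p := 49100) (l := 1) rfl N49100 D185177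
theorem N83394 : nd 83394 = n185178 := ndS (p := 49100) (l := 5) rfl N49100 D185178
theorem N83395 : nd 83395 = n185179 := ndS (p := 49100) (l := 7) rfl N49100 D185179
theorem N83396 : nd 83396 = n185180 := ndS (p := 49101) (l := 3) rfl N49101 D185180
theorem N83397 : nd 83397 = n185181 := ndS (p := 49101) (l := 6) rfl N49101 D185181
theorem N83398 : nd 83398 = n185182 := ndS (p := 49102) (l := 3) rfl N49102 D185182
theorem N83399 : nd 83399 = n185183 := ndS (p := 49103) (l := 0) rfl N49103 D185183
theorem N83400 : nd 83400 = n185184 := ndS (p := 49103) (l := 1) rfl N49103 D185184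
theorem N83401 : nd 83401 = n185185 := ndS (p := 49103) (l := 2) rfl N49103 D185185
theorem N83402 : nd 83402 = n185192 := ndS (p := 49104) (l := 3) rfl N49104 D185192
theorem N83403 : nd 83403 = n185194 := ndS (p := 49104) (l := 5) rfl N49104 D185194
theorem N83404 : nd 83404 = n185199 := ndS (p := 49105) (l := 5) rfl N49105 D185199
theorem N83405 : nd 83405 = n185200 := ndS (p := 49105) (l := 6) rfl N49105 D185200
theorem N83406 : nd 83406 = n185203 := ndS (p := 49106) (l := 7) rfl N49106 D185203
theorem N83407 : nd 83407 = n185215 := ndS (p := 49108) (l := 5) rfl N49108 D185215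
theorem N83408 : nd 83408 = n185216 := ndS (p := 49108) (l := 6) rfl N49108 D185216
theorem N83409 : nd 83409 = n185219 := ndS (p := 49109) (l := 3) rfl N49109 D185219
theorem N83410 : nd 83410 = n185220 := ndS (p := 49109) (l := 5) rfl N49109 D185220
theorem N83411 : nd 83411 = n185221 := ndS (p := 49109) (l := 6) rfl N49109 D185221
theorem N83412 : nd 83412 = n185223 := ndS (p := 49110) (l := 1) rfl N49110 D185223
theorem N83413 : nd 83413 = n185226 := ndS (p := 49111) (l := 5) rfl N49111 D185226
theorem N83414 : nd 83414 = n185227 := ndS (p := 49111) (l := 7) rfl N49111 D185227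
theorem N83415 : nd 83415 = n185228 := ndS (p := 49112) (l := 0) rfl N49112 D185228
theorem N83416 : nd 83416 = n185229 := ndS (p := 49112) (l := 1) rfl N49112 D185229
theorem N83417 : nd 83417 = n185230 := ndS (p := 49112) (l := 2) rfl N49112 D185230
theorem N83418 : nd 83418 = n185231 := ndS (p := 49112) (l := 6) rfl N49112 D185231
theorem N83419 : nd 83419 = n185232 := ndS (p := 49113) (l := 0) rfl N49113 D185232
theorem N83420 : nd 83420 = n185233 := ndS (p := 49113) (l := 1) rfl N49113 D185233
theorem N83421 : nd 83421 = n185247 := ndS (p := 49114) (l := 1) rfl N49114 D185247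
theorem N83422 : nd 83422 = n185248 := ndS (p := 49114) (l := 4) rfl N49114 D185248
theorem N83423 : nd 83423 = n185249 := ndS (p := 49114) (l := 7) rfl N49114 D185249
theorem N83424 : nd 83424 = n185250 := ndS (p := 49116) (l := 0) rfl N49116 D185250
theorem N83425 : nd 83425 = n185251 := ndS (p := 49116) (l := 1) rfl N49116 D185251
theorem N83426 : nd 83426 = n185252 := ndS (p := 49116) (l := 2) rfl N49116 D185252
theorem N83427 : nd 83427 = n185253 := ndS (p := 49116) (l := 4) rfl N49116 D185253
theorem N83428 : nd 83428 = n185259 := ndS (p := 49118) (l := 0) rfl N49118 D185259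
theorem N83429 : nd 83429 = n185260 := ndS (p := 49118) (l := 1) rfl N49118 D185260
theorem N83430 : nd 83430 = n185261 := ndS (p := 49118) (l := 2) rfl N49118 D185261
theorem N83431 : nd 83431 = n185263 := ndS (p := 49118) (l := 6) rfl N49118 D185263
theorem N83432 : nd 83432 = n185267 := ndS (p := 49119) (l := 7) rfl N49119 D185267
theorem N83433 : nd 83433 = n185268 := ndS (p := 49120) (l := 0) rfl N49120 D185268
theorem N83434 : nd 83434 = n185269 := ndS (p := 49120) (l := 2) rfl N49120 D185269
theorem N83435 : nd 83435 = n185270 := ndS (p := 49120) (l := 3) rfl N49120 D185270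
theorem N83436 : nd 83436 = n185271 := ndS (p := 49120) (l := 4) rfl N49120 D185271
theorem N83437 : nd 83437 = n185272 := ndS (p := 49120) (l := 5) rfl N49120 D185272
theorem N83438 : nd 83438 = n185273 := ndS (p := 49120) (l := 6) rfl N49120 D185273
theorem N83439 : nd 83439 = n185274 := ndS (p := 49120) (l := 7) rfl N49120 D185274
theorem N83440 : nd 83440 = n185275 := ndS (p := 49121) (l := 3) rfl N49121 D185275
theorem N83441 : nd 83441 = n185276 := ndS (p := 49121) (l := 4) rfl N49121 D185276
theorem N83442 : nd 83442 = n185278 := ndS (p := 49121) (l := 6) rfl N49121 D185278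
theorem N83443 : nd 83443 = n185281 := ndS (p := 49122) (l := 5) rfl N49122 D185281
theorem N83444 : nd 83444 = n185282 := ndS (p := 49123) (l := 0) rfl N49123 D185282
theorem N83445 : nd 83445 = n185283 := ndS (p := 49123) (l := 1) rfl N49123 D185283
theorem N83446 : nd 83446 = n185284 := ndS (p := 49123) (l := 4) rfl N49123 D185284
theorem N83447 : nd 83447 = n185285 := ndS (p := 49123) (l := 6) rfl N49123 D185285
theorem N83448 : nd 83448 = n185286 := ndS (p := 49124) (l := 6) rfl N49124 D185286
theorem N83449 : nd 83449 = n185287 := ndS (p := 49125) (l := 0) rfl N49125 D185287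
theorem N83450 : nd 83450 = n185290 := ndS (p := 49126) (l := 0) rfl N49126 D185290
theorem N83451 : nd 83451 = n185291 := ndS (p := 49126) (l := 1) rfl N49126 D185291
theorem N83452 : nd 83452 = n185292 := ndS (p := 49126) (l := 5) rfl N49126 D185292
theorem N83453 : nd 83453 = n185294 := ndS (p := 49127) (l := 3) rfl N49127 D185294
theorem N83454 : nd 83454 = n185295 := ndS (p := 49127) (l := 4) rfl N49127 D185295
theorem N83455 : nd 83455 = n185296 := ndS (p := 49127) (l := 5) rfl N49127 D185296
theorem N83456 : nd 83456 = n185297 := ndS (p := 49127) (l := 6) rfl N49127 D185297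
theorem N83457 : nd 83457 = n185299 := ndS (p := 49128) (l := 3) rfl N49128 D185299
theorem N83458 : nd 83458 = n185301 := ndS (p := 49128) (l := 5) rfl N49128 D185301
theorem N83459 : nd 83459 = n185302 := ndS (p := 49128) (l := 6) rfl N49128 D185302
theorem N83460 : nd 83460 = n185303 := ndS (p := 49129) (l := 0) rfl N49129 D185303
theorem N83461 : nd 83461 = n185305 := ndS (p := 49129) (l := 2) rfl N49129 D185305
theorem N83462 : nd 83462 = n185306 := ndS (p := 49130) (l := 5) rfl N49130 D185306
theorem N83463 : nd 83463 = n185307 := ndS (p := 49131) (l := 5) rfl N49131 D185307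
theorem N83464 : nd 83464 = n185309 := ndS (p := 49132) (l := 5) rfl N49132 D185309
theorem N83465 : nd 83465 = n185310 := ndS (p := 49133) (l := 0) rfl N49133 D185310
theorem N83466 : nd 83466 = n185311 := ndS (p := 49133) (l := 1) rfl N49133 D185311
theorem N83467 : nd 83467 = n185312 := ndS (p := 49133) (l := 4) rfl N49133 D185312
theorem N83468 : nd 83468 = n185313 := ndS (p := 49133) (l := 6) rfl N49133 D185313
theorem N83469 : nd 83469 = n185314 := ndS (p := 49134) (l := 3) rfl N49134 D185314
theorem N83470 : nd 83470 = n185315 := ndS (p := 49134) (l := 6) rfl N49134 D185315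
theorem N83471 : nd 83471 = n185316 := ndS (p := 49135) (l := 0) rfl N49135 D185316
theorem N83472 : nd 83472 = n185317 := ndS (p := 49135) (l := 1) rfl N49135 D185317
theorem N83473 : nd 83473 = n185340 := ndS (p := 49138) (l := 6) rfl N49138 D185340
theorem N83474 : nd 83474 = n185341 := ndS (p := 49139) (l := 5) rfl N49139 D185341
theorem N83475 : nd 83475 = n185343 := ndS (p := 49140) (l := 4) rfl N49140 D185343
theorem N83476 : nd 83476 = n185345 := ndS (p := 49140) (l := 6) rfl N49140 D185345
theorem N83477 : nd 83477 = n185347 := ndS (p := 49141) (l := 3) rfl N49141 D185347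
theorem N83478 : nd 83478 = n185349 := ndS (p := 49141) (l := 5) rfl N49141 D185349
theorem N83479 : nd 83479 = n185350 := ndS (p := 49141) (l := 6) rfl N49141 D185350
theorem N83480 : nd 83480 = n185356 := ndS (p := 49142) (l := 0) rfl N49142 D185356
theorem N83481 : nd 83481 = n185357 := ndS (p := 49142) (l := 1) rfl N49142 D185357
theorem N83482 : nd 83482 = n185365 := ndS (p := 49144) (l := 3) rfl N49144 D185365
theorem N83483 : nd 83483 = n185369 := ndS (p := 49145) (l := 1) rfl N49145 D185369
theorem N83484 : nd 83484 = n185370 := ndS (p := 49145) (l := 4) rfl N49145 D185370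
theorem N83485 : nd 83485 = n185372 := ndS (p := 49146) (l := 2) rfl N49146 D185372
theorem N83486 : nd 83486 = n185373 := ndS (p := 49146) (l := 4) rfl N49146 D185373
theorem N83487 : nd 83487 = n185374 := ndS (p := 49146) (l := 6) rfl N49146 D185374
theorem N83488 : nd 83488 = n185377 := ndS (p := 49147) (l := 0) rfl N49147 D185377
theorem N83489 : nd 83489 = n185378 := ndS (p := 49147) (l := 1) rfl N49147 D185378
theorem N83490 : nd 83490 = n185382 := ndS (p := 49148) (l := 5) rfl N49148 D185382
theorem N83491 : nd 83491 = n185383 := ndS (p := 49148) (l := 6) rfl N49148 D185383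
theorem N83492 : nd 83492 = n185386 := ndS (p := 49150) (l := 0) rfl N49150 D185386
theorem N83493 : nd 83493 = n185387 := ndS (p := 49150) (l := 1) rfl N49150 D185387
theorem N83494 : nd 83494 = n185388 := ndS (p := 49150) (l := 7) rfl N49150 D185388
theorem N83495 : nd 83495 = n185412 := ndS (p := 49152) (l := 3) rfl N49152 D185412
theorem N83496 : nd 83496 = n185414 := ndS (p := 49153) (l := 3) rfl N49153 D185414
theorem N83497 : nd 83497 = n185416 := ndS (p := 49154) (l := 1) rfl N49154 D185416
theorem N83498 : nd 83498 = n185417 := ndS (p := 49154) (l := 5) rfl N49154 D185417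
theorem N83499 : nd 83499 = n185418 := ndS (p := 49155) (l := 6) rfl N49155 D185418
theorem N83500 : nd 83500 = n185419 := ndS (p := 49156) (l := 0) rfl N49156 D185419
theorem N83501 : nd 83501 = n185420 := ndS (p := 49156) (l := 1) rfl N49156 D185420
theorem N83502 : nd 83502 = n185421 := ndS (p := 49156) (l := 2) rfl N49156 D185421
theorem N83503 : nd 83503 = n185422 := ndS (p := 49156) (l := 5) rfl N49156 D185422
theorem N83504 : nd 83504 = n185424 := ndS (p := 49157) (l := 6) rfl N49157 D185424
theorem N83505 : nd 83505 = n185427 := ndS (p := 49158) (l := 2) rfl N49158 D185427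
theorem N83506 : nd 83506 = n185428 := ndS (p := 49158) (l := 5) rfl N49158 D185428
theorem N83507 : nd 83507 = n185429 := ndS (p := 49159) (l := 6) rfl N49159 D185429
theorem N83508 : nd 83508 = n185431 := ndS (p := 49160) (l := 5) rfl N49160 D185431
theorem N83509 : nd 83509 = n185434 := ndS (p := 49161) (l := 3) rfl N49161 D185434
theorem N83510 : nd 83510 = n185435 := ndS (p := 49161) (l := 5) rfl N49161 D185435
theorem N83511 : nd 83511 = n185438 := ndS (p := 49162) (l := 6) rfl N49162 D185438
theorem N83512 : nd 83512 = n185441 := ndS (p := 49163) (l := 4) rfl N49163 D185441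
theorem N83513 : nd 83513 = n185442 := ndS (p := 49163) (l := 6) rfl N49163 D185442
theorem N83514 : nd 83514 = n185445 := ndS (p := 49165) (l := 0) rfl N49165 D185445
theorem N83515 : nd 83515 = n185446 := ndS (p := 49165) (l := 1) rfl N49165 D185446
theorem N83516 : nd 83516 = n185447 := ndS (p := 49165) (l := 7) rfl N49165 D185447
theorem N83517 : nd 83517 = n185453 := ndS (p := 49167) (l := 6) rfl N49167 D185453
theorem N83518 : nd 83518 = n185458 := ndS (p := 49169) (l := 0) rfl N49169 D185458
theorem N83519 : nd 83519 = n185459 := ndS (p := 49169) (l := 1) rfl N49169 D185459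
theorem N83520 : nd 83520 = n185460 := ndS (p := 49170) (l := 3) rfl N49170 D185460
theorem N83521 : nd 83521 = n185461 := ndS (p := 49170) (l := 6) rfl N49170 D185461
theorem N83522 : nd 83522 = n185462 := ndS (p := 49171) (l := 3) rfl N49171 D185462
theorem N83523 : nd 83523 = n185464 := ndS (p := 49172) (l := 3) rfl N49172 D185464
theorem N83524 : nd 83524 = n185465 := ndS (p := 49172) (l := 6) rfl N49172 D185465
theorem N83525 : nd 83525 = n185466 := ndS (p := 49173) (l := 0) rfl N49173 D185466
theorem N83526 : nd 83526 = n185467 := ndS (p := 49173) (l := 1) rfl N49173 D185467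
theorem N83527 : nd 83527 = n185469 := ndS (p := 49175) (l := 0) rfl N49175 D185469
theorem N83528 : nd 83528 = n185470 := ndS (p := 49175) (l := 1) rfl N49175 D185470
theorem N83529 : nd 83529 = n185471 := ndS (p := 49175) (l := 2) rfl N49175 D185471
theorem N83530 : nd 83530 = n185473 := ndS (p := 49176) (l := 6) rfl N49176 D185473
theorem N83531 : nd 83531 = n185475 := ndS (p := 49177) (l := 6) rfl N49177 D185475
theorem N83532 : nd 83532 = n185476 := ndS (p := 49178) (l := 5) rfl N49178 D185476
theorem N83533 : nd 83533 = n185477 := ndS (p := 49179) (l := 3) rfl N49179 D185477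
theorem N83534 : nd 83534 = n185478 := ndS (p := 49179) (l := 4) rfl N49179 D185478
theorem N83535 : nd 83535 = n185479 := ndS (p := 49179) (l := 5) rfl N49179 D185479
theorem N83536 : nd 83536 = n185480 := ndS (p := 49179) (l := 6) rfl N49179 D185480
theorem N83537 : nd 83537 = n185481 := ndS (p := 49180) (l := 4) rfl N49180 D185481
theorem N83538 : nd 83538 = n185482 := ndS (p := 49180) (l := 6) rfl N49180 D185482
theorem N83539 : nd 83539 = n185483 := ndS (p := 49181) (l := 0) rfl N49181 D185483
theorem N83540 : nd 83540 = n185484 := ndS (p := 49181) (l := 1) rfl N49181 D185484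
theorem N83541 : nd 83541 = n185485 := ndS (p := 49181) (l := 3) rfl N49181 D185485
theorem N83542 : nd 83542 = n185487 := ndS (p := 49181) (l := 6) rfl N49181 D185487
theorem N83543 : nd 83543 = n185488 := ndS (p := 49182) (l := 0) rfl N49182 D185488
theorem N83544 : nd 83544 = n185489 := ndS (p := 49182) (l := 1) rfl N49182 D185489
theorem N83545 : nd 83545 = n185490 := ndS (p := 49182) (l := 5) rfl N49182 D185490
theorem N83546 : nd 83546 = n185491 := ndS (p := 49182) (l := 7) rfl N49182 D185491
theorem N83547 : nd 83547 = n185494 := ndS (p := 49184) (l := 0) rfl N49184 D185494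
theorem N83548 : nd 83548 = n185495 := ndS (p := 49184) (l := 4) rfl N49184 D185495
theorem N83549 : nd 83549 = n185497 := ndS (p := 49185) (l := 0) rfl N49185 D185497
theorem N83550 : nd 83550 = n185498 := ndS (p := 49185) (l := 1) rfl N49185 D185498
theorem N83551 : nd 83551 = n185499 := ndS (p := 49185) (l := 2) rfl N49185 D185499
theorem N83552 : nd 83552 = n185503 := ndS (p := 49186) (l := 5) rfl N49186 D185503
theorem N83553 : nd 83553 = n185506 := ndS (p := 49187) (l := 3) rfl N49187 D185506
theorem N83554 : nd 83554 = n185508 := ndS (p := 49187) (l := 5) rfl N49187 D185508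
theorem N83555 : nd 83555 = n185511 := ndS (p := 49188) (l := 3) rfl N49188 D185511
theorem N83556 : nd 83556 = n185513 := ndS (p := 49188) (l := 6) rfl N49188 D185513
theorem N83557 : nd 83557 = n185514 := ndS (p := 49189) (l := 0) rfl N49189 D185514
theorem N83558 : nd 83558 = n185515 := ndS (p := 49189) (l := 1) rfl N49189 D185515
theorem N83559 : nd 83559 = n185516 := ndS (p := 49189) (l := 4) rfl N49189 D185516
theorem N83560 : nd 83560 = n185518 := ndS (p := 49190) (l := 3) rfl N49190 D185518
theorem N83561 : nd 83561 = n185520 := ndS (p := 49191) (l := 3) rfl N49191 D185520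
theorem N83562 : nd 83562 = n185521 := ndS (p := 49191) (l := 4) rfl N49191 D185521
theorem N83563 : nd 83563 = n185522 := ndS (p := 49191) (l := 5) rfl N49191 D185522
theorem N83564 : nd 83564 = n185523 := ndS (p := 49192) (l := 5) rfl N49192 D185523
theorem N83565 : nd 83565 = n185524 := ndS (p := 49194) (l := 4) rfl N49194 D185524
theorem N83566 : nd 83566 = n185529 := ndS (p := 49195) (l := 0) rfl N49195 D185529
theorem N83567 : nd 83567 = n185531 := ndS (p := 49195) (l := 2) rfl N49195 D185531
theorem N83568 : nd 83568 = n185557 := ndS (p := 49196) (l := 0) rfl N49196 D185557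
theorem N83569 : nd 83569 = n185559 := ndS (p := 49196) (l := 2) rfl N49196 D185559
theorem N83570 : nd 83570 = n185560 := ndS (p := 49196) (l := 6) rfl N49196 D185560
theorem N83571 : nd 83571 = n185561 := ndS (p := 49197) (l := 5) rfl N49197 D185561
theorem N83572 : nd 83572 = n185593 := ndS (p := 49198) (l := 3) rfl N49198 D185593
theorem N83573 : nd 83573 = n185594 := ndS (p := 49198) (l := 4) rfl N49198 D185594
theorem N83574 : nd 83574 = n185599 := ndS (p := 49200) (l := 5) rfl N49200 D185599
theorem N83575 : nd 83575 = n185603 := ndS (p := 49201) (l := 4) rfl N49201 D185603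
theorem N83576 : nd 83576 = n185604 := ndS (p := 49201) (l := 6) rfl N49201 D185604
theorem N83577 : nd 83577 = n185609 := ndS (p := 49202) (l := 0) rfl N49202 D185609
theorem N83578 : nd 83578 = n185610 := ndS (p := 49202) (l := 1) rfl N49202 D185610
theorem N83579 : nd 83579 = n185612 := ndS (p := 49202) (l := 7) rfl N49202 D185612
theorem N83580 : nd 83580 = n185626 := ndS (p := 49203) (l := 4) rfl N49203 D185626
theorem N83581 : nd 83581 = n185631 := ndS (p := 49204) (l := 4) rfl N49204 D185631
theorem N83582 : nd 83582 = n185637 := ndS (p := 49206) (l := 1) rfl N49206 D185637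
theorem N83583 : nd 83583 = n185638 := ndS (p := 49206) (l := 4) rfl N49206 D185638
theorem N83584 : nd 83584 = n185643 := ndS (p := 49207) (l := 0) rfl N49207 D185643
theorem N83585 : nd 83585 = n185644 := ndS (p := 49207) (l := 1) rfl N49207 D185644
theorem N83586 : nd 83586 = n185646 := ndS (p := 49207) (l := 7) rfl N49207 D185646
theorem N83587 : nd 83587 = n185649 := ndS (p := 49208) (l := 3) rfl N49208 D185649
theorem N83588 : nd 83588 = n185656 := ndS (p := 49210) (l := 5) rfl N49210 D185656
theorem N83589 : nd 83589 = n185660 := ndS (p := 49211) (l := 6) rfl N49211 D185660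
theorem N83590 : nd 83590 = n185665 := ndS (p := 49212) (l := 0) rfl N49212 D185665
theorem N83591 : nd 83591 = n185666 := ndS (p := 49212) (l := 1) rfl N49212 D185666
theorem N83592 : nd 83592 = n185668 := ndS (p := 49212) (l := 7) rfl N49212 D185668
theorem N83593 : nd 83593 = n185682 := ndS (p := 49213) (l := 2) rfl N49213 D185682
theorem N83594 : nd 83594 = n185691 := ndS (p := 49214) (l := 4) rfl N49214 D185691
theorem N83595 : nd 83595 = n185692 := ndS (p := 49214) (l := 6) rfl N49214 D185692
theorem N83596 : nd 83596 = n185701 := ndS (p := 49215) (l := 3) rfl N49215 D185701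
theorem N83597 : nd 83597 = n185702 := ndS (p := 49215) (l := 6) rfl N49215 D185702
theorem N83598 : nd 83598 = n185703 := ndS (p := 49216) (l := 0) rfl N49216 D185703
theorem N83599 : nd 83599 = n185704 := ndS (p := 49216) (l := 1) rfl N49216 D185704
theorem N83600 : nd 83600 = n185705 := ndS (p := 49216) (l := 7) rfl N49216 D185705
theorem N83601 : nd 83601 = n185723 := ndS (p := 49217) (l := 0) rfl N49217 D185723
theorem N83602 : nd 83602 = n185724 := ndS (p := 49217) (l := 1) rfl N49217 D185724
theorem N83603 : nd 83603 = n185725 := ndS (p := 49217) (l := 2) rfl N49217 D185725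
theorem N83604 : nd 83604 = n185726 := ndS (p := 49217) (l := 6) rfl N49217 D185726
theorem N83605 : nd 83605 = n185727 := ndS (p := 49218) (l := 0) rfl N49218 D185727
theorem N83606 : nd 83606 = n185728 := ndS (p := 49218) (l := 1) rfl N49218 D185728
theorem N83607 : nd 83607 = n185730 := ndS (p := 49218) (l := 7) rfl N49218 D185730
theorem N83608 : nd 83608 = n185733 := ndS (p := 49219) (l := 4) rfl N49219 D185733
theorem N83609 : nd 83609 = n185734 := ndS (p := 49219) (l := 5) rfl N49219 D185734
theorem N83610 : nd 83610 = n185739 := ndS (p := 49220) (l := 5) rfl N49220 D185739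
theorem N83611 : nd 83611 = n185741 := ndS (p := 49223) (l := 3) rfl N49223 D185741
theorem N83612 : nd 83612 = n185742 := ndS (p := 49223) (l := 5) rfl N49223 D185742
theorem N83613 : nd 83613 = n185743 := ndS (p := 49223) (l := 6) rfl N49223 D185743
theorem N83614 : nd 83614 = n185744 := ndS (p := 49225) (l := 3) rfl N49225 D185744
theorem N83615 : nd 83615 = n185748 := ndS (p := 49226) (l := 4) rfl N49226 D185748
theorem N83616 : nd 83616 = n185753 := ndS (p := 49227) (l := 0) rfl N49227 D185753
theorem N83617 : nd 83617 = n185754 := ndS (p := 49227) (l := 1) rfl N49227 D185754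
theorem N83618 : nd 83618 = n185764 := ndS (p := 49229) (l := 0) rfl N49229 D185764
theorem N83619 : nd 83619 = n185767 := ndS (p := 49230) (l := 4) rfl N49230 D185767
theorem N83620 : nd 83620 = n185768 := ndS (p := 49230) (l := 5) rfl N49230 D185768
theorem N83621 : nd 83621 = n185770 := ndS (p := 49232) (l := 5) rfl N49232 D185770
theorem N83622 : nd 83622 = n185771 := ndS (p := 49233) (l := 1) rfl N49233 D185771
theorem N83623 : nd 83623 = n185778 := ndS (p := 49234) (l := 2) rfl N49234 D185778
theorem N83624 : nd 83624 = n185779 := ndS (p := 49234) (l := 4) rfl N49234 D185779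
theorem N83625 : nd 83625 = n185780 := ndS (p := 49234) (l := 6) rfl N49234 D185780
theorem N83626 : nd 83626 = n185784 := ndS (p := 49236) (l := 1) rfl N49236 D185784
theorem N83627 : nd 83627 = n185785 := ndS (p := 49236) (l := 7) rfl N49236 D185785
theorem N83628 : nd 83628 = n185788 := ndS (p := 49237) (l := 2) rfl N49237 D185788
theorem N83629 : nd 83629 = n185789 := ndS (p := 49237) (l := 4) rfl N49237 D185789
theorem N83630 : nd 83630 = n185791 := ndS (p := 49238) (l := 3) rfl N49238 D185791
theorem N83631 : nd 83631 = n185792 := ndS (p := 49238) (l := 6) rfl N49238 D185792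
theorem N83632 : nd 83632 = n185793 := ndS (p := 49239) (l := 0) rfl N49239 D185793
theorem N83633 : nd 83633 = n185794 := ndS (p := 49239) (l := 1) rfl N49239 D185794
theorem N83634 : nd 83634 = n185795 := ndS (p := 49239) (l := 7) rfl N49239 D185795
theorem N83635 : nd 83635 = n185796 := ndS (p := 49240) (l := 3) rfl N49240 D185796
theorem N83636 : nd 83636 = n185797 := ndS (p := 49240) (l := 6) rfl N49240 D185797
theorem N83637 : nd 83637 = n185799 := ndS (p := 49241) (l := 6) rfl N49241 D185799
theorem N83638 : nd 83638 = n185823 := ndS (p := 49243) (l := 2) rfl N49243 D185823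
theorem N83639 : nd 83639 = n185824 := ndS (p := 49243) (l := 5) rfl N49243 D185824
theorem N83640 : nd 83640 = n185826 := ndS (p := 49245) (l := 2) rfl N49245 D185826
theorem N83641 : nd 83641 = n185832 := ndS (p := 49248) (l := 0) rfl N49248 D185832
theorem N83642 : nd 83642 = n185833 := ndS (p := 49248) (l := 2) rfl N49248 D185833
theorem N83643 : nd 83643 = n185834 := ndS (p := 49248) (l := 5) rfl N49248 D185834
theorem N83644 : nd 83644 = n185835 := ndS (p := 49249) (l := 6) rfl N49249 D185835
theorem N83645 : nd 83645 = n185839 := ndS (p := 49250) (l := 5) rfl N49250 D185839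
theorem N83646 : nd 83646 = n185850 := ndS (p := 49254) (l := 3) rfl N49254 D185850
theorem N83647 : nd 83647 = n185851 := ndS (p := 49254) (l := 4) rfl N49254 D185851
theorem N83648 : nd 83648 = n185852 := ndS (p := 49254) (l := 5) rfl N49254 D185852
theorem N83649 : nd 83649 = n185855 := ndS (p := 49255) (l := 1) rfl N49255 D185855
theorem N83650 : nd 83650 = n185856 := ndS (p := 49255) (l := 4) rfl N49255 D185856
theorem N83651 : nd 83651 = n185857 := ndS (p := 49255) (l := 6) rfl N49255 D185857
theorem N83652 : nd 83652 = n185861 := ndS (p := 49257) (l := 6) rfl N49257 D185861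
theorem N83653 : nd 83653 = n185862 := ndS (p := 49258) (l := 0) rfl N49258 D185862
theorem N83654 : nd 83654 = n185863 := ndS (p := 49258) (l := 1) rfl N49258 D185863
theorem N83655 : nd 83655 = n185864 := ndS (p := 49258) (l := 7) rfl N49258 D185864
theorem N83656 : nd 83656 = n185865 := ndS (p := 49259) (l := 3) rfl N49259 D185865
theorem N83657 : nd 83657 = n185866 := ndS (p := 49259) (l := 5) rfl N49259 D185866
theorem N83658 : nd 83658 = n185867 := ndS (p := 49259) (l := 6) rfl N49259 D185867
theorem N83659 : nd 83659 = n185868 := ndS (p := 49260) (l := 5) rfl N49260 D185868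
theorem N83660 : nd 83660 = n185869 := ndS (p := 49262) (l := 4) rfl N49262 D185869
theorem N83661 : nd 83661 = n185874 := ndS (p := 49263) (l := 2) rfl N49263 D185874
theorem N83662 : nd 83662 = n185875 := ndS (p := 49263) (l := 4) rfl N49263 D185875
theorem N83663 : nd 83663 = n185876 := ndS (p := 49263) (l := 6) rfl N49263 D185876
theorem N83664 : nd 83664 = n185879 := ndS (p := 49264) (l := 0) rfl N49264 D185879
theorem N83665 : nd 83665 = n185880 := ndS (p := 49264) (l := 1) rfl N49264 D185880
theorem N83666 : nd 83666 = n185881 := ndS (p := 49264) (l := 7) rfl N49264 D185881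
theorem N83667 : nd 83667 = n185882 := ndS (p := 49265) (l := 2) rfl N49265 D185882
theorem N83668 : nd 83668 = n185883 := ndS (p := 49265) (l := 4) rfl N49265 D185883
theorem N83669 : nd 83669 = n185884 := ndS (p := 49265) (l := 6) rfl N49265 D185884
theorem N83670 : nd 83670 = n185888 := ndS (p := 49266) (l := 1) rfl N49266 D185888
theorem N83671 : nd 83671 = n185891 := ndS (p := 49267) (l := 6) rfl N49267 D185891
theorem N83672 : nd 83672 = n185900 := ndS (p := 49270) (l := 0) rfl N49270 D185900
theorem N83673 : nd 83673 = n185902 := ndS (p := 49270) (l := 5) rfl N49270 D185902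
theorem N83674 : nd 83674 = n185904 := ndS (p := 49271) (l := 3) rfl N49271 D185904
theorem N83675 : nd 83675 = n185906 := ndS (p := 49271) (l := 5) rfl N49271 D185906
theorem N83676 : nd 83676 = n185907 := ndS (p := 49271) (l := 6) rfl N49271 D185907
theorem N83677 : nd 83677 = n185909 := ndS (p := 49273) (l := 0) rfl N49273 D185909
theorem N83678 : nd 83678 = n185910 := ndS (p := 49273) (l := 1) rfl N49273 D185910
theorem N83679 : nd 83679 = n185911 := ndS (p := 49273) (l := 4) rfl N49273 D185911
theorem N83680 : nd 83680 = n185912 := ndS (p := 49273) (l := 7) rfl N49273 D185912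
theorem N83681 : nd 83681 = n185913 := ndS (p := 49275) (l := 0) rfl N49275 D185913
theorem N83682 : nd 83682 = n185956 := ndS (p := 49278) (l := 5) rfl N49278 D185956
theorem N83683 : nd 83683 = n185959 := ndS (p := 49279) (l := 6) rfl N49279 D185959
theorem N83684 : nd 83684 = n185980 := ndS (p := 49280) (l := 3) rfl N49280 D185980
theorem N83685 : nd 83685 = n185981 := ndS (p := 49280) (l := 5) rfl N49280 D185981
theorem N83686 : nd 83686 = n185982 := ndS (p := 49280) (l := 6) rfl N49280 D185982
theorem N83687 : nd 83687 = n185984 := ndS (p := 49281) (l := 5) rfl N49281 D185984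
theorem N83688 : nd 83688 = n185986 := ndS (p := 49282) (l := 0) rfl N49282 D185986
theorem N83689 : nd 83689 = n185987 := ndS (p := 49282) (l := 4) rfl N49282 D185987
theorem N83690 : nd 83690 = n185988 := ndS (p := 49282) (l := 7) rfl N49282 D185988
theorem N83691 : nd 83691 = n185992 := ndS (p := 49284) (l := 5) rfl N49284 D185992
theorem N83692 : nd 83692 = n185993 := ndS (p := 49285) (l := 4) rfl N49285 D185993
theorem N83693 : nd 83693 = n185997 := ndS (p := 49286) (l := 5) rfl N49286 D185997
theorem N83694 : nd 83694 = n185998 := ndS (p := 49287) (l := 4) rfl N49287 D185998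
theorem N83695 : nd 83695 = n185999 := ndS (p := 49287) (l := 6) rfl N49287 D185999
theorem N83696 : nd 83696 = n186003 := ndS (p := 49288) (l := 3) rfl N49288 D186003
theorem N83697 : nd 83697 = n186006 := ndS (p := 49289) (l := 6) rfl N49289 D186006
theorem N83698 : nd 83698 = n186007 := ndS (p := 49290) (l := 5) rfl N49290 D186007
theorem N83699 : nd 83699 = n186009 := ndS (p := 49291) (l := 4) rfl N49291 D186009
theorem N83700 : nd 83700 = n186010 := ndS (p := 49291) (l := 6) rfl N49291 D186010
theorem N83701 : nd 83701 = n186015 := ndS (p := 49292) (l := 4) rfl N49292 D186015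
theorem N83702 : nd 83702 = n186016 := ndS (p := 49292) (l := 6) rfl N49292 D186016
theorem N83703 : nd 83703 = n186036 := ndS (p := 49293) (l := 3) rfl N49293 D186036
theorem N83704 : nd 83704 = n186037 := ndS (p := 49293) (l := 4) rfl N49293 D186037
theorem N83705 : nd 83705 = n186041 := ndS (p := 49294) (l := 3) rfl N49294 D186041
theorem N83706 : nd 83706 = n186042 := ndS (p := 49294) (l := 4) rfl N49294 D186042
theorem N83707 : nd 83707 = n186050 := ndS (p := 49297) (l := 5) rfl N49297 D186050
theorem N83708 : nd 83708 = n186053 := ndS (p := 49298) (l := 4) rfl N49298 D186053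
theorem N83709 : nd 83709 = n186054 := ndS (p := 49298) (l := 6) rfl N49298 D186054
theorem N83710 : nd 83710 = n186056 := ndS (p := 49299) (l := 1) rfl N49299 D186056
theorem N83711 : nd 83711 = n186057 := ndS (p := 49299) (l := 7) rfl N49299 D186057
theorem N83712 : nd 83712 = n186059 := ndS (p := 49300) (l := 3) rfl N49300 D186059
theorem N83713 : nd 83713 = n186061 := ndS (p := 49300) (l := 5) rfl N49300 D186061
theorem N83714 : nd 83714 = n186066 := ndS (p := 49301) (l := 5) rfl N49301 D186066
theorem N83715 : nd 83715 = n186082 := ndS (p := 49303) (l := 1) rfl N49303 D186082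
theorem N83716 : nd 83716 = n186083 := ndS (p := 49303) (l := 2) rfl N49303 D186083
theorem N83717 : nd 83717 = n186084 := ndS (p := 49304) (l := 4) rfl N49304 D186084
theorem N83718 : nd 83718 = n186087 := ndS (p := 49307) (l := 3) rfl N49307 D186087
theorem N83719 : nd 83719 = n186130 := ndS (p := 49310) (l := 4) rfl N49310 D186130
theorem N83720 : nd 83720 = n186137 := ndS (p := 49312) (l := 5) rfl N49312 D186137
theorem N83721 : nd 83721 = n186139 := ndS (p := 49313) (l := 0) rfl N49313 D186139
theorem N83722 : nd 83722 = n186140 := ndS (p := 49313) (l := 1) rfl N49313 D186140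
theorem N83723 : nd 83723 = n186141 := ndS (p := 49313) (l := 4) rfl N49313 D186141
theorem N83724 : nd 83724 = n186142 := ndS (p := 49313) (l := 6) rfl N49313 D186142
theorem N83725 : nd 83725 = n186150 := ndS (p := 49314) (l := 7) rfl N49314 D186150
theorem N83726 : nd 83726 = n186157 := ndS (p := 49315) (l := 5) rfl N49315 D186157
theorem N83727 : nd 83727 = n186170 := ndS (p := 49319) (l := 1) rfl N49319 D186170
theorem N83728 : nd 83728 = n186179 := ndS (p := 49321) (l := 3) rfl N49321 D186179
theorem N83729 : nd 83729 = n186181 := ndS (p := 49321) (l := 5) rfl N49321 D186181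
theorem N83730 : nd 83730 = n186185 := ndS (p := 49323) (l := 3) rfl N49323 D186185
theorem N83731 : nd 83731 = n186186 := ndS (p := 49323) (l := 5) rfl N49323 D186186
theorem N83732 : nd 83732 = n186188 := ndS (p := 49324) (l := 0) rfl N49324 D186188
theorem N83733 : nd 83733 = n186190 := ndS (p := 49324) (l := 6) rfl N49324 D186190
theorem N83734 : nd 83734 = n186194 := ndS (p := 49325) (l := 5) rfl N49325 D186194
theorem N83735 : nd 83735 = n186198 := ndS (p := 49327) (l := 2) rfl N49327 D186198
theorem N83736 : nd 83736 = n186199 := ndS (p := 49327) (l := 5) rfl N49327 D186199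
theorem N83737 : nd 83737 = n186201 := ndS (p := 49328) (l := 5) rfl N49328 D186201
theorem N83738 : nd 83738 = n186203 := ndS (p := 49329) (l := 4) rfl N49329 D186203
theorem N83739 : nd 83739 = n186211 := ndS (p := 49330) (l := 4) rfl N49330 D186211
theorem N83740 : nd 83740 = n186212 := ndS (p := 49330) (l := 6) rfl N49330 D186212
theorem N83741 : nd 83741 = n186219 := ndS (p := 49331) (l := 3) rfl N49331 D186219
theorem N83742 : nd 83742 = n186225 := ndS (p := 49332) (l := 6) rfl N49332 D186225
theorem N83743 : nd 83743 = n186227 := ndS (p := 49333) (l := 0) rfl N49333 D186227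
theorem N83744 : nd 83744 = n186228 := ndS (p := 49333) (l := 1) rfl N49333 D186228
theorem N83745 : nd 83745 = n186229 := ndS (p := 49333) (l := 7) rfl N49333 D186229
theorem N83746 : nd 83746 = n186230 := ndS (p := 49334) (l := 6) rfl N49334 D186230
theorem N83747 : nd 83747 = n186245 := ndS (p := 49335) (l := 2) rfl N49335 D186245
theorem N83748 : nd 83748 = n186248 := ndS (p := 49336) (l := 0) rfl N49336 D186248
theorem N83749 : nd 83749 = n186249 := ndS (p := 49336) (l := 1) rfl N49336 D186249
theorem N83750 : nd 83750 = n186250 := ndS (p := 49336) (l := 5) rfl N49336 D186250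
theorem N83751 : nd 83751 = n186253 := ndS (p := 49337) (l := 3) rfl N49337 D186253
theorem N83752 : nd 83752 = n186255 := ndS (p := 49337) (l := 5) rfl N49337 D186255
theorem N83753 : nd 83753 = n186256 := ndS (p := 49337) (l := 6) rfl N49337 D186256
theorem N83754 : nd 83754 = n186260 := ndS (p := 49338) (l := 5) rfl N49338 D186260
theorem N83755 : nd 83755 = n186261 := ndS (p := 49338) (l := 6) rfl N49338 D186261
theorem N83756 : nd 83756 = n186262 := ndS (p := 49339) (l := 6) rfl N49339 D186262
theorem N83757 : nd 83757 = n186263 := ndS (p := 49340) (l := 0) rfl N49340 D186263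
theorem N83758 : nd 83758 = n186264 := ndS (p := 49340) (l := 1) rfl N49340 D186264
theorem N83759 : nd 83759 = n186279 := ndS (p := 49341) (l := 4) rfl N49341 D186279
theorem N83760 : nd 83760 = n186280 := ndS (p := 49341) (l := 5) rfl N49341 D186280
theorem N83761 : nd 83761 = n186285 := ndS (p := 49342) (l := 5) rfl N49342 D186285
theorem N83762 : nd 83762 = n186287 := ndS (p := 49343) (l := 5) rfl N49343 D186287
theorem N83763 : nd 83763 = n186288 := ndS (p := 49344) (l := 0) rfl N49344 D186288
theorem N83764 : nd 83764 = n186289 := ndS (p := 49344) (l := 1) rfl N49344 D186289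
theorem N83765 : nd 83765 = n186290 := ndS (p := 49344) (l := 4) rfl N49344 D186290
theorem N83766 : nd 83766 = n186291 := ndS (p := 49344) (l := 6) rfl N49344 D186291
theorem N83767 : nd 83767 = n186292 := ndS (p := 49345) (l := 0) rfl N49345 D186292
theorem N83768 : nd 83768 = n186294 := ndS (p := 49345) (l := 7) rfl N49345 D186294
theorem N83769 : nd 83769 = n186297 := ndS (p := 49346) (l := 3) rfl N49346 D186297
theorem N83770 : nd 83770 = n186299 := ndS (p := 49347) (l := 1) rfl N49347 D186299
theorem N83771 : nd 83771 = n186300 := ndS (p := 49347) (l := 2) rfl N49347 D186300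
theorem N83772 : nd 83772 = n186302 := ndS (p := 49347) (l := 7) rfl N49347 D186302
theorem N83773 : nd 83773 = n186303 := ndS (p := 49348) (l := 4) rfl N49348 D186303
theorem N83774 : nd 83774 = n186304 := ndS (p := 49348) (l := 6) rfl N49348 D186304
theorem N83775 : nd 83775 = n186305 := ndS (p := 49348) (l := 7) rfl N49348 D186305
theorem N83776 : nd 83776 = n186308 := ndS (p := 49350) (l := 4) rfl N49350 D186308
theorem N83777 : nd 83777 = n186310 := ndS (p := 49350) (l := 6) rfl N49350 D186310
theorem N83778 : nd 83778 = n186312 := ndS (p := 49351) (l := 3) rfl N49351 D186312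
theorem N83779 : nd 83779 = n186313 := ndS (p := 49351) (l := 4) rfl N49351 D186313
theorem N83780 : nd 83780 = n186319 := ndS (p := 49353) (l := 4) rfl N49353 D186319
theorem N83781 : nd 83781 = n186320 := ndS (p := 49353) (l := 6) rfl N49353 D186320
theorem N83782 : nd 83782 = n186321 := ndS (p := 49354) (l := 0) rfl N49354 D186321
theorem N83783 : nd 83783 = n186322 := ndS (p := 49354) (l := 1) rfl N49354 D186322
theorem N83784 : nd 83784 = n186323 := ndS (p := 49354) (l := 7) rfl N49354 D186323
theorem N83785 : nd 83785 = n186327 := ndS (p := 49355) (l := 5) rfl N49355 D186327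
theorem N83786 : nd 83786 = n186360 := ndS (p := 49358) (l := 5) rfl N49358 D186360
theorem N83787 : nd 83787 = n186369 := ndS (p := 49360) (l := 4) rfl N49360 D186369
theorem N83788 : nd 83788 = n186370 := ndS (p := 49360) (l := 6) rfl N49360 D186370
theorem N83789 : nd 83789 = n186378 := ndS (p := 49361) (l := 4) rfl N49361 D186378
theorem N83790 : nd 83790 = n186384 := ndS (p := 49362) (l := 4) rfl N49362 D186384
theorem N83791 : nd 83791 = n186385 := ndS (p := 49362) (l := 6) rfl N49362 D186385
theorem N83792 : nd 83792 = n186387 := ndS (p := 49363) (l := 3) rfl N49363 D186387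
theorem N83793 : nd 83793 = n186388 := ndS (p := 49363) (l := 4) rfl N49363 D186388
theorem N83794 : nd 83794 = n186390 := ndS (p := 49363) (l := 6) rfl N49363 D186390
theorem N83795 : nd 83795 = n186396 := ndS (p := 49365) (l := 0) rfl N49365 D186396
theorem N83796 : nd 83796 = n186398 := ndS (p := 49365) (l := 3) rfl N49365 D186398
theorem N83797 : nd 83797 = n186399 := ndS (p := 49365) (l := 5) rfl N49365 D186399
theorem N83798 : nd 83798 = n186400 := ndS (p := 49365) (l := 6) rfl N49365 D186400
theorem N83799 : nd 83799 = n186401 := ndS (p := 49366) (l := 0) rfl N49366 D186401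
theorem N83800 : nd 83800 = n186402 := ndS (p := 49366) (l := 1) rfl N49366 D186402
theorem N83801 : nd 83801 = n186403 := ndS (p := 49366) (l := 7) rfl N49366 D186403
theorem N83802 : nd 83802 = n186405 := ndS (p := 49367) (l := 2) rfl N49367 D186405
theorem N83803 : nd 83803 = n186406 := ndS (p := 49367) (l := 4) rfl N49367 D186406
theorem N83804 : nd 83804 = n186407 := ndS (p := 49367) (l := 6) rfl N49367 D186407
theorem N83805 : nd 83805 = n186408 := ndS (p := 49368) (l := 0) rfl N49368 D186408
theorem N83806 : nd 83806 = n186409 := ndS (p := 49368) (l := 1) rfl N49368 D186409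
theorem N83807 : nd 83807 = n186411 := ndS (p := 49368) (l := 7) rfl N49368 D186411
theorem N83808 : nd 83808 = n186414 := ndS (p := 49369) (l := 2) rfl N49369 D186414
theorem N83809 : nd 83809 = n186415 := ndS (p := 49369) (l := 4) rfl N49369 D186415
theorem N83810 : nd 83810 = n186416 := ndS (p := 49369) (l := 6) rfl N49369 D186416
theorem N83811 : nd 83811 = n186421 := ndS (p := 49371) (l := 0) rfl N49371 D186421
theorem N83812 : nd 83812 = n186422 := ndS (p := 49371) (l := 1) rfl N49371 D186422
theorem N83813 : nd 83813 = n186423 := ndS (p := 49371) (l := 2) rfl N49371 D186423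
theorem N83814 : nd 83814 = n186424 := ndS (p := 49371) (l := 6) rfl N49371 D186424
theorem N83815 : nd 83815 = n186425 := ndS (p := 49372) (l := 0) rfl N49372 D186425
theorem N83816 : nd 83816 = n186426 := ndS (p := 49372) (l := 1) rfl N49372 D186426
theorem N83817 : nd 83817 = n186427 := ndS (p := 49372) (l := 5) rfl N49372 D186427
theorem N83818 : nd 83818 = n186428 := ndS (p := 49372) (l := 7) rfl N49372 D186428
theorem N83819 : nd 83819 = n186432 := ndS (p := 49373) (l := 5) rfl N49373 D186432
theorem N83820 : nd 83820 = n186435 := ndS (p := 49374) (l := 3) rfl N49374 D186435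
theorem N83821 : nd 83821 = n186437 := ndS (p := 49374) (l := 5) rfl N49374 D186437
theorem N83822 : nd 83822 = n186438 := ndS (p := 49374) (l := 6) rfl N49374 D186438
theorem N83823 : nd 83823 = n186440 := ndS (p := 49376) (l := 1) rfl N49376 D186440
theorem N83824 : nd 83824 = n186441 := ndS (p := 49376) (l := 5) rfl N49376 D186441
theorem N83825 : nd 83825 = n186443 := ndS (p := 49377) (l := 5) rfl N49377 D186443
theorem N83826 : nd 83826 = n186444 := ndS (p := 49378) (l := 4) rfl N49378 D186444
theorem N83827 : nd 83827 = n186448 := ndS (p := 49380) (l := 1) rfl N49380 D186448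
theorem N83828 : nd 83828 = n186449 := ndS (p := 49380) (l := 5) rfl N49380 D186449
theorem N83829 : nd 83829 = n186456 := ndS (p := 49383) (l := 5) rfl N49383 D186456
theorem N83830 : nd 83830 = n186457 := ndS (p := 49383) (l := 6) rfl N49383 D186457
theorem N83831 : nd 83831 = n186459 := ndS (p := 49384) (l := 5) rfl N49384 D186459
theorem N83832 : nd 83832 = n186472 := ndS (p := 49388) (l := 6) rfl N49388 D186472
theorem N83833 : nd 83833 = n186482 := ndS (p := 49391) (l := 0) rfl N49391 D186482
theorem N83834 : nd 83834 = n186484 := ndS (p := 49391) (l := 5) rfl N49391 D186484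
theorem N83835 : nd 83835 = n186485 := ndS (p := 49391) (l := 6) rfl N49391 D186485
theorem N83836 : nd 83836 = n186487 := ndS (p := 49392) (l := 5) rfl N49392 D186487
theorem N83837 : nd 83837 = n186488 := ndS (p := 49392) (l := 6) rfl N49392 D186488
theorem N83838 : nd 83838 = n186489 := ndS (p := 49393) (l := 0) rfl N49393 D186489
theorem N83839 : nd 83839 = n186490 := ndS (p := 49393) (l := 4) rfl N49393 D186490
theorem N83840 : nd 83840 = n186491 := ndS (p := 49393) (l := 6) rfl N49393 D186491
theorem N83841 : nd 83841 = n186493 := ndS (p := 49394) (l := 7) rfl N49394 D186493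
theorem N83842 : nd 83842 = n186500 := ndS (p := 49396) (l := 6) rfl N49396 D186500
theorem N83843 : nd 83843 = n186501 := ndS (p := 49397) (l := 4) rfl N49397 D186501
theorem N83844 : nd 83844 = n186510 := ndS (p := 49400) (l := 6) rfl N49400 D186510
theorem N83845 : nd 83845 = n186516 := ndS (p := 49401) (l := 6) rfl N49401 D186516
theorem N83846 : nd 83846 = n186534 := ndS (p := 49404) (l := 6) rfl N49404 D186534
theorem N83847 : nd 83847 = n186542 := ndS (p := 49406) (l := 5) rfl N49406 D186542
theorem N83848 : nd 83848 = n186543 := ndS (p := 49406) (l := 6) rfl N49406 D186543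
theorem N83849 : nd 83849 = n186544 := ndS (p := 49407) (l := 0) rfl N49407 D186544
theorem N83850 : nd 83850 = n186545 := ndS (p := 49407) (l := 1) rfl N49407 D186545
theorem N83851 : nd 83851 = n186546 := ndS (p := 49407) (l := 4) rfl N49407 D186546
theorem N83852 : nd 83852 = n186548 := ndS (p := 49408) (l := 0) rfl N49408 D186548
theorem N83853 : nd 83853 = n186549 := ndS (p := 49408) (l := 1) rfl N49408 D186549
theorem N83854 : nd 83854 = n186551 := ndS (p := 49409) (l := 3) rfl N49409 D186551
theorem N83855 : nd 83855 = n186552 := ndS (p := 49409) (l := 6) rfl N49409 D186552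
theorem N83856 : nd 83856 = n186553 := ndS (p := 49410) (l := 0) rfl N49410 D186553
theorem N83857 : nd 83857 = n186554 := ndS (p := 49410) (l := 1) rfl N49410 D186554
theorem N83858 : nd 83858 = n186555 := ndS (p := 49410) (l := 7) rfl N49410 D186555
theorem N83859 : nd 83859 = n186562 := ndS (p := 49411) (l := 4) rfl N49411 D186562
theorem N83860 : nd 83860 = n186565 := ndS (p := 49412) (l := 5) rfl N49412 D186565
theorem N83861 : nd 83861 = n186567 := ndS (p := 49413) (l := 0) rfl N49413 D186567
theorem N83862 : nd 83862 = n186568 := ndS (p := 49413) (l := 1) rfl N49413 D186568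
theorem N83863 : nd 83863 = n186569 := ndS (p := 49413) (l := 4) rfl N49413 D186569
theorem N83864 : nd 83864 = n186574 := ndS (p := 49414) (l := 6) rfl N49414 D186574
theorem N83865 : nd 83865 = n186575 := ndS (p := 49415) (l := 0) rfl N49415 D186575
theorem N83866 : nd 83866 = n186576 := ndS (p := 49415) (l := 7) rfl N49415 D186576
theorem N83867 : nd 83867 = n186577 := ndS (p := 49417) (l := 6) rfl N49417 D186577
theorem N83868 : nd 83868 = n186578 := ndS (p := 49418) (l := 0) rfl N49418 D186578
theorem N83869 : nd 83869 = n186579 := ndS (p := 49418) (l := 1) rfl N49418 D186579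
theorem N83870 : nd 83870 = n186580 := ndS (p := 49418) (l := 7) rfl N49418 D186580
theorem N83871 : nd 83871 = n186581 := ndS (p := 49419) (l := 6) rfl N49419 D186581
theorem N83872 : nd 83872 = n186582 := ndS (p := 49420) (l := 0) rfl N49420 D186582
theorem N83873 : nd 83873 = n186583 := ndS (p := 49420) (l := 1) rfl N49420 D186583
theorem N83874 : nd 83874 = n186584 := ndS (p := 49421) (l := 3) rfl N49421 D186584
theorem N83875 : nd 83875 = n186585 := ndS (p := 49423) (l := 3) rfl N49423 D186585
theorem N83876 : nd 83876 = n186586 := ndS (p := 49424) (l := 0) rfl N49424 D186586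
theorem N83877 : nd 83877 = n186587 := ndS (p := 49424) (l := 5) rfl N49424 D186587
theorem N83878 : nd 83878 = n186588 := ndS (p := 49425) (l := 6) rfl N49425 D186588
theorem N83879 : nd 83879 = n186589 := ndS (p := 49426) (l := 0) rfl N49426 D186589
theorem N83880 : nd 83880 = n186590 := ndS (p := 49426) (l := 1) rfl N49426 D186590
theorem N83881 : nd 83881 = n186591 := ndS (p := 49426) (l := 5) rfl N49426 D186591
theorem N83882 : nd 83882 = n186592 := ndS (p := 49426) (l := 7) rfl N49426 D186592
theorem N83883 : nd 83883 = n186593 := ndS (p := 49427) (l := 3) rfl N49427 D186593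
theorem N83884 : nd 83884 = n186594 := ndS (p := 49429) (l := 2) rfl N49429 D186594
theorem N83885 : nd 83885 = n186595 := ndS (p := 49429) (l := 5) rfl N49429 D186595
theorem N83886 : nd 83886 = n186596 := ndS (p := 49430) (l := 6) rfl N49430 D186596
theorem N83887 : nd 83887 = n186597 := ndS (p := 49431) (l := 3) rfl N49431 D186597
theorem N83888 : nd 83888 = n186598 := ndS (p := 49431) (l := 6) rfl N49431 D186598
theorem N83889 : nd 83889 = n186599 := ndS (p := 49432) (l := 0) rfl N49432 D186599
theorem N83890 : nd 83890 = n186600 := ndS (p := 49432) (l := 1) rfl N49432 D186600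
theorem N83891 : nd 83891 = n186601 := ndS (p := 49434) (l := 6) rfl N49434 D186601
theorem N83892 : nd 83892 = n186602 := ndS (p := 49435) (l := 5) rfl N49435 D186602
theorem N83893 : nd 83893 = n186603 := ndS (p := 49436) (l := 6) rfl N49436 D186603
theorem N83894 : nd 83894 = n186604 := ndS (p := 49437) (l := 0) rfl N49437 D186604
theorem N83895 : nd 83895 = n186605 := ndS (p := 49437) (l := 1) rfl N49437 D186605
theorem N83896 : nd 83896 = n186606 := ndS (p := 49437) (l := 5) rfl N49437 D186606
theorem N83897 : nd 83897 = n186607 := ndS (p := 49437) (l := 7) rfl N49437 D186607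
theorem N83898 : nd 83898 = n186608 := ndS (p := 49438) (l := 5) rfl N49438 D186608
theorem N83899 : nd 83899 = n186609 := ndS (p := 49438) (l := 6) rfl N49438 D186609
theorem N83900 : nd 83900 = n186610 := ndS (p := 49439) (l := 5) rfl N49439 D186610
theorem N83901 : nd 83901 = n186611 := ndS (p := 49439) (l := 6) rfl N49439 D186611
theorem N83902 : nd 83902 = n186612 := ndS (p := 49440) (l := 0) rfl N49440 D186612
theorem N83903 : nd 83903 = n186613 := ndS (p := 49440) (l := 1) rfl N49440 D186613
theorem N83904 : nd 83904 = n186614 := ndS (p := 49440) (l := 4) rfl N49440 D186614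
theorem N83905 : nd 83905 = n186615 := ndS (p := 49440) (l := 7) rfl N49440 D186615
theorem N83906 : nd 83906 = n186616 := ndS (p := 49442) (l := 3) rfl N49442 D186616
theorem N83907 : nd 83907 = n186617 := ndS (p := 49442) (l := 7) rfl N49442 D186617
theorem N83908 : nd 83908 = n186618 := ndS (p := 49443) (l := 6) rfl N49443 D186618
theorem N83909 : nd 83909 = n186619 := ndS (p := 49445) (l := 6) rfl N49445 D186619
theorem N83910 : nd 83910 = n186620 := ndS (p := 49450) (l := 5) rfl N49450 D186620
theorem N83911 : nd 83911 = n186621 := ndS (p := 49451) (l := 4) rfl N49451 D186621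
theorem N83912 : nd 83912 = n186622 := ndS (p := 49454) (l := 3) rfl N49454 D186622
theorem N83913 : nd 83913 = n186623 := ndS (p := 49454) (l := 6) rfl N49454 D186623
theorem N83914 : nd 83914 = n186624 := ndS (p := 49456) (l := 6) rfl N49456 D186624
theorem N83915 : nd 83915 = n186625 := ndS (p := 49457) (l := 1) rfl N49457 D186625
theorem N83916 : nd 83916 = n186626 := ndS (p := 49457) (l := 5) rfl N49457 D186626
theorem N83917 : nd 83917 = n186627 := ndS (p := 49457) (l := 7) rfl N49457 D186627
theorem N83918 : nd 83918 = n186628 := ndS (p := 49458) (l := 0) rfl N49458 D186628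
theorem N83919 : nd 83919 = n186629 := ndS (p := 49458) (l := 7) rfl N49458 D186629
theorem N83920 : nd 83920 = n186630 := ndS (p := 49460) (l := 5) rfl N49460 D186630
theorem N83921 : nd 83921 = n186631 := ndS (p := 49461) (l := 4) rfl N49461 D186631
theorem N83922 : nd 83922 = n186632 := ndS (p := 49463) (l := 6) rfl N49463 D186632
theorem N83923 : nd 83923 = n186633 := ndS (p := 49465) (l := 5) rfl N49465 D186633
theorem N83924 : nd 83924 = n186634 := ndS (p := 49465) (l := 6) rfl N49465 D186634
theorem N83925 : nd 83925 = n186635 := ndS (p := 49467) (l := 5) rfl N49467 D186635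
theorem N83926 : nd 83926 = n186636 := ndS (p := 49468) (l := 6) rfl N49468 D186636
theorem N83927 : nd 83927 = n186637 := ndS (p := 49469) (l := 3) rfl N49469 D186637
theorem N83928 : nd 83928 = n186638 := ndS (p := 49469) (l := 6) rfl N49469 D186638
theorem N83929 : nd 83929 = n186639 := ndS (p := 49470) (l := 5) rfl N49470 D186639
theorem N83930 : nd 83930 = n186640 := ndS (p := 49472) (l := 4) rfl N49472 D186640
theorem N83931 : nd 83931 = n186641 := ndS (p := 49472) (l := 6) rfl N49472 D186641
theorem N83932 : nd 83932 = n186642 := ndS (p := 49473) (l := 1) rfl N49473 D186642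
theorem N83933 : nd 83933 = n186643 := ndS (p := 49474) (l := 0) rfl N49474 D186643
theorem N83934 : nd 83934 = n186644 := ndS (p := 49474) (l := 1) rfl N49474 D186644
theorem N83935 : nd 83935 = n186645 := ndS (p := 49474) (l := 7) rfl N49474 D186645
theorem N83936 : nd 83936 = n186646 := ndS (p := 49475) (l := 2) rfl N49475 D186646
theorem N83937 : nd 83937 = n186647 := ndS (p := 49475) (l := 4) rfl N49475 D186647
theorem N83938 : nd 83938 = n186648 := ndS (p := 49475) (l := 6) rfl N49475 D186648
theorem N83939 : nd 83939 = n186651 := ndS (p := 49476) (l := 7) rfl N49476 D186651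
theorem N83940 : nd 83940 = n186652 := ndS (p := 49477) (l := 2) rfl N49477 D186652
theorem N83941 : nd 83941 = n186653 := ndS (p := 49477) (l := 4) rfl N49477 D186653
theorem N83942 : nd 83942 = n186654 := ndS (p := 49477) (l := 6) rfl N49477 D186654
theorem N83943 : nd 83943 = n186655 := ndS (p := 49478) (l := 0) rfl N49478 D186655
theorem N83944 : nd 83944 = n186656 := ndS (p := 49478) (l := 1) rfl N49478 D186656
theorem N83945 : nd 83945 = n186657 := ndS (p := 49478) (l := 7) rfl N49478 D186657
theorem N83946 : nd 83946 = n186658 := ndS (p := 49480) (l := 5) rfl N49480 D186658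
theorem N83947 : nd 83947 = n186660 := ndS (p := 49481) (l := 6) rfl N49481 D186660
theorem N83948 : nd 83948 = n186661 := ndS (p := 49482) (l := 5) rfl N49482 D186661
theorem N83949 : nd 83949 = n186662 := ndS (p := 49482) (l := 6) rfl N49482 D186662
theorem N83950 : nd 83950 = n186663 := ndS (p := 49483) (l := 0) rfl N49483 D186663
theorem N83951 : nd 83951 = n186664 := ndS (p := 49483) (l := 1) rfl N49483 D186664
theorem N83952 : nd 83952 = n186665 := ndS (p := 49483) (l := 4) rfl N49483 D186665
theorem N83953 : nd 83953 = n186666 := ndS (p := 49484) (l := 4) rfl N49484 D186666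
theorem N83954 : nd 83954 = n186667 := ndS (p := 49485) (l := 3) rfl N49485 D186667
theorem N83955 : nd 83955 = n186668 := ndS (p := 49486) (l := 0) rfl N49486 D186668
theorem N83956 : nd 83956 = n186669 := ndS (p := 49486) (l := 1) rfl N49486 D186669
theorem N83957 : nd 83957 = n186670 := ndS (p := 49488) (l := 5) rfl N49488 D186670
theorem N83958 : nd 83958 = n186671 := ndS (p := 49488) (l := 6) rfl N49488 D186671
theorem N83959 : nd 83959 = n186672 := ndS (p := 49489) (l := 1) rfl N49489 D186672
theorem N83960 : nd 83960 = n186673 := ndS (p := 49489) (l := 4) rfl N49489 D186673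
theorem N83961 : nd 83961 = n186674 := ndS (p := 49492) (l := 1) rfl N49492 D186674
theorem N83962 : nd 83962 = n186675 := ndS (p := 49492) (l := 4) rfl N49492 D186675
theorem N83963 : nd 83963 = n186676 := ndS (p := 49494) (l := 4) rfl N49494 D186676
theorem N83964 : nd 83964 = n186677 := ndS (p := 49494) (l := 5) rfl N49494 D186677
theorem N83965 : nd 83965 = n186678 := ndS (p := 49497) (l := 5) rfl N49497 D186678
theorem N83966 : nd 83966 = n186679 := ndS (p := 49498) (l := 4) rfl N49498 D186679
theorem N83967 : nd 83967 = n186680 := ndS (p := 49498) (l := 6) rfl N49498 D186680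
theorem N83968 : nd 83968 = n186681 := ndS (p := 49500) (l := 4) rfl N49500 D186681
theorem N83969 : nd 83969 = n186682 := ndS (p := 49500) (l := 6) rfl N49500 D186682
theorem N83970 : nd 83970 = n186683 := ndS (p := 49502) (l := 3) rfl N49502 D186683
theorem N83971 : nd 83971 = n186684 := ndS (p := 49502) (l := 4) rfl N49502 D186684
theorem N83972 : nd 83972 = n186685 := ndS (p := 49502) (l := 6) rfl N49502 D186685
theorem N83973 : nd 83973 = n186686 := ndS (p := 49504) (l := 0) rfl N49504 D186686
theorem N83974 : nd 83974 = n186687 := ndS (p := 49504) (l := 5) rfl N49504 D186687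
theorem N83975 : nd 83975 = n186688 := ndS (p := 49506) (l := 4) rfl N49506 D186688
theorem N83976 : nd 83976 = n186689 := ndS (p := 49506) (l := 5) rfl N49506 D186689
theorem N83977 : nd 83977 = n186690 := ndS (p := 49507) (l := 1) rfl N49507 D186690
theorem N83978 : nd 83978 = n186691 := ndS (p := 49507) (l := 4) rfl N49507 D186691
theorem N83979 : nd 83979 = n186692 := ndS (p := 49507) (l := 6) rfl N49507 D186692
theorem N83980 : nd 83980 = n186693 := ndS (p := 49509) (l := 4) rfl N49509 D186693
theorem N83981 : nd 83981 = n186694 := ndS (p := 49510) (l := 3) rfl N49510 D186694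
theorem N83982 : nd 83982 = n186695 := ndS (p := 49510) (l := 6) rfl N49510 D186695
theorem N83983 : nd 83983 = n186696 := ndS (p := 49511) (l := 3) rfl N49511 D186696
theorem N83984 : nd 83984 = n186697 := ndS (p := 49511) (l := 6) rfl N49511 D186697
theorem N83985 : nd 83985 = n186698 := ndS (p := 49512) (l := 3) rfl N49512 D186698
theorem N83986 : nd 83986 = n186699 := ndS (p := 49512) (l := 5) rfl N49512 D186699
theorem N83987 : nd 83987 = n186700 := ndS (p := 49514) (l := 4) rfl N49514 D186700
theorem N83988 : nd 83988 = n186701 := ndS (p := 49514) (l := 6) rfl N49514 D186701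
theorem N83989 : nd 83989 = n186702 := ndS (p := 49516) (l := 3) rfl N49516 D186702
theorem N83990 : nd 83990 = n186703 := ndS (p := 49516) (l := 6) rfl N49516 D186703
theorem N83991 : nd 83991 = n186704 := ndS (p := 49517) (l := 0) rfl N49517 D186704
theorem N83992 : nd 83992 = n186705 := ndS (p := 49517) (l := 1) rfl N49517 D186705
theorem N83993 : nd 83993 = n186706 := ndS (p := 49517) (l := 7) rfl N49517 D186706
theorem N83994 : nd 83994 = n186707 := ndS (p := 49518) (l := 5) rfl N49518 D186707
theorem N83995 : nd 83995 = n186708 := ndS (p := 49519) (l := 5) rfl N49519 D186708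
theorem N83996 : nd 83996 = n186709 := ndS (p := 49519) (l := 6) rfl N49519 D186709
theorem N83997 : nd 83997 = n186710 := ndS (p := 49520) (l := 0) rfl N49520 D186710
theorem N83998 : nd 83998 = n186711 := ndS (p := 49520) (l := 1) rfl N49520 D186711
theorem N83999 : nd 83999 = n186712 := ndS (p := 49520) (l := 4) rfl N49520 D186712
theorem N84000 : nd 84000 = n186713 := ndS (p := 49520) (l := 6) rfl N49520 D186713
theorem N84001 : nd 84001 = n186714 := ndS (p := 49521) (l := 0) rfl N49521 D186714
theorem N84002 : nd 84002 = n186715 := ndS (p := 49521) (l := 1) rfl N49521 D186715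
theorem N84003 : nd 84003 = n186716 := ndS (p := 49522) (l := 3) rfl N49522 D186716
theorem N84004 : nd 84004 = n186717 := ndS (p := 49522) (l := 6) rfl N49522 D186717
theorem N84005 : nd 84005 = n186718 := ndS (p := 49523) (l := 0) rfl N49523 D186718
theorem N84006 : nd 84006 = n186719 := ndS (p := 49523) (l := 1) rfl N49523 D186719
theorem N84007 : nd 84007 = n186720 := ndS (p := 49523) (l := 7) rfl N49523 D186720
theorem N84008 : nd 84008 = n186721 := ndS (p := 49524) (l := 4) rfl N49524 D186721
theorem N84009 : nd 84009 = n186722 := ndS (p := 49524) (l := 6) rfl N49524 D186722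
theorem N84010 : nd 84010 = n186723 := ndS (p := 49525) (l := 3) rfl N49525 D186723
theorem N84011 : nd 84011 = n186724 := ndS (p := 49525) (l := 6) rfl N49525 D186724
theorem N84012 : nd 84012 = n186725 := ndS (p := 49526) (l := 0) rfl N49526 D186725
theorem N84013 : nd 84013 = n186726 := ndS (p := 49526) (l := 1) rfl N49526 D186726
theorem N84014 : nd 84014 = n186727 := ndS (p := 49526) (l := 5) rfl N49526 D186727
theorem N84015 : nd 84015 = n186728 := ndS (p := 49526) (l := 7) rfl N49526 D186728
theorem N84016 : nd 84016 = n186729 := ndS (p := 49527) (l := 2) rfl N49527 D186729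
theorem N84017 : nd 84017 = n186730 := ndS (p := 49527) (l := 4) rfl N49527 D186730
theorem N84018 : nd 84018 = n186731 := ndS (p := 49527) (l := 6) rfl N49527 D186731
theorem N84019 : nd 84019 = n186732 := ndS (p := 49528) (l := 3) rfl N49528 D186732
theorem N84020 : nd 84020 = n186733 := ndS (p := 49528) (l := 6) rfl N49528 D186733
theorem N84021 : nd 84021 = n186735 := ndS (p := 49530) (l := 3) rfl N49530 D186735
theorem N84022 : nd 84022 = n186736 := ndS (p := 49530) (l := 6) rfl N49530 D186736
theorem N84023 : nd 84023 = n186737 := ndS (p := 49531) (l := 3) rfl N49531 D186737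
theorem N84024 : nd 84024 = n186738 := ndS (p := 49533) (l := 4) rfl N49533 D186738
theorem N84025 : nd 84025 = n186739 := ndS (p := 49533) (l := 6) rfl N49533 D186739
theorem N84026 : nd 84026 = n186740 := ndS (p := 49535) (l := 3) rfl N49535 D186740
theorem N84027 : nd 84027 = n186741 := ndS (p := 49535) (l := 6) rfl N49535 D186741
theorem N84028 : nd 84028 = n186742 := ndS (p := 49536) (l := 0) rfl N49536 D186742
theorem N84029 : nd 84029 = n186743 := ndS (p := 49536) (l := 1) rfl N49536 D186743
theorem N84030 : nd 84030 = n186744 := ndS (p := 49536) (l := 7) rfl N49536 D186744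
theorem N84031 : nd 84031 = n186745 := ndS (p := 49537) (l := 6) rfl N49537 D186745
theorem N84032 : nd 84032 = n186746 := ndS (p := 49538) (l := 5) rfl N49538 D186746
theorem N84033 : nd 84033 = n186747 := ndS (p := 49538) (l := 7) rfl N49538 D186747
theorem N84034 : nd 84034 = n186748 := ndS (p := 49539) (l := 5) rfl N49539 D186748
theorem N84035 : nd 84035 = n186749 := ndS (p := 49540) (l := 0) rfl N49540 D186749
theorem N84036 : nd 84036 = n186750 := ndS (p := 49540) (l := 4) rfl N49540 D186750
theorem N84037 : nd 84037 = n186751 := ndS (p := 49540) (l := 7) rfl N49540 D186751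
theorem N84038 : nd 84038 = n186752 := ndS (p := 49542) (l := 5) rfl N49542 D186752
theorem N84039 : nd 84039 = n186753 := ndS (p := 49543) (l := 6) rfl N49543 D186753
theorem N84040 : nd 84040 = n186754 := ndS (p := 49544) (l := 0) rfl N49544 D186754
theorem N84041 : nd 84041 = n186755 := ndS (p := 49544) (l := 5) rfl N49544 D186755
theorem N84042 : nd 84042 = n186756 := ndS (p := 49546) (l := 5) rfl N49546 D186756
theorem N84043 : nd 84043 = n186757 := ndS (p := 49547) (l := 4) rfl N49547 D186757
theorem N84044 : nd 84044 = n186758 := ndS (p := 49549) (l := 1) rfl N49549 D186758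
theorem N84045 : nd 84045 = n186759 := ndS (p := 49549) (l := 5) rfl N49549 D186759
theorem N84046 : nd 84046 = n186760 := ndS (p := 49549) (l := 7) rfl N49549 D186760
theorem N84047 : nd 84047 = n186761 := ndS (p := 49550) (l := 4) rfl N49550 D186761
theorem N84048 : nd 84048 = n186762 := ndS (p := 49551) (l := 5) rfl N49551 D186762
theorem N84049 : nd 84049 = n186763 := ndS (p := 49552) (l := 5) rfl N49552 D186763
theorem N84050 : nd 84050 = n186764 := ndS (p := 49552) (l := 6) rfl N49552 D186764
theorem N84051 : nd 84051 = n186765 := ndS (p := 49553) (l := 0) rfl N49553 D186765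
theorem N84052 : nd 84052 = n186766 := ndS (p := 49553) (l := 1) rfl N49553 D186766
theorem N84053 : nd 84053 = n186767 := ndS (p := 49553) (l := 4) rfl N49553 D186767
theorem N84054 : nd 84054 = n186768 := ndS (p := 49553) (l := 7) rfl N49553 D186768
theorem N84055 : nd 84055 = n186769 := ndS (p := 49556) (l := 6) rfl N49556 D186769
theorem N84056 : nd 84056 = n186770 := ndS (p := 49557) (l := 4) rfl N49557 D186770
theorem N84057 : nd 84057 = n186771 := ndS (p := 49557) (l := 6) rfl N49557 D186771
theorem N84058 : nd 84058 = n186772 := ndS (p := 49559) (l := 5) rfl N49559 D186772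
theorem N84059 : nd 84059 = n186773 := ndS (p := 49560) (l := 4) rfl N49560 D186773
theorem N84060 : nd 84060 = n186774 := ndS (p := 49560) (l := 6) rfl N49560 D186774
theorem N84061 : nd 84061 = n186775 := ndS (p := 49561) (l := 3) rfl N49561 D186775
theorem N84062 : nd 84062 = n186776 := ndS (p := 49561) (l := 4) rfl N49561 D186776
theorem N84063 : nd 84063 = n186777 := ndS (p := 49561) (l := 6) rfl N49561 D186777
theorem N84064 : nd 84064 = n186778 := ndS (p := 49562) (l := 3) rfl N49562 D186778
theorem N84065 : nd 84065 = n186779 := ndS (p := 49562) (l := 4) rfl N49562 D186779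
theorem N84066 : nd 84066 = n186780 := ndS (p := 49562) (l := 6) rfl N49562 D186780
theorem N84067 : nd 84067 = n186781 := ndS (p := 49563) (l := 1) rfl N49563 D186781
theorem N84068 : nd 84068 = n186782 := ndS (p := 49563) (l := 5) rfl N49563 D186782
theorem N84069 : nd 84069 = n186783 := ndS (p := 49564) (l := 1) rfl N49564 D186783
theorem N84070 : nd 84070 = n186784 := ndS (p := 49564) (l := 4) rfl N49564 D186784
theorem N84071 : nd 84071 = n186785 := ndS (p := 49564) (l := 6) rfl N49564 D186785
theorem N84072 : nd 84072 = n186786 := ndS (p := 49566) (l := 4) rfl N49566 D186786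
theorem N84073 : nd 84073 = n186787 := ndS (p := 49567) (l := 5) rfl N49567 D186787
theorem N84074 : nd 84074 = n186788 := ndS (p := 49568) (l := 6) rfl N49568 D186788
theorem N84075 : nd 84075 = n186789 := ndS (p := 49569) (l := 6) rfl N49569 D186789
theorem N84076 : nd 84076 = n186790 := ndS (p := 49572) (l := 5) rfl N49572 D186790
theorem N84077 : nd 84077 = n186791 := ndS (p := 49572) (l := 6) rfl N49572 D186791
theorem N84078 : nd 84078 = n186792 := ndS (p := 49573) (l := 1) rfl N49573 D186792
theorem N84079 : nd 84079 = n186793 := ndS (p := 49573) (l := 4) rfl N49573 D186793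
theorem N84080 : nd 84080 = n186794 := ndS (p := 49573) (l := 7) rfl N49573 D186794
theorem N84081 : nd 84081 = n186795 := ndS (p := 49577) (l := 0) rfl N49577 D186795
theorem N84082 : nd 84082 = n186796 := ndS (p := 49580) (l := 5) rfl N49580 D186796
theorem N84083 : nd 84083 = n186797 := ndS (p := 49580) (l := 6) rfl N49580 D186797
theorem N84084 : nd 84084 = n186798 := ndS (p := 49581) (l := 6) rfl N49581 D186798
theorem N84085 : nd 84085 = n186799 := ndS (p := 49583) (l := 6) rfl N49583 D186799
theorem N84086 : nd 84086 = n186800 := ndS (p := 49585) (l := 3) rfl N49585 D186800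
theorem N84087 : nd 84087 = n186801 := ndS (p := 49586) (l := 4) rfl N49586 D186801
theorem N84088 : nd 84088 = n186802 := ndS (p := 49587) (l := 3) rfl N49587 D186802
theorem N84089 : nd 84089 = n186803 := ndS (p := 49589) (l := 0) rfl N49589 D186803
theorem N84090 : nd 84090 = n186804 := ndS (p := 49589) (l := 1) rfl N49589 D186804
theorem N84091 : nd 84091 = n186805 := ndS (p := 49591) (l := 5) rfl N49591 D186805
theorem N84092 : nd 84092 = n186806 := ndS (p := 49594) (l := 3) rfl N49594 D186806
theorem N84093 : nd 84093 = n186807 := ndS (p := 49595) (l := 7) rfl N49595 D186807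
theorem N84094 : nd 84094 = n186808 := ndS (p := 49597) (l := 0) rfl N49597 D186808
theorem N84095 : nd 84095 = n186809 := ndS (p := 49597) (l := 7) rfl N49597 D186809
theorem N84096 : nd 84096 = n186810 := ndS (p := 49598) (l := 4) rfl N49598 D186810
theorem N84097 : nd 84097 = n186811 := ndS (p := 49600) (l := 1) rfl N49600 D186811
theorem N84098 : nd 84098 = n186812 := ndS (p := 49600) (l := 2) rfl N49600 D186812
theorem N84099 : nd 84099 = n186813 := ndS (p := 49600) (l := 5) rfl N49600 D186813
theorem N84100 : nd 84100 = n186814 := ndS (p := 49604) (l := 1) rfl N49604 D186814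
theorem N84101 : nd 84101 = n186815 := ndS (p := 49604) (l := 7) rfl N49604 D186815
theorem N84102 : nd 84102 = n186816 := ndS (p := 49605) (l := 5) rfl N49605 D186816
theorem N84103 : nd 84103 = n186817 := ndS (p := 49606) (l := 4) rfl N49606 D186817
theorem N84104 : nd 84104 = n186818 := ndS (p := 49606) (l := 5) rfl N49606 D186818
theorem N84105 : nd 84105 = n186819 := ndS (p := 49606) (l := 6) rfl N49606 D186819
theorem N84106 : nd 84106 = n186820 := ndS (p := 49607) (l := 3) rfl N49607 D186820
theorem N84107 : nd 84107 = n186821 := ndS (p := 49607) (l := 5) rfl N49607 D186821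
theorem N84108 : nd 84108 = n186822 := ndS (p := 49607) (l := 6) rfl N49607 D186822
theorem N84109 : nd 84109 = n186823 := ndS (p := 49608) (l := 0) rfl N49608 D186823
theorem N84110 : nd 84110 = n186824 := ndS (p := 49608) (l := 1) rfl N49608 D186824
theorem N84111 : nd 84111 = n186825 := ndS (p := 49608) (l := 4) rfl N49608 D186825
theorem N84112 : nd 84112 = n186826 := ndS (p := 49609) (l := 3) rfl N49609 D186826
theorem N84113 : nd 84113 = n186827 := ndS (p := 49610) (l := 5) rfl N49610 D186827
theorem N84114 : nd 84114 = n186828 := ndS (p := 49611) (l := 4) rfl N49611 D186828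
theorem N84115 : nd 84115 = n186829 := ndS (p := 49612) (l := 5) rfl N49612 D186829
theorem N84116 : nd 84116 = n186830 := ndS (p := 49613) (l := 4) rfl N49613 D186830
theorem N84117 : nd 84117 = n186831 := ndS (p := 49616) (l := 5) rfl N49616 D186831
theorem N84118 : nd 84118 = n186832 := ndS (p := 49617) (l := 5) rfl N49617 D186832
theorem N84119 : nd 84119 = n186833 := ndS (p := 49617) (l := 6) rfl N49617 D186833
theorem N84120 : nd 84120 = n186834 := ndS (p := 49618) (l := 0) rfl N49618 D186834
theorem N84121 : nd 84121 = n186835 := ndS (p := 49618) (l := 1) rfl N49618 D186835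
theorem N84122 : nd 84122 = n186836 := ndS (p := 49618) (l := 6) rfl N49618 D186836
theorem N84123 : nd 84123 = n186837 := ndS (p := 49620) (l := 6) rfl N49620 D186837
theorem N84124 : nd 84124 = n186838 := ndS (p := 49621) (l := 1) rfl N49621 D186838
theorem N84125 : nd 84125 = n186839 := ndS (p := 49621) (l := 6) rfl N49621 D186839
theorem N84126 : nd 84126 = n186840 := ndS (p := 49625) (l := 0) rfl N49625 D186840
theorem N84127 : nd 84127 = n186841 := ndS (p := 49625) (l := 1) rfl N49625 D186841
theorem N84128 : nd 84128 = n186842 := ndS (p := 49628) (l := 2) rfl N49628 D186842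
theorem N84129 : nd 84129 = n186843 := ndS (p := 49630) (l := 1) rfl N49630 D186843
theorem N84130 : nd 84130 = n186844 := ndS (p := 49630) (l := 7) rfl N49630 D186844
theorem N84131 : nd 84131 = n186845 := ndS (p := 49633) (l := 0) rfl N49633 D186845
theorem N84132 : nd 84132 = n186846 := ndS (p := 49633) (l := 1) rfl N49633 D186846
theorem N84133 : nd 84133 = n186847 := ndS (p := 49633) (l := 7) rfl N49633 D186847
theorem N84134 : nd 84134 = n186848 := ndS (p := 49635) (l := 0) rfl N49635 D186848
theorem N84135 : nd 84135 = n186849 := ndS (p := 49635) (l := 1) rfl N49635 D186849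
theorem N84136 : nd 84136 = n186850 := ndS (p := 49635) (l := 5) rfl N49635 D186850
theorem N84137 : nd 84137 = n186851 := ndS (p := 49635) (l := 7) rfl N49635 D186851
theorem N84138 : nd 84138 = n186852 := ndS (p := 49640) (l := 5) rfl N49640 D186852
theorem N84139 : nd 84139 = n186853 := ndS (p := 49642) (l := 1) rfl N49642 D186853
theorem N84140 : nd 84140 = n186854 := ndS (p := 49642) (l := 5) rfl N49642 D186854
theorem N84141 : nd 84141 = n186855 := ndS (p := 49643) (l := 0) rfl N49643 D186855
theorem N84142 : nd 84142 = n186856 := ndS (p := 49643) (l := 1) rfl N49643 D186856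
theorem N84143 : nd 84143 = n186857 := ndS (p := 49643) (l := 7) rfl N49643 D186857
theorem N84144 : nd 84144 = n186858 := ndS (p := 49646) (l := 0) rfl N49646 D186858
theorem N84145 : nd 84145 = n186859 := ndS (p := 49646) (l := 5) rfl N49646 D186859
theorem N84146 : nd 84146 = n186860 := ndS (p := 49647) (l := 5) rfl N49647 D186860
theorem N84147 : nd 84147 = n186861 := ndS (p := 49647) (l := 7) rfl N49647 D186861
theorem N84148 : nd 84148 = n186862 := ndS (p := 49648) (l := 0) rfl N49648 D186862
theorem N84149 : nd 84149 = n186863 := ndS (p := 49648) (l := 5) rfl N49648 D186863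
theorem N84150 : nd 84150 = n186864 := ndS (p := 49648) (l := 7) rfl N49648 D186864
theorem N84151 : nd 84151 = n186865 := ndS (p := 49653) (l := 0) rfl N49653 D186865
theorem N84152 : nd 84152 = n186866 := ndS (p := 49653) (l := 1) rfl N49653 D186866
theorem N84153 : nd 84153 = n186867 := ndS (p := 49653) (l := 7) rfl N49653 D186867
theorem N84154 : nd 84154 = n186868 := ndS (p := 49654) (l := 1) rfl N49654 D186868
theorem N84155 : nd 84155 = n186869 := ndS (p := 49654) (l := 7) rfl N49654 D186869
theorem N84156 : nd 84156 = n186870 := ndS (p := 49655) (l := 6) rfl N49655 D186870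
theorem N84157 : nd 84157 = n186871 := ndS (p := 49656) (l := 6) rfl N49656 D186871
theorem N84158 : nd 84158 = n186872 := ndS (p := 49657) (l := 5) rfl N49657 D186872
theorem N84159 : nd 84159 = n186873 := ndS (p := 49658) (l := 4) rfl N49658 D186873
theorem N84160 : nd 84160 = n186874 := ndS (p := 49659) (l := 5) rfl N49659 D186874
theorem N84161 : nd 84161 = n186875 := ndS (p := 49659) (l := 6) rfl N49659 D186875
theorem N84162 : nd 84162 = n186876 := ndS (p := 49660) (l := 4) rfl N49660 D186876
theorem N84163 : nd 84163 = n186877 := ndS (p := 49660) (l := 6) rfl N49660 D186877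
theorem N84164 : nd 84164 = n186878 := ndS (p := 49662) (l := 4) rfl N49662 D186878
theorem N84165 : nd 84165 = n186879 := ndS (p := 49662) (l := 6) rfl N49662 D186879
theorem N84166 : nd 84166 = n186880 := ndS (p := 49664) (l := 3) rfl N49664 D186880
theorem N84167 : nd 84167 = n186881 := ndS (p := 49664) (l := 4) rfl N49664 D186881
theorem N84168 : nd 84168 = n186882 := ndS (p := 49664) (l := 6) rfl N49664 D186882
theorem N84169 : nd 84169 = n186883 := ndS (p := 49665) (l := 4) rfl N49665 D186883
theorem N84170 : nd 84170 = n186884 := ndS (p := 49665) (l := 6) rfl N49665 D186884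
theorem N84171 : nd 84171 = n186885 := ndS (p := 49666) (l := 0) rfl N49666 D186885
theorem N84172 : nd 84172 = n186886 := ndS (p := 49666) (l := 1) rfl N49666 D186886
theorem N84173 : nd 84173 = n186887 := ndS (p := 49666) (l := 3) rfl N49666 D186887
theorem N84174 : nd 84174 = n186888 := ndS (p := 49666) (l := 5) rfl N49666 D186888
theorem N84175 : nd 84175 = n186889 := ndS (p := 49667) (l := 5) rfl N49667 D186889
theorem N84176 : nd 84176 = n186890 := ndS (p := 49668) (l := 6) rfl N49668 D186890
theorem N84177 : nd 84177 = n186891 := ndS (p := 49669) (l := 4) rfl N49669 D186891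
theorem N84178 : nd 84178 = n186892 := ndS (p := 49669) (l := 6) rfl N49669 D186892
theorem N84179 : nd 84179 = n186893 := ndS (p := 49670) (l := 1) rfl N49670 D186893
theorem N84180 : nd 84180 = n186894 := ndS (p := 49670) (l := 5) rfl N49670 D186894
theorem N84181 : nd 84181 = n186895 := ndS (p := 49670) (l := 7) rfl N49670 D186895
theorem N84182 : nd 84182 = n186896 := ndS (p := 49671) (l := 1) rfl N49671 D186896
theorem N84183 : nd 84183 = n186897 := ndS (p := 49671) (l := 4) rfl N49671 D186897
theorem N84184 : nd 84184 = n186898 := ndS (p := 49671) (l := 6) rfl N49671 D186898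
theorem N84185 : nd 84185 = n186899 := ndS (p := 49672) (l := 1) rfl N49672 D186899
theorem N84186 : nd 84186 = n186900 := ndS (p := 49673) (l := 4) rfl N49673 D186900
theorem N84187 : nd 84187 = n186901 := ndS (p := 49673) (l := 6) rfl N49673 D186901
theorem N84188 : nd 84188 = n186902 := ndS (p := 49675) (l := 0) rfl N49675 D186902
theorem N84189 : nd 84189 = n186903 := ndS (p := 49675) (l := 1) rfl N49675 D186903
theorem N84190 : nd 84190 = n186904 := ndS (p := 49675) (l := 3) rfl N49675 D186904
theorem N84191 : nd 84191 = n186905 := ndS (p := 49676) (l := 7) rfl N49676 D186905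
theorem N84192 : nd 84192 = n186906 := ndS (p := 49678) (l := 3) rfl N49678 D186906
theorem N84193 : nd 84193 = n186907 := ndS (p := 49678) (l := 4) rfl N49678 D186907
theorem N84194 : nd 84194 = n186908 := ndS (p := 49678) (l := 6) rfl N49678 D186908
theorem N84195 : nd 84195 = n186909 := ndS (p := 49679) (l := 1) rfl N49679 D186909
theorem N84196 : nd 84196 = n186910 := ndS (p := 49681) (l := 4) rfl N49681 D186910
theorem N84197 : nd 84197 = n186911 := ndS (p := 49681) (l := 6) rfl N49681 D186911
theorem N84198 : nd 84198 = n186912 := ndS (p := 49682) (l := 3) rfl N49682 D186912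
theorem N84199 : nd 84199 = n186913 := ndS (p := 49682) (l := 6) rfl N49682 D186913
theorem N84200 : nd 84200 = n186914 := ndS (p := 49683) (l := 0) rfl N49683 D186914
theorem N84201 : nd 84201 = n186915 := ndS (p := 49683) (l := 1) rfl N49683 D186915
theorem N84202 : nd 84202 = n186916 := ndS (p := 49683) (l := 7) rfl N49683 D186916
theorem N84203 : nd 84203 = n186917 := ndS (p := 49686) (l := 3) rfl N49686 D186917
theorem N84204 : nd 84204 = n186918 := ndS (p := 49686) (l := 6) rfl N49686 D186918
theorem N84205 : nd 84205 = n186919 := ndS (p := 49687) (l := 3) rfl N49687 D186919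
theorem N84206 : nd 84206 = n186920 := ndS (p := 49687) (l := 6) rfl N49687 D186920
theorem N84207 : nd 84207 = n186921 := ndS (p := 49688) (l := 6) rfl N49688 D186921
theorem N84208 : nd 84208 = n186922 := ndS (p := 49689) (l := 0) rfl N49689 D186922
theorem N84209 : nd 84209 = n186923 := ndS (p := 49689) (l := 1) rfl N49689 D186923
theorem N84210 : nd 84210 = n186924 := ndS (p := 49689) (l := 5) rfl N49689 D186924
theorem N84211 : nd 84211 = n186925 := ndS (p := 49689) (l := 7) rfl N49689 D186925
theorem N84212 : nd 84212 = n186926 := ndS (p := 49690) (l := 3) rfl N49690 D186926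
theorem N84213 : nd 84213 = n186927 := ndS (p := 49690) (l := 4) rfl N49690 D186927
theorem N84214 : nd 84214 = n186928 := ndS (p := 49690) (l := 5) rfl N49690 D186928
theorem N84215 : nd 84215 = n186929 := ndS (p := 49691) (l := 4) rfl N49691 D186929
theorem N84216 : nd 84216 = n186930 := ndS (p := 49691) (l := 6) rfl N49691 D186930
theorem N84217 : nd 84217 = n186931 := ndS (p := 49692) (l := 0) rfl N49692 D186931
theorem N84218 : nd 84218 = n186932 := ndS (p := 49692) (l := 1) rfl N49692 D186932
theorem N84219 : nd 84219 = n186933 := ndS (p := 49692) (l := 4) rfl N49692 D186933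
theorem N84220 : nd 84220 = n186934 := ndS (p := 49692) (l := 7) rfl N49692 D186934
theorem N84221 : nd 84221 = n186935 := ndS (p := 49695) (l := 6) rfl N49695 D186935
theorem N84222 : nd 84222 = n186936 := ndS (p := 49696) (l := 5) rfl N49696 D186936
theorem N84223 : nd 84223 = n186937 := ndS (p := 49697) (l := 4) rfl N49697 D186937
theorem N84224 : nd 84224 = n186938 := ndS (p := 49697) (l := 6) rfl N49697 D186938
theorem N84225 : nd 84225 = n186939 := ndS (p := 49698) (l := 5) rfl N49698 D186939
theorem N84226 : nd 84226 = n186940 := ndS (p := 49699) (l := 3) rfl N49699 D186940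
theorem N84227 : nd 84227 = n186941 := ndS (p := 49700) (l := 4) rfl N49700 D186941
theorem N84228 : nd 84228 = n186942 := ndS (p := 49700) (l := 6) rfl N49700 D186942
theorem N84229 : nd 84229 = n186943 := ndS (p := 49702) (l := 6) rfl N49702 D186943
theorem N84230 : nd 84230 = n186944 := ndS (p := 49703) (l := 0) rfl N49703 D186944
theorem N84231 : nd 84231 = n186945 := ndS (p := 49703) (l := 1) rfl N49703 D186945
theorem N84232 : nd 84232 = n186946 := ndS (p := 49703) (l := 5) rfl N49703 D186946
theorem N84233 : nd 84233 = n186947 := ndS (p := 49704) (l := 5) rfl N49704 D186947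
theorem N84234 : nd 84234 = n186948 := ndS (p := 49704) (l := 7) rfl N49704 D186948
theorem N84235 : nd 84235 = n186949 := ndS (p := 49707) (l := 1) rfl N49707 D186949
theorem N84236 : nd 84236 = n186950 := ndS (p := 49707) (l := 4) rfl N49707 D186950
theorem N84237 : nd 84237 = n186951 := ndS (p := 49708) (l := 1) rfl N49708 D186951
theorem N84238 : nd 84238 = n186952 := ndS (p := 49709) (l := 0) rfl N49709 D186952
theorem N84239 : nd 84239 = n186953 := ndS (p := 49709) (l := 5) rfl N49709 D186953
theorem N84240 : nd 84240 = n186954 := ndS (p := 49709) (l := 7) rfl N49709 D186954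
theorem N84241 : nd 84241 = n186955 := ndS (p := 49710) (l := 4) rfl N49710 D186955
theorem N84242 : nd 84242 = n186956 := ndS (p := 49710) (l := 5) rfl N49710 D186956
theorem N84243 : nd 84243 = n186957 := ndS (p := 49712) (l := 0) rfl N49712 D186957
theorem N84244 : nd 84244 = n186958 := ndS (p := 49712) (l := 1) rfl N49712 D186958
theorem N84245 : nd 84245 = n186959 := ndS (p := 49712) (l := 7) rfl N49712 D186959
theorem N84246 : nd 84246 = n186960 := ndS (p := 49715) (l := 4) rfl N49715 D186960
theorem N84247 : nd 84247 = n186961 := ndS (p := 49715) (l := 6) rfl N49715 D186961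
theorem N84248 : nd 84248 = n186962 := ndS (p := 49716) (l := 0) rfl N49716 D186962
theorem N84249 : nd 84249 = n186963 := ndS (p := 49716) (l := 1) rfl N49716 D186963
theorem N84250 : nd 84250 = n186964 := ndS (p := 49716) (l := 5) rfl N49716 D186964
theorem N84251 : nd 84251 = n186965 := ndS (p := 49716) (l := 6) rfl N49716 D186965
theorem N84252 : nd 84252 = n186966 := ndS (p := 49717) (l := 0) rfl N49717 D186966
theorem N84253 : nd 84253 = n186967 := ndS (p := 49717) (l := 5) rfl N49717 D186967
theorem N84254 : nd 84254 = n186968 := ndS (p := 49717) (l := 7) rfl N49717 D186968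
theorem N84255 : nd 84255 = n186969 := ndS (p := 49719) (l := 0) rfl N49719 D186969
theorem N84256 : nd 84256 = n186970 := ndS (p := 49719) (l := 1) rfl N49719 D186970
theorem N84257 : nd 84257 = n186971 := ndS (p := 49719) (l := 7) rfl N49719 D186971
theorem N84258 : nd 84258 = n186972 := ndS (p := 49720) (l := 3) rfl N49720 D186972
theorem N84259 : nd 84259 = n186973 := ndS (p := 49720) (l := 4) rfl N49720 D186973
theorem N84260 : nd 84260 = n186974 := ndS (p := 49721) (l := 4) rfl N49721 D186974
theorem N84261 : nd 84261 = n186975 := ndS (p := 49721) (l := 6) rfl N49721 D186975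
theorem N84262 : nd 84262 = n186976 := ndS (p := 49722) (l := 4) rfl N49722 D186976
theorem N84263 : nd 84263 = n186977 := ndS (p := 49722) (l := 7) rfl N49722 D186977
theorem N84264 : nd 84264 = n186978 := ndS (p := 49725) (l := 6) rfl N49725 D186978
theorem N84265 : nd 84265 = n186979 := ndS (p := 49726) (l := 3) rfl N49726 D186979
theorem N84266 : nd 84266 = n186980 := ndS (p := 49726) (l := 4) rfl N49726 D186980
theorem N84267 : nd 84267 = n186981 := ndS (p := 49728) (l := 6) rfl N49728 D186981
theorem N84268 : nd 84268 = n186982 := ndS (p := 49729) (l := 5) rfl N49729 D186982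
theorem N84269 : nd 84269 = n186983 := ndS (p := 49731) (l := 6) rfl N49731 D186983
theorem N84270 : nd 84270 = n186984 := ndS (p := 49732) (l := 5) rfl N49732 D186984
theorem N84271 : nd 84271 = n186985 := ndS (p := 49735) (l := 0) rfl N49735 D186985
theorem N84272 : nd 84272 = n186986 := ndS (p := 49735) (l := 1) rfl N49735 D186986
theorem N84273 : nd 84273 = n186987 := ndS (p := 49735) (l := 7) rfl N49735 D186987
theorem N84274 : nd 84274 = n186988 := ndS (p := 49736) (l := 5) rfl N49736 D186988
theorem N84275 : nd 84275 = n186990 := ndS (p := 49737) (l := 3) rfl N49737 D186990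
theorem N84276 : nd 84276 = n186991 := ndS (p := 49737) (l := 5) rfl N49737 D186991
theorem N84277 : nd 84277 = n186992 := ndS (p := 49737) (l := 6) rfl N49737 D186992
theorem N84278 : nd 84278 = n186994 := ndS (p := 49738) (l := 5) rfl N49738 D186994
theorem N84279 : nd 84279 = n186995 := ndS (p := 49738) (l := 6) rfl N49738 D186995
theorem N84280 : nd 84280 = n186997 := ndS (p := 49739) (l := 1) rfl N49739 D186997
theorem N84281 : nd 84281 = n186998 := ndS (p := 49739) (l := 4) rfl N49739 D186998
theorem N84282 : nd 84282 = n186999 := ndS (p := 49740) (l := 3) rfl N49740 D186999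
theorem N84283 : nd 84283 = n187000 := ndS (p := 49741) (l := 0) rfl N49741 D187000
theorem N84284 : nd 84284 = n187001 := ndS (p := 49741) (l := 1) rfl N49741 D187001
theorem N84285 : nd 84285 = n187003 := ndS (p := 49741) (l := 6) rfl N49741 D187003
theorem N84286 : nd 84286 = n187004 := ndS (p := 49743) (l := 3) rfl N49743 D187004
theorem N84287 : nd 84287 = n187005 := ndS (p := 49743) (l := 4) rfl N49743 D187005
theorem N84288 : nd 84288 = n187006 := ndS (p := 49743) (l := 6) rfl N49743 D187006
theorem N84289 : nd 84289 = n187007 := ndS (p := 49744) (l := 1) rfl N49744 D187007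
theorem N84290 : nd 84290 = n187008 := ndS (p := 49745) (l := 0) rfl N49745 D187008
theorem N84291 : nd 84291 = n187009 := ndS (p := 49745) (l := 1) rfl N49745 D187009
theorem N84292 : nd 84292 = n187010 := ndS (p := 49745) (l := 7) rfl N49745 D187010
theorem N84293 : nd 84293 = n187011 := ndS (p := 49746) (l := 0) rfl N49746 D187011
theorem N84294 : nd 84294 = n187012 := ndS (p := 49746) (l := 1) rfl N49746 D187012
theorem N84295 : nd 84295 = n187013 := ndS (p := 49746) (l := 4) rfl N49746 D187013
theorem N84296 : nd 84296 = n187014 := ndS (p := 49746) (l := 6) rfl N49746 D187014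
theorem N84297 : nd 84297 = n187015 := ndS (p := 49748) (l := 3) rfl N49748 D187015
theorem N84298 : nd 84298 = n187016 := ndS (p := 49748) (l := 6) rfl N49748 D187016
theorem N84299 : nd 84299 = n187017 := ndS (p := 49749) (l := 0) rfl N49749 D187017
theorem N84300 : nd 84300 = n187018 := ndS (p := 49749) (l := 1) rfl N49749 D187018
theorem N84301 : nd 84301 = n187019 := ndS (p := 49749) (l := 7) rfl N49749 D187019
theorem N84302 : nd 84302 = n187020 := ndS (p := 49750) (l := 4) rfl N49750 D187020
theorem N84303 : nd 84303 = n187021 := ndS (p := 49750) (l := 6) rfl N49750 D187021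
theorem N84304 : nd 84304 = n187022 := ndS (p := 49751) (l := 3) rfl N49751 D187022
theorem N84305 : nd 84305 = n187023 := ndS (p := 49751) (l := 6) rfl N49751 D187023
theorem N84306 : nd 84306 = n187024 := ndS (p := 49752) (l := 0) rfl N49752 D187024
theorem N84307 : nd 84307 = n187025 := ndS (p := 49752) (l := 1) rfl N49752 D187025
theorem N84308 : nd 84308 = n187026 := ndS (p := 49752) (l := 7) rfl N49752 D187026
theorem N84309 : nd 84309 = n187028 := ndS (p := 49753) (l := 4) rfl N49753 D187028
theorem N84310 : nd 84310 = n187029 := ndS (p := 49753) (l := 6) rfl N49753 D187029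
theorem N84311 : nd 84311 = n187030 := ndS (p := 49754) (l := 3) rfl N49754 D187030
theorem N84312 : nd 84312 = n187031 := ndS (p := 49754) (l := 6) rfl N49754 D187031
theorem N84313 : nd 84313 = n187033 := ndS (p := 49755) (l := 1) rfl N49755 D187033
theorem N84314 : nd 84314 = n187034 := ndS (p := 49755) (l := 7) rfl N49755 D187034
theorem N84315 : nd 84315 = n187035 := ndS (p := 49756) (l := 3) rfl N49756 D187035
theorem N84316 : nd 84316 = n187036 := ndS (p := 49756) (l := 6) rfl N49756 D187036
theorem N84317 : nd 84317 = n187037 := ndS (p := 49757) (l := 3) rfl N49757 D187037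
theorem N84318 : nd 84318 = n187038 := ndS (p := 49757) (l := 6) rfl N49757 D187038
theorem N84319 : nd 84319 = n187039 := ndS (p := 49758) (l := 0) rfl N49758 D187039
theorem N84320 : nd 84320 = n187040 := ndS (p := 49758) (l := 1) rfl N49758 D187040
theorem N84321 : nd 84321 = n187041 := ndS (p := 49758) (l := 2) rfl N49758 D187041
theorem N84322 : nd 84322 = n187042 := ndS (p := 49758) (l := 5) rfl N49758 D187042
theorem N84323 : nd 84323 = n187043 := ndS (p := 49759) (l := 6) rfl N49759 D187043
theorem N84324 : nd 84324 = n187044 := ndS (p := 49760) (l := 3) rfl N49760 D187044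
theorem N84325 : nd 84325 = n187045 := ndS (p := 49760) (l := 5) rfl N49760 D187045
theorem N84326 : nd 84326 = n187046 := ndS (p := 49761) (l := 0) rfl N49761 D187046
theorem N84327 : nd 84327 = n187047 := ndS (p := 49761) (l := 1) rfl N49761 D187047
theorem N84328 : nd 84328 = n187048 := ndS (p := 49761) (l := 4) rfl N49761 D187048
theorem N84329 : nd 84329 = n187049 := ndS (p := 49761) (l := 6) rfl N49761 D187049
theorem N84330 : nd 84330 = n187050 := ndS (p := 49762) (l := 0) rfl N49762 D187050
theorem N84331 : nd 84331 = n187051 := ndS (p := 49763) (l := 3) rfl N49763 D187051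
theorem N84332 : nd 84332 = n187052 := ndS (p := 49763) (l := 6) rfl N49763 D187052
theorem N84333 : nd 84333 = n187053 := ndS (p := 49764) (l := 0) rfl N49764 D187053
theorem N84334 : nd 84334 = n187054 := ndS (p := 49764) (l := 1) rfl N49764 D187054
theorem N84335 : nd 84335 = n187055 := ndS (p := 49764) (l := 7) rfl N49764 D187055
theorem N84336 : nd 84336 = n187056 := ndS (p := 49765) (l := 2) rfl N49765 D187056
theorem N84337 : nd 84337 = n187057 := ndS (p := 49768) (l := 5) rfl N49768 D187057
theorem N84338 : nd 84338 = n187058 := ndS (p := 49769) (l := 5) rfl N49769 D187058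
theorem N84339 : nd 84339 = n187059 := ndS (p := 49770) (l := 0) rfl N49770 D187059
theorem N84340 : nd 84340 = n187060 := ndS (p := 49770) (l := 1) rfl N49770 D187060
theorem N84341 : nd 84341 = n187061 := ndS (p := 49770) (l := 4) rfl N49770 D187061
theorem N84342 : nd 84342 = n187062 := ndS (p := 49770) (l := 6) rfl N49770 D187062
theorem N84343 : nd 84343 = n187063 := ndS (p := 49771) (l := 3) rfl N49771 D187063
theorem N84344 : nd 84344 = n187064 := ndS (p := 49771) (l := 6) rfl N49771 D187064
theorem N84345 : nd 84345 = n187065 := ndS (p := 49772) (l := 0) rfl N49772 D187065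
theorem N84346 : nd 84346 = n187066 := ndS (p := 49772) (l := 7) rfl N49772 D187066
theorem N84347 : nd 84347 = n187067 := ndS (p := 49773) (l := 3) rfl N49773 D187067
theorem N84348 : nd 84348 = n187068 := ndS (p := 49773) (l := 4) rfl N49773 D187068
theorem N84349 : nd 84349 = n187069 := ndS (p := 49774) (l := 3) rfl N49774 D187069
theorem N84350 : nd 84350 = n187070 := ndS (p := 49775) (l := 3) rfl N49775 D187070
theorem N84351 : nd 84351 = n187071 := ndS (p := 49778) (l := 3) rfl N49778 D187071
theorem N84352 : nd 84352 = n187072 := ndS (p := 49780) (l := 2) rfl N49780 D187072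
theorem N84353 : nd 84353 = n187073 := ndS (p := 49780) (l := 4) rfl N49780 D187073
theorem N84354 : nd 84354 = n187074 := ndS (p := 49780) (l := 6) rfl N49780 D187074
theorem N84355 : nd 84355 = n187075 := ndS (p := 49781) (l := 3) rfl N49781 D187075
theorem N84356 : nd 84356 = n187076 := ndS (p := 49781) (l := 6) rfl N49781 D187076
theorem N84357 : nd 84357 = n187077 := ndS (p := 49782) (l := 0) rfl N49782 D187077
theorem N84358 : nd 84358 = n187078 := ndS (p := 49782) (l := 7) rfl N49782 D187078
theorem N84359 : nd 84359 = n187079 := ndS (p := 49784) (l := 0) rfl N49784 D187079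
theorem N84360 : nd 84360 = n187080 := ndS (p := 49784) (l := 1) rfl N49784 D187080
theorem N84361 : nd 84361 = n187081 := ndS (p := 49784) (l := 2) rfl N49784 D187081
theorem N84362 : nd 84362 = n187082 := ndS (p := 49784) (l := 6) rfl N49784 D187082
theorem N84363 : nd 84363 = n187083 := ndS (p := 49785) (l := 5) rfl N49785 D187083
theorem N84364 : nd 84364 = n187084 := ndS (p := 49785) (l := 7) rfl N49785 D187084
theorem N84365 : nd 84365 = n187085 := ndS (p := 49786) (l := 3) rfl N49786 D187085
theorem N84366 : nd 84366 = n187086 := ndS (p := 49786) (l := 5) rfl N49786 D187086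
theorem N84367 : nd 84367 = n187087 := ndS (p := 49787) (l := 3) rfl N49787 D187087
theorem N84368 : nd 84368 = n187088 := ndS (p := 49787) (l := 4) rfl N49787 D187088
theorem N84369 : nd 84369 = n187089 := ndS (p := 49787) (l := 5) rfl N49787 D187089
theorem N84370 : nd 84370 = n187090 := ndS (p := 49787) (l := 6) rfl N49787 D187090
theorem N84371 : nd 84371 = n187091 := ndS (p := 49788) (l := 0) rfl N49788 D187091
theorem N84372 : nd 84372 = n187092 := ndS (p := 49788) (l := 1) rfl N49788 D187092
theorem N84373 : nd 84373 = n187093 := ndS (p := 49788) (l := 4) rfl N49788 D187093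
theorem N84374 : nd 84374 = n187094 := ndS (p := 49788) (l := 7) rfl N49788 D187094
theorem N84375 : nd 84375 = n187095 := ndS (p := 49790) (l := 4) rfl N49790 D187095
theorem N84376 : nd 84376 = n187096 := ndS (p := 49791) (l := 6) rfl N49791 D187096
theorem N84377 : nd 84377 = n187097 := ndS (p := 49792) (l := 3) rfl N49792 D187097
theorem N84378 : nd 84378 = n187098 := ndS (p := 49792) (l := 5) rfl N49792 D187098
theorem N84379 : nd 84379 = n187099 := ndS (p := 49793) (l := 6) rfl N49793 D187099
theorem N84380 : nd 84380 = n187100 := ndS (p := 49794) (l := 1) rfl N49794 D187100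
theorem N84381 : nd 84381 = n187102 := ndS (p := 49795) (l := 1) rfl N49795 D187102
theorem N84382 : nd 84382 = n187103 := ndS (p := 49795) (l := 2) rfl N49795 D187103
theorem N84383 : nd 84383 = n187104 := ndS (p := 49797) (l := 6) rfl N49797 D187104
theorem N84384 : nd 84384 = n187105 := ndS (p := 49798) (l := 4) rfl N49798 D187105
theorem N84385 : nd 84385 = n187106 := ndS (p := 49799) (l := 5) rfl N49799 D187106
theorem N84386 : nd 84386 = n187107 := ndS (p := 49800) (l := 0) rfl N49800 D187107
theorem N84387 : nd 84387 = n187108 := ndS (p := 49800) (l := 1) rfl N49800 D187108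
theorem N84388 : nd 84388 = n187109 := ndS (p := 49800) (l := 5) rfl N49800 D187109
theorem N84389 : nd 84389 = n187110 := ndS (p := 49800) (l := 7) rfl N49800 D187110
theorem N84390 : nd 84390 = n187111 := ndS (p := 49803) (l := 4) rfl N49803 D187111
theorem N84391 : nd 84391 = n187112 := ndS (p := 49803) (l := 6) rfl N49803 D187112
theorem N84392 : nd 84392 = n187113 := ndS (p := 49806) (l := 0) rfl N49806 D187113
theorem N84393 : nd 84393 = n187114 := ndS (p := 49806) (l := 1) rfl N49806 D187114
theorem N84394 : nd 84394 = n187115 := ndS (p := 49808) (l := 0) rfl N49808 D187115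
theorem N84395 : nd 84395 = n187116 := ndS (p := 49808) (l := 1) rfl N49808 D187116
theorem N84396 : nd 84396 = n187117 := ndS (p := 49808) (l := 2) rfl N49808 D187117
theorem N84397 : nd 84397 = n187118 := ndS (p := 49810) (l := 3) rfl N49810 D187118
theorem N84398 : nd 84398 = n187119 := ndS (p := 49813) (l := 3) rfl N49813 D187119
theorem N84399 : nd 84399 = n187120 := ndS (p := 49813) (l := 4) rfl N49813 D187120
theorem N84400 : nd 84400 = n187121 := ndS (p := 49815) (l := 2) rfl N49815 D187121
theorem N84401 : nd 84401 = n187122 := ndS (p := 49816) (l := 7) rfl N49816 D187122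
theorem N84402 : nd 84402 = n187123 := ndS (p := 49817) (l := 3) rfl N49817 D187123
theorem N84403 : nd 84403 = n187124 := ndS (p := 49823) (l := 4) rfl N49823 D187124
theorem N84404 : nd 84404 = n187125 := ndS (p := 49824) (l := 4) rfl N49824 D187125
theorem N84405 : nd 84405 = n187126 := ndS (p := 49825) (l := 5) rfl N49825 D187126
theorem N84406 : nd 84406 = n187127 := ndS (p := 49826) (l := 4) rfl N49826 D187127
theorem N84407 : nd 84407 = n187128 := ndS (p := 49826) (l := 6) rfl N49826 D187128
theorem N84408 : nd 84408 = n187129 := ndS (p := 49827) (l := 0) rfl N49827 D187129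
theorem N84409 : nd 84409 = n187130 := ndS (p := 49827) (l := 1) rfl N49827 D187130
theorem N84410 : nd 84410 = n187131 := ndS (p := 49827) (l := 7) rfl N49827 D187131
theorem N84411 : nd 84411 = n187132 := ndS (p := 49828) (l := 0) rfl N49828 D187132
theorem N84412 : nd 84412 = n187133 := ndS (p := 49828) (l := 2) rfl N49828 D187133
theorem N84413 : nd 84413 = n187134 := ndS (p := 49830) (l := 0) rfl N49830 D187134
theorem N84414 : nd 84414 = n187135 := ndS (p := 49830) (l := 1) rfl N49830 D187135
theorem N84415 : nd 84415 = n187136 := ndS (p := 49830) (l := 4) rfl N49830 D187136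
theorem N84416 : nd 84416 = n187137 := ndS (p := 49830) (l := 6) rfl N49830 D187137
theorem N84417 : nd 84417 = n187138 := ndS (p := 49831) (l := 3) rfl N49831 D187138
theorem N84418 : nd 84418 = n187139 := ndS (p := 49831) (l := 4) rfl N49831 D187139
theorem N84419 : nd 84419 = n187140 := ndS (p := 49831) (l := 6) rfl N49831 D187140
theorem N84420 : nd 84420 = n187141 := ndS (p := 49832) (l := 4) rfl N49832 D187141
theorem N84421 : nd 84421 = n187142 := ndS (p := 49833) (l := 6) rfl N49833 D187142
theorem N84422 : nd 84422 = n187143 := ndS (p := 49834) (l := 0) rfl N49834 D187143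
theorem N84423 : nd 84423 = n187144 := ndS (p := 49834) (l := 1) rfl N49834 D187144
theorem N84424 : nd 84424 = n187145 := ndS (p := 49834) (l := 7) rfl N49834 D187145
theorem N84425 : nd 84425 = n187146 := ndS (p := 49835) (l := 1) rfl N49835 D187146
theorem N84426 : nd 84426 = n187147 := ndS (p := 49835) (l := 2) rfl N49835 D187147
theorem N84427 : nd 84427 = n187148 := ndS (p := 49835) (l := 5) rfl N49835 D187148
theorem N84428 : nd 84428 = n187149 := ndS (p := 49836) (l := 6) rfl N49836 D187149
theorem N84429 : nd 84429 = n187150 := ndS (p := 49837) (l := 0) rfl N49837 D187150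
theorem N84430 : nd 84430 = n187151 := ndS (p := 49837) (l := 4) rfl N49837 D187151
theorem N84431 : nd 84431 = n187152 := ndS (p := 49837) (l := 6) rfl N49837 D187152
theorem N84432 : nd 84432 = n187153 := ndS (p := 49838) (l := 5) rfl N49838 D187153
theorem N84433 : nd 84433 = n187154 := ndS (p := 49839) (l := 3) rfl N49839 D187154
theorem N84434 : nd 84434 = n187155 := ndS (p := 49839) (l := 6) rfl N49839 D187155
theorem N84435 : nd 84435 = n187156 := ndS (p := 49840) (l := 0) rfl N49840 D187156
theorem N84436 : nd 84436 = n187157 := ndS (p := 49840) (l := 1) rfl N49840 D187157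
theorem N84437 : nd 84437 = n187158 := ndS (p := 49840) (l := 5) rfl N49840 D187158
theorem N84438 : nd 84438 = n187159 := ndS (p := 49840) (l := 7) rfl N49840 D187159
theorem N84439 : nd 84439 = n187160 := ndS (p := 49843) (l := 3) rfl N49843 D187160
theorem N84440 : nd 84440 = n187161 := ndS (p := 49844) (l := 6) rfl N49844 D187161
theorem N84441 : nd 84441 = n187162 := ndS (p := 49847) (l := 0) rfl N49847 D187162
theorem N84442 : nd 84442 = n187163 := ndS (p := 49847) (l := 1) rfl N49847 D187163
theorem N84443 : nd 84443 = n187164 := ndS (p := 49847) (l := 7) rfl N49847 D187164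
theorem N84444 : nd 84444 = n187165 := ndS (p := 49848) (l := 4) rfl N49848 D187165
theorem N84445 : nd 84445 = n187166 := ndS (p := 49848) (l := 5) rfl N49848 D187166
theorem N84446 : nd 84446 = n187167 := ndS (p := 49849) (l := 3) rfl N49849 D187167
theorem N84447 : nd 84447 = n187168 := ndS (p := 49849) (l := 5) rfl N49849 D187168
theorem N84448 : nd 84448 = n187169 := ndS (p := 49851) (l := 3) rfl N49851 D187169
theorem N84449 : nd 84449 = n187170 := ndS (p := 49851) (l := 5) rfl N49851 D187170
theorem N84450 : nd 84450 = n187171 := ndS (p := 49852) (l := 5) rfl N49852 D187171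
theorem N84451 : nd 84451 = n187172 := ndS (p := 49852) (l := 6) rfl N49852 D187172
theorem N84452 : nd 84452 = n187173 := ndS (p := 49854) (l := 2) rfl N49854 D187173
theorem N84453 : nd 84453 = n187174 := ndS (p := 49854) (l := 4) rfl N49854 D187174
theorem N84454 : nd 84454 = n187175 := ndS (p := 49854) (l := 6) rfl N49854 D187175
theorem N84455 : nd 84455 = n187176 := ndS (p := 49855) (l := 0) rfl N49855 D187176
theorem N84456 : nd 84456 = n187177 := ndS (p := 49855) (l := 1) rfl N49855 D187177
theorem N84457 : nd 84457 = n187178 := ndS (p := 49855) (l := 7) rfl N49855 D187178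
theorem N84458 : nd 84458 = n187179 := ndS (p := 49856) (l := 2) rfl N49856 D187179
theorem N84459 : nd 84459 = n187180 := ndS (p := 49856) (l := 4) rfl N49856 D187180
theorem N84460 : nd 84460 = n187181 := ndS (p := 49856) (l := 6) rfl N49856 D187181
theorem N84461 : nd 84461 = n187182 := ndS (p := 49857) (l := 0) rfl N49857 D187182
theorem N84462 : nd 84462 = n187183 := ndS (p := 49857) (l := 1) rfl N49857 D187183
theorem N84463 : nd 84463 = n187184 := ndS (p := 49857) (l := 7) rfl N49857 D187184
theorem N84464 : nd 84464 = n187185 := ndS (p := 49858) (l := 3) rfl N49858 D187185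
theorem N84465 : nd 84465 = n187186 := ndS (p := 49858) (l := 5) rfl N49858 D187186
theorem N84466 : nd 84466 = n187187 := ndS (p := 49858) (l := 6) rfl N49858 D187187
theorem N84467 : nd 84467 = n187188 := ndS (p := 49859) (l := 5) rfl N49859 D187188
theorem N84468 : nd 84468 = n187189 := ndS (p := 49861) (l := 6) rfl N49861 D187189
theorem N84469 : nd 84469 = n187190 := ndS (p := 49865) (l := 1) rfl N49865 D187190
theorem N84470 : nd 84470 = n187191 := ndS (p := 49867) (l := 3) rfl N49867 D187191
theorem N84471 : nd 84471 = n187192 := ndS (p := 49867) (l := 4) rfl N49867 D187192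
theorem N84472 : nd 84472 = n187193 := ndS (p := 49867) (l := 6) rfl N49867 D187193
theorem N84473 : nd 84473 = n187194 := ndS (p := 49868) (l := 4) rfl N49868 D187194
theorem N84474 : nd 84474 = n187195 := ndS (p := 49869) (l := 0) rfl N49869 D187195
theorem N84475 : nd 84475 = n187196 := ndS (p := 49869) (l := 1) rfl N49869 D187196
theorem N84476 : nd 84476 = n187197 := ndS (p := 49869) (l := 5) rfl N49869 D187197
theorem N84477 : nd 84477 = n187198 := ndS (p := 49869) (l := 7) rfl N49869 D187198
theorem N84478 : nd 84478 = n187199 := ndS (p := 49871) (l := 1) rfl N49871 D187199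
theorem N84479 : nd 84479 = n187200 := ndS (p := 49871) (l := 2) rfl N49871 D187200
theorem N84480 : nd 84480 = n187201 := ndS (p := 49871) (l := 5) rfl N49871 D187201
theorem N84481 : nd 84481 = n187202 := ndS (p := 49873) (l := 6) rfl N49873 D187202
theorem N84482 : nd 84482 = n187203 := ndS (p := 49874) (l := 5) rfl N49874 D187203
theorem N84483 : nd 84483 = n187204 := ndS (p := 49876) (l := 5) rfl N49876 D187204
theorem N84484 : nd 84484 = n187205 := ndS (p := 49878) (l := 3) rfl N49878 D187205
theorem N84485 : nd 84485 = n187206 := ndS (p := 49879) (l := 3) rfl N49879 D187206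
theorem N84486 : nd 84486 = n187207 := ndS (p := 49879) (l := 6) rfl N49879 D187207
theorem N84487 : nd 84487 = n187208 := ndS (p := 49880) (l := 3) rfl N49880 D187208
theorem N84488 : nd 84488 = n187209 := ndS (p := 49880) (l := 6) rfl N49880 D187209
theorem N84489 : nd 84489 = n187210 := ndS (p := 49881) (l := 0) rfl N49881 D187210
theorem N84490 : nd 84490 = n187211 := ndS (p := 49881) (l := 7) rfl N49881 D187211
theorem N84491 : nd 84491 = n187212 := ndS (p := 49882) (l := 5) rfl N49882 D187212
theorem N84492 : nd 84492 = n187213 := ndS (p := 49882) (l := 6) rfl N49882 D187213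
theorem N84493 : nd 84493 = n187214 := ndS (p := 49883) (l := 7) rfl N49883 D187214
theorem N84494 : nd 84494 = n187215 := ndS (p := 49884) (l := 6) rfl N49884 D187215
theorem N84495 : nd 84495 = n187216 := ndS (p := 49885) (l := 3) rfl N49885 D187216
theorem N84496 : nd 84496 = n187217 := ndS (p := 49885) (l := 6) rfl N49885 D187217
theorem N84497 : nd 84497 = n187218 := ndS (p := 49886) (l := 0) rfl N49886 D187218
theorem N84498 : nd 84498 = n187219 := ndS (p := 49886) (l := 1) rfl N49886 D187219
theorem N84499 : nd 84499 = n187220 := ndS (p := 49886) (l := 7) rfl N49886 D187220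
theorem N84500 : nd 84500 = n187221 := ndS (p := 49887) (l := 4) rfl N49887 D187221
theorem N84501 : nd 84501 = n187222 := ndS (p := 49887) (l := 5) rfl N49887 D187222
theorem N84502 : nd 84502 = n187223 := ndS (p := 49888) (l := 0) rfl N49888 D187223
theorem N84503 : nd 84503 = n187224 := ndS (p := 49888) (l := 1) rfl N49888 D187224
theorem N84504 : nd 84504 = n187225 := ndS (p := 49888) (l := 4) rfl N49888 D187225
theorem N84505 : nd 84505 = n187226 := ndS (p := 49888) (l := 6) rfl N49888 D187226
theorem N84506 : nd 84506 = n187227 := ndS (p := 49890) (l := 3) rfl N49890 D187227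
theorem N84507 : nd 84507 = n187228 := ndS (p := 49890) (l := 6) rfl N49890 D187228
theorem N84508 : nd 84508 = n187229 := ndS (p := 49891) (l := 0) rfl N49891 D187229
theorem N84509 : nd 84509 = n187230 := ndS (p := 49894) (l := 5) rfl N49894 D187230
theorem N84510 : nd 84510 = n187231 := ndS (p := 49895) (l := 5) rfl N49895 D187231
theorem N84511 : nd 84511 = n187232 := ndS (p := 49895) (l := 6) rfl N49895 D187232
theorem N84512 : nd 84512 = n187233 := ndS (p := 49896) (l := 5) rfl N49896 D187233
theorem N84513 : nd 84513 = n187234 := ndS (p := 49897) (l := 0) rfl N49897 D187234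
theorem N84514 : nd 84514 = n187235 := ndS (p := 49897) (l := 1) rfl N49897 D187235
theorem N84515 : nd 84515 = n187236 := ndS (p := 49897) (l := 4) rfl N49897 D187236
theorem N84516 : nd 84516 = n187237 := ndS (p := 49897) (l := 6) rfl N49897 D187237
theorem N84517 : nd 84517 = n187238 := ndS (p := 49898) (l := 3) rfl N49898 D187238
theorem N84518 : nd 84518 = n187239 := ndS (p := 49898) (l := 6) rfl N49898 D187239
theorem N84519 : nd 84519 = n187240 := ndS (p := 49899) (l := 0) rfl N49899 D187240
theorem N84520 : nd 84520 = n187241 := ndS (p := 49899) (l := 1) rfl N49899 D187241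
theorem N84521 : nd 84521 = n187242 := ndS (p := 49899) (l := 7) rfl N49899 D187242
theorem N84522 : nd 84522 = n187243 := ndS (p := 49900) (l := 3) rfl N49900 D187243
theorem N84523 : nd 84523 = n187244 := ndS (p := 49900) (l := 4) rfl N49900 D187244
theorem N84524 : nd 84524 = n187245 := ndS (p := 49900) (l := 6) rfl N49900 D187245
theorem N84525 : nd 84525 = n187246 := ndS (p := 49901) (l := 3) rfl N49901 D187246
theorem N84526 : nd 84526 = n187247 := ndS (p := 49901) (l := 4) rfl N49901 D187247
theorem N84527 : nd 84527 = n187248 := ndS (p := 49901) (l := 6) rfl N49901 D187248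
theorem N84528 : nd 84528 = n187249 := ndS (p := 49902) (l := 0) rfl N49902 D187249
theorem N84529 : nd 84529 = n187250 := ndS (p := 49902) (l := 1) rfl N49902 D187250
theorem N84530 : nd 84530 = n187251 := ndS (p := 49902) (l := 6) rfl N49902 D187251
theorem N84531 : nd 84531 = n187252 := ndS (p := 49903) (l := 0) rfl N49903 D187252
theorem N84532 : nd 84532 = n187253 := ndS (p := 49903) (l := 1) rfl N49903 D187253
theorem N84533 : nd 84533 = n187254 := ndS (p := 49903) (l := 7) rfl N49903 D187254
theorem N84534 : nd 84534 = n187255 := ndS (p := 49904) (l := 2) rfl N49904 D187255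
theorem N84535 : nd 84535 = n187256 := ndS (p := 49904) (l := 6) rfl N49904 D187256
theorem N84536 : nd 84536 = n187257 := ndS (p := 49905) (l := 3) rfl N49905 D187257
theorem N84537 : nd 84537 = n187258 := ndS (p := 49905) (l := 6) rfl N49905 D187258
theorem N84538 : nd 84538 = n187259 := ndS (p := 49906) (l := 0) rfl N49906 D187259
theorem N84539 : nd 84539 = n187260 := ndS (p := 49906) (l := 1) rfl N49906 D187260
theorem N84540 : nd 84540 = n187261 := ndS (p := 49906) (l := 7) rfl N49906 D187261
theorem N84541 : nd 84541 = n187262 := ndS (p := 49907) (l := 2) rfl N49907 D187262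
theorem N84542 : nd 84542 = n187263 := ndS (p := 49907) (l := 4) rfl N49907 D187263
theorem N84543 : nd 84543 = n187264 := ndS (p := 49907) (l := 6) rfl N49907 D187264
theorem N84544 : nd 84544 = n187265 := ndS (p := 49909) (l := 0) rfl N49909 D187265
theorem N84545 : nd 84545 = n187266 := ndS (p := 49910) (l := 3) rfl N49910 D187266
theorem N84546 : nd 84546 = n187267 := ndS (p := 49910) (l := 6) rfl N49910 D187267
theorem N84547 : nd 84547 = n187268 := ndS (p := 49911) (l := 3) rfl N49911 D187268
theorem N84548 : nd 84548 = n187269 := ndS (p := 49912) (l := 0) rfl N49912 D187269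
theorem N84549 : nd 84549 = n187270 := ndS (p := 49912) (l := 1) rfl N49912 D187270
theorem N84550 : nd 84550 = n187271 := ndS (p := 49912) (l := 2) rfl N49912 D187271
theorem N84551 : nd 84551 = n187272 := ndS (p := 49912) (l := 5) rfl N49912 D187272
theorem N84552 : nd 84552 = n187273 := ndS (p := 49912) (l := 6) rfl N49912 D187273
theorem N84553 : nd 84553 = n187274 := ndS (p := 49913) (l := 6) rfl N49913 D187274
theorem N84554 : nd 84554 = n187275 := ndS (p := 49914) (l := 5) rfl N49914 D187275
theorem N84555 : nd 84555 = n187276 := ndS (p := 49915) (l := 3) rfl N49915 D187276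
theorem N84556 : nd 84556 = n187277 := ndS (p := 49916) (l := 3) rfl N49916 D187277
theorem N84557 : nd 84557 = n187278 := ndS (p := 49916) (l := 4) rfl N49916 D187278
theorem N84558 : nd 84558 = n187279 := ndS (p := 49916) (l := 6) rfl N49916 D187279
theorem N84559 : nd 84559 = n187280 := ndS (p := 49918) (l := 2) rfl N49918 D187280
theorem N84560 : nd 84560 = n187281 := ndS (p := 49919) (l := 1) rfl N49919 D187281
theorem N84561 : nd 84561 = n187282 := ndS (p := 49920) (l := 1) rfl N49920 D187282
theorem N84562 : nd 84562 = n187283 := ndS (p := 49920) (l := 2) rfl N49920 D187283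
theorem N84563 : nd 84563 = n187284 := ndS (p := 49920) (l := 5) rfl N49920 D187284
theorem N84564 : nd 84564 = n187285 := ndS (p := 49922) (l := 2) rfl N49922 D187285
theorem N84565 : nd 84565 = n187286 := ndS (p := 49923) (l := 3) rfl N49923 D187286
theorem N84566 : nd 84566 = n187287 := ndS (p := 49924) (l := 1) rfl N49924 D187287
theorem N84567 : nd 84567 = n187288 := ndS (p := 49924) (l := 7) rfl N49924 D187288
theorem N84568 : nd 84568 = n187289 := ndS (p := 49925) (l := 0) rfl N49925 D187289
theorem N84569 : nd 84569 = n187290 := ndS (p := 49925) (l := 2) rfl N49925 D187290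
theorem N84570 : nd 84570 = n187291 := ndS (p := 49925) (l := 5) rfl N49925 D187291
theorem N84571 : nd 84571 = n187292 := ndS (p := 49928) (l := 5) rfl N49928 D187292
theorem N84572 : nd 84572 = n187293 := ndS (p := 49929) (l := 5) rfl N49929 D187293
theorem N84573 : nd 84573 = n187294 := ndS (p := 49930) (l := 0) rfl N49930 D187294
theorem N84574 : nd 84574 = n187295 := ndS (p := 49930) (l := 4) rfl N49930 D187295
theorem N84575 : nd 84575 = n187296 := ndS (p := 49930) (l := 6) rfl N49930 D187296
theorem N84576 : nd 84576 = n187297 := ndS (p := 49931) (l := 3) rfl N49931 D187297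
theorem N84577 : nd 84577 = n187298 := ndS (p := 49931) (l := 6) rfl N49931 D187298
theorem N84578 : nd 84578 = n187299 := ndS (p := 49932) (l := 0) rfl N49932 D187299
theorem N84579 : nd 84579 = n187300 := ndS (p := 49932) (l := 1) rfl N49932 D187300
theorem N84580 : nd 84580 = n187301 := ndS (p := 49932) (l := 7) rfl N49932 D187301
theorem N84581 : nd 84581 = n187302 := ndS (p := 49933) (l := 3) rfl N49933 D187302
theorem N84582 : nd 84582 = n187303 := ndS (p := 49933) (l := 4) rfl N49933 D187303
theorem N84583 : nd 84583 = n187304 := ndS (p := 49933) (l := 5) rfl N49933 D187304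
theorem N84584 : nd 84584 = n187305 := ndS (p := 49934) (l := 0) rfl N49934 D187305
theorem N84585 : nd 84585 = n187306 := ndS (p := 49934) (l := 1) rfl N49934 D187306
theorem N84586 : nd 84586 = n187307 := ndS (p := 49934) (l := 4) rfl N49934 D187307
theorem N84587 : nd 84587 = n187308 := ndS (p := 49934) (l := 6) rfl N49934 D187308
theorem N84588 : nd 84588 = n187309 := ndS (p := 49935) (l := 0) rfl N49935 D187309
theorem N84589 : nd 84589 = n187310 := ndS (p := 49936) (l := 3) rfl N49936 D187310
theorem N84590 : nd 84590 = n187311 := ndS (p := 49937) (l := 0) rfl N49937 D187311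
theorem N84591 : nd 84591 = n187312 := ndS (p := 49937) (l := 1) rfl N49937 D187312
theorem N84592 : nd 84592 = n187313 := ndS (p := 49937) (l := 7) rfl N49937 D187313
theorem N84593 : nd 84593 = n187314 := ndS (p := 49938) (l := 1) rfl N49938 D187314
theorem N84594 : nd 84594 = n187315 := ndS (p := 49939) (l := 5) rfl N49939 D187315
theorem N84595 : nd 84595 = n187316 := ndS (p := 49939) (l := 6) rfl N49939 D187316
theorem N84596 : nd 84596 = n187317 := ndS (p := 49940) (l := 5) rfl N49940 D187317
theorem N84597 : nd 84597 = n187318 := ndS (p := 49941) (l := 5) rfl N49941 D187318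
theorem N84598 : nd 84598 = n187319 := ndS (p := 49942) (l := 0) rfl N49942 D187319
theorem N84599 : nd 84599 = n187320 := ndS (p := 49942) (l := 1) rfl N49942 D187320
theorem N84600 : nd 84600 = n187321 := ndS (p := 49942) (l := 4) rfl N49942 D187321
theorem N84601 : nd 84601 = n187322 := ndS (p := 49942) (l := 6) rfl N49942 D187322
theorem N84602 : nd 84602 = n187323 := ndS (p := 49943) (l := 3) rfl N49943 D187323
theorem N84603 : nd 84603 = n187324 := ndS (p := 49943) (l := 6) rfl N49943 D187324
theorem N84604 : nd 84604 = n187325 := ndS (p := 49944) (l := 0) rfl N49944 D187325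
theorem N84605 : nd 84605 = n187326 := ndS (p := 49944) (l := 1) rfl N49944 D187326
theorem N84606 : nd 84606 = n187327 := ndS (p := 49944) (l := 7) rfl N49944 D187327
theorem N84607 : nd 84607 = n187328 := ndS (p := 49945) (l := 3) rfl N49945 D187328
theorem N84608 : nd 84608 = n187329 := ndS (p := 49945) (l := 5) rfl N49945 D187329
theorem N84609 : nd 84609 = n187330 := ndS (p := 49945) (l := 6) rfl N49945 D187330
theorem N84610 : nd 84610 = n187331 := ndS (p := 49946) (l := 0) rfl N49946 D187331
theorem N84611 : nd 84611 = n187332 := ndS (p := 49946) (l := 1) rfl N49946 D187332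
theorem N84612 : nd 84612 = n187333 := ndS (p := 49946) (l := 7) rfl N49946 D187333
theorem N84613 : nd 84613 = n187334 := ndS (p := 49947) (l := 2) rfl N49947 D187334
theorem N84614 : nd 84614 = n187335 := ndS (p := 49947) (l := 6) rfl N49947 D187335
theorem N84615 : nd 84615 = n187336 := ndS (p := 49948) (l := 3) rfl N49948 D187336
theorem N84616 : nd 84616 = n187337 := ndS (p := 49949) (l := 0) rfl N49949 D187337
theorem N84617 : nd 84617 = n187338 := ndS (p := 49949) (l := 7) rfl N49949 D187338
theorem N84618 : nd 84618 = n187339 := ndS (p := 49950) (l := 2) rfl N49950 D187339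
theorem N84619 : nd 84619 = n187340 := ndS (p := 49950) (l := 4) rfl N49950 D187340
theorem N84620 : nd 84620 = n187341 := ndS (p := 49951) (l := 6) rfl N49951 D187341
theorem N84621 : nd 84621 = n187342 := ndS (p := 49952) (l := 0) rfl N49952 D187342
theorem N84622 : nd 84622 = n187343 := ndS (p := 49952) (l := 1) rfl N49952 D187343
theorem N84623 : nd 84623 = n187344 := ndS (p := 49952) (l := 7) rfl N49952 D187344
theorem N84624 : nd 84624 = n187345 := ndS (p := 49953) (l := 3) rfl N49953 D187345
theorem N84625 : nd 84625 = n187346 := ndS (p := 49954) (l := 3) rfl N49954 D187346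
theorem N84626 : nd 84626 = n187347 := ndS (p := 49954) (l := 6) rfl N49954 D187347
theorem N84627 : nd 84627 = n187348 := ndS (p := 49955) (l := 0) rfl N49955 D187348
theorem N84628 : nd 84628 = n187349 := ndS (p := 49955) (l := 1) rfl N49955 D187349
theorem N84629 : nd 84629 = n187350 := ndS (p := 49955) (l := 2) rfl N49955 D187350
theorem N84630 : nd 84630 = n187351 := ndS (p := 49955) (l := 5) rfl N49955 D187351
theorem N84631 : nd 84631 = n187352 := ndS (p := 49957) (l := 1) rfl N49957 D187352
theorem N84632 : nd 84632 = n187353 := ndS (p := 49958) (l := 3) rfl N49958 D187353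
theorem N84633 : nd 84633 = n187354 := ndS (p := 49958) (l := 4) rfl N49958 D187354
theorem N84634 : nd 84634 = n187355 := ndS (p := 49958) (l := 5) rfl N49958 D187355
theorem N84635 : nd 84635 = n187356 := ndS (p := 49958) (l := 6) rfl N49958 D187356
theorem N84636 : nd 84636 = n187357 := ndS (p := 49959) (l := 3) rfl N49959 D187357
theorem N84637 : nd 84637 = n187358 := ndS (p := 49959) (l := 4) rfl N49959 D187358
theorem N84638 : nd 84638 = n187359 := ndS (p := 49959) (l := 5) rfl N49959 D187359
theorem N84639 : nd 84639 = n187360 := ndS (p := 49962) (l := 0) rfl N49962 D187360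
theorem N84640 : nd 84640 = n187361 := ndS (p := 49962) (l := 2) rfl N49962 D187361
theorem N84641 : nd 84641 = n187362 := ndS (p := 49963) (l := 1) rfl N49963 D187362
theorem N84642 : nd 84642 = n187363 := ndS (p := 49963) (l := 2) rfl N49963 D187363
theorem N84643 : nd 84643 = n187364 := ndS (p := 49966) (l := 0) rfl N49966 D187364
theorem N84644 : nd 84644 = n187365 := ndS (p := 49966) (l := 1) rfl N49966 D187365
theorem N84645 : nd 84645 = n187366 := ndS (p := 49966) (l := 2) rfl N49966 D187366
theorem N84646 : nd 84646 = n187367 := ndS (p := 49968) (l := 0) rfl N49968 D187367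
theorem N84647 : nd 84647 = n187368 := ndS (p := 49968) (l := 1) rfl N49968 D187368
theorem N84648 : nd 84648 = n187369 := ndS (p := 49968) (l := 2) rfl N49968 D187369
theorem N84649 : nd 84649 = n187370 := ndS (p := 49969) (l := 1) rfl N49969 D187370
theorem N84650 : nd 84650 = n187371 := ndS (p := 49969) (l := 2) rfl N49969 D187371
theorem N84651 : nd 84651 = n187372 := ndS (p := 49971) (l := 0) rfl N49971 D187372
theorem N84652 : nd 84652 = n187373 := ndS (p := 49971) (l := 1) rfl N49971 D187373
theorem N84653 : nd 84653 = n187374 := ndS (p := 49971) (l := 7) rfl N49971 D187374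
theorem N84654 : nd 84654 = n187375 := ndS (p := 49972) (l := 0) rfl N49972 D187375
theorem N84655 : nd 84655 = n187376 := ndS (p := 49973) (l := 6) rfl N49973 D187376
theorem N84656 : nd 84656 = n187377 := ndS (p := 49976) (l := 5) rfl N49976 D187377
theorem N84657 : nd 84657 = n187378 := ndS (p := 49977) (l := 4) rfl N49977 D187378
theorem N84658 : nd 84658 = n187379 := ndS (p := 49977) (l := 6) rfl N49977 D187379
theorem N84659 : nd 84659 = n187380 := ndS (p := 49978) (l := 0) rfl N49978 D187380
theorem N84660 : nd 84660 = n187381 := ndS (p := 49978) (l := 1) rfl N49978 D187381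
theorem N84661 : nd 84661 = n187382 := ndS (p := 49978) (l := 7) rfl N49978 D187382
theorem N84662 : nd 84662 = n187383 := ndS (p := 49979) (l := 3) rfl N49979 D187383
theorem N84663 : nd 84663 = n187384 := ndS (p := 49979) (l := 4) rfl N49979 D187384
theorem N84664 : nd 84664 = n187385 := ndS (p := 49980) (l := 3) rfl N49980 D187385
theorem N84665 : nd 84665 = n187386 := ndS (p := 49980) (l := 4) rfl N49980 D187386
theorem N84666 : nd 84666 = n187387 := ndS (p := 49981) (l := 4) rfl N49981 D187387
theorem N84667 : nd 84667 = n187388 := ndS (p := 49981) (l := 6) rfl N49981 D187388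
theorem N84668 : nd 84668 = n187389 := ndS (p := 49982) (l := 0) rfl N49982 D187389
theorem N84669 : nd 84669 = n187390 := ndS (p := 49982) (l := 1) rfl N49982 D187390
theorem N84670 : nd 84670 = n187391 := ndS (p := 49982) (l := 7) rfl N49982 D187391
theorem N84671 : nd 84671 = n187392 := ndS (p := 49983) (l := 3) rfl N49983 D187392
theorem N84672 : nd 84672 = n187393 := ndS (p := 49984) (l := 5) rfl N49984 D187393
theorem N84673 : nd 84673 = n187394 := ndS (p := 49985) (l := 1) rfl N49985 D187394
theorem N84674 : nd 84674 = n187395 := ndS (p := 49985) (l := 4) rfl N49985 D187395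
theorem N84675 : nd 84675 = n187396 := ndS (p := 49987) (l := 6) rfl N49987 D187396
theorem N84676 : nd 84676 = n187397 := ndS (p := 49988) (l := 3) rfl N49988 D187397
theorem N84677 : nd 84677 = n187398 := ndS (p := 49989) (l := 5) rfl N49989 D187398
theorem N84678 : nd 84678 = n187399 := ndS (p := 49990) (l := 4) rfl N49990 D187399
theorem N84679 : nd 84679 = n187400 := ndS (p := 49990) (l := 6) rfl N49990 D187400
theorem N84680 : nd 84680 = n187401 := ndS (p := 49991) (l := 0) rfl N49991 D187401
theorem N84681 : nd 84681 = n187402 := ndS (p := 49991) (l := 1) rfl N49991 D187402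
theorem N84682 : nd 84682 = n187403 := ndS (p := 49991) (l := 7) rfl N49991 D187403
theorem N84683 : nd 84683 = n187404 := ndS (p := 49992) (l := 4) rfl N49992 D187404
theorem N84684 : nd 84684 = n187405 := ndS (p := 49992) (l := 5) rfl N49992 D187405
theorem N84685 : nd 84685 = n187406 := ndS (p := 49992) (l := 6) rfl N49992 D187406
theorem N84686 : nd 84686 = n187407 := ndS (p := 49993) (l := 3) rfl N49993 D187407
theorem N84687 : nd 84687 = n187408 := ndS (p := 49993) (l := 5) rfl N49993 D187408
theorem N84688 : nd 84688 = n187409 := ndS (p := 49995) (l := 2) rfl N49995 D187409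
theorem N84689 : nd 84689 = n187410 := ndS (p := 49995) (l := 4) rfl N49995 D187410
theorem N84690 : nd 84690 = n187411 := ndS (p := 49996) (l := 0) rfl N49996 D187411
theorem N84691 : nd 84691 = n187412 := ndS (p := 49996) (l := 1) rfl N49996 D187412
theorem N84692 : nd 84692 = n187413 := ndS (p := 49996) (l := 7) rfl N49996 D187413
theorem N84693 : nd 84693 = n187414 := ndS (p := 49998) (l := 0) rfl N49998 D187414
theorem N84694 : nd 84694 = n187415 := ndS (p := 49998) (l := 1) rfl N49998 D187415
theorem N84695 : nd 84695 = n187416 := ndS (p := 49998) (l := 7) rfl N49998 D187416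
theorem N84696 : nd 84696 = n187417 := ndS (p := 49999) (l := 0) rfl N49999 D187417
theorem N84697 : nd 84697 = n187418 := ndS (p := 49999) (l := 1) rfl N49999 D187418
theorem N84698 : nd 84698 = n187419 := ndS (p := 50001) (l := 3) rfl N50001 D187419
theorem N84699 : nd 84699 = n187420 := ndS (p := 50001) (l := 5) rfl N50001 D187420
theorem N84700 : nd 84700 = n187421 := ndS (p := 50001) (l := 6) rfl N50001 D187421
theorem N84701 : nd 84701 = n187422 := ndS (p := 50002) (l := 3) rfl N50002 D187422
theorem N84702 : nd 84702 = n187423 := ndS (p := 50002) (l := 5) rfl N50002 D187423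
theorem N84703 : nd 84703 = n187424 := ndS (p := 50002) (l := 6) rfl N50002 D187424
theorem N84704 : nd 84704 = n187425 := ndS (p := 50004) (l := 3) rfl N50004 D187425
theorem N84705 : nd 84705 = n187426 := ndS (p := 50008) (l := 1) rfl N50008 D187426
theorem N84706 : nd 84706 = n187427 := ndS (p := 50008) (l := 4) rfl N50008 D187427
theorem N84707 : nd 84707 = n187428 := ndS (p := 50014) (l := 1) rfl N50014 D187428
theorem N84708 : nd 84708 = n187429 := ndS (p := 50014) (l := 6) rfl N50014 D187429
theorem N84709 : nd 84709 = n187430 := ndS (p := 50019) (l := 4) rfl N50019 D187430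
theorem N84710 : nd 84710 = n187431 := ndS (p := 50020) (l := 5) rfl N50020 D187431
theorem N84711 : nd 84711 = n187432 := ndS (p := 50021) (l := 0) rfl N50021 D187432
theorem N84712 : nd 84712 = n187433 := ndS (p := 50021) (l := 4) rfl N50021 D187433
theorem N84713 : nd 84713 = n187434 := ndS (p := 50021) (l := 6) rfl N50021 D187434
theorem N84714 : nd 84714 = n187435 := ndS (p := 50022) (l := 3) rfl N50022 D187435
theorem N84715 : nd 84715 = n187436 := ndS (p := 50022) (l := 6) rfl N50022 D187436
theorem N84716 : nd 84716 = n187437 := ndS (p := 50023) (l := 0) rfl N50023 D187437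
theorem N84717 : nd 84717 = n187438 := ndS (p := 50023) (l := 1) rfl N50023 D187438
theorem N84718 : nd 84718 = n187439 := ndS (p := 50023) (l := 7) rfl N50023 D187439
theorem N84719 : nd 84719 = n187440 := ndS (p := 50026) (l := 1) rfl N50026 D187440
theorem N84720 : nd 84720 = n187441 := ndS (p := 50028) (l := 3) rfl N50028 D187441
theorem N84721 : nd 84721 = n187442 := ndS (p := 50029) (l := 5) rfl N50029 D187442
theorem N84722 : nd 84722 = n187443 := ndS (p := 50032) (l := 6) rfl N50032 D187443
theorem N84723 : nd 84723 = n187444 := ndS (p := 50035) (l := 3) rfl N50035 D187444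
theorem N84724 : nd 84724 = n187445 := ndS (p := 50035) (l := 6) rfl N50035 D187445
theorem N84725 : nd 84725 = n187446 := ndS (p := 50036) (l := 0) rfl N50036 D187446
theorem N84726 : nd 84726 = n187447 := ndS (p := 50038) (l := 3) rfl N50038 D187447
theorem N84727 : nd 84727 = n187448 := ndS (p := 50038) (l := 6) rfl N50038 D187448
theorem N84728 : nd 84728 = n187449 := ndS (p := 50039) (l := 6) rfl N50039 D187449
theorem N84729 : nd 84729 = n187450 := ndS (p := 50041) (l := 4) rfl N50041 D187450
theorem N84730 : nd 84730 = n187451 := ndS (p := 50042) (l := 0) rfl N50042 D187451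
theorem N84731 : nd 84731 = n187452 := ndS (p := 50042) (l := 1) rfl N50042 D187452
theorem N84732 : nd 84732 = n187453 := ndS (p := 50043) (l := 1) rfl N50043 D187453
theorem N84733 : nd 84733 = n187454 := ndS (p := 50044) (l := 3) rfl N50044 D187454
theorem N84734 : nd 84734 = n187455 := ndS (p := 50044) (l := 6) rfl N50044 D187455
theorem N84735 : nd 84735 = n187456 := ndS (p := 50045) (l := 0) rfl N50045 D187456
theorem N84736 : nd 84736 = n187457 := ndS (p := 50045) (l := 1) rfl N50045 D187457
theorem N84737 : nd 84737 = n187458 := ndS (p := 50045) (l := 7) rfl N50045 D187458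
theorem N84738 : nd 84738 = n187459 := ndS (p := 50046) (l := 5) rfl N50046 D187459
theorem N84739 : nd 84739 = n187460 := ndS (p := 50047) (l := 6) rfl N50047 D187460
theorem N84740 : nd 84740 = n187461 := ndS (p := 50048) (l := 3) rfl N50048 D187461
theorem N84741 : nd 84741 = n187462 := ndS (p := 50048) (l := 6) rfl N50048 D187462
theorem N84742 : nd 84742 = n187463 := ndS (p := 50049) (l := 3) rfl N50049 D187463
theorem N84743 : nd 84743 = n187464 := ndS (p := 50049) (l := 6) rfl N50049 D187464
theorem N84744 : nd 84744 = n187465 := ndS (p := 50050) (l := 0) rfl N50050 D187465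
theorem N84745 : nd 84745 = n187466 := ndS (p := 50050) (l := 1) rfl N50050 D187466
theorem N84746 : nd 84746 = n187467 := ndS (p := 50050) (l := 7) rfl N50050 D187467
theorem N84747 : nd 84747 = n187468 := ndS (p := 50051) (l := 4) rfl N50051 D187468
theorem N84748 : nd 84748 = n187469 := ndS (p := 50052) (l := 3) rfl N50052 D187469
theorem N84749 : nd 84749 = n187470 := ndS (p := 50052) (l := 4) rfl N50052 D187470
theorem N84750 : nd 84750 = n187471 := ndS (p := 50053) (l := 4) rfl N50053 D187471
theorem N84751 : nd 84751 = n187472 := ndS (p := 50053) (l := 6) rfl N50053 D187472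
theorem N84752 : nd 84752 = n187473 := ndS (p := 50054) (l := 3) rfl N50054 D187473
theorem N84753 : nd 84753 = n187474 := ndS (p := 50059) (l := 3) rfl N50059 D187474
theorem N84754 : nd 84754 = n187475 := ndS (p := 50060) (l := 2) rfl N50060 D187475
theorem N84755 : nd 84755 = n187476 := ndS (p := 50061) (l := 6) rfl N50061 D187476
theorem N84756 : nd 84756 = n187477 := ndS (p := 50062) (l := 6) rfl N50062 D187477
theorem N84757 : nd 84757 = n187478 := ndS (p := 50063) (l := 3) rfl N50063 D187478
theorem N84758 : nd 84758 = n187479 := ndS (p := 50064) (l := 7) rfl N50064 D187479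
theorem N84759 : nd 84759 = n187480 := ndS (p := 50065) (l := 3) rfl N50065 D187480
theorem N84760 : nd 84760 = n187481 := ndS (p := 50065) (l := 5) rfl N50065 D187481
theorem N84761 : nd 84761 = n187482 := ndS (p := 50066) (l := 3) rfl N50066 D187482
theorem N84762 : nd 84762 = n187483 := ndS (p := 50066) (l := 5) rfl N50066 D187483
theorem N84763 : nd 84763 = n187484 := ndS (p := 50066) (l := 6) rfl N50066 D187484
theorem N84764 : nd 84764 = n187485 := ndS (p := 50068) (l := 4) rfl N50068 D187485
theorem N84765 : nd 84765 = n187486 := ndS (p := 50073) (l := 4) rfl N50073 D187486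
theorem N84766 : nd 84766 = n187487 := ndS (p := 50073) (l := 6) rfl N50073 D187487
theorem N84767 : nd 84767 = n187488 := ndS (p := 50074) (l := 1) rfl N50074 D187488
theorem N84768 : nd 84768 = n187489 := ndS (p := 50075) (l := 3) rfl N50075 D187489
theorem N84769 : nd 84769 = n187490 := ndS (p := 50076) (l := 1) rfl N50076 D187490
theorem N84770 : nd 84770 = n187491 := ndS (p := 50082) (l := 0) rfl N50082 D187491
theorem N84771 : nd 84771 = n187492 := ndS (p := 50083) (l := 3) rfl N50083 D187492
theorem N84772 : nd 84772 = n187493 := ndS (p := 50083) (l := 6) rfl N50083 D187493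
theorem N84773 : nd 84773 = n187494 := ndS (p := 50086) (l := 0) rfl N50086 D187494
theorem N84774 : nd 84774 = n187495 := ndS (p := 50090) (l := 4) rfl N50090 D187495
theorem N84775 : nd 84775 = n187496 := ndS (p := 50093) (l := 0) rfl N50093 D187496
theorem N84776 : nd 84776 = n187497 := ndS (p := 50093) (l := 1) rfl N50093 D187497
theorem N84777 : nd 84777 = n187498 := ndS (p := 50093) (l := 4) rfl N50093 D187498
theorem N84778 : nd 84778 = n187499 := ndS (p := 50093) (l := 7) rfl N50093 D187499
theorem N84779 : nd 84779 = n187500 := ndS (p := 50095) (l := 0) rfl N50095 D187500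
theorem N84780 : nd 84780 = n187501 := ndS (p := 50095) (l := 5) rfl N50095 D187501
theorem N84781 : nd 84781 = n187502 := ndS (p := 50096) (l := 0) rfl N50096 D187502
theorem N84782 : nd 84782 = n187503 := ndS (p := 50096) (l := 5) rfl N50096 D187503
theorem N84783 : nd 84783 = n187504 := ndS (p := 50098) (l := 5) rfl N50098 D187504
theorem N84784 : nd 84784 = n187505 := ndS (p := 50098) (l := 6) rfl N50098 D187505
theorem N84785 : nd 84785 = n187506 := ndS (p := 50099) (l := 5) rfl N50099 D187506
theorem N84786 : nd 84786 = n187507 := ndS (p := 50099) (l := 6) rfl N50099 D187507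
theorem N84787 : nd 84787 = n187508 := ndS (p := 50100) (l := 6) rfl N50100 D187508
theorem N84788 : nd 84788 = n187509 := ndS (p := 50102) (l := 3) rfl N50102 D187509
theorem N84789 : nd 84789 = n187510 := ndS (p := 50102) (l := 6) rfl N50102 D187510
theorem N84790 : nd 84790 = n187511 := ndS (p := 50103) (l := 3) rfl N50103 D187511
theorem N84791 : nd 84791 = n187512 := ndS (p := 50103) (l := 6) rfl N50103 D187512
theorem N84792 : nd 84792 = n187513 := ndS (p := 50104) (l := 0) rfl N50104 D187513
theorem N84793 : nd 84793 = n187514 := ndS (p := 50104) (l := 1) rfl N50104 D187514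
theorem N84794 : nd 84794 = n187515 := ndS (p := 50104) (l := 3) rfl N50104 D187515
theorem N84795 : nd 84795 = n187516 := ndS (p := 50106) (l := 5) rfl N50106 D187516
theorem N84796 : nd 84796 = n187517 := ndS (p := 50107) (l := 4) rfl N50107 D187517
theorem N84797 : nd 84797 = n187518 := ndS (p := 50107) (l := 6) rfl N50107 D187518
theorem N84798 : nd 84798 = n187519 := ndS (p := 50108) (l := 4) rfl N50108 D187519
theorem N84799 : nd 84799 = n187520 := ndS (p := 50108) (l := 6) rfl N50108 D187520
theorem N84800 : nd 84800 = n187521 := ndS (p := 50109) (l := 0) rfl N50109 D187521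
theorem N84801 : nd 84801 = n187522 := ndS (p := 50109) (l := 7) rfl N50109 D187522
theorem N84802 : nd 84802 = n187523 := ndS (p := 50110) (l := 6) rfl N50110 D187523
theorem N84803 : nd 84803 = n187524 := ndS (p := 50111) (l := 1) rfl N50111 D187524
theorem N84804 : nd 84804 = n187525 := ndS (p := 50111) (l := 6) rfl N50111 D187525
theorem N84805 : nd 84805 = n187526 := ndS (p := 50112) (l := 6) rfl N50112 D187526
theorem N84806 : nd 84806 = n187527 := ndS (p := 50113) (l := 0) rfl N50113 D187527
theorem N84807 : nd 84807 = n187528 := ndS (p := 50113) (l := 1) rfl N50113 D187528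
theorem N84808 : nd 84808 = n187529 := ndS (p := 50113) (l := 7) rfl N50113 D187529
theorem N84809 : nd 84809 = n187530 := ndS (p := 50114) (l := 5) rfl N50114 D187530
theorem N84810 : nd 84810 = n187531 := ndS (p := 50115) (l := 5) rfl N50115 D187531
theorem N84811 : nd 84811 = n187532 := ndS (p := 50116) (l := 0) rfl N50116 D187532
theorem N84812 : nd 84812 = n187533 := ndS (p := 50116) (l := 1) rfl N50116 D187533
theorem N84813 : nd 84813 = n187534 := ndS (p := 50116) (l := 4) rfl N50116 D187534
theorem N84814 : nd 84814 = n187535 := ndS (p := 50116) (l := 6) rfl N50116 D187535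
theorem N84815 : nd 84815 = n187536 := ndS (p := 50118) (l := 3) rfl N50118 D187536
theorem N84816 : nd 84816 = n187537 := ndS (p := 50118) (l := 6) rfl N50118 D187537
theorem N84817 : nd 84817 = n187538 := ndS (p := 50119) (l := 0) rfl N50119 D187538
theorem N84818 : nd 84818 = n187539 := ndS (p := 50119) (l := 7) rfl N50119 D187539
theorem N84819 : nd 84819 = n187540 := ndS (p := 50120) (l := 6) rfl N50120 D187540
theorem N84820 : nd 84820 = n187541 := ndS (p := 50122) (l := 0) rfl N50122 D187541
theorem N84821 : nd 84821 = n187542 := ndS (p := 50122) (l := 1) rfl N50122 D187542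
theorem N84822 : nd 84822 = n187543 := ndS (p := 50122) (l := 7) rfl N50122 D187543
theorem N84823 : nd 84823 = n187544 := ndS (p := 50123) (l := 2) rfl N50123 D187544
theorem N84824 : nd 84824 = n187545 := ndS (p := 50123) (l := 4) rfl N50123 D187545
theorem N84825 : nd 84825 = n187546 := ndS (p := 50123) (l := 6) rfl N50123 D187546
theorem N84826 : nd 84826 = n187547 := ndS (p := 50124) (l := 3) rfl N50124 D187547
theorem N84827 : nd 84827 = n187548 := ndS (p := 50124) (l := 6) rfl N50124 D187548
theorem N84828 : nd 84828 = n187549 := ndS (p := 50125) (l := 0) rfl N50125 D187549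
theorem N84829 : nd 84829 = n187550 := ndS (p := 50125) (l := 1) rfl N50125 D187550
theorem N84830 : nd 84830 = n187551 := ndS (p := 50125) (l := 7) rfl N50125 D187551
theorem N84831 : nd 84831 = n187552 := ndS (p := 50126) (l := 3) rfl N50126 D187552
theorem N84832 : nd 84832 = n187553 := ndS (p := 50126) (l := 6) rfl N50126 D187553
theorem N84833 : nd 84833 = n187554 := ndS (p := 50127) (l := 3) rfl N50127 D187554
theorem N84834 : nd 84834 = n187555 := ndS (p := 50127) (l := 6) rfl N50127 D187555
theorem N84835 : nd 84835 = n187556 := ndS (p := 50129) (l := 6) rfl N50129 D187556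
theorem N84836 : nd 84836 = n187557 := ndS (p := 50130) (l := 0) rfl N50130 D187557
theorem N84837 : nd 84837 = n187558 := ndS (p := 50130) (l := 1) rfl N50130 D187558
theorem N84838 : nd 84838 = n187559 := ndS (p := 50131) (l := 6) rfl N50131 D187559
theorem N84839 : nd 84839 = n187560 := ndS (p := 50132) (l := 5) rfl N50132 D187560
theorem N84840 : nd 84840 = n187561 := ndS (p := 50133) (l := 5) rfl N50133 D187561
theorem N84841 : nd 84841 = n187562 := ndS (p := 50135) (l := 3) rfl N50135 D187562
theorem N84842 : nd 84842 = n187563 := ndS (p := 50135) (l := 6) rfl N50135 D187563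
theorem N84843 : nd 84843 = n187564 := ndS (p := 50136) (l := 0) rfl N50136 D187564
theorem N84844 : nd 84844 = n187565 := ndS (p := 50136) (l := 1) rfl N50136 D187565
theorem N84845 : nd 84845 = n187566 := ndS (p := 50136) (l := 7) rfl N50136 D187566
theorem N84846 : nd 84846 = n187567 := ndS (p := 50137) (l := 0) rfl N50137 D187567
theorem N84847 : nd 84847 = n187568 := ndS (p := 50137) (l := 1) rfl N50137 D187568
theorem N84848 : nd 84848 = n187569 := ndS (p := 50137) (l := 4) rfl N50137 D187569
theorem N84849 : nd 84849 = n187570 := ndS (p := 50138) (l := 3) rfl N50138 D187570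
theorem N84850 : nd 84850 = n187571 := ndS (p := 50138) (l := 6) rfl N50138 D187571
theorem N84851 : nd 84851 = n187572 := ndS (p := 50139) (l := 0) rfl N50139 D187572
theorem N84852 : nd 84852 = n187573 := ndS (p := 50141) (l := 0) rfl N50141 D187573
theorem N84853 : nd 84853 = n187574 := ndS (p := 50141) (l := 1) rfl N50141 D187574
theorem N84854 : nd 84854 = n187575 := ndS (p := 50141) (l := 4) rfl N50141 D187575
theorem N84855 : nd 84855 = n187576 := ndS (p := 50141) (l := 6) rfl N50141 D187576
theorem N84856 : nd 84856 = n187577 := ndS (p := 50142) (l := 3) rfl N50142 D187577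
theorem N84857 : nd 84857 = n187578 := ndS (p := 50142) (l := 6) rfl N50142 D187578
theorem N84858 : nd 84858 = n187579 := ndS (p := 50143) (l := 0) rfl N50143 D187579
theorem N84859 : nd 84859 = n187580 := ndS (p := 50143) (l := 1) rfl N50143 D187580
theorem N84860 : nd 84860 = n187581 := ndS (p := 50143) (l := 7) rfl N50143 D187581
theorem N84861 : nd 84861 = n187582 := ndS (p := 50144) (l := 3) rfl N50144 D187582
theorem N84862 : nd 84862 = n187583 := ndS (p := 50146) (l := 5) rfl N50146 D187583
theorem N84863 : nd 84863 = n187584 := ndS (p := 50147) (l := 0) rfl N50147 D187584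
theorem N84864 : nd 84864 = n187585 := ndS (p := 50147) (l := 1) rfl N50147 D187585
theorem N84865 : nd 84865 = n187586 := ndS (p := 50147) (l := 4) rfl N50147 D187586
theorem N84866 : nd 84866 = n187587 := ndS (p := 50147) (l := 6) rfl N50147 D187587
theorem N84867 : nd 84867 = n187588 := ndS (p := 50148) (l := 0) rfl N50148 D187588
theorem N84868 : nd 84868 = n187589 := ndS (p := 50148) (l := 1) rfl N50148 D187589
theorem N84869 : nd 84869 = n187590 := ndS (p := 50148) (l := 7) rfl N50148 D187590
theorem N84870 : nd 84870 = n187591 := ndS (p := 50149) (l := 4) rfl N50149 D187591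
theorem N84871 : nd 84871 = n187592 := ndS (p := 50150) (l := 3) rfl N50150 D187592
theorem N84872 : nd 84872 = n187593 := ndS (p := 50151) (l := 5) rfl N50151 D187593
theorem N84873 : nd 84873 = n187594 := ndS (p := 50151) (l := 6) rfl N50151 D187594
theorem N84874 : nd 84874 = n187595 := ndS (p := 50152) (l := 4) rfl N50152 D187595
theorem N84875 : nd 84875 = n187596 := ndS (p := 50152) (l := 6) rfl N50152 D187596
theorem N84876 : nd 84876 = n187597 := ndS (p := 50153) (l := 0) rfl N50153 D187597
theorem N84877 : nd 84877 = n187598 := ndS (p := 50154) (l := 1) rfl N50154 D187598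
theorem N84878 : nd 84878 = n187599 := ndS (p := 50154) (l := 7) rfl N50154 D187599
theorem N84879 : nd 84879 = n187600 := ndS (p := 50155) (l := 1) rfl N50155 D187600
theorem N84880 : nd 84880 = n187601 := ndS (p := 50155) (l := 5) rfl N50155 D187601
theorem N84881 : nd 84881 = n187602 := ndS (p := 50156) (l := 0) rfl N50156 D187602
theorem N84882 : nd 84882 = n187603 := ndS (p := 50156) (l := 5) rfl N50156 D187603
theorem N84883 : nd 84883 = n187604 := ndS (p := 50157) (l := 4) rfl N50157 D187604
theorem N84884 : nd 84884 = n187605 := ndS (p := 50157) (l := 6) rfl N50157 D187605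
theorem N84885 : nd 84885 = n187606 := ndS (p := 50158) (l := 0) rfl N50158 D187606
theorem N84886 : nd 84886 = n187607 := ndS (p := 50158) (l := 2) rfl N50158 D187607
theorem N84887 : nd 84887 = n187608 := ndS (p := 50158) (l := 5) rfl N50158 D187608
theorem N84888 : nd 84888 = n187609 := ndS (p := 50159) (l := 5) rfl N50159 D187609
theorem N84889 : nd 84889 = n187610 := ndS (p := 50159) (l := 6) rfl N50159 D187610
theorem N84890 : nd 84890 = n187611 := ndS (p := 50160) (l := 4) rfl N50160 D187611
theorem N84891 : nd 84891 = n187612 := ndS (p := 50160) (l := 6) rfl N50160 D187612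
theorem N84892 : nd 84892 = n187613 := ndS (p := 50162) (l := 4) rfl N50162 D187613
theorem N84893 : nd 84893 = n187614 := ndS (p := 50162) (l := 6) rfl N50162 D187614
theorem N84894 : nd 84894 = n187615 := ndS (p := 50163) (l := 3) rfl N50163 D187615
theorem N84895 : nd 84895 = n187616 := ndS (p := 50163) (l := 4) rfl N50163 D187616
theorem N84896 : nd 84896 = n187617 := ndS (p := 50163) (l := 6) rfl N50163 D187617
theorem N84897 : nd 84897 = n187618 := ndS (p := 50164) (l := 0) rfl N50164 D187618
theorem N84898 : nd 84898 = n187619 := ndS (p := 50164) (l := 1) rfl N50164 D187619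
theorem N84899 : nd 84899 = n187620 := ndS (p := 50164) (l := 5) rfl N50164 D187620
theorem N84900 : nd 84900 = n187621 := ndS (p := 50164) (l := 6) rfl N50164 D187621
theorem N84901 : nd 84901 = n187622 := ndS (p := 50165) (l := 0) rfl N50165 D187622
theorem N84902 : nd 84902 = n187623 := ndS (p := 50165) (l := 1) rfl N50165 D187623
theorem N84903 : nd 84903 = n187624 := ndS (p := 50165) (l := 7) rfl N50165 D187624
theorem N84904 : nd 84904 = n187626 := ndS (p := 50166) (l := 3) rfl N50166 D187626
theorem N84905 : nd 84905 = n187628 := ndS (p := 50166) (l := 5) rfl N50166 D187628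
theorem N84906 : nd 84906 = n187629 := ndS (p := 50166) (l := 6) rfl N50166 D187629
theorem N84907 : nd 84907 = n187630 := ndS (p := 50167) (l := 3) rfl N50167 D187630
theorem N84908 : nd 84908 = n187632 := ndS (p := 50167) (l := 5) rfl N50167 D187632
theorem N84909 : nd 84909 = n187633 := ndS (p := 50167) (l := 6) rfl N50167 D187633
theorem N84910 : nd 84910 = n187634 := ndS (p := 50169) (l := 6) rfl N50169 D187634
theorem N84911 : nd 84911 = n187635 := ndS (p := 50171) (l := 3) rfl N50171 D187635
theorem N84912 : nd 84912 = n187636 := ndS (p := 50171) (l := 5) rfl N50171 D187636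
theorem N84913 : nd 84913 = n187637 := ndS (p := 50173) (l := 0) rfl N50173 D187637
theorem N84914 : nd 84914 = n187638 := ndS (p := 50173) (l := 4) rfl N50173 D187638
theorem N84915 : nd 84915 = n187639 := ndS (p := 50174) (l := 5) rfl N50174 D187639
theorem N84916 : nd 84916 = n187640 := ndS (p := 50175) (l := 4) rfl N50175 D187640
theorem N84917 : nd 84917 = n187641 := ndS (p := 50176) (l := 4) rfl N50176 D187641
theorem N84918 : nd 84918 = n187642 := ndS (p := 50176) (l := 5) rfl N50176 D187642
theorem N84919 : nd 84919 = n187643 := ndS (p := 50176) (l := 6) rfl N50176 D187643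
theorem N84920 : nd 84920 = n187644 := ndS (p := 50177) (l := 3) rfl N50177 D187644
theorem N84921 : nd 84921 = n187645 := ndS (p := 50177) (l := 4) rfl N50177 D187645
theorem N84922 : nd 84922 = n187646 := ndS (p := 50177) (l := 5) rfl N50177 D187646
theorem N84923 : nd 84923 = n187647 := ndS (p := 50177) (l := 6) rfl N50177 D187647
theorem N84924 : nd 84924 = n187648 := ndS (p := 50178) (l := 0) rfl N50178 D187648
theorem N84925 : nd 84925 = n187649 := ndS (p := 50178) (l := 1) rfl N50178 D187649
theorem N84926 : nd 84926 = n187650 := ndS (p := 50178) (l := 3) rfl N50178 D187650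
theorem N84927 : nd 84927 = n187651 := ndS (p := 50178) (l := 5) rfl N50178 D187651
theorem N84928 : nd 84928 = n187652 := ndS (p := 50178) (l := 7) rfl N50178 D187652
theorem N84929 : nd 84929 = n187653 := ndS (p := 50180) (l := 4) rfl N50180 D187653
theorem N84930 : nd 84930 = n187654 := ndS (p := 50181) (l := 6) rfl N50181 D187654
theorem N84931 : nd 84931 = n187655 := ndS (p := 50182) (l := 6) rfl N50182 D187655
theorem N84932 : nd 84932 = n187656 := ndS (p := 50183) (l := 6) rfl N50183 D187656
theorem N84933 : nd 84933 = n187657 := ndS (p := 50184) (l := 5) rfl N50184 D187657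
theorem N84934 : nd 84934 = n187658 := ndS (p := 50185) (l := 5) rfl N50185 D187658
theorem N84935 : nd 84935 = n187659 := ndS (p := 50185) (l := 6) rfl N50185 D187659
theorem N84936 : nd 84936 = n187660 := ndS (p := 50186) (l := 0) rfl N50186 D187660
theorem N84937 : nd 84937 = n187661 := ndS (p := 50186) (l := 1) rfl N50186 D187661
theorem N84938 : nd 84938 = n187662 := ndS (p := 50186) (l := 4) rfl N50186 D187662
theorem N84939 : nd 84939 = n187663 := ndS (p := 50186) (l := 6) rfl N50186 D187663
theorem N84940 : nd 84940 = n187664 := ndS (p := 50187) (l := 0) rfl N50187 D187664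
theorem N84941 : nd 84941 = n187665 := ndS (p := 50187) (l := 1) rfl N50187 D187665
theorem N84942 : nd 84942 = n187666 := ndS (p := 50190) (l := 1) rfl N50190 D187666
theorem N84943 : nd 84943 = n187667 := ndS (p := 50190) (l := 4) rfl N50190 D187667
theorem N84944 : nd 84944 = n187668 := ndS (p := 50191) (l := 3) rfl N50191 D187668
theorem N84945 : nd 84945 = n187669 := ndS (p := 50191) (l := 6) rfl N50191 D187669
theorem N84946 : nd 84946 = n187670 := ndS (p := 50192) (l := 0) rfl N50192 D187670
theorem N84947 : nd 84947 = n187671 := ndS (p := 50192) (l := 7) rfl N50192 D187671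
theorem N84948 : nd 84948 = n187673 := ndS (p := 50193) (l := 2) rfl N50193 D187673
theorem N84949 : nd 84949 = n187674 := ndS (p := 50193) (l := 4) rfl N50193 D187674
theorem N84950 : nd 84950 = n187675 := ndS (p := 50193) (l := 6) rfl N50193 D187675
theorem N84951 : nd 84951 = n187676 := ndS (p := 50194) (l := 3) rfl N50194 D187676
theorem N84952 : nd 84952 = n187677 := ndS (p := 50194) (l := 6) rfl N50194 D187677
theorem N84953 : nd 84953 = n187678 := ndS (p := 50195) (l := 1) rfl N50195 D187678
theorem N84954 : nd 84954 = n187679 := ndS (p := 50195) (l := 7) rfl N50195 D187679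
theorem N84955 : nd 84955 = n187680 := ndS (p := 50196) (l := 4) rfl N50196 D187680
theorem N84956 : nd 84956 = n187681 := ndS (p := 50196) (l := 6) rfl N50196 D187681
theorem N84957 : nd 84957 = n187682 := ndS (p := 50197) (l := 3) rfl N50197 D187682
theorem N84958 : nd 84958 = n187683 := ndS (p := 50197) (l := 6) rfl N50197 D187683
theorem N84959 : nd 84959 = n187684 := ndS (p := 50198) (l := 0) rfl N50198 D187684
theorem N84960 : nd 84960 = n187685 := ndS (p := 50198) (l := 1) rfl N50198 D187685
theorem N84961 : nd 84961 = n187686 := ndS (p := 50199) (l := 3) rfl N50199 D187686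
theorem N84962 : nd 84962 = n187687 := ndS (p := 50200) (l := 5) rfl N50200 D187687
theorem N84963 : nd 84963 = n187688 := ndS (p := 50200) (l := 6) rfl N50200 D187688
theorem N84964 : nd 84964 = n187689 := ndS (p := 50201) (l := 0) rfl N50201 D187689
theorem N84965 : nd 84965 = n187690 := ndS (p := 50201) (l := 1) rfl N50201 D187690
theorem N84966 : nd 84966 = n187691 := ndS (p := 50201) (l := 2) rfl N50201 D187691
theorem N84967 : nd 84967 = n187692 := ndS (p := 50201) (l := 7) rfl N50201 D187692
theorem N84968 : nd 84968 = n187693 := ndS (p := 50202) (l := 6) rfl N50202 D187693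
theorem N84969 : nd 84969 = n187694 := ndS (p := 50204) (l := 4) rfl N50204 D187694
theorem N84970 : nd 84970 = n187695 := ndS (p := 50206) (l := 0) rfl N50206 D187695
theorem N84971 : nd 84971 = n187696 := ndS (p := 50206) (l := 1) rfl N50206 D187696
theorem N84972 : nd 84972 = n187697 := ndS (p := 50206) (l := 7) rfl N50206 D187697
theorem N84973 : nd 84973 = n187698 := ndS (p := 50207) (l := 5) rfl N50207 D187698
theorem N84974 : nd 84974 = n187699 := ndS (p := 50208) (l := 6) rfl N50208 D187699
theorem N84975 : nd 84975 = n187700 := ndS (p := 50209) (l := 1) rfl N50209 D187700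
theorem N84976 : nd 84976 = n187701 := ndS (p := 50209) (l := 2) rfl N50209 D187701
theorem N84977 : nd 84977 = n187702 := ndS (p := 50209) (l := 5) rfl N50209 D187702
theorem N84978 : nd 84978 = n187703 := ndS (p := 50211) (l := 5) rfl N50211 D187703
theorem N84979 : nd 84979 = n187704 := ndS (p := 50213) (l := 4) rfl N50213 D187704
theorem N84980 : nd 84980 = n187705 := ndS (p := 50214) (l := 0) rfl N50214 D187705
theorem N84981 : nd 84981 = n187706 := ndS (p := 50214) (l := 1) rfl N50214 D187706
theorem N84982 : nd 84982 = n187707 := ndS (p := 50214) (l := 7) rfl N50214 D187707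
theorem N84983 : nd 84983 = n187708 := ndS (p := 50215) (l := 5) rfl N50215 D187708
theorem N84984 : nd 84984 = n187709 := ndS (p := 50216) (l := 5) rfl N50216 D187709
theorem N84985 : nd 84985 = n187710 := ndS (p := 50217) (l := 5) rfl N50217 D187710
theorem N84986 : nd 84986 = n187711 := ndS (p := 50218) (l := 5) rfl N50218 D187711
theorem N84987 : nd 84987 = n187712 := ndS (p := 50219) (l := 5) rfl N50219 D187712
theorem N84988 : nd 84988 = n187713 := ndS (p := 50219) (l := 6) rfl N50219 D187713
theorem N84989 : nd 84989 = n187714 := ndS (p := 50220) (l := 0) rfl N50220 D187714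
theorem N84990 : nd 84990 = n187715 := ndS (p := 50220) (l := 4) rfl N50220 D187715
theorem N84991 : nd 84991 = n187716 := ndS (p := 50221) (l := 0) rfl N50221 D187716
theorem N84992 : nd 84992 = n187717 := ndS (p := 50221) (l := 4) rfl N50221 D187717
theorem N84993 : nd 84993 = n187718 := ndS (p := 50222) (l := 4) rfl N50222 D187718
theorem N84994 : nd 84994 = n187719 := ndS (p := 50222) (l := 6) rfl N50222 D187719
theorem N84995 : nd 84995 = n187720 := ndS (p := 50224) (l := 4) rfl N50224 D187720
theorem N84996 : nd 84996 = n187721 := ndS (p := 50224) (l := 6) rfl N50224 D187721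
theorem N84997 : nd 84997 = n187722 := ndS (p := 50225) (l := 0) rfl N50225 D187722
theorem N84998 : nd 84998 = n187723 := ndS (p := 50225) (l := 1) rfl N50225 D187723
theorem N84999 : nd 84999 = n187724 := ndS (p := 50225) (l := 3) rfl N50225 D187724
theorem N85000 : nd 85000 = n187725 := ndS (p := 50225) (l := 5) rfl N50225 D187725
theorem N85001 : nd 85001 = n187726 := ndS (p := 50227) (l := 4) rfl N50227 D187726
theorem N85002 : nd 85002 = n187727 := ndS (p := 50227) (l := 6) rfl N50227 D187727
theorem N85003 : nd 85003 = n187728 := ndS (p := 50232) (l := 1) rfl N50232 D187728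
theorem N85004 : nd 85004 = n187729 := ndS (p := 50232) (l := 7) rfl N50232 D187729
theorem N85005 : nd 85005 = n187730 := ndS (p := 50233) (l := 2) rfl N50233 D187730
theorem N85006 : nd 85006 = n187731 := ndS (p := 50233) (l := 4) rfl N50233 D187731
theorem N85007 : nd 85007 = n187732 := ndS (p := 50233) (l := 6) rfl N50233 D187732
theorem N85008 : nd 85008 = n187733 := ndS (p := 50235) (l := 0) rfl N50235 D187733
theorem N85009 : nd 85009 = n187734 := ndS (p := 50235) (l := 7) rfl N50235 D187734
theorem N85010 : nd 85010 = n187735 := ndS (p := 50241) (l := 5) rfl N50241 D187735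
theorem N85011 : nd 85011 = n187736 := ndS (p := 50242) (l := 4) rfl N50242 D187736
theorem N85012 : nd 85012 = n187737 := ndS (p := 50243) (l := 5) rfl N50243 D187737
theorem N85013 : nd 85013 = n187738 := ndS (p := 50244) (l := 5) rfl N50244 D187738
theorem N85014 : nd 85014 = n187739 := ndS (p := 50246) (l := 4) rfl N50246 D187739
theorem N85015 : nd 85015 = n187740 := ndS (p := 50248) (l := 0) rfl N50248 D187740
theorem N85016 : nd 85016 = n187741 := ndS (p := 50250) (l := 5) rfl N50250 D187741
theorem N85017 : nd 85017 = n187743 := ndS (p := 50251) (l := 6) rfl N50251 D187743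
theorem N85018 : nd 85018 = n187744 := ndS (p := 50252) (l := 4) rfl N50252 D187744
theorem N85019 : nd 85019 = n187745 := ndS (p := 50252) (l := 5) rfl N50252 D187745
theorem N85020 : nd 85020 = n187746 := ndS (p := 50252) (l := 6) rfl N50252 D187746
theorem N85021 : nd 85021 = n187747 := ndS (p := 50253) (l := 3) rfl N50253 D187747
theorem N85022 : nd 85022 = n187748 := ndS (p := 50253) (l := 4) rfl N50253 D187748
theorem N85023 : nd 85023 = n187749 := ndS (p := 50253) (l := 6) rfl N50253 D187749
theorem N85024 : nd 85024 = n187750 := ndS (p := 50254) (l := 0) rfl N50254 D187750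
theorem N85025 : nd 85025 = n187751 := ndS (p := 50254) (l := 1) rfl N50254 D187751
theorem N85026 : nd 85026 = n187752 := ndS (p := 50254) (l := 3) rfl N50254 D187752
theorem N85027 : nd 85027 = n187753 := ndS (p := 50254) (l := 5) rfl N50254 D187753
theorem N85028 : nd 85028 = n187754 := ndS (p := 50254) (l := 7) rfl N50254 D187754
theorem N85029 : nd 85029 = n187755 := ndS (p := 50256) (l := 5) rfl N50256 D187755
theorem N85030 : nd 85030 = n187756 := ndS (p := 50258) (l := 6) rfl N50258 D187756
theorem N85031 : nd 85031 = n187757 := ndS (p := 50259) (l := 3) rfl N50259 D187757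
theorem N85032 : nd 85032 = n187758 := ndS (p := 50259) (l := 6) rfl N50259 D187758
theorem N85033 : nd 85033 = n187759 := ndS (p := 50260) (l := 3) rfl N50260 D187759
theorem N85034 : nd 85034 = n187760 := ndS (p := 50261) (l := 4) rfl N50261 D187760
theorem N85035 : nd 85035 = n187761 := ndS (p := 50261) (l := 6) rfl N50261 D187761
theorem N85036 : nd 85036 = n187763 := ndS (p := 50262) (l := 1) rfl N50262 D187763
theorem N85037 : nd 85037 = n187764 := ndS (p := 50262) (l := 7) rfl N50262 D187764
theorem N85038 : nd 85038 = n187765 := ndS (p := 50263) (l := 0) rfl N50263 D187765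
theorem N85039 : nd 85039 = n187766 := ndS (p := 50263) (l := 7) rfl N50263 D187766
theorem N85040 : nd 85040 = n187767 := ndS (p := 50264) (l := 3) rfl N50264 D187767
theorem N85041 : nd 85041 = n187768 := ndS (p := 50265) (l := 3) rfl N50265 D187768
theorem N85042 : nd 85042 = n187769 := ndS (p := 50265) (l := 6) rfl N50265 D187769
theorem N85043 : nd 85043 = n187770 := ndS (p := 50266) (l := 0) rfl N50266 D187770
theorem N85044 : nd 85044 = n187771 := ndS (p := 50266) (l := 1) rfl N50266 D187771
theorem N85045 : nd 85045 = n187772 := ndS (p := 50266) (l := 2) rfl N50266 D187772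
theorem N85046 : nd 85046 = n187773 := ndS (p := 50266) (l := 7) rfl N50266 D187773
theorem N85047 : nd 85047 = n187774 := ndS (p := 50267) (l := 6) rfl N50267 D187774
theorem N85048 : nd 85048 = n187775 := ndS (p := 50268) (l := 0) rfl N50268 D187775
theorem N85049 : nd 85049 = n187776 := ndS (p := 50269) (l := 4) rfl N50269 D187776
theorem N85050 : nd 85050 = n187777 := ndS (p := 50271) (l := 4) rfl N50271 D187777
theorem N85051 : nd 85051 = n187778 := ndS (p := 50272) (l := 4) rfl N50272 D187778
theorem N85052 : nd 85052 = n187779 := ndS (p := 50274) (l := 3) rfl N50274 D187779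
theorem N85053 : nd 85053 = n187780 := ndS (p := 50274) (l := 6) rfl N50274 D187780
theorem N85054 : nd 85054 = n187781 := ndS (p := 50275) (l := 6) rfl N50275 D187781
theorem N85055 : nd 85055 = n187782 := ndS (p := 50276) (l := 0) rfl N50276 D187782
theorem N85056 : nd 85056 = n187783 := ndS (p := 50276) (l := 1) rfl N50276 D187783
theorem N85057 : nd 85057 = n187784 := ndS (p := 50276) (l := 3) rfl N50276 D187784
theorem N85058 : nd 85058 = n187785 := ndS (p := 50276) (l := 5) rfl N50276 D187785
theorem N85059 : nd 85059 = n187786 := ndS (p := 50277) (l := 6) rfl N50277 D187786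
theorem N85060 : nd 85060 = n187787 := ndS (p := 50278) (l := 5) rfl N50278 D187787
theorem N85061 : nd 85061 = n187788 := ndS (p := 50280) (l := 6) rfl N50280 D187788
theorem N85062 : nd 85062 = n187789 := ndS (p := 50281) (l := 3) rfl N50281 D187789
theorem N85063 : nd 85063 = n187790 := ndS (p := 50282) (l := 1) rfl N50282 D187790
theorem N85064 : nd 85064 = n187791 := ndS (p := 50282) (l := 7) rfl N50282 D187791
theorem N85065 : nd 85065 = n187792 := ndS (p := 50283) (l := 4) rfl N50283 D187792
theorem N85066 : nd 85066 = n187793 := ndS (p := 50283) (l := 6) rfl N50283 D187793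
theorem N85067 : nd 85067 = n187794 := ndS (p := 50284) (l := 0) rfl N50284 D187794
theorem N85068 : nd 85068 = n187795 := ndS (p := 50284) (l := 1) rfl N50284 D187795
theorem N85069 : nd 85069 = n187796 := ndS (p := 50284) (l := 7) rfl N50284 D187796
theorem N85070 : nd 85070 = n187797 := ndS (p := 50287) (l := 0) rfl N50287 D187797
theorem N85071 : nd 85071 = n187798 := ndS (p := 50287) (l := 1) rfl N50287 D187798
theorem N85072 : nd 85072 = n187799 := ndS (p := 50287) (l := 2) rfl N50287 D187799
theorem N85073 : nd 85073 = n187800 := ndS (p := 50290) (l := 5) rfl N50290 D187800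
theorem N85074 : nd 85074 = n187801 := ndS (p := 50291) (l := 5) rfl N50291 D187801
theorem N85075 : nd 85075 = n187802 := ndS (p := 50292) (l := 4) rfl N50292 D187802
theorem N85076 : nd 85076 = n187803 := ndS (p := 50292) (l := 7) rfl N50292 D187803
theorem N85077 : nd 85077 = n187804 := ndS (p := 50294) (l := 4) rfl N50294 D187804
theorem N85078 : nd 85078 = n187805 := ndS (p := 50294) (l := 6) rfl N50294 D187805
theorem N85079 : nd 85079 = n187806 := ndS (p := 50295) (l := 4) rfl N50295 D187806
theorem N85080 : nd 85080 = n187807 := ndS (p := 50295) (l := 6) rfl N50295 D187807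
theorem N85081 : nd 85081 = n187808 := ndS (p := 50296) (l := 3) rfl N50296 D187808
theorem N85082 : nd 85082 = n187809 := ndS (p := 50297) (l := 6) rfl N50297 D187809
theorem N85083 : nd 85083 = n187810 := ndS (p := 50298) (l := 4) rfl N50298 D187810
theorem N85084 : nd 85084 = n187811 := ndS (p := 50298) (l := 6) rfl N50298 D187811
theorem N85085 : nd 85085 = n187812 := ndS (p := 50300) (l := 4) rfl N50300 D187812
theorem N85086 : nd 85086 = n187813 := ndS (p := 50300) (l := 6) rfl N50300 D187813
theorem N85087 : nd 85087 = n187814 := ndS (p := 50301) (l := 0) rfl N50301 D187814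
theorem N85088 : nd 85088 = n187815 := ndS (p := 50301) (l := 1) rfl N50301 D187815
theorem N85089 : nd 85089 = n187816 := ndS (p := 50301) (l := 3) rfl N50301 D187816
theorem N85090 : nd 85090 = n187817 := ndS (p := 50301) (l := 5) rfl N50301 D187817
theorem N85091 : nd 85091 = n187818 := ndS (p := 50301) (l := 6) rfl N50301 D187818
theorem N85092 : nd 85092 = n187819 := ndS (p := 50302) (l := 0) rfl N50302 D187819
theorem N85093 : nd 85093 = n187820 := ndS (p := 50302) (l := 1) rfl N50302 D187820
theorem N85094 : nd 85094 = n187821 := ndS (p := 50302) (l := 5) rfl N50302 D187821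
theorem N85095 : nd 85095 = n187822 := ndS (p := 50302) (l := 7) rfl N50302 D187822
theorem N85096 : nd 85096 = n187823 := ndS (p := 50303) (l := 4) rfl N50303 D187823
theorem N85097 : nd 85097 = n187824 := ndS (p := 50304) (l := 4) rfl N50304 D187824
theorem N85098 : nd 85098 = n187825 := ndS (p := 50304) (l := 6) rfl N50304 D187825
theorem N85099 : nd 85099 = n187826 := ndS (p := 50305) (l := 3) rfl N50305 D187826
theorem N85100 : nd 85100 = n187828 := ndS (p := 50305) (l := 6) rfl N50305 D187828
theorem N85101 : nd 85101 = n187829 := ndS (p := 50306) (l := 0) rfl N50306 D187829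
theorem N85102 : nd 85102 = n187830 := ndS (p := 50306) (l := 7) rfl N50306 D187830
theorem N85103 : nd 85103 = n187831 := ndS (p := 50307) (l := 1) rfl N50307 D187831
theorem N85104 : nd 85104 = n187832 := ndS (p := 50307) (l := 3) rfl N50307 D187832
theorem N85105 : nd 85105 = n187833 := ndS (p := 50307) (l := 5) rfl N50307 D187833
theorem N85106 : nd 85106 = n187834 := ndS (p := 50307) (l := 6) rfl N50307 D187834
theorem N85107 : nd 85107 = n187835 := ndS (p := 50308) (l := 0) rfl N50308 D187835
theorem N85108 : nd 85108 = n187836 := ndS (p := 50308) (l := 1) rfl N50308 D187836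
theorem N85109 : nd 85109 = n187837 := ndS (p := 50308) (l := 7) rfl N50308 D187837
theorem N85110 : nd 85110 = n187838 := ndS (p := 50309) (l := 3) rfl N50309 D187838
theorem N85111 : nd 85111 = n187839 := ndS (p := 50309) (l := 5) rfl N50309 D187839
theorem N85112 : nd 85112 = n187840 := ndS (p := 50309) (l := 6) rfl N50309 D187840
theorem N85113 : nd 85113 = n187841 := ndS (p := 50310) (l := 0) rfl N50310 D187841
theorem N85114 : nd 85114 = n187842 := ndS (p := 50310) (l := 1) rfl N50310 D187842
theorem N85115 : nd 85115 = n187843 := ndS (p := 50310) (l := 7) rfl N50310 D187843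
theorem N85116 : nd 85116 = n187844 := ndS (p := 50311) (l := 3) rfl N50311 D187844
theorem N85117 : nd 85117 = n187845 := ndS (p := 50311) (l := 5) rfl N50311 D187845
theorem N85118 : nd 85118 = n187846 := ndS (p := 50311) (l := 6) rfl N50311 D187846
theorem N85119 : nd 85119 = n187847 := ndS (p := 50312) (l := 5) rfl N50312 D187847
theorem N85120 : nd 85120 = n187848 := ndS (p := 50312) (l := 6) rfl N50312 D187848
theorem N85121 : nd 85121 = n187849 := ndS (p := 50313) (l := 6) rfl N50313 D187849
theorem N85122 : nd 85122 = n187850 := ndS (p := 50315) (l := 5) rfl N50315 D187850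
theorem N85123 : nd 85123 = n187851 := ndS (p := 50316) (l := 4) rfl N50316 D187851
theorem N85124 : nd 85124 = n187852 := ndS (p := 50316) (l := 6) rfl N50316 D187852
theorem N85125 : nd 85125 = n187853 := ndS (p := 50317) (l := 4) rfl N50317 D187853
theorem N85126 : nd 85126 = n187854 := ndS (p := 50317) (l := 6) rfl N50317 D187854
theorem N85127 : nd 85127 = n187855 := ndS (p := 50319) (l := 1) rfl N50319 D187855
theorem N85128 : nd 85128 = n187856 := ndS (p := 50319) (l := 4) rfl N50319 D187856
theorem N85129 : nd 85129 = n187857 := ndS (p := 50319) (l := 6) rfl N50319 D187857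
theorem N85130 : nd 85130 = n187858 := ndS (p := 50320) (l := 4) rfl N50320 D187858
theorem N85131 : nd 85131 = n187859 := ndS (p := 50320) (l := 6) rfl N50320 D187859
theorem N85132 : nd 85132 = n187860 := ndS (p := 50321) (l := 4) rfl N50321 D187860
theorem N85133 : nd 85133 = n187861 := ndS (p := 50321) (l := 6) rfl N50321 D187861
theorem N85134 : nd 85134 = n187862 := ndS (p := 50322) (l := 0) rfl N50322 D187862
theorem N85135 : nd 85135 = n187863 := ndS (p := 50322) (l := 1) rfl N50322 D187863
theorem N85136 : nd 85136 = n187864 := ndS (p := 50322) (l := 3) rfl N50322 D187864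
theorem N85137 : nd 85137 = n187865 := ndS (p := 50322) (l := 5) rfl N50322 D187865
theorem N85138 : nd 85138 = n187866 := ndS (p := 50322) (l := 6) rfl N50322 D187866
theorem N85139 : nd 85139 = n187867 := ndS (p := 50323) (l := 0) rfl N50323 D187867
theorem N85140 : nd 85140 = n187868 := ndS (p := 50323) (l := 1) rfl N50323 D187868
theorem N85141 : nd 85141 = n187869 := ndS (p := 50323) (l := 5) rfl N50323 D187869
theorem N85142 : nd 85142 = n187870 := ndS (p := 50323) (l := 7) rfl N50323 D187870
theorem N85143 : nd 85143 = n187871 := ndS (p := 50324) (l := 4) rfl N50324 D187871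
theorem N85144 : nd 85144 = n187872 := ndS (p := 50326) (l := 4) rfl N50326 D187872
theorem N85145 : nd 85145 = n187873 := ndS (p := 50327) (l := 4) rfl N50327 D187873
theorem N85146 : nd 85146 = n187874 := ndS (p := 50327) (l := 6) rfl N50327 D187874
theorem N85147 : nd 85147 = n187875 := ndS (p := 50329) (l := 0) rfl N50329 D187875
theorem N85148 : nd 85148 = n187876 := ndS (p := 50329) (l := 1) rfl N50329 D187876
theorem N85149 : nd 85149 = n187877 := ndS (p := 50330) (l := 3) rfl N50330 D187877
theorem N85150 : nd 85150 = n187878 := ndS (p := 50330) (l := 6) rfl N50330 D187878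
theorem N85151 : nd 85151 = n187880 := ndS (p := 50332) (l := 6) rfl N50332 D187880
theorem N85152 : nd 85152 = n187881 := ndS (p := 50333) (l := 6) rfl N50333 D187881
theorem N85153 : nd 85153 = n187882 := ndS (p := 50334) (l := 0) rfl N50334 D187882
theorem N85154 : nd 85154 = n187883 := ndS (p := 50334) (l := 1) rfl N50334 D187883
theorem N85155 : nd 85155 = n187884 := ndS (p := 50334) (l := 2) rfl N50334 D187884
theorem N85156 : nd 85156 = n187885 := ndS (p := 50334) (l := 5) rfl N50334 D187885
theorem N85157 : nd 85157 = n187886 := ndS (p := 50334) (l := 6) rfl N50334 D187886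
theorem N85158 : nd 85158 = n187887 := ndS (p := 50335) (l := 6) rfl N50335 D187887
theorem N85159 : nd 85159 = n187888 := ndS (p := 50336) (l := 0) rfl N50336 D187888
theorem N85160 : nd 85160 = n187889 := ndS (p := 50336) (l := 1) rfl N50336 D187889
theorem N85161 : nd 85161 = n187890 := ndS (p := 50336) (l := 5) rfl N50336 D187890
theorem N85162 : nd 85162 = n187891 := ndS (p := 50336) (l := 7) rfl N50336 D187891
theorem N85163 : nd 85163 = n187893 := ndS (p := 50337) (l := 3) rfl N50337 D187893
theorem N85164 : nd 85164 = n187894 := ndS (p := 50337) (l := 4) rfl N50337 D187894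
theorem N85165 : nd 85165 = n187895 := ndS (p := 50337) (l := 5) rfl N50337 D187895
theorem N85166 : nd 85166 = n187898 := ndS (p := 50338) (l := 4) rfl N50338 D187898
theorem N85167 : nd 85167 = n187899 := ndS (p := 50338) (l := 5) rfl N50338 D187899
theorem N85168 : nd 85168 = n187900 := ndS (p := 50338) (l := 6) rfl N50338 D187900
theorem N85169 : nd 85169 = n187901 := ndS (p := 50339) (l := 0) rfl N50339 D187901
theorem N85170 : nd 85170 = n187902 := ndS (p := 50339) (l := 1) rfl N50339 D187902
theorem N85171 : nd 85171 = n187903 := ndS (p := 50339) (l := 4) rfl N50339 D187903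
theorem N85172 : nd 85172 = n187904 := ndS (p := 50339) (l := 7) rfl N50339 D187904
theorem N85173 : nd 85173 = n187905 := ndS (p := 50341) (l := 3) rfl N50341 D187905
theorem N85174 : nd 85174 = n187906 := ndS (p := 50343) (l := 6) rfl N50343 D187906
theorem N85175 : nd 85175 = n187907 := ndS (p := 50345) (l := 5) rfl N50345 D187907
theorem N85176 : nd 85176 = n187908 := ndS (p := 50345) (l := 7) rfl N50345 D187908
theorem N85177 : nd 85177 = n187909 := ndS (p := 50347) (l := 1) rfl N50347 D187909
theorem N85178 : nd 85178 = n187910 := ndS (p := 50347) (l := 5) rfl N50347 D187910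
theorem N85179 : nd 85179 = n187911 := ndS (p := 50348) (l := 3) rfl N50348 D187911
theorem N85180 : nd 85180 = n187912 := ndS (p := 50351) (l := 3) rfl N50351 D187912
theorem N85181 : nd 85181 = n187914 := ndS (p := 50355) (l := 5) rfl N50355 D187914
theorem N85182 : nd 85182 = n187915 := ndS (p := 50355) (l := 6) rfl N50355 D187915
theorem N85183 : nd 85183 = n187916 := ndS (p := 50356) (l := 6) rfl N50356 D187916
theorem N85184 : nd 85184 = n187917 := ndS (p := 50357) (l := 0) rfl N50357 D187917
theorem N85185 : nd 85185 = n187918 := ndS (p := 50357) (l := 1) rfl N50357 D187918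
theorem N85186 : nd 85186 = n187919 := ndS (p := 50357) (l := 5) rfl N50357 D187919
theorem N85187 : nd 85187 = n187920 := ndS (p := 50357) (l := 7) rfl N50357 D187920
theorem N85188 : nd 85188 = n187921 := ndS (p := 50358) (l := 4) rfl N50358 D187921
theorem N85189 : nd 85189 = n187922 := ndS (p := 50358) (l := 6) rfl N50358 D187922
theorem N85190 : nd 85190 = n187923 := ndS (p := 50359) (l := 3) rfl N50359 D187923
theorem N85191 : nd 85191 = n187924 := ndS (p := 50359) (l := 4) rfl N50359 D187924
theorem N85192 : nd 85192 = n187925 := ndS (p := 50361) (l := 4) rfl N50361 D187925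
theorem N85193 : nd 85193 = n187926 := ndS (p := 50361) (l := 5) rfl N50361 D187926
theorem N85194 : nd 85194 = n187927 := ndS (p := 50361) (l := 6) rfl N50361 D187927
theorem N85195 : nd 85195 = n187928 := ndS (p := 50362) (l := 0) rfl N50362 D187928
theorem N85196 : nd 85196 = n187929 := ndS (p := 50362) (l := 1) rfl N50362 D187929
theorem N85197 : nd 85197 = n187930 := ndS (p := 50362) (l := 3) rfl N50362 D187930
theorem N85198 : nd 85198 = n187931 := ndS (p := 50362) (l := 5) rfl N50362 D187931
theorem N85199 : nd 85199 = n187932 := ndS (p := 50362) (l := 6) rfl N50362 D187932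
theorem N85200 : nd 85200 = n187933 := ndS (p := 50363) (l := 0) rfl N50363 D187933
theorem N85201 : nd 85201 = n187934 := ndS (p := 50364) (l := 0) rfl N50364 D187934
theorem N85202 : nd 85202 = n187935 := ndS (p := 50364) (l := 1) rfl N50364 D187935
theorem N85203 : nd 85203 = n187936 := ndS (p := 50364) (l := 7) rfl N50364 D187936
theorem N85204 : nd 85204 = n187937 := ndS (p := 50367) (l := 0) rfl N50367 D187937
theorem N85205 : nd 85205 = n187938 := ndS (p := 50367) (l := 1) rfl N50367 D187938
theorem N85206 : nd 85206 = n187939 := ndS (p := 50368) (l := 0) rfl N50368 D187939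
theorem N85207 : nd 85207 = n187940 := ndS (p := 50368) (l := 1) rfl N50368 D187940
theorem N85208 : nd 85208 = n187941 := ndS (p := 50368) (l := 7) rfl N50368 D187941
theorem N85209 : nd 85209 = n187943 := ndS (p := 50369) (l := 3) rfl N50369 D187943
theorem N85210 : nd 85210 = n187944 := ndS (p := 50369) (l := 4) rfl N50369 D187944
theorem N85211 : nd 85211 = n187945 := ndS (p := 50369) (l := 5) rfl N50369 D187945
theorem N85212 : nd 85212 = n187949 := ndS (p := 50370) (l := 4) rfl N50370 D187949
theorem N85213 : nd 85213 = n187950 := ndS (p := 50370) (l := 5) rfl N50370 D187950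
theorem N85214 : nd 85214 = n187951 := ndS (p := 50370) (l := 6) rfl N50370 D187951
theorem N85215 : nd 85215 = n187952 := ndS (p := 50372) (l := 4) rfl N50372 D187952
theorem N85216 : nd 85216 = n187953 := ndS (p := 50372) (l := 5) rfl N50372 D187953
theorem N85217 : nd 85217 = n187954 := ndS (p := 50372) (l := 6) rfl N50372 D187954
theorem N85218 : nd 85218 = n187955 := ndS (p := 50373) (l := 6) rfl N50373 D187955
theorem N85219 : nd 85219 = n187956 := ndS (p := 50374) (l := 1) rfl N50374 D187956
theorem N85220 : nd 85220 = n187957 := ndS (p := 50375) (l := 0) rfl N50375 D187957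
theorem N85221 : nd 85221 = n187958 := ndS (p := 50375) (l := 7) rfl N50375 D187958
theorem N85222 : nd 85222 = n187959 := ndS (p := 50376) (l := 6) rfl N50376 D187959
theorem N85223 : nd 85223 = n187960 := ndS (p := 50377) (l := 6) rfl N50377 D187960
theorem N85224 : nd 85224 = n187961 := ndS (p := 50378) (l := 0) rfl N50378 D187961
theorem N85225 : nd 85225 = n187962 := ndS (p := 50378) (l := 1) rfl N50378 D187962
theorem N85226 : nd 85226 = n187963 := ndS (p := 50378) (l := 5) rfl N50378 D187963
theorem N85227 : nd 85227 = n187964 := ndS (p := 50378) (l := 7) rfl N50378 D187964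
theorem N85228 : nd 85228 = n187967 := ndS (p := 50379) (l := 4) rfl N50379 D187967
theorem N85229 : nd 85229 = n187968 := ndS (p := 50379) (l := 5) rfl N50379 D187968
theorem N85230 : nd 85230 = n187969 := ndS (p := 50379) (l := 6) rfl N50379 D187969
theorem N85231 : nd 85231 = n187970 := ndS (p := 50380) (l := 5) rfl N50380 D187970
theorem N85232 : nd 85232 = n187971 := ndS (p := 50382) (l := 0) rfl N50382 D187971
theorem N85233 : nd 85233 = n187972 := ndS (p := 50382) (l := 2) rfl N50382 D187972
theorem N85234 : nd 85234 = n187973 := ndS (p := 50382) (l := 4) rfl N50382 D187973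
theorem N85235 : nd 85235 = n187974 := ndS (p := 50382) (l := 6) rfl N50382 D187974
theorem N85236 : nd 85236 = n187976 := ndS (p := 50383) (l := 5) rfl N50383 D187976
theorem N85237 : nd 85237 = n187977 := ndS (p := 50383) (l := 7) rfl N50383 D187977
theorem N85238 : nd 85238 = n187978 := ndS (p := 50384) (l := 0) rfl N50384 D187978
theorem N85239 : nd 85239 = n187979 := ndS (p := 50384) (l := 2) rfl N50384 D187979
theorem N85240 : nd 85240 = n187980 := ndS (p := 50384) (l := 4) rfl N50384 D187980
theorem N85241 : nd 85241 = n187981 := ndS (p := 50384) (l := 6) rfl N50384 D187981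
theorem N85242 : nd 85242 = n187982 := ndS (p := 50386) (l := 7) rfl N50386 D187982
theorem N85243 : nd 85243 = n187983 := ndS (p := 50387) (l := 4) rfl N50387 D187983
theorem N85244 : nd 85244 = n187984 := ndS (p := 50388) (l := 4) rfl N50388 D187984
theorem N85245 : nd 85245 = n187985 := ndS (p := 50389) (l := 1) rfl N50389 D187985
theorem N85246 : nd 85246 = n187986 := ndS (p := 50389) (l := 4) rfl N50389 D187986
theorem N85247 : nd 85247 = n187987 := ndS (p := 50390) (l := 6) rfl N50390 D187987
theorem N85248 : nd 85248 = n187988 := ndS (p := 50391) (l := 3) rfl N50391 D187988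
theorem N85249 : nd 85249 = n187989 := ndS (p := 50391) (l := 6) rfl N50391 D187989
theorem N85250 : nd 85250 = n187990 := ndS (p := 50392) (l := 3) rfl N50392 D187990
theorem N85251 : nd 85251 = n187991 := ndS (p := 50392) (l := 6) rfl N50392 D187991
theorem N85252 : nd 85252 = n187992 := ndS (p := 50393) (l := 0) rfl N50393 D187992
theorem N85253 : nd 85253 = n187993 := ndS (p := 50393) (l := 1) rfl N50393 D187993
theorem N85254 : nd 85254 = n187994 := ndS (p := 50393) (l := 7) rfl N50393 D187994
theorem N85255 : nd 85255 = n187995 := ndS (p := 50394) (l := 0) rfl N50394 D187995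
theorem N85256 : nd 85256 = n187996 := ndS (p := 50394) (l := 1) rfl N50394 D187996
theorem N85257 : nd 85257 = n187997 := ndS (p := 50394) (l := 5) rfl N50394 D187997
theorem N85258 : nd 85258 = n187999 := ndS (p := 50395) (l := 3) rfl N50395 D187999
theorem N85259 : nd 85259 = n188000 := ndS (p := 50395) (l := 4) rfl N50395 D188000
theorem N85260 : nd 85260 = n188001 := ndS (p := 50395) (l := 5) rfl N50395 D188001
theorem N85261 : nd 85261 = n188002 := ndS (p := 50395) (l := 6) rfl N50395 D188002
theorem N85262 : nd 85262 = n188006 := ndS (p := 50396) (l := 5) rfl N50396 D188006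
theorem N85263 : nd 85263 = n188007 := ndS (p := 50396) (l := 6) rfl N50396 D188007
theorem N85264 : nd 85264 = n188008 := ndS (p := 50397) (l := 3) rfl N50397 D188008
theorem N85265 : nd 85265 = n188009 := ndS (p := 50397) (l := 5) rfl N50397 D188009
theorem N85266 : nd 85266 = n188010 := ndS (p := 50398) (l := 5) rfl N50398 D188010
theorem N85267 : nd 85267 = n188011 := ndS (p := 50399) (l := 0) rfl N50399 D188011
theorem N85268 : nd 85268 = n188012 := ndS (p := 50399) (l := 1) rfl N50399 D188012
theorem N85269 : nd 85269 = n188013 := ndS (p := 50399) (l := 4) rfl N50399 D188013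
theorem N85270 : nd 85270 = n188014 := ndS (p := 50399) (l := 6) rfl N50399 D188014
theorem N85271 : nd 85271 = n188015 := ndS (p := 50400) (l := 3) rfl N50400 D188015
theorem N85272 : nd 85272 = n188016 := ndS (p := 50401) (l := 0) rfl N50401 D188016
theorem N85273 : nd 85273 = n188017 := ndS (p := 50401) (l := 7) rfl N50401 D188017
theorem N85274 : nd 85274 = n188018 := ndS (p := 50404) (l := 5) rfl N50404 D188018
theorem N85275 : nd 85275 = n188019 := ndS (p := 50405) (l := 6) rfl N50405 D188019
theorem N85276 : nd 85276 = n188020 := ndS (p := 50406) (l := 6) rfl N50406 D188020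
theorem N85277 : nd 85277 = n188021 := ndS (p := 50407) (l := 0) rfl N50407 D188021
theorem N85278 : nd 85278 = n188022 := ndS (p := 50407) (l := 1) rfl N50407 D188022
theorem N85279 : nd 85279 = n188023 := ndS (p := 50407) (l := 7) rfl N50407 D188023
theorem N85280 : nd 85280 = n188024 := ndS (p := 50408) (l := 3) rfl N50408 D188024
theorem N85281 : nd 85281 = n188025 := ndS (p := 50408) (l := 5) rfl N50408 D188025
theorem N85282 : nd 85282 = n188026 := ndS (p := 50409) (l := 4) rfl N50409 D188026
theorem N85283 : nd 85283 = n188027 := ndS (p := 50409) (l := 6) rfl N50409 D188027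
theorem N85284 : nd 85284 = n188028 := ndS (p := 50410) (l := 4) rfl N50410 D188028
theorem N85285 : nd 85285 = n188029 := ndS (p := 50410) (l := 6) rfl N50410 D188029
theorem N85286 : nd 85286 = n188030 := ndS (p := 50411) (l := 5) rfl N50411 D188030
theorem N85287 : nd 85287 = n188031 := ndS (p := 50412) (l := 4) rfl N50412 D188031
theorem N85288 : nd 85288 = n188032 := ndS (p := 50413) (l := 3) rfl N50413 D188032
theorem N85289 : nd 85289 = n188033 := ndS (p := 50413) (l := 4) rfl N50413 D188033
theorem N85290 : nd 85290 = n188035 := ndS (p := 50414) (l := 0) rfl N50414 D188035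
theorem N85291 : nd 85291 = n188036 := ndS (p := 50414) (l := 1) rfl N50414 D188036
theorem N85292 : nd 85292 = n188037 := ndS (p := 50414) (l := 3) rfl N50414 D188037
theorem N85293 : nd 85293 = n188038 := ndS (p := 50414) (l := 5) rfl N50414 D188038
theorem N85294 : nd 85294 = n188039 := ndS (p := 50414) (l := 6) rfl N50414 D188039
theorem N85295 : nd 85295 = n188040 := ndS (p := 50415) (l := 0) rfl N50415 D188040
theorem N85296 : nd 85296 = n188041 := ndS (p := 50415) (l := 1) rfl N50415 D188041
theorem N85297 : nd 85297 = n188042 := ndS (p := 50415) (l := 5) rfl N50415 D188042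
theorem N85298 : nd 85298 = n188043 := ndS (p := 50417) (l := 1) rfl N50417 D188043
theorem N85299 : nd 85299 = n188044 := ndS (p := 50417) (l := 4) rfl N50417 D188044
theorem N85300 : nd 85300 = n188045 := ndS (p := 50419) (l := 6) rfl N50419 D188045
theorem N85301 : nd 85301 = n188046 := ndS (p := 50420) (l := 0) rfl N50420 D188046
theorem N85302 : nd 85302 = n188047 := ndS (p := 50420) (l := 1) rfl N50420 D188047
theorem N85303 : nd 85303 = n188048 := ndS (p := 50420) (l := 7) rfl N50420 D188048
theorem N85304 : nd 85304 = n188049 := ndS (p := 50421) (l := 6) rfl N50421 D188049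
theorem N85305 : nd 85305 = n188050 := ndS (p := 50422) (l := 6) rfl N50422 D188050
theorem N85306 : nd 85306 = n188051 := ndS (p := 50423) (l := 1) rfl N50423 D188051
theorem N85307 : nd 85307 = n188052 := ndS (p := 50423) (l := 7) rfl N50423 D188052
theorem N85308 : nd 85308 = n188053 := ndS (p := 50424) (l := 0) rfl N50424 D188053
theorem N85309 : nd 85309 = n188054 := ndS (p := 50424) (l := 2) rfl N50424 D188054
theorem N85310 : nd 85310 = n188055 := ndS (p := 50424) (l := 6) rfl N50424 D188055
theorem N85311 : nd 85311 = n188057 := ndS (p := 50425) (l := 5) rfl N50425 D188057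
theorem N85312 : nd 85312 = n188058 := ndS (p := 50425) (l := 7) rfl N50425 D188058
theorem N85313 : nd 85313 = n188060 := ndS (p := 50426) (l := 3) rfl N50426 D188060
theorem N85314 : nd 85314 = n188061 := ndS (p := 50426) (l := 4) rfl N50426 D188061
theorem N85315 : nd 85315 = n188062 := ndS (p := 50426) (l := 5) rfl N50426 D188062
theorem N85316 : nd 85316 = n188064 := ndS (p := 50427) (l := 3) rfl N50427 D188064
theorem N85317 : nd 85317 = n188065 := ndS (p := 50427) (l := 4) rfl N50427 D188065
theorem N85318 : nd 85318 = n188066 := ndS (p := 50427) (l := 5) rfl N50427 D188066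
theorem N85319 : nd 85319 = n188067 := ndS (p := 50427) (l := 6) rfl N50427 D188067
theorem N85320 : nd 85320 = n188068 := ndS (p := 50428) (l := 0) rfl N50428 D188068
theorem N85321 : nd 85321 = n188069 := ndS (p := 50428) (l := 1) rfl N50428 D188069
theorem N85322 : nd 85322 = n188070 := ndS (p := 50428) (l := 4) rfl N50428 D188070
theorem N85323 : nd 85323 = n188071 := ndS (p := 50428) (l := 7) rfl N50428 D188071
theorem N85324 : nd 85324 = n188072 := ndS (p := 50430) (l := 3) rfl N50430 D188072
theorem N85325 : nd 85325 = n188073 := ndS (p := 50432) (l := 0) rfl N50432 D188073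
theorem N85326 : nd 85326 = n188074 := ndS (p := 50432) (l := 2) rfl N50432 D188074
theorem N85327 : nd 85327 = n188075 := ndS (p := 50434) (l := 3) rfl N50434 D188075
theorem N85328 : nd 85328 = n188076 := ndS (p := 50435) (l := 5) rfl N50435 D188076
theorem N85329 : nd 85329 = n188077 := ndS (p := 50436) (l := 4) rfl N50436 D188077
theorem N85330 : nd 85330 = n188078 := ndS (p := 50437) (l := 0) rfl N50437 D188078
theorem N85331 : nd 85331 = n188079 := ndS (p := 50437) (l := 1) rfl N50437 D188079
theorem N85332 : nd 85332 = n188080 := ndS (p := 50437) (l := 7) rfl N50437 D188080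
theorem N85333 : nd 85333 = n188081 := ndS (p := 50438) (l := 5) rfl N50438 D188081
theorem N85334 : nd 85334 = n188082 := ndS (p := 50439) (l := 5) rfl N50439 D188082
theorem N85335 : nd 85335 = n188083 := ndS (p := 50440) (l := 0) rfl N50440 D188083
theorem N85336 : nd 85336 = n188084 := ndS (p := 50440) (l := 1) rfl N50440 D188084
theorem N85337 : nd 85337 = n188085 := ndS (p := 50440) (l := 4) rfl N50440 D188085
theorem N85338 : nd 85338 = n188086 := ndS (p := 50440) (l := 6) rfl N50440 D188086
theorem N85339 : nd 85339 = n188087 := ndS (p := 50441) (l := 1) rfl N50441 D188087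
theorem N85340 : nd 85340 = n188088 := ndS (p := 50442) (l := 6) rfl N50442 D188088
theorem N85341 : nd 85341 = n188089 := ndS (p := 50443) (l := 0) rfl N50443 D188089
theorem N85342 : nd 85342 = n188090 := ndS (p := 50443) (l := 1) rfl N50443 D188090
theorem N85343 : nd 85343 = n188091 := ndS (p := 50443) (l := 7) rfl N50443 D188091
theorem N85344 : nd 85344 = n188092 := ndS (p := 50444) (l := 1) rfl N50444 D188092
theorem N85345 : nd 85345 = n188093 := ndS (p := 50444) (l := 2) rfl N50444 D188093
theorem N85346 : nd 85346 = n188094 := ndS (p := 50444) (l := 5) rfl N50444 D188094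
theorem N85347 : nd 85347 = n188095 := ndS (p := 50445) (l := 6) rfl N50445 D188095
theorem N85348 : nd 85348 = n188096 := ndS (p := 50446) (l := 4) rfl N50446 D188096
theorem N85349 : nd 85349 = n188097 := ndS (p := 50446) (l := 6) rfl N50446 D188097
theorem N85350 : nd 85350 = n188098 := ndS (p := 50447) (l := 4) rfl N50447 D188098
theorem N85351 : nd 85351 = n188099 := ndS (p := 50449) (l := 3) rfl N50449 D188099
theorem N85352 : nd 85352 = n188100 := ndS (p := 50449) (l := 4) rfl N50449 D188100
theorem N85353 : nd 85353 = n188101 := ndS (p := 50449) (l := 6) rfl N50449 D188101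
theorem N85354 : nd 85354 = n188102 := ndS (p := 50450) (l := 4) rfl N50450 D188102
theorem N85355 : nd 85355 = n188103 := ndS (p := 50451) (l := 0) rfl N50451 D188103
theorem N85356 : nd 85356 = n188104 := ndS (p := 50451) (l := 1) rfl N50451 D188104
theorem N85357 : nd 85357 = n188105 := ndS (p := 50451) (l := 3) rfl N50451 D188105
theorem N85358 : nd 85358 = n188106 := ndS (p := 50451) (l := 5) rfl N50451 D188106
theorem N85359 : nd 85359 = n188107 := ndS (p := 50451) (l := 6) rfl N50451 D188107
theorem N85360 : nd 85360 = n188109 := ndS (p := 50452) (l := 5) rfl N50452 D188109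
theorem N85361 : nd 85361 = n188110 := ndS (p := 50454) (l := 4) rfl N50454 D188110
theorem N85362 : nd 85362 = n188114 := ndS (p := 50457) (l := 5) rfl N50457 D188114
theorem N85363 : nd 85363 = n188115 := ndS (p := 50457) (l := 7) rfl N50457 D188115
theorem N85364 : nd 85364 = n188116 := ndS (p := 50458) (l := 4) rfl N50458 D188116
theorem N85365 : nd 85365 = n188117 := ndS (p := 50458) (l := 6) rfl N50458 D188117
theorem N85366 : nd 85366 = n188118 := ndS (p := 50459) (l := 4) rfl N50459 D188118
theorem N85367 : nd 85367 = n188119 := ndS (p := 50460) (l := 0) rfl N50460 D188119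
theorem N85368 : nd 85368 = n188120 := ndS (p := 50460) (l := 1) rfl N50460 D188120
theorem N85369 : nd 85369 = n188121 := ndS (p := 50460) (l := 4) rfl N50460 D188121
theorem N85370 : nd 85370 = n188122 := ndS (p := 50460) (l := 7) rfl N50460 D188122
theorem N85371 : nd 85371 = n188123 := ndS (p := 50462) (l := 3) rfl N50462 D188123
theorem N85372 : nd 85372 = n188124 := ndS (p := 50466) (l := 4) rfl N50466 D188124
theorem N85373 : nd 85373 = n188125 := ndS (p := 50466) (l := 6) rfl N50466 D188125
theorem N85374 : nd 85374 = n188126 := ndS (p := 50467) (l := 0) rfl N50467 D188126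
theorem N85375 : nd 85375 = n188127 := ndS (p := 50467) (l := 1) rfl N50467 D188127
theorem N85376 : nd 85376 = n188128 := ndS (p := 50467) (l := 7) rfl N50467 D188128
theorem N85377 : nd 85377 = n188129 := ndS (p := 50468) (l := 0) rfl N50468 D188129
theorem N85378 : nd 85378 = n188130 := ndS (p := 50468) (l := 2) rfl N50468 D188130
theorem N85379 : nd 85379 = n188131 := ndS (p := 50469) (l := 4) rfl N50469 D188131
theorem N85380 : nd 85380 = n188132 := ndS (p := 50469) (l := 5) rfl N50469 D188132
theorem N85381 : nd 85381 = n188133 := ndS (p := 50470) (l := 3) rfl N50470 D188133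
theorem N85382 : nd 85382 = n188134 := ndS (p := 50470) (l := 5) rfl N50470 D188134
theorem N85383 : nd 85383 = n188135 := ndS (p := 50471) (l := 5) rfl N50471 D188135
theorem N85384 : nd 85384 = n188136 := ndS (p := 50472) (l := 0) rfl N50472 D188136
theorem N85385 : nd 85385 = n188137 := ndS (p := 50472) (l := 1) rfl N50472 D188137
theorem N85386 : nd 85386 = n188138 := ndS (p := 50472) (l := 4) rfl N50472 D188138
theorem N85387 : nd 85387 = n188139 := ndS (p := 50473) (l := 0) rfl N50473 D188139
theorem N85388 : nd 85388 = n188140 := ndS (p := 50473) (l := 7) rfl N50473 D188140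
theorem N85389 : nd 85389 = n188141 := ndS (p := 50474) (l := 2) rfl N50474 D188141
theorem N85390 : nd 85390 = n188142 := ndS (p := 50474) (l := 4) rfl N50474 D188142
theorem N85391 : nd 85391 = n188143 := ndS (p := 50474) (l := 6) rfl N50474 D188143
theorem N85392 : nd 85392 = n188144 := ndS (p := 50475) (l := 0) rfl N50475 D188144
theorem N85393 : nd 85393 = n188145 := ndS (p := 50475) (l := 1) rfl N50475 D188145
theorem N85394 : nd 85394 = n188146 := ndS (p := 50475) (l := 7) rfl N50475 D188146
theorem N85395 : nd 85395 = n188147 := ndS (p := 50477) (l := 0) rfl N50477 D188147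
theorem N85396 : nd 85396 = n188148 := ndS (p := 50477) (l := 1) rfl N50477 D188148
theorem N85397 : nd 85397 = n188149 := ndS (p := 50478) (l := 1) rfl N50478 D188149
theorem N85398 : nd 85398 = n188150 := ndS (p := 50479) (l := 0) rfl N50479 D188150
theorem N85399 : nd 85399 = n188151 := ndS (p := 50479) (l := 1) rfl N50479 D188151
theorem N85400 : nd 85400 = n188153 := ndS (p := 50480) (l := 3) rfl N50480 D188153
theorem N85401 : nd 85401 = n188154 := ndS (p := 50480) (l := 4) rfl N50480 D188154
theorem N85402 : nd 85402 = n188155 := ndS (p := 50480) (l := 5) rfl N50480 D188155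
theorem N85403 : nd 85403 = n188156 := ndS (p := 50480) (l := 6) rfl N50480 D188156
theorem N85404 : nd 85404 = n188158 := ndS (p := 50481) (l := 3) rfl N50481 D188158
theorem N85405 : nd 85405 = n188159 := ndS (p := 50481) (l := 4) rfl N50481 D188159
theorem N85406 : nd 85406 = n188160 := ndS (p := 50481) (l := 5) rfl N50481 D188160
theorem N85407 : nd 85407 = n188161 := ndS (p := 50481) (l := 6) rfl N50481 D188161
theorem N85408 : nd 85408 = n188162 := ndS (p := 50486) (l := 4) rfl N50486 D188162
theorem N85409 : nd 85409 = n188163 := ndS (p := 50487) (l := 0) rfl N50487 D188163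
theorem N85410 : nd 85410 = n188164 := ndS (p := 50487) (l := 1) rfl N50487 D188164
theorem N85411 : nd 85411 = n188165 := ndS (p := 50491) (l := 5) rfl N50491 D188165
theorem N85412 : nd 85412 = n188166 := ndS (p := 50492) (l := 5) rfl N50492 D188166
theorem N85413 : nd 85413 = n188167 := ndS (p := 50493) (l := 4) rfl N50493 D188167
theorem N85414 : nd 85414 = n188168 := ndS (p := 50493) (l := 6) rfl N50493 D188168
theorem N85415 : nd 85415 = n188169 := ndS (p := 50494) (l := 4) rfl N50494 D188169
theorem N85416 : nd 85416 = n188170 := ndS (p := 50494) (l := 6) rfl N50494 D188170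
theorem N85417 : nd 85417 = n188171 := ndS (p := 50495) (l := 4) rfl N50495 D188171
theorem N85418 : nd 85418 = n188172 := ndS (p := 50496) (l := 3) rfl N50496 D188172
theorem N85419 : nd 85419 = n188173 := ndS (p := 50496) (l := 4) rfl N50496 D188173
theorem N85420 : nd 85420 = n188174 := ndS (p := 50496) (l := 6) rfl N50496 D188174
theorem N85421 : nd 85421 = n188175 := ndS (p := 50497) (l := 4) rfl N50497 D188175
theorem N85422 : nd 85422 = n188176 := ndS (p := 50498) (l := 1) rfl N50498 D188176
theorem N85423 : nd 85423 = n188177 := ndS (p := 50498) (l := 5) rfl N50498 D188177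
theorem N85424 : nd 85424 = n188178 := ndS (p := 50498) (l := 6) rfl N50498 D188178
theorem N85425 : nd 85425 = n188179 := ndS (p := 50500) (l := 3) rfl N50500 D188179
theorem N85426 : nd 85426 = n188180 := ndS (p := 50500) (l := 5) rfl N50500 D188180
theorem N85427 : nd 85427 = n188181 := ndS (p := 50500) (l := 6) rfl N50500 D188181
theorem N85428 : nd 85428 = n188182 := ndS (p := 50501) (l := 3) rfl N50501 D188182
theorem N85429 : nd 85429 = n188183 := ndS (p := 50501) (l := 5) rfl N50501 D188183
theorem N85430 : nd 85430 = n188184 := ndS (p := 50501) (l := 6) rfl N50501 D188184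
theorem N85431 : nd 85431 = n188185 := ndS (p := 50504) (l := 3) rfl N50504 D188185
theorem N85432 : nd 85432 = n188186 := ndS (p := 50505) (l := 6) rfl N50505 D188186
theorem N85433 : nd 85433 = n188187 := ndS (p := 50506) (l := 0) rfl N50506 D188187
theorem N85434 : nd 85434 = n188188 := ndS (p := 50506) (l := 1) rfl N50506 D188188
theorem N85435 : nd 85435 = n188189 := ndS (p := 50507) (l := 1) rfl N50507 D188189
theorem N85436 : nd 85436 = n188190 := ndS (p := 50510) (l := 0) rfl N50510 D188190
theorem N85437 : nd 85437 = n188191 := ndS (p := 50510) (l := 1) rfl N50510 D188191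
theorem N85438 : nd 85438 = n188192 := ndS (p := 50511) (l := 0) rfl N50511 D188192
theorem N85439 : nd 85439 = n188193 := ndS (p := 50511) (l := 1) rfl N50511 D188193
theorem N85440 : nd 85440 = n188194 := ndS (p := 50511) (l := 5) rfl N50511 D188194
theorem N85441 : nd 85441 = n188195 := ndS (p := 50513) (l := 4) rfl N50513 D188195
theorem N85442 : nd 85442 = n188196 := ndS (p := 50515) (l := 3) rfl N50515 D188196
theorem N85443 : nd 85443 = n188197 := ndS (p := 50515) (l := 5) rfl N50515 D188197
theorem N85444 : nd 85444 = n188198 := ndS (p := 50516) (l := 3) rfl N50516 D188198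
theorem N85445 : nd 85445 = n188199 := ndS (p := 50516) (l := 5) rfl N50516 D188199
theorem N85446 : nd 85446 = n188200 := ndS (p := 50516) (l := 6) rfl N50516 D188200
theorem N85447 : nd 85447 = n188201 := ndS (p := 50517) (l := 0) rfl N50517 D188201
theorem N85448 : nd 85448 = n188202 := ndS (p := 50517) (l := 1) rfl N50517 D188202
theorem N85449 : nd 85449 = n188203 := ndS (p := 50517) (l := 4) rfl N50517 D188203
theorem N85450 : nd 85450 = n188204 := ndS (p := 50517) (l := 7) rfl N50517 D188204
theorem N85451 : nd 85451 = n188205 := ndS (p := 50519) (l := 3) rfl N50519 D188205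
theorem N85452 : nd 85452 = n188206 := ndS (p := 50521) (l := 6) rfl N50521 D188206
theorem N85453 : nd 85453 = n188207 := ndS (p := 50522) (l := 0) rfl N50522 D188207
theorem N85454 : nd 85454 = n188208 := ndS (p := 50522) (l := 3) rfl N50522 D188208
theorem N85455 : nd 85455 = n188209 := ndS (p := 50522) (l := 5) rfl N50522 D188209
theorem N85456 : nd 85456 = n188210 := ndS (p := 50522) (l := 6) rfl N50522 D188210
theorem N85457 : nd 85457 = n188211 := ndS (p := 50524) (l := 4) rfl N50524 D188211
theorem N85458 : nd 85458 = n188212 := ndS (p := 50525) (l := 5) rfl N50525 D188212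
theorem N85459 : nd 85459 = n188213 := ndS (p := 50526) (l := 5) rfl N50526 D188213
theorem N85460 : nd 85460 = n188214 := ndS (p := 50527) (l := 4) rfl N50527 D188214
theorem N85461 : nd 85461 = n188215 := ndS (p := 50527) (l := 6) rfl N50527 D188215
theorem N85462 : nd 85462 = n188216 := ndS (p := 50528) (l := 5) rfl N50528 D188216
theorem N85463 : nd 85463 = n188217 := ndS (p := 50530) (l := 1) rfl N50530 D188217
theorem N85464 : nd 85464 = n188218 := ndS (p := 50530) (l := 6) rfl N50530 D188218
theorem N85465 : nd 85465 = n188219 := ndS (p := 50531) (l := 4) rfl N50531 D188219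
theorem N85466 : nd 85466 = n188220 := ndS (p := 50531) (l := 6) rfl N50531 D188220
theorem N85467 : nd 85467 = n188221 := ndS (p := 50532) (l := 3) rfl N50532 D188221
theorem N85468 : nd 85468 = n188222 := ndS (p := 50532) (l := 4) rfl N50532 D188222
theorem N85469 : nd 85469 = n188223 := ndS (p := 50532) (l := 6) rfl N50532 D188223
theorem N85470 : nd 85470 = n188224 := ndS (p := 50533) (l := 0) rfl N50533 D188224
theorem N85471 : nd 85471 = n188225 := ndS (p := 50533) (l := 1) rfl N50533 D188225
theorem N85472 : nd 85472 = n188226 := ndS (p := 50533) (l := 5) rfl N50533 D188226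
theorem N85473 : nd 85473 = n188227 := ndS (p := 50533) (l := 6) rfl N50533 D188227
theorem N85474 : nd 85474 = n188228 := ndS (p := 50534) (l := 1) rfl N50534 D188228
theorem N85475 : nd 85475 = n188229 := ndS (p := 50534) (l := 5) rfl N50534 D188229
theorem N85476 : nd 85476 = n188230 := ndS (p := 50534) (l := 7) rfl N50534 D188230
theorem N85477 : nd 85477 = n188231 := ndS (p := 50535) (l := 3) rfl N50535 D188231
theorem N85478 : nd 85478 = n188232 := ndS (p := 50536) (l := 0) rfl N50536 D188232
theorem N85479 : nd 85479 = n188233 := ndS (p := 50536) (l := 1) rfl N50536 D188233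
theorem N85480 : nd 85480 = n188234 := ndS (p := 50536) (l := 4) rfl N50536 D188234
theorem N85481 : nd 85481 = n188235 := ndS (p := 50537) (l := 3) rfl N50537 D188235
theorem N85482 : nd 85482 = n188236 := ndS (p := 50537) (l := 5) rfl N50537 D188236
theorem N85483 : nd 85483 = n188237 := ndS (p := 50538) (l := 5) rfl N50538 D188237
theorem N85484 : nd 85484 = n188238 := ndS (p := 50538) (l := 6) rfl N50538 D188238
theorem N85485 : nd 85485 = n188239 := ndS (p := 50539) (l := 0) rfl N50539 D188239
theorem N85486 : nd 85486 = n188240 := ndS (p := 50539) (l := 1) rfl N50539 D188240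
theorem N85487 : nd 85487 = n188241 := ndS (p := 50539) (l := 4) rfl N50539 D188241
theorem N85488 : nd 85488 = n188242 := ndS (p := 50539) (l := 7) rfl N50539 D188242
theorem N85489 : nd 85489 = n188243 := ndS (p := 50541) (l := 3) rfl N50541 D188243
theorem N85490 : nd 85490 = n188244 := ndS (p := 50542) (l := 5) rfl N50542 D188244
theorem N85491 : nd 85491 = n188245 := ndS (p := 50543) (l := 3) rfl N50543 D188245
theorem N85492 : nd 85492 = n188246 := ndS (p := 50544) (l := 4) rfl N50544 D188246
theorem N85493 : nd 85493 = n188247 := ndS (p := 50544) (l := 6) rfl N50544 D188247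
theorem N85494 : nd 85494 = n188248 := ndS (p := 50545) (l := 2) rfl N50545 D188248
theorem N85495 : nd 85495 = n188249 := ndS (p := 50545) (l := 4) rfl N50545 D188249
theorem N85496 : nd 85496 = n188250 := ndS (p := 50545) (l := 6) rfl N50545 D188250
theorem N85497 : nd 85497 = n188251 := ndS (p := 50546) (l := 6) rfl N50546 D188251
theorem N85498 : nd 85498 = n188252 := ndS (p := 50547) (l := 4) rfl N50547 D188252
theorem N85499 : nd 85499 = n188253 := ndS (p := 50547) (l := 6) rfl N50547 D188253
theorem N85500 : nd 85500 = n188254 := ndS (p := 50549) (l := 4) rfl N50549 D188254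
theorem N85501 : nd 85501 = n188255 := ndS (p := 50549) (l := 6) rfl N50549 D188255
theorem N85502 : nd 85502 = n188256 := ndS (p := 50550) (l := 1) rfl N50550 D188256
theorem N85503 : nd 85503 = n188257 := ndS (p := 50550) (l := 5) rfl N50550 D188257
theorem N85504 : nd 85504 = n188258 := ndS (p := 50550) (l := 7) rfl N50550 D188258
theorem N85505 : nd 85505 = n188259 := ndS (p := 50551) (l := 3) rfl N50551 D188259
theorem N85506 : nd 85506 = n188260 := ndS (p := 50551) (l := 4) rfl N50551 D188260
theorem N85507 : nd 85507 = n188261 := ndS (p := 50551) (l := 6) rfl N50551 D188261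
theorem N85508 : nd 85508 = n188262 := ndS (p := 50552) (l := 3) rfl N50552 D188262
theorem N85509 : nd 85509 = n188263 := ndS (p := 50552) (l := 4) rfl N50552 D188263
theorem N85510 : nd 85510 = n188264 := ndS (p := 50553) (l := 0) rfl N50553 D188264
theorem N85511 : nd 85511 = n188265 := ndS (p := 50553) (l := 6) rfl N50553 D188265
theorem N85512 : nd 85512 = n188266 := ndS (p := 50554) (l := 1) rfl N50554 D188266
theorem N85513 : nd 85513 = n188267 := ndS (p := 50554) (l := 5) rfl N50554 D188267
theorem N85514 : nd 85514 = n188268 := ndS (p := 50554) (l := 7) rfl N50554 D188268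
theorem N85515 : nd 85515 = n188269 := ndS (p := 50555) (l := 3) rfl N50555 D188269
theorem N85516 : nd 85516 = n188270 := ndS (p := 50557) (l := 0) rfl N50557 D188270
theorem N85517 : nd 85517 = n188271 := ndS (p := 50557) (l := 4) rfl N50557 D188271
theorem N85518 : nd 85518 = n188272 := ndS (p := 50559) (l := 5) rfl N50559 D188272
theorem N85519 : nd 85519 = n188273 := ndS (p := 50560) (l := 3) rfl N50560 D188273
theorem N85520 : nd 85520 = n188274 := ndS (p := 50560) (l := 5) rfl N50560 D188274
theorem N85521 : nd 85521 = n188275 := ndS (p := 50560) (l := 6) rfl N50560 D188275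
theorem N85522 : nd 85522 = n188276 := ndS (p := 50561) (l := 0) rfl N50561 D188276
theorem N85523 : nd 85523 = n188277 := ndS (p := 50561) (l := 1) rfl N50561 D188277
theorem N85524 : nd 85524 = n188278 := ndS (p := 50561) (l := 4) rfl N50561 D188278
theorem N85525 : nd 85525 = n188279 := ndS (p := 50561) (l := 7) rfl N50561 D188279
theorem N85526 : nd 85526 = n188280 := ndS (p := 50563) (l := 3) rfl N50563 D188280
theorem N85527 : nd 85527 = n188281 := ndS (p := 50565) (l := 5) rfl N50565 D188281
theorem N85528 : nd 85528 = n188283 := ndS (p := 50566) (l := 1) rfl N50566 D188283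
theorem N85529 : nd 85529 = n188284 := ndS (p := 50566) (l := 4) rfl N50566 D188284
theorem N85530 : nd 85530 = n188285 := ndS (p := 50566) (l := 6) rfl N50566 D188285
theorem N85531 : nd 85531 = n188286 := ndS (p := 50570) (l := 5) rfl N50570 D188286
theorem N85532 : nd 85532 = n188287 := ndS (p := 50571) (l := 5) rfl N50571 D188287
theorem N85533 : nd 85533 = n188288 := ndS (p := 50572) (l := 4) rfl N50572 D188288
theorem N85534 : nd 85534 = n188289 := ndS (p := 50572) (l := 6) rfl N50572 D188289
theorem N85535 : nd 85535 = n188290 := ndS (p := 50574) (l := 1) rfl N50574 D188290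
theorem N85536 : nd 85536 = n188291 := ndS (p := 50576) (l := 0) rfl N50576 D188291
theorem N85537 : nd 85537 = n188292 := ndS (p := 50576) (l := 1) rfl N50576 D188292
theorem N85538 : nd 85538 = n188293 := ndS (p := 50576) (l := 7) rfl N50576 D188293
theorem N85539 : nd 85539 = n188294 := ndS (p := 50578) (l := 3) rfl N50578 D188294
theorem N85540 : nd 85540 = n188295 := ndS (p := 50578) (l := 6) rfl N50578 D188295
theorem N85541 : nd 85541 = n188296 := ndS (p := 50580) (l := 0) rfl N50580 D188296
theorem N85542 : nd 85542 = n188297 := ndS (p := 50580) (l := 1) rfl N50580 D188297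
theorem N85543 : nd 85543 = n188298 := ndS (p := 50580) (l := 2) rfl N50580 D188298
theorem N85544 : nd 85544 = n188299 := ndS (p := 50580) (l := 6) rfl N50580 D188299
theorem N85545 : nd 85545 = n188300 := ndS (p := 50581) (l := 1) rfl N50581 D188300
theorem N85546 : nd 85546 = n188301 := ndS (p := 50581) (l := 7) rfl N50581 D188301
theorem N85547 : nd 85547 = n188302 := ndS (p := 50582) (l := 6) rfl N50582 D188302
theorem N85548 : nd 85548 = n188303 := ndS (p := 50583) (l := 3) rfl N50583 D188303
theorem N85549 : nd 85549 = n188304 := ndS (p := 50583) (l := 4) rfl N50583 D188304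
theorem N85550 : nd 85550 = n188305 := ndS (p := 50583) (l := 5) rfl N50583 D188305
theorem N85551 : nd 85551 = n188306 := ndS (p := 50583) (l := 6) rfl N50583 D188306
theorem N85552 : nd 85552 = n188307 := ndS (p := 50584) (l := 5) rfl N50584 D188307
theorem N85553 : nd 85553 = n188308 := ndS (p := 50585) (l := 6) rfl N50585 D188308
theorem N85554 : nd 85554 = n188309 := ndS (p := 50586) (l := 0) rfl N50586 D188309
theorem N85555 : nd 85555 = n188310 := ndS (p := 50586) (l := 1) rfl N50586 D188310
theorem N85556 : nd 85556 = n188311 := ndS (p := 50587) (l := 4) rfl N50587 D188311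
theorem N85557 : nd 85557 = n188312 := ndS (p := 50588) (l := 6) rfl N50588 D188312
theorem N85558 : nd 85558 = n188313 := ndS (p := 50589) (l := 0) rfl N50589 D188313
theorem N85559 : nd 85559 = n188314 := ndS (p := 50590) (l := 6) rfl N50590 D188314
theorem N85560 : nd 85560 = n188315 := ndS (p := 50591) (l := 3) rfl N50591 D188315
theorem N85561 : nd 85561 = n188316 := ndS (p := 50593) (l := 3) rfl N50593 D188316
theorem N85562 : nd 85562 = n188317 := ndS (p := 50593) (l := 4) rfl N50593 D188317
theorem N85563 : nd 85563 = n188318 := ndS (p := 50593) (l := 6) rfl N50593 D188318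
theorem N85564 : nd 85564 = n188319 := ndS (p := 50594) (l := 3) rfl N50594 D188319
theorem N85565 : nd 85565 = n188320 := ndS (p := 50594) (l := 4) rfl N50594 D188320
theorem N85566 : nd 85566 = n188321 := ndS (p := 50595) (l := 6) rfl N50595 D188321
theorem N85567 : nd 85567 = n188323 := ndS (p := 50596) (l := 1) rfl N50596 D188323
theorem N85568 : nd 85568 = n188324 := ndS (p := 50596) (l := 7) rfl N50596 D188324
theorem N85569 : nd 85569 = n188326 := ndS (p := 50597) (l := 3) rfl N50597 D188326
theorem N85570 : nd 85570 = n188328 := ndS (p := 50597) (l := 5) rfl N50597 D188328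
theorem N85571 : nd 85571 = n188329 := ndS (p := 50597) (l := 6) rfl N50597 D188329
theorem N85572 : nd 85572 = n188331 := ndS (p := 50598) (l := 3) rfl N50598 D188331
theorem N85573 : nd 85573 = n188333 := ndS (p := 50598) (l := 6) rfl N50598 D188333
theorem N85574 : nd 85574 = n188334 := ndS (p := 50599) (l := 1) rfl N50599 D188334
theorem N85575 : nd 85575 = n188335 := ndS (p := 50599) (l := 4) rfl N50599 D188335
theorem N85576 : nd 85576 = n188336 := ndS (p := 50599) (l := 7) rfl N50599 D188336
theorem N85577 : nd 85577 = n188337 := ndS (p := 50601) (l := 0) rfl N50601 D188337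
theorem N85578 : nd 85578 = n188339 := ndS (p := 50601) (l := 2) rfl N50601 D188339
theorem N85579 : nd 85579 = n188340 := ndS (p := 50601) (l := 4) rfl N50601 D188340
theorem N85580 : nd 85580 = n188341 := ndS (p := 50601) (l := 5) rfl N50601 D188341
theorem N85581 : nd 85581 = n188342 := ndS (p := 50601) (l := 6) rfl N50601 D188342
theorem N85582 : nd 85582 = n188343 := ndS (p := 50602) (l := 3) rfl N50602 D188343
theorem N85583 : nd 85583 = n188344 := ndS (p := 50602) (l := 5) rfl N50602 D188344
theorem N85584 : nd 85584 = n188345 := ndS (p := 50602) (l := 6) rfl N50602 D188345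
theorem N85585 : nd 85585 = n188346 := ndS (p := 50603) (l := 0) rfl N50603 D188346
theorem N85586 : nd 85586 = n188347 := ndS (p := 50603) (l := 1) rfl N50603 D188347
theorem N85587 : nd 85587 = n188348 := ndS (p := 50603) (l := 4) rfl N50603 D188348
theorem N85588 : nd 85588 = n188349 := ndS (p := 50603) (l := 6) rfl N50603 D188349
theorem N85589 : nd 85589 = n188350 := ndS (p := 50604) (l := 1) rfl N50604 D188350
theorem N85590 : nd 85590 = n188351 := ndS (p := 50604) (l := 7) rfl N50604 D188351
theorem N85591 : nd 85591 = n188352 := ndS (p := 50605) (l := 1) rfl N50605 D188352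
theorem N85592 : nd 85592 = n188353 := ndS (p := 50605) (l := 2) rfl N50605 D188353
theorem N85593 : nd 85593 = n188354 := ndS (p := 50605) (l := 5) rfl N50605 D188354
theorem N85594 : nd 85594 = n188355 := ndS (p := 50605) (l := 6) rfl N50605 D188355
theorem N85595 : nd 85595 = n188356 := ndS (p := 50606) (l := 6) rfl N50606 D188356
theorem N85596 : nd 85596 = n188357 := ndS (p := 50607) (l := 4) rfl N50607 D188357
theorem N85597 : nd 85597 = n188358 := ndS (p := 50607) (l := 6) rfl N50607 D188358
theorem N85598 : nd 85598 = n188359 := ndS (p := 50608) (l := 0) rfl N50608 D188359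
theorem N85599 : nd 85599 = n188360 := ndS (p := 50608) (l := 5) rfl N50608 D188360
theorem N85600 : nd 85600 = n188361 := ndS (p := 50608) (l := 7) rfl N50608 D188361
theorem N85601 : nd 85601 = n188363 := ndS (p := 50610) (l := 3) rfl N50610 D188363
theorem N85602 : nd 85602 = n188364 := ndS (p := 50610) (l := 5) rfl N50610 D188364
theorem N85603 : nd 85603 = n188365 := ndS (p := 50610) (l := 6) rfl N50610 D188365
theorem N85604 : nd 85604 = n188367 := ndS (p := 50611) (l := 3) rfl N50611 D188367
theorem N85605 : nd 85605 = n188368 := ndS (p := 50611) (l := 5) rfl N50611 D188368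
theorem N85606 : nd 85606 = n188369 := ndS (p := 50611) (l := 6) rfl N50611 D188369
theorem N85607 : nd 85607 = n188370 := ndS (p := 50612) (l := 6) rfl N50612 D188370
theorem N85608 : nd 85608 = n188372 := ndS (p := 50614) (l := 7) rfl N50614 D188372
theorem N85609 : nd 85609 = n188373 := ndS (p := 50615) (l := 2) rfl N50615 D188373
theorem N85610 : nd 85610 = n188374 := ndS (p := 50615) (l := 6) rfl N50615 D188374
theorem N85611 : nd 85611 = n188375 := ndS (p := 50616) (l := 6) rfl N50616 D188375
theorem N85612 : nd 85612 = n188376 := ndS (p := 50617) (l := 1) rfl N50617 D188376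
theorem N85613 : nd 85613 = n188377 := ndS (p := 50617) (l := 7) rfl N50617 D188377
theorem N85614 : nd 85614 = n188378 := ndS (p := 50618) (l := 3) rfl N50618 D188378
theorem N85615 : nd 85615 = n188379 := ndS (p := 50619) (l := 3) rfl N50619 D188379
theorem N85616 : nd 85616 = n188380 := ndS (p := 50619) (l := 6) rfl N50619 D188380
theorem N85617 : nd 85617 = n188381 := ndS (p := 50621) (l := 3) rfl N50621 D188381
theorem N85618 : nd 85618 = n188382 := ndS (p := 50621) (l := 5) rfl N50621 D188382
theorem N85619 : nd 85619 = n188383 := ndS (p := 50621) (l := 6) rfl N50621 D188383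
theorem N85620 : nd 85620 = n188384 := ndS (p := 50622) (l := 5) rfl N50622 D188384
theorem N85621 : nd 85621 = n188385 := ndS (p := 50623) (l := 0) rfl N50623 D188385
theorem N85622 : nd 85622 = n188386 := ndS (p := 50623) (l := 2) rfl N50623 D188386
theorem N85623 : nd 85623 = n188387 := ndS (p := 50623) (l := 5) rfl N50623 D188387
theorem N85624 : nd 85624 = n188388 := ndS (p := 50624) (l := 6) rfl N50624 D188388
theorem N85625 : nd 85625 = n188389 := ndS (p := 50625) (l := 5) rfl N50625 D188389
theorem N85626 : nd 85626 = n188390 := ndS (p := 50626) (l := 6) rfl N50626 D188390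
theorem N85627 : nd 85627 = n188391 := ndS (p := 50629) (l := 0) rfl N50629 D188391
theorem N85628 : nd 85628 = n188392 := ndS (p := 50629) (l := 1) rfl N50629 D188392
theorem N85629 : nd 85629 = n188393 := ndS (p := 50629) (l := 7) rfl N50629 D188393
theorem N85630 : nd 85630 = n188394 := ndS (p := 50632) (l := 6) rfl N50632 D188394
theorem N85631 : nd 85631 = n188395 := ndS (p := 50634) (l := 1) rfl N50634 D188395
theorem N85632 : nd 85632 = n188396 := ndS (p := 50634) (l := 7) rfl N50634 D188396
theorem N85633 : nd 85633 = n188397 := ndS (p := 50635) (l := 4) rfl N50635 D188397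
theorem N85634 : nd 85634 = n188398 := ndS (p := 50635) (l := 6) rfl N50635 D188398
theorem N85635 : nd 85635 = n188399 := ndS (p := 50637) (l := 3) rfl N50637 D188399
theorem N85636 : nd 85636 = n188400 := ndS (p := 50637) (l := 6) rfl N50637 D188400
theorem N85637 : nd 85637 = n188401 := ndS (p := 50639) (l := 5) rfl N50639 D188401
theorem N85638 : nd 85638 = n188402 := ndS (p := 50640) (l := 6) rfl N50640 D188402
theorem N85639 : nd 85639 = n188403 := ndS (p := 50642) (l := 6) rfl N50642 D188403
theorem N85640 : nd 85640 = n188404 := ndS (p := 50643) (l := 1) rfl N50643 D188404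
theorem N85641 : nd 85641 = n188405 := ndS (p := 50644) (l := 2) rfl N50644 D188405
theorem N85642 : nd 85642 = n188406 := ndS (p := 50644) (l := 4) rfl N50644 D188406
theorem N85643 : nd 85643 = n188407 := ndS (p := 50644) (l := 6) rfl N50644 D188407
theorem N85644 : nd 85644 = n188408 := ndS (p := 50645) (l := 6) rfl N50645 D188408
theorem N85645 : nd 85645 = n188409 := ndS (p := 50646) (l := 1) rfl N50646 D188409
theorem N85646 : nd 85646 = n188410 := ndS (p := 50646) (l := 7) rfl N50646 D188410
theorem N85647 : nd 85647 = n188411 := ndS (p := 50647) (l := 2) rfl N50647 D188411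
theorem N85648 : nd 85648 = n188412 := ndS (p := 50649) (l := 0) rfl N50649 D188412
theorem N85649 : nd 85649 = n188413 := ndS (p := 50649) (l := 1) rfl N50649 D188413
theorem N85650 : nd 85650 = n188414 := ndS (p := 50649) (l := 7) rfl N50649 D188414
theorem N85651 : nd 85651 = n188415 := ndS (p := 50650) (l := 3) rfl N50650 D188415
theorem N85652 : nd 85652 = n188416 := ndS (p := 50651) (l := 3) rfl N50651 D188416
theorem N85653 : nd 85653 = n188417 := ndS (p := 50651) (l := 6) rfl N50651 D188417
theorem N85654 : nd 85654 = n188418 := ndS (p := 50652) (l := 0) rfl N50652 D188418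
theorem N85655 : nd 85655 = n188419 := ndS (p := 50652) (l := 2) rfl N50652 D188419
theorem N85656 : nd 85656 = n188420 := ndS (p := 50652) (l := 5) rfl N50652 D188420
theorem N85657 : nd 85657 = n188421 := ndS (p := 50653) (l := 6) rfl N50653 D188421
theorem N85658 : nd 85658 = n188422 := ndS (p := 50654) (l := 0) rfl N50654 D188422
theorem N85659 : nd 85659 = n188423 := ndS (p := 50654) (l := 1) rfl N50654 D188423
theorem N85660 : nd 85660 = n188424 := ndS (p := 50654) (l := 5) rfl N50654 D188424
theorem N85661 : nd 85661 = n188425 := ndS (p := 50655) (l := 3) rfl N50655 D188425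
theorem N85662 : nd 85662 = n188426 := ndS (p := 50655) (l := 4) rfl N50655 D188426
theorem N85663 : nd 85663 = n188427 := ndS (p := 50655) (l := 6) rfl N50655 D188427
theorem N85664 : nd 85664 = n188428 := ndS (p := 50656) (l := 0) rfl N50656 D188428
theorem N85665 : nd 85665 = n188429 := ndS (p := 50656) (l := 7) rfl N50656 D188429
theorem N85666 : nd 85666 = n188430 := ndS (p := 50658) (l := 2) rfl N50658 D188430
theorem N85667 : nd 85667 = n188431 := ndS (p := 50660) (l := 3) rfl N50660 D188431
theorem N85668 : nd 85668 = n188432 := ndS (p := 50661) (l := 0) rfl N50661 D188432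
theorem N85669 : nd 85669 = n188433 := ndS (p := 50663) (l := 3) rfl N50663 D188433
theorem N85670 : nd 85670 = n188434 := ndS (p := 50663) (l := 6) rfl N50663 D188434
theorem N85671 : nd 85671 = n188435 := ndS (p := 50664) (l := 0) rfl N50664 D188435
theorem N85672 : nd 85672 = n188436 := ndS (p := 50664) (l := 7) rfl N50664 D188436
theorem N85673 : nd 85673 = n188437 := ndS (p := 50666) (l := 0) rfl N50666 D188437
theorem N85674 : nd 85674 = n188438 := ndS (p := 50666) (l := 1) rfl N50666 D188438
theorem N85675 : nd 85675 = n188439 := ndS (p := 50666) (l := 2) rfl N50666 D188439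
theorem N85676 : nd 85676 = n188440 := ndS (p := 50668) (l := 3) rfl N50668 D188440
theorem N85677 : nd 85677 = n188441 := ndS (p := 50668) (l := 6) rfl N50668 D188441
theorem N85678 : nd 85678 = n188442 := ndS (p := 50670) (l := 4) rfl N50670 D188442
theorem N85679 : nd 85679 = n188443 := ndS (p := 50671) (l := 0) rfl N50671 D188443
theorem N85680 : nd 85680 = n188444 := ndS (p := 50671) (l := 1) rfl N50671 D188444
theorem N85681 : nd 85681 = n188445 := ndS (p := 50672) (l := 4) rfl N50672 D188445
theorem N85682 : nd 85682 = n188446 := ndS (p := 50672) (l := 6) rfl N50672 D188446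
theorem N85683 : nd 85683 = n188447 := ndS (p := 50673) (l := 0) rfl N50673 D188447
theorem N85684 : nd 85684 = n188448 := ndS (p := 50673) (l := 1) rfl N50673 D188448
theorem N85685 : nd 85685 = n188449 := ndS (p := 50673) (l := 7) rfl N50673 D188449
theorem N85686 : nd 85686 = n188450 := ndS (p := 50678) (l := 1) rfl N50678 D188450
theorem N85687 : nd 85687 = n188451 := ndS (p := 50678) (l := 2) rfl N50678 D188451
theorem N85688 : nd 85688 = n188452 := ndS (p := 50679) (l := 0) rfl N50679 D188452
theorem N85689 : nd 85689 = n188453 := ndS (p := 50679) (l := 1) rfl N50679 D188453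
theorem N85690 : nd 85690 = n188454 := ndS (p := 50679) (l := 7) rfl N50679 D188454
theorem N85691 : nd 85691 = n188456 := ndS (p := 50680) (l := 3) rfl N50680 D188456
theorem N85692 : nd 85692 = n188457 := ndS (p := 50680) (l := 4) rfl N50680 D188457
theorem N85693 : nd 85693 = n188458 := ndS (p := 50680) (l := 5) rfl N50680 D188458
theorem N85694 : nd 85694 = n188459 := ndS (p := 50680) (l := 6) rfl N50680 D188459
theorem N85695 : nd 85695 = n188460 := ndS (p := 50681) (l := 3) rfl N50681 D188460
theorem N85696 : nd 85696 = n188461 := ndS (p := 50681) (l := 4) rfl N50681 D188461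
theorem N85697 : nd 85697 = n188462 := ndS (p := 50681) (l := 5) rfl N50681 D188462
theorem N85698 : nd 85698 = n188463 := ndS (p := 50681) (l := 6) rfl N50681 D188463
theorem N85699 : nd 85699 = n188464 := ndS (p := 50686) (l := 4) rfl N50686 D188464
theorem N85700 : nd 85700 = n188465 := ndS (p := 50686) (l := 6) rfl N50686 D188465
theorem N85701 : nd 85701 = n188466 := ndS (p := 50687) (l := 6) rfl N50687 D188466
theorem N85702 : nd 85702 = n188467 := ndS (p := 50688) (l := 0) rfl N50688 D188467
theorem N85703 : nd 85703 = n188468 := ndS (p := 50688) (l := 1) rfl N50688 D188468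
theorem N85704 : nd 85704 = n188469 := ndS (p := 50688) (l := 7) rfl N50688 D188469
theorem N85705 : nd 85705 = n188470 := ndS (p := 50689) (l := 1) rfl N50689 D188470
theorem N85706 : nd 85706 = n188471 := ndS (p := 50689) (l := 5) rfl N50689 D188471
theorem N85707 : nd 85707 = n188472 := ndS (p := 50690) (l := 6) rfl N50690 D188472
theorem N85708 : nd 85708 = n188473 := ndS (p := 50691) (l := 4) rfl N50691 D188473
theorem N85709 : nd 85709 = n188474 := ndS (p := 50691) (l := 6) rfl N50691 D188474
theorem N85710 : nd 85710 = n188475 := ndS (p := 50693) (l := 1) rfl N50693 D188475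
theorem N85711 : nd 85711 = n188476 := ndS (p := 50694) (l := 6) rfl N50694 D188476
theorem N85712 : nd 85712 = n188477 := ndS (p := 50695) (l := 3) rfl N50695 D188477
theorem N85713 : nd 85713 = n188478 := ndS (p := 50695) (l := 6) rfl N50695 D188478
theorem N85714 : nd 85714 = n188479 := ndS (p := 50696) (l := 6) rfl N50696 D188479
theorem N85715 : nd 85715 = n188480 := ndS (p := 50697) (l := 4) rfl N50697 D188480
theorem N85716 : nd 85716 = n188481 := ndS (p := 50697) (l := 6) rfl N50697 D188481
theorem N85717 : nd 85717 = n188482 := ndS (p := 50698) (l := 0) rfl N50698 D188482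
theorem N85718 : nd 85718 = n188483 := ndS (p := 50698) (l := 1) rfl N50698 D188483
theorem N85719 : nd 85719 = n188484 := ndS (p := 50698) (l := 5) rfl N50698 D188484
theorem N85720 : nd 85720 = n188485 := ndS (p := 50699) (l := 0) rfl N50699 D188485
theorem N85721 : nd 85721 = n188486 := ndS (p := 50699) (l := 1) rfl N50699 D188486
theorem N85722 : nd 85722 = n188487 := ndS (p := 50699) (l := 5) rfl N50699 D188487
theorem N85723 : nd 85723 = n188488 := ndS (p := 50699) (l := 7) rfl N50699 D188488
theorem N85724 : nd 85724 = n188489 := ndS (p := 50701) (l := 6) rfl N50701 D188489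
theorem N85725 : nd 85725 = n188490 := ndS (p := 50702) (l := 3) rfl N50702 D188490
theorem N85726 : nd 85726 = n188491 := ndS (p := 50702) (l := 5) rfl N50702 D188491
theorem N85727 : nd 85727 = n188492 := ndS (p := 50702) (l := 6) rfl N50702 D188492
theorem N85728 : nd 85728 = n188493 := ndS (p := 50704) (l := 0) rfl N50704 D188493
theorem N85729 : nd 85729 = n188494 := ndS (p := 50704) (l := 2) rfl N50704 D188494
theorem N85730 : nd 85730 = n188495 := ndS (p := 50705) (l := 5) rfl N50705 D188495
theorem N85731 : nd 85731 = n188496 := ndS (p := 50706) (l := 1) rfl N50706 D188496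
theorem N85732 : nd 85732 = n188497 := ndS (p := 50706) (l := 5) rfl N50706 D188497
theorem N85733 : nd 85733 = n188498 := ndS (p := 50706) (l := 7) rfl N50706 D188498
theorem N85734 : nd 85734 = n188499 := ndS (p := 50708) (l := 3) rfl N50708 D188499
theorem N85735 : nd 85735 = n188500 := ndS (p := 50708) (l := 4) rfl N50708 D188500
theorem N85736 : nd 85736 = n188501 := ndS (p := 50709) (l := 4) rfl N50709 D188501
theorem N85737 : nd 85737 = n188502 := ndS (p := 50709) (l := 6) rfl N50709 D188502
theorem N85738 : nd 85738 = n188503 := ndS (p := 50710) (l := 6) rfl N50710 D188503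
theorem N85739 : nd 85739 = n188504 := ndS (p := 50712) (l := 0) rfl N50712 D188504
theorem N85740 : nd 85740 = n188505 := ndS (p := 50712) (l := 1) rfl N50712 D188505
theorem N85741 : nd 85741 = n188506 := ndS (p := 50712) (l := 7) rfl N50712 D188506
theorem N85742 : nd 85742 = n188507 := ndS (p := 50714) (l := 6) rfl N50714 D188507
theorem N85743 : nd 85743 = n188508 := ndS (p := 50715) (l := 0) rfl N50715 D188508
theorem N85744 : nd 85744 = n188509 := ndS (p := 50715) (l := 1) rfl N50715 D188509
theorem N85745 : nd 85745 = n188510 := ndS (p := 50718) (l := 0) rfl N50718 D188510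
theorem N85746 : nd 85746 = n188511 := ndS (p := 50718) (l := 1) rfl N50718 D188511
theorem N85747 : nd 85747 = n188512 := ndS (p := 50718) (l := 2) rfl N50718 D188512
theorem N85748 : nd 85748 = n188513 := ndS (p := 50718) (l := 6) rfl N50718 D188513
theorem N85749 : nd 85749 = n188514 := ndS (p := 50719) (l := 0) rfl N50719 D188514
theorem N85750 : nd 85750 = n188515 := ndS (p := 50719) (l := 1) rfl N50719 D188515
theorem N85751 : nd 85751 = n188516 := ndS (p := 50719) (l := 5) rfl N50719 D188516
theorem N85752 : nd 85752 = n188517 := ndS (p := 50719) (l := 7) rfl N50719 D188517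
theorem N85753 : nd 85753 = n188520 := ndS (p := 50720) (l := 4) rfl N50720 D188520
theorem N85754 : nd 85754 = n188521 := ndS (p := 50720) (l := 5) rfl N50720 D188521
theorem N85755 : nd 85755 = n188522 := ndS (p := 50720) (l := 6) rfl N50720 D188522
theorem N85756 : nd 85756 = n188524 := ndS (p := 50721) (l := 3) rfl N50721 D188524
theorem N85757 : nd 85757 = n188525 := ndS (p := 50721) (l := 4) rfl N50721 D188525
theorem N85758 : nd 85758 = n188526 := ndS (p := 50721) (l := 5) rfl N50721 D188526
theorem N85759 : nd 85759 = n188527 := ndS (p := 50721) (l := 6) rfl N50721 D188527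
theorem N85760 : nd 85760 = n188528 := ndS (p := 50723) (l := 3) rfl N50723 D188528
theorem N85761 : nd 85761 = n188529 := ndS (p := 50724) (l := 5) rfl N50724 D188529
theorem N85762 : nd 85762 = n188530 := ndS (p := 50724) (l := 7) rfl N50724 D188530
theorem N85763 : nd 85763 = n188531 := ndS (p := 50725) (l := 5) rfl N50725 D188531
theorem N85764 : nd 85764 = n188532 := ndS (p := 50725) (l := 6) rfl N50725 D188532
theorem N85765 : nd 85765 = n188533 := ndS (p := 50728) (l := 3) rfl N50728 D188533
theorem N85766 : nd 85766 = n188534 := ndS (p := 50728) (l := 5) rfl N50728 D188534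
theorem N85767 : nd 85767 = n188535 := ndS (p := 50731) (l := 3) rfl N50731 D188535
theorem N85768 : nd 85768 = n188536 := ndS (p := 50731) (l := 5) rfl N50731 D188536
theorem N85769 : nd 85769 = n188537 := ndS (p := 50732) (l := 0) rfl N50732 D188537
theorem N85770 : nd 85770 = n188538 := ndS (p := 50732) (l := 4) rfl N50732 D188538
theorem N85771 : nd 85771 = n188539 := ndS (p := 50732) (l := 6) rfl N50732 D188539
theorem N85772 : nd 85772 = n188540 := ndS (p := 50734) (l := 5) rfl N50734 D188540
theorem N85773 : nd 85773 = n188541 := ndS (p := 50734) (l := 6) rfl N50734 D188541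
theorem N85774 : nd 85774 = n188542 := ndS (p := 50735) (l := 5) rfl N50735 D188542
theorem N85775 : nd 85775 = n188543 := ndS (p := 50736) (l := 4) rfl N50736 D188543
theorem N85776 : nd 85776 = n188544 := ndS (p := 50738) (l := 6) rfl N50738 D188544
theorem N85777 : nd 85777 = n188545 := ndS (p := 50739) (l := 3) rfl N50739 D188545
theorem N85778 : nd 85778 = n188546 := ndS (p := 50739) (l := 6) rfl N50739 D188546
theorem N85779 : nd 85779 = n188547 := ndS (p := 50740) (l := 0) rfl N50740 D188547
theorem N85780 : nd 85780 = n188548 := ndS (p := 50740) (l := 5) rfl N50740 D188548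
theorem N85781 : nd 85781 = n188549 := ndS (p := 50740) (l := 7) rfl N50740 D188549
theorem N85782 : nd 85782 = n188550 := ndS (p := 50745) (l := 6) rfl N50745 D188550
theorem N85783 : nd 85783 = n188551 := ndS (p := 50747) (l := 4) rfl N50747 D188551
theorem N85784 : nd 85784 = n188552 := ndS (p := 50748) (l := 6) rfl N50748 D188552
theorem N85785 : nd 85785 = n188553 := ndS (p := 50750) (l := 0) rfl N50750 D188553
theorem N85786 : nd 85786 = n188554 := ndS (p := 50750) (l := 1) rfl N50750 D188554
theorem N85787 : nd 85787 = n188555 := ndS (p := 50753) (l := 3) rfl N50753 D188555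
theorem N85788 : nd 85788 = n188556 := ndS (p := 50754) (l := 6) rfl N50754 D188556
theorem N85789 : nd 85789 = n188557 := ndS (p := 50756) (l := 5) rfl N50756 D188557
theorem N85790 : nd 85790 = n188558 := ndS (p := 50758) (l := 0) rfl N50758 D188558
theorem N85791 : nd 85791 = n188559 := ndS (p := 50759) (l := 3) rfl N50759 D188559
theorem N85792 : nd 85792 = n188560 := ndS (p := 50759) (l := 5) rfl N50759 D188560
theorem N85793 : nd 85793 = n188561 := ndS (p := 50760) (l := 1) rfl N50760 D188561
theorem N85794 : nd 85794 = n188562 := ndS (p := 50760) (l := 6) rfl N50760 D188562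
theorem N85795 : nd 85795 = n188563 := ndS (p := 50761) (l := 1) rfl N50761 D188563
theorem N85796 : nd 85796 = n188564 := ndS (p := 50762) (l := 6) rfl N50762 D188564
theorem N85797 : nd 85797 = n188565 := ndS (p := 50766) (l := 4) rfl N50766 D188565
theorem N85798 : nd 85798 = n188566 := ndS (p := 50767) (l := 4) rfl N50767 D188566
theorem N85799 : nd 85799 = n188567 := ndS (p := 50769) (l := 4) rfl N50769 D188567
theorem N85800 : nd 85800 = n188568 := ndS (p := 50769) (l := 6) rfl N50769 D188568
theorem N85801 : nd 85801 = n188569 := ndS (p := 50770) (l := 1) rfl N50770 D188569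
theorem N85802 : nd 85802 = n188570 := ndS (p := 50770) (l := 3) rfl N50770 D188570
theorem N85803 : nd 85803 = n188571 := ndS (p := 50770) (l := 5) rfl N50770 D188571
theorem N85804 : nd 85804 = n188572 := ndS (p := 50770) (l := 7) rfl N50770 D188572
theorem N85805 : nd 85805 = n188573 := ndS (p := 50772) (l := 1) rfl N50772 D188573
theorem N85806 : nd 85806 = n188574 := ndS (p := 50772) (l := 4) rfl N50772 D188574
theorem N85807 : nd 85807 = n188575 := ndS (p := 50772) (l := 6) rfl N50772 D188575
theorem N85808 : nd 85808 = n188576 := ndS (p := 50774) (l := 3) rfl N50774 D188576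
theorem N85809 : nd 85809 = n188577 := ndS (p := 50774) (l := 6) rfl N50774 D188577
theorem N85810 : nd 85810 = n188578 := ndS (p := 50775) (l := 0) rfl N50775 D188578
theorem N85811 : nd 85811 = n188579 := ndS (p := 50775) (l := 1) rfl N50775 D188579
theorem N85812 : nd 85812 = n188580 := ndS (p := 50776) (l := 4) rfl N50776 D188580
theorem N85813 : nd 85813 = n188581 := ndS (p := 50776) (l := 5) rfl N50776 D188581
theorem N85814 : nd 85814 = n188582 := ndS (p := 50777) (l := 5) rfl N50777 D188582
theorem N85815 : nd 85815 = n188583 := ndS (p := 50778) (l := 0) rfl N50778 D188583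
theorem N85816 : nd 85816 = n188584 := ndS (p := 50778) (l := 1) rfl N50778 D188584
theorem N85817 : nd 85817 = n188585 := ndS (p := 50778) (l := 4) rfl N50778 D188585
theorem N85818 : nd 85818 = n188586 := ndS (p := 50779) (l := 0) rfl N50779 D188586
theorem N85819 : nd 85819 = n188587 := ndS (p := 50779) (l := 1) rfl N50779 D188587
theorem N85820 : nd 85820 = n188588 := ndS (p := 50780) (l := 3) rfl N50780 D188588
theorem N85821 : nd 85821 = n188589 := ndS (p := 50782) (l := 2) rfl N50782 D188589
theorem N85822 : nd 85822 = n188590 := ndS (p := 50782) (l := 6) rfl N50782 D188590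
theorem N85823 : nd 85823 = n188591 := ndS (p := 50784) (l := 7) rfl N50784 D188591
theorem N85824 : nd 85824 = n188592 := ndS (p := 50785) (l := 0) rfl N50785 D188592
theorem N85825 : nd 85825 = n188593 := ndS (p := 50785) (l := 1) rfl N50785 D188593
theorem N85826 : nd 85826 = n188594 := ndS (p := 50785) (l := 2) rfl N50785 D188594
theorem N85827 : nd 85827 = n188595 := ndS (p := 50785) (l := 7) rfl N50785 D188595
theorem N85828 : nd 85828 = n188596 := ndS (p := 50786) (l := 6) rfl N50786 D188596
theorem N85829 : nd 85829 = n188597 := ndS (p := 50790) (l := 0) rfl N50790 D188597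
theorem N85830 : nd 85830 = n188598 := ndS (p := 50790) (l := 7) rfl N50790 D188598
theorem N85831 : nd 85831 = n188599 := ndS (p := 50791) (l := 4) rfl N50791 D188599
theorem N85832 : nd 85832 = n188600 := ndS (p := 50794) (l := 6) rfl N50794 D188600
theorem N85833 : nd 85833 = n188601 := ndS (p := 50797) (l := 4) rfl N50797 D188601
theorem N85834 : nd 85834 = n188602 := ndS (p := 50797) (l := 6) rfl N50797 D188602
theorem N85835 : nd 85835 = n188603 := ndS (p := 50798) (l := 0) rfl N50798 D188603
theorem N85836 : nd 85836 = n188604 := ndS (p := 50798) (l := 1) rfl N50798 D188604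
theorem N85837 : nd 85837 = n188605 := ndS (p := 50798) (l := 5) rfl N50798 D188605
theorem N85838 : nd 85838 = n188606 := ndS (p := 50798) (l := 6) rfl N50798 D188606
theorem N85839 : nd 85839 = n188607 := ndS (p := 50799) (l := 0) rfl N50799 D188607
theorem N85840 : nd 85840 = n188608 := ndS (p := 50799) (l := 1) rfl N50799 D188608
theorem N85841 : nd 85841 = n188609 := ndS (p := 50799) (l := 7) rfl N50799 D188609
theorem N85842 : nd 85842 = n188610 := ndS (p := 50800) (l := 3) rfl N50800 D188610
theorem N85843 : nd 85843 = n188611 := ndS (p := 50800) (l := 5) rfl N50800 D188611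
theorem N85844 : nd 85844 = n188612 := ndS (p := 50801) (l := 3) rfl N50801 D188612
theorem N85845 : nd 85845 = n188613 := ndS (p := 50801) (l := 5) rfl N50801 D188613
theorem N85846 : nd 85846 = n188614 := ndS (p := 50801) (l := 6) rfl N50801 D188614
theorem N85847 : nd 85847 = n188615 := ndS (p := 50803) (l := 5) rfl N50803 D188615
theorem N85848 : nd 85848 = n188616 := ndS (p := 50804) (l := 4) rfl N50804 D188616
theorem N85849 : nd 85849 = n188617 := ndS (p := 50805) (l := 5) rfl N50805 D188617
theorem N85850 : nd 85850 = n188618 := ndS (p := 50806) (l := 5) rfl N50806 D188618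
theorem N85851 : nd 85851 = n188619 := ndS (p := 50807) (l := 1) rfl N50807 D188619
theorem N85852 : nd 85852 = n188620 := ndS (p := 50807) (l := 4) rfl N50807 D188620
theorem N85853 : nd 85853 = n188621 := ndS (p := 50808) (l := 5) rfl N50808 D188621
theorem N85854 : nd 85854 = n188622 := ndS (p := 50808) (l := 6) rfl N50808 D188622
theorem N85855 : nd 85855 = n188623 := ndS (p := 50809) (l := 4) rfl N50809 D188623
theorem N85856 : nd 85856 = n188624 := ndS (p := 50809) (l := 6) rfl N50809 D188624
theorem N85857 : nd 85857 = n188625 := ndS (p := 50811) (l := 3) rfl N50811 D188625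
theorem N85858 : nd 85858 = n188626 := ndS (p := 50811) (l := 6) rfl N50811 D188626
theorem N85859 : nd 85859 = n188627 := ndS (p := 50812) (l := 3) rfl N50812 D188627
theorem N85860 : nd 85860 = n188628 := ndS (p := 50812) (l := 6) rfl N50812 D188628
theorem N85861 : nd 85861 = n188629 := ndS (p := 50813) (l := 3) rfl N50813 D188629
theorem N85862 : nd 85862 = n188630 := ndS (p := 50815) (l := 0) rfl N50815 D188630
theorem N85863 : nd 85863 = n188631 := ndS (p := 50815) (l := 1) rfl N50815 D188631
theorem N85864 : nd 85864 = n188632 := ndS (p := 50815) (l := 4) rfl N50815 D188632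
theorem N85865 : nd 85865 = n188633 := ndS (p := 50815) (l := 6) rfl N50815 D188633
theorem N85866 : nd 85866 = n188634 := ndS (p := 50816) (l := 6) rfl N50816 D188634
theorem N85867 : nd 85867 = n188635 := ndS (p := 50817) (l := 3) rfl N50817 D188635
theorem N85868 : nd 85868 = n188636 := ndS (p := 50817) (l := 6) rfl N50817 D188636
theorem N85869 : nd 85869 = n188637 := ndS (p := 50818) (l := 0) rfl N50818 D188637
theorem N85870 : nd 85870 = n188639 := ndS (p := 50818) (l := 7) rfl N50818 D188639
theorem N85871 : nd 85871 = n188640 := ndS (p := 50819) (l := 5) rfl N50819 D188640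
theorem N85872 : nd 85872 = n188641 := ndS (p := 50822) (l := 6) rfl N50822 D188641
theorem N85873 : nd 85873 = n188642 := ndS (p := 50823) (l := 0) rfl N50823 D188642
theorem N85874 : nd 85874 = n188643 := ndS (p := 50823) (l := 7) rfl N50823 D188643
theorem N85875 : nd 85875 = n188644 := ndS (p := 50824) (l := 4) rfl N50824 D188644
theorem N85876 : nd 85876 = n188645 := ndS (p := 50825) (l := 3) rfl N50825 D188645
theorem N85877 : nd 85877 = n188646 := ndS (p := 50825) (l := 6) rfl N50825 D188646
theorem N85878 : nd 85878 = n188647 := ndS (p := 50826) (l := 0) rfl N50826 D188647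
theorem N85879 : nd 85879 = n188648 := ndS (p := 50826) (l := 1) rfl N50826 D188648
theorem N85880 : nd 85880 = n188649 := ndS (p := 50826) (l := 7) rfl N50826 D188649
theorem N85881 : nd 85881 = n188650 := ndS (p := 50827) (l := 6) rfl N50827 D188650
theorem N85882 : nd 85882 = n188651 := ndS (p := 50828) (l := 6) rfl N50828 D188651
theorem N85883 : nd 85883 = n188652 := ndS (p := 50829) (l := 0) rfl N50829 D188652
theorem N85884 : nd 85884 = n188653 := ndS (p := 50829) (l := 1) rfl N50829 D188653
theorem N85885 : nd 85885 = n188654 := ndS (p := 50829) (l := 7) rfl N50829 D188654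
theorem N85886 : nd 85886 = n188655 := ndS (p := 50831) (l := 6) rfl N50831 D188655
theorem N85887 : nd 85887 = n188656 := ndS (p := 50832) (l := 0) rfl N50832 D188656
theorem N85888 : nd 85888 = n188657 := ndS (p := 50832) (l := 1) rfl N50832 D188657
theorem N85889 : nd 85889 = n188658 := ndS (p := 50832) (l := 2) rfl N50832 D188658
theorem N85890 : nd 85890 = n188659 := ndS (p := 50832) (l := 5) rfl N50832 D188659
theorem N85891 : nd 85891 = n188660 := ndS (p := 50832) (l := 7) rfl N50832 D188660
theorem N85892 : nd 85892 = n188661 := ndS (p := 50833) (l := 6) rfl N50833 D188661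
theorem N85893 : nd 85893 = n188662 := ndS (p := 50834) (l := 6) rfl N50834 D188662
theorem N85894 : nd 85894 = n188663 := ndS (p := 50835) (l := 0) rfl N50835 D188663
theorem N85895 : nd 85895 = n188664 := ndS (p := 50835) (l := 1) rfl N50835 D188664
theorem N85896 : nd 85896 = n188665 := ndS (p := 50836) (l := 6) rfl N50836 D188665
theorem N85897 : nd 85897 = n188666 := ndS (p := 50839) (l := 0) rfl N50839 D188666
theorem N85898 : nd 85898 = n188667 := ndS (p := 50839) (l := 6) rfl N50839 D188667
theorem N85899 : nd 85899 = n188668 := ndS (p := 50840) (l := 6) rfl N50840 D188668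
theorem N85900 : nd 85900 = n188669 := ndS (p := 50841) (l := 0) rfl N50841 D188669
theorem N85901 : nd 85901 = n188670 := ndS (p := 50841) (l := 1) rfl N50841 D188670
theorem N85902 : nd 85902 = n188671 := ndS (p := 50841) (l := 7) rfl N50841 D188671
theorem N85903 : nd 85903 = n188672 := ndS (p := 50844) (l := 0) rfl N50844 D188672
theorem N85904 : nd 85904 = n188673 := ndS (p := 50845) (l := 6) rfl N50845 D188673
theorem N85905 : nd 85905 = n188674 := ndS (p := 50846) (l := 0) rfl N50846 D188674
theorem N85906 : nd 85906 = n188675 := ndS (p := 50846) (l := 1) rfl N50846 D188675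
theorem N85907 : nd 85907 = n188676 := ndS (p := 50846) (l := 7) rfl N50846 D188676
theorem N85908 : nd 85908 = n188677 := ndS (p := 50848) (l := 1) rfl N50848 D188677
theorem N85909 : nd 85909 = n188678 := ndS (p := 50848) (l := 2) rfl N50848 D188678
theorem N85910 : nd 85910 = n188679 := ndS (p := 50849) (l := 3) rfl N50849 D188679
theorem N85911 : nd 85911 = n188680 := ndS (p := 50849) (l := 4) rfl N50849 D188680
theorem N85912 : nd 85912 = n188681 := ndS (p := 50850) (l := 3) rfl N50850 D188681
theorem N85913 : nd 85913 = n188682 := ndS (p := 50850) (l := 4) rfl N50850 D188682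
theorem N85914 : nd 85914 = n188683 := ndS (p := 50853) (l := 3) rfl N50853 D188683
theorem N85915 : nd 85915 = n188684 := ndS (p := 50853) (l := 6) rfl N50853 D188684
theorem N85916 : nd 85916 = n188685 := ndS (p := 50854) (l := 0) rfl N50854 D188685
theorem N85917 : nd 85917 = n188686 := ndS (p := 50854) (l := 1) rfl N50854 D188686
theorem N85918 : nd 85918 = n188687 := ndS (p := 50854) (l := 7) rfl N50854 D188687
theorem N85919 : nd 85919 = n188688 := ndS (p := 50856) (l := 5) rfl N50856 D188688
theorem N85920 : nd 85920 = n188689 := ndS (p := 50858) (l := 5) rfl N50858 D188689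
theorem N85921 : nd 85921 = n188690 := ndS (p := 50859) (l := 0) rfl N50859 D188690
theorem N85922 : nd 85922 = n188691 := ndS (p := 50859) (l := 1) rfl N50859 D188691
theorem N85923 : nd 85923 = n188692 := ndS (p := 50859) (l := 6) rfl N50859 D188692
theorem N85924 : nd 85924 = n188693 := ndS (p := 50860) (l := 0) rfl N50860 D188693
theorem N85925 : nd 85925 = n188694 := ndS (p := 50860) (l := 1) rfl N50860 D188694
theorem N85926 : nd 85926 = n188695 := ndS (p := 50860) (l := 7) rfl N50860 D188695
theorem N85927 : nd 85927 = n188697 := ndS (p := 50861) (l := 3) rfl N50861 D188697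
theorem N85928 : nd 85928 = n188699 := ndS (p := 50861) (l := 5) rfl N50861 D188699
theorem N85929 : nd 85929 = n188701 := ndS (p := 50862) (l := 3) rfl N50862 D188701
theorem N85930 : nd 85930 = n188703 := ndS (p := 50862) (l := 5) rfl N50862 D188703
theorem N85931 : nd 85931 = n188704 := ndS (p := 50862) (l := 6) rfl N50862 D188704
theorem N85932 : nd 85932 = n188705 := ndS (p := 50867) (l := 6) rfl N50867 D188705
theorem N85933 : nd 85933 = n188706 := ndS (p := 50869) (l := 1) rfl N50869 D188706
theorem N85934 : nd 85934 = n188707 := ndS (p := 50870) (l := 4) rfl N50870 D188707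
theorem N85935 : nd 85935 = n188708 := ndS (p := 50871) (l := 6) rfl N50871 D188708
theorem N85936 : nd 85936 = n188709 := ndS (p := 50872) (l := 6) rfl N50872 D188709
theorem N85937 : nd 85937 = n188710 := ndS (p := 50873) (l := 3) rfl N50873 D188710
theorem N85938 : nd 85938 = n188711 := ndS (p := 50874) (l := 0) rfl N50874 D188711
theorem N85939 : nd 85939 = n188712 := ndS (p := 50874) (l := 4) rfl N50874 D188712
theorem N85940 : nd 85940 = n188713 := ndS (p := 50877) (l := 0) rfl N50877 D188713
theorem N85941 : nd 85941 = n188714 := ndS (p := 50877) (l := 1) rfl N50877 D188714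
theorem N85942 : nd 85942 = n188715 := ndS (p := 50877) (l := 4) rfl N50877 D188715
theorem N85943 : nd 85943 = n188716 := ndS (p := 50877) (l := 6) rfl N50877 D188716
theorem N85944 : nd 85944 = n188717 := ndS (p := 50879) (l := 5) rfl N50879 D188717
theorem N85945 : nd 85945 = n188718 := ndS (p := 50879) (l := 6) rfl N50879 D188718
theorem N85946 : nd 85946 = n188719 := ndS (p := 50880) (l := 5) rfl N50880 D188719
theorem N85947 : nd 85947 = n188720 := ndS (p := 50882) (l := 5) rfl N50882 D188720
theorem N85948 : nd 85948 = n188721 := ndS (p := 50883) (l := 4) rfl N50883 D188721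
theorem N85949 : nd 85949 = n188722 := ndS (p := 50885) (l := 0) rfl N50885 D188722
theorem N85950 : nd 85950 = n188723 := ndS (p := 50885) (l := 1) rfl N50885 D188723
theorem N85951 : nd 85951 = n188724 := ndS (p := 50886) (l := 6) rfl N50886 D188724
theorem N85952 : nd 85952 = n188725 := ndS (p := 50889) (l := 5) rfl N50889 D188725
theorem N85953 : nd 85953 = n188726 := ndS (p := 50891) (l := 2) rfl N50891 D188726
theorem N85954 : nd 85954 = n188727 := ndS (p := 50892) (l := 1) rfl N50892 D188727
theorem N85955 : nd 85955 = n188728 := ndS (p := 50892) (l := 7) rfl N50892 D188728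
theorem N85956 : nd 85956 = n188729 := ndS (p := 50894) (l := 1) rfl N50894 D188729
theorem N85957 : nd 85957 = n188730 := ndS (p := 50895) (l := 3) rfl N50895 D188730
theorem N85958 : nd 85958 = n188731 := ndS (p := 50895) (l := 6) rfl N50895 D188731
theorem N85959 : nd 85959 = n188732 := ndS (p := 50897) (l := 2) rfl N50897 D188732
theorem N85960 : nd 85960 = n188733 := ndS (p := 50901) (l := 6) rfl N50901 D188733
theorem N85961 : nd 85961 = n188734 := ndS (p := 50903) (l := 1) rfl N50903 D188734
theorem N85962 : nd 85962 = n188735 := ndS (p := 50903) (l := 4) rfl N50903 D188735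
theorem N85963 : nd 85963 = n188736 := ndS (p := 50903) (l := 6) rfl N50903 D188736
theorem N85964 : nd 85964 = n188737 := ndS (p := 50905) (l := 3) rfl N50905 D188737
theorem N85965 : nd 85965 = n188738 := ndS (p := 50905) (l := 6) rfl N50905 D188738
theorem N85966 : nd 85966 = n188739 := ndS (p := 50906) (l := 6) rfl N50906 D188739
theorem N85967 : nd 85967 = n188740 := ndS (p := 50907) (l := 3) rfl N50907 D188740
theorem N85968 : nd 85968 = n188741 := ndS (p := 50907) (l := 6) rfl N50907 D188741
theorem N85969 : nd 85969 = n188742 := ndS (p := 50909) (l := 4) rfl N50909 D188742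
theorem N85970 : nd 85970 = n188743 := ndS (p := 50909) (l := 5) rfl N50909 D188743
theorem N85971 : nd 85971 = n188744 := ndS (p := 50910) (l := 5) rfl N50910 D188744
theorem N85972 : nd 85972 = n188745 := ndS (p := 50911) (l := 0) rfl N50911 D188745
theorem N85973 : nd 85973 = n188746 := ndS (p := 50911) (l := 1) rfl N50911 D188746
theorem N85974 : nd 85974 = n188747 := ndS (p := 50911) (l := 4) rfl N50911 D188747
theorem N85975 : nd 85975 = n188748 := ndS (p := 50911) (l := 6) rfl N50911 D188748
theorem N85976 : nd 85976 = n188749 := ndS (p := 50912) (l := 3) rfl N50912 D188749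
theorem N85977 : nd 85977 = n188750 := ndS (p := 50912) (l := 6) rfl N50912 D188750
theorem N85978 : nd 85978 = n188751 := ndS (p := 50913) (l := 0) rfl N50913 D188751
theorem N85979 : nd 85979 = n188752 := ndS (p := 50913) (l := 7) rfl N50913 D188752
theorem N85980 : nd 85980 = n188753 := ndS (p := 50914) (l := 0) rfl N50914 D188753
theorem N85981 : nd 85981 = n188754 := ndS (p := 50914) (l := 1) rfl N50914 D188754
theorem N85982 : nd 85982 = n188755 := ndS (p := 50914) (l := 7) rfl N50914 D188755
theorem N85983 : nd 85983 = n188756 := ndS (p := 50915) (l := 4) rfl N50915 D188756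
theorem N85984 : nd 85984 = n188757 := ndS (p := 50915) (l := 6) rfl N50915 D188757
theorem N85985 : nd 85985 = n188758 := ndS (p := 50916) (l := 0) rfl N50916 D188758
theorem N85986 : nd 85986 = n188759 := ndS (p := 50916) (l := 1) rfl N50916 D188759
theorem N85987 : nd 85987 = n188760 := ndS (p := 50916) (l := 7) rfl N50916 D188760
theorem N85988 : nd 85988 = n188761 := ndS (p := 50917) (l := 6) rfl N50917 D188761
theorem N85989 : nd 85989 = n188762 := ndS (p := 50918) (l := 3) rfl N50918 D188762
theorem N85990 : nd 85990 = n188763 := ndS (p := 50918) (l := 6) rfl N50918 D188763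
theorem N85991 : nd 85991 = n188764 := ndS (p := 50922) (l := 4) rfl N50922 D188764
theorem N85992 : nd 85992 = n188765 := ndS (p := 50922) (l := 6) rfl N50922 D188765
theorem N85993 : nd 85993 = n188767 := ndS (p := 50923) (l := 6) rfl N50923 D188767
theorem N85994 : nd 85994 = n188768 := ndS (p := 50926) (l := 5) rfl N50926 D188768
theorem N85995 : nd 85995 = n188769 := ndS (p := 50927) (l := 4) rfl N50927 D188769
theorem N85996 : nd 85996 = n188770 := ndS (p := 50929) (l := 6) rfl N50929 D188770
theorem N85997 : nd 85997 = n188771 := ndS (p := 50932) (l := 4) rfl N50932 D188771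
theorem N85998 : nd 85998 = n188772 := ndS (p := 50933) (l := 5) rfl N50933 D188772
theorem N85999 : nd 85999 = n188773 := ndS (p := 50937) (l := 5) rfl N50937 D188773
theorem N86000 : nd 86000 = n188774 := ndS (p := 50939) (l := 5) rfl N50939 D188774
theorem N86001 : nd 86001 = n188775 := ndS (p := 50940) (l := 4) rfl N50940 D188775
theorem N86002 : nd 86002 = n188776 := ndS (p := 50940) (l := 6) rfl N50940 D188776
theorem N86003 : nd 86003 = n188777 := ndS (p := 50941) (l := 6) rfl N50941 D188777
theorem N86004 : nd 86004 = n188778 := ndS (p := 50942) (l := 1) rfl N50942 D188778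
theorem N86005 : nd 86005 = n188779 := ndS (p := 50945) (l := 6) rfl N50945 D188779
theorem N86006 : nd 86006 = n188780 := ndS (p := 50946) (l := 3) rfl N50946 D188780
theorem N86007 : nd 86007 = n188781 := ndS (p := 50948) (l := 4) rfl N50948 D188781
theorem N86008 : nd 86008 = n188782 := ndS (p := 50948) (l := 6) rfl N50948 D188782
theorem N86009 : nd 86009 = n188783 := ndS (p := 50949) (l := 1) rfl N50949 D188783
theorem N86010 : nd 86010 = n188784 := ndS (p := 50949) (l := 7) rfl N50949 D188784
theorem N86011 : nd 86011 = n188785 := ndS (p := 50950) (l := 0) rfl N50950 D188785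
theorem N86012 : nd 86012 = n188786 := ndS (p := 50950) (l := 1) rfl N50950 D188786
theorem N86013 : nd 86013 = n188787 := ndS (p := 50950) (l := 7) rfl N50950 D188787
theorem N86014 : nd 86014 = n188788 := ndS (p := 50951) (l := 0) rfl N50951 D188788
theorem N86015 : nd 86015 = n188789 := ndS (p := 50951) (l := 2) rfl N50951 D188789
theorem N86016 : nd 86016 = n188790 := ndS (p := 50955) (l := 6) rfl N50955 D188790
theorem N86017 : nd 86017 = n188791 := ndS (p := 50956) (l := 0) rfl N50956 D188791
theorem N86018 : nd 86018 = n188792 := ndS (p := 50959) (l := 0) rfl N50959 D188792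
theorem N86019 : nd 86019 = n188793 := ndS (p := 50959) (l := 1) rfl N50959 D188793
theorem N86020 : nd 86020 = n188794 := ndS (p := 50959) (l := 7) rfl N50959 D188794
theorem N86021 : nd 86021 = n188795 := ndS (p := 50960) (l := 4) rfl N50960 D188795
theorem N86022 : nd 86022 = n188796 := ndS (p := 50960) (l := 6) rfl N50960 D188796
theorem N86023 : nd 86023 = n188797 := ndS (p := 50962) (l := 0) rfl N50962 D188797
theorem N86024 : nd 86024 = n188798 := ndS (p := 50962) (l := 1) rfl N50962 D188798
theorem N86025 : nd 86025 = n188799 := ndS (p := 50962) (l := 2) rfl N50962 D188799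
theorem N86026 : nd 86026 = n188800 := ndS (p := 50962) (l := 5) rfl N50962 D188800
theorem N86027 : nd 86027 = n188801 := ndS (p := 50962) (l := 7) rfl N50962 D188801
theorem N86028 : nd 86028 = n188802 := ndS (p := 50963) (l := 6) rfl N50963 D188802
theorem N86029 : nd 86029 = n188803 := ndS (p := 50964) (l := 6) rfl N50964 D188803
theorem N86030 : nd 86030 = n188804 := ndS (p := 50965) (l := 0) rfl N50965 D188804
theorem N86031 : nd 86031 = n188805 := ndS (p := 50966) (l := 6) rfl N50966 D188805
theorem N86032 : nd 86032 = n188806 := ndS (p := 50967) (l := 6) rfl N50967 D188806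
theorem N86033 : nd 86033 = n188807 := ndS (p := 50968) (l := 3) rfl N50968 D188807
theorem N86034 : nd 86034 = n188808 := ndS (p := 50968) (l := 4) rfl N50968 D188808
theorem N86035 : nd 86035 = n188809 := ndS (p := 50968) (l := 6) rfl N50968 D188809
theorem N86036 : nd 86036 = n188810 := ndS (p := 50969) (l := 4) rfl N50969 D188810
theorem N86037 : nd 86037 = n188811 := ndS (p := 50970) (l := 5) rfl N50970 D188811
theorem N86038 : nd 86038 = n188812 := ndS (p := 50970) (l := 6) rfl N50970 D188812
theorem N86039 : nd 86039 = n188813 := ndS (p := 50971) (l := 0) rfl N50971 D188813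
theorem N86040 : nd 86040 = n188814 := ndS (p := 50971) (l := 1) rfl N50971 D188814
theorem N86041 : nd 86041 = n188815 := ndS (p := 50971) (l := 5) rfl N50971 D188815
theorem N86042 : nd 86042 = n188816 := ndS (p := 50971) (l := 7) rfl N50971 D188816
theorem N86043 : nd 86043 = n188817 := ndS (p := 50972) (l := 4) rfl N50972 D188817
theorem N86044 : nd 86044 = n188818 := ndS (p := 50973) (l := 3) rfl N50973 D188818
theorem N86045 : nd 86045 = n188819 := ndS (p := 50973) (l := 5) rfl N50973 D188819
theorem N86046 : nd 86046 = n188820 := ndS (p := 50973) (l := 6) rfl N50973 D188820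
theorem N86047 : nd 86047 = n188821 := ndS (p := 50974) (l := 0) rfl N50974 D188821
theorem N86048 : nd 86048 = n188822 := ndS (p := 50974) (l := 7) rfl N50974 D188822
theorem N86049 : nd 86049 = n188823 := ndS (p := 50975) (l := 0) rfl N50975 D188823
theorem N86050 : nd 86050 = n188824 := ndS (p := 50975) (l := 5) rfl N50975 D188824
theorem N86051 : nd 86051 = n188825 := ndS (p := 50975) (l := 6) rfl N50975 D188825
theorem N86052 : nd 86052 = n188826 := ndS (p := 50976) (l := 0) rfl N50976 D188826
theorem N86053 : nd 86053 = n188827 := ndS (p := 50976) (l := 1) rfl N50976 D188827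
theorem N86054 : nd 86054 = n188828 := ndS (p := 50976) (l := 7) rfl N50976 D188828
theorem N86055 : nd 86055 = n188829 := ndS (p := 50977) (l := 3) rfl N50977 D188829
theorem N86056 : nd 86056 = n188830 := ndS (p := 50977) (l := 5) rfl N50977 D188830
theorem N86057 : nd 86057 = n188831 := ndS (p := 50977) (l := 6) rfl N50977 D188831
theorem N86058 : nd 86058 = n188832 := ndS (p := 50978) (l := 0) rfl N50978 D188832
theorem N86059 : nd 86059 = n188833 := ndS (p := 50978) (l := 1) rfl N50978 D188833
theorem N86060 : nd 86060 = n188834 := ndS (p := 50978) (l := 7) rfl N50978 D188834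
theorem N86061 : nd 86061 = n188837 := ndS (p := 50980) (l := 6) rfl N50980 D188837
theorem N86062 : nd 86062 = n188838 := ndS (p := 50983) (l := 6) rfl N50983 D188838
theorem N86063 : nd 86063 = n188839 := ndS (p := 50984) (l := 6) rfl N50984 D188839
theorem N86064 : nd 86064 = n188840 := ndS (p := 50986) (l := 0) rfl N50986 D188840
theorem N86065 : nd 86065 = n188841 := ndS (p := 50986) (l := 1) rfl N50986 D188841
theorem N86066 : nd 86066 = n188842 := ndS (p := 50986) (l := 7) rfl N50986 D188842
theorem N86067 : nd 86067 = n188843 := ndS (p := 50987) (l := 4) rfl N50987 D188843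
theorem N86068 : nd 86068 = n188844 := ndS (p := 50988) (l := 3) rfl N50988 D188844
theorem N86069 : nd 86069 = n188845 := ndS (p := 50988) (l := 6) rfl N50988 D188845
theorem N86070 : nd 86070 = n188846 := ndS (p := 50989) (l := 0) rfl N50989 D188846
theorem N86071 : nd 86071 = n188847 := ndS (p := 50989) (l := 1) rfl N50989 D188847
theorem N86072 : nd 86072 = n188848 := ndS (p := 50989) (l := 7) rfl N50989 D188848
theorem N86073 : nd 86073 = n188849 := ndS (p := 50990) (l := 3) rfl N50990 D188849
theorem N86074 : nd 86074 = n188850 := ndS (p := 50990) (l := 6) rfl N50990 D188850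
theorem N86075 : nd 86075 = n188851 := ndS (p := 50993) (l := 3) rfl N50993 D188851
theorem N86076 : nd 86076 = n188852 := ndS (p := 50993) (l := 6) rfl N50993 D188852
theorem N86077 : nd 86077 = n188853 := ndS (p := 50994) (l := 6) rfl N50994 D188853
theorem N86078 : nd 86078 = n188854 := ndS (p := 50995) (l := 0) rfl N50995 D188854
theorem N86079 : nd 86079 = n188855 := ndS (p := 50995) (l := 1) rfl N50995 D188855
theorem N86080 : nd 86080 = n188856 := ndS (p := 50995) (l := 5) rfl N50995 D188856
theorem N86081 : nd 86081 = n188857 := ndS (p := 50995) (l := 7) rfl N50995 D188857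
theorem N86082 : nd 86082 = n188860 := ndS (p := 50996) (l := 4) rfl N50996 D188860
theorem N86083 : nd 86083 = n188861 := ndS (p := 50996) (l := 5) rfl N50996 D188861
theorem N86084 : nd 86084 = n188864 := ndS (p := 50997) (l := 4) rfl N50997 D188864
theorem N86085 : nd 86085 = n188865 := ndS (p := 50997) (l := 5) rfl N50997 D188865
theorem N86086 : nd 86086 = n188866 := ndS (p := 50997) (l := 6) rfl N50997 D188866
theorem N86087 : nd 86087 = n188867 := ndS (p := 50999) (l := 4) rfl N50999 D188867
theorem N86088 : nd 86088 = n188868 := ndS (p := 50999) (l := 6) rfl N50999 D188868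
theorem N86089 : nd 86089 = n188869 := ndS (p := 51000) (l := 5) rfl N51000 D188869
theorem N86090 : nd 86090 = n188870 := ndS (p := 51002) (l := 0) rfl N51002 D188870
theorem N86091 : nd 86091 = n188871 := ndS (p := 51002) (l := 1) rfl N51002 D188871
theorem N86092 : nd 86092 = n188872 := ndS (p := 51002) (l := 6) rfl N51002 D188872
theorem N86093 : nd 86093 = n188873 := ndS (p := 51003) (l := 3) rfl N51003 D188873
theorem N86094 : nd 86094 = n188874 := ndS (p := 51003) (l := 4) rfl N51003 D188874
theorem N86095 : nd 86095 = n188875 := ndS (p := 51003) (l := 5) rfl N51003 D188875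
theorem N86096 : nd 86096 = n188876 := ndS (p := 51004) (l := 4) rfl N51004 D188876
theorem N86097 : nd 86097 = n188877 := ndS (p := 51004) (l := 6) rfl N51004 D188877
theorem N86098 : nd 86098 = n188878 := ndS (p := 51005) (l := 3) rfl N51005 D188878
theorem N86099 : nd 86099 = n188879 := ndS (p := 51005) (l := 5) rfl N51005 D188879
theorem N86100 : nd 86100 = n188880 := ndS (p := 51007) (l := 0) rfl N51007 D188880
theorem N86101 : nd 86101 = n188881 := ndS (p := 51007) (l := 1) rfl N51007 D188881
theorem N86102 : nd 86102 = n188882 := ndS (p := 51007) (l := 6) rfl N51007 D188882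
theorem N86103 : nd 86103 = n188883 := ndS (p := 51008) (l := 0) rfl N51008 D188883
theorem N86104 : nd 86104 = n188884 := ndS (p := 51008) (l := 1) rfl N51008 D188884
theorem N86105 : nd 86105 = n188885 := ndS (p := 51008) (l := 5) rfl N51008 D188885
theorem N86106 : nd 86106 = n188886 := ndS (p := 51008) (l := 7) rfl N51008 D188886
theorem N86107 : nd 86107 = n188887 := ndS (p := 51009) (l := 4) rfl N51009 D188887
theorem N86108 : nd 86108 = n188888 := ndS (p := 51009) (l := 6) rfl N51009 D188888
theorem N86109 : nd 86109 = n188889 := ndS (p := 51010) (l := 4) rfl N51010 D188889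
theorem N86110 : nd 86110 = n188890 := ndS (p := 51011) (l := 0) rfl N51011 D188890
theorem N86111 : nd 86111 = n188891 := ndS (p := 51011) (l := 1) rfl N51011 D188891
theorem N86112 : nd 86112 = n188892 := ndS (p := 51013) (l := 3) rfl N51013 D188892
theorem N86113 : nd 86113 = n188893 := ndS (p := 51014) (l := 6) rfl N51014 D188893
theorem N86114 : nd 86114 = n188894 := ndS (p := 51015) (l := 0) rfl N51015 D188894
theorem N86115 : nd 86115 = n188895 := ndS (p := 51016) (l := 7) rfl N51016 D188895
theorem N86116 : nd 86116 = n188896 := ndS (p := 51017) (l := 3) rfl N51017 D188896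
theorem N86117 : nd 86117 = n188897 := ndS (p := 51017) (l := 6) rfl N51017 D188897
theorem N86118 : nd 86118 = n188898 := ndS (p := 51018) (l := 6) rfl N51018 D188898
theorem N86119 : nd 86119 = n188899 := ndS (p := 51019) (l := 0) rfl N51019 D188899
theorem N86120 : nd 86120 = n188900 := ndS (p := 51019) (l := 1) rfl N51019 D188900
theorem N86121 : nd 86121 = n188901 := ndS (p := 51019) (l := 5) rfl N51019 D188901
theorem N86122 : nd 86122 = n188902 := ndS (p := 51019) (l := 7) rfl N51019 D188902
theorem N86123 : nd 86123 = n188904 := ndS (p := 51020) (l := 3) rfl N51020 D188904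
theorem N86124 : nd 86124 = n188905 := ndS (p := 51020) (l := 5) rfl N51020 D188905
theorem N86125 : nd 86125 = n188909 := ndS (p := 51021) (l := 5) rfl N51021 D188909
theorem N86126 : nd 86126 = n188910 := ndS (p := 51021) (l := 6) rfl N51021 D188910
theorem N86127 : nd 86127 = n188911 := ndS (p := 51022) (l := 1) rfl N51022 D188911
theorem N86128 : nd 86128 = n188912 := ndS (p := 51022) (l := 4) rfl N51022 D188912
theorem N86129 : nd 86129 = n188913 := ndS (p := 51022) (l := 7) rfl N51022 D188913
theorem N86130 : nd 86130 = n188914 := ndS (p := 51024) (l := 6) rfl N51024 D188914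
theorem N86131 : nd 86131 = n188915 := ndS (p := 51025) (l := 6) rfl N51025 D188915
theorem N86132 : nd 86132 = n188916 := ndS (p := 51026) (l := 1) rfl N51026 D188916
theorem N86133 : nd 86133 = n188917 := ndS (p := 51027) (l := 0) rfl N51027 D188917
theorem N86134 : nd 86134 = n188918 := ndS (p := 51027) (l := 1) rfl N51027 D188918
theorem N86135 : nd 86135 = n188919 := ndS (p := 51027) (l := 5) rfl N51027 D188919
theorem N86136 : nd 86136 = n188920 := ndS (p := 51027) (l := 7) rfl N51027 D188920
theorem N86137 : nd 86137 = n188921 := ndS (p := 51028) (l := 1) rfl N51028 D188921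
theorem N86138 : nd 86138 = n188922 := ndS (p := 51028) (l := 6) rfl N51028 D188922
theorem N86139 : nd 86139 = n188923 := ndS (p := 51029) (l := 6) rfl N51029 D188923
theorem N86140 : nd 86140 = n188924 := ndS (p := 51030) (l := 0) rfl N51030 D188924
theorem N86141 : nd 86141 = n188925 := ndS (p := 51030) (l := 1) rfl N51030 D188925
theorem N86142 : nd 86142 = n188927 := ndS (p := 51030) (l := 7) rfl N51030 D188927
theorem N86143 : nd 86143 = n188930 := ndS (p := 51031) (l := 4) rfl N51031 D188930
theorem N86144 : nd 86144 = n188931 := ndS (p := 51031) (l := 5) rfl N51031 D188931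
theorem N86145 : nd 86145 = n188932 := ndS (p := 51031) (l := 6) rfl N51031 D188932
theorem N86146 : nd 86146 = n188934 := ndS (p := 51032) (l := 3) rfl N51032 D188934
theorem N86147 : nd 86147 = n188935 := ndS (p := 51032) (l := 4) rfl N51032 D188935
theorem N86148 : nd 86148 = n188936 := ndS (p := 51032) (l := 5) rfl N51032 D188936
theorem N86149 : nd 86149 = n188938 := ndS (p := 51033) (l := 0) rfl N51033 D188938
theorem N86150 : nd 86150 = n188939 := ndS (p := 51033) (l := 1) rfl N51033 D188939
theorem N86151 : nd 86151 = n188940 := ndS (p := 51033) (l := 4) rfl N51033 D188940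
theorem N86152 : nd 86152 = n188941 := ndS (p := 51033) (l := 7) rfl N51033 D188941
theorem N86153 : nd 86153 = n188942 := ndS (p := 51036) (l := 6) rfl N51036 D188942
theorem N86154 : nd 86154 = n188945 := ndS (p := 51041) (l := 0) rfl N51041 D188945
theorem N86155 : nd 86155 = n188947 := ndS (p := 51041) (l := 5) rfl N51041 D188947
theorem N86156 : nd 86156 = n188949 := ndS (p := 51041) (l := 7) rfl N51041 D188949
theorem N86157 : nd 86157 = n188950 := ndS (p := 51042) (l := 5) rfl N51042 D188950
theorem N86158 : nd 86158 = n188951 := ndS (p := 51042) (l := 6) rfl N51042 D188951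
theorem N86159 : nd 86159 = n188952 := ndS (p := 51043) (l := 5) rfl N51043 D188952
theorem N86160 : nd 86160 = n188953 := ndS (p := 51044) (l := 0) rfl N51044 D188953
theorem N86161 : nd 86161 = n188954 := ndS (p := 51044) (l := 1) rfl N51044 D188954
theorem N86162 : nd 86162 = n188955 := ndS (p := 51044) (l := 4) rfl N51044 D188955
theorem N86163 : nd 86163 = n188956 := ndS (p := 51045) (l := 6) rfl N51045 D188956
theorem N86164 : nd 86164 = n188957 := ndS (p := 51047) (l := 0) rfl N51047 D188957
theorem N86165 : nd 86165 = n188958 := ndS (p := 51047) (l := 1) rfl N51047 D188958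
theorem N86166 : nd 86166 = n188959 := ndS (p := 51047) (l := 7) rfl N51047 D188959
theorem N86167 : nd 86167 = n188960 := ndS (p := 51048) (l := 0) rfl N51048 D188960
theorem N86168 : nd 86168 = n188961 := ndS (p := 51048) (l := 1) rfl N51048 D188961
theorem N86169 : nd 86169 = n188962 := ndS (p := 51048) (l := 5) rfl N51048 D188962
theorem N86170 : nd 86170 = n188964 := ndS (p := 51049) (l := 3) rfl N51049 D188964
theorem N86171 : nd 86171 = n188965 := ndS (p := 51049) (l := 4) rfl N51049 D188965
theorem N86172 : nd 86172 = n188966 := ndS (p := 51049) (l := 5) rfl N51049 D188966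
theorem N86173 : nd 86173 = n188967 := ndS (p := 51049) (l := 6) rfl N51049 D188967
theorem N86174 : nd 86174 = n188968 := ndS (p := 51050) (l := 4) rfl N51050 D188968
theorem N86175 : nd 86175 = n188969 := ndS (p := 51050) (l := 5) rfl N51050 D188969
theorem N86176 : nd 86176 = n188970 := ndS (p := 51053) (l := 5) rfl N51053 D188970
theorem N86177 : nd 86177 = n188971 := ndS (p := 51054) (l := 5) rfl N51054 D188971
theorem N86178 : nd 86178 = n188972 := ndS (p := 51055) (l := 5) rfl N51055 D188972
theorem N86179 : nd 86179 = n188973 := ndS (p := 51056) (l := 0) rfl N51056 D188973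
theorem N86180 : nd 86180 = n188974 := ndS (p := 51056) (l := 1) rfl N51056 D188974
theorem N86181 : nd 86181 = n188975 := ndS (p := 51057) (l := 3) rfl N51057 D188975
theorem N86182 : nd 86182 = n188976 := ndS (p := 51057) (l := 6) rfl N51057 D188976
theorem N86183 : nd 86183 = n188977 := ndS (p := 51058) (l := 0) rfl N51058 D188977
theorem N86184 : nd 86184 = n188978 := ndS (p := 51058) (l := 1) rfl N51058 D188978
theorem N86185 : nd 86185 = n188979 := ndS (p := 51060) (l := 6) rfl N51060 D188979
theorem N86186 : nd 86186 = n188980 := ndS (p := 51062) (l := 3) rfl N51062 D188980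
theorem N86187 : nd 86187 = n188981 := ndS (p := 51062) (l := 6) rfl N51062 D188981
theorem N86188 : nd 86188 = n188982 := ndS (p := 51063) (l := 6) rfl N51063 D188982
theorem N86189 : nd 86189 = n188983 := ndS (p := 51064) (l := 0) rfl N51064 D188983
theorem N86190 : nd 86190 = n188984 := ndS (p := 51064) (l := 7) rfl N51064 D188984
theorem N86191 : nd 86191 = n188985 := ndS (p := 51065) (l := 2) rfl N51065 D188985
theorem N86192 : nd 86192 = n188986 := ndS (p := 51065) (l := 6) rfl N51065 D188986
theorem N86193 : nd 86193 = n188987 := ndS (p := 51066) (l := 3) rfl N51066 D188987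
theorem N86194 : nd 86194 = n188988 := ndS (p := 51066) (l := 6) rfl N51066 D188988
theorem N86195 : nd 86195 = n188989 := ndS (p := 51067) (l := 0) rfl N51067 D188989
theorem N86196 : nd 86196 = n188990 := ndS (p := 51067) (l := 1) rfl N51067 D188990
theorem N86197 : nd 86197 = n188991 := ndS (p := 51067) (l := 7) rfl N51067 D188991
theorem N86198 : nd 86198 = n188992 := ndS (p := 51068) (l := 4) rfl N51068 D188992
theorem N86199 : nd 86199 = n188993 := ndS (p := 51068) (l := 6) rfl N51068 D188993
theorem N86200 : nd 86200 = n188994 := ndS (p := 51069) (l := 3) rfl N51069 D188994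
theorem N86201 : nd 86201 = n188995 := ndS (p := 51069) (l := 6) rfl N51069 D188995
theorem N86202 : nd 86202 = n188996 := ndS (p := 51070) (l := 1) rfl N51070 D188996
theorem N86203 : nd 86203 = n188997 := ndS (p := 51070) (l := 7) rfl N51070 D188997
theorem N86204 : nd 86204 = n188998 := ndS (p := 51071) (l := 6) rfl N51071 D188998
theorem N86205 : nd 86205 = n189001 := ndS (p := 51072) (l := 5) rfl N51072 D189001
theorem N86206 : nd 86206 = n189002 := ndS (p := 51072) (l := 7) rfl N51072 D189002
theorem N86207 : nd 86207 = n189003 := ndS (p := 51073) (l := 3) rfl N51073 D189003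
theorem N86208 : nd 86208 = n189004 := ndS (p := 51073) (l := 4) rfl N51073 D189004
theorem N86209 : nd 86209 = n189005 := ndS (p := 51073) (l := 5) rfl N51073 D189005
theorem N86210 : nd 86210 = n189006 := ndS (p := 51073) (l := 6) rfl N51073 D189006
theorem N86211 : nd 86211 = n189007 := ndS (p := 51074) (l := 6) rfl N51074 D189007
theorem N86212 : nd 86212 = n189008 := ndS (p := 51077) (l := 6) rfl N51077 D189008
theorem N86213 : nd 86213 = n189009 := ndS (p := 51079) (l := 6) rfl N51079 D189009
theorem N86214 : nd 86214 = n189010 := ndS (p := 51081) (l := 6) rfl N51081 D189010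
theorem N86215 : nd 86215 = n189011 := ndS (p := 51082) (l := 0) rfl N51082 D189011
theorem N86216 : nd 86216 = n189012 := ndS (p := 51082) (l := 7) rfl N51082 D189012
theorem N86217 : nd 86217 = n189013 := ndS (p := 51085) (l := 6) rfl N51085 D189013
theorem N86218 : nd 86218 = n189016 := ndS (p := 51086) (l := 5) rfl N51086 D189016
theorem N86219 : nd 86219 = n189017 := ndS (p := 51086) (l := 7) rfl N51086 D189017
theorem N86220 : nd 86220 = n189018 := ndS (p := 51087) (l := 3) rfl N51087 D189018
theorem N86221 : nd 86221 = n189019 := ndS (p := 51087) (l := 4) rfl N51087 D189019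
theorem N86222 : nd 86222 = n189020 := ndS (p := 51087) (l := 5) rfl N51087 D189020
theorem N86223 : nd 86223 = n189021 := ndS (p := 51087) (l := 6) rfl N51087 D189021
theorem N86224 : nd 86224 = n189022 := ndS (p := 51088) (l := 3) rfl N51088 D189022
theorem N86225 : nd 86225 = n189023 := ndS (p := 51088) (l := 4) rfl N51088 D189023
theorem N86226 : nd 86226 = n189024 := ndS (p := 51089) (l := 0) rfl N51089 D189024
theorem N86227 : nd 86227 = n189025 := ndS (p := 51089) (l := 4) rfl N51089 D189025
theorem N86228 : nd 86228 = n189026 := ndS (p := 51089) (l := 7) rfl N51089 D189026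
theorem N86229 : nd 86229 = n189027 := ndS (p := 51095) (l := 0) rfl N51095 D189027
theorem N86230 : nd 86230 = n189028 := ndS (p := 51095) (l := 2) rfl N51095 D189028
theorem N86231 : nd 86231 = n189029 := ndS (p := 51097) (l := 6) rfl N51097 D189029
theorem N86232 : nd 86232 = n189030 := ndS (p := 51098) (l := 0) rfl N51098 D189030
theorem N86233 : nd 86233 = n189031 := ndS (p := 51099) (l := 1) rfl N51099 D189031
theorem N86234 : nd 86234 = n189032 := ndS (p := 51099) (l := 7) rfl N51099 D189032
theorem N86235 : nd 86235 = n189033 := ndS (p := 51101) (l := 4) rfl N51101 D189033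
theorem N86236 : nd 86236 = n189034 := ndS (p := 51102) (l := 3) rfl N51102 D189034
theorem N86237 : nd 86237 = n189035 := ndS (p := 51102) (l := 4) rfl N51102 D189035
theorem N86238 : nd 86238 = n189036 := ndS (p := 51104) (l := 4) rfl N51104 D189036
theorem N86239 : nd 86239 = n189037 := ndS (p := 51105) (l := 0) rfl N51105 D189037
theorem N86240 : nd 86240 = n189038 := ndS (p := 51105) (l := 1) rfl N51105 D189038
theorem N86241 : nd 86241 = n189039 := ndS (p := 51105) (l := 7) rfl N51105 D189039
theorem N86242 : nd 86242 = n189040 := ndS (p := 51107) (l := 3) rfl N51107 D189040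
theorem N86243 : nd 86243 = n189041 := ndS (p := 51107) (l := 4) rfl N51107 D189041
theorem N86244 : nd 86244 = n189042 := ndS (p := 51108) (l := 4) rfl N51108 D189042
theorem N86245 : nd 86245 = n189043 := ndS (p := 51108) (l := 5) rfl N51108 D189043
theorem N86246 : nd 86246 = n189044 := ndS (p := 51108) (l := 6) rfl N51108 D189044
theorem N86247 : nd 86247 = n189045 := ndS (p := 51109) (l := 1) rfl N51109 D189045
theorem N86248 : nd 86248 = n189046 := ndS (p := 51110) (l := 4) rfl N51110 D189046
theorem N86249 : nd 86249 = n189047 := ndS (p := 51110) (l := 6) rfl N51110 D189047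
theorem N86250 : nd 86250 = n189048 := ndS (p := 51112) (l := 1) rfl N51112 D189048
theorem N86251 : nd 86251 = n189049 := ndS (p := 51112) (l := 7) rfl N51112 D189049
theorem N86252 : nd 86252 = n189050 := ndS (p := 51113) (l := 1) rfl N51113 D189050
theorem N86253 : nd 86253 = n189051 := ndS (p := 51116) (l := 0) rfl N51116 D189051
theorem N86254 : nd 86254 = n189052 := ndS (p := 51116) (l := 7) rfl N51116 D189052
theorem N86255 : nd 86255 = n189053 := ndS (p := 51117) (l := 2) rfl N51117 D189053
theorem N86256 : nd 86256 = n189054 := ndS (p := 51118) (l := 7) rfl N51118 D189054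
theorem N86257 : nd 86257 = n189055 := ndS (p := 51119) (l := 0) rfl N51119 D189055
theorem N86258 : nd 86258 = n189056 := ndS (p := 51119) (l := 1) rfl N51119 D189056
theorem N86259 : nd 86259 = n189057 := ndS (p := 51119) (l := 2) rfl N51119 D189057
theorem N86260 : nd 86260 = n189058 := ndS (p := 51119) (l := 6) rfl N51119 D189058
theorem N86261 : nd 86261 = n189059 := ndS (p := 51120) (l := 0) rfl N51120 D189059
theorem N86262 : nd 86262 = n189060 := ndS (p := 51120) (l := 1) rfl N51120 D189060
theorem N86263 : nd 86263 = n189061 := ndS (p := 51120) (l := 5) rfl N51120 D189061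
theorem N86264 : nd 86264 = n189062 := ndS (p := 51120) (l := 7) rfl N51120 D189062
theorem N86265 : nd 86265 = n189064 := ndS (p := 51121) (l := 3) rfl N51121 D189064
theorem N86266 : nd 86266 = n189065 := ndS (p := 51121) (l := 4) rfl N51121 D189065
theorem N86267 : nd 86267 = n189066 := ndS (p := 51121) (l := 5) rfl N51121 D189066
theorem N86268 : nd 86268 = n189067 := ndS (p := 51121) (l := 6) rfl N51121 D189067
theorem N86269 : nd 86269 = n189069 := ndS (p := 51122) (l := 3) rfl N51122 D189069
theorem N86270 : nd 86270 = n189070 := ndS (p := 51122) (l := 4) rfl N51122 D189070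
theorem N86271 : nd 86271 = n189071 := ndS (p := 51122) (l := 6) rfl N51122 D189071
theorem N86272 : nd 86272 = n189072 := ndS (p := 51128) (l := 6) rfl N51128 D189072
theorem N86273 : nd 86273 = n189073 := ndS (p := 51129) (l := 3) rfl N51129 D189073
theorem N86274 : nd 86274 = n189074 := ndS (p := 51129) (l := 6) rfl N51129 D189074
theorem N86275 : nd 86275 = n189075 := ndS (p := 51131) (l := 3) rfl N51131 D189075
theorem N86276 : nd 86276 = n189076 := ndS (p := 51131) (l := 6) rfl N51131 D189076
theorem N86277 : nd 86277 = n189077 := ndS (p := 51132) (l := 3) rfl N51132 D189077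
theorem N86278 : nd 86278 = n189078 := ndS (p := 51132) (l := 6) rfl N51132 D189078
theorem N86279 : nd 86279 = n189079 := ndS (p := 51134) (l := 3) rfl N51134 D189079
theorem N86280 : nd 86280 = n189080 := ndS (p := 51138) (l := 5) rfl N51138 D189080
theorem N86281 : nd 86281 = n189081 := ndS (p := 51139) (l := 4) rfl N51139 D189081
theorem N86282 : nd 86282 = n189082 := ndS (p := 51142) (l := 1) rfl N51142 D189082
theorem N86283 : nd 86283 = n189083 := ndS (p := 51143) (l := 4) rfl N51143 D189083
theorem N86284 : nd 86284 = n189084 := ndS (p := 51143) (l := 6) rfl N51143 D189084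
theorem N86285 : nd 86285 = n189085 := ndS (p := 51144) (l := 4) rfl N51144 D189085
theorem N86286 : nd 86286 = n189086 := ndS (p := 51145) (l := 0) rfl N51145 D189086
theorem N86287 : nd 86287 = n189087 := ndS (p := 51145) (l := 1) rfl N51145 D189087
theorem N86288 : nd 86288 = n189088 := ndS (p := 51145) (l := 5) rfl N51145 D189088
theorem N86289 : nd 86289 = n189089 := ndS (p := 51145) (l := 6) rfl N51145 D189089
theorem N86290 : nd 86290 = n189090 := ndS (p := 51146) (l := 1) rfl N51146 D189090
theorem N86291 : nd 86291 = n189091 := ndS (p := 51146) (l := 7) rfl N51146 D189091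
theorem N86292 : nd 86292 = n189092 := ndS (p := 51148) (l := 5) rfl N51148 D189092
theorem N86293 : nd 86293 = n189093 := ndS (p := 51148) (l := 6) rfl N51148 D189093
theorem N86294 : nd 86294 = n189094 := ndS (p := 51149) (l := 1) rfl N51149 D189094
theorem N86295 : nd 86295 = n189095 := ndS (p := 51149) (l := 4) rfl N51149 D189095
theorem N86296 : nd 86296 = n189096 := ndS (p := 51150) (l := 3) rfl N51150 D189096
theorem N86297 : nd 86297 = n189097 := ndS (p := 51150) (l := 6) rfl N51150 D189097
theorem N86298 : nd 86298 = n189098 := ndS (p := 51151) (l := 6) rfl N51151 D189098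
theorem N86299 : nd 86299 = n189099 := ndS (p := 51155) (l := 4) rfl N51155 D189099
theorem N86300 : nd 86300 = n189100 := ndS (p := 51156) (l := 4) rfl N51156 D189100
theorem N86301 : nd 86301 = n189101 := ndS (p := 51157) (l := 3) rfl N51157 D189101
theorem N86302 : nd 86302 = n189102 := ndS (p := 51158) (l := 6) rfl N51158 D189102
theorem N86303 : nd 86303 = n189103 := ndS (p := 51159) (l := 0) rfl N51159 D189103
theorem N86304 : nd 86304 = n189104 := ndS (p := 51161) (l := 1) rfl N51161 D189104
theorem N86305 : nd 86305 = n189105 := ndS (p := 51161) (l := 4) rfl N51161 D189105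
theorem N86306 : nd 86306 = n189106 := ndS (p := 51162) (l := 3) rfl N51162 D189106
theorem N86307 : nd 86307 = n189107 := ndS (p := 51162) (l := 6) rfl N51162 D189107
theorem N86308 : nd 86308 = n189108 := ndS (p := 51164) (l := 0) rfl N51164 D189108
theorem N86309 : nd 86309 = n189109 := ndS (p := 51164) (l := 1) rfl N51164 D189109
theorem N86310 : nd 86310 = n189110 := ndS (p := 51164) (l := 2) rfl N51164 D189110
theorem N86311 : nd 86311 = n189111 := ndS (p := 51165) (l := 0) rfl N51165 D189111
theorem N86312 : nd 86312 = n189112 := ndS (p := 51165) (l := 1) rfl N51165 D189112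
theorem N86313 : nd 86313 = n189113 := ndS (p := 51166) (l := 3) rfl N51166 D189113
theorem N86314 : nd 86314 = n189114 := ndS (p := 51166) (l := 4) rfl N51166 D189114
theorem N86315 : nd 86315 = n189115 := ndS (p := 51166) (l := 5) rfl N51166 D189115
theorem N86316 : nd 86316 = n189116 := ndS (p := 51166) (l := 6) rfl N51166 D189116
theorem N86317 : nd 86317 = n189117 := ndS (p := 51167) (l := 4) rfl N51167 D189117
theorem N86318 : nd 86318 = n189118 := ndS (p := 51167) (l := 5) rfl N51167 D189118
theorem N86319 : nd 86319 = n189119 := ndS (p := 51169) (l := 3) rfl N51169 D189119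
theorem N86320 : nd 86320 = n189120 := ndS (p := 51170) (l := 3) rfl N51170 D189120
theorem N86321 : nd 86321 = n189121 := ndS (p := 51171) (l := 6) rfl N51171 D189121
theorem N86322 : nd 86322 = n189122 := ndS (p := 51172) (l := 0) rfl N51172 D189122
theorem N86323 : nd 86323 = n189123 := ndS (p := 51172) (l := 1) rfl N51172 D189123
theorem N86324 : nd 86324 = n189124 := ndS (p := 51172) (l := 7) rfl N51172 D189124
theorem N86325 : nd 86325 = n189125 := ndS (p := 51173) (l := 3) rfl N51173 D189125
theorem N86326 : nd 86326 = n189126 := ndS (p := 51173) (l := 5) rfl N51173 D189126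
theorem N86327 : nd 86327 = n189127 := ndS (p := 51173) (l := 6) rfl N51173 D189127
theorem N86328 : nd 86328 = n189128 := ndS (p := 51174) (l := 3) rfl N51174 D189128
theorem N86329 : nd 86329 = n189134 := ndS (p := 51176) (l := 0) rfl N51176 D189134
theorem N86330 : nd 86330 = n189135 := ndS (p := 51176) (l := 2) rfl N51176 D189135
theorem N86331 : nd 86331 = n189136 := ndS (p := 51176) (l := 4) rfl N51176 D189136
theorem N86332 : nd 86332 = n189137 := ndS (p := 51176) (l := 6) rfl N51176 D189137
theorem N86333 : nd 86333 = n189139 := ndS (p := 51177) (l := 3) rfl N51177 D189139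
theorem N86334 : nd 86334 = n189140 := ndS (p := 51177) (l := 5) rfl N51177 D189140
theorem N86335 : nd 86335 = n189141 := ndS (p := 51177) (l := 6) rfl N51177 D189141
theorem N86336 : nd 86336 = n189142 := ndS (p := 51178) (l := 1) rfl N51178 D189142
theorem N86337 : nd 86337 = n189143 := ndS (p := 51178) (l := 4) rfl N51178 D189143
theorem N86338 : nd 86338 = n189149 := ndS (p := 51180) (l := 1) rfl N51180 D189149
theorem N86339 : nd 86339 = n189150 := ndS (p := 51180) (l := 2) rfl N51180 D189150
theorem N86340 : nd 86340 = n189151 := ndS (p := 51180) (l := 4) rfl N51180 D189151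
theorem N86341 : nd 86341 = n189152 := ndS (p := 51180) (l := 5) rfl N51180 D189152
theorem N86342 : nd 86342 = n189153 := ndS (p := 51180) (l := 6) rfl N51180 D189153
theorem N86343 : nd 86343 = n189154 := ndS (p := 51181) (l := 5) rfl N51181 D189154
theorem N86344 : nd 86344 = n189155 := ndS (p := 51182) (l := 4) rfl N51182 D189155
theorem N86345 : nd 86345 = n189156 := ndS (p := 51183) (l := 5) rfl N51183 D189156
theorem N86346 : nd 86346 = n189157 := ndS (p := 51184) (l := 5) rfl N51184 D189157
theorem N86347 : nd 86347 = n189158 := ndS (p := 51185) (l := 3) rfl N51185 D189158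
theorem N86348 : nd 86348 = n189159 := ndS (p := 51185) (l := 6) rfl N51185 D189159
theorem N86349 : nd 86349 = n189160 := ndS (p := 51187) (l := 0) rfl N51187 D189160
theorem N86350 : nd 86350 = n189161 := ndS (p := 51187) (l := 4) rfl N51187 D189161
theorem N86351 : nd 86351 = n189162 := ndS (p := 51188) (l := 3) rfl N51188 D189162
theorem N86352 : nd 86352 = n189163 := ndS (p := 51190) (l := 4) rfl N51190 D189163
theorem N86353 : nd 86353 = n189164 := ndS (p := 51191) (l := 3) rfl N51191 D189164
theorem N86354 : nd 86354 = n189165 := ndS (p := 51191) (l := 6) rfl N51191 D189165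
theorem N86355 : nd 86355 = n189166 := ndS (p := 51194) (l := 1) rfl N51194 D189166
theorem N86356 : nd 86356 = n189167 := ndS (p := 51194) (l := 4) rfl N51194 D189167
theorem N86357 : nd 86357 = n189168 := ndS (p := 51194) (l := 6) rfl N51194 D189168
theorem N86358 : nd 86358 = n189169 := ndS (p := 51195) (l := 3) rfl N51195 D189169
theorem N86359 : nd 86359 = n189170 := ndS (p := 51195) (l := 6) rfl N51195 D189170
theorem N86360 : nd 86360 = n189171 := ndS (p := 51196) (l := 1) rfl N51196 D189171
theorem N86361 : nd 86361 = n189172 := ndS (p := 51196) (l := 7) rfl N51196 D189172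
theorem N86362 : nd 86362 = n189173 := ndS (p := 51197) (l := 5) rfl N51197 D189173
theorem N86363 : nd 86363 = n189174 := ndS (p := 51200) (l := 0) rfl N51200 D189174
theorem N86364 : nd 86364 = n189175 := ndS (p := 51200) (l := 4) rfl N51200 D189175
theorem N86365 : nd 86365 = n189176 := ndS (p := 51206) (l := 1) rfl N51206 D189176
theorem N86366 : nd 86366 = n189177 := ndS (p := 51207) (l := 6) rfl N51207 D189177
theorem N86367 : nd 86367 = n189178 := ndS (p := 51209) (l := 6) rfl N51209 D189178
theorem N86368 : nd 86368 = n189179 := ndS (p := 51210) (l := 0) rfl N51210 D189179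
theorem N86369 : nd 86369 = n189180 := ndS (p := 51210) (l := 1) rfl N51210 D189180
theorem N86370 : nd 86370 = n189181 := ndS (p := 51210) (l := 5) rfl N51210 D189181
theorem N86371 : nd 86371 = n189182 := ndS (p := 51211) (l := 5) rfl N51211 D189182
theorem N86372 : nd 86372 = n189183 := ndS (p := 51211) (l := 6) rfl N51211 D189183
theorem N86373 : nd 86373 = n189184 := ndS (p := 51212) (l := 5) rfl N51212 D189184
theorem N86374 : nd 86374 = n189185 := ndS (p := 51214) (l := 2) rfl N51214 D189185
theorem N86375 : nd 86375 = n189186 := ndS (p := 51214) (l := 4) rfl N51214 D189186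
theorem N86376 : nd 86376 = n189187 := ndS (p := 51215) (l := 3) rfl N51215 D189187
theorem N86377 : nd 86377 = n189188 := ndS (p := 51217) (l := 3) rfl N51217 D189188
theorem N86378 : nd 86378 = n189189 := ndS (p := 51219) (l := 5) rfl N51219 D189189
theorem N86379 : nd 86379 = n189190 := ndS (p := 51220) (l := 3) rfl N51220 D189190
theorem N86380 : nd 86380 = n189191 := ndS (p := 51220) (l := 4) rfl N51220 D189191
theorem N86381 : nd 86381 = n189192 := ndS (p := 51220) (l := 5) rfl N51220 D189192
theorem N86382 : nd 86382 = n189193 := ndS (p := 51220) (l := 6) rfl N51220 D189193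
theorem N86383 : nd 86383 = n189194 := ndS (p := 51221) (l := 5) rfl N51221 D189194
theorem N86384 : nd 86384 = n189195 := ndS (p := 51222) (l := 0) rfl N51222 D189195
theorem N86385 : nd 86385 = n189196 := ndS (p := 51222) (l := 1) rfl N51222 D189196
theorem N86386 : nd 86386 = n189197 := ndS (p := 51222) (l := 4) rfl N51222 D189197
theorem N86387 : nd 86387 = n189198 := ndS (p := 51222) (l := 7) rfl N51222 D189198
theorem N86388 : nd 86388 = n189199 := ndS (p := 51224) (l := 3) rfl N51224 D189199
theorem N86389 : nd 86389 = n189200 := ndS (p := 51225) (l := 0) rfl N51225 D189200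
theorem N86390 : nd 86390 = n189201 := ndS (p := 51225) (l := 2) rfl N51225 D189201
theorem N86391 : nd 86391 = n189202 := ndS (p := 51226) (l := 3) rfl N51226 D189202
theorem N86392 : nd 86392 = n189203 := ndS (p := 51226) (l := 6) rfl N51226 D189203
theorem N86393 : nd 86393 = n189204 := ndS (p := 51227) (l := 1) rfl N51227 D189204
theorem N86394 : nd 86394 = n189205 := ndS (p := 51227) (l := 7) rfl N51227 D189205
theorem N86395 : nd 86395 = n189206 := ndS (p := 51228) (l := 3) rfl N51228 D189206
theorem N86396 : nd 86396 = n189207 := ndS (p := 51231) (l := 4) rfl N51231 D189207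
theorem N86397 : nd 86397 = n189208 := ndS (p := 51232) (l := 0) rfl N51232 D189208
theorem N86398 : nd 86398 = n189209 := ndS (p := 51232) (l := 1) rfl N51232 D189209
theorem N86399 : nd 86399 = n189210 := ndS (p := 51233) (l := 3) rfl N51233 D189210
theorem N86400 : nd 86400 = n189211 := ndS (p := 51233) (l := 5) rfl N51233 D189211
theorem N86401 : nd 86401 = n189212 := ndS (p := 51234) (l := 3) rfl N51234 D189212
theorem N86402 : nd 86402 = n189213 := ndS (p := 51234) (l := 5) rfl N51234 D189213
theorem N86403 : nd 86403 = n189214 := ndS (p := 51234) (l := 6) rfl N51234 D189214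
theorem N86404 : nd 86404 = n189215 := ndS (p := 51239) (l := 5) rfl N51239 D189215
theorem N86405 : nd 86405 = n189216 := ndS (p := 51240) (l := 4) rfl N51240 D189216
theorem N86406 : nd 86406 = n189217 := ndS (p := 51240) (l := 7) rfl N51240 D189217
theorem N86407 : nd 86407 = n189218 := ndS (p := 51242) (l := 5) rfl N51242 D189218
theorem N86408 : nd 86408 = n189219 := ndS (p := 51242) (l := 6) rfl N51242 D189219
theorem N86409 : nd 86409 = n189220 := ndS (p := 51243) (l := 5) rfl N51243 D189220
theorem N86410 : nd 86410 = n189221 := ndS (p := 51243) (l := 6) rfl N51243 D189221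
theorem N86411 : nd 86411 = n189222 := ndS (p := 51244) (l := 4) rfl N51244 D189222
theorem N86412 : nd 86412 = n189223 := ndS (p := 51244) (l := 6) rfl N51244 D189223
theorem N86413 : nd 86413 = n189224 := ndS (p := 51246) (l := 5) rfl N51246 D189224
theorem N86414 : nd 86414 = n189225 := ndS (p := 51246) (l := 6) rfl N51246 D189225
theorem N86415 : nd 86415 = n189226 := ndS (p := 51247) (l := 5) rfl N51247 D189226
theorem N86416 : nd 86416 = n189227 := ndS (p := 51247) (l := 6) rfl N51247 D189227
theorem N86417 : nd 86417 = n189228 := ndS (p := 51248) (l := 4) rfl N51248 D189228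
theorem N86418 : nd 86418 = n189229 := ndS (p := 51248) (l := 6) rfl N51248 D189229
theorem N86419 : nd 86419 = n189230 := ndS (p := 51250) (l := 3) rfl N51250 D189230
theorem N86420 : nd 86420 = n189231 := ndS (p := 51250) (l := 6) rfl N51250 D189231
theorem N86421 : nd 86421 = n189232 := ndS (p := 51251) (l := 3) rfl N51251 D189232
theorem N86422 : nd 86422 = n189233 := ndS (p := 51251) (l := 6) rfl N51251 D189233
theorem N86423 : nd 86423 = n189234 := ndS (p := 51252) (l := 1) rfl N51252 D189234
theorem N86424 : nd 86424 = n189235 := ndS (p := 51252) (l := 3) rfl N51252 D189235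
theorem N86425 : nd 86425 = n189236 := ndS (p := 51252) (l := 5) rfl N51252 D189236
theorem N86426 : nd 86426 = n189237 := ndS (p := 51254) (l := 0) rfl N51254 D189237
theorem N86427 : nd 86427 = n189238 := ndS (p := 51254) (l := 3) rfl N51254 D189238
theorem N86428 : nd 86428 = n189239 := ndS (p := 51254) (l := 5) rfl N51254 D189239
theorem N86429 : nd 86429 = n189240 := ndS (p := 51254) (l := 7) rfl N51254 D189240
theorem N86430 : nd 86430 = n189241 := ndS (p := 51255) (l := 6) rfl N51255 D189241
theorem N86431 : nd 86431 = n189242 := ndS (p := 51256) (l := 0) rfl N51256 D189242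
theorem N86432 : nd 86432 = n189243 := ndS (p := 51257) (l := 3) rfl N51257 D189243
theorem N86433 : nd 86433 = n189244 := ndS (p := 51259) (l := 4) rfl N51259 D189244
theorem N86434 : nd 86434 = n189245 := ndS (p := 51261) (l := 3) rfl N51261 D189245
theorem N86435 : nd 86435 = n189246 := ndS (p := 51261) (l := 6) rfl N51261 D189246
theorem N86436 : nd 86436 = n189247 := ndS (p := 51262) (l := 0) rfl N51262 D189247
theorem N86437 : nd 86437 = n189248 := ndS (p := 51262) (l := 1) rfl N51262 D189248
theorem N86438 : nd 86438 = n189249 := ndS (p := 51262) (l := 7) rfl N51262 D189249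
theorem N86439 : nd 86439 = n189250 := ndS (p := 51263) (l := 6) rfl N51263 D189250
theorem N86440 : nd 86440 = n189251 := ndS (p := 51264) (l := 3) rfl N51264 D189251
theorem N86441 : nd 86441 = n189252 := ndS (p := 51264) (l := 6) rfl N51264 D189252
theorem N86442 : nd 86442 = n189253 := ndS (p := 51265) (l := 0) rfl N51265 D189253
theorem N86443 : nd 86443 = n189254 := ndS (p := 51265) (l := 1) rfl N51265 D189254
theorem N86444 : nd 86444 = n189255 := ndS (p := 51265) (l := 7) rfl N51265 D189255
theorem N86445 : nd 86445 = n189256 := ndS (p := 51266) (l := 3) rfl N51266 D189256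
theorem N86446 : nd 86446 = n189257 := ndS (p := 51266) (l := 6) rfl N51266 D189257
theorem N86447 : nd 86447 = n189258 := ndS (p := 51267) (l := 0) rfl N51267 D189258
theorem N86448 : nd 86448 = n189259 := ndS (p := 51267) (l := 1) rfl N51267 D189259
theorem N86449 : nd 86449 = n189260 := ndS (p := 51267) (l := 2) rfl N51267 D189260
theorem N86450 : nd 86450 = n189262 := ndS (p := 51268) (l := 1) rfl N51268 D189262
theorem N86451 : nd 86451 = n189263 := ndS (p := 51269) (l := 4) rfl N51269 D189263
theorem N86452 : nd 86452 = n189264 := ndS (p := 51269) (l := 6) rfl N51269 D189264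
theorem N86453 : nd 86453 = n189265 := ndS (p := 51270) (l := 3) rfl N51270 D189265
theorem N86454 : nd 86454 = n189266 := ndS (p := 51271) (l := 3) rfl N51271 D189266
theorem N86455 : nd 86455 = n189267 := ndS (p := 51271) (l := 6) rfl N51271 D189267
theorem N86456 : nd 86456 = n189268 := ndS (p := 51272) (l := 0) rfl N51272 D189268
theorem N86457 : nd 86457 = n189269 := ndS (p := 51272) (l := 1) rfl N51272 D189269
theorem N86458 : nd 86458 = n189270 := ndS (p := 51272) (l := 7) rfl N51272 D189270
theorem N86459 : nd 86459 = n189271 := ndS (p := 51273) (l := 0) rfl N51273 D189271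
theorem N86460 : nd 86460 = n189272 := ndS (p := 51273) (l := 4) rfl N51273 D189272
theorem N86461 : nd 86461 = n189273 := ndS (p := 51275) (l := 3) rfl N51275 D189273
theorem N86462 : nd 86462 = n189274 := ndS (p := 51275) (l := 6) rfl N51275 D189274
theorem N86463 : nd 86463 = n189275 := ndS (p := 51276) (l := 0) rfl N51276 D189275
theorem N86464 : nd 86464 = n189276 := ndS (p := 51276) (l := 1) rfl N51276 D189276
theorem N86465 : nd 86465 = n189277 := ndS (p := 51276) (l := 7) rfl N51276 D189277
theorem N86466 : nd 86466 = n189278 := ndS (p := 51277) (l := 6) rfl N51277 D189278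
theorem N86467 : nd 86467 = n189279 := ndS (p := 51278) (l := 5) rfl N51278 D189279
theorem N86468 : nd 86468 = n189280 := ndS (p := 51280) (l := 5) rfl N51280 D189280
theorem N86469 : nd 86469 = n189281 := ndS (p := 51280) (l := 6) rfl N51280 D189281
theorem N86470 : nd 86470 = n189282 := ndS (p := 51281) (l := 0) rfl N51281 D189282
theorem N86471 : nd 86471 = n189283 := ndS (p := 51283) (l := 5) rfl N51283 D189283
theorem N86472 : nd 86472 = n189284 := ndS (p := 51283) (l := 6) rfl N51283 D189284
theorem N86473 : nd 86473 = n189285 := ndS (p := 51284) (l := 5) rfl N51284 D189285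
theorem N86474 : nd 86474 = n189286 := ndS (p := 51284) (l := 6) rfl N51284 D189286
theorem N86475 : nd 86475 = n189287 := ndS (p := 51285) (l := 4) rfl N51285 D189287
theorem N86476 : nd 86476 = n189288 := ndS (p := 51291) (l := 5) rfl N51291 D189288
theorem N86477 : nd 86477 = n189289 := ndS (p := 51291) (l := 6) rfl N51291 D189289
theorem N86478 : nd 86478 = n189290 := ndS (p := 51292) (l := 4) rfl N51292 D189290
theorem N86479 : nd 86479 = n189291 := ndS (p := 51292) (l := 6) rfl N51292 D189291
theorem N86480 : nd 86480 = n189292 := ndS (p := 51294) (l := 4) rfl N51294 D189292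
theorem N86481 : nd 86481 = n189293 := ndS (p := 51296) (l := 6) rfl N51296 D189293
theorem N86482 : nd 86482 = n189294 := ndS (p := 51302) (l := 0) rfl N51302 D189294
theorem N86483 : nd 86483 = n189295 := ndS (p := 51303) (l := 4) rfl N51303 D189295
theorem N86484 : nd 86484 = n189296 := ndS (p := 51304) (l := 4) rfl N51304 D189296
theorem N86485 : nd 86485 = n189297 := ndS (p := 51306) (l := 4) rfl N51306 D189297
theorem N86486 : nd 86486 = n189298 := ndS (p := 51306) (l := 6) rfl N51306 D189298
theorem N86487 : nd 86487 = n189299 := ndS (p := 51307) (l := 3) rfl N51307 D189299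
theorem N86488 : nd 86488 = n189300 := ndS (p := 51307) (l := 4) rfl N51307 D189300
theorem N86489 : nd 86489 = n189301 := ndS (p := 51307) (l := 6) rfl N51307 D189301
theorem N86490 : nd 86490 = n189302 := ndS (p := 51308) (l := 4) rfl N51308 D189302
theorem N86491 : nd 86491 = n189303 := ndS (p := 51309) (l := 0) rfl N51309 D189303
theorem N86492 : nd 86492 = n189304 := ndS (p := 51309) (l := 1) rfl N51309 D189304
theorem N86493 : nd 86493 = n189305 := ndS (p := 51309) (l := 3) rfl N51309 D189305
theorem N86494 : nd 86494 = n189306 := ndS (p := 51309) (l := 5) rfl N51309 D189306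
theorem N86495 : nd 86495 = n189307 := ndS (p := 51309) (l := 6) rfl N51309 D189307
theorem N86496 : nd 86496 = n189308 := ndS (p := 51310) (l := 0) rfl N51310 D189308
theorem N86497 : nd 86497 = n189309 := ndS (p := 51310) (l := 1) rfl N51310 D189309
theorem N86498 : nd 86498 = n189310 := ndS (p := 51310) (l := 7) rfl N51310 D189310
theorem N86499 : nd 86499 = n189311 := ndS (p := 51311) (l := 3) rfl N51311 D189311
theorem N86500 : nd 86500 = n189312 := ndS (p := 51311) (l := 5) rfl N51311 D189312
theorem N86501 : nd 86501 = n189313 := ndS (p := 51311) (l := 6) rfl N51311 D189313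
theorem N86502 : nd 86502 = n189314 := ndS (p := 51313) (l := 0) rfl N51313 D189314
theorem N86503 : nd 86503 = n189315 := ndS (p := 51313) (l := 3) rfl N51313 D189315
theorem N86504 : nd 86504 = n189316 := ndS (p := 51313) (l := 5) rfl N51313 D189316
theorem N86505 : nd 86505 = n189317 := ndS (p := 51313) (l := 6) rfl N51313 D189317
theorem N86506 : nd 86506 = n189318 := ndS (p := 51314) (l := 0) rfl N51314 D189318
theorem N86507 : nd 86507 = n189319 := ndS (p := 51314) (l := 1) rfl N51314 D189319
theorem N86508 : nd 86508 = n189320 := ndS (p := 51315) (l := 3) rfl N51315 D189320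
theorem N86509 : nd 86509 = n189321 := ndS (p := 51315) (l := 5) rfl N51315 D189321
theorem N86510 : nd 86510 = n189322 := ndS (p := 51315) (l := 6) rfl N51315 D189322
theorem N86511 : nd 86511 = n189324 := ndS (p := 51316) (l := 7) rfl N51316 D189324
theorem N86512 : nd 86512 = n189325 := ndS (p := 51317) (l := 3) rfl N51317 D189325
theorem N86513 : nd 86513 = n189326 := ndS (p := 51317) (l := 5) rfl N51317 D189326
theorem N86514 : nd 86514 = n189327 := ndS (p := 51317) (l := 6) rfl N51317 D189327
theorem N86515 : nd 86515 = n189328 := ndS (p := 51318) (l := 3) rfl N51318 D189328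
theorem N86516 : nd 86516 = n189329 := ndS (p := 51318) (l := 5) rfl N51318 D189329
theorem N86517 : nd 86517 = n189330 := ndS (p := 51318) (l := 6) rfl N51318 D189330
theorem N86518 : nd 86518 = n189331 := ndS (p := 51319) (l := 0) rfl N51319 D189331
theorem N86519 : nd 86519 = n189332 := ndS (p := 51319) (l := 1) rfl N51319 D189332
theorem N86520 : nd 86520 = n189333 := ndS (p := 51319) (l := 2) rfl N51319 D189333
theorem N86521 : nd 86521 = n189334 := ndS (p := 51319) (l := 7) rfl N51319 D189334
theorem N86522 : nd 86522 = n189335 := ndS (p := 51320) (l := 0) rfl N51320 D189335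
theorem N86523 : nd 86523 = n189336 := ndS (p := 51320) (l := 1) rfl N51320 D189336
theorem N86524 : nd 86524 = n189337 := ndS (p := 51320) (l := 4) rfl N51320 D189337
theorem N86525 : nd 86525 = n189338 := ndS (p := 51320) (l := 6) rfl N51320 D189338
theorem N86526 : nd 86526 = n189339 := ndS (p := 51320) (l := 7) rfl N51320 D189339
theorem N86527 : nd 86527 = n189340 := ndS (p := 51321) (l := 6) rfl N51321 D189340
theorem N86528 : nd 86528 = n189341 := ndS (p := 51323) (l := 5) rfl N51323 D189341
theorem N86529 : nd 86529 = n189342 := ndS (p := 51324) (l := 4) rfl N51324 D189342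
theorem N86530 : nd 86530 = n189343 := ndS (p := 51325) (l := 4) rfl N51325 D189343
theorem N86531 : nd 86531 = n189344 := ndS (p := 51325) (l := 6) rfl N51325 D189344
theorem N86532 : nd 86532 = n189345 := ndS (p := 51327) (l := 4) rfl N51327 D189345
theorem N86533 : nd 86533 = n189346 := ndS (p := 51328) (l := 3) rfl N51328 D189346
theorem N86534 : nd 86534 = n189347 := ndS (p := 51328) (l := 4) rfl N51328 D189347
theorem N86535 : nd 86535 = n189348 := ndS (p := 51329) (l := 1) rfl N51329 D189348
theorem N86536 : nd 86536 = n189349 := ndS (p := 51329) (l := 3) rfl N51329 D189349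
theorem N86537 : nd 86537 = n189350 := ndS (p := 51329) (l := 5) rfl N51329 D189350
theorem N86538 : nd 86538 = n189351 := ndS (p := 51329) (l := 6) rfl N51329 D189351
theorem N86539 : nd 86539 = n189352 := ndS (p := 51330) (l := 0) rfl N51330 D189352
theorem N86540 : nd 86540 = n189353 := ndS (p := 51330) (l := 1) rfl N51330 D189353
theorem N86541 : nd 86541 = n189354 := ndS (p := 51330) (l := 7) rfl N51330 D189354
theorem N86542 : nd 86542 = n189355 := ndS (p := 51332) (l := 3) rfl N51332 D189355
theorem N86543 : nd 86543 = n189356 := ndS (p := 51332) (l := 6) rfl N51332 D189356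
theorem N86544 : nd 86544 = n189357 := ndS (p := 51333) (l := 4) rfl N51333 D189357
theorem N86545 : nd 86545 = n189358 := ndS (p := 51333) (l := 6) rfl N51333 D189358
theorem N86546 : nd 86546 = n189359 := ndS (p := 51334) (l := 3) rfl N51334 D189359
theorem N86547 : nd 86547 = n189360 := ndS (p := 51334) (l := 6) rfl N51334 D189360
theorem N86548 : nd 86548 = n189361 := ndS (p := 51335) (l := 0) rfl N51335 D189361
theorem N86549 : nd 86549 = n189362 := ndS (p := 51335) (l := 1) rfl N51335 D189362
theorem N86550 : nd 86550 = n189363 := ndS (p := 51335) (l := 7) rfl N51335 D189363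
theorem N86551 : nd 86551 = n189364 := ndS (p := 51336) (l := 3) rfl N51336 D189364
theorem N86552 : nd 86552 = n189365 := ndS (p := 51336) (l := 6) rfl N51336 D189365
theorem N86553 : nd 86553 = n189366 := ndS (p := 51337) (l := 3) rfl N51337 D189366
theorem N86554 : nd 86554 = n189367 := ndS (p := 51337) (l := 6) rfl N51337 D189367
theorem N86555 : nd 86555 = n189368 := ndS (p := 51338) (l := 0) rfl N51338 D189368
theorem N86556 : nd 86556 = n189369 := ndS (p := 51338) (l := 1) rfl N51338 D189369
theorem N86557 : nd 86557 = n189370 := ndS (p := 51338) (l := 2) rfl N51338 D189370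
theorem N86558 : nd 86558 = n189371 := ndS (p := 51338) (l := 6) rfl N51338 D189371
theorem N86559 : nd 86559 = n189372 := ndS (p := 51339) (l := 0) rfl N51339 D189372
theorem N86560 : nd 86560 = n189374 := ndS (p := 51339) (l := 5) rfl N51339 D189374
theorem N86561 : nd 86561 = n189375 := ndS (p := 51339) (l := 7) rfl N51339 D189375
theorem N86562 : nd 86562 = n189377 := ndS (p := 51340) (l := 3) rfl N51340 D189377
theorem N86563 : nd 86563 = n189378 := ndS (p := 51340) (l := 4) rfl N51340 D189378
theorem N86564 : nd 86564 = n189379 := ndS (p := 51340) (l := 5) rfl N51340 D189379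
theorem N86565 : nd 86565 = n189382 := ndS (p := 51341) (l := 4) rfl N51341 D189382
theorem N86566 : nd 86566 = n189383 := ndS (p := 51341) (l := 5) rfl N51341 D189383
theorem N86567 : nd 86567 = n189384 := ndS (p := 51341) (l := 6) rfl N51341 D189384
theorem N86568 : nd 86568 = n189385 := ndS (p := 51344) (l := 5) rfl N51344 D189385
theorem N86569 : nd 86569 = n189386 := ndS (p := 51347) (l := 3) rfl N51347 D189386
theorem N86570 : nd 86570 = n189387 := ndS (p := 51348) (l := 6) rfl N51348 D189387
theorem N86571 : nd 86571 = n189388 := ndS (p := 51350) (l := 6) rfl N51350 D189388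
theorem N86572 : nd 86572 = n189389 := ndS (p := 51351) (l := 3) rfl N51351 D189389
theorem N86573 : nd 86573 = n189390 := ndS (p := 51351) (l := 6) rfl N51351 D189390
theorem N86574 : nd 86574 = n189391 := ndS (p := 51353) (l := 3) rfl N51353 D189391
theorem N86575 : nd 86575 = n189392 := ndS (p := 51354) (l := 4) rfl N51354 D189392
theorem N86576 : nd 86576 = n189393 := ndS (p := 51356) (l := 1) rfl N51356 D189393
theorem N86577 : nd 86577 = n189394 := ndS (p := 51356) (l := 2) rfl N51356 D189394
theorem N86578 : nd 86578 = n189395 := ndS (p := 51356) (l := 6) rfl N51356 D189395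
theorem N86579 : nd 86579 = n189396 := ndS (p := 51357) (l := 1) rfl N51357 D189396
theorem N86580 : nd 86580 = n189397 := ndS (p := 51357) (l := 5) rfl N51357 D189397
theorem N86581 : nd 86581 = n189398 := ndS (p := 51357) (l := 7) rfl N51357 D189398
theorem N86582 : nd 86582 = n189399 := ndS (p := 51358) (l := 4) rfl N51358 D189399
theorem N86583 : nd 86583 = n189400 := ndS (p := 51358) (l := 5) rfl N51358 D189400
theorem N86584 : nd 86584 = n189401 := ndS (p := 51358) (l := 6) rfl N51358 D189401
theorem N86585 : nd 86585 = n189402 := ndS (p := 51359) (l := 3) rfl N51359 D189402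
theorem N86586 : nd 86586 = n189403 := ndS (p := 51359) (l := 4) rfl N51359 D189403
theorem N86587 : nd 86587 = n189404 := ndS (p := 51360) (l := 0) rfl N51360 D189404
theorem N86588 : nd 86588 = n189405 := ndS (p := 51364) (l := 5) rfl N51364 D189405
theorem N86589 : nd 86589 = n189406 := ndS (p := 51366) (l := 3) rfl N51366 D189406
theorem N86590 : nd 86590 = n189407 := ndS (p := 51366) (l := 6) rfl N51366 D189407
theorem N86591 : nd 86591 = n189409 := ndS (p := 51368) (l := 0) rfl N51368 D189409
theorem N86592 : nd 86592 = n189410 := ndS (p := 51368) (l := 1) rfl N51368 D189410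
theorem N86593 : nd 86593 = n189411 := ndS (p := 51368) (l := 5) rfl N51368 D189411
theorem N86594 : nd 86594 = n189412 := ndS (p := 51368) (l := 7) rfl N51368 D189412
theorem N86595 : nd 86595 = n189414 := ndS (p := 51369) (l := 3) rfl N51369 D189414
theorem N86596 : nd 86596 = n189415 := ndS (p := 51369) (l := 4) rfl N51369 D189415
theorem N86597 : nd 86597 = n189416 := ndS (p := 51369) (l := 5) rfl N51369 D189416
theorem N86598 : nd 86598 = n189419 := ndS (p := 51370) (l := 4) rfl N51370 D189419
theorem N86599 : nd 86599 = n189420 := ndS (p := 51370) (l := 5) rfl N51370 D189420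
theorem N86600 : nd 86600 = n189421 := ndS (p := 51370) (l := 6) rfl N51370 D189421
theorem N86601 : nd 86601 = n189422 := ndS (p := 51371) (l := 1) rfl N51371 D189422
theorem N86602 : nd 86602 = n189423 := ndS (p := 51371) (l := 7) rfl N51371 D189423
theorem N86603 : nd 86603 = n189424 := ndS (p := 51373) (l := 6) rfl N51373 D189424
theorem N86604 : nd 86604 = n189425 := ndS (p := 51374) (l := 3) rfl N51374 D189425
theorem N86605 : nd 86605 = n189426 := ndS (p := 51374) (l := 6) rfl N51374 D189426
theorem N86606 : nd 86606 = n189427 := ndS (p := 51375) (l := 0) rfl N51375 D189427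
theorem N86607 : nd 86607 = n189428 := ndS (p := 51375) (l := 1) rfl N51375 D189428
theorem N86608 : nd 86608 = n189429 := ndS (p := 51375) (l := 7) rfl N51375 D189429
theorem N86609 : nd 86609 = n189430 := ndS (p := 51376) (l := 1) rfl N51376 D189430
theorem N86610 : nd 86610 = n189431 := ndS (p := 51376) (l := 2) rfl N51376 D189431
theorem N86611 : nd 86611 = n189432 := ndS (p := 51376) (l := 6) rfl N51376 D189432
theorem N86612 : nd 86612 = n189433 := ndS (p := 51377) (l := 1) rfl N51377 D189433
theorem N86613 : nd 86613 = n189434 := ndS (p := 51377) (l := 5) rfl N51377 D189434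
theorem N86614 : nd 86614 = n189435 := ndS (p := 51377) (l := 7) rfl N51377 D189435
theorem N86615 : nd 86615 = n189438 := ndS (p := 51378) (l := 4) rfl N51378 D189438
theorem N86616 : nd 86616 = n189439 := ndS (p := 51378) (l := 6) rfl N51378 D189439
theorem N86617 : nd 86617 = n189441 := ndS (p := 51379) (l := 3) rfl N51379 D189441
theorem N86618 : nd 86618 = n189442 := ndS (p := 51379) (l := 4) rfl N51379 D189442
theorem N86619 : nd 86619 = n189444 := ndS (p := 51381) (l := 0) rfl N51381 D189444
theorem N86620 : nd 86620 = n189445 := ndS (p := 51381) (l := 1) rfl N51381 D189445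
theorem N86621 : nd 86621 = n189446 := ndS (p := 51381) (l := 2) rfl N51381 D189446
theorem N86622 : nd 86622 = n189447 := ndS (p := 51381) (l := 4) rfl N51381 D189447
theorem N86623 : nd 86623 = n189448 := ndS (p := 51381) (l := 6) rfl N51381 D189448
theorem N86624 : nd 86624 = n189451 := ndS (p := 51382) (l := 5) rfl N51382 D189451
theorem N86625 : nd 86625 = n189452 := ndS (p := 51382) (l := 7) rfl N51382 D189452
theorem N86626 : nd 86626 = n189453 := ndS (p := 51383) (l := 0) rfl N51383 D189453
theorem N86627 : nd 86627 = n189454 := ndS (p := 51383) (l := 1) rfl N51383 D189454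
theorem N86628 : nd 86628 = n189455 := ndS (p := 51383) (l := 4) rfl N51383 D189455
theorem N86629 : nd 86629 = n189458 := ndS (p := 51385) (l := 0) rfl N51385 D189458
theorem N86630 : nd 86630 = n189459 := ndS (p := 51385) (l := 2) rfl N51385 D189459
theorem N86631 : nd 86631 = n189460 := ndS (p := 51385) (l := 3) rfl N51385 D189460
theorem N86632 : nd 86632 = n189461 := ndS (p := 51385) (l := 4) rfl N51385 D189461
theorem N86633 : nd 86633 = n189462 := ndS (p := 51385) (l := 5) rfl N51385 D189462
theorem N86634 : nd 86634 = n189463 := ndS (p := 51385) (l := 6) rfl N51385 D189463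
theorem N86635 : nd 86635 = n189464 := ndS (p := 51385) (l := 7) rfl N51385 D189464
theorem N86636 : nd 86636 = n189465 := ndS (p := 51386) (l := 3) rfl N51386 D189465
theorem N86637 : nd 86637 = n189466 := ndS (p := 51386) (l := 4) rfl N51386 D189466
theorem N86638 : nd 86638 = n189467 := ndS (p := 51386) (l := 5) rfl N51386 D189467
theorem N86639 : nd 86639 = n189468 := ndS (p := 51386) (l := 6) rfl N51386 D189468
theorem N86640 : nd 86640 = n189471 := ndS (p := 51387) (l := 5) rfl N51387 D189471
theorem N86641 : nd 86641 = n189472 := ndS (p := 51388) (l := 0) rfl N51388 D189472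
theorem N86642 : nd 86642 = n189473 := ndS (p := 51388) (l := 1) rfl N51388 D189473
theorem N86643 : nd 86643 = n189474 := ndS (p := 51388) (l := 4) rfl N51388 D189474
theorem N86644 : nd 86644 = n189475 := ndS (p := 51388) (l := 6) rfl N51388 D189475
theorem N86645 : nd 86645 = n189477 := ndS (p := 51390) (l := 0) rfl N51390 D189477
theorem N86646 : nd 86646 = n189478 := ndS (p := 51390) (l := 1) rfl N51390 D189478
theorem N86647 : nd 86647 = n189479 := ndS (p := 51390) (l := 7) rfl N51390 D189479
theorem N86648 : nd 86648 = n189480 := ndS (p := 51391) (l := 0) rfl N51391 D189480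
theorem N86649 : nd 86649 = n189481 := ndS (p := 51391) (l := 1) rfl N51391 D189481
theorem N86650 : nd 86650 = n189484 := ndS (p := 51392) (l := 5) rfl N51392 D189484
theorem N86651 : nd 86651 = n189485 := ndS (p := 51392) (l := 6) rfl N51392 D189485
theorem N86652 : nd 86652 = n189488 := ndS (p := 51393) (l := 4) rfl N51393 D189488
theorem N86653 : nd 86653 = n189489 := ndS (p := 51393) (l := 5) rfl N51393 D189489
theorem N86654 : nd 86654 = n189490 := ndS (p := 51393) (l := 6) rfl N51393 D189490
theorem N86655 : nd 86655 = n189491 := ndS (p := 51394) (l := 5) rfl N51394 D189491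
theorem N86656 : nd 86656 = n189492 := ndS (p := 51395) (l := 3) rfl N51395 D189492
theorem N86657 : nd 86657 = n189493 := ndS (p := 51396) (l := 5) rfl N51396 D189493
theorem N86658 : nd 86658 = n189494 := ndS (p := 51397) (l := 5) rfl N51397 D189494
theorem N86659 : nd 86659 = n189495 := ndS (p := 51398) (l := 0) rfl N51398 D189495
theorem N86660 : nd 86660 = n189496 := ndS (p := 51398) (l := 1) rfl N51398 D189496
theorem N86661 : nd 86661 = n189497 := ndS (p := 51398) (l := 4) rfl N51398 D189497
theorem N86662 : nd 86662 = n189498 := ndS (p := 51398) (l := 6) rfl N51398 D189498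
theorem N86663 : nd 86663 = n189499 := ndS (p := 51399) (l := 3) rfl N51399 D189499
theorem N86664 : nd 86664 = n189500 := ndS (p := 51399) (l := 6) rfl N51399 D189500
theorem N86665 : nd 86665 = n189501 := ndS (p := 51400) (l := 0) rfl N51400 D189501
theorem N86666 : nd 86666 = n189502 := ndS (p := 51400) (l := 1) rfl N51400 D189502
theorem N86667 : nd 86667 = n189503 := ndS (p := 51400) (l := 7) rfl N51400 D189503
theorem N86668 : nd 86668 = n189504 := ndS (p := 51401) (l := 6) rfl N51401 D189504
theorem N86669 : nd 86669 = n189505 := ndS (p := 51402) (l := 4) rfl N51402 D189505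
theorem N86670 : nd 86670 = n189506 := ndS (p := 51402) (l := 6) rfl N51402 D189506
theorem N86671 : nd 86671 = n189507 := ndS (p := 51404) (l := 3) rfl N51404 D189507
theorem N86672 : nd 86672 = n189508 := ndS (p := 51404) (l := 4) rfl N51404 D189508
theorem N86673 : nd 86673 = n189509 := ndS (p := 51405) (l := 0) rfl N51405 D189509
theorem N86674 : nd 86674 = n189510 := ndS (p := 51405) (l := 1) rfl N51405 D189510
theorem N86675 : nd 86675 = n189511 := ndS (p := 51405) (l := 3) rfl N51405 D189511
theorem N86676 : nd 86676 = n189512 := ndS (p := 51405) (l := 5) rfl N51405 D189512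
theorem N86677 : nd 86677 = n189513 := ndS (p := 51405) (l := 6) rfl N51405 D189513
theorem N86678 : nd 86678 = n189514 := ndS (p := 51406) (l := 0) rfl N51406 D189514
theorem N86679 : nd 86679 = n189515 := ndS (p := 51406) (l := 1) rfl N51406 D189515
theorem N86680 : nd 86680 = n189516 := ndS (p := 51406) (l := 5) rfl N51406 D189516
theorem N86681 : nd 86681 = n189517 := ndS (p := 51406) (l := 7) rfl N51406 D189517
theorem N86682 : nd 86682 = n189518 := ndS (p := 51408) (l := 3) rfl N51408 D189518
theorem N86683 : nd 86683 = n189519 := ndS (p := 51410) (l := 4) rfl N51410 D189519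
theorem N86684 : nd 86684 = n189520 := ndS (p := 51410) (l := 6) rfl N51410 D189520
theorem N86685 : nd 86685 = n189521 := ndS (p := 51411) (l := 3) rfl N51411 D189521
theorem N86686 : nd 86686 = n189522 := ndS (p := 51411) (l := 6) rfl N51411 D189522
theorem N86687 : nd 86687 = n189523 := ndS (p := 51412) (l := 0) rfl N51412 D189523
theorem N86688 : nd 86688 = n189524 := ndS (p := 51412) (l := 1) rfl N51412 D189524
theorem N86689 : nd 86689 = n189525 := ndS (p := 51412) (l := 7) rfl N51412 D189525
theorem N86690 : nd 86690 = n189526 := ndS (p := 51413) (l := 3) rfl N51413 D189526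
theorem N86691 : nd 86691 = n189527 := ndS (p := 51413) (l := 6) rfl N51413 D189527
theorem N86692 : nd 86692 = n189528 := ndS (p := 51414) (l := 1) rfl N51414 D189528
theorem N86693 : nd 86693 = n189529 := ndS (p := 51414) (l := 7) rfl N51414 D189529
theorem N86694 : nd 86694 = n189530 := ndS (p := 51415) (l := 0) rfl N51415 D189530
theorem N86695 : nd 86695 = n189531 := ndS (p := 51415) (l := 1) rfl N51415 D189531
theorem N86696 : nd 86696 = n189532 := ndS (p := 51415) (l := 2) rfl N51415 D189532
theorem N86697 : nd 86697 = n189533 := ndS (p := 51415) (l := 6) rfl N51415 D189533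
theorem N86698 : nd 86698 = n189536 := ndS (p := 51416) (l := 5) rfl N51416 D189536
theorem N86699 : nd 86699 = n189537 := ndS (p := 51416) (l := 7) rfl N51416 D189537
theorem N86700 : nd 86700 = n189541 := ndS (p := 51417) (l := 5) rfl N51417 D189541
theorem N86701 : nd 86701 = n189542 := ndS (p := 51417) (l := 6) rfl N51417 D189542
theorem N86702 : nd 86702 = n189545 := ndS (p := 51418) (l := 4) rfl N51418 D189545
theorem N86703 : nd 86703 = n189546 := ndS (p := 51418) (l := 5) rfl N51418 D189546
theorem N86704 : nd 86704 = n189547 := ndS (p := 51418) (l := 6) rfl N51418 D189547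
theorem N86705 : nd 86705 = n189548 := ndS (p := 51419) (l := 0) rfl N51419 D189548
theorem N86706 : nd 86706 = n189549 := ndS (p := 51419) (l := 1) rfl N51419 D189549
theorem N86707 : nd 86707 = n189550 := ndS (p := 51419) (l := 7) rfl N51419 D189550
theorem N86708 : nd 86708 = n189551 := ndS (p := 51424) (l := 4) rfl N51424 D189551
theorem N86709 : nd 86709 = n189552 := ndS (p := 51425) (l := 0) rfl N51425 D189552
theorem N86710 : nd 86710 = n189553 := ndS (p := 51425) (l := 1) rfl N51425 D189553
theorem N86711 : nd 86711 = n189554 := ndS (p := 51426) (l := 4) rfl N51426 D189554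
theorem N86712 : nd 86712 = n189555 := ndS (p := 51429) (l := 6) rfl N51429 D189555
theorem N86713 : nd 86713 = n189556 := ndS (p := 51431) (l := 3) rfl N51431 D189556
theorem N86714 : nd 86714 = n189557 := ndS (p := 51433) (l := 0) rfl N51433 D189557
theorem N86715 : nd 86715 = n189559 := ndS (p := 51433) (l := 2) rfl N51433 D189559
theorem N86716 : nd 86716 = n189560 := ndS (p := 51433) (l := 6) rfl N51433 D189560
theorem N86717 : nd 86717 = n189561 := ndS (p := 51434) (l := 5) rfl N51434 D189561
theorem N86718 : nd 86718 = n189562 := ndS (p := 51434) (l := 7) rfl N51434 D189562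
theorem N86719 : nd 86719 = n189563 := ndS (p := 51435) (l := 3) rfl N51435 D189563
theorem N86720 : nd 86720 = n189564 := ndS (p := 51435) (l := 4) rfl N51435 D189564
theorem N86721 : nd 86721 = n189565 := ndS (p := 51435) (l := 5) rfl N51435 D189565
theorem N86722 : nd 86722 = n189566 := ndS (p := 51435) (l := 6) rfl N51435 D189566
theorem N86723 : nd 86723 = n189567 := ndS (p := 51437) (l := 1) rfl N51437 D189567
theorem N86724 : nd 86724 = n189568 := ndS (p := 51444) (l := 0) rfl N51444 D189568
theorem N86725 : nd 86725 = n189569 := ndS (p := 51444) (l := 1) rfl N51444 D189569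
theorem N86726 : nd 86726 = n189570 := ndS (p := 51444) (l := 7) rfl N51444 D189570
theorem N86727 : nd 86727 = n189571 := ndS (p := 51445) (l := 4) rfl N51445 D189571
theorem N86728 : nd 86728 = n189572 := ndS (p := 51445) (l := 6) rfl N51445 D189572
theorem N86729 : nd 86729 = n189573 := ndS (p := 51446) (l := 0) rfl N51446 D189573
theorem N86730 : nd 86730 = n189574 := ndS (p := 51446) (l := 1) rfl N51446 D189574
theorem N86731 : nd 86731 = n189575 := ndS (p := 51446) (l := 7) rfl N51446 D189575
theorem N86732 : nd 86732 = n189576 := ndS (p := 51448) (l := 6) rfl N51448 D189576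
theorem N86733 : nd 86733 = n189577 := ndS (p := 51449) (l := 0) rfl N51449 D189577
theorem N86734 : nd 86734 = n189578 := ndS (p := 51449) (l := 1) rfl N51449 D189578
theorem N86735 : nd 86735 = n189579 := ndS (p := 51449) (l := 7) rfl N51449 D189579
theorem N86736 : nd 86736 = n189580 := ndS (p := 51452) (l := 2) rfl N51452 D189580
theorem N86737 : nd 86737 = n189581 := ndS (p := 51452) (l := 4) rfl N51452 D189581
theorem N86738 : nd 86738 = n189582 := ndS (p := 51452) (l := 6) rfl N51452 D189582
theorem N86739 : nd 86739 = n189583 := ndS (p := 51454) (l := 0) rfl N51454 D189583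
theorem N86740 : nd 86740 = n189584 := ndS (p := 51456) (l := 0) rfl N51456 D189584
theorem N86741 : nd 86741 = n189585 := ndS (p := 51456) (l := 1) rfl N51456 D189585
theorem N86742 : nd 86742 = n189586 := ndS (p := 51456) (l := 5) rfl N51456 D189586
theorem N86743 : nd 86743 = n189587 := ndS (p := 51456) (l := 7) rfl N51456 D189587
theorem N86744 : nd 86744 = n189588 := ndS (p := 51457) (l := 3) rfl N51457 D189588
theorem N86745 : nd 86745 = n189589 := ndS (p := 51457) (l := 4) rfl N51457 D189589
theorem N86746 : nd 86746 = n189590 := ndS (p := 51457) (l := 5) rfl N51457 D189590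
theorem N86747 : nd 86747 = n189591 := ndS (p := 51457) (l := 6) rfl N51457 D189591
theorem N86748 : nd 86748 = n189592 := ndS (p := 51458) (l := 4) rfl N51458 D189592
theorem N86749 : nd 86749 = n189593 := ndS (p := 51459) (l := 0) rfl N51459 D189593
theorem N86750 : nd 86750 = n189594 := ndS (p := 51459) (l := 1) rfl N51459 D189594
theorem N86751 : nd 86751 = n189595 := ndS (p := 51459) (l := 4) rfl N51459 D189595
theorem N86752 : nd 86752 = n189596 := ndS (p := 51459) (l := 7) rfl N51459 D189596
theorem N86753 : nd 86753 = n189597 := ndS (p := 51461) (l := 0) rfl N51461 D189597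
theorem N86754 : nd 86754 = n189598 := ndS (p := 51461) (l := 2) rfl N51461 D189598
theorem N86755 : nd 86755 = n189599 := ndS (p := 51462) (l := 3) rfl N51462 D189599
theorem N86756 : nd 86756 = n189600 := ndS (p := 51465) (l := 5) rfl N51465 D189600
theorem N86757 : nd 86757 = n189601 := ndS (p := 51466) (l := 6) rfl N51466 D189601
theorem N86758 : nd 86758 = n189602 := ndS (p := 51468) (l := 5) rfl N51468 D189602
theorem N86759 : nd 86759 = n189603 := ndS (p := 51468) (l := 6) rfl N51468 D189603
theorem N86760 : nd 86760 = n189604 := ndS (p := 51469) (l := 5) rfl N51469 D189604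
theorem N86761 : nd 86761 = n189605 := ndS (p := 51469) (l := 6) rfl N51469 D189605
theorem N86762 : nd 86762 = n189606 := ndS (p := 51470) (l := 4) rfl N51470 D189606
theorem N86763 : nd 86763 = n189607 := ndS (p := 51470) (l := 6) rfl N51470 D189607
theorem N86764 : nd 86764 = n189608 := ndS (p := 51472) (l := 5) rfl N51472 D189608
theorem N86765 : nd 86765 = n189609 := ndS (p := 51472) (l := 6) rfl N51472 D189609
theorem N86766 : nd 86766 = n189610 := ndS (p := 51473) (l := 5) rfl N51473 D189610
theorem N86767 : nd 86767 = n189611 := ndS (p := 51473) (l := 6) rfl N51473 D189611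
theorem N86768 : nd 86768 = n189612 := ndS (p := 51474) (l := 4) rfl N51474 D189612
theorem N86769 : nd 86769 = n189613 := ndS (p := 51474) (l := 6) rfl N51474 D189613
theorem N86770 : nd 86770 = n189614 := ndS (p := 51476) (l := 4) rfl N51476 D189614
theorem N86771 : nd 86771 = n189615 := ndS (p := 51476) (l := 6) rfl N51476 D189615
theorem N86772 : nd 86772 = n189616 := ndS (p := 51477) (l := 3) rfl N51477 D189616
theorem N86773 : nd 86773 = n189617 := ndS (p := 51478) (l := 0) rfl N51478 D189617
theorem N86774 : nd 86774 = n189618 := ndS (p := 51478) (l := 1) rfl N51478 D189618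
theorem N86775 : nd 86775 = n189619 := ndS (p := 51478) (l := 5) rfl N51478 D189619
theorem N86776 : nd 86776 = n189620 := ndS (p := 51479) (l := 5) rfl N51479 D189620
theorem N86777 : nd 86777 = n189621 := ndS (p := 51480) (l := 4) rfl N51480 D189621
theorem N86778 : nd 86778 = n189622 := ndS (p := 51482) (l := 4) rfl N51482 D189622
theorem N86779 : nd 86779 = n189623 := ndS (p := 51486) (l := 6) rfl N51486 D189623
theorem N86780 : nd 86780 = n189624 := ndS (p := 51488) (l := 6) rfl N51488 D189624
theorem N86781 : nd 86781 = n189625 := ndS (p := 51493) (l := 0) rfl N51493 D189625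
theorem N86782 : nd 86782 = n189626 := ndS (p := 51493) (l := 1) rfl N51493 D189626
theorem N86783 : nd 86783 = n189627 := ndS (p := 51493) (l := 7) rfl N51493 D189627
theorem N86784 : nd 86784 = n189628 := ndS (p := 51494) (l := 0) rfl N51494 D189628
theorem N86785 : nd 86785 = n189629 := ndS (p := 51496) (l := 6) rfl N51496 D189629
theorem N86786 : nd 86786 = n189630 := ndS (p := 51497) (l := 6) rfl N51497 D189630
theorem N86787 : nd 86787 = n189631 := ndS (p := 51500) (l := 6) rfl N51500 D189631
theorem N86788 : nd 86788 = n189632 := ndS (p := 51505) (l := 4) rfl N51505 D189632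
theorem N86789 : nd 86789 = n189633 := ndS (p := 51505) (l := 6) rfl N51505 D189633
theorem N86790 : nd 86790 = n189634 := ndS (p := 51506) (l := 4) rfl N51506 D189634
theorem N86791 : nd 86791 = n189635 := ndS (p := 51507) (l := 3) rfl N51507 D189635
theorem N86792 : nd 86792 = n189636 := ndS (p := 51507) (l := 5) rfl N51507 D189636
theorem N86793 : nd 86793 = n189637 := ndS (p := 51508) (l := 0) rfl N51508 D189637
theorem N86794 : nd 86794 = n189638 := ndS (p := 51508) (l := 1) rfl N51508 D189638
theorem N86795 : nd 86795 = n189639 := ndS (p := 51508) (l := 7) rfl N51508 D189639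
theorem N86796 : nd 86796 = n189640 := ndS (p := 51509) (l := 5) rfl N51509 D189640
theorem N86797 : nd 86797 = n189641 := ndS (p := 51509) (l := 6) rfl N51509 D189641
theorem N86798 : nd 86798 = n189642 := ndS (p := 51511) (l := 3) rfl N51511 D189642
theorem N86799 : nd 86799 = n189643 := ndS (p := 51511) (l := 5) rfl N51511 D189643
theorem N86800 : nd 86800 = n189644 := ndS (p := 51512) (l := 0) rfl N51512 D189644
theorem N86801 : nd 86801 = n189645 := ndS (p := 51512) (l := 1) rfl N51512 D189645
theorem N86802 : nd 86802 = n189646 := ndS (p := 51512) (l := 7) rfl N51512 D189646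
theorem N86803 : nd 86803 = n189647 := ndS (p := 51513) (l := 3) rfl N51513 D189647
theorem N86804 : nd 86804 = n189648 := ndS (p := 51513) (l := 5) rfl N51513 D189648
theorem N86805 : nd 86805 = n189649 := ndS (p := 51513) (l := 6) rfl N51513 D189649
theorem N86806 : nd 86806 = n189650 := ndS (p := 51514) (l := 7) rfl N51514 D189650
theorem N86807 : nd 86807 = n189651 := ndS (p := 51515) (l := 3) rfl N51515 D189651
theorem N86808 : nd 86808 = n189652 := ndS (p := 51515) (l := 5) rfl N51515 D189652
theorem N86809 : nd 86809 = n189653 := ndS (p := 51515) (l := 6) rfl N51515 D189653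
theorem N86810 : nd 86810 = n189654 := ndS (p := 51516) (l := 3) rfl N51516 D189654
theorem N86811 : nd 86811 = n189655 := ndS (p := 51516) (l := 5) rfl N51516 D189655
theorem N86812 : nd 86812 = n189656 := ndS (p := 51516) (l := 6) rfl N51516 D189656
theorem N86813 : nd 86813 = n189657 := ndS (p := 51517) (l := 2) rfl N51517 D189657
theorem N86814 : nd 86814 = n189658 := ndS (p := 51517) (l := 7) rfl N51517 D189658
theorem N86815 : nd 86815 = n189659 := ndS (p := 51518) (l := 0) rfl N51518 D189659
theorem N86816 : nd 86816 = n189660 := ndS (p := 51518) (l := 1) rfl N51518 D189660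
theorem N86817 : nd 86817 = n189661 := ndS (p := 51520) (l := 5) rfl N51520 D189661
theorem N86818 : nd 86818 = n189662 := ndS (p := 51524) (l := 6) rfl N51524 D189662
theorem N86819 : nd 86819 = n189663 := ndS (p := 51526) (l := 1) rfl N51526 D189663
theorem N86820 : nd 86820 = n189664 := ndS (p := 51528) (l := 4) rfl N51528 D189664
theorem N86821 : nd 86821 = n189665 := ndS (p := 51529) (l := 3) rfl N51529 D189665
theorem N86822 : nd 86822 = n189666 := ndS (p := 51529) (l := 4) rfl N51529 D189666
theorem N86823 : nd 86823 = n189667 := ndS (p := 51529) (l := 6) rfl N51529 D189667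
theorem N86824 : nd 86824 = n189668 := ndS (p := 51530) (l := 3) rfl N51530 D189668
theorem N86825 : nd 86825 = n189669 := ndS (p := 51530) (l := 5) rfl N51530 D189669
theorem N86826 : nd 86826 = n189670 := ndS (p := 51531) (l := 5) rfl N51531 D189670
theorem N86827 : nd 86827 = n189671 := ndS (p := 51531) (l := 6) rfl N51531 D189671
theorem N86828 : nd 86828 = n189672 := ndS (p := 51533) (l := 6) rfl N51533 D189672
theorem N86829 : nd 86829 = n189673 := ndS (p := 51535) (l := 0) rfl N51535 D189673
theorem N86830 : nd 86830 = n189674 := ndS (p := 51535) (l := 7) rfl N51535 D189674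
theorem N86831 : nd 86831 = n189675 := ndS (p := 51536) (l := 3) rfl N51536 D189675
theorem N86832 : nd 86832 = n189676 := ndS (p := 51536) (l := 4) rfl N51536 D189676
theorem N86833 : nd 86833 = n189677 := ndS (p := 51537) (l := 4) rfl N51537 D189677
theorem N86834 : nd 86834 = n189678 := ndS (p := 51537) (l := 6) rfl N51537 D189678
theorem N86835 : nd 86835 = n189679 := ndS (p := 51540) (l := 3) rfl N51540 D189679
theorem N86836 : nd 86836 = n189680 := ndS (p := 51543) (l := 5) rfl N51543 D189680
theorem N86837 : nd 86837 = n189681 := ndS (p := 51543) (l := 6) rfl N51543 D189681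
theorem N86838 : nd 86838 = n189682 := ndS (p := 51544) (l := 3) rfl N51544 D189682
theorem N86839 : nd 86839 = n189683 := ndS (p := 51546) (l := 4) rfl N51546 D189683
theorem N86840 : nd 86840 = n189684 := ndS (p := 51547) (l := 1) rfl N51547 D189684
theorem N86841 : nd 86841 = n189685 := ndS (p := 51547) (l := 3) rfl N51547 D189685
theorem N86842 : nd 86842 = n189686 := ndS (p := 51547) (l := 5) rfl N51547 D189686
theorem N86843 : nd 86843 = n189687 := ndS (p := 51547) (l := 6) rfl N51547 D189687
theorem N86844 : nd 86844 = n189688 := ndS (p := 51548) (l := 0) rfl N51548 D189688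
theorem N86845 : nd 86845 = n189689 := ndS (p := 51548) (l := 1) rfl N51548 D189689
theorem N86846 : nd 86846 = n189690 := ndS (p := 51549) (l := 2) rfl N51549 D189690
theorem N86847 : nd 86847 = n189691 := ndS (p := 51549) (l := 6) rfl N51549 D189691
theorem N86848 : nd 86848 = n189692 := ndS (p := 51550) (l := 0) rfl N51550 D189692
theorem N86849 : nd 86849 = n189693 := ndS (p := 51550) (l := 1) rfl N51550 D189693
theorem N86850 : nd 86850 = n189694 := ndS (p := 51550) (l := 7) rfl N51550 D189694
theorem N86851 : nd 86851 = n189696 := ndS (p := 51551) (l := 3) rfl N51551 D189696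
theorem N86852 : nd 86852 = n189697 := ndS (p := 51551) (l := 4) rfl N51551 D189697
theorem N86853 : nd 86853 = n189698 := ndS (p := 51551) (l := 5) rfl N51551 D189698
theorem N86854 : nd 86854 = n189699 := ndS (p := 51552) (l := 4) rfl N51552 D189699
theorem N86855 : nd 86855 = n189700 := ndS (p := 51552) (l := 5) rfl N51552 D189700
theorem N86856 : nd 86856 = n189701 := ndS (p := 51552) (l := 6) rfl N51552 D189701
theorem N86857 : nd 86857 = n189702 := ndS (p := 51555) (l := 4) rfl N51555 D189702
theorem N86858 : nd 86858 = n189703 := ndS (p := 51555) (l := 6) rfl N51555 D189703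
theorem N86859 : nd 86859 = n189704 := ndS (p := 51556) (l := 3) rfl N51556 D189704
theorem N86860 : nd 86860 = n189705 := ndS (p := 51556) (l := 6) rfl N51556 D189705
theorem N86861 : nd 86861 = n189706 := ndS (p := 51557) (l := 0) rfl N51557 D189706
theorem N86862 : nd 86862 = n189707 := ndS (p := 51557) (l := 1) rfl N51557 D189707
theorem N86863 : nd 86863 = n189708 := ndS (p := 51558) (l := 2) rfl N51558 D189708
theorem N86864 : nd 86864 = n189711 := ndS (p := 51560) (l := 4) rfl N51560 D189711
theorem N86865 : nd 86865 = n189712 := ndS (p := 51560) (l := 6) rfl N51560 D189712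
theorem N86866 : nd 86866 = n189714 := ndS (p := 51561) (l := 3) rfl N51561 D189714
theorem N86867 : nd 86867 = n189715 := ndS (p := 51561) (l := 4) rfl N51561 D189715
theorem N86868 : nd 86868 = n189716 := ndS (p := 51563) (l := 0) rfl N51563 D189716
theorem N86869 : nd 86869 = n189717 := ndS (p := 51563) (l := 1) rfl N51563 D189717
theorem N86870 : nd 86870 = n189718 := ndS (p := 51563) (l := 2) rfl N51563 D189718
theorem N86871 : nd 86871 = n189719 := ndS (p := 51563) (l := 6) rfl N51563 D189719
theorem N86872 : nd 86872 = n189721 := ndS (p := 51564) (l := 5) rfl N51564 D189721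
theorem N86873 : nd 86873 = n189722 := ndS (p := 51564) (l := 7) rfl N51564 D189722
theorem N86874 : nd 86874 = n189723 := ndS (p := 51565) (l := 0) rfl N51565 D189723
theorem N86875 : nd 86875 = n189724 := ndS (p := 51565) (l := 1) rfl N51565 D189724
theorem N86876 : nd 86876 = n189725 := ndS (p := 51565) (l := 2) rfl N51565 D189725
theorem N86877 : nd 86877 = n189726 := ndS (p := 51565) (l := 4) rfl N51565 D189726
theorem N86878 : nd 86878 = n189728 := ndS (p := 51566) (l := 7) rfl N51566 D189728
theorem N86879 : nd 86879 = n189730 := ndS (p := 51567) (l := 3) rfl N51567 D189730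
theorem N86880 : nd 86880 = n189731 := ndS (p := 51567) (l := 4) rfl N51567 D189731
theorem N86881 : nd 86881 = n189735 := ndS (p := 51568) (l := 4) rfl N51568 D189735
theorem N86882 : nd 86882 = n189736 := ndS (p := 51568) (l := 6) rfl N51568 D189736
theorem N86883 : nd 86883 = n189737 := ndS (p := 51571) (l := 6) rfl N51571 D189737
theorem N86884 : nd 86884 = n189738 := ndS (p := 51573) (l := 6) rfl N51573 D189738
theorem N86885 : nd 86885 = n189739 := ndS (p := 51574) (l := 0) rfl N51574 D189739
theorem N86886 : nd 86886 = n189740 := ndS (p := 51574) (l := 1) rfl N51574 D189740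
theorem N86887 : nd 86887 = n189741 := ndS (p := 51574) (l := 5) rfl N51574 D189741
theorem N86888 : nd 86888 = n189742 := ndS (p := 51574) (l := 7) rfl N51574 D189742
theorem N86889 : nd 86889 = n189743 := ndS (p := 51576) (l := 3) rfl N51576 D189743
theorem N86890 : nd 86890 = n189744 := ndS (p := 51577) (l := 4) rfl N51577 D189744
theorem N86891 : nd 86891 = n189746 := ndS (p := 51578) (l := 3) rfl N51578 D189746
theorem N86892 : nd 86892 = n189748 := ndS (p := 51578) (l := 5) rfl N51578 D189748
theorem N86893 : nd 86893 = n189749 := ndS (p := 51578) (l := 6) rfl N51578 D189749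
theorem N86894 : nd 86894 = n189750 := ndS (p := 51579) (l := 3) rfl N51579 D189750
theorem N86895 : nd 86895 = n189751 := ndS (p := 51579) (l := 4) rfl N51579 D189751
theorem N86896 : nd 86896 = n189752 := ndS (p := 51579) (l := 5) rfl N51579 D189752
theorem N86897 : nd 86897 = n189753 := ndS (p := 51579) (l := 6) rfl N51579 D189753
theorem N86898 : nd 86898 = n189754 := ndS (p := 51580) (l := 0) rfl N51580 D189754
theorem N86899 : nd 86899 = n189755 := ndS (p := 51580) (l := 1) rfl N51580 D189755
theorem N86900 : nd 86900 = n189756 := ndS (p := 51580) (l := 7) rfl N51580 D189756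
theorem N86901 : nd 86901 = n189757 := ndS (p := 51583) (l := 4) rfl N51583 D189757
theorem N86902 : nd 86902 = n189758 := ndS (p := 51583) (l := 6) rfl N51583 D189758
theorem N86903 : nd 86903 = n189759 := ndS (p := 51584) (l := 4) rfl N51584 D189759
theorem N86904 : nd 86904 = n189760 := ndS (p := 51584) (l := 6) rfl N51584 D189760
theorem N86905 : nd 86905 = n189761 := ndS (p := 51586) (l := 3) rfl N51586 D189761
theorem N86906 : nd 86906 = n189762 := ndS (p := 51587) (l := 4) rfl N51587 D189762
theorem N86907 : nd 86907 = n189763 := ndS (p := 51588) (l := 0) rfl N51588 D189763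
theorem N86908 : nd 86908 = n189764 := ndS (p := 51588) (l := 1) rfl N51588 D189764
theorem N86909 : nd 86909 = n189765 := ndS (p := 51588) (l := 5) rfl N51588 D189765
theorem N86910 : nd 86910 = n189766 := ndS (p := 51589) (l := 0) rfl N51589 D189766
theorem N86911 : nd 86911 = n189767 := ndS (p := 51589) (l := 7) rfl N51589 D189767
theorem N86912 : nd 86912 = n189768 := ndS (p := 51590) (l := 3) rfl N51590 D189768
theorem N86913 : nd 86913 = n189769 := ndS (p := 51591) (l := 4) rfl N51591 D189769
theorem N86914 : nd 86914 = n189770 := ndS (p := 51593) (l := 3) rfl N51593 D189770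
theorem N86915 : nd 86915 = n189771 := ndS (p := 51594) (l := 1) rfl N51594 D189771
theorem N86916 : nd 86916 = n189772 := ndS (p := 51594) (l := 7) rfl N51594 D189772
theorem N86917 : nd 86917 = n189773 := ndS (p := 51597) (l := 4) rfl N51597 D189773
theorem N86918 : nd 86918 = n189774 := ndS (p := 51598) (l := 0) rfl N51598 D189774
theorem N86919 : nd 86919 = n189775 := ndS (p := 51598) (l := 1) rfl N51598 D189775
theorem N86920 : nd 86920 = n189776 := ndS (p := 51598) (l := 2) rfl N51598 D189776
theorem N86921 : nd 86921 = n189777 := ndS (p := 51598) (l := 6) rfl N51598 D189777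
theorem N86922 : nd 86922 = n189778 := ndS (p := 51599) (l := 0) rfl N51599 D189778
theorem N86923 : nd 86923 = n189779 := ndS (p := 51599) (l := 1) rfl N51599 D189779
theorem N86924 : nd 86924 = n189780 := ndS (p := 51599) (l := 5) rfl N51599 D189780
theorem N86925 : nd 86925 = n189781 := ndS (p := 51599) (l := 7) rfl N51599 D189781
theorem N86926 : nd 86926 = n189782 := ndS (p := 51600) (l := 3) rfl N51600 D189782
theorem N86927 : nd 86927 = n189783 := ndS (p := 51600) (l := 4) rfl N51600 D189783
theorem N86928 : nd 86928 = n189784 := ndS (p := 51600) (l := 6) rfl N51600 D189784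
theorem N86929 : nd 86929 = n189785 := ndS (p := 51601) (l := 4) rfl N51601 D189785
theorem N86930 : nd 86930 = n189786 := ndS (p := 51602) (l := 4) rfl N51602 D189786
theorem N86931 : nd 86931 = n189787 := ndS (p := 51604) (l := 3) rfl N51604 D189787
theorem N86932 : nd 86932 = n189788 := ndS (p := 51606) (l := 3) rfl N51606 D189788
theorem N86933 : nd 86933 = n189789 := ndS (p := 51606) (l := 5) rfl N51606 D189789
theorem N86934 : nd 86934 = n189790 := ndS (p := 51608) (l := 3) rfl N51608 D189790
theorem N86935 : nd 86935 = n189791 := ndS (p := 51608) (l := 5) rfl N51608 D189791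
theorem N86936 : nd 86936 = n189792 := ndS (p := 51609) (l := 0) rfl N51609 D189792
theorem N86937 : nd 86937 = n189793 := ndS (p := 51609) (l := 1) rfl N51609 D189793
theorem N86938 : nd 86938 = n189794 := ndS (p := 51609) (l := 2) rfl N51609 D189794
theorem N86939 : nd 86939 = n189795 := ndS (p := 51609) (l := 5) rfl N51609 D189795
theorem N86940 : nd 86940 = n189796 := ndS (p := 51610) (l := 4) rfl N51610 D189796
theorem N86941 : nd 86941 = n189797 := ndS (p := 51610) (l := 6) rfl N51610 D189797
theorem N86942 : nd 86942 = n189798 := ndS (p := 51611) (l := 0) rfl N51611 D189798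
theorem N86943 : nd 86943 = n189799 := ndS (p := 51611) (l := 1) rfl N51611 D189799
theorem N86944 : nd 86944 = n189800 := ndS (p := 51611) (l := 2) rfl N51611 D189800
theorem N86945 : nd 86945 = n189801 := ndS (p := 51611) (l := 5) rfl N51611 D189801
theorem N86946 : nd 86946 = n189802 := ndS (p := 51612) (l := 6) rfl N51612 D189802
theorem N86947 : nd 86947 = n189803 := ndS (p := 51613) (l := 0) rfl N51613 D189803
theorem N86948 : nd 86948 = n189804 := ndS (p := 51613) (l := 1) rfl N51613 D189804
theorem N86949 : nd 86949 = n189805 := ndS (p := 51613) (l := 2) rfl N51613 D189805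
theorem N86950 : nd 86950 = n189806 := ndS (p := 51613) (l := 6) rfl N51613 D189806
theorem N86951 : nd 86951 = n189807 := ndS (p := 51614) (l := 6) rfl N51614 D189807
theorem N86952 : nd 86952 = n189808 := ndS (p := 51617) (l := 0) rfl N51617 D189808
theorem N86953 : nd 86953 = n189809 := ndS (p := 51617) (l := 1) rfl N51617 D189809
theorem N86954 : nd 86954 = n189810 := ndS (p := 51617) (l := 2) rfl N51617 D189810
theorem N86955 : nd 86955 = n189811 := ndS (p := 51618) (l := 0) rfl N51618 D189811
theorem N86956 : nd 86956 = n189812 := ndS (p := 51618) (l := 1) rfl N51618 D189812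
theorem N86957 : nd 86957 = n189813 := ndS (p := 51618) (l := 2) rfl N51618 D189813
theorem N86958 : nd 86958 = n189814 := ndS (p := 51619) (l := 4) rfl N51619 D189814
theorem N86959 : nd 86959 = n189815 := ndS (p := 51619) (l := 6) rfl N51619 D189815
theorem N86960 : nd 86960 = n189816 := ndS (p := 51620) (l := 3) rfl N51620 D189816
theorem N86961 : nd 86961 = n189817 := ndS (p := 51620) (l := 4) rfl N51620 D189817
theorem N86962 : nd 86962 = n189818 := ndS (p := 51621) (l := 5) rfl N51621 D189818
theorem N86963 : nd 86963 = n189819 := ndS (p := 51622) (l := 1) rfl N51622 D189819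
theorem N86964 : nd 86964 = n189820 := ndS (p := 51622) (l := 4) rfl N51622 D189820
theorem N86965 : nd 86965 = n189821 := ndS (p := 51622) (l := 6) rfl N51622 D189821
theorem N86966 : nd 86966 = n189822 := ndS (p := 51627) (l := 6) rfl N51627 D189822
theorem N86967 : nd 86967 = n189823 := ndS (p := 51630) (l := 0) rfl N51630 D189823
theorem N86968 : nd 86968 = n189824 := ndS (p := 51630) (l := 7) rfl N51630 D189824
theorem N86969 : nd 86969 = n189825 := ndS (p := 51631) (l := 0) rfl N51631 D189825
theorem N86970 : nd 86970 = n189826 := ndS (p := 51631) (l := 1) rfl N51631 D189826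
theorem N86971 : nd 86971 = n189827 := ndS (p := 51633) (l := 5) rfl N51633 D189827
theorem N86972 : nd 86972 = n189828 := ndS (p := 51634) (l := 5) rfl N51634 D189828
theorem N86973 : nd 86973 = n189829 := ndS (p := 51634) (l := 6) rfl N51634 D189829
theorem N86974 : nd 86974 = n189830 := ndS (p := 51635) (l := 0) rfl N51635 D189830
theorem N86975 : nd 86975 = n189831 := ndS (p := 51635) (l := 1) rfl N51635 D189831
theorem N86976 : nd 86976 = n189832 := ndS (p := 51635) (l := 7) rfl N51635 D189832
theorem N86977 : nd 86977 = n189833 := ndS (p := 51637) (l := 4) rfl N51637 D189833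
theorem N86978 : nd 86978 = n189834 := ndS (p := 51637) (l := 6) rfl N51637 D189834
theorem N86979 : nd 86979 = n189835 := ndS (p := 51638) (l := 5) rfl N51638 D189835
theorem N86980 : nd 86980 = n189836 := ndS (p := 51640) (l := 6) rfl N51640 D189836
theorem N86981 : nd 86981 = n189837 := ndS (p := 51641) (l := 4) rfl N51641 D189837
theorem N86982 : nd 86982 = n189838 := ndS (p := 51641) (l := 6) rfl N51641 D189838
theorem N86983 : nd 86983 = n189839 := ndS (p := 51642) (l := 3) rfl N51642 D189839
theorem N86984 : nd 86984 = n189840 := ndS (p := 51642) (l := 4) rfl N51642 D189840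
theorem N86985 : nd 86985 = n189841 := ndS (p := 51643) (l := 5) rfl N51643 D189841
theorem N86986 : nd 86986 = n189842 := ndS (p := 51644) (l := 6) rfl N51644 D189842
theorem N86987 : nd 86987 = n189843 := ndS (p := 51645) (l := 6) rfl N51645 D189843
theorem N86988 : nd 86988 = n189844 := ndS (p := 51646) (l := 1) rfl N51646 D189844
theorem N86989 : nd 86989 = n189845 := ndS (p := 51646) (l := 5) rfl N51646 D189845
theorem N86990 : nd 86990 = n189846 := ndS (p := 51646) (l := 7) rfl N51646 D189846
theorem N86991 : nd 86991 = n189847 := ndS (p := 51648) (l := 5) rfl N51648 D189847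
theorem N86992 : nd 86992 = n189848 := ndS (p := 51649) (l := 0) rfl N51649 D189848
theorem N86993 : nd 86993 = n189849 := ndS (p := 51649) (l := 1) rfl N51649 D189849
theorem N86994 : nd 86994 = n189850 := ndS (p := 51649) (l := 4) rfl N51649 D189850
theorem N86995 : nd 86995 = n189851 := ndS (p := 51649) (l := 7) rfl N51649 D189851
theorem N86996 : nd 86996 = n189852 := ndS (p := 51651) (l := 2) rfl N51651 D189852
theorem N86997 : nd 86997 = n189853 := ndS (p := 51651) (l := 6) rfl N51651 D189853
theorem N86998 : nd 86998 = n189854 := ndS (p := 51653) (l := 7) rfl N51653 D189854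
theorem N86999 : nd 86999 = n189855 := ndS (p := 51654) (l := 1) rfl N51654 D189855
theorem N87000 : nd 87000 = n189856 := ndS (p := 51654) (l := 5) rfl N51654 D189856
theorem N87001 : nd 87001 = n189857 := ndS (p := 51656) (l := 0) rfl N51656 D189857
theorem N87002 : nd 87002 = n189858 := ndS (p := 51657) (l := 3) rfl N51657 D189858
theorem N87003 : nd 87003 = n189859 := ndS (p := 51657) (l := 6) rfl N51657 D189859
theorem N87004 : nd 87004 = n189860 := ndS (p := 51658) (l := 6) rfl N51658 D189860
theorem N87005 : nd 87005 = n189861 := ndS (p := 51659) (l := 5) rfl N51659 D189861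
theorem N87006 : nd 87006 = n189862 := ndS (p := 51660) (l := 5) rfl N51660 D189862
theorem N87007 : nd 87007 = n189863 := ndS (p := 51660) (l := 6) rfl N51660 D189863
theorem N87008 : nd 87008 = n189864 := ndS (p := 51661) (l := 0) rfl N51661 D189864
theorem N87009 : nd 87009 = n189865 := ndS (p := 51661) (l := 1) rfl N51661 D189865
theorem N87010 : nd 87010 = n189866 := ndS (p := 51661) (l := 4) rfl N51661 D189866
theorem N87011 : nd 87011 = n189867 := ndS (p := 51661) (l := 6) rfl N51661 D189867
theorem N87012 : nd 87012 = n189868 := ndS (p := 51662) (l := 0) rfl N51662 D189868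
theorem N87013 : nd 87013 = n189869 := ndS (p := 51662) (l := 1) rfl N51662 D189869
theorem N87014 : nd 87014 = n189870 := ndS (p := 51664) (l := 1) rfl N51664 D189870
theorem N87015 : nd 87015 = n189871 := ndS (p := 51664) (l := 7) rfl N51664 D189871
theorem N87016 : nd 87016 = n189872 := ndS (p := 51665) (l := 1) rfl N51665 D189872
theorem N87017 : nd 87017 = n189873 := ndS (p := 51665) (l := 6) rfl N51665 D189873
theorem N87018 : nd 87018 = n189874 := ndS (p := 51666) (l := 3) rfl N51666 D189874
theorem N87019 : nd 87019 = n189875 := ndS (p := 51667) (l := 0) rfl N51667 D189875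
theorem N87020 : nd 87020 = n189876 := ndS (p := 51667) (l := 1) rfl N51667 D189876
theorem N87021 : nd 87021 = n189877 := ndS (p := 51667) (l := 7) rfl N51667 D189877
theorem N87022 : nd 87022 = n189878 := ndS (p := 51668) (l := 2) rfl N51668 D189878
theorem N87023 : nd 87023 = n189879 := ndS (p := 51668) (l := 4) rfl N51668 D189879
theorem N87024 : nd 87024 = n189880 := ndS (p := 51670) (l := 1) rfl N51670 D189880
theorem N87025 : nd 87025 = n189881 := ndS (p := 51671) (l := 4) rfl N51671 D189881
theorem N87026 : nd 87026 = n189882 := ndS (p := 51673) (l := 0) rfl N51673 D189882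
theorem N87027 : nd 87027 = n189883 := ndS (p := 51674) (l := 4) rfl N51674 D189883
theorem N87028 : nd 87028 = n189884 := ndS (p := 51676) (l := 0) rfl N51676 D189884
theorem N87029 : nd 87029 = n189885 := ndS (p := 51676) (l := 1) rfl N51676 D189885
theorem N87030 : nd 87030 = n189886 := ndS (p := 51676) (l := 7) rfl N51676 D189886
theorem N87031 : nd 87031 = n189887 := ndS (p := 51677) (l := 5) rfl N51677 D189887
theorem N87032 : nd 87032 = n189888 := ndS (p := 51679) (l := 1) rfl N51679 D189888
theorem N87033 : nd 87033 = n189889 := ndS (p := 51679) (l := 5) rfl N51679 D189889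
theorem N87034 : nd 87034 = n189890 := ndS (p := 51681) (l := 5) rfl N51681 D189890
theorem N87035 : nd 87035 = n189891 := ndS (p := 51686) (l := 5) rfl N51686 D189891
theorem N87036 : nd 87036 = n189892 := ndS (p := 51689) (l := 0) rfl N51689 D189892
theorem N87037 : nd 87037 = n189893 := ndS (p := 51691) (l := 5) rfl N51691 D189893
theorem N87038 : nd 87038 = n189894 := ndS (p := 51692) (l := 6) rfl N51692 D189894
theorem N87039 : nd 87039 = n189895 := ndS (p := 51693) (l := 0) rfl N51693 D189895
theorem N87040 : nd 87040 = n189896 := ndS (p := 51693) (l := 1) rfl N51693 D189896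
theorem N87041 : nd 87041 = n189897 := ndS (p := 51693) (l := 7) rfl N51693 D189897
theorem N87042 : nd 87042 = n189898 := ndS (p := 51694) (l := 0) rfl N51694 D189898
theorem N87043 : nd 87043 = n189899 := ndS (p := 51694) (l := 7) rfl N51694 D189899
theorem N87044 : nd 87044 = n189900 := ndS (p := 51695) (l := 0) rfl N51695 D189900
theorem N87045 : nd 87045 = n189901 := ndS (p := 51695) (l := 1) rfl N51695 D189901
theorem N87046 : nd 87046 = n189902 := ndS (p := 51695) (l := 2) rfl N51695 D189902
theorem N87047 : nd 87047 = n189903 := ndS (p := 51696) (l := 1) rfl N51696 D189903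
theorem N87048 : nd 87048 = n189904 := ndS (p := 51697) (l := 3) rfl N51697 D189904
theorem N87049 : nd 87049 = n189905 := ndS (p := 51697) (l := 6) rfl N51697 D189905
theorem N87050 : nd 87050 = n189906 := ndS (p := 51698) (l := 5) rfl N51698 D189906
theorem N87051 : nd 87051 = n189907 := ndS (p := 51699) (l := 5) rfl N51699 D189907
theorem N87052 : nd 87052 = n189908 := ndS (p := 51700) (l := 5) rfl N51700 D189908
theorem N87053 : nd 87053 = n189909 := ndS (p := 51701) (l := 4) rfl N51701 D189909
theorem N87054 : nd 87054 = n189910 := ndS (p := 51701) (l := 5) rfl N51701 D189910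
theorem N87055 : nd 87055 = n189911 := ndS (p := 51702) (l := 5) rfl N51702 D189911
theorem N87056 : nd 87056 = n189912 := ndS (p := 51703) (l := 0) rfl N51703 D189912
theorem N87057 : nd 87057 = n189913 := ndS (p := 51704) (l := 3) rfl N51704 D189913
theorem N87058 : nd 87058 = n189914 := ndS (p := 51706) (l := 7) rfl N51706 D189914
theorem N87059 : nd 87059 = n189915 := ndS (p := 51708) (l := 5) rfl N51708 D189915
theorem N87060 : nd 87060 = n189916 := ndS (p := 51709) (l := 4) rfl N51709 D189916
theorem N87061 : nd 87061 = n189917 := ndS (p := 51711) (l := 5) rfl N51711 D189917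
theorem N87062 : nd 87062 = n189918 := ndS (p := 51712) (l := 4) rfl N51712 D189918
theorem N87063 : nd 87063 = n189919 := ndS (p := 51712) (l := 5) rfl N51712 D189919
theorem N87064 : nd 87064 = n189920 := ndS (p := 51712) (l := 6) rfl N51712 D189920
theorem N87065 : nd 87065 = n189921 := ndS (p := 51713) (l := 0) rfl N51713 D189921
theorem N87066 : nd 87066 = n189922 := ndS (p := 51713) (l := 4) rfl N51713 D189922
theorem N87067 : nd 87067 = n189923 := ndS (p := 51713) (l := 7) rfl N51713 D189923
theorem N87068 : nd 87068 = n189925 := ndS (p := 51715) (l := 6) rfl N51715 D189925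
theorem N87069 : nd 87069 = n189926 := ndS (p := 51717) (l := 4) rfl N51717 D189926
theorem N87070 : nd 87070 = n189927 := ndS (p := 51717) (l := 6) rfl N51717 D189927
theorem N87071 : nd 87071 = n189929 := ndS (p := 51718) (l := 1) rfl N51718 D189929
theorem N87072 : nd 87072 = n189930 := ndS (p := 51718) (l := 3) rfl N51718 D189930
theorem N87073 : nd 87073 = n189931 := ndS (p := 51720) (l := 6) rfl N51720 D189931
theorem N87074 : nd 87074 = n189932 := ndS (p := 51722) (l := 1) rfl N51722 D189932
theorem N87075 : nd 87075 = n189933 := ndS (p := 51722) (l := 7) rfl N51722 D189933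
theorem N87076 : nd 87076 = n189934 := ndS (p := 51725) (l := 5) rfl N51725 D189934
theorem N87077 : nd 87077 = n189935 := ndS (p := 51726) (l := 0) rfl N51726 D189935
theorem N87078 : nd 87078 = n189936 := ndS (p := 51726) (l := 3) rfl N51726 D189936
theorem N87079 : nd 87079 = n189937 := ndS (p := 51726) (l := 5) rfl N51726 D189937
theorem N87080 : nd 87080 = n189938 := ndS (p := 51726) (l := 7) rfl N51726 D189938
theorem N87081 : nd 87081 = n189939 := ndS (p := 51734) (l := 0) rfl N51734 D189939
theorem N87082 : nd 87082 = n189940 := ndS (p := 51734) (l := 2) rfl N51734 D189940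
theorem N87083 : nd 87083 = n189941 := ndS (p := 51735) (l := 5) rfl N51735 D189941
theorem N87084 : nd 87084 = n189942 := ndS (p := 51736) (l := 5) rfl N51736 D189942
theorem N87085 : nd 87085 = n189943 := ndS (p := 51736) (l := 7) rfl N51736 D189943
theorem N87086 : nd 87086 = n189944 := ndS (p := 51737) (l := 4) rfl N51737 D189944
theorem N87087 : nd 87087 = n189945 := ndS (p := 51738) (l := 6) rfl N51738 D189945
theorem N87088 : nd 87088 = n189946 := ndS (p := 51739) (l := 5) rfl N51739 D189946
theorem N87089 : nd 87089 = n189947 := ndS (p := 51740) (l := 3) rfl N51740 D189947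
theorem N87090 : nd 87090 = n189948 := ndS (p := 51740) (l := 4) rfl N51740 D189948
theorem N87091 : nd 87091 = n189949 := ndS (p := 51740) (l := 5) rfl N51740 D189949
theorem N87092 : nd 87092 = n189950 := ndS (p := 51741) (l := 4) rfl N51741 D189950
theorem N87093 : nd 87093 = n189951 := ndS (p := 51741) (l := 5) rfl N51741 D189951
theorem N87094 : nd 87094 = n189952 := ndS (p := 51741) (l := 6) rfl N51741 D189952
theorem N87095 : nd 87095 = n189953 := ndS (p := 51742) (l := 0) rfl N51742 D189953
theorem N87096 : nd 87096 = n189954 := ndS (p := 51742) (l := 1) rfl N51742 D189954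
theorem N87097 : nd 87097 = n189955 := ndS (p := 51742) (l := 4) rfl N51742 D189955
theorem N87098 : nd 87098 = n189956 := ndS (p := 51742) (l := 7) rfl N51742 D189956
theorem N87099 : nd 87099 = n189957 := ndS (p := 51744) (l := 0) rfl N51744 D189957
theorem N87100 : nd 87100 = n189958 := ndS (p := 51744) (l := 5) rfl N51744 D189958
theorem N87101 : nd 87101 = n189959 := ndS (p := 51744) (l := 6) rfl N51744 D189959
theorem N87102 : nd 87102 = n189960 := ndS (p := 51745) (l := 5) rfl N51745 D189960
theorem N87103 : nd 87103 = n189961 := ndS (p := 51745) (l := 6) rfl N51745 D189961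
theorem N87104 : nd 87104 = n189962 := ndS (p := 51746) (l := 4) rfl N51746 D189962
theorem N87105 : nd 87105 = n189963 := ndS (p := 51746) (l := 6) rfl N51746 D189963
theorem N87106 : nd 87106 = n189964 := ndS (p := 51748) (l := 5) rfl N51748 D189964
theorem N87107 : nd 87107 = n189965 := ndS (p := 51749) (l := 3) rfl N51749 D189965
theorem N87108 : nd 87108 = n189966 := ndS (p := 51749) (l := 4) rfl N51749 D189966
theorem N87109 : nd 87109 = n189967 := ndS (p := 51749) (l := 6) rfl N51749 D189967
theorem N87110 : nd 87110 = n189968 := ndS (p := 51750) (l := 4) rfl N51750 D189968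
theorem N87111 : nd 87111 = n189969 := ndS (p := 51750) (l := 6) rfl N51750 D189969
theorem N87112 : nd 87112 = n189971 := ndS (p := 51751) (l := 1) rfl N51751 D189971
theorem N87113 : nd 87113 = n189972 := ndS (p := 51751) (l := 3) rfl N51751 D189972
theorem N87114 : nd 87114 = n189973 := ndS (p := 51751) (l := 5) rfl N51751 D189973
theorem N87115 : nd 87115 = n189974 := ndS (p := 51751) (l := 7) rfl N51751 D189974
theorem N87116 : nd 87116 = n189975 := ndS (p := 51752) (l := 6) rfl N51752 D189975
theorem N87117 : nd 87117 = n189976 := ndS (p := 51753) (l := 5) rfl N51753 D189976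
theorem N87118 : nd 87118 = n189977 := ndS (p := 51753) (l := 6) rfl N51753 D189977
theorem N87119 : nd 87119 = n189978 := ndS (p := 51755) (l := 0) rfl N51755 D189978
theorem N87120 : nd 87120 = n189979 := ndS (p := 51755) (l := 4) rfl N51755 D189979
theorem N87121 : nd 87121 = n189980 := ndS (p := 51755) (l := 6) rfl N51755 D189980
theorem N87122 : nd 87122 = n189981 := ndS (p := 51756) (l := 1) rfl N51756 D189981
theorem N87123 : nd 87123 = n189982 := ndS (p := 51756) (l := 7) rfl N51756 D189982
theorem N87124 : nd 87124 = n189983 := ndS (p := 51757) (l := 1) rfl N51757 D189983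
theorem N87125 : nd 87125 = n189984 := ndS (p := 51757) (l := 2) rfl N51757 D189984
theorem N87126 : nd 87126 = n189985 := ndS (p := 51757) (l := 5) rfl N51757 D189985
theorem N87127 : nd 87127 = n189986 := ndS (p := 51759) (l := 3) rfl N51759 D189986
theorem N87128 : nd 87128 = n189987 := ndS (p := 51759) (l := 4) rfl N51759 D189987
theorem N87129 : nd 87129 = n189988 := ndS (p := 51760) (l := 3) rfl N51760 D189988
theorem N87130 : nd 87130 = n189989 := ndS (p := 51761) (l := 1) rfl N51761 D189989
theorem N87131 : nd 87131 = n189990 := ndS (p := 51762) (l := 6) rfl N51762 D189990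
theorem N87132 : nd 87132 = n189991 := ndS (p := 51763) (l := 5) rfl N51763 D189991
theorem N87133 : nd 87133 = n189992 := ndS (p := 51765) (l := 4) rfl N51765 D189992
theorem N87134 : nd 87134 = n189993 := ndS (p := 51766) (l := 6) rfl N51766 D189993
theorem N87135 : nd 87135 = n189994 := ndS (p := 51767) (l := 1) rfl N51767 D189994
theorem N87136 : nd 87136 = n189995 := ndS (p := 51767) (l := 7) rfl N51767 D189995
theorem N87137 : nd 87137 = n189996 := ndS (p := 51768) (l := 2) rfl N51768 D189996
theorem N87138 : nd 87138 = n189997 := ndS (p := 51769) (l := 3) rfl N51769 D189997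
theorem N87139 : nd 87139 = n189998 := ndS (p := 51769) (l := 6) rfl N51769 D189998
theorem N87140 : nd 87140 = n189999 := ndS (p := 51770) (l := 0) rfl N51770 D189999
theorem N87141 : nd 87141 = n190000 := ndS (p := 51770) (l := 1) rfl N51770 D190000
theorem N87142 : nd 87142 = n190001 := ndS (p := 51770) (l := 7) rfl N51770 D190001
theorem N87143 : nd 87143 = n190002 := ndS (p := 51771) (l := 2) rfl N51771 D190002
theorem N87144 : nd 87144 = n190003 := ndS (p := 51771) (l := 4) rfl N51771 D190003
theorem N87145 : nd 87145 = n190004 := ndS (p := 51772) (l := 3) rfl N51772 D190004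
theorem N87146 : nd 87146 = n190005 := ndS (p := 51772) (l := 6) rfl N51772 D190005
theorem N87147 : nd 87147 = n190006 := ndS (p := 51773) (l := 0) rfl N51773 D190006
theorem N87148 : nd 87148 = n190007 := ndS (p := 51773) (l := 7) rfl N51773 D190007
theorem N87149 : nd 87149 = n190008 := ndS (p := 51774) (l := 3) rfl N51774 D190008
theorem N87150 : nd 87150 = n190009 := ndS (p := 51774) (l := 6) rfl N51774 D190009
theorem N87151 : nd 87151 = n190010 := ndS (p := 51776) (l := 0) rfl N51776 D190010
theorem N87152 : nd 87152 = n190011 := ndS (p := 51776) (l := 1) rfl N51776 D190011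
theorem N87153 : nd 87153 = n190012 := ndS (p := 51776) (l := 2) rfl N51776 D190012
theorem N87154 : nd 87154 = n190013 := ndS (p := 51777) (l := 0) rfl N51777 D190013
theorem N87155 : nd 87155 = n190014 := ndS (p := 51777) (l := 1) rfl N51777 D190014
theorem N87156 : nd 87156 = n190015 := ndS (p := 51778) (l := 6) rfl N51778 D190015
theorem N87157 : nd 87157 = n190016 := ndS (p := 51779) (l := 6) rfl N51779 D190016
theorem N87158 : nd 87158 = n190017 := ndS (p := 51780) (l := 6) rfl N51780 D190017
theorem N87159 : nd 87159 = n190018 := ndS (p := 51781) (l := 3) rfl N51781 D190018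
theorem N87160 : nd 87160 = n190019 := ndS (p := 51781) (l := 6) rfl N51781 D190019
theorem N87161 : nd 87161 = n190020 := ndS (p := 51782) (l := 0) rfl N51782 D190020
theorem N87162 : nd 87162 = n190021 := ndS (p := 51782) (l := 1) rfl N51782 D190021
theorem N87163 : nd 87163 = n190022 := ndS (p := 51782) (l := 7) rfl N51782 D190022
theorem N87164 : nd 87164 = n190023 := ndS (p := 51783) (l := 6) rfl N51783 D190023
theorem N87165 : nd 87165 = n190024 := ndS (p := 51784) (l := 0) rfl N51784 D190024
theorem N87166 : nd 87166 = n190025 := ndS (p := 51784) (l := 1) rfl N51784 D190025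
theorem N87167 : nd 87167 = n190026 := ndS (p := 51784) (l := 7) rfl N51784 D190026
theorem N87168 : nd 87168 = n190027 := ndS (p := 51785) (l := 4) rfl N51785 D190027
theorem N87169 : nd 87169 = n190028 := ndS (p := 51786) (l := 3) rfl N51786 D190028
theorem N87170 : nd 87170 = n190029 := ndS (p := 51788) (l := 5) rfl N51788 D190029
theorem N87171 : nd 87171 = n190030 := ndS (p := 51790) (l := 5) rfl N51790 D190030
theorem N87172 : nd 87172 = n190031 := ndS (p := 51790) (l := 6) rfl N51790 D190031
theorem N87173 : nd 87173 = n190032 := ndS (p := 51791) (l := 3) rfl N51791 D190032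
theorem N87174 : nd 87174 = n190033 := ndS (p := 51791) (l := 5) rfl N51791 D190033
theorem N87175 : nd 87175 = n190034 := ndS (p := 51791) (l := 6) rfl N51791 D190034
theorem N87176 : nd 87176 = n190035 := ndS (p := 51792) (l := 0) rfl N51792 D190035
theorem N87177 : nd 87177 = n190036 := ndS (p := 51792) (l := 1) rfl N51792 D190036
theorem N87178 : nd 87178 = n190037 := ndS (p := 51792) (l := 4) rfl N51792 D190037
theorem N87179 : nd 87179 = n190038 := ndS (p := 51792) (l := 7) rfl N51792 D190038
theorem N87180 : nd 87180 = n190039 := ndS (p := 51794) (l := 0) rfl N51794 D190039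
theorem N87181 : nd 87181 = n190040 := ndS (p := 51794) (l := 6) rfl N51794 D190040
theorem N87182 : nd 87182 = n190041 := ndS (p := 51796) (l := 5) rfl N51796 D190041
theorem N87183 : nd 87183 = n190042 := ndS (p := 51796) (l := 6) rfl N51796 D190042
theorem N87184 : nd 87184 = n190044 := ndS (p := 51799) (l := 6) rfl N51799 D190044
theorem N87185 : nd 87185 = n190045 := ndS (p := 51800) (l := 3) rfl N51800 D190045
theorem N87186 : nd 87186 = n190046 := ndS (p := 51800) (l := 6) rfl N51800 D190046
theorem N87187 : nd 87187 = n190047 := ndS (p := 51801) (l := 3) rfl N51801 D190047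
theorem N87188 : nd 87188 = n190048 := ndS (p := 51802) (l := 6) rfl N51802 D190048
theorem N87189 : nd 87189 = n190049 := ndS (p := 51804) (l := 0) rfl N51804 D190049
theorem N87190 : nd 87190 = n190050 := ndS (p := 51804) (l := 1) rfl N51804 D190050
theorem N87191 : nd 87191 = n190051 := ndS (p := 51804) (l := 7) rfl N51804 D190051
theorem N87192 : nd 87192 = n190052 := ndS (p := 51805) (l := 6) rfl N51805 D190052
theorem N87193 : nd 87193 = n190053 := ndS (p := 51809) (l := 5) rfl N51809 D190053
theorem N87194 : nd 87194 = n190054 := ndS (p := 51809) (l := 6) rfl N51809 D190054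
theorem N87195 : nd 87195 = n190055 := ndS (p := 51810) (l := 3) rfl N51810 D190055
theorem N87196 : nd 87196 = n190056 := ndS (p := 51810) (l := 5) rfl N51810 D190056
theorem N87197 : nd 87197 = n190057 := ndS (p := 51810) (l := 6) rfl N51810 D190057
theorem N87198 : nd 87198 = n190058 := ndS (p := 51811) (l := 0) rfl N51811 D190058
theorem N87199 : nd 87199 = n190059 := ndS (p := 51811) (l := 1) rfl N51811 D190059
theorem N87200 : nd 87200 = n190060 := ndS (p := 51811) (l := 4) rfl N51811 D190060
theorem N87201 : nd 87201 = n190061 := ndS (p := 51813) (l := 0) rfl N51813 D190061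
theorem N87202 : nd 87202 = n190062 := ndS (p := 51813) (l := 5) rfl N51813 D190062
theorem N87203 : nd 87203 = n190063 := ndS (p := 51816) (l := 1) rfl N51816 D190063
theorem N87204 : nd 87204 = n190064 := ndS (p := 51817) (l := 1) rfl N51817 D190064
theorem N87205 : nd 87205 = n190065 := ndS (p := 51817) (l := 2) rfl N51817 D190065
theorem N87206 : nd 87206 = n190066 := ndS (p := 51817) (l := 4) rfl N51817 D190066
theorem N87207 : nd 87207 = n190067 := ndS (p := 51817) (l := 5) rfl N51817 D190067
theorem N87208 : nd 87208 = n190068 := ndS (p := 51817) (l := 6) rfl N51817 D190068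
theorem N87209 : nd 87209 = n190069 := ndS (p := 51819) (l := 4) rfl N51819 D190069
theorem N87210 : nd 87210 = n190070 := ndS (p := 51819) (l := 6) rfl N51819 D190070
theorem N87211 : nd 87211 = n190071 := ndS (p := 51820) (l := 5) rfl N51820 D190071
theorem N87212 : nd 87212 = n190072 := ndS (p := 51821) (l := 3) rfl N51821 D190072
theorem N87213 : nd 87213 = n190073 := ndS (p := 51821) (l := 4) rfl N51821 D190073
theorem N87214 : nd 87214 = n190074 := ndS (p := 51821) (l := 6) rfl N51821 D190074
theorem N87215 : nd 87215 = n190075 := ndS (p := 51822) (l := 3) rfl N51822 D190075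
theorem N87216 : nd 87216 = n190076 := ndS (p := 51822) (l := 4) rfl N51822 D190076
theorem N87217 : nd 87217 = n190077 := ndS (p := 51823) (l := 0) rfl N51823 D190077
theorem N87218 : nd 87218 = n190078 := ndS (p := 51823) (l := 1) rfl N51823 D190078
theorem N87219 : nd 87219 = n190079 := ndS (p := 51823) (l := 3) rfl N51823 D190079
theorem N87220 : nd 87220 = n190080 := ndS (p := 51823) (l := 5) rfl N51823 D190080
theorem N87221 : nd 87221 = n190081 := ndS (p := 51823) (l := 7) rfl N51823 D190081
theorem N87222 : nd 87222 = n190082 := ndS (p := 51825) (l := 4) rfl N51825 D190082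
theorem N87223 : nd 87223 = n190083 := ndS (p := 51825) (l := 5) rfl N51825 D190083
theorem N87224 : nd 87224 = n190084 := ndS (p := 51826) (l := 5) rfl N51826 D190084
theorem N87225 : nd 87225 = n190085 := ndS (p := 51826) (l := 6) rfl N51826 D190085
theorem N87226 : nd 87226 = n190086 := ndS (p := 51827) (l := 0) rfl N51827 D190086
theorem N87227 : nd 87227 = n190087 := ndS (p := 51827) (l := 1) rfl N51827 D190087
theorem N87228 : nd 87228 = n190088 := ndS (p := 51827) (l := 4) rfl N51827 D190088
theorem N87229 : nd 87229 = n190089 := ndS (p := 51827) (l := 6) rfl N51827 D190089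
theorem N87230 : nd 87230 = n190090 := ndS (p := 51828) (l := 0) rfl N51828 D190090
theorem N87231 : nd 87231 = n190091 := ndS (p := 51828) (l := 1) rfl N51828 D190091
theorem N87232 : nd 87232 = n190092 := ndS (p := 51829) (l := 6) rfl N51829 D190092
theorem N87233 : nd 87233 = n190093 := ndS (p := 51831) (l := 5) rfl N51831 D190093
theorem N87234 : nd 87234 = n190094 := ndS (p := 51832) (l := 5) rfl N51832 D190094
theorem N87235 : nd 87235 = n190095 := ndS (p := 51833) (l := 0) rfl N51833 D190095
theorem N87236 : nd 87236 = n190096 := ndS (p := 51833) (l := 1) rfl N51833 D190096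
theorem N87237 : nd 87237 = n190097 := ndS (p := 51833) (l := 4) rfl N51833 D190097
theorem N87238 : nd 87238 = n190098 := ndS (p := 51833) (l := 6) rfl N51833 D190098
theorem N87239 : nd 87239 = n190099 := ndS (p := 51835) (l := 1) rfl N51835 D190099
theorem N87240 : nd 87240 = n190100 := ndS (p := 51835) (l := 7) rfl N51835 D190100
theorem N87241 : nd 87241 = n190102 := ndS (p := 51836) (l := 2) rfl N51836 D190102
theorem N87242 : nd 87242 = n190103 := ndS (p := 51836) (l := 4) rfl N51836 D190103
theorem N87243 : nd 87243 = n190104 := ndS (p := 51836) (l := 6) rfl N51836 D190104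
theorem N87244 : nd 87244 = n190105 := ndS (p := 51838) (l := 1) rfl N51838 D190105
theorem N87245 : nd 87245 = n190106 := ndS (p := 51839) (l := 2) rfl N51839 D190106
theorem N87246 : nd 87246 = n190107 := ndS (p := 51839) (l := 4) rfl N51839 D190107
theorem N87247 : nd 87247 = n190108 := ndS (p := 51840) (l := 3) rfl N51840 D190108
theorem N87248 : nd 87248 = n190109 := ndS (p := 51842) (l := 0) rfl N51842 D190109
theorem N87249 : nd 87249 = n190110 := ndS (p := 51842) (l := 1) rfl N51842 D190110
theorem N87250 : nd 87250 = n190111 := ndS (p := 51842) (l := 2) rfl N51842 D190111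
theorem N87251 : nd 87251 = n190112 := ndS (p := 51843) (l := 5) rfl N51843 D190112
theorem N87252 : nd 87252 = n190113 := ndS (p := 51844) (l := 5) rfl N51844 D190113
theorem N87253 : nd 87253 = n190114 := ndS (p := 51845) (l := 5) rfl N51845 D190114
theorem N87254 : nd 87254 = n190115 := ndS (p := 51845) (l := 6) rfl N51845 D190115
theorem N87255 : nd 87255 = n190116 := ndS (p := 51846) (l := 5) rfl N51846 D190116
theorem N87256 : nd 87256 = n190117 := ndS (p := 51846) (l := 6) rfl N51846 D190117
theorem N87257 : nd 87257 = n190118 := ndS (p := 51848) (l := 5) rfl N51848 D190118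
theorem N87258 : nd 87258 = n190119 := ndS (p := 51849) (l := 4) rfl N51849 D190119
theorem N87259 : nd 87259 = n190120 := ndS (p := 51851) (l := 0) rfl N51851 D190120
theorem N87260 : nd 87260 = n190121 := ndS (p := 51851) (l := 5) rfl N51851 D190121
theorem N87261 : nd 87261 = n190122 := ndS (p := 51852) (l := 7) rfl N51852 D190122
theorem N87262 : nd 87262 = n190123 := ndS (p := 51853) (l := 4) rfl N51853 D190123
theorem N87263 : nd 87263 = n190124 := ndS (p := 51854) (l := 0) rfl N51854 D190124
theorem N87264 : nd 87264 = n190126 := ndS (p := 51854) (l := 4) rfl N51854 D190126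
theorem N87265 : nd 87265 = n190127 := ndS (p := 51854) (l := 7) rfl N51854 D190127
theorem N87266 : nd 87266 = n190128 := ndS (p := 51856) (l := 4) rfl N51856 D190128
theorem N87267 : nd 87267 = n190129 := ndS (p := 51856) (l := 6) rfl N51856 D190129
theorem N87268 : nd 87268 = n190130 := ndS (p := 51858) (l := 4) rfl N51858 D190130
theorem N87269 : nd 87269 = n190131 := ndS (p := 51858) (l := 6) rfl N51858 D190131
theorem N87270 : nd 87270 = n190132 := ndS (p := 51859) (l := 0) rfl N51859 D190132
theorem N87271 : nd 87271 = n190133 := ndS (p := 51859) (l := 1) rfl N51859 D190133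
theorem N87272 : nd 87272 = n190134 := ndS (p := 51859) (l := 3) rfl N51859 D190134
theorem N87273 : nd 87273 = n190135 := ndS (p := 51859) (l := 5) rfl N51859 D190135
theorem N87274 : nd 87274 = n190136 := ndS (p := 51859) (l := 7) rfl N51859 D190136
theorem N87275 : nd 87275 = n190137 := ndS (p := 51860) (l := 6) rfl N51860 D190137
theorem N87276 : nd 87276 = n190138 := ndS (p := 51861) (l := 4) rfl N51861 D190138
theorem N87277 : nd 87277 = n190139 := ndS (p := 51861) (l := 5) rfl N51861 D190139
theorem N87278 : nd 87278 = n190140 := ndS (p := 51862) (l := 0) rfl N51862 D190140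
theorem N87279 : nd 87279 = n190141 := ndS (p := 51862) (l := 1) rfl N51862 D190141
theorem N87280 : nd 87280 = n190142 := ndS (p := 51862) (l := 4) rfl N51862 D190142
theorem N87281 : nd 87281 = n190143 := ndS (p := 51862) (l := 6) rfl N51862 D190143
theorem N87282 : nd 87282 = n190144 := ndS (p := 51863) (l := 1) rfl N51863 D190144
theorem N87283 : nd 87283 = n190145 := ndS (p := 51863) (l := 2) rfl N51863 D190145
theorem N87284 : nd 87284 = n190146 := ndS (p := 51863) (l := 5) rfl N51863 D190146
theorem N87285 : nd 87285 = n190147 := ndS (p := 51865) (l := 4) rfl N51865 D190147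
theorem N87286 : nd 87286 = n190148 := ndS (p := 51865) (l := 6) rfl N51865 D190148
theorem N87287 : nd 87287 = n190149 := ndS (p := 51866) (l := 0) rfl N51866 D190149
theorem N87288 : nd 87288 = n190150 := ndS (p := 51866) (l := 5) rfl N51866 D190150
theorem N87289 : nd 87289 = n190151 := ndS (p := 51867) (l := 3) rfl N51867 D190151
theorem N87290 : nd 87290 = n190152 := ndS (p := 51867) (l := 4) rfl N51867 D190152
theorem N87291 : nd 87291 = n190153 := ndS (p := 51867) (l := 6) rfl N51867 D190153
theorem N87292 : nd 87292 = n190154 := ndS (p := 51868) (l := 3) rfl N51868 D190154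
theorem N87293 : nd 87293 = n190155 := ndS (p := 51868) (l := 4) rfl N51868 D190155
theorem N87294 : nd 87294 = n190156 := ndS (p := 51868) (l := 6) rfl N51868 D190156
theorem N87295 : nd 87295 = n190157 := ndS (p := 51869) (l := 0) rfl N51869 D190157
theorem N87296 : nd 87296 = n190158 := ndS (p := 51869) (l := 1) rfl N51869 D190158
theorem N87297 : nd 87297 = n190159 := ndS (p := 51869) (l := 3) rfl N51869 D190159
theorem N87298 : nd 87298 = n190160 := ndS (p := 51869) (l := 5) rfl N51869 D190160
theorem N87299 : nd 87299 = n190161 := ndS (p := 51869) (l := 7) rfl N51869 D190161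
theorem N87300 : nd 87300 = n190162 := ndS (p := 51870) (l := 6) rfl N51870 D190162
theorem N87301 : nd 87301 = n190163 := ndS (p := 51871) (l := 1) rfl N51871 D190163
theorem N87302 : nd 87302 = n190164 := ndS (p := 51873) (l := 6) rfl N51873 D190164
theorem N87303 : nd 87303 = n190165 := ndS (p := 51874) (l := 6) rfl N51874 D190165
theorem N87304 : nd 87304 = n190166 := ndS (p := 51875) (l := 3) rfl N51875 D190166
theorem N87305 : nd 87305 = n190167 := ndS (p := 51875) (l := 6) rfl N51875 D190167
theorem N87306 : nd 87306 = n190168 := ndS (p := 51876) (l := 0) rfl N51876 D190168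
theorem N87307 : nd 87307 = n190169 := ndS (p := 51876) (l := 1) rfl N51876 D190169
theorem N87308 : nd 87308 = n190170 := ndS (p := 51877) (l := 4) rfl N51877 D190170
theorem N87309 : nd 87309 = n190171 := ndS (p := 51877) (l := 5) rfl N51877 D190171
theorem N87310 : nd 87310 = n190172 := ndS (p := 51878) (l := 5) rfl N51878 D190172
theorem N87311 : nd 87311 = n190173 := ndS (p := 51879) (l := 0) rfl N51879 D190173
theorem N87312 : nd 87312 = n190174 := ndS (p := 51879) (l := 1) rfl N51879 D190174
theorem N87313 : nd 87313 = n190175 := ndS (p := 51879) (l := 4) rfl N51879 D190175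
theorem N87314 : nd 87314 = n190176 := ndS (p := 51879) (l := 6) rfl N51879 D190176
theorem N87315 : nd 87315 = n190177 := ndS (p := 51880) (l := 0) rfl N51880 D190177
theorem N87316 : nd 87316 = n190178 := ndS (p := 51880) (l := 1) rfl N51880 D190178
theorem N87317 : nd 87317 = n190179 := ndS (p := 51881) (l := 3) rfl N51881 D190179
theorem N87318 : nd 87318 = n190180 := ndS (p := 51881) (l := 6) rfl N51881 D190180
theorem N87319 : nd 87319 = n190181 := ndS (p := 51882) (l := 0) rfl N51882 D190181
theorem N87320 : nd 87320 = n190182 := ndS (p := 51882) (l := 1) rfl N51882 D190182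
theorem N87321 : nd 87321 = n190183 := ndS (p := 51882) (l := 7) rfl N51882 D190183
theorem N87322 : nd 87322 = n190184 := ndS (p := 51883) (l := 4) rfl N51883 D190184
theorem N87323 : nd 87323 = n190186 := ndS (p := 51884) (l := 3) rfl N51884 D190186
theorem N87324 : nd 87324 = n190187 := ndS (p := 51884) (l := 6) rfl N51884 D190187
theorem N87325 : nd 87325 = n190188 := ndS (p := 51885) (l := 0) rfl N51885 D190188
theorem N87326 : nd 87326 = n190189 := ndS (p := 51885) (l := 1) rfl N51885 D190189
theorem N87327 : nd 87327 = n190190 := ndS (p := 51885) (l := 7) rfl N51885 D190190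
theorem N87328 : nd 87328 = n190191 := ndS (p := 51886) (l := 2) rfl N51886 D190191
theorem N87329 : nd 87329 = n190192 := ndS (p := 51886) (l := 4) rfl N51886 D190192
theorem N87330 : nd 87330 = n190193 := ndS (p := 51886) (l := 6) rfl N51886 D190193
theorem N87331 : nd 87331 = n190194 := ndS (p := 51887) (l := 3) rfl N51887 D190194
theorem N87332 : nd 87332 = n190195 := ndS (p := 51887) (l := 6) rfl N51887 D190195
theorem N87333 : nd 87333 = n190196 := ndS (p := 51888) (l := 1) rfl N51888 D190196
theorem N87334 : nd 87334 = n190197 := ndS (p := 51888) (l := 7) rfl N51888 D190197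
theorem N87335 : nd 87335 = n190198 := ndS (p := 51890) (l := 6) rfl N51890 D190198
theorem N87336 : nd 87336 = n190199 := ndS (p := 51891) (l := 0) rfl N51891 D190199
theorem N87337 : nd 87337 = n190200 := ndS (p := 51891) (l := 1) rfl N51891 D190200
theorem N87338 : nd 87338 = n190201 := ndS (p := 51892) (l := 4) rfl N51892 D190201
theorem N87339 : nd 87339 = n190202 := ndS (p := 51892) (l := 6) rfl N51892 D190202
theorem N87340 : nd 87340 = n190203 := ndS (p := 51893) (l := 3) rfl N51893 D190203
theorem N87341 : nd 87341 = n190204 := ndS (p := 51893) (l := 6) rfl N51893 D190204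
theorem N87342 : nd 87342 = n190205 := ndS (p := 51894) (l := 0) rfl N51894 D190205
theorem N87343 : nd 87343 = n190206 := ndS (p := 51894) (l := 1) rfl N51894 D190206
theorem N87344 : nd 87344 = n190207 := ndS (p := 51894) (l := 7) rfl N51894 D190207
theorem N87345 : nd 87345 = n190208 := ndS (p := 51895) (l := 5) rfl N51895 D190208
theorem N87346 : nd 87346 = n190209 := ndS (p := 51896) (l := 5) rfl N51896 D190209
theorem N87347 : nd 87347 = n190210 := ndS (p := 51897) (l := 4) rfl N51897 D190210
theorem N87348 : nd 87348 = n190211 := ndS (p := 51898) (l := 5) rfl N51898 D190211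
theorem N87349 : nd 87349 = n190212 := ndS (p := 51899) (l := 5) rfl N51899 D190212
theorem N87350 : nd 87350 = n190213 := ndS (p := 51903) (l := 0) rfl N51903 D190213
theorem N87351 : nd 87351 = n190214 := ndS (p := 51903) (l := 1) rfl N51903 D190214
theorem N87352 : nd 87352 = n190215 := ndS (p := 51903) (l := 5) rfl N51903 D190215
theorem N87353 : nd 87353 = n190216 := ndS (p := 51903) (l := 7) rfl N51903 D190216
theorem N87354 : nd 87354 = n190217 := ndS (p := 51904) (l := 4) rfl N51904 D190217
theorem N87355 : nd 87355 = n190218 := ndS (p := 51908) (l := 4) rfl N51908 D190218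
theorem N87356 : nd 87356 = n190219 := ndS (p := 51908) (l := 5) rfl N51908 D190219
theorem N87357 : nd 87357 = n190220 := ndS (p := 51908) (l := 6) rfl N51908 D190220
theorem N87358 : nd 87358 = n190221 := ndS (p := 51909) (l := 3) rfl N51909 D190221
theorem N87359 : nd 87359 = n190222 := ndS (p := 51909) (l := 4) rfl N51909 D190222
theorem N87360 : nd 87360 = n190223 := ndS (p := 51909) (l := 5) rfl N51909 D190223
theorem N87361 : nd 87361 = n190224 := ndS (p := 51909) (l := 6) rfl N51909 D190224
theorem N87362 : nd 87362 = n190225 := ndS (p := 51910) (l := 0) rfl N51910 D190225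
theorem N87363 : nd 87363 = n190226 := ndS (p := 51910) (l := 1) rfl N51910 D190226
theorem N87364 : nd 87364 = n190227 := ndS (p := 51910) (l := 4) rfl N51910 D190227
theorem N87365 : nd 87365 = n190228 := ndS (p := 51910) (l := 7) rfl N51910 D190228
theorem N87366 : nd 87366 = n190229 := ndS (p := 51912) (l := 6) rfl N51912 D190229
theorem N87367 : nd 87367 = n190230 := ndS (p := 51913) (l := 6) rfl N51913 D190230
theorem N87368 : nd 87368 = n190231 := ndS (p := 51915) (l := 5) rfl N51915 D190231
theorem N87369 : nd 87369 = n190232 := ndS (p := 51915) (l := 6) rfl N51915 D190232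
theorem N87370 : nd 87370 = n190233 := ndS (p := 51917) (l := 4) rfl N51917 D190233
theorem N87371 : nd 87371 = n190234 := ndS (p := 51917) (l := 6) rfl N51917 D190234
theorem N87372 : nd 87372 = n190235 := ndS (p := 51918) (l := 5) rfl N51918 D190235
theorem N87373 : nd 87373 = n190236 := ndS (p := 51919) (l := 4) rfl N51919 D190236
theorem N87374 : nd 87374 = n190237 := ndS (p := 51919) (l := 6) rfl N51919 D190237
theorem N87375 : nd 87375 = n190238 := ndS (p := 51920) (l := 3) rfl N51920 D190238
theorem N87376 : nd 87376 = n190239 := ndS (p := 51920) (l := 4) rfl N51920 D190239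
theorem N87377 : nd 87377 = n190241 := ndS (p := 51921) (l := 0) rfl N51921 D190241
theorem N87378 : nd 87378 = n190242 := ndS (p := 51921) (l := 1) rfl N51921 D190242
theorem N87379 : nd 87379 = n190243 := ndS (p := 51922) (l := 5) rfl N51922 D190243
theorem N87380 : nd 87380 = n190244 := ndS (p := 51924) (l := 1) rfl N51924 D190244
theorem N87381 : nd 87381 = n190245 := ndS (p := 51926) (l := 5) rfl N51926 D190245
theorem N87382 : nd 87382 = n190246 := ndS (p := 51927) (l := 3) rfl N51927 D190246
theorem N87383 : nd 87383 = n190247 := ndS (p := 51927) (l := 6) rfl N51927 D190247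
theorem N87384 : nd 87384 = n190248 := ndS (p := 51929) (l := 0) rfl N51929 D190248
theorem N87385 : nd 87385 = n190249 := ndS (p := 51929) (l := 1) rfl N51929 D190249
theorem N87386 : nd 87386 = n190251 := ndS (p := 51929) (l := 5) rfl N51929 D190251
theorem N87387 : nd 87387 = n190252 := ndS (p := 51929) (l := 7) rfl N51929 D190252
theorem N87388 : nd 87388 = n190253 := ndS (p := 51931) (l := 4) rfl N51931 D190253
theorem N87389 : nd 87389 = n190254 := ndS (p := 51931) (l := 6) rfl N51931 D190254
theorem N87390 : nd 87390 = n190255 := ndS (p := 51932) (l := 0) rfl N51932 D190255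
theorem N87391 : nd 87391 = n190256 := ndS (p := 51932) (l := 1) rfl N51932 D190256
theorem N87392 : nd 87392 = n190257 := ndS (p := 51933) (l := 3) rfl N51933 D190257
theorem N87393 : nd 87393 = n190258 := ndS (p := 51934) (l := 0) rfl N51934 D190258
theorem N87394 : nd 87394 = n190260 := ndS (p := 51934) (l := 2) rfl N51934 D190260
theorem N87395 : nd 87395 = n190261 := ndS (p := 51935) (l := 5) rfl N51935 D190261
theorem N87396 : nd 87396 = n190262 := ndS (p := 51936) (l := 4) rfl N51936 D190262
theorem N87397 : nd 87397 = n190263 := ndS (p := 51937) (l := 5) rfl N51937 D190263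
theorem N87398 : nd 87398 = n190264 := ndS (p := 51939) (l := 4) rfl N51939 D190264
theorem N87399 : nd 87399 = n190265 := ndS (p := 51939) (l := 7) rfl N51939 D190265
theorem N87400 : nd 87400 = n190266 := ndS (p := 51944) (l := 3) rfl N51944 D190266
theorem N87401 : nd 87401 = n190267 := ndS (p := 51944) (l := 5) rfl N51944 D190267
theorem N87402 : nd 87402 = n190268 := ndS (p := 51945) (l := 5) rfl N51945 D190268
theorem N87403 : nd 87403 = n190269 := ndS (p := 51945) (l := 6) rfl N51945 D190269
theorem N87404 : nd 87404 = n190270 := ndS (p := 51946) (l := 0) rfl N51946 D190270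
theorem N87405 : nd 87405 = n190271 := ndS (p := 51946) (l := 1) rfl N51946 D190271
theorem N87406 : nd 87406 = n190272 := ndS (p := 51946) (l := 4) rfl N51946 D190272
theorem N87407 : nd 87407 = n190273 := ndS (p := 51946) (l := 7) rfl N51946 D190273
theorem N87408 : nd 87408 = n190274 := ndS (p := 51948) (l := 5) rfl N51948 D190274
theorem N87409 : nd 87409 = n190275 := ndS (p := 51948) (l := 6) rfl N51948 D190275
theorem N87410 : nd 87410 = n190276 := ndS (p := 51949) (l := 0) rfl N51949 D190276
theorem N87411 : nd 87411 = n190277 := ndS (p := 51949) (l := 6) rfl N51949 D190277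
theorem N87412 : nd 87412 = n190278 := ndS (p := 51951) (l := 6) rfl N51951 D190278
theorem N87413 : nd 87413 = n190279 := ndS (p := 51952) (l := 3) rfl N51952 D190279
theorem N87414 : nd 87414 = n190280 := ndS (p := 51952) (l := 6) rfl N51952 D190280
theorem N87415 : nd 87415 = n190281 := ndS (p := 51953) (l := 6) rfl N51953 D190281
theorem N87416 : nd 87416 = n190282 := ndS (p := 51954) (l := 0) rfl N51954 D190282
theorem N87417 : nd 87417 = n190283 := ndS (p := 51954) (l := 1) rfl N51954 D190283
theorem N87418 : nd 87418 = n190284 := ndS (p := 51954) (l := 3) rfl N51954 D190284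
theorem N87419 : nd 87419 = n190285 := ndS (p := 51955) (l := 6) rfl N51955 D190285
theorem N87420 : nd 87420 = n190286 := ndS (p := 51956) (l := 0) rfl N51956 D190286
theorem N87421 : nd 87421 = n190287 := ndS (p := 51956) (l := 1) rfl N51956 D190287
theorem N87422 : nd 87422 = n190288 := ndS (p := 51956) (l := 4) rfl N51956 D190288
theorem N87423 : nd 87423 = n190289 := ndS (p := 51957) (l := 5) rfl N51957 D190289
theorem N87424 : nd 87424 = n190290 := ndS (p := 51957) (l := 6) rfl N51957 D190290
theorem N87425 : nd 87425 = n190291 := ndS (p := 51958) (l := 4) rfl N51958 D190291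
theorem N87426 : nd 87426 = n190292 := ndS (p := 51958) (l := 6) rfl N51958 D190292
theorem N87427 : nd 87427 = n190293 := ndS (p := 51960) (l := 6) rfl N51960 D190293
theorem N87428 : nd 87428 = n190294 := ndS (p := 51961) (l := 3) rfl N51961 D190294
theorem N87429 : nd 87429 = n190295 := ndS (p := 51961) (l := 6) rfl N51961 D190295
theorem N87430 : nd 87430 = n190296 := ndS (p := 51962) (l := 0) rfl N51962 D190296
theorem N87431 : nd 87431 = n190297 := ndS (p := 51962) (l := 1) rfl N51962 D190297
theorem N87432 : nd 87432 = n190298 := ndS (p := 51962) (l := 3) rfl N51962 D190298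
theorem N87433 : nd 87433 = n190299 := ndS (p := 51962) (l := 7) rfl N51962 D190299
theorem N87434 : nd 87434 = n190300 := ndS (p := 51963) (l := 6) rfl N51963 D190300
theorem N87435 : nd 87435 = n190301 := ndS (p := 51964) (l := 4) rfl N51964 D190301
theorem N87436 : nd 87436 = n190302 := ndS (p := 51964) (l := 6) rfl N51964 D190302
theorem N87437 : nd 87437 = n190303 := ndS (p := 51965) (l := 0) rfl N51965 D190303
theorem N87438 : nd 87438 = n190304 := ndS (p := 51965) (l := 7) rfl N51965 D190304
theorem N87439 : nd 87439 = n190305 := ndS (p := 51966) (l := 3) rfl N51966 D190305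
theorem N87440 : nd 87440 = n190306 := ndS (p := 51966) (l := 6) rfl N51966 D190306
theorem N87441 : nd 87441 = n190307 := ndS (p := 51967) (l := 3) rfl N51967 D190307
theorem N87442 : nd 87442 = n190308 := ndS (p := 51968) (l := 0) rfl N51968 D190308
theorem N87443 : nd 87443 = n190309 := ndS (p := 51968) (l := 1) rfl N51968 D190309
theorem N87444 : nd 87444 = n190310 := ndS (p := 51968) (l := 2) rfl N51968 D190310
theorem N87445 : nd 87445 = n190311 := ndS (p := 51968) (l := 7) rfl N51968 D190311
theorem N87446 : nd 87446 = n190312 := ndS (p := 51969) (l := 6) rfl N51969 D190312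
theorem N87447 : nd 87447 = n190313 := ndS (p := 51970) (l := 0) rfl N51970 D190313
theorem N87448 : nd 87448 = n190314 := ndS (p := 51970) (l := 1) rfl N51970 D190314
theorem N87449 : nd 87449 = n190315 := ndS (p := 51975) (l := 5) rfl N51975 D190315
theorem N87450 : nd 87450 = n190316 := ndS (p := 51977) (l := 1) rfl N51977 D190316
theorem N87451 : nd 87451 = n190317 := ndS (p := 51978) (l := 3) rfl N51978 D190317
theorem N87452 : nd 87452 = n190318 := ndS (p := 51979) (l := 6) rfl N51979 D190318
theorem N87453 : nd 87453 = n190319 := ndS (p := 51980) (l := 4) rfl N51980 D190319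
theorem N87454 : nd 87454 = n190320 := ndS (p := 51982) (l := 0) rfl N51982 D190320
theorem N87455 : nd 87455 = n190321 := ndS (p := 51984) (l := 5) rfl N51984 D190321
theorem N87456 : nd 87456 = n190322 := ndS (p := 51985) (l := 4) rfl N51985 D190322
theorem N87457 : nd 87457 = n190323 := ndS (p := 51987) (l := 6) rfl N51987 D190323
theorem N87458 : nd 87458 = n190324 := ndS (p := 51988) (l := 3) rfl N51988 D190324
theorem N87459 : nd 87459 = n190325 := ndS (p := 51989) (l := 3) rfl N51989 D190325
theorem N87460 : nd 87460 = n190326 := ndS (p := 51989) (l := 5) rfl N51989 D190326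
theorem N87461 : nd 87461 = n190327 := ndS (p := 51993) (l := 2) rfl N51993 D190327
theorem N87462 : nd 87462 = n190328 := ndS (p := 51995) (l := 4) rfl N51995 D190328
theorem N87463 : nd 87463 = n190329 := ndS (p := 51995) (l := 6) rfl N51995 D190329
theorem N87464 : nd 87464 = n190330 := ndS (p := 51996) (l := 4) rfl N51996 D190330
theorem N87465 : nd 87465 = n190331 := ndS (p := 51998) (l := 1) rfl N51998 D190331
theorem N87466 : nd 87466 = n190332 := ndS (p := 51999) (l := 1) rfl N51999 D190332
theorem N87467 : nd 87467 = n190333 := ndS (p := 52002) (l := 5) rfl N52002 D190333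
theorem N87468 : nd 87468 = n190334 := ndS (p := 52002) (l := 6) rfl N52002 D190334
theorem N87469 : nd 87469 = n190335 := ndS (p := 52003) (l := 0) rfl N52003 D190335
theorem N87470 : nd 87470 = n190336 := ndS (p := 52003) (l := 6) rfl N52003 D190336
theorem N87471 : nd 87471 = n190337 := ndS (p := 52004) (l := 1) rfl N52004 D190337
theorem N87472 : nd 87472 = n190338 := ndS (p := 52005) (l := 0) rfl N52005 D190338
theorem N87473 : nd 87473 = n190339 := ndS (p := 52005) (l := 1) rfl N52005 D190339
theorem N87474 : nd 87474 = n190340 := ndS (p := 52005) (l := 5) rfl N52005 D190340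
theorem N87475 : nd 87475 = n190341 := ndS (p := 52005) (l := 7) rfl N52005 D190341
theorem N87476 : nd 87476 = n190342 := ndS (p := 52008) (l := 3) rfl N52008 D190342
theorem N87477 : nd 87477 = n190343 := ndS (p := 52008) (l := 4) rfl N52008 D190343
theorem N87478 : nd 87478 = n190344 := ndS (p := 52008) (l := 6) rfl N52008 D190344
theorem N87479 : nd 87479 = n190345 := ndS (p := 52009) (l := 4) rfl N52009 D190345
theorem N87480 : nd 87480 = n190346 := ndS (p := 52010) (l := 1) rfl N52010 D190346
theorem N87481 : nd 87481 = n190347 := ndS (p := 52010) (l := 6) rfl N52010 D190347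
theorem N87482 : nd 87482 = n190348 := ndS (p := 52011) (l := 0) rfl N52011 D190348
theorem N87483 : nd 87483 = n190349 := ndS (p := 52011) (l := 1) rfl N52011 D190349
theorem N87484 : nd 87484 = n190350 := ndS (p := 52011) (l := 5) rfl N52011 D190350
theorem N87485 : nd 87485 = n190351 := ndS (p := 52011) (l := 7) rfl N52011 D190351
theorem N87486 : nd 87486 = n190352 := ndS (p := 52013) (l := 4) rfl N52013 D190352
theorem N87487 : nd 87487 = n190353 := ndS (p := 52015) (l := 5) rfl N52015 D190353
theorem N87488 : nd 87488 = n190354 := ndS (p := 52016) (l := 5) rfl N52016 D190354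
theorem N87489 : nd 87489 = n190355 := ndS (p := 52016) (l := 6) rfl N52016 D190355
theorem N87490 : nd 87490 = n190357 := ndS (p := 52018) (l := 1) rfl N52018 D190357
theorem N87491 : nd 87491 = n190358 := ndS (p := 52018) (l := 4) rfl N52018 D190358
theorem N87492 : nd 87492 = n190359 := ndS (p := 52018) (l := 6) rfl N52018 D190359
theorem N87493 : nd 87493 = n190360 := ndS (p := 52019) (l := 5) rfl N52019 D190360
theorem N87494 : nd 87494 = n190361 := ndS (p := 52019) (l := 7) rfl N52019 D190361
theorem N87495 : nd 87495 = n190362 := ndS (p := 52020) (l := 1) rfl N52020 D190362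
theorem N87496 : nd 87496 = n190363 := ndS (p := 52021) (l := 3) rfl N52021 D190363
theorem N87497 : nd 87497 = n190364 := ndS (p := 52022) (l := 5) rfl N52022 D190364
theorem N87498 : nd 87498 = n190365 := ndS (p := 52024) (l := 4) rfl N52024 D190365
theorem N87499 : nd 87499 = n190366 := ndS (p := 52026) (l := 2) rfl N52026 D190366
theorem N87500 : nd 87500 = n190367 := ndS (p := 52026) (l := 5) rfl N52026 D190367
theorem N87501 : nd 87501 = n190368 := ndS (p := 52026) (l := 6) rfl N52026 D190368
theorem N87502 : nd 87502 = n190369 := ndS (p := 52027) (l := 0) rfl N52027 D190369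
theorem N87503 : nd 87503 = n190370 := ndS (p := 52027) (l := 1) rfl N52027 D190370
theorem N87504 : nd 87504 = n190371 := ndS (p := 52030) (l := 5) rfl N52030 D190371
theorem N87505 : nd 87505 = n190372 := ndS (p := 52034) (l := 3) rfl N52034 D190372
theorem N87506 : nd 87506 = n190373 := ndS (p := 52036) (l := 5) rfl N52036 D190373
theorem N87507 : nd 87507 = n190374 := ndS (p := 52037) (l := 6) rfl N52037 D190374
theorem N87508 : nd 87508 = n190375 := ndS (p := 52038) (l := 6) rfl N52038 D190375
theorem N87509 : nd 87509 = n190376 := ndS (p := 52040) (l := 5) rfl N52040 D190376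
theorem N87510 : nd 87510 = n190377 := ndS (p := 52041) (l := 6) rfl N52041 D190377
theorem N87511 : nd 87511 = n190378 := ndS (p := 52042) (l := 4) rfl N52042 D190378
theorem N87512 : nd 87512 = n190379 := ndS (p := 52042) (l := 6) rfl N52042 D190379
theorem N87513 : nd 87513 = n190380 := ndS (p := 52043) (l := 3) rfl N52043 D190380
theorem N87514 : nd 87514 = n190381 := ndS (p := 52044) (l := 0) rfl N52044 D190381
theorem N87515 : nd 87515 = n190383 := ndS (p := 52044) (l := 5) rfl N52044 D190383
theorem N87516 : nd 87516 = n190384 := ndS (p := 52045) (l := 4) rfl N52045 D190384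
theorem N87517 : nd 87517 = n190385 := ndS (p := 52046) (l := 4) rfl N52046 D190385
theorem N87518 : nd 87518 = n190386 := ndS (p := 52049) (l := 0) rfl N52049 D190386
theorem N87519 : nd 87519 = n190387 := ndS (p := 52049) (l := 1) rfl N52049 D190387
theorem N87520 : nd 87520 = n190388 := ndS (p := 52053) (l := 0) rfl N52053 D190388
theorem N87521 : nd 87521 = n190389 := ndS (p := 52053) (l := 1) rfl N52053 D190389
theorem N87522 : nd 87522 = n190390 := ndS (p := 52054) (l := 3) rfl N52054 D190390
theorem N87523 : nd 87523 = n190391 := ndS (p := 52055) (l := 4) rfl N52055 D190391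
theorem N87524 : nd 87524 = n190392 := ndS (p := 52055) (l := 6) rfl N52055 D190392
theorem N87525 : nd 87525 = n190393 := ndS (p := 52057) (l := 4) rfl N52057 D190393
theorem N87526 : nd 87526 = n190394 := ndS (p := 52057) (l := 6) rfl N52057 D190394
theorem N87527 : nd 87527 = n190395 := ndS (p := 52059) (l := 3) rfl N52059 D190395
theorem N87528 : nd 87528 = n190396 := ndS (p := 52063) (l := 4) rfl N52063 D190396
theorem N87529 : nd 87529 = n190397 := ndS (p := 52064) (l := 2) rfl N52064 D190397
theorem N87530 : nd 87530 = n190398 := ndS (p := 52064) (l := 6) rfl N52064 D190398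
theorem N87531 : nd 87531 = n190400 := ndS (p := 52065) (l := 1) rfl N52065 D190400
theorem N87532 : nd 87532 = n190401 := ndS (p := 52065) (l := 5) rfl N52065 D190401
theorem N87533 : nd 87533 = n190402 := ndS (p := 52065) (l := 7) rfl N52065 D190402
theorem N87534 : nd 87534 = n190403 := ndS (p := 52066) (l := 4) rfl N52066 D190403
theorem N87535 : nd 87535 = n190404 := ndS (p := 52066) (l := 6) rfl N52066 D190404
theorem N87536 : nd 87536 = n190405 := ndS (p := 52067) (l := 4) rfl N52067 D190405
theorem N87537 : nd 87537 = n190406 := ndS (p := 52068) (l := 4) rfl N52068 D190406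
theorem N87538 : nd 87538 = n190407 := ndS (p := 52071) (l := 4) rfl N52071 D190407
theorem N87539 : nd 87539 = n190408 := ndS (p := 52071) (l := 6) rfl N52071 D190408
theorem N87540 : nd 87540 = n190409 := ndS (p := 52072) (l := 0) rfl N52072 D190409
theorem N87541 : nd 87541 = n190410 := ndS (p := 52072) (l := 6) rfl N52072 D190410
theorem N87542 : nd 87542 = n190411 := ndS (p := 52073) (l := 5) rfl N52073 D190411
theorem N87543 : nd 87543 = n190412 := ndS (p := 52073) (l := 7) rfl N52073 D190412
theorem N87544 : nd 87544 = n190413 := ndS (p := 52074) (l := 3) rfl N52074 D190413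
theorem N87545 : nd 87545 = n190414 := ndS (p := 52074) (l := 6) rfl N52074 D190414
theorem N87546 : nd 87546 = n190415 := ndS (p := 52075) (l := 3) rfl N52075 D190415
theorem N87547 : nd 87547 = n190416 := ndS (p := 52076) (l := 0) rfl N52076 D190416
theorem N87548 : nd 87548 = n190417 := ndS (p := 52076) (l := 1) rfl N52076 D190417
theorem N87549 : nd 87549 = n190418 := ndS (p := 52076) (l := 2) rfl N52076 D190418
theorem N87550 : nd 87550 = n190419 := ndS (p := 52076) (l := 6) rfl N52076 D190419
theorem N87551 : nd 87551 = n190420 := ndS (p := 52077) (l := 0) rfl N52077 D190420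
theorem N87552 : nd 87552 = n190421 := ndS (p := 52077) (l := 5) rfl N52077 D190421
theorem N87553 : nd 87553 = n190422 := ndS (p := 52077) (l := 7) rfl N52077 D190422
theorem N87554 : nd 87554 = n190424 := ndS (p := 52078) (l := 3) rfl N52078 D190424
theorem N87555 : nd 87555 = n190425 := ndS (p := 52078) (l := 4) rfl N52078 D190425
theorem N87556 : nd 87556 = n190426 := ndS (p := 52078) (l := 5) rfl N52078 D190426
theorem N87557 : nd 87557 = n190429 := ndS (p := 52079) (l := 4) rfl N52079 D190429
theorem N87558 : nd 87558 = n190430 := ndS (p := 52079) (l := 5) rfl N52079 D190430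
theorem N87559 : nd 87559 = n190431 := ndS (p := 52079) (l := 6) rfl N52079 D190431
theorem N87560 : nd 87560 = n190432 := ndS (p := 52080) (l := 4) rfl N52080 D190432
theorem N87561 : nd 87561 = n190433 := ndS (p := 52080) (l := 7) rfl N52080 D190433
theorem N87562 : nd 87562 = n190434 := ndS (p := 52082) (l := 6) rfl N52082 D190434
theorem N87563 : nd 87563 = n190435 := ndS (p := 52083) (l := 6) rfl N52083 D190435
theorem N87564 : nd 87564 = n190436 := ndS (p := 52084) (l := 1) rfl N52084 D190436
theorem N87565 : nd 87565 = n190437 := ndS (p := 52084) (l := 7) rfl N52084 D190437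
theorem N87566 : nd 87566 = n190438 := ndS (p := 52085) (l := 1) rfl N52085 D190438
theorem N87567 : nd 87567 = n190439 := ndS (p := 52085) (l := 2) rfl N52085 D190439
theorem N87568 : nd 87568 = n190440 := ndS (p := 52086) (l := 0) rfl N52086 D190440
theorem N87569 : nd 87569 = n190441 := ndS (p := 52086) (l := 1) rfl N52086 D190441
theorem N87570 : nd 87570 = n190442 := ndS (p := 52086) (l := 7) rfl N52086 D190442
theorem N87571 : nd 87571 = n190443 := ndS (p := 52087) (l := 6) rfl N52087 D190443
theorem N87572 : nd 87572 = n190444 := ndS (p := 52088) (l := 3) rfl N52088 D190444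
theorem N87573 : nd 87573 = n190445 := ndS (p := 52088) (l := 5) rfl N52088 D190445
theorem N87574 : nd 87574 = n190446 := ndS (p := 52090) (l := 0) rfl N52090 D190446
theorem N87575 : nd 87575 = n190447 := ndS (p := 52090) (l := 1) rfl N52090 D190447
theorem N87576 : nd 87576 = n190448 := ndS (p := 52090) (l := 2) rfl N52090 D190448
theorem N87577 : nd 87577 = n190449 := ndS (p := 52090) (l := 6) rfl N52090 D190449
theorem N87578 : nd 87578 = n190451 := ndS (p := 52091) (l := 5) rfl N52091 D190451
theorem N87579 : nd 87579 = n190452 := ndS (p := 52091) (l := 7) rfl N52091 D190452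
theorem N87580 : nd 87580 = n190453 := ndS (p := 52092) (l := 0) rfl N52092 D190453
theorem N87581 : nd 87581 = n190454 := ndS (p := 52092) (l := 1) rfl N52092 D190454
theorem N87582 : nd 87582 = n190455 := ndS (p := 52092) (l := 2) rfl N52092 D190455
theorem N87583 : nd 87583 = n190456 := ndS (p := 52092) (l := 4) rfl N52092 D190456
theorem N87584 : nd 87584 = n190458 := ndS (p := 52093) (l := 5) rfl N52093 D190458
theorem N87585 : nd 87585 = n190459 := ndS (p := 52094) (l := 0) rfl N52094 D190459
theorem N87586 : nd 87586 = n190460 := ndS (p := 52094) (l := 2) rfl N52094 D190460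
theorem N87587 : nd 87587 = n190461 := ndS (p := 52094) (l := 3) rfl N52094 D190461
theorem N87588 : nd 87588 = n190462 := ndS (p := 52094) (l := 4) rfl N52094 D190462
theorem N87589 : nd 87589 = n190463 := ndS (p := 52094) (l := 6) rfl N52094 D190463
theorem N87590 : nd 87590 = n190464 := ndS (p := 52095) (l := 3) rfl N52095 D190464
theorem N87591 : nd 87591 = n190465 := ndS (p := 52095) (l := 4) rfl N52095 D190465
theorem N87592 : nd 87592 = n190466 := ndS (p := 52096) (l := 5) rfl N52096 D190466
theorem N87593 : nd 87593 = n190467 := ndS (p := 52097) (l := 0) rfl N52097 D190467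
theorem N87594 : nd 87594 = n190468 := ndS (p := 52097) (l := 1) rfl N52097 D190468
theorem N87595 : nd 87595 = n190469 := ndS (p := 52097) (l := 4) rfl N52097 D190469
theorem N87596 : nd 87596 = n190471 := ndS (p := 52099) (l := 1) rfl N52099 D190471
theorem N87597 : nd 87597 = n190472 := ndS (p := 52099) (l := 7) rfl N52099 D190472
theorem N87598 : nd 87598 = n190473 := ndS (p := 52100) (l := 0) rfl N52100 D190473
theorem N87599 : nd 87599 = n190474 := ndS (p := 52100) (l := 1) rfl N52100 D190474
theorem N87600 : nd 87600 = n190475 := ndS (p := 52100) (l := 5) rfl N52100 D190475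
theorem N87601 : nd 87601 = n190476 := ndS (p := 52101) (l := 3) rfl N52101 D190476
theorem N87602 : nd 87602 = n190477 := ndS (p := 52101) (l := 5) rfl N52101 D190477
theorem N87603 : nd 87603 = n190478 := ndS (p := 52102) (l := 3) rfl N52102 D190478
theorem N87604 : nd 87604 = n190479 := ndS (p := 52102) (l := 4) rfl N52102 D190479
theorem N87605 : nd 87605 = n190480 := ndS (p := 52102) (l := 5) rfl N52102 D190480
theorem N87606 : nd 87606 = n190481 := ndS (p := 52102) (l := 6) rfl N52102 D190481
theorem N87607 : nd 87607 = n190482 := ndS (p := 52103) (l := 5) rfl N52103 D190482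
theorem N87608 : nd 87608 = n190483 := ndS (p := 52104) (l := 5) rfl N52104 D190483
theorem N87609 : nd 87609 = n190484 := ndS (p := 52105) (l := 5) rfl N52105 D190484
theorem N87610 : nd 87610 = n190485 := ndS (p := 52106) (l := 0) rfl N52106 D190485
theorem N87611 : nd 87611 = n190486 := ndS (p := 52106) (l := 1) rfl N52106 D190486
theorem N87612 : nd 87612 = n190487 := ndS (p := 52106) (l := 4) rfl N52106 D190487
theorem N87613 : nd 87613 = n190488 := ndS (p := 52106) (l := 6) rfl N52106 D190488
theorem N87614 : nd 87614 = n190489 := ndS (p := 52107) (l := 3) rfl N52107 D190489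
theorem N87615 : nd 87615 = n190490 := ndS (p := 52107) (l := 6) rfl N52107 D190490
theorem N87616 : nd 87616 = n190491 := ndS (p := 52108) (l := 0) rfl N52108 D190491
theorem N87617 : nd 87617 = n190492 := ndS (p := 52108) (l := 1) rfl N52108 D190492
theorem N87618 : nd 87618 = n190493 := ndS (p := 52108) (l := 7) rfl N52108 D190493
theorem N87619 : nd 87619 = n190494 := ndS (p := 52110) (l := 5) rfl N52110 D190494
theorem N87620 : nd 87620 = n190495 := ndS (p := 52111) (l := 3) rfl N52111 D190495
theorem N87621 : nd 87621 = n190496 := ndS (p := 52115) (l := 3) rfl N52115 D190496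
theorem N87622 : nd 87622 = n190497 := ndS (p := 52116) (l := 4) rfl N52116 D190497
theorem N87623 : nd 87623 = n190498 := ndS (p := 52117) (l := 2) rfl N52117 D190498
theorem N87624 : nd 87624 = n190499 := ndS (p := 52117) (l := 4) rfl N52117 D190499
theorem N87625 : nd 87625 = n190500 := ndS (p := 52117) (l := 6) rfl N52117 D190500
theorem N87626 : nd 87626 = n190501 := ndS (p := 52123) (l := 6) rfl N52123 D190501
theorem N87627 : nd 87627 = n190502 := ndS (p := 52124) (l := 7) rfl N52124 D190502
theorem N87628 : nd 87628 = n190503 := ndS (p := 52125) (l := 3) rfl N52125 D190503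
theorem N87629 : nd 87629 = n190504 := ndS (p := 52126) (l := 6) rfl N52126 D190504
theorem N87630 : nd 87630 = n190505 := ndS (p := 52127) (l := 7) rfl N52127 D190505
theorem N87631 : nd 87631 = n190506 := ndS (p := 52129) (l := 6) rfl N52129 D190506
theorem N87632 : nd 87632 = n190507 := ndS (p := 52132) (l := 6) rfl N52132 D190507
theorem N87633 : nd 87633 = n190508 := ndS (p := 52133) (l := 0) rfl N52133 D190508
theorem N87634 : nd 87634 = n190509 := ndS (p := 52133) (l := 1) rfl N52133 D190509
theorem N87635 : nd 87635 = n190510 := ndS (p := 52133) (l := 7) rfl N52133 D190510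
theorem N87636 : nd 87636 = n190511 := ndS (p := 52134) (l := 5) rfl N52134 D190511
theorem N87637 : nd 87637 = n190512 := ndS (p := 52135) (l := 0) rfl N52135 D190512
theorem N87638 : nd 87638 = n190513 := ndS (p := 52135) (l := 1) rfl N52135 D190513
theorem N87639 : nd 87639 = n190514 := ndS (p := 52135) (l := 6) rfl N52135 D190514
theorem N87640 : nd 87640 = n190515 := ndS (p := 52137) (l := 3) rfl N52137 D190515
theorem N87641 : nd 87641 = n190516 := ndS (p := 52137) (l := 6) rfl N52137 D190516
theorem N87642 : nd 87642 = n190517 := ndS (p := 52138) (l := 0) rfl N52138 D190517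
theorem N87643 : nd 87643 = n190518 := ndS (p := 52138) (l := 1) rfl N52138 D190518
theorem N87644 : nd 87644 = n190519 := ndS (p := 52138) (l := 7) rfl N52138 D190519
theorem N87645 : nd 87645 = n190520 := ndS (p := 52141) (l := 3) rfl N52141 D190520
theorem N87646 : nd 87646 = n190521 := ndS (p := 52141) (l := 6) rfl N52141 D190521
theorem N87647 : nd 87647 = n190522 := ndS (p := 52143) (l := 0) rfl N52143 D190522
theorem N87648 : nd 87648 = n190523 := ndS (p := 52143) (l := 2) rfl N52143 D190523
theorem N87649 : nd 87649 = n190524 := ndS (p := 52144) (l := 5) rfl N52144 D190524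
theorem N87650 : nd 87650 = n190525 := ndS (p := 52144) (l := 7) rfl N52144 D190525
theorem N87651 : nd 87651 = n190526 := ndS (p := 52145) (l := 3) rfl N52145 D190526
theorem N87652 : nd 87652 = n190527 := ndS (p := 52145) (l := 4) rfl N52145 D190527
theorem N87653 : nd 87653 = n190528 := ndS (p := 52145) (l := 6) rfl N52145 D190528
theorem N87654 : nd 87654 = n190529 := ndS (p := 52146) (l := 3) rfl N52146 D190529
theorem N87655 : nd 87655 = n190530 := ndS (p := 52146) (l := 4) rfl N52146 D190530
theorem N87656 : nd 87656 = n190531 := ndS (p := 52149) (l := 4) rfl N52149 D190531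
theorem N87657 : nd 87657 = n190532 := ndS (p := 52150) (l := 7) rfl N52150 D190532
theorem N87658 : nd 87658 = n190533 := ndS (p := 52152) (l := 3) rfl N52152 D190533
theorem N87659 : nd 87659 = n190534 := ndS (p := 52153) (l := 3) rfl N52153 D190534
theorem N87660 : nd 87660 = n190535 := ndS (p := 52153) (l := 6) rfl N52153 D190535
theorem N87661 : nd 87661 = n190536 := ndS (p := 52154) (l := 1) rfl N52154 D190536
theorem N87662 : nd 87662 = n190537 := ndS (p := 52155) (l := 6) rfl N52155 D190537
theorem N87663 : nd 87663 = n190538 := ndS (p := 52157) (l := 0) rfl N52157 D190538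
theorem N87664 : nd 87664 = n190539 := ndS (p := 52157) (l := 1) rfl N52157 D190539
theorem N87665 : nd 87665 = n190541 := ndS (p := 52159) (l := 3) rfl N52159 D190541
theorem N87666 : nd 87666 = n190542 := ndS (p := 52159) (l := 5) rfl N52159 D190542
theorem N87667 : nd 87667 = n190543 := ndS (p := 52159) (l := 6) rfl N52159 D190543
theorem N87668 : nd 87668 = n190544 := ndS (p := 52160) (l := 3) rfl N52160 D190544
theorem N87669 : nd 87669 = n190545 := ndS (p := 52160) (l := 5) rfl N52160 D190545
theorem N87670 : nd 87670 = n190546 := ndS (p := 52160) (l := 6) rfl N52160 D190546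
theorem N87671 : nd 87671 = n190547 := ndS (p := 52161) (l := 0) rfl N52161 D190547
theorem N87672 : nd 87672 = n190548 := ndS (p := 52161) (l := 1) rfl N52161 D190548
theorem N87673 : nd 87673 = n190549 := ndS (p := 52163) (l := 0) rfl N52163 D190549
theorem N87674 : nd 87674 = n190550 := ndS (p := 52166) (l := 1) rfl N52166 D190550
theorem N87675 : nd 87675 = n190551 := ndS (p := 52167) (l := 2) rfl N52167 D190551
theorem N87676 : nd 87676 = n190552 := ndS (p := 52167) (l := 4) rfl N52167 D190552
theorem N87677 : nd 87677 = n190553 := ndS (p := 52168) (l := 3) rfl N52168 D190553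
theorem N87678 : nd 87678 = n190554 := ndS (p := 52169) (l := 0) rfl N52169 D190554
theorem N87679 : nd 87679 = n190555 := ndS (p := 52169) (l := 1) rfl N52169 D190555
theorem N87680 : nd 87680 = n190556 := ndS (p := 52169) (l := 2) rfl N52169 D190556
theorem N87681 : nd 87681 = n190557 := ndS (p := 52169) (l := 6) rfl N52169 D190557
theorem N87682 : nd 87682 = n190558 := ndS (p := 52170) (l := 0) rfl N52170 D190558
theorem N87683 : nd 87683 = n190559 := ndS (p := 52170) (l := 1) rfl N52170 D190559
theorem N87684 : nd 87684 = n190560 := ndS (p := 52170) (l := 5) rfl N52170 D190560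
theorem N87685 : nd 87685 = n190561 := ndS (p := 52170) (l := 7) rfl N52170 D190561
theorem N87686 : nd 87686 = n190562 := ndS (p := 52171) (l := 4) rfl N52171 D190562
theorem N87687 : nd 87687 = n190563 := ndS (p := 52171) (l := 5) rfl N52171 D190563
theorem N87688 : nd 87688 = n190564 := ndS (p := 52172) (l := 3) rfl N52172 D190564
theorem N87689 : nd 87689 = n190565 := ndS (p := 52172) (l := 4) rfl N52172 D190565
theorem N87690 : nd 87690 = n190566 := ndS (p := 52173) (l := 0) rfl N52173 D190566
theorem N87691 : nd 87691 = n190567 := ndS (p := 52173) (l := 1) rfl N52173 D190567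
theorem N87692 : nd 87692 = n190568 := ndS (p := 52173) (l := 4) rfl N52173 D190568
theorem N87693 : nd 87693 = n190569 := ndS (p := 52173) (l := 7) rfl N52173 D190569
theorem N87694 : nd 87694 = n190570 := ndS (p := 52175) (l := 3) rfl N52175 D190570
theorem N87695 : nd 87695 = n190571 := ndS (p := 52176) (l := 3) rfl N52176 D190571
theorem N87696 : nd 87696 = n190572 := ndS (p := 52176) (l := 5) rfl N52176 D190572
theorem N87697 : nd 87697 = n190573 := ndS (p := 52178) (l := 6) rfl N52178 D190573
theorem N87698 : nd 87698 = n190574 := ndS (p := 52179) (l := 1) rfl N52179 D190574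
theorem N87699 : nd 87699 = n190575 := ndS (p := 52179) (l := 5) rfl N52179 D190575
theorem N87700 : nd 87700 = n190576 := ndS (p := 52179) (l := 7) rfl N52179 D190576
theorem N87701 : nd 87701 = n190577 := ndS (p := 52181) (l := 6) rfl N52181 D190577
theorem N87702 : nd 87702 = n190578 := ndS (p := 52182) (l := 6) rfl N52182 D190578
theorem N87703 : nd 87703 = n190579 := ndS (p := 52184) (l := 5) rfl N52184 D190579
theorem N87704 : nd 87704 = n190580 := ndS (p := 52189) (l := 6) rfl N52189 D190580
theorem N87705 : nd 87705 = n190581 := ndS (p := 52191) (l := 3) rfl N52191 D190581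
theorem N87706 : nd 87706 = n190582 := ndS (p := 52192) (l := 5) rfl N52192 D190582
theorem N87707 : nd 87707 = n190583 := ndS (p := 52193) (l := 4) rfl N52193 D190583
theorem N87708 : nd 87708 = n190584 := ndS (p := 52194) (l := 0) rfl N52194 D190584
theorem N87709 : nd 87709 = n190585 := ndS (p := 52194) (l := 5) rfl N52194 D190585
theorem N87710 : nd 87710 = n190586 := ndS (p := 52194) (l := 7) rfl N52194 D190586
theorem N87711 : nd 87711 = n190587 := ndS (p := 52195) (l := 4) rfl N52195 D190587
theorem N87712 : nd 87712 = n190588 := ndS (p := 52196) (l := 5) rfl N52196 D190588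
theorem N87713 : nd 87713 = n190589 := ndS (p := 52196) (l := 7) rfl N52196 D190589
theorem N87714 : nd 87714 = n190590 := ndS (p := 52197) (l := 6) rfl N52197 D190590
theorem N87715 : nd 87715 = n190591 := ndS (p := 52198) (l := 7) rfl N52198 D190591
theorem N87716 : nd 87716 = n190592 := ndS (p := 52199) (l := 5) rfl N52199 D190592
theorem N87717 : nd 87717 = n190593 := ndS (p := 52200) (l := 5) rfl N52200 D190593
theorem N87718 : nd 87718 = n190594 := ndS (p := 52201) (l := 0) rfl N52201 D190594
theorem N87719 : nd 87719 = n190595 := ndS (p := 52201) (l := 1) rfl N52201 D190595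
theorem N87720 : nd 87720 = n190596 := ndS (p := 52201) (l := 4) rfl N52201 D190596
theorem N87721 : nd 87721 = n190597 := ndS (p := 52201) (l := 7) rfl N52201 D190597
theorem N87722 : nd 87722 = n190598 := ndS (p := 52203) (l := 0) rfl N52203 D190598
theorem N87723 : nd 87723 = n190599 := ndS (p := 52203) (l := 4) rfl N52203 D190599
theorem N87724 : nd 87724 = n190600 := ndS (p := 52203) (l := 6) rfl N52203 D190600
theorem N87725 : nd 87725 = n190601 := ndS (p := 52206) (l := 4) rfl N52206 D190601
theorem N87726 : nd 87726 = n190602 := ndS (p := 52206) (l := 6) rfl N52206 D190602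
theorem N87727 : nd 87727 = n190603 := ndS (p := 52207) (l := 4) rfl N52207 D190603
theorem N87728 : nd 87728 = n190604 := ndS (p := 52207) (l := 6) rfl N52207 D190604
theorem N87729 : nd 87729 = n190605 := ndS (p := 52208) (l := 3) rfl N52208 D190605
theorem N87730 : nd 87730 = n190606 := ndS (p := 52208) (l := 4) rfl N52208 D190606
theorem N87731 : nd 87731 = n190607 := ndS (p := 52208) (l := 6) rfl N52208 D190607
theorem N87732 : nd 87732 = n190608 := ndS (p := 52209) (l := 1) rfl N52209 D190608
theorem N87733 : nd 87733 = n190609 := ndS (p := 52210) (l := 6) rfl N52210 D190609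
theorem N87734 : nd 87734 = n190610 := ndS (p := 52211) (l := 0) rfl N52211 D190610
theorem N87735 : nd 87735 = n190611 := ndS (p := 52211) (l := 1) rfl N52211 D190611
theorem N87736 : nd 87736 = n190612 := ndS (p := 52211) (l := 5) rfl N52211 D190612
theorem N87737 : nd 87737 = n190613 := ndS (p := 52211) (l := 7) rfl N52211 D190613
theorem N87738 : nd 87738 = n190614 := ndS (p := 52212) (l := 5) rfl N52212 D190614
theorem N87739 : nd 87739 = n190615 := ndS (p := 52213) (l := 5) rfl N52213 D190615
theorem N87740 : nd 87740 = n190616 := ndS (p := 52214) (l := 0) rfl N52214 D190616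
theorem N87741 : nd 87741 = n190617 := ndS (p := 52214) (l := 1) rfl N52214 D190617
theorem N87742 : nd 87742 = n190618 := ndS (p := 52214) (l := 7) rfl N52214 D190618
theorem N87743 : nd 87743 = n190619 := ndS (p := 52216) (l := 5) rfl N52216 D190619
theorem N87744 : nd 87744 = n190620 := ndS (p := 52217) (l := 3) rfl N52217 D190620
theorem N87745 : nd 87745 = n190621 := ndS (p := 52217) (l := 5) rfl N52217 D190621
theorem N87746 : nd 87746 = n190622 := ndS (p := 52217) (l := 6) rfl N52217 D190622
theorem N87747 : nd 87747 = n190623 := ndS (p := 52218) (l := 1) rfl N52218 D190623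
theorem N87748 : nd 87748 = n190624 := ndS (p := 52218) (l := 7) rfl N52218 D190624
theorem N87749 : nd 87749 = n190625 := ndS (p := 52220) (l := 0) rfl N52220 D190625
theorem N87750 : nd 87750 = n190626 := ndS (p := 52221) (l := 1) rfl N52221 D190626
theorem N87751 : nd 87751 = n190627 := ndS (p := 52221) (l := 7) rfl N52221 D190627
theorem N87752 : nd 87752 = n190628 := ndS (p := 52222) (l := 4) rfl N52222 D190628
theorem N87753 : nd 87753 = n190629 := ndS (p := 52222) (l := 6) rfl N52222 D190629
theorem N87754 : nd 87754 = n190630 := ndS (p := 52224) (l := 5) rfl N52224 D190630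
theorem N87755 : nd 87755 = n190631 := ndS (p := 52226) (l := 5) rfl N52226 D190631
theorem N87756 : nd 87756 = n190632 := ndS (p := 52230) (l := 0) rfl N52230 D190632
theorem N87757 : nd 87757 = n190633 := ndS (p := 52230) (l := 1) rfl N52230 D190633
theorem N87758 : nd 87758 = n190634 := ndS (p := 52234) (l := 6) rfl N52234 D190634
theorem N87759 : nd 87759 = n190635 := ndS (p := 52237) (l := 0) rfl N52237 D190635
theorem N87760 : nd 87760 = n190636 := ndS (p := 52237) (l := 1) rfl N52237 D190636
theorem N87761 : nd 87761 = n190637 := ndS (p := 52237) (l := 2) rfl N52237 D190637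
theorem N87762 : nd 87762 = n190638 := ndS (p := 52238) (l := 0) rfl N52238 D190638
theorem N87763 : nd 87763 = n190640 := ndS (p := 52238) (l := 2) rfl N52238 D190640
theorem N87764 : nd 87764 = n190641 := ndS (p := 52239) (l := 4) rfl N52239 D190641
theorem N87765 : nd 87765 = n190642 := ndS (p := 52239) (l := 5) rfl N52239 D190642
theorem N87766 : nd 87766 = n190643 := ndS (p := 52240) (l := 5) rfl N52240 D190643
theorem N87767 : nd 87767 = n190645 := ndS (p := 52242) (l := 6) rfl N52242 D190645
theorem N87768 : nd 87768 = n190646 := ndS (p := 52243) (l := 3) rfl N52243 D190646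
theorem N87769 : nd 87769 = n190647 := ndS (p := 52243) (l := 6) rfl N52243 D190647
theorem N87770 : nd 87770 = n190648 := ndS (p := 52244) (l := 0) rfl N52244 D190648
theorem N87771 : nd 87771 = n190649 := ndS (p := 52244) (l := 1) rfl N52244 D190649
theorem N87772 : nd 87772 = n190650 := ndS (p := 52244) (l := 7) rfl N52244 D190650
theorem N87773 : nd 87773 = n190651 := ndS (p := 52246) (l := 5) rfl N52246 D190651
theorem N87774 : nd 87774 = n190652 := ndS (p := 52248) (l := 0) rfl N52248 D190652
theorem N87775 : nd 87775 = n190653 := ndS (p := 52248) (l := 1) rfl N52248 D190653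
theorem N87776 : nd 87776 = n190654 := ndS (p := 52248) (l := 2) rfl N52248 D190654
theorem N87777 : nd 87777 = n190655 := ndS (p := 52249) (l := 1) rfl N52249 D190655
theorem N87778 : nd 87778 = n190656 := ndS (p := 52249) (l := 2) rfl N52249 D190656
theorem N87779 : nd 87779 = n190657 := ndS (p := 52251) (l := 1) rfl N52251 D190657
theorem N87780 : nd 87780 = n190658 := ndS (p := 52251) (l := 2) rfl N52251 D190658
theorem N87781 : nd 87781 = n190660 := ndS (p := 52252) (l := 3) rfl N52252 D190660
theorem N87782 : nd 87782 = n190661 := ndS (p := 52252) (l := 4) rfl N52252 D190661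
theorem N87783 : nd 87783 = n190663 := ndS (p := 52253) (l := 3) rfl N52253 D190663
theorem N87784 : nd 87784 = n190664 := ndS (p := 52253) (l := 4) rfl N52253 D190664
theorem N87785 : nd 87785 = n190665 := ndS (p := 52253) (l := 6) rfl N52253 D190665
theorem N87786 : nd 87786 = n190666 := ndS (p := 52254) (l := 5) rfl N52254 D190666
theorem N87787 : nd 87787 = n190667 := ndS (p := 52255) (l := 0) rfl N52255 D190667
theorem N87788 : nd 87788 = n190668 := ndS (p := 52255) (l := 1) rfl N52255 D190668
theorem N87789 : nd 87789 = n190669 := ndS (p := 52258) (l := 7) rfl N52258 D190669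
theorem N87790 : nd 87790 = n190670 := ndS (p := 52262) (l := 0) rfl N52262 D190670
theorem N87791 : nd 87791 = n190671 := ndS (p := 52262) (l := 5) rfl N52262 D190671
theorem N87792 : nd 87792 = n190672 := ndS (p := 52262) (l := 7) rfl N52262 D190672
theorem N87793 : nd 87793 = n190673 := ndS (p := 52264) (l := 5) rfl N52264 D190673
theorem N87794 : nd 87794 = n190674 := ndS (p := 52264) (l := 6) rfl N52264 D190674
theorem N87795 : nd 87795 = n190675 := ndS (p := 52267) (l := 2) rfl N52267 D190675
theorem N87796 : nd 87796 = n190676 := ndS (p := 52267) (l := 6) rfl N52267 D190676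
theorem N87797 : nd 87797 = n190677 := ndS (p := 52269) (l := 5) rfl N52269 D190677
theorem N87798 : nd 87798 = n190678 := ndS (p := 52270) (l := 3) rfl N52270 D190678
theorem N87799 : nd 87799 = n190679 := ndS (p := 52272) (l := 1) rfl N52272 D190679
theorem N87800 : nd 87800 = n190680 := ndS (p := 52272) (l := 4) rfl N52272 D190680
theorem N87801 : nd 87801 = n190681 := ndS (p := 52272) (l := 6) rfl N52272 D190681
theorem N87802 : nd 87802 = n190682 := ndS (p := 52274) (l := 3) rfl N52274 D190682
theorem N87803 : nd 87803 = n190683 := ndS (p := 52276) (l := 4) rfl N52276 D190683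
theorem N87804 : nd 87804 = n190684 := ndS (p := 52277) (l := 5) rfl N52277 D190684
theorem N87805 : nd 87805 = n190685 := ndS (p := 52278) (l := 0) rfl N52278 D190685
theorem N87806 : nd 87806 = n190686 := ndS (p := 52278) (l := 1) rfl N52278 D190686
theorem N87807 : nd 87807 = n190687 := ndS (p := 52278) (l := 4) rfl N52278 D190687
theorem N87808 : nd 87808 = n190688 := ndS (p := 52278) (l := 6) rfl N52278 D190688
theorem N87809 : nd 87809 = n190689 := ndS (p := 52279) (l := 6) rfl N52279 D190689
theorem N87810 : nd 87810 = n190690 := ndS (p := 52280) (l := 0) rfl N52280 D190690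
theorem N87811 : nd 87811 = n190691 := ndS (p := 52280) (l := 7) rfl N52280 D190691
theorem N87812 : nd 87812 = n190692 := ndS (p := 52281) (l := 6) rfl N52281 D190692
theorem N87813 : nd 87813 = n190693 := ndS (p := 52282) (l := 3) rfl N52282 D190693
theorem N87814 : nd 87814 = n190694 := ndS (p := 52283) (l := 0) rfl N52283 D190694
theorem N87815 : nd 87815 = n190695 := ndS (p := 52283) (l := 7) rfl N52283 D190695
theorem N87816 : nd 87816 = n190696 := ndS (p := 52284) (l := 2) rfl N52284 D190696
theorem N87817 : nd 87817 = n190697 := ndS (p := 52284) (l := 4) rfl N52284 D190697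
theorem N87818 : nd 87818 = n190698 := ndS (p := 52284) (l := 6) rfl N52284 D190698
theorem N87819 : nd 87819 = n190699 := ndS (p := 52288) (l := 0) rfl N52288 D190699
theorem N87820 : nd 87820 = n190700 := ndS (p := 52288) (l := 7) rfl N52288 D190700
theorem N87821 : nd 87821 = n190701 := ndS (p := 52289) (l := 0) rfl N52289 D190701
theorem N87822 : nd 87822 = n190702 := ndS (p := 52289) (l := 1) rfl N52289 D190702
theorem N87823 : nd 87823 = n190703 := ndS (p := 52292) (l := 4) rfl N52292 D190703
theorem N87824 : nd 87824 = n190704 := ndS (p := 52293) (l := 6) rfl N52293 D190704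
theorem N87825 : nd 87825 = n190705 := ndS (p := 52294) (l := 0) rfl N52294 D190705
theorem N87826 : nd 87826 = n190706 := ndS (p := 52295) (l := 0) rfl N52295 D190706
theorem N87827 : nd 87827 = n190707 := ndS (p := 52295) (l := 2) rfl N52295 D190707
theorem N87828 : nd 87828 = n190708 := ndS (p := 52295) (l := 6) rfl N52295 D190708
theorem N87829 : nd 87829 = n190709 := ndS (p := 52296) (l := 5) rfl N52296 D190709
theorem N87830 : nd 87830 = n190710 := ndS (p := 52298) (l := 3) rfl N52298 D190710
theorem N87831 : nd 87831 = n190711 := ndS (p := 52299) (l := 4) rfl N52299 D190711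
theorem N87832 : nd 87832 = n190712 := ndS (p := 52299) (l := 6) rfl N52299 D190712
theorem N87833 : nd 87833 = n190713 := ndS (p := 52303) (l := 0) rfl N52303 D190713
theorem N87834 : nd 87834 = n190714 := ndS (p := 52303) (l := 1) rfl N52303 D190714
theorem N87835 : nd 87835 = n190715 := ndS (p := 52303) (l := 7) rfl N52303 D190715
theorem N87836 : nd 87836 = n190716 := ndS (p := 52304) (l := 4) rfl N52304 D190716
theorem N87837 : nd 87837 = n190717 := ndS (p := 52307) (l := 0) rfl N52307 D190717
theorem N87838 : nd 87838 = n190718 := ndS (p := 52308) (l := 0) rfl N52308 D190718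
theorem N87839 : nd 87839 = n190719 := ndS (p := 52308) (l := 1) rfl N52308 D190719
theorem N87840 : nd 87840 = n190720 := ndS (p := 52308) (l := 7) rfl N52308 D190720
theorem N87841 : nd 87841 = n190721 := ndS (p := 52309) (l := 1) rfl N52309 D190721
theorem N87842 : nd 87842 = n190722 := ndS (p := 52311) (l := 4) rfl N52311 D190722
theorem N87843 : nd 87843 = n190723 := ndS (p := 52311) (l := 6) rfl N52311 D190723
theorem N87844 : nd 87844 = n190724 := ndS (p := 52312) (l := 4) rfl N52312 D190724
theorem N87845 : nd 87845 = n190725 := ndS (p := 52313) (l := 0) rfl N52313 D190725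
theorem N87846 : nd 87846 = n190726 := ndS (p := 52313) (l := 3) rfl N52313 D190726
theorem N87847 : nd 87847 = n190727 := ndS (p := 52313) (l := 5) rfl N52313 D190727
theorem N87848 : nd 87848 = n190728 := ndS (p := 52314) (l := 0) rfl N52314 D190728
theorem N87849 : nd 87849 = n190729 := ndS (p := 52314) (l := 1) rfl N52314 D190729
theorem N87850 : nd 87850 = n190730 := ndS (p := 52315) (l := 0) rfl N52315 D190730
theorem N87851 : nd 87851 = n190731 := ndS (p := 52315) (l := 1) rfl N52315 D190731
theorem N87852 : nd 87852 = n190732 := ndS (p := 52315) (l := 2) rfl N52315 D190732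
theorem N87853 : nd 87853 = n190733 := ndS (p := 52316) (l := 5) rfl N52316 D190733
theorem N87854 : nd 87854 = n190734 := ndS (p := 52316) (l := 7) rfl N52316 D190734
theorem N87855 : nd 87855 = n190735 := ndS (p := 52317) (l := 3) rfl N52317 D190735
theorem N87856 : nd 87856 = n190736 := ndS (p := 52318) (l := 3) rfl N52318 D190736
theorem N87857 : nd 87857 = n190737 := ndS (p := 52318) (l := 6) rfl N52318 D190737
theorem N87858 : nd 87858 = n190738 := ndS (p := 52321) (l := 5) rfl N52321 D190738
theorem N87859 : nd 87859 = n190739 := ndS (p := 52322) (l := 5) rfl N52322 D190739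
theorem N87860 : nd 87860 = n190740 := ndS (p := 52323) (l := 4) rfl N52323 D190740
theorem N87861 : nd 87861 = n190741 := ndS (p := 52324) (l := 5) rfl N52324 D190741
theorem N87862 : nd 87862 = n190742 := ndS (p := 52325) (l := 3) rfl N52325 D190742
theorem N87863 : nd 87863 = n190743 := ndS (p := 52325) (l := 5) rfl N52325 D190743
theorem N87864 : nd 87864 = n190744 := ndS (p := 52326) (l := 0) rfl N52326 D190744
theorem N87865 : nd 87865 = n190745 := ndS (p := 52326) (l := 1) rfl N52326 D190745
theorem N87866 : nd 87866 = n190746 := ndS (p := 52326) (l := 4) rfl N52326 D190746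
theorem N87867 : nd 87867 = n190747 := ndS (p := 52326) (l := 7) rfl N52326 D190747
theorem N87868 : nd 87868 = n190748 := ndS (p := 52328) (l := 5) rfl N52328 D190748
theorem N87869 : nd 87869 = n190749 := ndS (p := 52328) (l := 6) rfl N52328 D190749
theorem N87870 : nd 87870 = n190750 := ndS (p := 52329) (l := 4) rfl N52329 D190750
theorem N87871 : nd 87871 = n190751 := ndS (p := 52329) (l := 6) rfl N52329 D190751
theorem N87872 : nd 87872 = n190752 := ndS (p := 52331) (l := 5) rfl N52331 D190752
theorem N87873 : nd 87873 = n190753 := ndS (p := 52331) (l := 6) rfl N52331 D190753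
theorem N87874 : nd 87874 = n190754 := ndS (p := 52332) (l := 5) rfl N52332 D190754
theorem N87875 : nd 87875 = n190755 := ndS (p := 52332) (l := 6) rfl N52332 D190755
theorem N87876 : nd 87876 = n190756 := ndS (p := 52333) (l := 4) rfl N52333 D190756
theorem N87877 : nd 87877 = n190757 := ndS (p := 52335) (l := 3) rfl N52335 D190757
theorem N87878 : nd 87878 = n190758 := ndS (p := 52335) (l := 4) rfl N52335 D190758
theorem N87879 : nd 87879 = n190759 := ndS (p := 52335) (l := 6) rfl N52335 D190759
theorem N87880 : nd 87880 = n190760 := ndS (p := 52336) (l := 3) rfl N52336 D190760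
theorem N87881 : nd 87881 = n190761 := ndS (p := 52336) (l := 4) rfl N52336 D190761
theorem N87882 : nd 87882 = n190762 := ndS (p := 52336) (l := 6) rfl N52336 D190762
theorem N87883 : nd 87883 = n190763 := ndS (p := 52337) (l := 0) rfl N52337 D190763
theorem N87884 : nd 87884 = n190764 := ndS (p := 52337) (l := 1) rfl N52337 D190764
theorem N87885 : nd 87885 = n190765 := ndS (p := 52337) (l := 5) rfl N52337 D190765
theorem N87886 : nd 87886 = n190766 := ndS (p := 52339) (l := 3) rfl N52339 D190766
theorem N87887 : nd 87887 = n190767 := ndS (p := 52340) (l := 1) rfl N52340 D190767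
theorem N87888 : nd 87888 = n190768 := ndS (p := 52342) (l := 1) rfl N52342 D190768
theorem N87889 : nd 87889 = n190769 := ndS (p := 52342) (l := 5) rfl N52342 D190769
theorem N87890 : nd 87890 = n190770 := ndS (p := 52342) (l := 6) rfl N52342 D190770
theorem N87891 : nd 87891 = n190771 := ndS (p := 52343) (l := 3) rfl N52343 D190771
theorem N87892 : nd 87892 = n190772 := ndS (p := 52344) (l := 4) rfl N52344 D190772
theorem N87893 : nd 87893 = n190773 := ndS (p := 52345) (l := 0) rfl N52345 D190773
theorem N87894 : nd 87894 = n190774 := ndS (p := 52345) (l := 7) rfl N52345 D190774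
theorem N87895 : nd 87895 = n190775 := ndS (p := 52346) (l := 3) rfl N52346 D190775
theorem N87896 : nd 87896 = n190776 := ndS (p := 52346) (l := 6) rfl N52346 D190776
theorem N87897 : nd 87897 = n190777 := ndS (p := 52347) (l := 3) rfl N52347 D190777
theorem N87898 : nd 87898 = n190778 := ndS (p := 52347) (l := 6) rfl N52347 D190778
theorem N87899 : nd 87899 = n190779 := ndS (p := 52349) (l := 5) rfl N52349 D190779
theorem N87900 : nd 87900 = n190780 := ndS (p := 52350) (l := 5) rfl N52350 D190780
theorem N87901 : nd 87901 = n190781 := ndS (p := 52351) (l := 0) rfl N52351 D190781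
theorem N87902 : nd 87902 = n190782 := ndS (p := 52351) (l := 1) rfl N52351 D190782
theorem N87903 : nd 87903 = n190783 := ndS (p := 52351) (l := 5) rfl N52351 D190783
theorem N87904 : nd 87904 = n190784 := ndS (p := 52358) (l := 3) rfl N52358 D190784
theorem N87905 : nd 87905 = n190785 := ndS (p := 52358) (l := 5) rfl N52358 D190785
theorem N87906 : nd 87906 = n190787 := ndS (p := 52359) (l := 5) rfl N52359 D190787
theorem N87907 : nd 87907 = n190788 := ndS (p := 52360) (l := 4) rfl N52360 D190788
theorem N87908 : nd 87908 = n190789 := ndS (p := 52362) (l := 3) rfl N52362 D190789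
theorem N87909 : nd 87909 = n190790 := ndS (p := 52362) (l := 5) rfl N52362 D190790
theorem N87910 : nd 87910 = n190791 := ndS (p := 52363) (l := 5) rfl N52363 D190791
theorem N87911 : nd 87911 = n190792 := ndS (p := 52364) (l := 5) rfl N52364 D190792
theorem N87912 : nd 87912 = n190793 := ndS (p := 52365) (l := 0) rfl N52365 D190793
theorem N87913 : nd 87913 = n190794 := ndS (p := 52365) (l := 1) rfl N52365 D190794
theorem N87914 : nd 87914 = n190795 := ndS (p := 52365) (l := 4) rfl N52365 D190795
theorem N87915 : nd 87915 = n190796 := ndS (p := 52365) (l := 6) rfl N52365 D190796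
theorem N87916 : nd 87916 = n190797 := ndS (p := 52367) (l := 5) rfl N52367 D190797
theorem N87917 : nd 87917 = n190798 := ndS (p := 52369) (l := 1) rfl N52369 D190798
theorem N87918 : nd 87918 = n190799 := ndS (p := 52369) (l := 7) rfl N52369 D190799
theorem N87919 : nd 87919 = n190800 := ndS (p := 52373) (l := 0) rfl N52373 D190800
theorem N87920 : nd 87920 = n190801 := ndS (p := 52373) (l := 7) rfl N52373 D190801
theorem N87921 : nd 87921 = n190802 := ndS (p := 52375) (l := 5) rfl N52375 D190802
theorem N87922 : nd 87922 = n190803 := ndS (p := 52378) (l := 6) rfl N52378 D190803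
theorem N87923 : nd 87923 = n190804 := ndS (p := 52380) (l := 6) rfl N52380 D190804
theorem N87924 : nd 87924 = n190805 := ndS (p := 52384) (l := 3) rfl N52384 D190805
theorem N87925 : nd 87925 = n190806 := ndS (p := 52384) (l := 6) rfl N52384 D190806
theorem N87926 : nd 87926 = n190807 := ndS (p := 52390) (l := 6) rfl N52390 D190807
theorem N87927 : nd 87927 = n190808 := ndS (p := 52391) (l := 5) rfl N52391 D190808
theorem N87928 : nd 87928 = n190809 := ndS (p := 52392) (l := 5) rfl N52392 D190809
theorem N87929 : nd 87929 = n190810 := ndS (p := 52393) (l := 5) rfl N52393 D190810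
theorem N87930 : nd 87930 = n190811 := ndS (p := 52394) (l := 5) rfl N52394 D190811
theorem N87931 : nd 87931 = n190812 := ndS (p := 52394) (l := 6) rfl N52394 D190812
theorem N87932 : nd 87932 = n190813 := ndS (p := 52395) (l := 5) rfl N52395 D190813
theorem N87933 : nd 87933 = n190814 := ndS (p := 52395) (l := 6) rfl N52395 D190814
theorem N87934 : nd 87934 = n190815 := ndS (p := 52396) (l := 0) rfl N52396 D190815
theorem N87935 : nd 87935 = n190816 := ndS (p := 52396) (l := 1) rfl N52396 D190816
theorem N87936 : nd 87936 = n190817 := ndS (p := 52396) (l := 4) rfl N52396 D190817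
theorem N87937 : nd 87937 = n190818 := ndS (p := 52399) (l := 5) rfl N52399 D190818
theorem N87938 : nd 87938 = n190819 := ndS (p := 52401) (l := 0) rfl N52401 D190819
theorem N87939 : nd 87939 = n190820 := ndS (p := 52401) (l := 7) rfl N52401 D190820
theorem N87940 : nd 87940 = n190821 := ndS (p := 52403) (l := 5) rfl N52403 D190821
theorem N87941 : nd 87941 = n190822 := ndS (p := 52404) (l := 5) rfl N52404 D190822
theorem N87942 : nd 87942 = n190823 := ndS (p := 52404) (l := 6) rfl N52404 D190823
theorem N87943 : nd 87943 = n190824 := ndS (p := 52407) (l := 0) rfl N52407 D190824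
theorem N87944 : nd 87944 = n190825 := ndS (p := 52407) (l := 4) rfl N52407 D190825
theorem N87945 : nd 87945 = n190826 := ndS (p := 52407) (l := 6) rfl N52407 D190826
theorem N87946 : nd 87946 = n190827 := ndS (p := 52409) (l := 5) rfl N52409 D190827
theorem N87947 : nd 87947 = n190828 := ndS (p := 52409) (l := 6) rfl N52409 D190828
theorem N87948 : nd 87948 = n190829 := ndS (p := 52410) (l := 4) rfl N52410 D190829
theorem N87949 : nd 87949 = n190830 := ndS (p := 52410) (l := 6) rfl N52410 D190830
theorem N87950 : nd 87950 = n190831 := ndS (p := 52412) (l := 4) rfl N52412 D190831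
theorem N87951 : nd 87951 = n190832 := ndS (p := 52412) (l := 6) rfl N52412 D190832
theorem N87952 : nd 87952 = n190833 := ndS (p := 52413) (l := 3) rfl N52413 D190833
theorem N87953 : nd 87953 = n190834 := ndS (p := 52413) (l := 4) rfl N52413 D190834
theorem N87954 : nd 87954 = n190835 := ndS (p := 52413) (l := 6) rfl N52413 D190835
theorem N87955 : nd 87955 = n190836 := ndS (p := 52414) (l := 0) rfl N52414 D190836
theorem N87956 : nd 87956 = n190837 := ndS (p := 52414) (l := 1) rfl N52414 D190837
theorem N87957 : nd 87957 = n190838 := ndS (p := 52414) (l := 3) rfl N52414 D190838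
theorem N87958 : nd 87958 = n190839 := ndS (p := 52414) (l := 5) rfl N52414 D190839
theorem N87959 : nd 87959 = n190840 := ndS (p := 52414) (l := 7) rfl N52414 D190840
theorem N87960 : nd 87960 = n190841 := ndS (p := 52415) (l := 6) rfl N52415 D190841
theorem N87961 : nd 87961 = n190842 := ndS (p := 52416) (l := 0) rfl N52416 D190842
theorem N87962 : nd 87962 = n190843 := ndS (p := 52416) (l := 2) rfl N52416 D190843
theorem N87963 : nd 87963 = n190844 := ndS (p := 52416) (l := 5) rfl N52416 D190844
theorem N87964 : nd 87964 = n190845 := ndS (p := 52417) (l := 0) rfl N52417 D190845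
theorem N87965 : nd 87965 = n190846 := ndS (p := 52417) (l := 1) rfl N52417 D190846
theorem N87966 : nd 87966 = n190847 := ndS (p := 52417) (l := 6) rfl N52417 D190847
theorem N87967 : nd 87967 = n190848 := ndS (p := 52418) (l := 1) rfl N52418 D190848
theorem N87968 : nd 87968 = n190849 := ndS (p := 52418) (l := 2) rfl N52418 D190849
theorem N87969 : nd 87969 = n190850 := ndS (p := 52418) (l := 4) rfl N52418 D190850
theorem N87970 : nd 87970 = n190851 := ndS (p := 52418) (l := 5) rfl N52418 D190851
theorem N87971 : nd 87971 = n190852 := ndS (p := 52419) (l := 4) rfl N52419 D190852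
theorem N87972 : nd 87972 = n190853 := ndS (p := 52419) (l := 6) rfl N52419 D190853
theorem N87973 : nd 87973 = n190854 := ndS (p := 52420) (l := 5) rfl N52420 D190854
theorem N87974 : nd 87974 = n190855 := ndS (p := 52421) (l := 3) rfl N52421 D190855
theorem N87975 : nd 87975 = n190856 := ndS (p := 52421) (l := 6) rfl N52421 D190856
theorem N87976 : nd 87976 = n190857 := ndS (p := 52423) (l := 0) rfl N52423 D190857
theorem N87977 : nd 87977 = n190858 := ndS (p := 52423) (l := 1) rfl N52423 D190858
theorem N87978 : nd 87978 = n190859 := ndS (p := 52423) (l := 3) rfl N52423 D190859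
theorem N87979 : nd 87979 = n190860 := ndS (p := 52423) (l := 5) rfl N52423 D190860
theorem N87980 : nd 87980 = n190861 := ndS (p := 52423) (l := 7) rfl N52423 D190861
theorem N87981 : nd 87981 = n190862 := ndS (p := 52424) (l := 6) rfl N52424 D190862
theorem N87982 : nd 87982 = n190863 := ndS (p := 52425) (l := 5) rfl N52425 D190863
theorem N87983 : nd 87983 = n190864 := ndS (p := 52426) (l := 5) rfl N52426 D190864
theorem N87984 : nd 87984 = n190865 := ndS (p := 52427) (l := 0) rfl N52427 D190865
theorem N87985 : nd 87985 = n190866 := ndS (p := 52427) (l := 1) rfl N52427 D190866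
theorem N87986 : nd 87986 = n190867 := ndS (p := 52427) (l := 6) rfl N52427 D190867
theorem N87987 : nd 87987 = n190868 := ndS (p := 52429) (l := 3) rfl N52429 D190868
theorem N87988 : nd 87988 = n190869 := ndS (p := 52429) (l := 6) rfl N52429 D190869
theorem N87989 : nd 87989 = n190870 := ndS (p := 52430) (l := 0) rfl N52430 D190870
theorem N87990 : nd 87990 = n190871 := ndS (p := 52430) (l := 1) rfl N52430 D190871
theorem N87991 : nd 87991 = n190872 := ndS (p := 52430) (l := 7) rfl N52430 D190872
theorem N87992 : nd 87992 = n190873 := ndS (p := 52431) (l := 1) rfl N52431 D190873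
theorem N87993 : nd 87993 = n190874 := ndS (p := 52431) (l := 4) rfl N52431 D190874
theorem N87994 : nd 87994 = n190875 := ndS (p := 52431) (l := 6) rfl N52431 D190875
theorem N87995 : nd 87995 = n190876 := ndS (p := 52433) (l := 3) rfl N52433 D190876
theorem N87996 : nd 87996 = n190877 := ndS (p := 52433) (l := 6) rfl N52433 D190877
theorem N87997 : nd 87997 = n190878 := ndS (p := 52434) (l := 0) rfl N52434 D190878
theorem N87998 : nd 87998 = n190879 := ndS (p := 52434) (l := 1) rfl N52434 D190879
theorem N87999 : nd 87999 = n190880 := ndS (p := 52434) (l := 5) rfl N52434 D190880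
theorem N88000 : nd 88000 = n190881 := ndS (p := 52434) (l := 7) rfl N52434 D190881
theorem N88001 : nd 88001 = n190882 := ndS (p := 52436) (l := 2) rfl N52436 D190882
theorem N88002 : nd 88002 = n190883 := ndS (p := 52436) (l := 6) rfl N52436 D190883
theorem N88003 : nd 88003 = n190884 := ndS (p := 52437) (l := 0) rfl N52437 D190884
theorem N88004 : nd 88004 = n190885 := ndS (p := 52437) (l := 1) rfl N52437 D190885
theorem N88005 : nd 88005 = n190886 := ndS (p := 52437) (l := 7) rfl N52437 D190886
theorem N88006 : nd 88006 = n190887 := ndS (p := 52438) (l := 4) rfl N52438 D190887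
theorem N88007 : nd 88007 = n190888 := ndS (p := 52438) (l := 6) rfl N52438 D190888
theorem N88008 : nd 88008 = n190889 := ndS (p := 52439) (l := 0) rfl N52439 D190889
theorem N88009 : nd 88009 = n190890 := ndS (p := 52439) (l := 1) rfl N52439 D190890
theorem N88010 : nd 88010 = n190891 := ndS (p := 52439) (l := 7) rfl N52439 D190891
theorem N88011 : nd 88011 = n190892 := ndS (p := 52440) (l := 3) rfl N52440 D190892
theorem N88012 : nd 88012 = n190893 := ndS (p := 52440) (l := 6) rfl N52440 D190893
theorem N88013 : nd 88013 = n190894 := ndS (p := 52441) (l := 3) rfl N52441 D190894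
theorem N88014 : nd 88014 = n190895 := ndS (p := 52442) (l := 0) rfl N52442 D190895
theorem N88015 : nd 88015 = n190896 := ndS (p := 52442) (l := 1) rfl N52442 D190896
theorem N88016 : nd 88016 = n190897 := ndS (p := 52442) (l := 2) rfl N52442 D190897
theorem N88017 : nd 88017 = n190898 := ndS (p := 52442) (l := 5) rfl N52442 D190898
theorem N88018 : nd 88018 = n190899 := ndS (p := 52442) (l := 7) rfl N52442 D190899
theorem N88019 : nd 88019 = n190900 := ndS (p := 52443) (l := 6) rfl N52443 D190900
theorem N88020 : nd 88020 = n190901 := ndS (p := 52444) (l := 6) rfl N52444 D190901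
theorem N88021 : nd 88021 = n190902 := ndS (p := 52445) (l := 0) rfl N52445 D190902
theorem N88022 : nd 88022 = n190903 := ndS (p := 52445) (l := 1) rfl N52445 D190903
theorem N88023 : nd 88023 = n190904 := ndS (p := 52446) (l := 4) rfl N52446 D190904
theorem N88024 : nd 88024 = n190905 := ndS (p := 52446) (l := 6) rfl N52446 D190905
theorem N88025 : nd 88025 = n190906 := ndS (p := 52447) (l := 3) rfl N52447 D190906
theorem N88026 : nd 88026 = n190907 := ndS (p := 52447) (l := 6) rfl N52447 D190907
theorem N88027 : nd 88027 = n190908 := ndS (p := 52448) (l := 0) rfl N52448 D190908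
theorem N88028 : nd 88028 = n190909 := ndS (p := 52448) (l := 1) rfl N52448 D190909
theorem N88029 : nd 88029 = n190910 := ndS (p := 52448) (l := 7) rfl N52448 D190910
theorem N88030 : nd 88030 = n190911 := ndS (p := 52450) (l := 6) rfl N52450 D190911
theorem N88031 : nd 88031 = n190912 := ndS (p := 52451) (l := 6) rfl N52451 D190912
theorem N88032 : nd 88032 = n190913 := ndS (p := 52452) (l := 6) rfl N52452 D190913
theorem N88033 : nd 88033 = n190914 := ndS (p := 52454) (l := 4) rfl N52454 D190914
theorem N88034 : nd 88034 = n190915 := ndS (p := 52455) (l := 5) rfl N52455 D190915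
theorem N88035 : nd 88035 = n190916 := ndS (p := 52456) (l := 4) rfl N52456 D190916
theorem N88036 : nd 88036 = n190917 := ndS (p := 52457) (l := 4) rfl N52457 D190917
theorem N88037 : nd 88037 = n190918 := ndS (p := 52457) (l := 5) rfl N52457 D190918
theorem N88038 : nd 88038 = n190919 := ndS (p := 52457) (l := 6) rfl N52457 D190919
theorem N88039 : nd 88039 = n190920 := ndS (p := 52458) (l := 0) rfl N52458 D190920
theorem N88040 : nd 88040 = n190921 := ndS (p := 52458) (l := 4) rfl N52458 D190921
theorem N88041 : nd 88041 = n190922 := ndS (p := 52458) (l := 7) rfl N52458 D190922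
theorem N88042 : nd 88042 = n190923 := ndS (p := 52461) (l := 4) rfl N52461 D190923
theorem N88043 : nd 88043 = n190924 := ndS (p := 52461) (l := 6) rfl N52461 D190924
theorem N88044 : nd 88044 = n190925 := ndS (p := 52462) (l := 0) rfl N52462 D190925
theorem N88045 : nd 88045 = n190926 := ndS (p := 52462) (l := 1) rfl N52462 D190926
theorem N88046 : nd 88046 = n190927 := ndS (p := 52462) (l := 5) rfl N52462 D190927
theorem N88047 : nd 88047 = n190928 := ndS (p := 52463) (l := 5) rfl N52463 D190928
theorem N88048 : nd 88048 = n190929 := ndS (p := 52465) (l := 1) rfl N52465 D190929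
theorem N88049 : nd 88049 = n190930 := ndS (p := 52466) (l := 5) rfl N52466 D190930
theorem N88050 : nd 88050 = n190931 := ndS (p := 52466) (l := 6) rfl N52466 D190931
theorem N88051 : nd 88051 = n190932 := ndS (p := 52467) (l := 6) rfl N52467 D190932
theorem N88052 : nd 88052 = n190933 := ndS (p := 52468) (l := 5) rfl N52468 D190933
theorem N88053 : nd 88053 = n190934 := ndS (p := 52469) (l := 3) rfl N52469 D190934
theorem N88054 : nd 88054 = n190935 := ndS (p := 52469) (l := 6) rfl N52469 D190935
theorem N88055 : nd 88055 = n190936 := ndS (p := 52470) (l := 3) rfl N52470 D190936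
theorem N88056 : nd 88056 = n190937 := ndS (p := 52471) (l := 3) rfl N52471 D190937
theorem N88057 : nd 88057 = n190938 := ndS (p := 52471) (l := 7) rfl N52471 D190938
theorem N88058 : nd 88058 = n190939 := ndS (p := 52473) (l := 6) rfl N52473 D190939
theorem N88059 : nd 88059 = n190940 := ndS (p := 52475) (l := 5) rfl N52475 D190940
theorem N88060 : nd 88060 = n190941 := ndS (p := 52476) (l := 5) rfl N52476 D190941
theorem N88061 : nd 88061 = n190942 := ndS (p := 52476) (l := 6) rfl N52476 D190942
theorem N88062 : nd 88062 = n190943 := ndS (p := 52477) (l := 0) rfl N52477 D190943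
theorem N88063 : nd 88063 = n190944 := ndS (p := 52477) (l := 1) rfl N52477 D190944
theorem N88064 : nd 88064 = n190945 := ndS (p := 52477) (l := 6) rfl N52477 D190945
theorem N88065 : nd 88065 = n190946 := ndS (p := 52480) (l := 1) rfl N52480 D190946
theorem N88066 : nd 88066 = n190947 := ndS (p := 52481) (l := 4) rfl N52481 D190947
theorem N88067 : nd 88067 = n190948 := ndS (p := 52481) (l := 6) rfl N52481 D190948
theorem N88068 : nd 88068 = n190949 := ndS (p := 52482) (l := 0) rfl N52482 D190949
theorem N88069 : nd 88069 = n190950 := ndS (p := 52482) (l := 1) rfl N52482 D190950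
theorem N88070 : nd 88070 = n190951 := ndS (p := 52483) (l := 2) rfl N52483 D190951
theorem N88071 : nd 88071 = n190952 := ndS (p := 52483) (l := 4) rfl N52483 D190952
theorem N88072 : nd 88072 = n190953 := ndS (p := 52484) (l := 0) rfl N52484 D190953
theorem N88073 : nd 88073 = n190954 := ndS (p := 52484) (l := 1) rfl N52484 D190954
theorem N88074 : nd 88074 = n190955 := ndS (p := 52484) (l := 2) rfl N52484 D190955
theorem N88075 : nd 88075 = n190956 := ndS (p := 52485) (l := 5) rfl N52485 D190956
theorem N88076 : nd 88076 = n190957 := ndS (p := 52486) (l := 5) rfl N52486 D190957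
theorem N88077 : nd 88077 = n190958 := ndS (p := 52487) (l := 4) rfl N52487 D190958
theorem N88078 : nd 88078 = n190959 := ndS (p := 52488) (l := 6) rfl N52488 D190959
theorem N88079 : nd 88079 = n190960 := ndS (p := 52489) (l := 5) rfl N52489 D190960
theorem N88080 : nd 88080 = n190961 := ndS (p := 52490) (l := 6) rfl N52490 D190961
theorem N88081 : nd 88081 = n190962 := ndS (p := 52491) (l := 5) rfl N52491 D190962
theorem N88082 : nd 88082 = n190963 := ndS (p := 52492) (l := 4) rfl N52492 D190963
theorem N88083 : nd 88083 = n190964 := ndS (p := 52494) (l := 5) rfl N52494 D190964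
theorem N88084 : nd 88084 = n190965 := ndS (p := 52494) (l := 7) rfl N52494 D190965
theorem N88085 : nd 88085 = n190966 := ndS (p := 52495) (l := 5) rfl N52495 D190966
theorem N88086 : nd 88086 = n190967 := ndS (p := 52496) (l := 4) rfl N52496 D190967
theorem N88087 : nd 88087 = n190968 := ndS (p := 52496) (l := 5) rfl N52496 D190968
theorem N88088 : nd 88088 = n190969 := ndS (p := 52497) (l := 0) rfl N52497 D190969
theorem N88089 : nd 88089 = n190970 := ndS (p := 52497) (l := 1) rfl N52497 D190970
theorem N88090 : nd 88090 = n190971 := ndS (p := 52497) (l := 4) rfl N52497 D190971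
theorem N88091 : nd 88091 = n190972 := ndS (p := 52497) (l := 7) rfl N52497 D190972
theorem N88092 : nd 88092 = n190973 := ndS (p := 52499) (l := 5) rfl N52499 D190973
theorem N88093 : nd 88093 = n190974 := ndS (p := 52500) (l := 6) rfl N52500 D190974
theorem N88094 : nd 88094 = n190975 := ndS (p := 52503) (l := 5) rfl N52503 D190975
theorem N88095 : nd 88095 = n190976 := ndS (p := 52504) (l := 3) rfl N52504 D190976
theorem N88096 : nd 88096 = n190977 := ndS (p := 52504) (l := 4) rfl N52504 D190977
theorem N88097 : nd 88097 = n190978 := ndS (p := 52504) (l := 5) rfl N52504 D190978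
theorem N88098 : nd 88098 = n190979 := ndS (p := 52504) (l := 6) rfl N52504 D190979
theorem N88099 : nd 88099 = n190980 := ndS (p := 52505) (l := 0) rfl N52505 D190980
theorem N88100 : nd 88100 = n190981 := ndS (p := 52505) (l := 1) rfl N52505 D190981
theorem N88101 : nd 88101 = n190982 := ndS (p := 52505) (l := 4) rfl N52505 D190982
theorem N88102 : nd 88102 = n190983 := ndS (p := 52505) (l := 7) rfl N52505 D190983
theorem N88103 : nd 88103 = n190984 := ndS (p := 52507) (l := 5) rfl N52507 D190984
theorem N88104 : nd 88104 = n190985 := ndS (p := 52507) (l := 6) rfl N52507 D190985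
theorem N88105 : nd 88105 = n190986 := ndS (p := 52508) (l := 0) rfl N52508 D190986
theorem N88106 : nd 88106 = n190987 := ndS (p := 52508) (l := 4) rfl N52508 D190987
theorem N88107 : nd 88107 = n190988 := ndS (p := 52508) (l := 6) rfl N52508 D190988
theorem N88108 : nd 88108 = n190989 := ndS (p := 52510) (l := 5) rfl N52510 D190989
theorem N88109 : nd 88109 = n190990 := ndS (p := 52510) (l := 6) rfl N52510 D190990
theorem N88110 : nd 88110 = n190991 := ndS (p := 52511) (l := 5) rfl N52511 D190991
theorem N88111 : nd 88111 = n190992 := ndS (p := 52511) (l := 6) rfl N52511 D190992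
theorem N88112 : nd 88112 = n190993 := ndS (p := 52512) (l := 4) rfl N52512 D190993
theorem N88113 : nd 88113 = n190994 := ndS (p := 52512) (l := 6) rfl N52512 D190994
theorem N88114 : nd 88114 = n190995 := ndS (p := 52514) (l := 4) rfl N52514 D190995
theorem N88115 : nd 88115 = n190996 := ndS (p := 52514) (l := 6) rfl N52514 D190996
theorem N88116 : nd 88116 = n190997 := ndS (p := 52515) (l := 3) rfl N52515 D190997
theorem N88117 : nd 88117 = n190998 := ndS (p := 52515) (l := 4) rfl N52515 D190998
theorem N88118 : nd 88118 = n190999 := ndS (p := 52515) (l := 5) rfl N52515 D190999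
theorem N88119 : nd 88119 = n191000 := ndS (p := 52515) (l := 6) rfl N52515 D191000
theorem N88120 : nd 88120 = n191001 := ndS (p := 52516) (l := 1) rfl N52516 D191001
theorem N88121 : nd 88121 = n191002 := ndS (p := 52516) (l := 3) rfl N52516 D191002
theorem N88122 : nd 88122 = n191003 := ndS (p := 52516) (l := 5) rfl N52516 D191003
theorem N88123 : nd 88123 = n191004 := ndS (p := 52516) (l := 7) rfl N52516 D191004
theorem N88124 : nd 88124 = n191005 := ndS (p := 52517) (l := 6) rfl N52517 D191005
theorem N88125 : nd 88125 = n191006 := ndS (p := 52518) (l := 5) rfl N52518 D191006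
theorem N88126 : nd 88126 = n191007 := ndS (p := 52519) (l := 1) rfl N52519 D191007
theorem N88127 : nd 88127 = n191008 := ndS (p := 52519) (l := 4) rfl N52519 D191008
theorem N88128 : nd 88128 = n191009 := ndS (p := 52520) (l := 4) rfl N52520 D191009
theorem N88129 : nd 88129 = n191010 := ndS (p := 52520) (l := 6) rfl N52520 D191010
theorem N88130 : nd 88130 = n191011 := ndS (p := 52522) (l := 3) rfl N52522 D191011
theorem N88131 : nd 88131 = n191012 := ndS (p := 52522) (l := 6) rfl N52522 D191012
theorem N88132 : nd 88132 = n191013 := ndS (p := 52523) (l := 6) rfl N52523 D191013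
theorem N88133 : nd 88133 = n191014 := ndS (p := 52524) (l := 3) rfl N52524 D191014
theorem N88134 : nd 88134 = n191015 := ndS (p := 52524) (l := 5) rfl N52524 D191015
theorem N88135 : nd 88135 = n191016 := ndS (p := 52524) (l := 7) rfl N52524 D191016
theorem N88136 : nd 88136 = n191017 := ndS (p := 52525) (l := 6) rfl N52525 D191017
theorem N88137 : nd 88137 = n191018 := ndS (p := 52526) (l := 4) rfl N52526 D191018
theorem N88138 : nd 88138 = n191019 := ndS (p := 52526) (l := 6) rfl N52526 D191019
theorem N88139 : nd 88139 = n191020 := ndS (p := 52527) (l := 0) rfl N52527 D191020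
theorem N88140 : nd 88140 = n191021 := ndS (p := 52527) (l := 1) rfl N52527 D191021
theorem N88141 : nd 88141 = n191022 := ndS (p := 52527) (l := 7) rfl N52527 D191022
theorem N88142 : nd 88142 = n191023 := ndS (p := 52528) (l := 0) rfl N52528 D191023
theorem N88143 : nd 88143 = n191024 := ndS (p := 52528) (l := 1) rfl N52528 D191024
theorem N88144 : nd 88144 = n191025 := ndS (p := 52529) (l := 0) rfl N52529 D191025
theorem N88145 : nd 88145 = n191026 := ndS (p := 52529) (l := 1) rfl N52529 D191026
theorem N88146 : nd 88146 = n191027 := ndS (p := 52529) (l := 2) rfl N52529 D191027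
theorem N88147 : nd 88147 = n191028 := ndS (p := 52529) (l := 5) rfl N52529 D191028
theorem N88148 : nd 88148 = n191029 := ndS (p := 52529) (l := 7) rfl N52529 D191029
theorem N88149 : nd 88149 = n191030 := ndS (p := 52530) (l := 6) rfl N52530 D191030
theorem N88150 : nd 88150 = n191031 := ndS (p := 52531) (l := 6) rfl N52531 D191031
theorem N88151 : nd 88151 = n191032 := ndS (p := 52532) (l := 0) rfl N52532 D191032
theorem N88152 : nd 88152 = n191033 := ndS (p := 52532) (l := 1) rfl N52532 D191033
theorem N88153 : nd 88153 = n191034 := ndS (p := 52533) (l := 5) rfl N52533 D191034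
theorem N88154 : nd 88154 = n191035 := ndS (p := 52538) (l := 4) rfl N52538 D191035
theorem N88155 : nd 88155 = n191036 := ndS (p := 52540) (l := 4) rfl N52540 D191036
theorem N88156 : nd 88156 = n191037 := ndS (p := 52540) (l := 6) rfl N52540 D191037
theorem N88157 : nd 88157 = n191038 := ndS (p := 52542) (l := 3) rfl N52542 D191038
theorem N88158 : nd 88158 = n191039 := ndS (p := 52542) (l := 6) rfl N52542 D191039
theorem N88159 : nd 88159 = n191040 := ndS (p := 52544) (l := 0) rfl N52544 D191040
theorem N88160 : nd 88160 = n191041 := ndS (p := 52544) (l := 1) rfl N52544 D191041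
theorem N88161 : nd 88161 = n191042 := ndS (p := 52544) (l := 3) rfl N52544 D191042
theorem N88162 : nd 88162 = n191043 := ndS (p := 52544) (l := 5) rfl N52544 D191043
theorem N88163 : nd 88163 = n191044 := ndS (p := 52546) (l := 5) rfl N52546 D191044
theorem N88164 : nd 88164 = n191045 := ndS (p := 52548) (l := 6) rfl N52548 D191045
theorem N88165 : nd 88165 = n191046 := ndS (p := 52549) (l := 3) rfl N52549 D191046
theorem N88166 : nd 88166 = n191047 := ndS (p := 52549) (l := 7) rfl N52549 D191047
theorem N88167 : nd 88167 = n191048 := ndS (p := 52551) (l := 4) rfl N52551 D191048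
theorem N88168 : nd 88168 = n191049 := ndS (p := 52552) (l := 0) rfl N52552 D191049
theorem N88169 : nd 88169 = n191050 := ndS (p := 52552) (l := 2) rfl N52552 D191050
theorem N88170 : nd 88170 = n191051 := ndS (p := 52554) (l := 0) rfl N52554 D191051
theorem N88171 : nd 88171 = n191052 := ndS (p := 52554) (l := 1) rfl N52554 D191052
theorem N88172 : nd 88172 = n191053 := ndS (p := 52554) (l := 5) rfl N52554 D191053
theorem N88173 : nd 88173 = n191054 := ndS (p := 52556) (l := 1) rfl N52556 D191054
theorem N88174 : nd 88174 = n191055 := ndS (p := 52557) (l := 4) rfl N52557 D191055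
theorem N88175 : nd 88175 = n191056 := ndS (p := 52557) (l := 5) rfl N52557 D191056
theorem N88176 : nd 88176 = n191057 := ndS (p := 52557) (l := 6) rfl N52557 D191057
theorem N88177 : nd 88177 = n191058 := ndS (p := 52558) (l := 3) rfl N52558 D191058
theorem N88178 : nd 88178 = n191059 := ndS (p := 52558) (l := 4) rfl N52558 D191059
theorem N88179 : nd 88179 = n191060 := ndS (p := 52558) (l := 5) rfl N52558 D191060
theorem N88180 : nd 88180 = n191061 := ndS (p := 52558) (l := 6) rfl N52558 D191061
theorem N88181 : nd 88181 = n191062 := ndS (p := 52559) (l := 0) rfl N52559 D191062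
theorem N88182 : nd 88182 = n191063 := ndS (p := 52559) (l := 1) rfl N52559 D191063
theorem N88183 : nd 88183 = n191064 := ndS (p := 52559) (l := 4) rfl N52559 D191064
theorem N88184 : nd 88184 = n191065 := ndS (p := 52559) (l := 7) rfl N52559 D191065
theorem N88185 : nd 88185 = n191066 := ndS (p := 52561) (l := 6) rfl N52561 D191066
theorem N88186 : nd 88186 = n191067 := ndS (p := 52563) (l := 5) rfl N52563 D191067
theorem N88187 : nd 88187 = n191068 := ndS (p := 52566) (l := 3) rfl N52566 D191068
theorem N88188 : nd 88188 = n191069 := ndS (p := 52566) (l := 5) rfl N52566 D191069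
theorem N88189 : nd 88189 = n191070 := ndS (p := 52571) (l := 4) rfl N52571 D191070
theorem N88190 : nd 88190 = n191071 := ndS (p := 52572) (l := 6) rfl N52572 D191071
theorem N88191 : nd 88191 = n191072 := ndS (p := 52576) (l := 3) rfl N52576 D191072
theorem N88192 : nd 88192 = n191073 := ndS (p := 52579) (l := 0) rfl N52579 D191073
theorem N88193 : nd 88193 = n191074 := ndS (p := 52580) (l := 4) rfl N52580 D191074
theorem N88194 : nd 88194 = n191075 := ndS (p := 52581) (l := 1) rfl N52581 D191075
theorem N88195 : nd 88195 = n191076 := ndS (p := 52581) (l := 6) rfl N52581 D191076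
theorem N88196 : nd 88196 = n191077 := ndS (p := 52583) (l := 0) rfl N52583 D191077
theorem N88197 : nd 88197 = n191078 := ndS (p := 52584) (l := 3) rfl N52584 D191078
theorem N88198 : nd 88198 = n191079 := ndS (p := 52585) (l := 1) rfl N52585 D191079
theorem N88199 : nd 88199 = n191080 := ndS (p := 52585) (l := 5) rfl N52585 D191080
theorem N88200 : nd 88200 = n191081 := ndS (p := 52585) (l := 7) rfl N52585 D191081
theorem N88201 : nd 88201 = n191082 := ndS (p := 52587) (l := 4) rfl N52587 D191082
theorem N88202 : nd 88202 = n191083 := ndS (p := 52587) (l := 5) rfl N52587 D191083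
theorem N88203 : nd 88203 = n191084 := ndS (p := 52588) (l := 5) rfl N52588 D191084
theorem N88204 : nd 88204 = n191085 := ndS (p := 52589) (l := 0) rfl N52589 D191085
theorem N88205 : nd 88205 = n191087 := ndS (p := 52589) (l := 4) rfl N52589 D191087
theorem N88206 : nd 88206 = n191088 := ndS (p := 52590) (l := 1) rfl N52590 D191088
theorem N88207 : nd 88207 = n191089 := ndS (p := 52590) (l := 7) rfl N52590 D191089
theorem N88208 : nd 88208 = n191090 := ndS (p := 52592) (l := 0) rfl N52592 D191090
theorem N88209 : nd 88209 = n191091 := ndS (p := 52594) (l := 3) rfl N52594 D191091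
theorem N88210 : nd 88210 = n191092 := ndS (p := 52594) (l := 4) rfl N52594 D191092
theorem N88211 : nd 88211 = n191093 := ndS (p := 52594) (l := 6) rfl N52594 D191093
theorem N88212 : nd 88212 = n191094 := ndS (p := 52595) (l := 4) rfl N52595 D191094
theorem N88213 : nd 88213 = n191095 := ndS (p := 52596) (l := 0) rfl N52596 D191095
theorem N88214 : nd 88214 = n191096 := ndS (p := 52596) (l := 3) rfl N52596 D191096
theorem N88215 : nd 88215 = n191097 := ndS (p := 52597) (l := 0) rfl N52597 D191097
theorem N88216 : nd 88216 = n191098 := ndS (p := 52597) (l := 1) rfl N52597 D191098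
theorem N88217 : nd 88217 = n191099 := ndS (p := 52597) (l := 7) rfl N52597 D191099
theorem N88218 : nd 88218 = n191100 := ndS (p := 52601) (l := 5) rfl N52601 D191100
theorem N88219 : nd 88219 = n191101 := ndS (p := 52602) (l := 5) rfl N52602 D191101
theorem N88220 : nd 88220 = n191102 := ndS (p := 52602) (l := 6) rfl N52602 D191102
theorem N88221 : nd 88221 = n191103 := ndS (p := 52603) (l := 6) rfl N52603 D191103
theorem N88222 : nd 88222 = n191104 := ndS (p := 52604) (l := 0) rfl N52604 D191104
theorem N88223 : nd 88223 = n191105 := ndS (p := 52604) (l := 1) rfl N52604 D191105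
theorem N88224 : nd 88224 = n191106 := ndS (p := 52604) (l := 5) rfl N52604 D191106
theorem N88225 : nd 88225 = n191107 := ndS (p := 52604) (l := 7) rfl N52604 D191107
theorem N88226 : nd 88226 = n191108 := ndS (p := 52605) (l := 1) rfl N52605 D191108
theorem N88227 : nd 88227 = n191109 := ndS (p := 52605) (l := 2) rfl N52605 D191109
theorem N88228 : nd 88228 = n191110 := ndS (p := 52606) (l := 4) rfl N52606 D191110
theorem N88229 : nd 88229 = n191111 := ndS (p := 52608) (l := 6) rfl N52608 D191111
theorem N88230 : nd 88230 = n191112 := ndS (p := 52609) (l := 5) rfl N52609 D191112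
theorem N88231 : nd 88231 = n191113 := ndS (p := 52611) (l := 4) rfl N52611 D191113
theorem N88232 : nd 88232 = n191114 := ndS (p := 52613) (l := 2) rfl N52613 D191114
theorem N88233 : nd 88233 = n191115 := ndS (p := 52613) (l := 4) rfl N52613 D191115
theorem N88234 : nd 88234 = n191116 := ndS (p := 52614) (l := 3) rfl N52614 D191116
theorem N88235 : nd 88235 = n191117 := ndS (p := 52614) (l := 5) rfl N52614 D191117
theorem N88236 : nd 88236 = n191118 := ndS (p := 52614) (l := 6) rfl N52614 D191118
theorem N88237 : nd 88237 = n191119 := ndS (p := 52615) (l := 0) rfl N52615 D191119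
theorem N88238 : nd 88238 = n191120 := ndS (p := 52615) (l := 7) rfl N52615 D191120
theorem N88239 : nd 88239 = n191121 := ndS (p := 52616) (l := 2) rfl N52616 D191121
theorem N88240 : nd 88240 = n191122 := ndS (p := 52616) (l := 5) rfl N52616 D191122
theorem N88241 : nd 88241 = n191123 := ndS (p := 52616) (l := 6) rfl N52616 D191123
theorem N88242 : nd 88242 = n191124 := ndS (p := 52617) (l := 5) rfl N52617 D191124
theorem N88243 : nd 88243 = n191125 := ndS (p := 52617) (l := 6) rfl N52617 D191125
theorem N88244 : nd 88244 = n191126 := ndS (p := 52619) (l := 0) rfl N52619 D191126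
theorem N88245 : nd 88245 = n191127 := ndS (p := 52619) (l := 1) rfl N52619 D191127
theorem N88246 : nd 88246 = n191128 := ndS (p := 52619) (l := 5) rfl N52619 D191128
theorem N88247 : nd 88247 = n191129 := ndS (p := 52619) (l := 7) rfl N52619 D191129
theorem N88248 : nd 88248 = n191130 := ndS (p := 52620) (l := 5) rfl N52620 D191130
theorem N88249 : nd 88249 = n191131 := ndS (p := 52621) (l := 3) rfl N52621 D191131
theorem N88250 : nd 88250 = n191132 := ndS (p := 52621) (l := 5) rfl N52621 D191132
theorem N88251 : nd 88251 = n191133 := ndS (p := 52621) (l := 6) rfl N52621 D191133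
theorem N88252 : nd 88252 = n191134 := ndS (p := 52622) (l := 1) rfl N52622 D191134
theorem N88253 : nd 88253 = n191135 := ndS (p := 52622) (l := 2) rfl N52622 D191135
theorem N88254 : nd 88254 = n191136 := ndS (p := 52622) (l := 7) rfl N52622 D191136
theorem N88255 : nd 88255 = n191137 := ndS (p := 52623) (l := 1) rfl N52623 D191137
theorem N88256 : nd 88256 = n191138 := ndS (p := 52623) (l := 4) rfl N52623 D191138
theorem N88257 : nd 88257 = n191139 := ndS (p := 52623) (l := 7) rfl N52623 D191139
theorem N88258 : nd 88258 = n191140 := ndS (p := 52625) (l := 5) rfl N52625 D191140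
theorem N88259 : nd 88259 = n191141 := ndS (p := 52626) (l := 4) rfl N52626 D191141
theorem N88260 : nd 88260 = n191142 := ndS (p := 52626) (l := 6) rfl N52626 D191142
theorem N88261 : nd 88261 = n191143 := ndS (p := 52627) (l := 4) rfl N52627 D191143
theorem N88262 : nd 88262 = n191144 := ndS (p := 52627) (l := 6) rfl N52627 D191144
theorem N88263 : nd 88263 = n191145 := ndS (p := 52628) (l := 5) rfl N52628 D191145
theorem N88264 : nd 88264 = n191146 := ndS (p := 52629) (l := 4) rfl N52629 D191146
theorem N88265 : nd 88265 = n191147 := ndS (p := 52629) (l := 6) rfl N52629 D191147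
theorem N88266 : nd 88266 = n191148 := ndS (p := 52630) (l := 4) rfl N52630 D191148
theorem N88267 : nd 88267 = n191149 := ndS (p := 52630) (l := 6) rfl N52630 D191149
theorem N88268 : nd 88268 = n191150 := ndS (p := 52631) (l := 1) rfl N52631 D191150
theorem N88269 : nd 88269 = n191151 := ndS (p := 52631) (l := 3) rfl N52631 D191151
theorem N88270 : nd 88270 = n191152 := ndS (p := 52631) (l := 5) rfl N52631 D191152
theorem N88271 : nd 88271 = n191153 := ndS (p := 52631) (l := 6) rfl N52631 D191153
theorem N88272 : nd 88272 = n191154 := ndS (p := 52632) (l := 1) rfl N52632 D191154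
theorem N88273 : nd 88273 = n191155 := ndS (p := 52632) (l := 7) rfl N52632 D191155
theorem N88274 : nd 88274 = n191156 := ndS (p := 52634) (l := 3) rfl N52634 D191156
theorem N88275 : nd 88275 = n191157 := ndS (p := 52634) (l := 4) rfl N52634 D191157
theorem N88276 : nd 88276 = n191158 := ndS (p := 52634) (l := 6) rfl N52634 D191158
theorem N88277 : nd 88277 = n191159 := ndS (p := 52635) (l := 1) rfl N52635 D191159
theorem N88278 : nd 88278 = n191160 := ndS (p := 52635) (l := 4) rfl N52635 D191160
theorem N88279 : nd 88279 = n191161 := ndS (p := 52636) (l := 0) rfl N52636 D191161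
theorem N88280 : nd 88280 = n191162 := ndS (p := 52636) (l := 1) rfl N52636 D191162
theorem N88281 : nd 88281 = n191163 := ndS (p := 52636) (l := 2) rfl N52636 D191163
theorem N88282 : nd 88282 = n191164 := ndS (p := 52636) (l := 6) rfl N52636 D191164
theorem N88283 : nd 88283 = n191165 := ndS (p := 52637) (l := 0) rfl N52637 D191165
theorem N88284 : nd 88284 = n191166 := ndS (p := 52637) (l := 1) rfl N52637 D191166
theorem N88285 : nd 88285 = n191167 := ndS (p := 52637) (l := 5) rfl N52637 D191167
theorem N88286 : nd 88286 = n191168 := ndS (p := 52637) (l := 7) rfl N52637 D191168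
theorem N88287 : nd 88287 = n191169 := ndS (p := 52638) (l := 3) rfl N52638 D191169
theorem N88288 : nd 88288 = n191170 := ndS (p := 52638) (l := 4) rfl N52638 D191170
theorem N88289 : nd 88289 = n191171 := ndS (p := 52639) (l := 4) rfl N52639 D191171
theorem N88290 : nd 88290 = n191172 := ndS (p := 52639) (l := 6) rfl N52639 D191172
theorem N88291 : nd 88291 = n191173 := ndS (p := 52640) (l := 4) rfl N52640 D191173
theorem N88292 : nd 88292 = n191174 := ndS (p := 52640) (l := 7) rfl N52640 D191174
theorem N88293 : nd 88293 = n191175 := ndS (p := 52643) (l := 6) rfl N52643 D191175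
theorem N88294 : nd 88294 = n191176 := ndS (p := 52644) (l := 6) rfl N52644 D191176
theorem N88295 : nd 88295 = n191177 := ndS (p := 52646) (l := 6) rfl N52646 D191177
theorem N88296 : nd 88296 = n191178 := ndS (p := 52647) (l := 0) rfl N52647 D191178
theorem N88297 : nd 88297 = n191179 := ndS (p := 52647) (l := 1) rfl N52647 D191179
theorem N88298 : nd 88298 = n191180 := ndS (p := 52647) (l := 7) rfl N52647 D191180
theorem N88299 : nd 88299 = n191181 := ndS (p := 52648) (l := 3) rfl N52648 D191181
theorem N88300 : nd 88300 = n191182 := ndS (p := 52650) (l := 1) rfl N52650 D191182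
theorem N88301 : nd 88301 = n191183 := ndS (p := 52650) (l := 2) rfl N52650 D191183
theorem N88302 : nd 88302 = n191184 := ndS (p := 52650) (l := 6) rfl N52650 D191184
theorem N88303 : nd 88303 = n191185 := ndS (p := 52651) (l := 0) rfl N52651 D191185
theorem N88304 : nd 88304 = n191186 := ndS (p := 52651) (l := 1) rfl N52651 D191186
theorem N88305 : nd 88305 = n191187 := ndS (p := 52651) (l := 5) rfl N52651 D191187
theorem N88306 : nd 88306 = n191188 := ndS (p := 52651) (l := 7) rfl N52651 D191188
theorem N88307 : nd 88307 = n191189 := ndS (p := 52652) (l := 4) rfl N52652 D191189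
theorem N88308 : nd 88308 = n191190 := ndS (p := 52653) (l := 4) rfl N52653 D191190
theorem N88309 : nd 88309 = n191191 := ndS (p := 52655) (l := 4) rfl N52655 D191191
theorem N88310 : nd 88310 = n191192 := ndS (p := 52655) (l := 6) rfl N52655 D191192
theorem N88311 : nd 88311 = n191193 := ndS (p := 52656) (l := 1) rfl N52656 D191193
theorem N88312 : nd 88312 = n191194 := ndS (p := 52657) (l := 0) rfl N52657 D191194
theorem N88313 : nd 88313 = n191195 := ndS (p := 52657) (l := 1) rfl N52657 D191195
theorem N88314 : nd 88314 = n191197 := ndS (p := 52659) (l := 3) rfl N52659 D191197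
theorem N88315 : nd 88315 = n191198 := ndS (p := 52659) (l := 5) rfl N52659 D191198
theorem N88316 : nd 88316 = n191202 := ndS (p := 52660) (l := 5) rfl N52660 D191202
theorem N88317 : nd 88317 = n191203 := ndS (p := 52660) (l := 6) rfl N52660 D191203
theorem N88318 : nd 88318 = n191204 := ndS (p := 52664) (l := 0) rfl N52664 D191204
theorem N88319 : nd 88319 = n191205 := ndS (p := 52664) (l := 1) rfl N52664 D191205
theorem N88320 : nd 88320 = n191206 := ndS (p := 52665) (l := 4) rfl N52665 D191206
theorem N88321 : nd 88321 = n191207 := ndS (p := 52665) (l := 6) rfl N52665 D191207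
theorem N88322 : nd 88322 = n191208 := ndS (p := 52668) (l := 0) rfl N52668 D191208
theorem N88323 : nd 88323 = n191209 := ndS (p := 52668) (l := 2) rfl N52668 D191209
theorem N88324 : nd 88324 = n191210 := ndS (p := 52669) (l := 7) rfl N52669 D191210
theorem N88325 : nd 88325 = n191211 := ndS (p := 52670) (l := 1) rfl N52670 D191211
theorem N88326 : nd 88326 = n191212 := ndS (p := 52670) (l := 4) rfl N52670 D191212
theorem N88327 : nd 88327 = n191213 := ndS (p := 52671) (l := 7) rfl N52671 D191213
theorem N88328 : nd 88328 = n191214 := ndS (p := 52673) (l := 3) rfl N52673 D191214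
theorem N88329 : nd 88329 = n191215 := ndS (p := 52675) (l := 5) rfl N52675 D191215
theorem N88330 : nd 88330 = n191216 := ndS (p := 52676) (l := 5) rfl N52676 D191216
theorem N88331 : nd 88331 = n191217 := ndS (p := 52677) (l := 5) rfl N52677 D191217
theorem N88332 : nd 88332 = n191218 := ndS (p := 52678) (l := 6) rfl N52678 D191218
theorem N88333 : nd 88333 = n191219 := ndS (p := 52680) (l := 0) rfl N52680 D191219
theorem N88334 : nd 88334 = n191220 := ndS (p := 52680) (l := 1) rfl N52680 D191220
theorem N88335 : nd 88335 = n191221 := ndS (p := 52680) (l := 7) rfl N52680 D191221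
theorem N88336 : nd 88336 = n191222 := ndS (p := 52681) (l := 6) rfl N52681 D191222
theorem N88337 : nd 88337 = n191223 := ndS (p := 52684) (l := 6) rfl N52684 D191223
theorem N88338 : nd 88338 = n191224 := ndS (p := 52685) (l := 3) rfl N52685 D191224
theorem N88339 : nd 88339 = n191225 := ndS (p := 52685) (l := 6) rfl N52685 D191225
theorem N88340 : nd 88340 = n191226 := ndS (p := 52686) (l := 0) rfl N52686 D191226
theorem N88341 : nd 88341 = n191227 := ndS (p := 52686) (l := 1) rfl N52686 D191227
theorem N88342 : nd 88342 = n191228 := ndS (p := 52688) (l := 3) rfl N52688 D191228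
theorem N88343 : nd 88343 = n191229 := ndS (p := 52689) (l := 2) rfl N52689 D191229
theorem N88344 : nd 88344 = n191230 := ndS (p := 52689) (l := 6) rfl N52689 D191230
theorem N88345 : nd 88345 = n191231 := ndS (p := 52690) (l := 0) rfl N52690 D191231
theorem N88346 : nd 88346 = n191232 := ndS (p := 52690) (l := 1) rfl N52690 D191232
theorem N88347 : nd 88347 = n191233 := ndS (p := 52690) (l := 7) rfl N52690 D191233
theorem N88348 : nd 88348 = n191234 := ndS (p := 52691) (l := 6) rfl N52691 D191234
theorem N88349 : nd 88349 = n191235 := ndS (p := 52692) (l := 6) rfl N52692 D191235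
theorem N88350 : nd 88350 = n191236 := ndS (p := 52693) (l := 0) rfl N52693 D191236
theorem N88351 : nd 88351 = n191237 := ndS (p := 52693) (l := 1) rfl N52693 D191237
theorem N88352 : nd 88352 = n191238 := ndS (p := 52693) (l := 7) rfl N52693 D191238
theorem N88353 : nd 88353 = n191239 := ndS (p := 52694) (l := 2) rfl N52694 D191239
theorem N88354 : nd 88354 = n191240 := ndS (p := 52694) (l := 6) rfl N52694 D191240
theorem N88355 : nd 88355 = n191241 := ndS (p := 52695) (l := 5) rfl N52695 D191241
theorem N88356 : nd 88356 = n191242 := ndS (p := 52696) (l := 4) rfl N52696 D191242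
theorem N88357 : nd 88357 = n191243 := ndS (p := 52696) (l := 6) rfl N52696 D191243
theorem N88358 : nd 88358 = n191244 := ndS (p := 52700) (l := 4) rfl N52700 D191244
theorem N88359 : nd 88359 = n191245 := ndS (p := 52700) (l := 6) rfl N52700 D191245
theorem N88360 : nd 88360 = n191246 := ndS (p := 52701) (l := 6) rfl N52701 D191246
theorem N88361 : nd 88361 = n191247 := ndS (p := 52703) (l := 3) rfl N52703 D191247
theorem N88362 : nd 88362 = n191248 := ndS (p := 52703) (l := 4) rfl N52703 D191248
theorem N88363 : nd 88363 = n191249 := ndS (p := 52703) (l := 6) rfl N52703 D191249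
theorem N88364 : nd 88364 = n191250 := ndS (p := 52704) (l := 4) rfl N52704 D191250
theorem N88365 : nd 88365 = n191251 := ndS (p := 52705) (l := 3) rfl N52705 D191251
theorem N88366 : nd 88366 = n191252 := ndS (p := 52705) (l := 6) rfl N52705 D191252
theorem N88367 : nd 88367 = n191253 := ndS (p := 52706) (l := 0) rfl N52706 D191253
theorem N88368 : nd 88368 = n191254 := ndS (p := 52706) (l := 1) rfl N52706 D191254
theorem N88369 : nd 88369 = n191255 := ndS (p := 52706) (l := 7) rfl N52706 D191255
theorem N88370 : nd 88370 = n191256 := ndS (p := 52707) (l := 3) rfl N52707 D191256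
theorem N88371 : nd 88371 = n191257 := ndS (p := 52708) (l := 4) rfl N52708 D191257
theorem N88372 : nd 88372 = n191258 := ndS (p := 52709) (l := 0) rfl N52709 D191258
theorem N88373 : nd 88373 = n191259 := ndS (p := 52709) (l := 1) rfl N52709 D191259
theorem N88374 : nd 88374 = n191260 := ndS (p := 52709) (l := 2) rfl N52709 D191260
theorem N88375 : nd 88375 = n191261 := ndS (p := 52711) (l := 4) rfl N52711 D191261
theorem N88376 : nd 88376 = n191262 := ndS (p := 52711) (l := 6) rfl N52711 D191262
theorem N88377 : nd 88377 = n191263 := ndS (p := 52714) (l := 5) rfl N52714 D191263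
theorem N88378 : nd 88378 = n191264 := ndS (p := 52715) (l := 5) rfl N52715 D191264
theorem N88379 : nd 88379 = n191265 := ndS (p := 52716) (l := 4) rfl N52716 D191265
theorem N88380 : nd 88380 = n191266 := ndS (p := 52717) (l := 5) rfl N52717 D191266
theorem N88381 : nd 88381 = n191267 := ndS (p := 52718) (l := 5) rfl N52718 D191267
theorem N88382 : nd 88382 = n191268 := ndS (p := 52719) (l := 4) rfl N52719 D191268
theorem N88383 : nd 88383 = n191269 := ndS (p := 52720) (l := 5) rfl N52720 D191269
theorem N88384 : nd 88384 = n191270 := ndS (p := 52720) (l := 6) rfl N52720 D191270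
theorem N88385 : nd 88385 = n191271 := ndS (p := 52721) (l := 5) rfl N52721 D191271
theorem N88386 : nd 88386 = n191272 := ndS (p := 52721) (l := 6) rfl N52721 D191272
theorem N88387 : nd 88387 = n191273 := ndS (p := 52722) (l := 4) rfl N52722 D191273
theorem N88388 : nd 88388 = n191274 := ndS (p := 52722) (l := 6) rfl N52722 D191274
theorem N88389 : nd 88389 = n191275 := ndS (p := 52724) (l := 5) rfl N52724 D191275
theorem N88390 : nd 88390 = n191276 := ndS (p := 52725) (l := 4) rfl N52725 D191276
theorem N88391 : nd 88391 = n191277 := ndS (p := 52725) (l := 6) rfl N52725 D191277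
theorem N88392 : nd 88392 = n191278 := ndS (p := 52726) (l := 3) rfl N52726 D191278
theorem N88393 : nd 88393 = n191279 := ndS (p := 52726) (l := 4) rfl N52726 D191279
theorem N88394 : nd 88394 = n191280 := ndS (p := 52726) (l := 6) rfl N52726 D191280
theorem N88395 : nd 88395 = n191281 := ndS (p := 52727) (l := 3) rfl N52727 D191281
theorem N88396 : nd 88396 = n191282 := ndS (p := 52727) (l := 4) rfl N52727 D191282
theorem N88397 : nd 88397 = n191283 := ndS (p := 52727) (l := 6) rfl N52727 D191283
theorem N88398 : nd 88398 = n191284 := ndS (p := 52728) (l := 0) rfl N52728 D191284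
theorem N88399 : nd 88399 = n191285 := ndS (p := 52728) (l := 1) rfl N52728 D191285
theorem N88400 : nd 88400 = n191286 := ndS (p := 52728) (l := 5) rfl N52728 D191286
theorem N88401 : nd 88401 = n191287 := ndS (p := 52728) (l := 7) rfl N52728 D191287
theorem N88402 : nd 88402 = n191288 := ndS (p := 52730) (l := 5) rfl N52730 D191288
theorem N88403 : nd 88403 = n191289 := ndS (p := 52731) (l := 5) rfl N52731 D191289
theorem N88404 : nd 88404 = n191290 := ndS (p := 52732) (l := 0) rfl N52732 D191290
theorem N88405 : nd 88405 = n191291 := ndS (p := 52732) (l := 1) rfl N52732 D191291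
theorem N88406 : nd 88406 = n191292 := ndS (p := 52732) (l := 4) rfl N52732 D191292
theorem N88407 : nd 88407 = n191293 := ndS (p := 52732) (l := 6) rfl N52732 D191293
theorem N88408 : nd 88408 = n191294 := ndS (p := 52733) (l := 1) rfl N52733 D191294
theorem N88409 : nd 88409 = n191295 := ndS (p := 52733) (l := 7) rfl N52733 D191295
theorem N88410 : nd 88410 = n191296 := ndS (p := 52734) (l := 2) rfl N52734 D191296
theorem N88411 : nd 88411 = n191297 := ndS (p := 52734) (l := 6) rfl N52734 D191297
theorem N88412 : nd 88412 = n191298 := ndS (p := 52735) (l := 3) rfl N52735 D191298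
theorem N88413 : nd 88413 = n191299 := ndS (p := 52736) (l := 7) rfl N52736 D191299
theorem N88414 : nd 88414 = n191300 := ndS (p := 52737) (l := 3) rfl N52737 D191300
theorem N88415 : nd 88415 = n191301 := ndS (p := 52738) (l := 2) rfl N52738 D191301
theorem N88416 : nd 88416 = n191302 := ndS (p := 52738) (l := 7) rfl N52738 D191302
theorem N88417 : nd 88417 = n191303 := ndS (p := 52739) (l := 6) rfl N52739 D191303
theorem N88418 : nd 88418 = n191304 := ndS (p := 52740) (l := 1) rfl N52740 D191304
theorem N88419 : nd 88419 = n191305 := ndS (p := 52741) (l := 5) rfl N52741 D191305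
theorem N88420 : nd 88420 = n191306 := ndS (p := 52742) (l := 0) rfl N52742 D191306
theorem N88421 : nd 88421 = n191307 := ndS (p := 52742) (l := 4) rfl N52742 D191307
theorem N88422 : nd 88422 = n191308 := ndS (p := 52742) (l := 6) rfl N52742 D191308
theorem N88423 : nd 88423 = n191309 := ndS (p := 52743) (l := 0) rfl N52743 D191309
theorem N88424 : nd 88424 = n191310 := ndS (p := 52743) (l := 1) rfl N52743 D191310
theorem N88425 : nd 88425 = n191311 := ndS (p := 52743) (l := 7) rfl N52743 D191311
theorem N88426 : nd 88426 = n191312 := ndS (p := 52744) (l := 3) rfl N52744 D191312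
theorem N88427 : nd 88427 = n191313 := ndS (p := 52745) (l := 1) rfl N52745 D191313
theorem N88428 : nd 88428 = n191314 := ndS (p := 52745) (l := 2) rfl N52745 D191314
theorem N88429 : nd 88429 = n191315 := ndS (p := 52746) (l := 5) rfl N52746 D191315
theorem N88430 : nd 88430 = n191316 := ndS (p := 52748) (l := 5) rfl N52748 D191316
theorem N88431 : nd 88431 = n191317 := ndS (p := 52749) (l := 4) rfl N52749 D191317
theorem N88432 : nd 88432 = n191318 := ndS (p := 52750) (l := 0) rfl N52750 D191318
theorem N88433 : nd 88433 = n191319 := ndS (p := 52750) (l := 1) rfl N52750 D191319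
theorem N88434 : nd 88434 = n191320 := ndS (p := 52750) (l := 5) rfl N52750 D191320
theorem N88435 : nd 88435 = n191321 := ndS (p := 52750) (l := 6) rfl N52750 D191321
theorem N88436 : nd 88436 = n191322 := ndS (p := 52752) (l := 3) rfl N52752 D191322
theorem N88437 : nd 88437 = n191323 := ndS (p := 52752) (l := 5) rfl N52752 D191323
theorem N88438 : nd 88438 = n191324 := ndS (p := 52754) (l := 5) rfl N52754 D191324
theorem N88439 : nd 88439 = n191325 := ndS (p := 52755) (l := 5) rfl N52755 D191325
theorem N88440 : nd 88440 = n191326 := ndS (p := 52756) (l := 3) rfl N52756 D191326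
theorem N88441 : nd 88441 = n191327 := ndS (p := 52757) (l := 5) rfl N52757 D191327
theorem N88442 : nd 88442 = n191328 := ndS (p := 52758) (l := 0) rfl N52758 D191328
theorem N88443 : nd 88443 = n191329 := ndS (p := 52758) (l := 4) rfl N52758 D191329
theorem N88444 : nd 88444 = n191330 := ndS (p := 52760) (l := 5) rfl N52760 D191330
theorem N88445 : nd 88445 = n191331 := ndS (p := 52760) (l := 6) rfl N52760 D191331
theorem N88446 : nd 88446 = n191332 := ndS (p := 52761) (l := 6) rfl N52761 D191332
theorem N88447 : nd 88447 = n191333 := ndS (p := 52763) (l := 6) rfl N52763 D191333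
theorem N88448 : nd 88448 = n191334 := ndS (p := 52765) (l := 3) rfl N52765 D191334
theorem N88449 : nd 88449 = n191335 := ndS (p := 52765) (l := 6) rfl N52765 D191335
theorem N88450 : nd 88450 = n191336 := ndS (p := 52766) (l := 6) rfl N52766 D191336
theorem N88451 : nd 88451 = n191337 := ndS (p := 52767) (l := 3) rfl N52767 D191337
theorem N88452 : nd 88452 = n191338 := ndS (p := 52768) (l := 4) rfl N52768 D191338
theorem N88453 : nd 88453 = n191339 := ndS (p := 52768) (l := 6) rfl N52768 D191339
theorem N88454 : nd 88454 = n191340 := ndS (p := 52769) (l := 4) rfl N52769 D191340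
theorem N88455 : nd 88455 = n191341 := ndS (p := 52771) (l := 4) rfl N52771 D191341
theorem N88456 : nd 88456 = n191342 := ndS (p := 52771) (l := 6) rfl N52771 D191342
theorem N88457 : nd 88457 = n191343 := ndS (p := 52772) (l := 4) rfl N52772 D191343
theorem N88458 : nd 88458 = n191344 := ndS (p := 52772) (l := 6) rfl N52772 D191344
theorem N88459 : nd 88459 = n191345 := ndS (p := 52775) (l := 1) rfl N52775 D191345
theorem N88460 : nd 88460 = n191346 := ndS (p := 52776) (l := 5) rfl N52776 D191346
theorem N88461 : nd 88461 = n191347 := ndS (p := 52778) (l := 5) rfl N52778 D191347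
theorem N88462 : nd 88462 = n191348 := ndS (p := 52779) (l := 5) rfl N52779 D191348
theorem N88463 : nd 88463 = n191349 := ndS (p := 52780) (l := 0) rfl N52780 D191349
theorem N88464 : nd 88464 = n191350 := ndS (p := 52780) (l := 4) rfl N52780 D191350
theorem N88465 : nd 88465 = n191351 := ndS (p := 52781) (l := 0) rfl N52781 D191351
theorem N88466 : nd 88466 = n191352 := ndS (p := 52781) (l := 4) rfl N52781 D191352
theorem N88467 : nd 88467 = n191353 := ndS (p := 52784) (l := 4) rfl N52784 D191353
theorem N88468 : nd 88468 = n191354 := ndS (p := 52784) (l := 5) rfl N52784 D191354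
theorem N88469 : nd 88469 = n191355 := ndS (p := 52785) (l := 3) rfl N52785 D191355
theorem N88470 : nd 88470 = n191356 := ndS (p := 52785) (l := 4) rfl N52785 D191356
theorem N88471 : nd 88471 = n191357 := ndS (p := 52787) (l := 0) rfl N52787 D191357
theorem N88472 : nd 88472 = n191358 := ndS (p := 52787) (l := 1) rfl N52787 D191358
theorem N88473 : nd 88473 = n191359 := ndS (p := 52787) (l := 4) rfl N52787 D191359
theorem N88474 : nd 88474 = n191360 := ndS (p := 52795) (l := 5) rfl N52795 D191360
theorem N88475 : nd 88475 = n191361 := ndS (p := 52796) (l := 3) rfl N52796 D191361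
theorem N88476 : nd 88476 = n191362 := ndS (p := 52798) (l := 0) rfl N52798 D191362
theorem N88477 : nd 88477 = n191363 := ndS (p := 52801) (l := 5) rfl N52801 D191363
theorem N88478 : nd 88478 = n191364 := ndS (p := 52802) (l := 4) rfl N52802 D191364
theorem N88479 : nd 88479 = n191365 := ndS (p := 52802) (l := 5) rfl N52802 D191365
theorem N88480 : nd 88480 = n191366 := ndS (p := 52802) (l := 6) rfl N52802 D191366
theorem N88481 : nd 88481 = n191367 := ndS (p := 52803) (l := 4) rfl N52803 D191367
theorem N88482 : nd 88482 = n191368 := ndS (p := 52803) (l := 5) rfl N52803 D191368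
theorem N88483 : nd 88483 = n191369 := ndS (p := 52803) (l := 6) rfl N52803 D191369
theorem N88484 : nd 88484 = n191370 := ndS (p := 52804) (l := 0) rfl N52804 D191370
theorem N88485 : nd 88485 = n191371 := ndS (p := 52804) (l := 4) rfl N52804 D191371
theorem N88486 : nd 88486 = n191372 := ndS (p := 52805) (l := 4) rfl N52805 D191372
theorem N88487 : nd 88487 = n191373 := ndS (p := 52806) (l := 0) rfl N52806 D191373
theorem N88488 : nd 88488 = n191374 := ndS (p := 52806) (l := 1) rfl N52806 D191374
theorem N88489 : nd 88489 = n191375 := ndS (p := 52806) (l := 3) rfl N52806 D191375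
theorem N88490 : nd 88490 = n191376 := ndS (p := 52807) (l := 6) rfl N52807 D191376
theorem N88491 : nd 88491 = n191377 := ndS (p := 52812) (l := 7) rfl N52812 D191377
theorem N88492 : nd 88492 = n191378 := ndS (p := 52816) (l := 6) rfl N52816 D191378
theorem N88493 : nd 88493 = n191379 := ndS (p := 52820) (l := 5) rfl N52820 D191379
theorem N88494 : nd 88494 = n191380 := ndS (p := 52823) (l := 6) rfl N52823 D191380
theorem N88495 : nd 88495 = n191381 := ndS (p := 52825) (l := 5) rfl N52825 D191381
theorem N88496 : nd 88496 = n191382 := ndS (p := 52825) (l := 6) rfl N52825 D191382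
theorem N88497 : nd 88497 = n191383 := ndS (p := 52826) (l := 4) rfl N52826 D191383
theorem N88498 : nd 88498 = n191384 := ndS (p := 52827) (l := 5) rfl N52827 D191384
theorem N88499 : nd 88499 = n191385 := ndS (p := 52827) (l := 7) rfl N52827 D191385
theorem N88500 : nd 88500 = n191386 := ndS (p := 52828) (l := 6) rfl N52828 D191386
theorem N88501 : nd 88501 = n191387 := ndS (p := 52829) (l := 5) rfl N52829 D191387
theorem N88502 : nd 88502 = n191388 := ndS (p := 52829) (l := 6) rfl N52829 D191388
theorem N88503 : nd 88503 = n191389 := ndS (p := 52831) (l := 5) rfl N52831 D191389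
theorem N88504 : nd 88504 = n191390 := ndS (p := 52832) (l := 3) rfl N52832 D191390
theorem N88505 : nd 88505 = n191391 := ndS (p := 52832) (l := 5) rfl N52832 D191391
theorem N88506 : nd 88506 = n191392 := ndS (p := 52833) (l := 2) rfl N52833 D191392
theorem N88507 : nd 88507 = n191393 := ndS (p := 52833) (l := 4) rfl N52833 D191393
theorem N88508 : nd 88508 = n191394 := ndS (p := 52833) (l := 6) rfl N52833 D191394
theorem N88509 : nd 88509 = n191395 := ndS (p := 52840) (l := 6) rfl N52840 D191395
theorem N88510 : nd 88510 = n191396 := ndS (p := 52843) (l := 6) rfl N52843 D191396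
theorem N88511 : nd 88511 = n191397 := ndS (p := 52844) (l := 0) rfl N52844 D191397
theorem N88512 : nd 88512 = n191398 := ndS (p := 52844) (l := 1) rfl N52844 D191398
theorem N88513 : nd 88513 = n191399 := ndS (p := 52847) (l := 5) rfl N52847 D191399
theorem N88514 : nd 88514 = n191400 := ndS (p := 52848) (l := 4) rfl N52848 D191400
theorem N88515 : nd 88515 = n191401 := ndS (p := 52849) (l := 6) rfl N52849 D191401
theorem N88516 : nd 88516 = n191402 := ndS (p := 52854) (l := 5) rfl N52854 D191402
theorem N88517 : nd 88517 = n191403 := ndS (p := 52855) (l := 6) rfl N52855 D191403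
theorem N88518 : nd 88518 = n191404 := ndS (p := 52856) (l := 5) rfl N52856 D191404
theorem N88519 : nd 88519 = n191405 := ndS (p := 52858) (l := 5) rfl N52858 D191405
theorem N88520 : nd 88520 = n191406 := ndS (p := 52858) (l := 6) rfl N52858 D191406
theorem N88521 : nd 88521 = n191407 := ndS (p := 52859) (l := 5) rfl N52859 D191407
theorem N88522 : nd 88522 = n191408 := ndS (p := 52859) (l := 6) rfl N52859 D191408
theorem N88523 : nd 88523 = n191409 := ndS (p := 52860) (l := 6) rfl N52860 D191409
theorem N88524 : nd 88524 = n191410 := ndS (p := 52861) (l := 5) rfl N52861 D191410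
theorem N88525 : nd 88525 = n191411 := ndS (p := 52864) (l := 4) rfl N52864 D191411
theorem N88526 : nd 88526 = n191412 := ndS (p := 52864) (l := 6) rfl N52864 D191412
theorem N88527 : nd 88527 = n191413 := ndS (p := 52865) (l := 6) rfl N52865 D191413
theorem N88528 : nd 88528 = n191414 := ndS (p := 52866) (l := 0) rfl N52866 D191414
theorem N88529 : nd 88529 = n191415 := ndS (p := 52866) (l := 1) rfl N52866 D191415
theorem N88530 : nd 88530 = n191416 := ndS (p := 52869) (l := 0) rfl N52869 D191416
theorem N88531 : nd 88531 = n191417 := ndS (p := 52870) (l := 4) rfl N52870 D191417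
theorem N88532 : nd 88532 = n191418 := ndS (p := 52871) (l := 5) rfl N52871 D191418
theorem N88533 : nd 88533 = n191419 := ndS (p := 52872) (l := 0) rfl N52872 D191419
theorem N88534 : nd 88534 = n191420 := ndS (p := 52872) (l := 4) rfl N52872 D191420
theorem N88535 : nd 88535 = n191421 := ndS (p := 52872) (l := 7) rfl N52872 D191421
theorem N88536 : nd 88536 = n191422 := ndS (p := 52877) (l := 0) rfl N52877 D191422
theorem N88537 : nd 88537 = n191423 := ndS (p := 52877) (l := 1) rfl N52877 D191423
theorem N88538 : nd 88538 = n191424 := ndS (p := 52877) (l := 7) rfl N52877 D191424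
theorem N88539 : nd 88539 = n191425 := ndS (p := 52878) (l := 5) rfl N52878 D191425
theorem N88540 : nd 88540 = n191426 := ndS (p := 52879) (l := 1) rfl N52879 D191426
theorem N88541 : nd 88541 = n191427 := ndS (p := 52879) (l := 4) rfl N52879 D191427
theorem N88542 : nd 88542 = n191428 := ndS (p := 52879) (l := 7) rfl N52879 D191428
theorem N88543 : nd 88543 = n191429 := ndS (p := 52881) (l := 4) rfl N52881 D191429
theorem N88544 : nd 88544 = n191430 := ndS (p := 52881) (l := 6) rfl N52881 D191430
theorem N88545 : nd 88545 = n191431 := ndS (p := 52882) (l := 4) rfl N52882 D191431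
theorem N88546 : nd 88546 = n191432 := ndS (p := 52882) (l := 6) rfl N52882 D191432
theorem N88547 : nd 88547 = n191433 := ndS (p := 52883) (l := 5) rfl N52883 D191433
theorem N88548 : nd 88548 = n191434 := ndS (p := 52884) (l := 4) rfl N52884 D191434
theorem N88549 : nd 88549 = n191435 := ndS (p := 52884) (l := 6) rfl N52884 D191435
theorem N88550 : nd 88550 = n191436 := ndS (p := 52885) (l := 4) rfl N52885 D191436
theorem N88551 : nd 88551 = n191437 := ndS (p := 52885) (l := 6) rfl N52885 D191437
theorem N88552 : nd 88552 = n191438 := ndS (p := 52886) (l := 0) rfl N52886 D191438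
theorem N88553 : nd 88553 = n191439 := ndS (p := 52886) (l := 1) rfl N52886 D191439
theorem N88554 : nd 88554 = n191440 := ndS (p := 52886) (l := 3) rfl N52886 D191440
theorem N88555 : nd 88555 = n191441 := ndS (p := 52886) (l := 5) rfl N52886 D191441
theorem N88556 : nd 88556 = n191442 := ndS (p := 52886) (l := 7) rfl N52886 D191442
theorem N88557 : nd 88557 = n191443 := ndS (p := 52887) (l := 6) rfl N52887 D191443
theorem N88558 : nd 88558 = n191444 := ndS (p := 52888) (l := 1) rfl N52888 D191444
theorem N88559 : nd 88559 = n191445 := ndS (p := 52888) (l := 4) rfl N52888 D191445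
theorem N88560 : nd 88560 = n191446 := ndS (p := 52888) (l := 6) rfl N52888 D191446
theorem N88561 : nd 88561 = n191447 := ndS (p := 52890) (l := 4) rfl N52890 D191447
theorem N88562 : nd 88562 = n191448 := ndS (p := 52890) (l := 6) rfl N52890 D191448
theorem N88563 : nd 88563 = n191449 := ndS (p := 52892) (l := 6) rfl N52892 D191449
theorem N88564 : nd 88564 = n191450 := ndS (p := 52893) (l := 6) rfl N52893 D191450
theorem N88565 : nd 88565 = n191451 := ndS (p := 52894) (l := 0) rfl N52894 D191451
theorem N88566 : nd 88566 = n191452 := ndS (p := 52894) (l := 3) rfl N52894 D191452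
theorem N88567 : nd 88567 = n191453 := ndS (p := 52894) (l := 5) rfl N52894 D191453
theorem N88568 : nd 88568 = n191454 := ndS (p := 52894) (l := 7) rfl N52894 D191454
theorem N88569 : nd 88569 = n191455 := ndS (p := 52895) (l := 6) rfl N52895 D191455
theorem N88570 : nd 88570 = n191456 := ndS (p := 52896) (l := 4) rfl N52896 D191456
theorem N88571 : nd 88571 = n191457 := ndS (p := 52897) (l := 0) rfl N52897 D191457
theorem N88572 : nd 88572 = n191458 := ndS (p := 52897) (l := 1) rfl N52897 D191458
theorem N88573 : nd 88573 = n191459 := ndS (p := 52897) (l := 7) rfl N52897 D191459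
theorem N88574 : nd 88574 = n191460 := ndS (p := 52898) (l := 0) rfl N52898 D191460
theorem N88575 : nd 88575 = n191461 := ndS (p := 52898) (l := 1) rfl N52898 D191461
theorem N88576 : nd 88576 = n191462 := ndS (p := 52898) (l := 2) rfl N52898 D191462
theorem N88577 : nd 88577 = n191463 := ndS (p := 52898) (l := 7) rfl N52898 D191463
theorem N88578 : nd 88578 = n191464 := ndS (p := 52899) (l := 6) rfl N52899 D191464
theorem N88579 : nd 88579 = n191465 := ndS (p := 52900) (l := 0) rfl N52900 D191465
theorem N88580 : nd 88580 = n191466 := ndS (p := 52900) (l := 1) rfl N52900 D191466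
theorem N88581 : nd 88581 = n191467 := ndS (p := 52901) (l := 5) rfl N52901 D191467
theorem N88582 : nd 88582 = n191468 := ndS (p := 52902) (l := 5) rfl N52902 D191468
theorem N88583 : nd 88583 = n191469 := ndS (p := 52903) (l := 5) rfl N52903 D191469
theorem N88584 : nd 88584 = n191470 := ndS (p := 52903) (l := 6) rfl N52903 D191470
theorem N88585 : nd 88585 = n191471 := ndS (p := 52904) (l := 5) rfl N52904 D191471
theorem N88586 : nd 88586 = n191472 := ndS (p := 52904) (l := 6) rfl N52904 D191472
theorem N88587 : nd 88587 = n191473 := ndS (p := 52905) (l := 0) rfl N52905 D191473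
theorem N88588 : nd 88588 = n191474 := ndS (p := 52905) (l := 1) rfl N52905 D191474
theorem N88589 : nd 88589 = n191476 := ndS (p := 52905) (l := 7) rfl N52905 D191476
theorem N88590 : nd 88590 = n191477 := ndS (p := 52907) (l := 4) rfl N52907 D191477
theorem N88591 : nd 88591 = n191478 := ndS (p := 52907) (l := 6) rfl N52907 D191478
theorem N88592 : nd 88592 = n191479 := ndS (p := 52908) (l := 4) rfl N52908 D191479
theorem N88593 : nd 88593 = n191480 := ndS (p := 52908) (l := 6) rfl N52908 D191480
theorem N88594 : nd 88594 = n191481 := ndS (p := 52909) (l := 0) rfl N52909 D191481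
theorem N88595 : nd 88595 = n191483 := ndS (p := 52909) (l := 5) rfl N52909 D191483
theorem N88596 : nd 88596 = n191484 := ndS (p := 52909) (l := 7) rfl N52909 D191484
theorem N88597 : nd 88597 = n191486 := ndS (p := 52917) (l := 6) rfl N52917 D191486
theorem N88598 : nd 88598 = n191487 := ndS (p := 52918) (l := 4) rfl N52918 D191487
theorem N88599 : nd 88599 = n191488 := ndS (p := 52918) (l := 6) rfl N52918 D191488
theorem N88600 : nd 88600 = n191489 := ndS (p := 52919) (l := 0) rfl N52919 D191489
theorem N88601 : nd 88601 = n191490 := ndS (p := 52919) (l := 5) rfl N52919 D191490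
theorem N88602 : nd 88602 = n191491 := ndS (p := 52920) (l := 0) rfl N52920 D191491
theorem N88603 : nd 88603 = n191492 := ndS (p := 52920) (l := 5) rfl N52920 D191492
theorem N88604 : nd 88604 = n191493 := ndS (p := 52920) (l := 7) rfl N52920 D191493
theorem N88605 : nd 88605 = n191494 := ndS (p := 52921) (l := 4) rfl N52921 D191494
theorem N88606 : nd 88606 = n191495 := ndS (p := 52925) (l := 5) rfl N52925 D191495
theorem N88607 : nd 88607 = n191496 := ndS (p := 52926) (l := 5) rfl N52926 D191496
theorem N88608 : nd 88608 = n191497 := ndS (p := 52927) (l := 4) rfl N52927 D191497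
theorem N88609 : nd 88609 = n191498 := ndS (p := 52927) (l := 5) rfl N52927 D191498
theorem N88610 : nd 88610 = n191499 := ndS (p := 52928) (l := 0) rfl N52928 D191499
theorem N88611 : nd 88611 = n191500 := ndS (p := 52928) (l := 1) rfl N52928 D191500
theorem N88612 : nd 88612 = n191501 := ndS (p := 52928) (l := 7) rfl N52928 D191501
theorem N88613 : nd 88613 = n191502 := ndS (p := 52930) (l := 6) rfl N52930 D191502
theorem N88614 : nd 88614 = n191503 := ndS (p := 52931) (l := 3) rfl N52931 D191503
theorem N88615 : nd 88615 = n191504 := ndS (p := 52931) (l := 7) rfl N52931 D191504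
theorem N88616 : nd 88616 = n191505 := ndS (p := 52932) (l := 6) rfl N52932 D191505
theorem N88617 : nd 88617 = n191506 := ndS (p := 52933) (l := 6) rfl N52933 D191506
theorem N88618 : nd 88618 = n191507 := ndS (p := 52934) (l := 5) rfl N52934 D191507
theorem N88619 : nd 88619 = n191508 := ndS (p := 52935) (l := 6) rfl N52935 D191508
theorem N88620 : nd 88620 = n191509 := ndS (p := 52937) (l := 1) rfl N52937 D191509
theorem N88621 : nd 88621 = n191510 := ndS (p := 52937) (l := 7) rfl N52937 D191510
theorem N88622 : nd 88622 = n191511 := ndS (p := 52939) (l := 0) rfl N52939 D191511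
theorem N88623 : nd 88623 = n191512 := ndS (p := 52939) (l := 1) rfl N52939 D191512
theorem N88624 : nd 88624 = n191513 := ndS (p := 52939) (l := 4) rfl N52939 D191513
theorem N88625 : nd 88625 = n191514 := ndS (p := 52939) (l := 7) rfl N52939 D191514
theorem N88626 : nd 88626 = n191515 := ndS (p := 52941) (l := 1) rfl N52941 D191515
theorem N88627 : nd 88627 = n191516 := ndS (p := 52941) (l := 4) rfl N52941 D191516
theorem N88628 : nd 88628 = n191517 := ndS (p := 52941) (l := 6) rfl N52941 D191517
theorem N88629 : nd 88629 = n191518 := ndS (p := 52942) (l := 5) rfl N52942 D191518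
theorem N88630 : nd 88630 = n191519 := ndS (p := 52943) (l := 4) rfl N52943 D191519
theorem N88631 : nd 88631 = n191520 := ndS (p := 52943) (l := 6) rfl N52943 D191520
theorem N88632 : nd 88632 = n191521 := ndS (p := 52947) (l := 3) rfl N52947 D191521
theorem N88633 : nd 88633 = n191522 := ndS (p := 52947) (l := 5) rfl N52947 D191522
theorem N88634 : nd 88634 = n191523 := ndS (p := 52948) (l := 6) rfl N52948 D191523
theorem N88635 : nd 88635 = n191524 := ndS (p := 52949) (l := 5) rfl N52949 D191524
theorem N88636 : nd 88636 = n191525 := ndS (p := 52950) (l := 5) rfl N52950 D191525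
theorem N88637 : nd 88637 = n191526 := ndS (p := 52951) (l := 0) rfl N52951 D191526
theorem N88638 : nd 88638 = n191527 := ndS (p := 52951) (l := 1) rfl N52951 D191527
theorem N88639 : nd 88639 = n191528 := ndS (p := 52951) (l := 6) rfl N52951 D191528
theorem N88640 : nd 88640 = n191529 := ndS (p := 52952) (l := 5) rfl N52952 D191529
theorem N88641 : nd 88641 = n191530 := ndS (p := 52953) (l := 2) rfl N52953 D191530
theorem N88642 : nd 88642 = n191531 := ndS (p := 52953) (l := 5) rfl N52953 D191531
theorem N88643 : nd 88643 = n191532 := ndS (p := 52954) (l := 0) rfl N52954 D191532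
theorem N88644 : nd 88644 = n191533 := ndS (p := 52954) (l := 4) rfl N52954 D191533
theorem N88645 : nd 88645 = n191534 := ndS (p := 52954) (l := 6) rfl N52954 D191534
theorem N88646 : nd 88646 = n191535 := ndS (p := 52956) (l := 4) rfl N52956 D191535
theorem N88647 : nd 88647 = n191536 := ndS (p := 52956) (l := 6) rfl N52956 D191536
theorem N88648 : nd 88648 = n191537 := ndS (p := 52957) (l := 4) rfl N52957 D191537
theorem N88649 : nd 88649 = n191538 := ndS (p := 52957) (l := 5) rfl N52957 D191538
theorem N88650 : nd 88650 = n191539 := ndS (p := 52958) (l := 0) rfl N52958 D191539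
theorem N88651 : nd 88651 = n191540 := ndS (p := 52958) (l := 1) rfl N52958 D191540
theorem N88652 : nd 88652 = n191541 := ndS (p := 52958) (l := 3) rfl N52958 D191541
theorem N88653 : nd 88653 = n191542 := ndS (p := 52958) (l := 6) rfl N52958 D191542
theorem N88654 : nd 88654 = n191543 := ndS (p := 52959) (l := 0) rfl N52959 D191543
theorem N88655 : nd 88655 = n191544 := ndS (p := 52959) (l := 1) rfl N52959 D191544
theorem N88656 : nd 88656 = n191545 := ndS (p := 52959) (l := 5) rfl N52959 D191545
theorem N88657 : nd 88657 = n191546 := ndS (p := 52959) (l := 7) rfl N52959 D191546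
theorem N88658 : nd 88658 = n191547 := ndS (p := 52963) (l := 5) rfl N52963 D191547
theorem N88659 : nd 88659 = n191548 := ndS (p := 52964) (l := 5) rfl N52964 D191548
theorem N88660 : nd 88660 = n191549 := ndS (p := 52965) (l := 1) rfl N52965 D191549
theorem N88661 : nd 88661 = n191550 := ndS (p := 52965) (l := 4) rfl N52965 D191550
theorem N88662 : nd 88662 = n191551 := ndS (p := 52965) (l := 6) rfl N52965 D191551
theorem N88663 : nd 88663 = n191552 := ndS (p := 52966) (l := 5) rfl N52966 D191552
theorem N88664 : nd 88664 = n191553 := ndS (p := 52967) (l := 4) rfl N52967 D191553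
theorem N88665 : nd 88665 = n191554 := ndS (p := 52969) (l := 5) rfl N52969 D191554
theorem N88666 : nd 88666 = n191555 := ndS (p := 52969) (l := 6) rfl N52969 D191555
theorem N88667 : nd 88667 = n191556 := ndS (p := 52971) (l := 2) rfl N52971 D191556
theorem N88668 : nd 88668 = n191557 := ndS (p := 52971) (l := 5) rfl N52971 D191557
theorem N88669 : nd 88669 = n191558 := ndS (p := 52971) (l := 6) rfl N52971 D191558
theorem N88670 : nd 88670 = n191559 := ndS (p := 52972) (l := 3) rfl N52972 D191559
theorem N88671 : nd 88671 = n191560 := ndS (p := 52972) (l := 6) rfl N52972 D191560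
theorem N88672 : nd 88672 = n191562 := ndS (p := 52974) (l := 1) rfl N52974 D191562
theorem N88673 : nd 88673 = n191563 := ndS (p := 52974) (l := 7) rfl N52974 D191563
theorem N88674 : nd 88674 = n191564 := ndS (p := 52975) (l := 2) rfl N52975 D191564
theorem N88675 : nd 88675 = n191565 := ndS (p := 52975) (l := 4) rfl N52975 D191565
theorem N88676 : nd 88676 = n191566 := ndS (p := 52975) (l := 6) rfl N52975 D191566
theorem N88677 : nd 88677 = n191567 := ndS (p := 52976) (l := 6) rfl N52976 D191567
theorem N88678 : nd 88678 = n191568 := ndS (p := 52977) (l := 1) rfl N52977 D191568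
theorem N88679 : nd 88679 = n191569 := ndS (p := 52977) (l := 7) rfl N52977 D191569
theorem N88680 : nd 88680 = n191570 := ndS (p := 52978) (l := 5) rfl N52978 D191570
theorem N88681 : nd 88681 = n191571 := ndS (p := 52979) (l := 3) rfl N52979 D191571
theorem N88682 : nd 88682 = n191572 := ndS (p := 52979) (l := 5) rfl N52979 D191572
theorem N88683 : nd 88683 = n191573 := ndS (p := 52980) (l := 0) rfl N52980 D191573
theorem N88684 : nd 88684 = n191574 := ndS (p := 52980) (l := 1) rfl N52980 D191574
theorem N88685 : nd 88685 = n191575 := ndS (p := 52981) (l := 5) rfl N52981 D191575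
theorem N88686 : nd 88686 = n191576 := ndS (p := 52982) (l := 4) rfl N52982 D191576
theorem N88687 : nd 88687 = n191578 := ndS (p := 52983) (l := 4) rfl N52983 D191578
theorem N88688 : nd 88688 = n191579 := ndS (p := 52983) (l := 6) rfl N52983 D191579
theorem N88689 : nd 88689 = n191580 := ndS (p := 52985) (l := 4) rfl N52985 D191580
theorem N88690 : nd 88690 = n191581 := ndS (p := 52986) (l := 4) rfl N52986 D191581
theorem N88691 : nd 88691 = n191582 := ndS (p := 52986) (l := 6) rfl N52986 D191582
theorem N88692 : nd 88692 = n191583 := ndS (p := 52987) (l := 0) rfl N52987 D191583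
theorem N88693 : nd 88693 = n191584 := ndS (p := 52987) (l := 3) rfl N52987 D191584
theorem N88694 : nd 88694 = n191585 := ndS (p := 52987) (l := 5) rfl N52987 D191585
theorem N88695 : nd 88695 = n191586 := ndS (p := 52987) (l := 6) rfl N52987 D191586
theorem N88696 : nd 88696 = n191587 := ndS (p := 52988) (l := 0) rfl N52988 D191587
theorem N88697 : nd 88697 = n191588 := ndS (p := 52988) (l := 1) rfl N52988 D191588
theorem N88698 : nd 88698 = n191589 := ndS (p := 52988) (l := 7) rfl N52988 D191589
theorem N88699 : nd 88699 = n191590 := ndS (p := 52989) (l := 5) rfl N52989 D191590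
theorem N88700 : nd 88700 = n191591 := ndS (p := 52990) (l := 4) rfl N52990 D191591
theorem N88701 : nd 88701 = n191592 := ndS (p := 52990) (l := 5) rfl N52990 D191592
theorem N88702 : nd 88702 = n191593 := ndS (p := 52991) (l := 0) rfl N52991 D191593
theorem N88703 : nd 88703 = n191594 := ndS (p := 52991) (l := 1) rfl N52991 D191594
theorem N88704 : nd 88704 = n191595 := ndS (p := 52991) (l := 2) rfl N52991 D191595
theorem N88705 : nd 88705 = n191596 := ndS (p := 52991) (l := 6) rfl N52991 D191596
theorem N88706 : nd 88706 = n191597 := ndS (p := 52992) (l := 7) rfl N52992 D191597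
theorem N88707 : nd 88707 = n191598 := ndS (p := 52993) (l := 3) rfl N52993 D191598
theorem N88708 : nd 88708 = n191599 := ndS (p := 52993) (l := 4) rfl N52993 D191599
theorem N88709 : nd 88709 = n191600 := ndS (p := 52993) (l := 5) rfl N52993 D191600
theorem N88710 : nd 88710 = n191601 := ndS (p := 52994) (l := 5) rfl N52994 D191601
theorem N88711 : nd 88711 = n191602 := ndS (p := 52996) (l := 4) rfl N52996 D191602
theorem N88712 : nd 88712 = n191603 := ndS (p := 52997) (l := 4) rfl N52997 D191603
theorem N88713 : nd 88713 = n191604 := ndS (p := 52997) (l := 6) rfl N52997 D191604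
theorem N88714 : nd 88714 = n191607 := ndS (p := 52999) (l := 3) rfl N52999 D191607
theorem N88715 : nd 88715 = n191608 := ndS (p := 52999) (l := 5) rfl N52999 D191608
theorem N88716 : nd 88716 = n191609 := ndS (p := 52999) (l := 6) rfl N52999 D191609
theorem N88717 : nd 88717 = n191610 := ndS (p := 53000) (l := 0) rfl N53000 D191610
theorem N88718 : nd 88718 = n191611 := ndS (p := 53000) (l := 1) rfl N53000 D191611
theorem N88719 : nd 88719 = n191612 := ndS (p := 53000) (l := 7) rfl N53000 D191612
theorem N88720 : nd 88720 = n191613 := ndS (p := 53002) (l := 5) rfl N53002 D191613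
theorem N88721 : nd 88721 = n191614 := ndS (p := 53003) (l := 0) rfl N53003 D191614
theorem N88722 : nd 88722 = n191615 := ndS (p := 53003) (l := 1) rfl N53003 D191615
theorem N88723 : nd 88723 = n191616 := ndS (p := 53003) (l := 2) rfl N53003 D191616
theorem N88724 : nd 88724 = n191617 := ndS (p := 53003) (l := 6) rfl N53003 D191617
theorem N88725 : nd 88725 = n191618 := ndS (p := 53004) (l := 0) rfl N53004 D191618
theorem N88726 : nd 88726 = n191619 := ndS (p := 53004) (l := 1) rfl N53004 D191619
theorem N88727 : nd 88727 = n191620 := ndS (p := 53004) (l := 5) rfl N53004 D191620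
theorem N88728 : nd 88728 = n191621 := ndS (p := 53004) (l := 7) rfl N53004 D191621
theorem N88729 : nd 88729 = n191624 := ndS (p := 53005) (l := 5) rfl N53005 D191624
theorem N88730 : nd 88730 = n191625 := ndS (p := 53005) (l := 6) rfl N53005 D191625
theorem N88731 : nd 88731 = n191626 := ndS (p := 53006) (l := 3) rfl N53006 D191626
theorem N88732 : nd 88732 = n191628 := ndS (p := 53007) (l := 0) rfl N53007 D191628
theorem N88733 : nd 88733 = n191629 := ndS (p := 53007) (l := 1) rfl N53007 D191629
theorem N88734 : nd 88734 = n191630 := ndS (p := 53007) (l := 4) rfl N53007 D191630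
theorem N88735 : nd 88735 = n191631 := ndS (p := 53007) (l := 7) rfl N53007 D191631
theorem N88736 : nd 88736 = n191632 := ndS (p := 53010) (l := 4) rfl N53010 D191632
theorem N88737 : nd 88737 = n191633 := ndS (p := 53010) (l := 6) rfl N53010 D191633
theorem N88738 : nd 88738 = n191634 := ndS (p := 53011) (l := 3) rfl N53011 D191634
theorem N88739 : nd 88739 = n191635 := ndS (p := 53011) (l := 6) rfl N53011 D191635
theorem N88740 : nd 88740 = n191636 := ndS (p := 53013) (l := 0) rfl N53013 D191636
theorem N88741 : nd 88741 = n191638 := ndS (p := 53013) (l := 5) rfl N53013 D191638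
theorem N88742 : nd 88742 = n191639 := ndS (p := 53013) (l := 7) rfl N53013 D191639
theorem N88743 : nd 88743 = n191640 := ndS (p := 53014) (l := 0) rfl N53014 D191640
theorem N88744 : nd 88744 = n191641 := ndS (p := 53014) (l := 1) rfl N53014 D191641
theorem N88745 : nd 88745 = n191642 := ndS (p := 53014) (l := 2) rfl N53014 D191642
theorem N88746 : nd 88746 = n191643 := ndS (p := 53014) (l := 6) rfl N53014 D191643
theorem N88747 : nd 88747 = n191644 := ndS (p := 53015) (l := 0) rfl N53015 D191644
theorem N88748 : nd 88748 = n191645 := ndS (p := 53015) (l := 1) rfl N53015 D191645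
theorem N88749 : nd 88749 = n191646 := ndS (p := 53015) (l := 5) rfl N53015 D191646
theorem N88750 : nd 88750 = n191647 := ndS (p := 53015) (l := 7) rfl N53015 D191647
theorem N88751 : nd 88751 = n191648 := ndS (p := 53016) (l := 3) rfl N53016 D191648
theorem N88752 : nd 88752 = n191649 := ndS (p := 53016) (l := 4) rfl N53016 D191649
theorem N88753 : nd 88753 = n191650 := ndS (p := 53016) (l := 5) rfl N53016 D191650
theorem N88754 : nd 88754 = n191651 := ndS (p := 53017) (l := 5) rfl N53017 D191651
theorem N88755 : nd 88755 = n191652 := ndS (p := 53018) (l := 1) rfl N53018 D191652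
theorem N88756 : nd 88756 = n191653 := ndS (p := 53018) (l := 4) rfl N53018 D191653
theorem N88757 : nd 88757 = n191654 := ndS (p := 53018) (l := 7) rfl N53018 D191654
theorem N88758 : nd 88758 = n191655 := ndS (p := 53020) (l := 0) rfl N53020 D191655
theorem N88759 : nd 88759 = n191656 := ndS (p := 53020) (l := 1) rfl N53020 D191656
theorem N88760 : nd 88760 = n191657 := ndS (p := 53020) (l := 3) rfl N53020 D191657
theorem N88761 : nd 88761 = n191658 := ndS (p := 53020) (l := 5) rfl N53020 D191658
theorem N88762 : nd 88762 = n191659 := ndS (p := 53020) (l := 6) rfl N53020 D191659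
theorem N88763 : nd 88763 = n191660 := ndS (p := 53021) (l := 0) rfl N53021 D191660
theorem N88764 : nd 88764 = n191661 := ndS (p := 53021) (l := 5) rfl N53021 D191661
theorem N88765 : nd 88765 = n191662 := ndS (p := 53021) (l := 7) rfl N53021 D191662
theorem N88766 : nd 88766 = n191663 := ndS (p := 53022) (l := 0) rfl N53022 D191663
theorem N88767 : nd 88767 = n191664 := ndS (p := 53022) (l := 2) rfl N53022 D191664
theorem N88768 : nd 88768 = n191665 := ndS (p := 53022) (l := 6) rfl N53022 D191665
theorem N88769 : nd 88769 = n191666 := ndS (p := 53023) (l := 0) rfl N53023 D191666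
theorem N88770 : nd 88770 = n191667 := ndS (p := 53023) (l := 1) rfl N53023 D191667
theorem N88771 : nd 88771 = n191668 := ndS (p := 53023) (l := 5) rfl N53023 D191668
theorem N88772 : nd 88772 = n191669 := ndS (p := 53023) (l := 7) rfl N53023 D191669
theorem N88773 : nd 88773 = n191670 := ndS (p := 53024) (l := 5) rfl N53024 D191670
theorem N88774 : nd 88774 = n191671 := ndS (p := 53025) (l := 4) rfl N53025 D191671
theorem N88775 : nd 88775 = n191672 := ndS (p := 53027) (l := 0) rfl N53027 D191672
theorem N88776 : nd 88776 = n191674 := ndS (p := 53027) (l := 2) rfl N53027 D191674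
theorem N88777 : nd 88777 = n191675 := ndS (p := 53029) (l := 0) rfl N53029 D191675
theorem N88778 : nd 88778 = n191676 := ndS (p := 53029) (l := 1) rfl N53029 D191676
theorem N88779 : nd 88779 = n191677 := ndS (p := 53032) (l := 5) rfl N53032 D191677
theorem N88780 : nd 88780 = n191678 := ndS (p := 53035) (l := 3) rfl N53035 D191678
theorem N88781 : nd 88781 = n191679 := ndS (p := 53035) (l := 4) rfl N53035 D191679
theorem N88782 : nd 88782 = n191680 := ndS (p := 53036) (l := 3) rfl N53036 D191680
theorem N88783 : nd 88783 = n191681 := ndS (p := 53036) (l := 4) rfl N53036 D191681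
theorem N88784 : nd 88784 = n191682 := ndS (p := 53036) (l := 6) rfl N53036 D191682
theorem N88785 : nd 88785 = n191683 := ndS (p := 53037) (l := 1) rfl N53037 D191683
theorem N88786 : nd 88786 = n191684 := ndS (p := 53037) (l := 5) rfl N53037 D191684
theorem N88787 : nd 88787 = n191685 := ndS (p := 53038) (l := 0) rfl N53038 D191685
theorem N88788 : nd 88788 = n191686 := ndS (p := 53038) (l := 1) rfl N53038 D191686
theorem N88789 : nd 88789 = n191687 := ndS (p := 53039) (l := 4) rfl N53039 D191687
theorem N88790 : nd 88790 = n191688 := ndS (p := 53040) (l := 4) rfl N53040 D191688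
theorem N88791 : nd 88791 = n191689 := ndS (p := 53041) (l := 0) rfl N53041 D191689
theorem N88792 : nd 88792 = n191690 := ndS (p := 53041) (l := 1) rfl N53041 D191690
theorem N88793 : nd 88793 = n191691 := ndS (p := 53043) (l := 3) rfl N53043 D191691
theorem N88794 : nd 88794 = n191692 := ndS (p := 53043) (l := 4) rfl N53043 D191692
theorem N88795 : nd 88795 = n191693 := ndS (p := 53043) (l := 5) rfl N53043 D191693
theorem N88796 : nd 88796 = n191694 := ndS (p := 53043) (l := 6) rfl N53043 D191694
theorem N88797 : nd 88797 = n191695 := ndS (p := 53044) (l := 3) rfl N53044 D191695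
theorem N88798 : nd 88798 = n191696 := ndS (p := 53044) (l := 4) rfl N53044 D191696
theorem N88799 : nd 88799 = n191697 := ndS (p := 53044) (l := 6) rfl N53044 D191697
theorem N88800 : nd 88800 = n191698 := ndS (p := 53046) (l := 2) rfl N53046 D191698
theorem N88801 : nd 88801 = n191699 := ndS (p := 53047) (l := 4) rfl N53047 D191699
theorem N88802 : nd 88802 = n191700 := ndS (p := 53047) (l := 6) rfl N53047 D191700
theorem N88803 : nd 88803 = n191701 := ndS (p := 53048) (l := 0) rfl N53048 D191701
theorem N88804 : nd 88804 = n191702 := ndS (p := 53048) (l := 7) rfl N53048 D191702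
theorem N88805 : nd 88805 = n191703 := ndS (p := 53049) (l := 5) rfl N53049 D191703
theorem N88806 : nd 88806 = n191704 := ndS (p := 53050) (l := 5) rfl N53050 D191704
theorem N88807 : nd 88807 = n191705 := ndS (p := 53051) (l := 4) rfl N53051 D191705
theorem N88808 : nd 88808 = n191706 := ndS (p := 53051) (l := 6) rfl N53051 D191706
theorem N88809 : nd 88809 = n191707 := ndS (p := 53053) (l := 5) rfl N53053 D191707
theorem N88810 : nd 88810 = n191708 := ndS (p := 53053) (l := 6) rfl N53053 D191708
theorem N88811 : nd 88811 = n191709 := ndS (p := 53054) (l := 6) rfl N53054 D191709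
theorem N88812 : nd 88812 = n191710 := ndS (p := 53057) (l := 4) rfl N53057 D191710
theorem N88813 : nd 88813 = n191711 := ndS (p := 53057) (l := 6) rfl N53057 D191711
theorem N88814 : nd 88814 = n191712 := ndS (p := 53058) (l := 3) rfl N53058 D191712
theorem N88815 : nd 88815 = n191713 := ndS (p := 53058) (l := 5) rfl N53058 D191713
theorem N88816 : nd 88816 = n191714 := ndS (p := 53059) (l := 6) rfl N53059 D191714
theorem N88817 : nd 88817 = n191715 := ndS (p := 53060) (l := 3) rfl N53060 D191715
theorem N88818 : nd 88818 = n191716 := ndS (p := 53060) (l := 5) rfl N53060 D191716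
theorem N88819 : nd 88819 = n191717 := ndS (p := 53061) (l := 0) rfl N53061 D191717
theorem N88820 : nd 88820 = n191718 := ndS (p := 53061) (l := 1) rfl N53061 D191718
theorem N88821 : nd 88821 = n191719 := ndS (p := 53061) (l := 2) rfl N53061 D191719
theorem N88822 : nd 88822 = n191720 := ndS (p := 53067) (l := 6) rfl N53067 D191720
theorem N88823 : nd 88823 = n191721 := ndS (p := 53068) (l := 5) rfl N53068 D191721
theorem N88824 : nd 88824 = n191722 := ndS (p := 53069) (l := 5) rfl N53069 D191722
theorem N88825 : nd 88825 = n191723 := ndS (p := 53070) (l := 5) rfl N53070 D191723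
theorem N88826 : nd 88826 = n191724 := ndS (p := 53071) (l := 0) rfl N53071 D191724
theorem N88827 : nd 88827 = n191725 := ndS (p := 53071) (l := 1) rfl N53071 D191725
theorem N88828 : nd 88828 = n191726 := ndS (p := 53071) (l := 4) rfl N53071 D191726
theorem N88829 : nd 88829 = n191727 := ndS (p := 53071) (l := 7) rfl N53071 D191727
theorem N88830 : nd 88830 = n191728 := ndS (p := 53073) (l := 5) rfl N53073 D191728
theorem N88831 : nd 88831 = n191729 := ndS (p := 53075) (l := 4) rfl N53075 D191729
theorem N88832 : nd 88832 = n191730 := ndS (p := 53075) (l := 6) rfl N53075 D191730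
theorem N88833 : nd 88833 = n191731 := ndS (p := 53076) (l := 4) rfl N53076 D191731
theorem N88834 : nd 88834 = n191732 := ndS (p := 53076) (l := 6) rfl N53076 D191732
theorem N88835 : nd 88835 = n191733 := ndS (p := 53077) (l := 0) rfl N53077 D191733
theorem N88836 : nd 88836 = n191734 := ndS (p := 53077) (l := 1) rfl N53077 D191734
theorem N88837 : nd 88837 = n191735 := ndS (p := 53077) (l := 3) rfl N53077 D191735
theorem N88838 : nd 88838 = n191736 := ndS (p := 53077) (l := 5) rfl N53077 D191736
theorem N88839 : nd 88839 = n191737 := ndS (p := 53077) (l := 7) rfl N53077 D191737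
theorem N88840 : nd 88840 = n191738 := ndS (p := 53078) (l := 6) rfl N53078 D191738
theorem N88841 : nd 88841 = n191739 := ndS (p := 53079) (l := 3) rfl N53079 D191739
theorem N88842 : nd 88842 = n191740 := ndS (p := 53079) (l := 5) rfl N53079 D191740
theorem N88843 : nd 88843 = n191741 := ndS (p := 53081) (l := 0) rfl N53081 D191741
theorem N88844 : nd 88844 = n191742 := ndS (p := 53081) (l := 1) rfl N53081 D191742
theorem N88845 : nd 88845 = n191743 := ndS (p := 53081) (l := 7) rfl N53081 D191743
theorem N88846 : nd 88846 = n191744 := ndS (p := 53082) (l := 4) rfl N53082 D191744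
theorem N88847 : nd 88847 = n191745 := ndS (p := 53082) (l := 7) rfl N53082 D191745
theorem N88848 : nd 88848 = n191746 := ndS (p := 53084) (l := 4) rfl N53084 D191746
theorem N88849 : nd 88849 = n191747 := ndS (p := 53084) (l := 5) rfl N53084 D191747
theorem N88850 : nd 88850 = n191748 := ndS (p := 53085) (l := 4) rfl N53085 D191748
theorem N88851 : nd 88851 = n191749 := ndS (p := 53085) (l := 7) rfl N53085 D191749
theorem N88852 : nd 88852 = n191750 := ndS (p := 53087) (l := 4) rfl N53087 D191750
theorem N88853 : nd 88853 = n191751 := ndS (p := 53087) (l := 5) rfl N53087 D191751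
theorem N88854 : nd 88854 = n191752 := ndS (p := 53088) (l := 5) rfl N53088 D191752
theorem N88855 : nd 88855 = n191753 := ndS (p := 53089) (l := 4) rfl N53089 D191753
theorem N88856 : nd 88856 = n191754 := ndS (p := 53089) (l := 6) rfl N53089 D191754
theorem N88857 : nd 88857 = n191755 := ndS (p := 53090) (l := 5) rfl N53090 D191755
theorem N88858 : nd 88858 = n191756 := ndS (p := 53090) (l := 6) rfl N53090 D191756
theorem N88859 : nd 88859 = n191757 := ndS (p := 53091) (l := 4) rfl N53091 D191757
theorem N88860 : nd 88860 = n191758 := ndS (p := 53091) (l := 6) rfl N53091 D191758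
theorem N88861 : nd 88861 = n191759 := ndS (p := 53092) (l := 5) rfl N53092 D191759
theorem N88862 : nd 88862 = n191760 := ndS (p := 53093) (l := 3) rfl N53093 D191760
theorem N88863 : nd 88863 = n191761 := ndS (p := 53093) (l := 4) rfl N53093 D191761
theorem N88864 : nd 88864 = n191762 := ndS (p := 53093) (l := 6) rfl N53093 D191762
theorem N88865 : nd 88865 = n191763 := ndS (p := 53094) (l := 4) rfl N53094 D191763
theorem N88866 : nd 88866 = n191764 := ndS (p := 53094) (l := 6) rfl N53094 D191764
theorem N88867 : nd 88867 = n191765 := ndS (p := 53095) (l := 7) rfl N53095 D191765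
theorem N88868 : nd 88868 = n191766 := ndS (p := 53097) (l := 6) rfl N53097 D191766
theorem N88869 : nd 88869 = n191767 := ndS (p := 53098) (l := 1) rfl N53098 D191767
theorem N88870 : nd 88870 = n191768 := ndS (p := 53099) (l := 0) rfl N53099 D191768
theorem N88871 : nd 88871 = n191769 := ndS (p := 53099) (l := 1) rfl N53099 D191769
theorem N88872 : nd 88872 = n191770 := ndS (p := 53099) (l := 3) rfl N53099 D191770
theorem N88873 : nd 88873 = n191771 := ndS (p := 53099) (l := 5) rfl N53099 D191771
theorem N88874 : nd 88874 = n191772 := ndS (p := 53099) (l := 6) rfl N53099 D191772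
theorem N88875 : nd 88875 = n191773 := ndS (p := 53100) (l := 1) rfl N53100 D191773
theorem N88876 : nd 88876 = n191774 := ndS (p := 53100) (l := 7) rfl N53100 D191774
theorem N88877 : nd 88877 = n191775 := ndS (p := 53101) (l := 3) rfl N53101 D191775
theorem N88878 : nd 88878 = n191776 := ndS (p := 53101) (l := 5) rfl N53101 D191776
theorem N88879 : nd 88879 = n191777 := ndS (p := 53101) (l := 6) rfl N53101 D191777
theorem N88880 : nd 88880 = n191779 := ndS (p := 53102) (l := 7) rfl N53102 D191779
theorem N88881 : nd 88881 = n191780 := ndS (p := 53103) (l := 6) rfl N53103 D191780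
theorem N88882 : nd 88882 = n191781 := ndS (p := 53104) (l := 0) rfl N53104 D191781
theorem N88883 : nd 88883 = n191782 := ndS (p := 53104) (l := 1) rfl N53104 D191782
theorem N88884 : nd 88884 = n191783 := ndS (p := 53104) (l := 3) rfl N53104 D191783
theorem N88885 : nd 88885 = n191784 := ndS (p := 53104) (l := 5) rfl N53104 D191784
theorem N88886 : nd 88886 = n191785 := ndS (p := 53104) (l := 6) rfl N53104 D191785
theorem N88887 : nd 88887 = n191786 := ndS (p := 53105) (l := 0) rfl N53105 D191786
theorem N88888 : nd 88888 = n191787 := ndS (p := 53105) (l := 1) rfl N53105 D191787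
theorem N88889 : nd 88889 = n191788 := ndS (p := 53106) (l := 3) rfl N53106 D191788
theorem N88890 : nd 88890 = n191789 := ndS (p := 53106) (l := 5) rfl N53106 D191789
theorem N88891 : nd 88891 = n191790 := ndS (p := 53107) (l := 7) rfl N53107 D191790
theorem N88892 : nd 88892 = n191791 := ndS (p := 53108) (l := 4) rfl N53108 D191791
theorem N88893 : nd 88893 = n191792 := ndS (p := 53108) (l := 5) rfl N53108 D191792
theorem N88894 : nd 88894 = n191793 := ndS (p := 53108) (l := 6) rfl N53108 D191793
theorem N88895 : nd 88895 = n191794 := ndS (p := 53110) (l := 1) rfl N53110 D191794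
theorem N88896 : nd 88896 = n191795 := ndS (p := 53110) (l := 4) rfl N53110 D191795
theorem N88897 : nd 88897 = n191796 := ndS (p := 53110) (l := 6) rfl N53110 D191796
theorem N88898 : nd 88898 = n191797 := ndS (p := 53111) (l := 5) rfl N53111 D191797
theorem N88899 : nd 88899 = n191798 := ndS (p := 53112) (l := 5) rfl N53112 D191798
theorem N88900 : nd 88900 = n191799 := ndS (p := 53113) (l := 0) rfl N53113 D191799
theorem N88901 : nd 88901 = n191800 := ndS (p := 53113) (l := 4) rfl N53113 D191800
theorem N88902 : nd 88902 = n191801 := ndS (p := 53113) (l := 6) rfl N53113 D191801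
theorem N88903 : nd 88903 = n191802 := ndS (p := 53114) (l := 4) rfl N53114 D191802
theorem N88904 : nd 88904 = n191803 := ndS (p := 53117) (l := 0) rfl N53117 D191803
theorem N88905 : nd 88905 = n191804 := ndS (p := 53117) (l := 1) rfl N53117 D191804
theorem N88906 : nd 88906 = n191805 := ndS (p := 53117) (l := 5) rfl N53117 D191805
theorem N88907 : nd 88907 = n191806 := ndS (p := 53120) (l := 5) rfl N53120 D191806
theorem N88908 : nd 88908 = n191807 := ndS (p := 53121) (l := 6) rfl N53121 D191807
theorem N88909 : nd 88909 = n191808 := ndS (p := 53123) (l := 4) rfl N53123 D191808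
theorem N88910 : nd 88910 = n191809 := ndS (p := 53124) (l := 1) rfl N53124 D191809
theorem N88911 : nd 88911 = n191810 := ndS (p := 53124) (l := 5) rfl N53124 D191810
theorem N88912 : nd 88912 = n191811 := ndS (p := 53125) (l := 5) rfl N53125 D191811
theorem N88913 : nd 88913 = n191812 := ndS (p := 53125) (l := 6) rfl N53125 D191812
theorem N88914 : nd 88914 = n191813 := ndS (p := 53126) (l := 4) rfl N53126 D191813
theorem N88915 : nd 88915 = n191814 := ndS (p := 53126) (l := 6) rfl N53126 D191814
theorem N88916 : nd 88916 = n191815 := ndS (p := 53127) (l := 5) rfl N53127 D191815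
theorem N88917 : nd 88917 = n191816 := ndS (p := 53128) (l := 3) rfl N53128 D191816
theorem N88918 : nd 88918 = n191817 := ndS (p := 53130) (l := 4) rfl N53130 D191817
theorem N88919 : nd 88919 = n191818 := ndS (p := 53130) (l := 7) rfl N53130 D191818
theorem N88920 : nd 88920 = n191820 := ndS (p := 53132) (l := 2) rfl N53132 D191820
theorem N88921 : nd 88921 = n191821 := ndS (p := 53132) (l := 4) rfl N53132 D191821
theorem N88922 : nd 88922 = n191822 := ndS (p := 53132) (l := 5) rfl N53132 D191822
theorem N88923 : nd 88923 = n191823 := ndS (p := 53132) (l := 6) rfl N53132 D191823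
theorem N88924 : nd 88924 = n191824 := ndS (p := 53134) (l := 0) rfl N53134 D191824
theorem N88925 : nd 88925 = n191825 := ndS (p := 53134) (l := 1) rfl N53134 D191825
theorem N88926 : nd 88926 = n191826 := ndS (p := 53134) (l := 7) rfl N53134 D191826
theorem N88927 : nd 88927 = n191827 := ndS (p := 53135) (l := 4) rfl N53135 D191827
theorem N88928 : nd 88928 = n191828 := ndS (p := 53135) (l := 6) rfl N53135 D191828
theorem N88929 : nd 88929 = n191829 := ndS (p := 53136) (l := 0) rfl N53136 D191829
theorem N88930 : nd 88930 = n191830 := ndS (p := 53136) (l := 1) rfl N53136 D191830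
theorem N88931 : nd 88931 = n191831 := ndS (p := 53136) (l := 7) rfl N53136 D191831
theorem N88932 : nd 88932 = n191832 := ndS (p := 53137) (l := 4) rfl N53137 D191832
theorem N88933 : nd 88933 = n191833 := ndS (p := 53137) (l := 6) rfl N53137 D191833
theorem N88934 : nd 88934 = n191834 := ndS (p := 53139) (l := 3) rfl N53139 D191834
theorem N88935 : nd 88935 = n191835 := ndS (p := 53139) (l := 4) rfl N53139 D191835
theorem N88936 : nd 88936 = n191836 := ndS (p := 53139) (l := 6) rfl N53139 D191836
theorem N88937 : nd 88937 = n191837 := ndS (p := 53140) (l := 0) rfl N53140 D191837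
theorem N88938 : nd 88938 = n191838 := ndS (p := 53140) (l := 1) rfl N53140 D191838
theorem N88939 : nd 88939 = n191839 := ndS (p := 53140) (l := 5) rfl N53140 D191839
theorem N88940 : nd 88940 = n191840 := ndS (p := 53140) (l := 6) rfl N53140 D191840
theorem N88941 : nd 88941 = n191841 := ndS (p := 53141) (l := 0) rfl N53141 D191841
theorem N88942 : nd 88942 = n191842 := ndS (p := 53141) (l := 1) rfl N53141 D191842
theorem N88943 : nd 88943 = n191843 := ndS (p := 53141) (l := 7) rfl N53141 D191843
theorem N88944 : nd 88944 = n191844 := ndS (p := 53142) (l := 3) rfl N53142 D191844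
theorem N88945 : nd 88945 = n191845 := ndS (p := 53142) (l := 5) rfl N53142 D191845
theorem N88946 : nd 88946 = n191846 := ndS (p := 53144) (l := 5) rfl N53144 D191846
theorem N88947 : nd 88947 = n191847 := ndS (p := 53146) (l := 5) rfl N53146 D191847
theorem N88948 : nd 88948 = n191848 := ndS (p := 53147) (l := 4) rfl N53147 D191848
theorem N88949 : nd 88949 = n191849 := ndS (p := 53147) (l := 6) rfl N53147 D191849
theorem N88950 : nd 88950 = n191850 := ndS (p := 53148) (l := 4) rfl N53148 D191850
theorem N88951 : nd 88951 = n191851 := ndS (p := 53148) (l := 6) rfl N53148 D191851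
theorem N88952 : nd 88952 = n191852 := ndS (p := 53150) (l := 4) rfl N53150 D191852
theorem N88953 : nd 88953 = n191853 := ndS (p := 53150) (l := 6) rfl N53150 D191853
theorem N88954 : nd 88954 = n191854 := ndS (p := 53151) (l := 4) rfl N53151 D191854
theorem N88955 : nd 88955 = n191855 := ndS (p := 53151) (l := 6) rfl N53151 D191855
theorem N88956 : nd 88956 = n191856 := ndS (p := 53152) (l := 0) rfl N53152 D191856
theorem N88957 : nd 88957 = n191857 := ndS (p := 53152) (l := 5) rfl N53152 D191857
theorem N88958 : nd 88958 = n191858 := ndS (p := 53152) (l := 6) rfl N53152 D191858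
theorem N88959 : nd 88959 = n191859 := ndS (p := 53153) (l := 0) rfl N53153 D191859
theorem N88960 : nd 88960 = n191860 := ndS (p := 53153) (l := 1) rfl N53153 D191860
theorem N88961 : nd 88961 = n191861 := ndS (p := 53153) (l := 7) rfl N53153 D191861
theorem N88962 : nd 88962 = n191862 := ndS (p := 53154) (l := 3) rfl N53154 D191862
theorem N88963 : nd 88963 = n191863 := ndS (p := 53154) (l := 4) rfl N53154 D191863
theorem N88964 : nd 88964 = n191864 := ndS (p := 53157) (l := 4) rfl N53157 D191864
theorem N88965 : nd 88965 = n191865 := ndS (p := 53158) (l := 0) rfl N53158 D191865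
theorem N88966 : nd 88966 = n191866 := ndS (p := 53158) (l := 1) rfl N53158 D191866
theorem N88967 : nd 88967 = n191867 := ndS (p := 53158) (l := 5) rfl N53158 D191867
theorem N88968 : nd 88968 = n191868 := ndS (p := 53159) (l := 3) rfl N53159 D191868
theorem N88969 : nd 88969 = n191869 := ndS (p := 53160) (l := 6) rfl N53160 D191869
theorem N88970 : nd 88970 = n191870 := ndS (p := 53162) (l := 4) rfl N53162 D191870
theorem N88971 : nd 88971 = n191871 := ndS (p := 53162) (l := 6) rfl N53162 D191871
theorem N88972 : nd 88972 = n191872 := ndS (p := 53163) (l := 0) rfl N53163 D191872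
theorem N88973 : nd 88973 = n191873 := ndS (p := 53163) (l := 5) rfl N53163 D191873
theorem N88974 : nd 88974 = n191874 := ndS (p := 53163) (l := 6) rfl N53163 D191874
theorem N88975 : nd 88975 = n191875 := ndS (p := 53164) (l := 0) rfl N53164 D191875
theorem N88976 : nd 88976 = n191876 := ndS (p := 53164) (l := 1) rfl N53164 D191876
theorem N88977 : nd 88977 = n191877 := ndS (p := 53164) (l := 7) rfl N53164 D191877
theorem N88978 : nd 88978 = n191878 := ndS (p := 53165) (l := 5) rfl N53165 D191878
theorem N88979 : nd 88979 = n191879 := ndS (p := 53165) (l := 6) rfl N53165 D191879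
theorem N88980 : nd 88980 = n191880 := ndS (p := 53166) (l := 5) rfl N53166 D191880
theorem N88981 : nd 88981 = n191882 := ndS (p := 53167) (l := 0) rfl N53167 D191882
theorem N88982 : nd 88982 = n191883 := ndS (p := 53167) (l := 1) rfl N53167 D191883
theorem N88983 : nd 88983 = n191884 := ndS (p := 53167) (l := 4) rfl N53167 D191884
theorem N88984 : nd 88984 = n191885 := ndS (p := 53167) (l := 7) rfl N53167 D191885
theorem N88985 : nd 88985 = n191886 := ndS (p := 53170) (l := 5) rfl N53170 D191886
theorem N88986 : nd 88986 = n191887 := ndS (p := 53171) (l := 3) rfl N53171 D191887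
theorem N88987 : nd 88987 = n191888 := ndS (p := 53171) (l := 4) rfl N53171 D191888
theorem N88988 : nd 88988 = n191889 := ndS (p := 53172) (l := 3) rfl N53172 D191889
theorem N88989 : nd 88989 = n191890 := ndS (p := 53172) (l := 4) rfl N53172 D191890
theorem N88990 : nd 88990 = n191891 := ndS (p := 53174) (l := 4) rfl N53174 D191891
theorem N88991 : nd 88991 = n191892 := ndS (p := 53177) (l := 0) rfl N53177 D191892
theorem N88992 : nd 88992 = n191893 := ndS (p := 53177) (l := 7) rfl N53177 D191893
theorem N88993 : nd 88993 = n191894 := ndS (p := 53178) (l := 4) rfl N53178 D191894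
theorem N88994 : nd 88994 = n191895 := ndS (p := 53178) (l := 5) rfl N53178 D191895
theorem N88995 : nd 88995 = n191896 := ndS (p := 53178) (l := 6) rfl N53178 D191896
theorem N88996 : nd 88996 = n191897 := ndS (p := 53179) (l := 4) rfl N53179 D191897
theorem N88997 : nd 88997 = n191898 := ndS (p := 53179) (l := 6) rfl N53179 D191898
theorem N88998 : nd 88998 = n191899 := ndS (p := 53183) (l := 5) rfl N53183 D191899
theorem N88999 : nd 88999 = n191900 := ndS (p := 53183) (l := 6) rfl N53183 D191900
theorem N89000 : nd 89000 = n191901 := ndS (p := 53184) (l := 1) rfl N53184 D191901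
theorem N89001 : nd 89001 = n191902 := ndS (p := 53184) (l := 4) rfl N53184 D191902
theorem N89002 : nd 89002 = n191903 := ndS (p := 53184) (l := 6) rfl N53184 D191903
theorem N89003 : nd 89003 = n191904 := ndS (p := 53186) (l := 1) rfl N53186 D191904
theorem N89004 : nd 89004 = n191905 := ndS (p := 53186) (l := 2) rfl N53186 D191905
theorem N89005 : nd 89005 = n191906 := ndS (p := 53186) (l := 4) rfl N53186 D191906
theorem N89006 : nd 89006 = n191907 := ndS (p := 53186) (l := 5) rfl N53186 D191907
theorem N89007 : nd 89007 = n191908 := ndS (p := 53186) (l := 6) rfl N53186 D191908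
theorem N89008 : nd 89008 = n191909 := ndS (p := 53187) (l := 4) rfl N53187 D191909
theorem N89009 : nd 89009 = n191910 := ndS (p := 53187) (l := 6) rfl N53187 D191910
theorem N89010 : nd 89010 = n191911 := ndS (p := 53188) (l := 5) rfl N53188 D191911
theorem N89011 : nd 89011 = n191912 := ndS (p := 53188) (l := 7) rfl N53188 D191912
theorem N89012 : nd 89012 = n191913 := ndS (p := 53189) (l := 3) rfl N53189 D191913
theorem N89013 : nd 89013 = n191914 := ndS (p := 53190) (l := 5) rfl N53190 D191914
theorem N89014 : nd 89014 = n191915 := ndS (p := 53192) (l := 4) rfl N53192 D191915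
theorem N89015 : nd 89015 = n191916 := ndS (p := 53193) (l := 3) rfl N53193 D191916
theorem N89016 : nd 89016 = n191917 := ndS (p := 53194) (l := 4) rfl N53194 D191917
theorem N89017 : nd 89017 = n191918 := ndS (p := 53194) (l := 6) rfl N53194 D191918
theorem N89018 : nd 89018 = n191919 := ndS (p := 53195) (l := 0) rfl N53195 D191919
theorem N89019 : nd 89019 = n191920 := ndS (p := 53195) (l := 1) rfl N53195 D191920
theorem N89020 : nd 89020 = n191921 := ndS (p := 53195) (l := 7) rfl N53195 D191921
theorem N89021 : nd 89021 = n191922 := ndS (p := 53196) (l := 2) rfl N53196 D191922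
theorem N89022 : nd 89022 = n191923 := ndS (p := 53196) (l := 4) rfl N53196 D191923
theorem N89023 : nd 89023 = n191924 := ndS (p := 53196) (l := 6) rfl N53196 D191924
theorem N89024 : nd 89024 = n191925 := ndS (p := 53197) (l := 0) rfl N53197 D191925
theorem N89025 : nd 89025 = n191926 := ndS (p := 53197) (l := 7) rfl N53197 D191926
theorem N89026 : nd 89026 = n191927 := ndS (p := 53198) (l := 4) rfl N53198 D191927
theorem N89027 : nd 89027 = n191928 := ndS (p := 53198) (l := 6) rfl N53198 D191928
theorem N89028 : nd 89028 = n191929 := ndS (p := 53199) (l := 3) rfl N53199 D191929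
theorem N89029 : nd 89029 = n191930 := ndS (p := 53199) (l := 6) rfl N53199 D191930
theorem N89030 : nd 89030 = n191931 := ndS (p := 53200) (l := 0) rfl N53200 D191931
theorem N89031 : nd 89031 = n191932 := ndS (p := 53200) (l := 1) rfl N53200 D191932
theorem N89032 : nd 89032 = n191933 := ndS (p := 53200) (l := 7) rfl N53200 D191933
theorem N89033 : nd 89033 = n191934 := ndS (p := 53202) (l := 4) rfl N53202 D191934
theorem N89034 : nd 89034 = n191935 := ndS (p := 53202) (l := 6) rfl N53202 D191935
theorem N89035 : nd 89035 = n191936 := ndS (p := 53203) (l := 5) rfl N53203 D191936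
theorem N89036 : nd 89036 = n191937 := ndS (p := 53204) (l := 4) rfl N53204 D191937
theorem N89037 : nd 89037 = n191938 := ndS (p := 53204) (l := 6) rfl N53204 D191938
theorem N89038 : nd 89038 = n191939 := ndS (p := 53205) (l := 3) rfl N53205 D191939
theorem N89039 : nd 89039 = n191940 := ndS (p := 53206) (l := 0) rfl N53206 D191940
theorem N89040 : nd 89040 = n191941 := ndS (p := 53206) (l := 2) rfl N53206 D191941
theorem N89041 : nd 89041 = n191942 := ndS (p := 53206) (l := 5) rfl N53206 D191942
theorem N89042 : nd 89042 = n191943 := ndS (p := 53206) (l := 6) rfl N53206 D191943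
theorem N89043 : nd 89043 = n191944 := ndS (p := 53207) (l := 0) rfl N53207 D191944
theorem N89044 : nd 89044 = n191945 := ndS (p := 53207) (l := 4) rfl N53207 D191945
theorem N89045 : nd 89045 = n191946 := ndS (p := 53207) (l := 6) rfl N53207 D191946
theorem N89046 : nd 89046 = n191947 := ndS (p := 53209) (l := 4) rfl N53209 D191947
theorem N89047 : nd 89047 = n191948 := ndS (p := 53210) (l := 5) rfl N53210 D191948
theorem N89048 : nd 89048 = n191949 := ndS (p := 53211) (l := 6) rfl N53211 D191949
theorem N89049 : nd 89049 = n191950 := ndS (p := 53212) (l := 0) rfl N53212 D191950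
theorem N89050 : nd 89050 = n191951 := ndS (p := 53212) (l := 1) rfl N53212 D191951
theorem N89051 : nd 89051 = n191952 := ndS (p := 53212) (l := 7) rfl N53212 D191952
theorem N89052 : nd 89052 = n191953 := ndS (p := 53214) (l := 5) rfl N53214 D191953
theorem N89053 : nd 89053 = n191954 := ndS (p := 53215) (l := 5) rfl N53215 D191954
theorem N89054 : nd 89054 = n191955 := ndS (p := 53219) (l := 6) rfl N53219 D191955
theorem N89055 : nd 89055 = n191956 := ndS (p := 53220) (l := 0) rfl N53220 D191956
theorem N89056 : nd 89056 = n191957 := ndS (p := 53220) (l := 1) rfl N53220 D191957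
theorem N89057 : nd 89057 = n191958 := ndS (p := 53220) (l := 7) rfl N53220 D191958
theorem N89058 : nd 89058 = n191959 := ndS (p := 53222) (l := 0) rfl N53222 D191959
theorem N89059 : nd 89059 = n191960 := ndS (p := 53222) (l := 1) rfl N53222 D191960
theorem N89060 : nd 89060 = n191961 := ndS (p := 53223) (l := 6) rfl N53223 D191961
theorem N89061 : nd 89061 = n191962 := ndS (p := 53224) (l := 1) rfl N53224 D191962
theorem N89062 : nd 89062 = n191963 := ndS (p := 53224) (l := 7) rfl N53224 D191963
theorem N89063 : nd 89063 = n191964 := ndS (p := 53227) (l := 5) rfl N53227 D191964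
theorem N89064 : nd 89064 = n191965 := ndS (p := 53232) (l := 4) rfl N53232 D191965
theorem N89065 : nd 89065 = n191966 := ndS (p := 53236) (l := 4) rfl N53236 D191966
theorem N89066 : nd 89066 = n191967 := ndS (p := 53236) (l := 6) rfl N53236 D191967
theorem N89067 : nd 89067 = n191968 := ndS (p := 53237) (l := 4) rfl N53237 D191968
theorem N89068 : nd 89068 = n191969 := ndS (p := 53238) (l := 4) rfl N53238 D191969
theorem N89069 : nd 89069 = n191970 := ndS (p := 53238) (l := 6) rfl N53238 D191970
theorem N89070 : nd 89070 = n191971 := ndS (p := 53239) (l := 0) rfl N53239 D191971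
theorem N89071 : nd 89071 = n191972 := ndS (p := 53239) (l := 5) rfl N53239 D191972
theorem N89072 : nd 89072 = n191973 := ndS (p := 53240) (l := 4) rfl N53240 D191973
theorem N89073 : nd 89073 = n191974 := ndS (p := 53240) (l := 6) rfl N53240 D191974
theorem N89074 : nd 89074 = n191975 := ndS (p := 53242) (l := 5) rfl N53242 D191975
theorem N89075 : nd 89075 = n191976 := ndS (p := 53243) (l := 4) rfl N53243 D191976
theorem N89076 : nd 89076 = n191977 := ndS (p := 53243) (l := 6) rfl N53243 D191977
theorem N89077 : nd 89077 = n191978 := ndS (p := 53245) (l := 6) rfl N53245 D191978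
theorem N89078 : nd 89078 = n191979 := ndS (p := 53246) (l := 3) rfl N53246 D191979
theorem N89079 : nd 89079 = n191980 := ndS (p := 53246) (l := 6) rfl N53246 D191980
theorem N89080 : nd 89080 = n191981 := ndS (p := 53247) (l := 3) rfl N53247 D191981
theorem N89081 : nd 89081 = n191982 := ndS (p := 53247) (l := 5) rfl N53247 D191982
theorem N89082 : nd 89082 = n191983 := ndS (p := 53247) (l := 7) rfl N53247 D191983
theorem N89083 : nd 89083 = n191984 := ndS (p := 53249) (l := 1) rfl N53249 D191984
theorem N89084 : nd 89084 = n191985 := ndS (p := 53253) (l := 5) rfl N53253 D191985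
theorem N89085 : nd 89085 = n191986 := ndS (p := 53254) (l := 5) rfl N53254 D191986
theorem N89086 : nd 89086 = n191987 := ndS (p := 53255) (l := 4) rfl N53255 D191987
theorem N89087 : nd 89087 = n191988 := ndS (p := 53256) (l := 4) rfl N53256 D191988
theorem N89088 : nd 89088 = n191989 := ndS (p := 53258) (l := 7) rfl N53258 D191989
theorem N89089 : nd 89089 = n191990 := ndS (p := 53260) (l := 5) rfl N53260 D191990
theorem N89090 : nd 89090 = n191991 := ndS (p := 53261) (l := 4) rfl N53261 D191991
theorem N89091 : nd 89091 = n191992 := ndS (p := 53261) (l := 6) rfl N53261 D191992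
theorem N89092 : nd 89092 = n191993 := ndS (p := 53262) (l := 6) rfl N53262 D191993
theorem N89093 : nd 89093 = n191994 := ndS (p := 53263) (l := 5) rfl N53263 D191994
theorem N89094 : nd 89094 = n191995 := ndS (p := 53263) (l := 6) rfl N53263 D191995
theorem N89095 : nd 89095 = n191996 := ndS (p := 53264) (l := 4) rfl N53264 D191996
theorem N89096 : nd 89096 = n191997 := ndS (p := 53264) (l := 6) rfl N53264 D191997
theorem N89097 : nd 89097 = n191998 := ndS (p := 53266) (l := 4) rfl N53266 D191998
theorem N89098 : nd 89098 = n191999 := ndS (p := 53266) (l := 6) rfl N53266 D191999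
theorem N89099 : nd 89099 = n192000 := ndS (p := 53267) (l := 4) rfl N53267 D192000
theorem N89100 : nd 89100 = n192001 := ndS (p := 53267) (l := 6) rfl N53267 D192001
theorem N89101 : nd 89101 = n192002 := ndS (p := 53268) (l := 5) rfl N53268 D192002
theorem N89102 : nd 89102 = n192003 := ndS (p := 53269) (l := 4) rfl N53269 D192003
theorem N89103 : nd 89103 = n192004 := ndS (p := 53269) (l := 5) rfl N53269 D192004
theorem N89104 : nd 89104 = n192005 := ndS (p := 53269) (l := 6) rfl N53269 D192005
theorem N89105 : nd 89105 = n192006 := ndS (p := 53270) (l := 4) rfl N53270 D192006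
theorem N89106 : nd 89106 = n192007 := ndS (p := 53270) (l := 6) rfl N53270 D192007
theorem N89107 : nd 89107 = n192008 := ndS (p := 53271) (l := 1) rfl N53271 D192008
theorem N89108 : nd 89108 = n192009 := ndS (p := 53272) (l := 4) rfl N53272 D192009
theorem N89109 : nd 89109 = n192010 := ndS (p := 53273) (l := 3) rfl N53273 D192010
theorem N89110 : nd 89110 = n192011 := ndS (p := 53273) (l := 6) rfl N53273 D192011
theorem N89111 : nd 89111 = n192012 := ndS (p := 53277) (l := 1) rfl N53277 D192012
theorem N89112 : nd 89112 = n192013 := ndS (p := 53277) (l := 7) rfl N53277 D192013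
theorem N89113 : nd 89113 = n192014 := ndS (p := 53278) (l := 5) rfl N53278 D192014
theorem N89114 : nd 89114 = n192015 := ndS (p := 53280) (l := 5) rfl N53280 D192015
theorem N89115 : nd 89115 = n192016 := ndS (p := 53282) (l := 6) rfl N53282 D192016
theorem N89116 : nd 89116 = n192017 := ndS (p := 53283) (l := 4) rfl N53283 D192017
theorem N89117 : nd 89117 = n192018 := ndS (p := 53286) (l := 0) rfl N53286 D192018
theorem N89118 : nd 89118 = n192019 := ndS (p := 53286) (l := 4) rfl N53286 D192019
theorem N89119 : nd 89119 = n192020 := ndS (p := 53286) (l := 7) rfl N53286 D192020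
theorem N89120 : nd 89120 = n192021 := ndS (p := 53288) (l := 4) rfl N53288 D192021
theorem N89121 : nd 89121 = n192022 := ndS (p := 53288) (l := 7) rfl N53288 D192022
theorem N89122 : nd 89122 = n192023 := ndS (p := 53290) (l := 4) rfl N53290 D192023
theorem N89123 : nd 89123 = n192024 := ndS (p := 53290) (l := 6) rfl N53290 D192024
theorem N89124 : nd 89124 = n192025 := ndS (p := 53291) (l := 1) rfl N53291 D192025
theorem N89125 : nd 89125 = n192026 := ndS (p := 53291) (l := 3) rfl N53291 D192026
theorem N89126 : nd 89126 = n192027 := ndS (p := 53291) (l := 5) rfl N53291 D192027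
theorem N89127 : nd 89127 = n192028 := ndS (p := 53291) (l := 7) rfl N53291 D192028
theorem N89128 : nd 89128 = n192029 := ndS (p := 53293) (l := 5) rfl N53293 D192029
theorem N89129 : nd 89129 = n192030 := ndS (p := 53294) (l := 5) rfl N53294 D192030
theorem N89130 : nd 89130 = n192031 := ndS (p := 53294) (l := 7) rfl N53294 D192031
theorem N89131 : nd 89131 = n192032 := ndS (p := 53295) (l := 5) rfl N53295 D192032
theorem N89132 : nd 89132 = n192033 := ndS (p := 53296) (l := 5) rfl N53296 D192033
theorem N89133 : nd 89133 = n192034 := ndS (p := 53296) (l := 6) rfl N53296 D192034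
theorem N89134 : nd 89134 = n192035 := ndS (p := 53297) (l := 0) rfl N53297 D192035
theorem N89135 : nd 89135 = n192036 := ndS (p := 53297) (l := 1) rfl N53297 D192036
theorem N89136 : nd 89136 = n192037 := ndS (p := 53297) (l := 7) rfl N53297 D192037
theorem N89137 : nd 89137 = n192038 := ndS (p := 53299) (l := 5) rfl N53299 D192038
theorem N89138 : nd 89138 = n192039 := ndS (p := 53300) (l := 0) rfl N53300 D192039
theorem N89139 : nd 89139 = n192041 := ndS (p := 53300) (l := 4) rfl N53300 D192041
theorem N89140 : nd 89140 = n192042 := ndS (p := 53300) (l := 7) rfl N53300 D192042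
theorem N89141 : nd 89141 = n192043 := ndS (p := 53303) (l := 7) rfl N53303 D192043
theorem N89142 : nd 89142 = n192044 := ndS (p := 53305) (l := 4) rfl N53305 D192044
theorem N89143 : nd 89143 = n192045 := ndS (p := 53306) (l := 0) rfl N53306 D192045
theorem N89144 : nd 89144 = n192046 := ndS (p := 53306) (l := 1) rfl N53306 D192046
theorem N89145 : nd 89145 = n192047 := ndS (p := 53306) (l := 3) rfl N53306 D192047
theorem N89146 : nd 89146 = n192048 := ndS (p := 53306) (l := 7) rfl N53306 D192048
theorem N89147 : nd 89147 = n192049 := ndS (p := 53307) (l := 6) rfl N53307 D192049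
theorem N89148 : nd 89148 = n192050 := ndS (p := 53310) (l := 3) rfl N53310 D192050
theorem N89149 : nd 89149 = n192051 := ndS (p := 53311) (l := 0) rfl N53311 D192051
theorem N89150 : nd 89150 = n192052 := ndS (p := 53311) (l := 1) rfl N53311 D192052
theorem N89151 : nd 89151 = n192053 := ndS (p := 53313) (l := 6) rfl N53313 D192053
theorem N89152 : nd 89152 = n192054 := ndS (p := 53314) (l := 6) rfl N53314 D192054
theorem N89153 : nd 89153 = n192055 := ndS (p := 53317) (l := 3) rfl N53317 D192055
theorem N89154 : nd 89154 = n192056 := ndS (p := 53318) (l := 3) rfl N53318 D192056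
theorem N89155 : nd 89155 = n192057 := ndS (p := 53318) (l := 6) rfl N53318 D192057
theorem N89156 : nd 89156 = n192058 := ndS (p := 53321) (l := 6) rfl N53321 D192058
theorem N89157 : nd 89157 = n192059 := ndS (p := 53322) (l := 5) rfl N53322 D192059
theorem N89158 : nd 89158 = n192060 := ndS (p := 53322) (l := 7) rfl N53322 D192060
theorem N89159 : nd 89159 = n192061 := ndS (p := 53325) (l := 5) rfl N53325 D192061
theorem N89160 : nd 89160 = n192062 := ndS (p := 53326) (l := 7) rfl N53326 D192062
theorem N89161 : nd 89161 = n192063 := ndS (p := 53328) (l := 5) rfl N53328 D192063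
theorem N89162 : nd 89162 = n192064 := ndS (p := 53329) (l := 4) rfl N53329 D192064
theorem N89163 : nd 89163 = n192065 := ndS (p := 53335) (l := 2) rfl N53335 D192065
theorem N89164 : nd 89164 = n192066 := ndS (p := 53335) (l := 6) rfl N53335 D192066
theorem N89165 : nd 89165 = n192067 := ndS (p := 53337) (l := 5) rfl N53337 D192067
theorem N89166 : nd 89166 = n192068 := ndS (p := 53340) (l := 5) rfl N53340 D192068
theorem N89167 : nd 89167 = n192069 := ndS (p := 53341) (l := 3) rfl N53341 D192069
theorem N89168 : nd 89168 = n192070 := ndS (p := 53341) (l := 6) rfl N53341 D192070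
theorem N89169 : nd 89169 = n192071 := ndS (p := 53343) (l := 3) rfl N53343 D192071
theorem N89170 : nd 89170 = n192072 := ndS (p := 53345) (l := 5) rfl N53345 D192072
theorem N89171 : nd 89171 = n192073 := ndS (p := 53346) (l := 5) rfl N53346 D192073
theorem N89172 : nd 89172 = n192074 := ndS (p := 53346) (l := 6) rfl N53346 D192074
theorem N89173 : nd 89173 = n192075 := ndS (p := 53347) (l := 0) rfl N53347 D192075
theorem N89174 : nd 89174 = n192076 := ndS (p := 53347) (l := 1) rfl N53347 D192076
theorem N89175 : nd 89175 = n192077 := ndS (p := 53347) (l := 4) rfl N53347 D192077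
theorem N89176 : nd 89176 = n192078 := ndS (p := 53348) (l := 1) rfl N53348 D192078
theorem N89177 : nd 89177 = n192079 := ndS (p := 53348) (l := 5) rfl N53348 D192079
theorem N89178 : nd 89178 = n192080 := ndS (p := 53348) (l := 7) rfl N53348 D192080
theorem N89179 : nd 89179 = n192081 := ndS (p := 53353) (l := 5) rfl N53353 D192081
theorem N89180 : nd 89180 = n192082 := ndS (p := 53355) (l := 0) rfl N53355 D192082
theorem N89181 : nd 89181 = n192083 := ndS (p := 53357) (l := 2) rfl N53357 D192083
theorem N89182 : nd 89182 = n192084 := ndS (p := 53357) (l := 4) rfl N53357 D192084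
theorem N89183 : nd 89183 = n192085 := ndS (p := 53357) (l := 6) rfl N53357 D192085
theorem N89184 : nd 89184 = n192086 := ndS (p := 53359) (l := 5) rfl N53359 D192086
theorem N89185 : nd 89185 = n192087 := ndS (p := 53360) (l := 2) rfl N53360 D192087
theorem N89186 : nd 89186 = n192088 := ndS (p := 53360) (l := 4) rfl N53360 D192088
theorem N89187 : nd 89187 = n192089 := ndS (p := 53360) (l := 6) rfl N53360 D192089
theorem N89188 : nd 89188 = n192090 := ndS (p := 53361) (l := 3) rfl N53361 D192090
theorem N89189 : nd 89189 = n192091 := ndS (p := 53362) (l := 0) rfl N53362 D192091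
theorem N89190 : nd 89190 = n192092 := ndS (p := 53362) (l := 1) rfl N53362 D192092
theorem N89191 : nd 89191 = n192093 := ndS (p := 53362) (l := 5) rfl N53362 D192093
theorem N89192 : nd 89192 = n192094 := ndS (p := 53362) (l := 7) rfl N53362 D192094
theorem N89193 : nd 89193 = n192095 := ndS (p := 53365) (l := 0) rfl N53365 D192095
theorem N89194 : nd 89194 = n192096 := ndS (p := 53365) (l := 1) rfl N53365 D192096
theorem N89195 : nd 89195 = n192097 := ndS (p := 53366) (l := 1) rfl N53366 D192097
theorem N89196 : nd 89196 = n192098 := ndS (p := 53368) (l := 4) rfl N53368 D192098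
theorem N89197 : nd 89197 = n192099 := ndS (p := 53369) (l := 0) rfl N53369 D192099
theorem N89198 : nd 89198 = n192100 := ndS (p := 53369) (l := 5) rfl N53369 D192100
theorem N89199 : nd 89199 = n192101 := ndS (p := 53370) (l := 0) rfl N53370 D192101
theorem N89200 : nd 89200 = n192102 := ndS (p := 53370) (l := 1) rfl N53370 D192102
theorem N89201 : nd 89201 = n192103 := ndS (p := 53370) (l := 7) rfl N53370 D192103
theorem N89202 : nd 89202 = n192104 := ndS (p := 53371) (l := 5) rfl N53371 D192104
theorem N89203 : nd 89203 = n192105 := ndS (p := 53375) (l := 4) rfl N53375 D192105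
theorem N89204 : nd 89204 = n192106 := ndS (p := 53376) (l := 5) rfl N53376 D192106
theorem N89205 : nd 89205 = n192107 := ndS (p := 53377) (l := 4) rfl N53377 D192107
theorem N89206 : nd 89206 = n192108 := ndS (p := 53377) (l := 6) rfl N53377 D192108
theorem N89207 : nd 89207 = n192109 := ndS (p := 53378) (l := 5) rfl N53378 D192109
theorem N89208 : nd 89208 = n192110 := ndS (p := 53379) (l := 3) rfl N53379 D192110
theorem N89209 : nd 89209 = n192111 := ndS (p := 53379) (l := 5) rfl N53379 D192111
theorem N89210 : nd 89210 = n192112 := ndS (p := 53379) (l := 6) rfl N53379 D192112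
theorem N89211 : nd 89211 = n192113 := ndS (p := 53380) (l := 0) rfl N53380 D192113
theorem N89212 : nd 89212 = n192114 := ndS (p := 53380) (l := 5) rfl N53380 D192114
theorem N89213 : nd 89213 = n192115 := ndS (p := 53380) (l := 7) rfl N53380 D192115
theorem N89214 : nd 89214 = n192116 := ndS (p := 53382) (l := 4) rfl N53382 D192116
theorem N89215 : nd 89215 = n192117 := ndS (p := 53384) (l := 0) rfl N53384 D192117
theorem N89216 : nd 89216 = n192118 := ndS (p := 53384) (l := 5) rfl N53384 D192118
theorem N89217 : nd 89217 = n192119 := ndS (p := 53386) (l := 0) rfl N53386 D192119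
theorem N89218 : nd 89218 = n192120 := ndS (p := 53387) (l := 4) rfl N53387 D192120
theorem N89219 : nd 89219 = n192121 := ndS (p := 53387) (l := 6) rfl N53387 D192121
theorem N89220 : nd 89220 = n192122 := ndS (p := 53388) (l := 3) rfl N53388 D192122
theorem N89221 : nd 89221 = n192123 := ndS (p := 53388) (l := 5) rfl N53388 D192123
theorem N89222 : nd 89222 = n192124 := ndS (p := 53389) (l := 0) rfl N53389 D192124
theorem N89223 : nd 89223 = n192125 := ndS (p := 53389) (l := 7) rfl N53389 D192125
theorem N89224 : nd 89224 = n192126 := ndS (p := 53390) (l := 3) rfl N53390 D192126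
theorem N89225 : nd 89225 = n192127 := ndS (p := 53390) (l := 5) rfl N53390 D192127
theorem N89226 : nd 89226 = n192128 := ndS (p := 53390) (l := 6) rfl N53390 D192128
theorem N89227 : nd 89227 = n192129 := ndS (p := 53391) (l := 3) rfl N53391 D192129
theorem N89228 : nd 89228 = n192130 := ndS (p := 53391) (l := 5) rfl N53391 D192130
theorem N89229 : nd 89229 = n192131 := ndS (p := 53392) (l := 0) rfl N53392 D192131
theorem N89230 : nd 89230 = n192132 := ndS (p := 53392) (l := 1) rfl N53392 D192132
theorem N89231 : nd 89231 = n192133 := ndS (p := 53392) (l := 2) rfl N53392 D192133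
theorem N89232 : nd 89232 = n192134 := ndS (p := 53392) (l := 5) rfl N53392 D192134
theorem N89233 : nd 89233 = n192135 := ndS (p := 53392) (l := 7) rfl N53392 D192135
theorem N89234 : nd 89234 = n192137 := ndS (p := 53393) (l := 1) rfl N53393 D192137
theorem N89235 : nd 89235 = n192138 := ndS (p := 53393) (l := 4) rfl N53393 D192138
theorem N89236 : nd 89236 = n192139 := ndS (p := 53393) (l := 7) rfl N53393 D192139
theorem N89237 : nd 89237 = n192140 := ndS (p := 53399) (l := 6) rfl N53399 D192140
theorem N89238 : nd 89238 = n192141 := ndS (p := 53402) (l := 3) rfl N53402 D192141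
theorem N89239 : nd 89239 = n192142 := ndS (p := 53410) (l := 1) rfl N53410 D192142
theorem N89240 : nd 89240 = n192143 := ndS (p := 53411) (l := 3) rfl N53411 D192143
theorem N89241 : nd 89241 = n192144 := ndS (p := 53413) (l := 1) rfl N53413 D192144
theorem N89242 : nd 89242 = n192145 := ndS (p := 53413) (l := 7) rfl N53413 D192145
theorem N89243 : nd 89243 = n192146 := ndS (p := 53414) (l := 6) rfl N53414 D192146
theorem N89244 : nd 89244 = n192147 := ndS (p := 53415) (l := 0) rfl N53415 D192147
theorem N89245 : nd 89245 = n192148 := ndS (p := 53415) (l := 1) rfl N53415 D192148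
theorem N89246 : nd 89246 = n192149 := ndS (p := 53415) (l := 5) rfl N53415 D192149
theorem N89247 : nd 89247 = n192150 := ndS (p := 53415) (l := 7) rfl N53415 D192150
theorem N89248 : nd 89248 = n192151 := ndS (p := 53416) (l := 4) rfl N53416 D192151
theorem N89249 : nd 89249 = n192152 := ndS (p := 53416) (l := 5) rfl N53416 D192152
theorem N89250 : nd 89250 = n192153 := ndS (p := 53417) (l := 3) rfl N53417 D192153
theorem N89251 : nd 89251 = n192154 := ndS (p := 53417) (l := 4) rfl N53417 D192154
theorem N89252 : nd 89252 = n192155 := ndS (p := 53419) (l := 2) rfl N53419 D192155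
theorem N89253 : nd 89253 = n192156 := ndS (p := 53419) (l := 4) rfl N53419 D192156
theorem N89254 : nd 89254 = n192158 := ndS (p := 53420) (l := 5) rfl N53420 D192158
theorem N89255 : nd 89255 = n192159 := ndS (p := 53420) (l := 7) rfl N53420 D192159
theorem N89256 : nd 89256 = n192160 := ndS (p := 53421) (l := 4) rfl N53421 D192160
theorem N89257 : nd 89257 = n192161 := ndS (p := 53421) (l := 6) rfl N53421 D192161
theorem N89258 : nd 89258 = n192162 := ndS (p := 53422) (l := 5) rfl N53422 D192162
theorem N89259 : nd 89259 = n192163 := ndS (p := 53422) (l := 7) rfl N53422 D192163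
theorem N89260 : nd 89260 = n192164 := ndS (p := 53426) (l := 5) rfl N53426 D192164
theorem N89261 : nd 89261 = n192165 := ndS (p := 53427) (l := 5) rfl N53427 D192165
theorem N89262 : nd 89262 = n192166 := ndS (p := 53430) (l := 5) rfl N53430 D192166
theorem N89263 : nd 89263 = n192167 := ndS (p := 53431) (l := 1) rfl N53431 D192167
theorem N89264 : nd 89264 = n192168 := ndS (p := 53431) (l := 4) rfl N53431 D192168
theorem N89265 : nd 89265 = n192169 := ndS (p := 53431) (l := 6) rfl N53431 D192169
theorem N89266 : nd 89266 = n192170 := ndS (p := 53432) (l := 0) rfl N53432 D192170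
theorem N89267 : nd 89267 = n192171 := ndS (p := 53432) (l := 1) rfl N53432 D192171
theorem N89268 : nd 89268 = n192172 := ndS (p := 53435) (l := 4) rfl N53435 D192172
theorem N89269 : nd 89269 = n192173 := ndS (p := 53436) (l := 4) rfl N53436 D192173
theorem N89270 : nd 89270 = n192174 := ndS (p := 53436) (l := 6) rfl N53436 D192174
theorem N89271 : nd 89271 = n192175 := ndS (p := 53437) (l := 4) rfl N53437 D192175
theorem N89272 : nd 89272 = n192176 := ndS (p := 53438) (l := 0) rfl N53438 D192176
theorem N89273 : nd 89273 = n192177 := ndS (p := 53438) (l := 3) rfl N53438 D192177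
theorem N89274 : nd 89274 = n192178 := ndS (p := 53438) (l := 5) rfl N53438 D192178
theorem N89275 : nd 89275 = n192179 := ndS (p := 53439) (l := 0) rfl N53439 D192179
theorem N89276 : nd 89276 = n192180 := ndS (p := 53439) (l := 1) rfl N53439 D192180
theorem N89277 : nd 89277 = n192181 := ndS (p := 53440) (l := 4) rfl N53440 D192181
theorem N89278 : nd 89278 = n192182 := ndS (p := 53440) (l := 6) rfl N53440 D192182
theorem N89279 : nd 89279 = n192183 := ndS (p := 53441) (l := 0) rfl N53441 D192183
theorem N89280 : nd 89280 = n192184 := ndS (p := 53441) (l := 1) rfl N53441 D192184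
theorem N89281 : nd 89281 = n192185 := ndS (p := 53441) (l := 7) rfl N53441 D192185
theorem N89282 : nd 89282 = n192186 := ndS (p := 53442) (l := 2) rfl N53442 D192186
theorem N89283 : nd 89283 = n192187 := ndS (p := 53442) (l := 4) rfl N53442 D192187
theorem N89284 : nd 89284 = n192188 := ndS (p := 53442) (l := 6) rfl N53442 D192188
theorem N89285 : nd 89285 = n192189 := ndS (p := 53443) (l := 1) rfl N53443 D192189
theorem N89286 : nd 89286 = n192190 := ndS (p := 53443) (l := 7) rfl N53443 D192190
theorem N89287 : nd 89287 = n192191 := ndS (p := 53444) (l := 1) rfl N53444 D192191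
theorem N89288 : nd 89288 = n192192 := ndS (p := 53444) (l := 2) rfl N53444 D192192
theorem N89289 : nd 89289 = n192193 := ndS (p := 53444) (l := 6) rfl N53444 D192193
theorem N89290 : nd 89290 = n192194 := ndS (p := 53446) (l := 3) rfl N53446 D192194
theorem N89291 : nd 89291 = n192195 := ndS (p := 53446) (l := 6) rfl N53446 D192195
theorem N89292 : nd 89292 = n192196 := ndS (p := 53447) (l := 3) rfl N53447 D192196
theorem N89293 : nd 89293 = n192197 := ndS (p := 53447) (l := 6) rfl N53447 D192197
theorem N89294 : nd 89294 = n192198 := ndS (p := 53452) (l := 4) rfl N53452 D192198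
theorem N89295 : nd 89295 = n192199 := ndS (p := 53454) (l := 4) rfl N53454 D192199
theorem N89296 : nd 89296 = n192200 := ndS (p := 53455) (l := 4) rfl N53455 D192200
theorem N89297 : nd 89297 = n192201 := ndS (p := 53455) (l := 6) rfl N53455 D192201
theorem N89298 : nd 89298 = n192202 := ndS (p := 53456) (l := 0) rfl N53456 D192202
theorem N89299 : nd 89299 = n192203 := ndS (p := 53456) (l := 1) rfl N53456 D192203
theorem N89300 : nd 89300 = n192204 := ndS (p := 53456) (l := 3) rfl N53456 D192204
theorem N89301 : nd 89301 = n192205 := ndS (p := 53456) (l := 5) rfl N53456 D192205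
theorem N89302 : nd 89302 = n192206 := ndS (p := 53458) (l := 0) rfl N53458 D192206
theorem N89303 : nd 89303 = n192207 := ndS (p := 53458) (l := 1) rfl N53458 D192207
theorem N89304 : nd 89304 = n192208 := ndS (p := 53458) (l := 6) rfl N53458 D192208
theorem N89305 : nd 89305 = n192209 := ndS (p := 53459) (l := 5) rfl N53459 D192209
theorem N89306 : nd 89306 = n192210 := ndS (p := 53460) (l := 6) rfl N53460 D192210
theorem N89307 : nd 89307 = n192211 := ndS (p := 53462) (l := 0) rfl N53462 D192211
theorem N89308 : nd 89308 = n192212 := ndS (p := 53462) (l := 1) rfl N53462 D192212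
theorem N89309 : nd 89309 = n192213 := ndS (p := 53464) (l := 0) rfl N53464 D192213
theorem N89310 : nd 89310 = n192214 := ndS (p := 53464) (l := 4) rfl N53464 D192214
theorem N89311 : nd 89311 = n192215 := ndS (p := 53464) (l := 7) rfl N53464 D192215
theorem N89312 : nd 89312 = n192216 := ndS (p := 53466) (l := 4) rfl N53466 D192216
theorem N89313 : nd 89313 = n192217 := ndS (p := 53467) (l := 5) rfl N53467 D192217
theorem N89314 : nd 89314 = n192218 := ndS (p := 53468) (l := 6) rfl N53468 D192218
theorem N89315 : nd 89315 = n192219 := ndS (p := 53471) (l := 6) rfl N53471 D192219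
theorem N89316 : nd 89316 = n192220 := ndS (p := 53472) (l := 6) rfl N53472 D192220
theorem N89317 : nd 89317 = n192221 := ndS (p := 53474) (l := 6) rfl N53474 D192221
theorem N89318 : nd 89318 = n192222 := ndS (p := 53475) (l := 4) rfl N53475 D192222
theorem N89319 : nd 89319 = n192223 := ndS (p := 53475) (l := 6) rfl N53475 D192223
theorem N89320 : nd 89320 = n192224 := ndS (p := 53476) (l := 5) rfl N53476 D192224
theorem N89321 : nd 89321 = n192225 := ndS (p := 53476) (l := 7) rfl N53476 D192225
theorem N89322 : nd 89322 = n192226 := ndS (p := 53479) (l := 1) rfl N53479 D192226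
theorem N89323 : nd 89323 = n192227 := ndS (p := 53479) (l := 7) rfl N53479 D192227
theorem N89324 : nd 89324 = n192228 := ndS (p := 53480) (l := 3) rfl N53480 D192228
theorem N89325 : nd 89325 = n192229 := ndS (p := 53480) (l := 6) rfl N53480 D192229
theorem N89326 : nd 89326 = n192230 := ndS (p := 53481) (l := 0) rfl N53481 D192230
theorem N89327 : nd 89327 = n192231 := ndS (p := 53481) (l := 1) rfl N53481 D192231
theorem N89328 : nd 89328 = n192232 := ndS (p := 53481) (l := 7) rfl N53481 D192232
theorem N89329 : nd 89329 = n192233 := ndS (p := 53482) (l := 5) rfl N53482 D192233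
theorem N89330 : nd 89330 = n192234 := ndS (p := 53483) (l := 4) rfl N53483 D192234
theorem N89331 : nd 89331 = n192235 := ndS (p := 53484) (l := 5) rfl N53484 D192235
theorem N89332 : nd 89332 = n192236 := ndS (p := 53485) (l := 4) rfl N53485 D192236
theorem N89333 : nd 89333 = n192237 := ndS (p := 53486) (l := 5) rfl N53486 D192237
theorem N89334 : nd 89334 = n192238 := ndS (p := 53487) (l := 5) rfl N53487 D192238
theorem N89335 : nd 89335 = n192239 := ndS (p := 53488) (l := 0) rfl N53488 D192239
theorem N89336 : nd 89336 = n192240 := ndS (p := 53488) (l := 7) rfl N53488 D192240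
theorem N89337 : nd 89337 = n192241 := ndS (p := 53490) (l := 6) rfl N53490 D192241
theorem N89338 : nd 89338 = n192242 := ndS (p := 53491) (l := 0) rfl N53491 D192242
theorem N89339 : nd 89339 = n192243 := ndS (p := 53491) (l := 4) rfl N53491 D192243
theorem N89340 : nd 89340 = n192244 := ndS (p := 53491) (l := 6) rfl N53491 D192244
theorem N89341 : nd 89341 = n192245 := ndS (p := 53492) (l := 5) rfl N53492 D192245
theorem N89342 : nd 89342 = n192246 := ndS (p := 53494) (l := 6) rfl N53494 D192246
theorem N89343 : nd 89343 = n192247 := ndS (p := 53495) (l := 3) rfl N53495 D192247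
theorem N89344 : nd 89344 = n192248 := ndS (p := 53495) (l := 4) rfl N53495 D192248
theorem N89345 : nd 89345 = n192249 := ndS (p := 53495) (l := 6) rfl N53495 D192249
theorem N89346 : nd 89346 = n192250 := ndS (p := 53496) (l := 4) rfl N53496 D192250
theorem N89347 : nd 89347 = n192251 := ndS (p := 53497) (l := 3) rfl N53497 D192251
theorem N89348 : nd 89348 = n192252 := ndS (p := 53498) (l := 6) rfl N53498 D192252
theorem N89349 : nd 89349 = n192253 := ndS (p := 53499) (l := 4) rfl N53499 D192253
theorem N89350 : nd 89350 = n192254 := ndS (p := 53499) (l := 6) rfl N53499 D192254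
theorem N89351 : nd 89351 = n192255 := ndS (p := 53500) (l := 1) rfl N53500 D192255
theorem N89352 : nd 89352 = n192256 := ndS (p := 53500) (l := 7) rfl N53500 D192256
theorem N89353 : nd 89353 = n192257 := ndS (p := 53501) (l := 0) rfl N53501 D192257
theorem N89354 : nd 89354 = n192258 := ndS (p := 53501) (l := 1) rfl N53501 D192258
theorem N89355 : nd 89355 = n192259 := ndS (p := 53501) (l := 2) rfl N53501 D192259
theorem N89356 : nd 89356 = n192260 := ndS (p := 53501) (l := 7) rfl N53501 D192260
theorem N89357 : nd 89357 = n192261 := ndS (p := 53502) (l := 6) rfl N53502 D192261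
theorem N89358 : nd 89358 = n192262 := ndS (p := 53503) (l := 0) rfl N53503 D192262
theorem N89359 : nd 89359 = n192263 := ndS (p := 53503) (l := 1) rfl N53503 D192263
theorem N89360 : nd 89360 = n192264 := ndS (p := 53505) (l := 4) rfl N53505 D192264
theorem N89361 : nd 89361 = n192265 := ndS (p := 53506) (l := 4) rfl N53506 D192265
theorem N89362 : nd 89362 = n192266 := ndS (p := 53506) (l := 6) rfl N53506 D192266
theorem N89363 : nd 89363 = n192267 := ndS (p := 53507) (l := 4) rfl N53507 D192267
theorem N89364 : nd 89364 = n192268 := ndS (p := 53507) (l := 6) rfl N53507 D192268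
theorem N89365 : nd 89365 = n192269 := ndS (p := 53508) (l := 4) rfl N53508 D192269
theorem N89366 : nd 89366 = n192270 := ndS (p := 53509) (l := 0) rfl N53509 D192270
theorem N89367 : nd 89367 = n192271 := ndS (p := 53509) (l := 1) rfl N53509 D192271
theorem N89368 : nd 89368 = n192272 := ndS (p := 53509) (l := 3) rfl N53509 D192272
theorem N89369 : nd 89369 = n192273 := ndS (p := 53509) (l := 5) rfl N53509 D192273
theorem N89370 : nd 89370 = n192274 := ndS (p := 53510) (l := 0) rfl N53510 D192274
theorem N89371 : nd 89371 = n192275 := ndS (p := 53510) (l := 1) rfl N53510 D192275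
theorem N89372 : nd 89372 = n192276 := ndS (p := 53510) (l := 2) rfl N53510 D192276
theorem N89373 : nd 89373 = n192277 := ndS (p := 53513) (l := 4) rfl N53513 D192277
theorem N89374 : nd 89374 = n192278 := ndS (p := 53513) (l := 6) rfl N53513 D192278
theorem N89375 : nd 89375 = n192279 := ndS (p := 53514) (l := 0) rfl N53514 D192279
theorem N89376 : nd 89376 = n192280 := ndS (p := 53514) (l := 5) rfl N53514 D192280
theorem N89377 : nd 89377 = n192281 := ndS (p := 53518) (l := 5) rfl N53518 D192281
theorem N89378 : nd 89378 = n192282 := ndS (p := 53519) (l := 4) rfl N53519 D192282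
theorem N89379 : nd 89379 = n192283 := ndS (p := 53521) (l := 0) rfl N53521 D192283
theorem N89380 : nd 89380 = n192284 := ndS (p := 53521) (l := 1) rfl N53521 D192284
theorem N89381 : nd 89381 = n192285 := ndS (p := 53521) (l := 4) rfl N53521 D192285
theorem N89382 : nd 89382 = n192286 := ndS (p := 53522) (l := 1) rfl N53522 D192286
theorem N89383 : nd 89383 = n192287 := ndS (p := 53526) (l := 5) rfl N53526 D192287
theorem N89384 : nd 89384 = n192288 := ndS (p := 53527) (l := 0) rfl N53527 D192288
theorem N89385 : nd 89385 = n192289 := ndS (p := 53527) (l := 1) rfl N53527 D192289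
theorem N89386 : nd 89386 = n192290 := ndS (p := 53527) (l := 6) rfl N53527 D192290
theorem N89387 : nd 89387 = n192291 := ndS (p := 53528) (l := 0) rfl N53528 D192291
theorem N89388 : nd 89388 = n192292 := ndS (p := 53528) (l := 5) rfl N53528 D192292
theorem N89389 : nd 89389 = n192293 := ndS (p := 53528) (l := 7) rfl N53528 D192293
theorem N89390 : nd 89390 = n192294 := ndS (p := 53529) (l := 6) rfl N53529 D192294
theorem N89391 : nd 89391 = n192295 := ndS (p := 53530) (l := 6) rfl N53530 D192295
theorem N89392 : nd 89392 = n192296 := ndS (p := 53531) (l := 5) rfl N53531 D192296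
theorem N89393 : nd 89393 = n192297 := ndS (p := 53532) (l := 4) rfl N53532 D192297
theorem N89394 : nd 89394 = n192298 := ndS (p := 53534) (l := 1) rfl N53534 D192298
theorem N89395 : nd 89395 = n192299 := ndS (p := 53534) (l := 5) rfl N53534 D192299
theorem N89396 : nd 89396 = n192300 := ndS (p := 53534) (l := 7) rfl N53534 D192300
theorem N89397 : nd 89397 = n192301 := ndS (p := 53536) (l := 5) rfl N53536 D192301
theorem N89398 : nd 89398 = n192302 := ndS (p := 53536) (l := 6) rfl N53536 D192302
theorem N89399 : nd 89399 = n192303 := ndS (p := 53537) (l := 5) rfl N53537 D192303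
theorem N89400 : nd 89400 = n192304 := ndS (p := 53537) (l := 6) rfl N53537 D192304
theorem N89401 : nd 89401 = n192305 := ndS (p := 53538) (l := 0) rfl N53538 D192305
theorem N89402 : nd 89402 = n192306 := ndS (p := 53538) (l := 1) rfl N53538 D192306
theorem N89403 : nd 89403 = n192307 := ndS (p := 53538) (l := 4) rfl N53538 D192307
theorem N89404 : nd 89404 = n192308 := ndS (p := 53538) (l := 7) rfl N53538 D192308
theorem N89405 : nd 89405 = n192309 := ndS (p := 53540) (l := 5) rfl N53540 D192309
theorem N89406 : nd 89406 = n192310 := ndS (p := 53540) (l := 6) rfl N53540 D192310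
theorem N89407 : nd 89407 = n192311 := ndS (p := 53541) (l := 4) rfl N53541 D192311
theorem N89408 : nd 89408 = n192312 := ndS (p := 53541) (l := 6) rfl N53541 D192312
theorem N89409 : nd 89409 = n192313 := ndS (p := 53543) (l := 4) rfl N53543 D192313
theorem N89410 : nd 89410 = n192314 := ndS (p := 53543) (l := 6) rfl N53543 D192314
theorem N89411 : nd 89411 = n192315 := ndS (p := 53545) (l := 3) rfl N53545 D192315
theorem N89412 : nd 89412 = n192316 := ndS (p := 53545) (l := 4) rfl N53545 D192316
theorem N89413 : nd 89413 = n192317 := ndS (p := 53545) (l := 6) rfl N53545 D192317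
theorem N89414 : nd 89414 = n192318 := ndS (p := 53546) (l := 4) rfl N53546 D192318
theorem N89415 : nd 89415 = n192319 := ndS (p := 53546) (l := 6) rfl N53546 D192319
theorem N89416 : nd 89416 = n192320 := ndS (p := 53547) (l := 3) rfl N53547 D192320
theorem N89417 : nd 89417 = n192321 := ndS (p := 53547) (l := 5) rfl N53547 D192321
theorem N89418 : nd 89418 = n192322 := ndS (p := 53547) (l := 7) rfl N53547 D192322
theorem N89419 : nd 89419 = n192323 := ndS (p := 53548) (l := 6) rfl N53548 D192323
theorem N89420 : nd 89420 = n192324 := ndS (p := 53551) (l := 6) rfl N53551 D192324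
theorem N89421 : nd 89421 = n192325 := ndS (p := 53552) (l := 1) rfl N53552 D192325
theorem N89422 : nd 89422 = n192326 := ndS (p := 53554) (l := 6) rfl N53554 D192326
theorem N89423 : nd 89423 = n192327 := ndS (p := 53555) (l := 5) rfl N53555 D192327
theorem N89424 : nd 89424 = n192328 := ndS (p := 53556) (l := 4) rfl N53556 D192328
theorem N89425 : nd 89425 = n192329 := ndS (p := 53556) (l := 5) rfl N53556 D192329
theorem N89426 : nd 89426 = n192330 := ndS (p := 53558) (l := 0) rfl N53558 D192330
theorem N89427 : nd 89427 = n192331 := ndS (p := 53558) (l := 1) rfl N53558 D192331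
theorem N89428 : nd 89428 = n192332 := ndS (p := 53558) (l := 4) rfl N53558 D192332
theorem N89429 : nd 89429 = n192333 := ndS (p := 53558) (l := 6) rfl N53558 D192333
theorem N89430 : nd 89430 = n192334 := ndS (p := 53559) (l := 0) rfl N53559 D192334
theorem N89431 : nd 89431 = n192335 := ndS (p := 53559) (l := 5) rfl N53559 D192335
theorem N89432 : nd 89432 = n192336 := ndS (p := 53560) (l := 1) rfl N53560 D192336
theorem N89433 : nd 89433 = n192337 := ndS (p := 53560) (l := 4) rfl N53560 D192337
theorem N89434 : nd 89434 = n192338 := ndS (p := 53560) (l := 6) rfl N53560 D192338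
theorem N89435 : nd 89435 = n192339 := ndS (p := 53562) (l := 3) rfl N53562 D192339
theorem N89436 : nd 89436 = n192340 := ndS (p := 53562) (l := 4) rfl N53562 D192340
theorem N89437 : nd 89437 = n192341 := ndS (p := 53562) (l := 6) rfl N53562 D192341
theorem N89438 : nd 89438 = n192342 := ndS (p := 53563) (l := 4) rfl N53563 D192342
theorem N89439 : nd 89439 = n192343 := ndS (p := 53564) (l := 1) rfl N53564 D192343
theorem N89440 : nd 89440 = n192344 := ndS (p := 53564) (l := 3) rfl N53564 D192344
theorem N89441 : nd 89441 = n192345 := ndS (p := 53564) (l := 5) rfl N53564 D192345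
theorem N89442 : nd 89442 = n192346 := ndS (p := 53564) (l := 6) rfl N53564 D192346
theorem N89443 : nd 89443 = n192347 := ndS (p := 53565) (l := 7) rfl N53565 D192347
theorem N89444 : nd 89444 = n192348 := ndS (p := 53568) (l := 5) rfl N53568 D192348
theorem N89445 : nd 89445 = n192349 := ndS (p := 53569) (l := 4) rfl N53569 D192349
theorem N89446 : nd 89446 = n192350 := ndS (p := 53569) (l := 5) rfl N53569 D192350
theorem N89447 : nd 89447 = n192351 := ndS (p := 53569) (l := 6) rfl N53569 D192351
theorem N89448 : nd 89448 = n192352 := ndS (p := 53570) (l := 6) rfl N53570 D192352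
theorem N89449 : nd 89449 = n192353 := ndS (p := 53571) (l := 0) rfl N53571 D192353
theorem N89450 : nd 89450 = n192354 := ndS (p := 53571) (l := 1) rfl N53571 D192354
theorem N89451 : nd 89451 = n192355 := ndS (p := 53571) (l := 4) rfl N53571 D192355
theorem N89452 : nd 89452 = n192356 := ndS (p := 53571) (l := 6) rfl N53571 D192356
theorem N89453 : nd 89453 = n192357 := ndS (p := 53572) (l := 0) rfl N53572 D192357
theorem N89454 : nd 89454 = n192358 := ndS (p := 53572) (l := 1) rfl N53572 D192358
theorem N89455 : nd 89455 = n192359 := ndS (p := 53572) (l := 5) rfl N53572 D192359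
theorem N89456 : nd 89456 = n192360 := ndS (p := 53572) (l := 7) rfl N53572 D192360
theorem N89457 : nd 89457 = n192361 := ndS (p := 53574) (l := 4) rfl N53574 D192361
theorem N89458 : nd 89458 = n192362 := ndS (p := 53574) (l := 6) rfl N53574 D192362
theorem N89459 : nd 89459 = n192363 := ndS (p := 53575) (l := 0) rfl N53575 D192363
theorem N89460 : nd 89460 = n192364 := ndS (p := 53575) (l := 5) rfl N53575 D192364
theorem N89461 : nd 89461 = n192365 := ndS (p := 53575) (l := 7) rfl N53575 D192365
theorem N89462 : nd 89462 = n192366 := ndS (p := 53576) (l := 3) rfl N53576 D192366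
theorem N89463 : nd 89463 = n192367 := ndS (p := 53576) (l := 5) rfl N53576 D192367
theorem N89464 : nd 89464 = n192368 := ndS (p := 53576) (l := 6) rfl N53576 D192368
theorem N89465 : nd 89465 = n192369 := ndS (p := 53577) (l := 5) rfl N53577 D192369
theorem N89466 : nd 89466 = n192370 := ndS (p := 53577) (l := 7) rfl N53577 D192370
theorem N89467 : nd 89467 = n192371 := ndS (p := 53579) (l := 4) rfl N53579 D192371
theorem N89468 : nd 89468 = n192372 := ndS (p := 53579) (l := 7) rfl N53579 D192372
theorem N89469 : nd 89469 = n192374 := ndS (p := 53582) (l := 3) rfl N53582 D192374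
theorem N89470 : nd 89470 = n192375 := ndS (p := 53582) (l := 6) rfl N53582 D192375
theorem N89471 : nd 89471 = n192376 := ndS (p := 53584) (l := 2) rfl N53584 D192376
theorem N89472 : nd 89472 = n192377 := ndS (p := 53584) (l := 4) rfl N53584 D192377
theorem N89473 : nd 89473 = n192378 := ndS (p := 53584) (l := 6) rfl N53584 D192378
theorem N89474 : nd 89474 = n192379 := ndS (p := 53585) (l := 3) rfl N53585 D192379
theorem N89475 : nd 89475 = n192380 := ndS (p := 53585) (l := 6) rfl N53585 D192380
theorem N89476 : nd 89476 = n192381 := ndS (p := 53586) (l := 7) rfl N53586 D192381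
theorem N89477 : nd 89477 = n192382 := ndS (p := 53587) (l := 3) rfl N53587 D192382
theorem N89478 : nd 89478 = n192383 := ndS (p := 53587) (l := 5) rfl N53587 D192383
theorem N89479 : nd 89479 = n192384 := ndS (p := 53588) (l := 3) rfl N53588 D192384
theorem N89480 : nd 89480 = n192385 := ndS (p := 53588) (l := 5) rfl N53588 D192385
theorem N89481 : nd 89481 = n192386 := ndS (p := 53588) (l := 6) rfl N53588 D192386
theorem N89482 : nd 89482 = n192387 := ndS (p := 53589) (l := 0) rfl N53589 D192387
theorem N89483 : nd 89483 = n192388 := ndS (p := 53589) (l := 1) rfl N53589 D192388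
theorem N89484 : nd 89484 = n192389 := ndS (p := 53589) (l := 4) rfl N53589 D192389
theorem N89485 : nd 89485 = n192390 := ndS (p := 53590) (l := 5) rfl N53590 D192390
theorem N89486 : nd 89486 = n192391 := ndS (p := 53591) (l := 4) rfl N53591 D192391
theorem N89487 : nd 89487 = n192392 := ndS (p := 53592) (l := 4) rfl N53592 D192392
theorem N89488 : nd 89488 = n192393 := ndS (p := 53592) (l := 6) rfl N53592 D192393
theorem N89489 : nd 89489 = n192394 := ndS (p := 53593) (l := 4) rfl N53593 D192394
theorem N89490 : nd 89490 = n192395 := ndS (p := 53594) (l := 3) rfl N53594 D192395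
theorem N89491 : nd 89491 = n192396 := ndS (p := 53594) (l := 4) rfl N53594 D192396
theorem N89492 : nd 89492 = n192397 := ndS (p := 53594) (l := 6) rfl N53594 D192397
theorem N89493 : nd 89493 = n192398 := ndS (p := 53595) (l := 3) rfl N53595 D192398
theorem N89494 : nd 89494 = n192399 := ndS (p := 53595) (l := 5) rfl N53595 D192399
theorem N89495 : nd 89495 = n192400 := ndS (p := 53595) (l := 6) rfl N53595 D192400
theorem N89496 : nd 89496 = n192401 := ndS (p := 53596) (l := 0) rfl N53596 D192401
theorem N89497 : nd 89497 = n192402 := ndS (p := 53596) (l := 1) rfl N53596 D192402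
theorem N89498 : nd 89498 = n192403 := ndS (p := 53596) (l := 7) rfl N53596 D192403
theorem N89499 : nd 89499 = n192404 := ndS (p := 53599) (l := 6) rfl N53599 D192404
theorem N89500 : nd 89500 = n192406 := ndS (p := 53601) (l := 6) rfl N53601 D192406
theorem N89501 : nd 89501 = n192407 := ndS (p := 53602) (l := 0) rfl N53602 D192407
theorem N89502 : nd 89502 = n192408 := ndS (p := 53602) (l := 1) rfl N53602 D192408
theorem N89503 : nd 89503 = n192409 := ndS (p := 53602) (l := 5) rfl N53602 D192409
theorem N89504 : nd 89504 = n192410 := ndS (p := 53602) (l := 7) rfl N53602 D192410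
theorem N89505 : nd 89505 = n192411 := ndS (p := 53603) (l := 4) rfl N53603 D192411
theorem N89506 : nd 89506 = n192412 := ndS (p := 53605) (l := 5) rfl N53605 D192412
theorem N89507 : nd 89507 = n192413 := ndS (p := 53606) (l := 4) rfl N53606 D192413
theorem N89508 : nd 89508 = n192414 := ndS (p := 53607) (l := 5) rfl N53607 D192414
theorem N89509 : nd 89509 = n192415 := ndS (p := 53608) (l := 4) rfl N53608 D192415
theorem N89510 : nd 89510 = n192416 := ndS (p := 53608) (l := 6) rfl N53608 D192416
theorem N89511 : nd 89511 = n192417 := ndS (p := 53609) (l := 3) rfl N53609 D192417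
theorem N89512 : nd 89512 = n192418 := ndS (p := 53610) (l := 4) rfl N53610 D192418
theorem N89513 : nd 89513 = n192419 := ndS (p := 53610) (l := 6) rfl N53610 D192419
theorem N89514 : nd 89514 = n192420 := ndS (p := 53612) (l := 4) rfl N53612 D192420
theorem N89515 : nd 89515 = n192421 := ndS (p := 53612) (l := 6) rfl N53612 D192421
theorem N89516 : nd 89516 = n192422 := ndS (p := 53613) (l := 4) rfl N53613 D192422
theorem N89517 : nd 89517 = n192423 := ndS (p := 53613) (l := 6) rfl N53613 D192423
theorem N89518 : nd 89518 = n192424 := ndS (p := 53614) (l := 0) rfl N53614 D192424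
theorem N89519 : nd 89519 = n192425 := ndS (p := 53614) (l := 1) rfl N53614 D192425
theorem N89520 : nd 89520 = n192426 := ndS (p := 53614) (l := 3) rfl N53614 D192426
theorem N89521 : nd 89521 = n192427 := ndS (p := 53614) (l := 5) rfl N53614 D192427
theorem N89522 : nd 89522 = n192428 := ndS (p := 53614) (l := 6) rfl N53614 D192428
theorem N89523 : nd 89523 = n192429 := ndS (p := 53615) (l := 0) rfl N53615 D192429
theorem N89524 : nd 89524 = n192430 := ndS (p := 53615) (l := 1) rfl N53615 D192430
theorem N89525 : nd 89525 = n192431 := ndS (p := 53615) (l := 5) rfl N53615 D192431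
theorem N89526 : nd 89526 = n192432 := ndS (p := 53615) (l := 7) rfl N53615 D192432
theorem N89527 : nd 89527 = n192433 := ndS (p := 53616) (l := 4) rfl N53616 D192433
theorem N89528 : nd 89528 = n192434 := ndS (p := 53617) (l := 0) rfl N53617 D192434
theorem N89529 : nd 89529 = n192435 := ndS (p := 53617) (l := 2) rfl N53617 D192435
theorem N89530 : nd 89530 = n192436 := ndS (p := 53617) (l := 6) rfl N53617 D192436
theorem N89531 : nd 89531 = n192437 := ndS (p := 53618) (l := 0) rfl N53618 D192437
theorem N89532 : nd 89532 = n192438 := ndS (p := 53618) (l := 1) rfl N53618 D192438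
theorem N89533 : nd 89533 = n192439 := ndS (p := 53618) (l := 7) rfl N53618 D192439
theorem N89534 : nd 89534 = n192440 := ndS (p := 53620) (l := 3) rfl N53620 D192440
theorem N89535 : nd 89535 = n192441 := ndS (p := 53621) (l := 0) rfl N53621 D192441
theorem N89536 : nd 89536 = n192442 := ndS (p := 53621) (l := 1) rfl N53621 D192442
theorem N89537 : nd 89537 = n192443 := ndS (p := 53621) (l := 7) rfl N53621 D192443
theorem N89538 : nd 89538 = n192444 := ndS (p := 53623) (l := 3) rfl N53623 D192444
theorem N89539 : nd 89539 = n192445 := ndS (p := 53624) (l := 4) rfl N53624 D192445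
theorem N89540 : nd 89540 = n192446 := ndS (p := 53624) (l := 6) rfl N53624 D192446
theorem N89541 : nd 89541 = n192447 := ndS (p := 53625) (l := 0) rfl N53625 D192447
theorem N89542 : nd 89542 = n192448 := ndS (p := 53625) (l := 3) rfl N53625 D192448
theorem N89543 : nd 89543 = n192449 := ndS (p := 53625) (l := 5) rfl N53625 D192449
theorem N89544 : nd 89544 = n192450 := ndS (p := 53625) (l := 6) rfl N53625 D192450
theorem N89545 : nd 89545 = n192451 := ndS (p := 53626) (l := 0) rfl N53626 D192451
theorem N89546 : nd 89546 = n192452 := ndS (p := 53626) (l := 1) rfl N53626 D192452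
theorem N89547 : nd 89547 = n192453 := ndS (p := 53626) (l := 7) rfl N53626 D192453
theorem N89548 : nd 89548 = n192454 := ndS (p := 53627) (l := 0) rfl N53627 D192454
theorem N89549 : nd 89549 = n192455 := ndS (p := 53627) (l := 2) rfl N53627 D192455
theorem N89550 : nd 89550 = n192456 := ndS (p := 53627) (l := 6) rfl N53627 D192456
theorem N89551 : nd 89551 = n192457 := ndS (p := 53628) (l := 0) rfl N53628 D192457
theorem N89552 : nd 89552 = n192458 := ndS (p := 53628) (l := 1) rfl N53628 D192458
theorem N89553 : nd 89553 = n192459 := ndS (p := 53628) (l := 5) rfl N53628 D192459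
theorem N89554 : nd 89554 = n192460 := ndS (p := 53628) (l := 7) rfl N53628 D192460
theorem N89555 : nd 89555 = n192464 := ndS (p := 53629) (l := 5) rfl N53629 D192464
theorem N89556 : nd 89556 = n192468 := ndS (p := 53630) (l := 5) rfl N53630 D192468
theorem N89557 : nd 89557 = n192470 := ndS (p := 53632) (l := 4) rfl N53632 D192470
theorem N89558 : nd 89558 = n192471 := ndS (p := 53632) (l := 6) rfl N53632 D192471
theorem N89559 : nd 89559 = n192472 := ndS (p := 53633) (l := 1) rfl N53633 D192472
theorem N89560 : nd 89560 = n192473 := ndS (p := 53633) (l := 3) rfl N53633 D192473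
theorem N89561 : nd 89561 = n192474 := ndS (p := 53633) (l := 5) rfl N53633 D192474
theorem N89562 : nd 89562 = n192475 := ndS (p := 53633) (l := 6) rfl N53633 D192475
theorem N89563 : nd 89563 = n192476 := ndS (p := 53634) (l := 0) rfl N53634 D192476
theorem N89564 : nd 89564 = n192477 := ndS (p := 53634) (l := 1) rfl N53634 D192477
theorem N89565 : nd 89565 = n192478 := ndS (p := 53634) (l := 7) rfl N53634 D192478
theorem N89566 : nd 89566 = n192479 := ndS (p := 53635) (l := 0) rfl N53635 D192479
theorem N89567 : nd 89567 = n192480 := ndS (p := 53635) (l := 2) rfl N53635 D192480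
theorem N89568 : nd 89568 = n192481 := ndS (p := 53635) (l := 6) rfl N53635 D192481
theorem N89569 : nd 89569 = n192482 := ndS (p := 53636) (l := 0) rfl N53636 D192482
theorem N89570 : nd 89570 = n192483 := ndS (p := 53636) (l := 1) rfl N53636 D192483
theorem N89571 : nd 89571 = n192484 := ndS (p := 53636) (l := 5) rfl N53636 D192484
theorem N89572 : nd 89572 = n192485 := ndS (p := 53636) (l := 7) rfl N53636 D192485
theorem N89573 : nd 89573 = n192486 := ndS (p := 53637) (l := 5) rfl N53637 D192486
theorem N89574 : nd 89574 = n192487 := ndS (p := 53640) (l := 4) rfl N53640 D192487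
theorem N89575 : nd 89575 = n192488 := ndS (p := 53640) (l := 6) rfl N53640 D192488
theorem N89576 : nd 89576 = n192489 := ndS (p := 53641) (l := 6) rfl N53641 D192489
theorem N89577 : nd 89577 = n192490 := ndS (p := 53642) (l := 0) rfl N53642 D192490
theorem N89578 : nd 89578 = n192491 := ndS (p := 53642) (l := 1) rfl N53642 D192491
theorem N89579 : nd 89579 = n192492 := ndS (p := 53642) (l := 3) rfl N53642 D192492
theorem N89580 : nd 89580 = n192493 := ndS (p := 53642) (l := 5) rfl N53642 D192493
theorem N89581 : nd 89581 = n192494 := ndS (p := 53643) (l := 7) rfl N53643 D192494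
theorem N89582 : nd 89582 = n192495 := ndS (p := 53644) (l := 6) rfl N53644 D192495
theorem N89583 : nd 89583 = n192496 := ndS (p := 53645) (l := 3) rfl N53645 D192496
theorem N89584 : nd 89584 = n192497 := ndS (p := 53645) (l := 6) rfl N53645 D192497
theorem N89585 : nd 89585 = n192498 := ndS (p := 53646) (l := 1) rfl N53646 D192498
theorem N89586 : nd 89586 = n192499 := ndS (p := 53646) (l := 7) rfl N53646 D192499
theorem N89587 : nd 89587 = n192500 := ndS (p := 53647) (l := 0) rfl N53647 D192500
theorem N89588 : nd 89588 = n192501 := ndS (p := 53647) (l := 1) rfl N53647 D192501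
theorem N89589 : nd 89589 = n192502 := ndS (p := 53647) (l := 2) rfl N53647 D192502
theorem N89590 : nd 89590 = n192503 := ndS (p := 53647) (l := 6) rfl N53647 D192503
theorem N89591 : nd 89591 = n192504 := ndS (p := 53648) (l := 5) rfl N53648 D192504
theorem N89592 : nd 89592 = n192505 := ndS (p := 53648) (l := 7) rfl N53648 D192505
theorem N89593 : nd 89593 = n192506 := ndS (p := 53649) (l := 3) rfl N53649 D192506
theorem N89594 : nd 89594 = n192507 := ndS (p := 53649) (l := 4) rfl N53649 D192507
theorem N89595 : nd 89595 = n192508 := ndS (p := 53649) (l := 5) rfl N53649 D192508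
theorem N89596 : nd 89596 = n192509 := ndS (p := 53650) (l := 4) rfl N53650 D192509
theorem N89597 : nd 89597 = n192510 := ndS (p := 53652) (l := 2) rfl N53652 D192510
theorem N89598 : nd 89598 = n192511 := ndS (p := 53653) (l := 3) rfl N53653 D192511
theorem N89599 : nd 89599 = n192512 := ndS (p := 53653) (l := 4) rfl N53653 D192512
theorem N89600 : nd 89600 = n192513 := ndS (p := 53654) (l := 0) rfl N53654 D192513
theorem N89601 : nd 89601 = n192514 := ndS (p := 53654) (l := 1) rfl N53654 D192514
theorem N89602 : nd 89602 = n192515 := ndS (p := 53655) (l := 5) rfl N53655 D192515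
theorem N89603 : nd 89603 = n192516 := ndS (p := 53655) (l := 7) rfl N53655 D192516
theorem N89604 : nd 89604 = n192517 := ndS (p := 53656) (l := 3) rfl N53656 D192517
theorem N89605 : nd 89605 = n192518 := ndS (p := 53656) (l := 4) rfl N53656 D192518
theorem N89606 : nd 89606 = n192519 := ndS (p := 53656) (l := 5) rfl N53656 D192519
theorem N89607 : nd 89607 = n192520 := ndS (p := 53656) (l := 6) rfl N53656 D192520
theorem N89608 : nd 89608 = n192521 := ndS (p := 53657) (l := 3) rfl N53657 D192521
theorem N89609 : nd 89609 = n192522 := ndS (p := 53657) (l := 4) rfl N53657 D192522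
theorem N89610 : nd 89610 = n192523 := ndS (p := 53657) (l := 5) rfl N53657 D192523
theorem N89611 : nd 89611 = n192524 := ndS (p := 53658) (l := 0) rfl N53658 D192524
theorem N89612 : nd 89612 = n192525 := ndS (p := 53658) (l := 1) rfl N53658 D192525
theorem N89613 : nd 89613 = n192526 := ndS (p := 53658) (l := 7) rfl N53658 D192526
theorem N89614 : nd 89614 = n192527 := ndS (p := 53660) (l := 3) rfl N53660 D192527
theorem N89615 : nd 89615 = n192528 := ndS (p := 53661) (l := 4) rfl N53661 D192528
theorem N89616 : nd 89616 = n192529 := ndS (p := 53664) (l := 5) rfl N53664 D192529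
theorem N89617 : nd 89617 = n192530 := ndS (p := 53666) (l := 4) rfl N53666 D192530
theorem N89618 : nd 89618 = n192531 := ndS (p := 53666) (l := 6) rfl N53666 D192531
theorem N89619 : nd 89619 = n192532 := ndS (p := 53667) (l := 4) rfl N53667 D192532
theorem N89620 : nd 89620 = n192533 := ndS (p := 53667) (l := 6) rfl N53667 D192533
theorem N89621 : nd 89621 = n192534 := ndS (p := 53669) (l := 3) rfl N53669 D192534
theorem N89622 : nd 89622 = n192535 := ndS (p := 53669) (l := 6) rfl N53669 D192535
theorem N89623 : nd 89623 = n192536 := ndS (p := 53670) (l := 4) rfl N53670 D192536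
theorem N89624 : nd 89624 = n192537 := ndS (p := 53670) (l := 6) rfl N53670 D192537
theorem N89625 : nd 89625 = n192538 := ndS (p := 53671) (l := 3) rfl N53671 D192538
theorem N89626 : nd 89626 = n192539 := ndS (p := 53671) (l := 5) rfl N53671 D192539
theorem N89627 : nd 89627 = n192540 := ndS (p := 53672) (l := 3) rfl N53672 D192540
theorem N89628 : nd 89628 = n192541 := ndS (p := 53672) (l := 5) rfl N53672 D192541
theorem N89629 : nd 89629 = n192542 := ndS (p := 53674) (l := 0) rfl N53674 D192542
theorem N89630 : nd 89630 = n192543 := ndS (p := 53674) (l := 1) rfl N53674 D192543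
theorem N89631 : nd 89631 = n192544 := ndS (p := 53675) (l := 0) rfl N53675 D192544
theorem N89632 : nd 89632 = n192545 := ndS (p := 53675) (l := 1) rfl N53675 D192545
theorem N89633 : nd 89633 = n192546 := ndS (p := 53675) (l := 2) rfl N53675 D192546
theorem N89634 : nd 89634 = n192547 := ndS (p := 53677) (l := 4) rfl N53677 D192547
theorem N89635 : nd 89635 = n192548 := ndS (p := 53677) (l := 6) rfl N53677 D192548
theorem N89636 : nd 89636 = n192549 := ndS (p := 53682) (l := 4) rfl N53682 D192549
theorem N89637 : nd 89637 = n192550 := ndS (p := 53682) (l := 6) rfl N53682 D192550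
theorem N89638 : nd 89638 = n192551 := ndS (p := 53683) (l := 0) rfl N53683 D192551
theorem N89639 : nd 89639 = n192552 := ndS (p := 53683) (l := 1) rfl N53683 D192552
theorem N89640 : nd 89640 = n192553 := ndS (p := 53683) (l := 5) rfl N53683 D192553
theorem N89641 : nd 89641 = n192554 := ndS (p := 53684) (l := 4) rfl N53684 D192554
theorem N89642 : nd 89642 = n192555 := ndS (p := 53684) (l := 6) rfl N53684 D192555
theorem N89643 : nd 89643 = n192556 := ndS (p := 53685) (l := 4) rfl N53685 D192556
theorem N89644 : nd 89644 = n192559 := ndS (p := 53686) (l := 3) rfl N53686 D192559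
theorem N89645 : nd 89645 = n192560 := ndS (p := 53686) (l := 7) rfl N53686 D192560
theorem N89646 : nd 89646 = n192561 := ndS (p := 53687) (l := 6) rfl N53687 D192561
theorem N89647 : nd 89647 = n192562 := ndS (p := 53688) (l := 0) rfl N53688 D192562
theorem N89648 : nd 89648 = n192563 := ndS (p := 53689) (l := 4) rfl N53689 D192563
theorem N89649 : nd 89649 = n192564 := ndS (p := 53689) (l := 6) rfl N53689 D192564
theorem N89650 : nd 89650 = n192565 := ndS (p := 53691) (l := 4) rfl N53691 D192565
theorem N89651 : nd 89651 = n192566 := ndS (p := 53693) (l := 5) rfl N53693 D192566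
theorem N89652 : nd 89652 = n192567 := ndS (p := 53694) (l := 4) rfl N53694 D192567
theorem N89653 : nd 89653 = n192568 := ndS (p := 53694) (l := 6) rfl N53694 D192568
theorem N89654 : nd 89654 = n192569 := ndS (p := 53695) (l := 6) rfl N53695 D192569
theorem N89655 : nd 89655 = n192570 := ndS (p := 53697) (l := 0) rfl N53697 D192570
theorem N89656 : nd 89656 = n192571 := ndS (p := 53697) (l := 1) rfl N53697 D192571
theorem N89657 : nd 89657 = n192572 := ndS (p := 53697) (l := 3) rfl N53697 D192572
theorem N89658 : nd 89658 = n192573 := ndS (p := 53697) (l := 5) rfl N53697 D192573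
theorem N89659 : nd 89659 = n192574 := ndS (p := 53699) (l := 0) rfl N53699 D192574
theorem N89660 : nd 89660 = n192575 := ndS (p := 53699) (l := 1) rfl N53699 D192575
theorem N89661 : nd 89661 = n192576 := ndS (p := 53699) (l := 5) rfl N53699 D192576
theorem N89662 : nd 89662 = n192577 := ndS (p := 53700) (l := 1) rfl N53700 D192577
theorem N89663 : nd 89663 = n192578 := ndS (p := 53701) (l := 5) rfl N53701 D192578
theorem N89664 : nd 89664 = n192579 := ndS (p := 53702) (l := 6) rfl N53702 D192579
theorem N89665 : nd 89665 = n192580 := ndS (p := 53706) (l := 6) rfl N53706 D192580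
theorem N89666 : nd 89666 = n192581 := ndS (p := 53707) (l := 0) rfl N53707 D192581
theorem N89667 : nd 89667 = n192582 := ndS (p := 53707) (l := 5) rfl N53707 D192582
theorem N89668 : nd 89668 = n192583 := ndS (p := 53707) (l := 6) rfl N53707 D192583
theorem N89669 : nd 89669 = n192585 := ndS (p := 53708) (l := 1) rfl N53708 D192585
theorem N89670 : nd 89670 = n192586 := ndS (p := 53708) (l := 7) rfl N53708 D192586
theorem N89671 : nd 89671 = n192587 := ndS (p := 53711) (l := 5) rfl N53711 D192587
theorem N89672 : nd 89672 = n192588 := ndS (p := 53712) (l := 3) rfl N53712 D192588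
theorem N89673 : nd 89673 = n192589 := ndS (p := 53712) (l := 6) rfl N53712 D192589
theorem N89674 : nd 89674 = n192590 := ndS (p := 53713) (l := 6) rfl N53713 D192590
theorem N89675 : nd 89675 = n192591 := ndS (p := 53714) (l := 0) rfl N53714 D192591
theorem N89676 : nd 89676 = n192592 := ndS (p := 53714) (l := 7) rfl N53714 D192592
theorem N89677 : nd 89677 = n192593 := ndS (p := 53716) (l := 5) rfl N53716 D192593
theorem N89678 : nd 89678 = n192594 := ndS (p := 53717) (l := 0) rfl N53717 D192594
theorem N89679 : nd 89679 = n192595 := ndS (p := 53717) (l := 1) rfl N53717 D192595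
theorem N89680 : nd 89680 = n192596 := ndS (p := 53717) (l := 4) rfl N53717 D192596
theorem N89681 : nd 89681 = n192597 := ndS (p := 53717) (l := 6) rfl N53717 D192597
theorem N89682 : nd 89682 = n192598 := ndS (p := 53718) (l := 4) rfl N53718 D192598
theorem N89683 : nd 89683 = n192599 := ndS (p := 53718) (l := 6) rfl N53718 D192599
theorem N89684 : nd 89684 = n192600 := ndS (p := 53719) (l := 0) rfl N53719 D192600
theorem N89685 : nd 89685 = n192601 := ndS (p := 53719) (l := 1) rfl N53719 D192601
theorem N89686 : nd 89686 = n192602 := ndS (p := 53719) (l := 5) rfl N53719 D192602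
theorem N89687 : nd 89687 = n192603 := ndS (p := 53720) (l := 1) rfl N53720 D192603
theorem N89688 : nd 89688 = n192604 := ndS (p := 53720) (l := 7) rfl N53720 D192604
theorem N89689 : nd 89689 = n192605 := ndS (p := 53721) (l := 3) rfl N53721 D192605
theorem N89690 : nd 89690 = n192606 := ndS (p := 53721) (l := 5) rfl N53721 D192606
theorem N89691 : nd 89691 = n192607 := ndS (p := 53722) (l := 0) rfl N53722 D192607
theorem N89692 : nd 89692 = n192608 := ndS (p := 53722) (l := 1) rfl N53722 D192608
theorem N89693 : nd 89693 = n192609 := ndS (p := 53722) (l := 7) rfl N53722 D192609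
theorem N89694 : nd 89694 = n192610 := ndS (p := 53723) (l := 5) rfl N53723 D192610
theorem N89695 : nd 89695 = n192611 := ndS (p := 53723) (l := 6) rfl N53723 D192611
theorem N89696 : nd 89696 = n192612 := ndS (p := 53724) (l := 0) rfl N53724 D192612
theorem N89697 : nd 89697 = n192613 := ndS (p := 53724) (l := 5) rfl N53724 D192613
theorem N89698 : nd 89698 = n192614 := ndS (p := 53726) (l := 0) rfl N53726 D192614
theorem N89699 : nd 89699 = n192615 := ndS (p := 53726) (l := 1) rfl N53726 D192615
theorem N89700 : nd 89700 = n192616 := ndS (p := 53726) (l := 5) rfl N53726 D192616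
theorem N89701 : nd 89701 = n192617 := ndS (p := 53729) (l := 5) rfl N53729 D192617
theorem N89702 : nd 89702 = n192618 := ndS (p := 53729) (l := 6) rfl N53729 D192618
theorem N89703 : nd 89703 = n192619 := ndS (p := 53730) (l := 3) rfl N53730 D192619
theorem N89704 : nd 89704 = n192620 := ndS (p := 53730) (l := 5) rfl N53730 D192620
theorem N89705 : nd 89705 = n192621 := ndS (p := 53730) (l := 6) rfl N53730 D192621
theorem N89706 : nd 89706 = n192622 := ndS (p := 53731) (l := 0) rfl N53731 D192622
theorem N89707 : nd 89707 = n192623 := ndS (p := 53731) (l := 2) rfl N53731 D192623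
theorem N89708 : nd 89708 = n192624 := ndS (p := 53731) (l := 5) rfl N53731 D192624
theorem N89709 : nd 89709 = n192625 := ndS (p := 53731) (l := 7) rfl N53731 D192625
theorem N89710 : nd 89710 = n192626 := ndS (p := 53732) (l := 0) rfl N53732 D192626
theorem N89711 : nd 89711 = n192627 := ndS (p := 53732) (l := 1) rfl N53732 D192627
theorem N89712 : nd 89712 = n192628 := ndS (p := 53732) (l := 4) rfl N53732 D192628
theorem N89713 : nd 89713 = n192629 := ndS (p := 53732) (l := 6) rfl N53732 D192629
theorem N89714 : nd 89714 = n192630 := ndS (p := 53732) (l := 7) rfl N53732 D192630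
theorem N89715 : nd 89715 = n192631 := ndS (p := 53734) (l := 5) rfl N53734 D192631
theorem N89716 : nd 89716 = n192632 := ndS (p := 53734) (l := 6) rfl N53734 D192632
theorem N89717 : nd 89717 = n192633 := ndS (p := 53735) (l := 6) rfl N53735 D192633
theorem N89718 : nd 89718 = n192634 := ndS (p := 53736) (l := 0) rfl N53736 D192634
theorem N89719 : nd 89719 = n192635 := ndS (p := 53736) (l := 1) rfl N53736 D192635
theorem N89720 : nd 89720 = n192636 := ndS (p := 53736) (l := 7) rfl N53736 D192636
theorem N89721 : nd 89721 = n192637 := ndS (p := 53737) (l := 0) rfl N53737 D192637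
theorem N89722 : nd 89722 = n192638 := ndS (p := 53737) (l := 1) rfl N53737 D192638
theorem N89723 : nd 89723 = n192639 := ndS (p := 53737) (l := 4) rfl N53737 D192639
theorem N89724 : nd 89724 = n192640 := ndS (p := 53737) (l := 6) rfl N53737 D192640
theorem N89725 : nd 89725 = n192641 := ndS (p := 53738) (l := 1) rfl N53738 D192641
theorem N89726 : nd 89726 = n192642 := ndS (p := 53739) (l := 4) rfl N53739 D192642
theorem N89727 : nd 89727 = n192643 := ndS (p := 53739) (l := 6) rfl N53739 D192643
theorem N89728 : nd 89728 = n192644 := ndS (p := 53740) (l := 4) rfl N53740 D192644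
theorem N89729 : nd 89729 = n192645 := ndS (p := 53741) (l := 0) rfl N53741 D192645
theorem N89730 : nd 89730 = n192646 := ndS (p := 53741) (l := 3) rfl N53741 D192646
theorem N89731 : nd 89731 = n192647 := ndS (p := 53741) (l := 6) rfl N53741 D192647
theorem N89732 : nd 89732 = n192648 := ndS (p := 53742) (l := 7) rfl N53742 D192648
theorem N89733 : nd 89733 = n192649 := ndS (p := 53745) (l := 4) rfl N53745 D192649
theorem N89734 : nd 89734 = n192650 := ndS (p := 53745) (l := 5) rfl N53745 D192650
theorem N89735 : nd 89735 = n192651 := ndS (p := 53746) (l := 5) rfl N53746 D192651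
theorem N89736 : nd 89736 = n192652 := ndS (p := 53746) (l := 6) rfl N53746 D192652
theorem N89737 : nd 89737 = n192653 := ndS (p := 53747) (l := 3) rfl N53747 D192653
theorem N89738 : nd 89738 = n192654 := ndS (p := 53747) (l := 6) rfl N53747 D192654
theorem N89739 : nd 89739 = n192655 := ndS (p := 53748) (l := 0) rfl N53748 D192655
theorem N89740 : nd 89740 = n192656 := ndS (p := 53748) (l := 1) rfl N53748 D192656
theorem N89741 : nd 89741 = n192657 := ndS (p := 53748) (l := 4) rfl N53748 D192657
theorem N89742 : nd 89742 = n192658 := ndS (p := 53748) (l := 6) rfl N53748 D192658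
theorem N89743 : nd 89743 = n192659 := ndS (p := 53749) (l := 5) rfl N53749 D192659
theorem N89744 : nd 89744 = n192660 := ndS (p := 53749) (l := 7) rfl N53749 D192660
theorem N89745 : nd 89745 = n192661 := ndS (p := 53750) (l := 5) rfl N53750 D192661
theorem N89746 : nd 89746 = n192662 := ndS (p := 53751) (l := 4) rfl N53751 D192662
theorem N89747 : nd 89747 = n192663 := ndS (p := 53751) (l := 6) rfl N53751 D192663
theorem N89748 : nd 89748 = n192664 := ndS (p := 53753) (l := 3) rfl N53753 D192664
theorem N89749 : nd 89749 = n192665 := ndS (p := 53753) (l := 6) rfl N53753 D192665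
theorem N89750 : nd 89750 = n192667 := ndS (p := 53754) (l := 5) rfl N53754 D192667
theorem N89751 : nd 89751 = n192668 := ndS (p := 53758) (l := 4) rfl N53758 D192668
theorem N89752 : nd 89752 = n192669 := ndS (p := 53758) (l := 6) rfl N53758 D192669
theorem N89753 : nd 89753 = n192670 := ndS (p := 53759) (l := 3) rfl N53759 D192670
theorem N89754 : nd 89754 = n192671 := ndS (p := 53759) (l := 6) rfl N53759 D192671
theorem N89755 : nd 89755 = n192672 := ndS (p := 53760) (l := 0) rfl N53760 D192672
theorem N89756 : nd 89756 = n192673 := ndS (p := 53760) (l := 1) rfl N53760 D192673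
theorem N89757 : nd 89757 = n192674 := ndS (p := 53760) (l := 5) rfl N53760 D192674
theorem N89758 : nd 89758 = n192675 := ndS (p := 53760) (l := 7) rfl N53760 D192675
theorem N89759 : nd 89759 = n192678 := ndS (p := 53762) (l := 6) rfl N53762 D192678
theorem N89760 : nd 89760 = n192680 := ndS (p := 53763) (l := 7) rfl N53763 D192680
theorem N89761 : nd 89761 = n192681 := ndS (p := 53764) (l := 5) rfl N53764 D192681
theorem N89762 : nd 89762 = n192682 := ndS (p := 53764) (l := 6) rfl N53764 D192682
theorem N89763 : nd 89763 = n192683 := ndS (p := 53765) (l := 3) rfl N53765 D192683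
theorem N89764 : nd 89764 = n192684 := ndS (p := 53765) (l := 5) rfl N53765 D192684
theorem N89765 : nd 89765 = n192685 := ndS (p := 53765) (l := 6) rfl N53765 D192685
theorem N89766 : nd 89766 = n192686 := ndS (p := 53766) (l := 2) rfl N53766 D192686
theorem N89767 : nd 89767 = n192687 := ndS (p := 53766) (l := 5) rfl N53766 D192687
theorem N89768 : nd 89768 = n192688 := ndS (p := 53766) (l := 7) rfl N53766 D192688
theorem N89769 : nd 89769 = n192689 := ndS (p := 53767) (l := 1) rfl N53767 D192689
theorem N89770 : nd 89770 = n192690 := ndS (p := 53767) (l := 4) rfl N53767 D192690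
theorem N89771 : nd 89771 = n192691 := ndS (p := 53767) (l := 7) rfl N53767 D192691
theorem N89772 : nd 89772 = n192692 := ndS (p := 53770) (l := 6) rfl N53770 D192692
theorem N89773 : nd 89773 = n192693 := ndS (p := 53771) (l := 6) rfl N53771 D192693
theorem N89774 : nd 89774 = n192694 := ndS (p := 53773) (l := 0) rfl N53773 D192694
theorem N89775 : nd 89775 = n192695 := ndS (p := 53773) (l := 1) rfl N53773 D192695
theorem N89776 : nd 89776 = n192696 := ndS (p := 53773) (l := 7) rfl N53773 D192696
theorem N89777 : nd 89777 = n192697 := ndS (p := 53774) (l := 3) rfl N53774 D192697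
theorem N89778 : nd 89778 = n192698 := ndS (p := 53774) (l := 6) rfl N53774 D192698
theorem N89779 : nd 89779 = n192699 := ndS (p := 53775) (l := 3) rfl N53775 D192699
theorem N89780 : nd 89780 = n192700 := ndS (p := 53776) (l := 0) rfl N53776 D192700
theorem N89781 : nd 89781 = n192701 := ndS (p := 53776) (l := 1) rfl N53776 D192701
theorem N89782 : nd 89782 = n192702 := ndS (p := 53776) (l := 5) rfl N53776 D192702
theorem N89783 : nd 89783 = n192703 := ndS (p := 53776) (l := 7) rfl N53776 D192703
theorem N89784 : nd 89784 = n192704 := ndS (p := 53777) (l := 3) rfl N53777 D192704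
theorem N89785 : nd 89785 = n192705 := ndS (p := 53777) (l := 5) rfl N53777 D192705
theorem N89786 : nd 89786 = n192706 := ndS (p := 53778) (l := 5) rfl N53778 D192706
theorem N89787 : nd 89787 = n192707 := ndS (p := 53778) (l := 6) rfl N53778 D192707
theorem N89788 : nd 89788 = n192708 := ndS (p := 53780) (l := 5) rfl N53780 D192708
theorem N89789 : nd 89789 = n192709 := ndS (p := 53781) (l := 6) rfl N53781 D192709
theorem N89790 : nd 89790 = n192710 := ndS (p := 53782) (l := 6) rfl N53782 D192710
theorem N89791 : nd 89791 = n192713 := ndS (p := 53785) (l := 6) rfl N53785 D192713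
theorem N89792 : nd 89792 = n192714 := ndS (p := 53786) (l := 0) rfl N53786 D192714
theorem N89793 : nd 89793 = n192715 := ndS (p := 53786) (l := 1) rfl N53786 D192715
theorem N89794 : nd 89794 = n192716 := ndS (p := 53786) (l := 7) rfl N53786 D192716
theorem N89795 : nd 89795 = n192717 := ndS (p := 53787) (l := 3) rfl N53787 D192717
theorem N89796 : nd 89796 = n192719 := ndS (p := 53789) (l := 1) rfl N53789 D192719
theorem N89797 : nd 89797 = n192720 := ndS (p := 53789) (l := 5) rfl N53789 D192720
theorem N89798 : nd 89798 = n192721 := ndS (p := 53789) (l := 7) rfl N53789 D192721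
theorem N89799 : nd 89799 = n192723 := ndS (p := 53790) (l := 5) rfl N53790 D192723
theorem N89800 : nd 89800 = n192724 := ndS (p := 53790) (l := 6) rfl N53790 D192724
theorem N89801 : nd 89801 = n192725 := ndS (p := 53795) (l := 0) rfl N53795 D192725
theorem N89802 : nd 89802 = n192726 := ndS (p := 53795) (l := 5) rfl N53795 D192726
theorem N89803 : nd 89803 = n192727 := ndS (p := 53795) (l := 7) rfl N53795 D192727
theorem N89804 : nd 89804 = n192728 := ndS (p := 53796) (l := 0) rfl N53796 D192728
theorem N89805 : nd 89805 = n192729 := ndS (p := 53796) (l := 1) rfl N53796 D192729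
theorem N89806 : nd 89806 = n192730 := ndS (p := 53796) (l := 7) rfl N53796 D192730
theorem N89807 : nd 89807 = n192731 := ndS (p := 53797) (l := 3) rfl N53797 D192731
theorem N89808 : nd 89808 = n192732 := ndS (p := 53797) (l := 5) rfl N53797 D192732
theorem N89809 : nd 89809 = n192734 := ndS (p := 53798) (l := 4) rfl N53798 D192734
theorem N89810 : nd 89810 = n192735 := ndS (p := 53798) (l := 5) rfl N53798 D192735
theorem N89811 : nd 89811 = n192736 := ndS (p := 53798) (l := 6) rfl N53798 D192736
theorem N89812 : nd 89812 = n192737 := ndS (p := 53799) (l := 1) rfl N53799 D192737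
theorem N89813 : nd 89813 = n192738 := ndS (p := 53799) (l := 7) rfl N53799 D192738
theorem N89814 : nd 89814 = n192739 := ndS (p := 53801) (l := 6) rfl N53801 D192739
theorem N89815 : nd 89815 = n192740 := ndS (p := 53802) (l := 0) rfl N53802 D192740
theorem N89816 : nd 89816 = n192741 := ndS (p := 53802) (l := 1) rfl N53802 D192741
theorem N89817 : nd 89817 = n192742 := ndS (p := 53803) (l := 7) rfl N53803 D192742
theorem N89818 : nd 89818 = n192743 := ndS (p := 53804) (l := 6) rfl N53804 D192743
theorem N89819 : nd 89819 = n192744 := ndS (p := 53807) (l := 5) rfl N53807 D192744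
theorem N89820 : nd 89820 = n192745 := ndS (p := 53808) (l := 6) rfl N53808 D192745
theorem N89821 : nd 89821 = n192746 := ndS (p := 53810) (l := 2) rfl N53810 D192746
theorem N89822 : nd 89822 = n192747 := ndS (p := 53810) (l := 5) rfl N53810 D192747
theorem N89823 : nd 89823 = n192748 := ndS (p := 53810) (l := 6) rfl N53810 D192748
theorem N89824 : nd 89824 = n192749 := ndS (p := 53811) (l := 6) rfl N53811 D192749
theorem N89825 : nd 89825 = n192750 := ndS (p := 53813) (l := 0) rfl N53813 D192750
theorem N89826 : nd 89826 = n192751 := ndS (p := 53813) (l := 3) rfl N53813 D192751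
theorem N89827 : nd 89827 = n192752 := ndS (p := 53813) (l := 5) rfl N53813 D192752
theorem N89828 : nd 89828 = n192753 := ndS (p := 53813) (l := 6) rfl N53813 D192753
theorem N89829 : nd 89829 = n192754 := ndS (p := 53813) (l := 7) rfl N53813 D192754
theorem N89830 : nd 89830 = n192755 := ndS (p := 53814) (l := 6) rfl N53814 D192755
theorem N89831 : nd 89831 = n192756 := ndS (p := 53816) (l := 6) rfl N53816 D192756
theorem N89832 : nd 89832 = n192757 := ndS (p := 53818) (l := 3) rfl N53818 D192757
theorem N89833 : nd 89833 = n192758 := ndS (p := 53818) (l := 4) rfl N53818 D192758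
theorem N89834 : nd 89834 = n192759 := ndS (p := 53818) (l := 6) rfl N53818 D192759
theorem N89835 : nd 89835 = n192760 := ndS (p := 53819) (l := 4) rfl N53819 D192760
theorem N89836 : nd 89836 = n192761 := ndS (p := 53819) (l := 6) rfl N53819 D192761
theorem N89837 : nd 89837 = n192762 := ndS (p := 53820) (l := 4) rfl N53820 D192762
theorem N89838 : nd 89838 = n192763 := ndS (p := 53821) (l := 3) rfl N53821 D192763
theorem N89839 : nd 89839 = n192764 := ndS (p := 53821) (l := 4) rfl N53821 D192764
theorem N89840 : nd 89840 = n192765 := ndS (p := 53821) (l := 6) rfl N53821 D192765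
theorem N89841 : nd 89841 = n192766 := ndS (p := 53822) (l := 0) rfl N53822 D192766
theorem N89842 : nd 89842 = n192767 := ndS (p := 53822) (l := 1) rfl N53822 D192767
theorem N89843 : nd 89843 = n192768 := ndS (p := 53822) (l := 5) rfl N53822 D192768
theorem N89844 : nd 89844 = n192769 := ndS (p := 53822) (l := 6) rfl N53822 D192769
theorem N89845 : nd 89845 = n192770 := ndS (p := 53823) (l := 0) rfl N53823 D192770
theorem N89846 : nd 89846 = n192771 := ndS (p := 53823) (l := 1) rfl N53823 D192771
theorem N89847 : nd 89847 = n192772 := ndS (p := 53823) (l := 7) rfl N53823 D192772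
theorem N89848 : nd 89848 = n192773 := ndS (p := 53824) (l := 3) rfl N53824 D192773
theorem N89849 : nd 89849 = n192774 := ndS (p := 53824) (l := 4) rfl N53824 D192774
theorem N89850 : nd 89850 = n192775 := ndS (p := 53824) (l := 6) rfl N53824 D192775
theorem N89851 : nd 89851 = n192776 := ndS (p := 53825) (l := 3) rfl N53825 D192776
theorem N89852 : nd 89852 = n192777 := ndS (p := 53825) (l := 4) rfl N53825 D192777
theorem N89853 : nd 89853 = n192778 := ndS (p := 53827) (l := 0) rfl N53827 D192778
theorem N89854 : nd 89854 = n192779 := ndS (p := 53827) (l := 1) rfl N53827 D192779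
theorem N89855 : nd 89855 = n192780 := ndS (p := 53827) (l := 7) rfl N53827 D192780
theorem N89856 : nd 89856 = n192781 := ndS (p := 53828) (l := 4) rfl N53828 D192781
theorem N89857 : nd 89857 = n192782 := ndS (p := 53828) (l := 6) rfl N53828 D192782
theorem N89858 : nd 89858 = n192783 := ndS (p := 53830) (l := 1) rfl N53830 D192783
theorem N89859 : nd 89859 = n192784 := ndS (p := 53830) (l := 7) rfl N53830 D192784
theorem N89860 : nd 89860 = n192785 := ndS (p := 53833) (l := 0) rfl N53833 D192785
theorem N89861 : nd 89861 = n192786 := ndS (p := 53833) (l := 1) rfl N53833 D192786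
theorem N89862 : nd 89862 = n192787 := ndS (p := 53833) (l := 7) rfl N53833 D192787
theorem N89863 : nd 89863 = n192788 := ndS (p := 53836) (l := 0) rfl N53836 D192788
theorem N89864 : nd 89864 = n192789 := ndS (p := 53837) (l := 0) rfl N53837 D192789
theorem N89865 : nd 89865 = n192790 := ndS (p := 53837) (l := 1) rfl N53837 D192790
theorem N89866 : nd 89866 = n192791 := ndS (p := 53837) (l := 7) rfl N53837 D192791
theorem N89867 : nd 89867 = n192792 := ndS (p := 53840) (l := 0) rfl N53840 D192792
theorem N89868 : nd 89868 = n192793 := ndS (p := 53840) (l := 7) rfl N53840 D192793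
theorem N89869 : nd 89869 = n192794 := ndS (p := 53841) (l := 4) rfl N53841 D192794
theorem N89870 : nd 89870 = n192795 := ndS (p := 53845) (l := 5) rfl N53845 D192795
theorem N89871 : nd 89871 = n192796 := ndS (p := 53846) (l := 1) rfl N53846 D192796
theorem N89872 : nd 89872 = n192797 := ndS (p := 53846) (l := 7) rfl N53846 D192797
theorem N89873 : nd 89873 = n192798 := ndS (p := 53847) (l := 6) rfl N53847 D192798
theorem N89874 : nd 89874 = n192799 := ndS (p := 53848) (l := 3) rfl N53848 D192799
theorem N89875 : nd 89875 = n192800 := ndS (p := 53848) (l := 4) rfl N53848 D192800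
theorem N89876 : nd 89876 = n192801 := ndS (p := 53848) (l := 5) rfl N53848 D192801
theorem N89877 : nd 89877 = n192802 := ndS (p := 53848) (l := 6) rfl N53848 D192802
theorem N89878 : nd 89878 = n192803 := ndS (p := 53849) (l := 4) rfl N53849 D192803
theorem N89879 : nd 89879 = n192804 := ndS (p := 53849) (l := 5) rfl N53849 D192804
theorem N89880 : nd 89880 = n192805 := ndS (p := 53850) (l := 6) rfl N53850 D192805
theorem N89881 : nd 89881 = n192806 := ndS (p := 53851) (l := 0) rfl N53851 D192806
theorem N89882 : nd 89882 = n192807 := ndS (p := 53851) (l := 1) rfl N53851 D192807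
theorem N89883 : nd 89883 = n192808 := ndS (p := 53854) (l := 7) rfl N53854 D192808
theorem N89884 : nd 89884 = n192809 := ndS (p := 53855) (l := 5) rfl N53855 D192809
theorem N89885 : nd 89885 = n192810 := ndS (p := 53855) (l := 6) rfl N53855 D192810
theorem N89886 : nd 89886 = n192811 := ndS (p := 53856) (l := 5) rfl N53856 D192811
theorem N89887 : nd 89887 = n192812 := ndS (p := 53857) (l := 0) rfl N53857 D192812
theorem N89888 : nd 89888 = n192813 := ndS (p := 53857) (l := 1) rfl N53857 D192813
theorem N89889 : nd 89889 = n192814 := ndS (p := 53860) (l := 0) rfl N53860 D192814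
theorem N89890 : nd 89890 = n192815 := ndS (p := 53860) (l := 4) rfl N53860 D192815
theorem N89891 : nd 89891 = n192816 := ndS (p := 53860) (l := 7) rfl N53860 D192816
theorem N89892 : nd 89892 = n192817 := ndS (p := 53862) (l := 4) rfl N53862 D192817
theorem N89893 : nd 89893 = n192818 := ndS (p := 53862) (l := 6) rfl N53862 D192818
theorem N89894 : nd 89894 = n192819 := ndS (p := 53863) (l := 5) rfl N53863 D192819
theorem N89895 : nd 89895 = n192820 := ndS (p := 53864) (l := 6) rfl N53864 D192820
theorem N89896 : nd 89896 = n192821 := ndS (p := 53865) (l := 0) rfl N53865 D192821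
theorem N89897 : nd 89897 = n192822 := ndS (p := 53865) (l := 3) rfl N53865 D192822
theorem N89898 : nd 89898 = n192823 := ndS (p := 53865) (l := 5) rfl N53865 D192823
theorem N89899 : nd 89899 = n192824 := ndS (p := 53865) (l := 7) rfl N53865 D192824
theorem N89900 : nd 89900 = n192825 := ndS (p := 53866) (l := 6) rfl N53866 D192825
theorem N89901 : nd 89901 = n192826 := ndS (p := 53867) (l := 5) rfl N53867 D192826
theorem N89902 : nd 89902 = n192827 := ndS (p := 53868) (l := 4) rfl N53868 D192827
theorem N89903 : nd 89903 = n192828 := ndS (p := 53869) (l := 1) rfl N53869 D192828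
theorem N89904 : nd 89904 = n192829 := ndS (p := 53870) (l := 6) rfl N53870 D192829
theorem N89905 : nd 89905 = n192830 := ndS (p := 53873) (l := 5) rfl N53873 D192830
theorem N89906 : nd 89906 = n192831 := ndS (p := 53874) (l := 0) rfl N53874 D192831
theorem N89907 : nd 89907 = n192832 := ndS (p := 53876) (l := 5) rfl N53876 D192832
theorem N89908 : nd 89908 = n192833 := ndS (p := 53877) (l := 4) rfl N53877 D192833
theorem N89909 : nd 89909 = n192834 := ndS (p := 53878) (l := 5) rfl N53878 D192834
theorem N89910 : nd 89910 = n192835 := ndS (p := 53878) (l := 6) rfl N53878 D192835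
theorem N89911 : nd 89911 = n192836 := ndS (p := 53879) (l := 4) rfl N53879 D192836
theorem N89912 : nd 89912 = n192837 := ndS (p := 53879) (l := 6) rfl N53879 D192837
theorem N89913 : nd 89913 = n192838 := ndS (p := 53884) (l := 6) rfl N53884 D192838
theorem N89914 : nd 89914 = n192839 := ndS (p := 53886) (l := 5) rfl N53886 D192839
theorem N89915 : nd 89915 = n192840 := ndS (p := 53886) (l := 6) rfl N53886 D192840
theorem N89916 : nd 89916 = n192841 := ndS (p := 53887) (l := 5) rfl N53887 D192841
theorem N89917 : nd 89917 = n192842 := ndS (p := 53887) (l := 6) rfl N53887 D192842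
theorem N89918 : nd 89918 = n192843 := ndS (p := 53888) (l := 0) rfl N53888 D192843
theorem N89919 : nd 89919 = n192844 := ndS (p := 53888) (l := 1) rfl N53888 D192844
theorem N89920 : nd 89920 = n192845 := ndS (p := 53888) (l := 7) rfl N53888 D192845
theorem N89921 : nd 89921 = n192846 := ndS (p := 53890) (l := 0) rfl N53890 D192846
theorem N89922 : nd 89922 = n192847 := ndS (p := 53890) (l := 6) rfl N53890 D192847
theorem N89923 : nd 89923 = n192848 := ndS (p := 53891) (l := 6) rfl N53891 D192848
theorem N89924 : nd 89924 = n192849 := ndS (p := 53894) (l := 6) rfl N53894 D192849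
theorem N89925 : nd 89925 = n192850 := ndS (p := 53897) (l := 0) rfl N53897 D192850
theorem N89926 : nd 89926 = n192851 := ndS (p := 53897) (l := 1) rfl N53897 D192851
theorem N89927 : nd 89927 = n192852 := ndS (p := 53898) (l := 5) rfl N53898 D192852
theorem N89928 : nd 89928 = n192853 := ndS (p := 53898) (l := 6) rfl N53898 D192853
theorem N89929 : nd 89929 = n192854 := ndS (p := 53899) (l := 6) rfl N53899 D192854
theorem N89930 : nd 89930 = n192855 := ndS (p := 53900) (l := 0) rfl N53900 D192855
theorem N89931 : nd 89931 = n192856 := ndS (p := 53900) (l := 5) rfl N53900 D192856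
theorem N89932 : nd 89932 = n192857 := ndS (p := 53900) (l := 7) rfl N53900 D192857
theorem N89933 : nd 89933 = n192858 := ndS (p := 53902) (l := 3) rfl N53902 D192858
theorem N89934 : nd 89934 = n192859 := ndS (p := 53902) (l := 6) rfl N53902 D192859
theorem N89935 : nd 89935 = n192860 := ndS (p := 53903) (l := 3) rfl N53903 D192860
theorem N89936 : nd 89936 = n192861 := ndS (p := 53906) (l := 4) rfl N53906 D192861
theorem N89937 : nd 89937 = n192862 := ndS (p := 53907) (l := 5) rfl N53907 D192862
theorem N89938 : nd 89938 = n192863 := ndS (p := 53912) (l := 4) rfl N53912 D192863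
theorem N89939 : nd 89939 = n192864 := ndS (p := 53912) (l := 6) rfl N53912 D192864
theorem N89940 : nd 89940 = n192865 := ndS (p := 53913) (l := 0) rfl N53913 D192865
theorem N89941 : nd 89941 = n192867 := ndS (p := 53913) (l := 5) rfl N53913 D192867
theorem N89942 : nd 89942 = n192868 := ndS (p := 53913) (l := 7) rfl N53913 D192868
theorem N89943 : nd 89943 = n192869 := ndS (p := 53914) (l := 6) rfl N53914 D192869
theorem N89944 : nd 89944 = n192870 := ndS (p := 53915) (l := 0) rfl N53915 D192870
theorem N89945 : nd 89945 = n192871 := ndS (p := 53915) (l := 5) rfl N53915 D192871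
theorem N89946 : nd 89946 = n192872 := ndS (p := 53915) (l := 7) rfl N53915 D192872
theorem N89947 : nd 89947 = n192873 := ndS (p := 53916) (l := 6) rfl N53916 D192873
theorem N89948 : nd 89948 = n192875 := ndS (p := 53917) (l := 1) rfl N53917 D192875
theorem N89949 : nd 89949 = n192876 := ndS (p := 53917) (l := 5) rfl N53917 D192876
theorem N89950 : nd 89950 = n192877 := ndS (p := 53917) (l := 7) rfl N53917 D192877
theorem N89951 : nd 89951 = n192878 := ndS (p := 53918) (l := 4) rfl N53918 D192878
theorem N89952 : nd 89952 = n192879 := ndS (p := 53920) (l := 1) rfl N53920 D192879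
theorem N89953 : nd 89953 = n192880 := ndS (p := 53921) (l := 4) rfl N53921 D192880
theorem N89954 : nd 89954 = n192881 := ndS (p := 53921) (l := 6) rfl N53921 D192881
theorem N89955 : nd 89955 = n192883 := ndS (p := 53923) (l := 1) rfl N53923 D192883
theorem N89956 : nd 89956 = n192884 := ndS (p := 53923) (l := 7) rfl N53923 D192884
theorem N89957 : nd 89957 = n192885 := ndS (p := 53928) (l := 6) rfl N53928 D192885
theorem N89958 : nd 89958 = n192886 := ndS (p := 53930) (l := 5) rfl N53930 D192886
theorem N89959 : nd 89959 = n192887 := ndS (p := 53932) (l := 0) rfl N53932 D192887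
theorem N89960 : nd 89960 = n192888 := ndS (p := 53932) (l := 1) rfl N53932 D192888
theorem N89961 : nd 89961 = n192889 := ndS (p := 53932) (l := 4) rfl N53932 D192889
theorem N89962 : nd 89962 = n192890 := ndS (p := 53932) (l := 7) rfl N53932 D192890
theorem N89963 : nd 89963 = n192891 := ndS (p := 53934) (l := 4) rfl N53934 D192891
theorem N89964 : nd 89964 = n192892 := ndS (p := 53934) (l := 6) rfl N53934 D192892
theorem N89965 : nd 89965 = n192893 := ndS (p := 53936) (l := 4) rfl N53936 D192893
theorem N89966 : nd 89966 = n192894 := ndS (p := 53939) (l := 3) rfl N53939 D192894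
theorem N89967 : nd 89967 = n192895 := ndS (p := 53939) (l := 5) rfl N53939 D192895
theorem N89968 : nd 89968 = n192896 := ndS (p := 53939) (l := 7) rfl N53939 D192896
theorem N89969 : nd 89969 = n192897 := ndS (p := 53940) (l := 6) rfl N53940 D192897
theorem N89970 : nd 89970 = n192898 := ndS (p := 53943) (l := 3) rfl N53943 D192898
theorem N89971 : nd 89971 = n192899 := ndS (p := 53944) (l := 7) rfl N53944 D192899
theorem N89972 : nd 89972 = n192900 := ndS (p := 53947) (l := 3) rfl N53947 D192900
theorem N89973 : nd 89973 = n192901 := ndS (p := 53947) (l := 6) rfl N53947 D192901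
theorem N89974 : nd 89974 = n192902 := ndS (p := 53952) (l := 1) rfl N53952 D192902
theorem N89975 : nd 89975 = n192903 := ndS (p := 53952) (l := 7) rfl N53952 D192903
theorem N89976 : nd 89976 = n192904 := ndS (p := 53953) (l := 4) rfl N53953 D192904
theorem N89977 : nd 89977 = n192905 := ndS (p := 53953) (l := 6) rfl N53953 D192905
theorem N89978 : nd 89978 = n192906 := ndS (p := 53954) (l := 0) rfl N53954 D192906
theorem N89979 : nd 89979 = n192907 := ndS (p := 53954) (l := 7) rfl N53954 D192907
theorem N89980 : nd 89980 = n192908 := ndS (p := 53955) (l := 3) rfl N53955 D192908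
theorem N89981 : nd 89981 = n192909 := ndS (p := 53955) (l := 5) rfl N53955 D192909
theorem N89982 : nd 89982 = n192910 := ndS (p := 53955) (l := 6) rfl N53955 D192910
theorem N89983 : nd 89983 = n192911 := ndS (p := 53956) (l := 3) rfl N53956 D192911
theorem N89984 : nd 89984 = n192912 := ndS (p := 53956) (l := 5) rfl N53956 D192912
theorem N89985 : nd 89985 = n192913 := ndS (p := 53956) (l := 6) rfl N53956 D192913
theorem N89986 : nd 89986 = n192914 := ndS (p := 53957) (l := 5) rfl N53957 D192914
theorem N89987 : nd 89987 = n192915 := ndS (p := 53958) (l := 0) rfl N53958 D192915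
theorem N89988 : nd 89988 = n192916 := ndS (p := 53958) (l := 1) rfl N53958 D192916
theorem N89989 : nd 89989 = n192917 := ndS (p := 53958) (l := 4) rfl N53958 D192917
theorem N89990 : nd 89990 = n192918 := ndS (p := 53958) (l := 7) rfl N53958 D192918
theorem N89991 : nd 89991 = n192919 := ndS (p := 53959) (l := 6) rfl N53959 D192919
theorem N89992 : nd 89992 = n192920 := ndS (p := 53961) (l := 0) rfl N53961 D192920
theorem N89993 : nd 89993 = n192921 := ndS (p := 53961) (l := 1) rfl N53961 D192921
theorem N89994 : nd 89994 = n192922 := ndS (p := 53961) (l := 5) rfl N53961 D192922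
theorem N89995 : nd 89995 = n192923 := ndS (p := 53961) (l := 6) rfl N53961 D192923
theorem N89996 : nd 89996 = n192924 := ndS (p := 53962) (l := 0) rfl N53962 D192924
theorem N89997 : nd 89997 = n192925 := ndS (p := 53962) (l := 1) rfl N53962 D192925
theorem N89998 : nd 89998 = n192926 := ndS (p := 53962) (l := 7) rfl N53962 D192926
theorem N89999 : nd 89999 = n192927 := ndS (p := 53963) (l := 4) rfl N53963 D192927
theorem N90000 : nd 90000 = n192928 := ndS (p := 53963) (l := 6) rfl N53963 D192928

end Cfsg.Agent.Helper17.ONTC
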