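import Cfsg.Agent.Helper17.ONTC.Fin24

set_option autoImplicit false
set_option linter.all false
set_option maxRecDepth 100000

noncomputable section

namespace Cfsg.Agent.Helper17.ONTC

theorem Q117242 : ∀ i, i < 117242 → P i := stepQ 117241 Q117241 (allL N117241 (tt N116624 (iv1 F504072)) (tt N90860 (iv0 D220500)) (tt N109314 (iv2 F504071)) (tt N99514 F504070) (tt N107241 F504069) (tt N110376 F504068) (tt N99512 (iv6 F504074)) (tt N107182 F504073))
theorem Q117243 : ∀ i, i < 117243 → P i := stepQ 117242 Q117242 (allL N117242 (tt N101300 F504079) (tt N101303 F504080) (tt N112557 F504075) (tt N109958 F504081) (tt N90862 (iv4 D220501)) (tt N99011 F504078) (tt N112037 F504076) (tt N99010 F504077))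
theorem Q117244 : ∀ i, i < 117244 → P i := stepQ 117243 Q117243 (allL N117243 (tt N90865 (iv1 F504083)) (tt N90863 (iv0 D220502)) (tt N113439 (iv2 F504085)) (tt N117140 (iv3 F504084)) (tt N108075 F504082) (tt N120286 (iv5 F520034)) (tt N121578 (iv6 F527129)) (tt N120359 (iv7 F520365)))
theorem Q117245 : ∀ i, i < 117245 → P i := stepQ 117244 Q117244 (allL N117244 (tt N90863 (iv1 D220503)) (tt N90865 F504086) (tt N120359 (iv2 F520362)) (tt N113194 (iv3 F504089)) (tt N111343 F504088) (tt N120288 (iv5 F520040)) (tt N119993 (iv6 F518439)) (tt N113439 F504087))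
theorem Q117246 : ∀ i, i < 117246 → P i := stepQ 117245 Q117245 (allL N117245 (tt N113428 F504093) (tt N121538 (iv0 F526924)) (tt N120463 (iv2 F520911)) (tt N90863 (iv3 D220504)) (tt N109958 F504090) (tt N116819 F504091) (tt N112863 F504092) (tt N122010 (iv7 F529622)))
theorem Q117247 : ∀ i, i < 117247 → P i := stepQ 117246 Q117246 (allL N117246 (tt N116818 F504097) (tt N116817 F504098) (tt N116820 F504094) (tt N121623 (iv3 F527392)) (tt N100592 F504095) (tt N90865 (iv5 D220505)) (tt N109710 (iv6 F504099)) (tt N112882 F504096))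
theorem Q117248 : ∀ i, i < 117248 → P i := stepQ 117247 Q117247 (allL N117247 (tt N99841 F504105) (tt N107913 (iv0 F504106)) (tt N106988 F504100) (tt N106991 F504101) (tt N104952 F504102) (tt N106928 F504103) (tt N90869 (iv6 D220506)) (tt N108358 F504104))
theorem Q117249 : ∀ i, i < 117249 → P i := stepQ 117248 Q117248 (allL N117248 (tt N100242 (iv1 F504112)) (tt N121387 (iv0 F526087)) (tt N106578 F504107) (tt N90874 F504108) (tt N107553 F504109) (tt N100251 F504110) (tt N90872 (iv6 D220507)) (tt N101438 F504111))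
theorem Q117250 : ∀ i, i < 117250 → P i := stepQ 117249 Q117249 (allL N117249 (tt N117370 F504708) (tt N120226 (iv0 F519698)) (tt N121881 (iv2 F528878)) (tt N90873 (iv3 D220508)) (tt N107552 F504113) (tt N117240 (iv5 F504115)) (tt N117438 (iv6 F505032)) (tt N113321 F504114))
theorem Q117251 : ∀ i, i < 117251 → P i := stepQ 117250 Q117250 (allL N117250 (tt N121862 (iv1 F528767)) (tt N91121 F504120) (tt N113390 F504116) (tt N117240 F504117) (tt N90937 F504118) (tt N90873 (iv5 D220509)) (tt N121425 (iv6 F526294)) (tt N113322 F504119))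
theorem Q117252 : ∀ i, i < 117252 → P i := stepQ 117251 Q117251 (allL N117251 (tt N120494 (iv1 F521074)) (tt N120493 (iv0 F521067)) (tt N113391 F504121) (tt N117438 (iv3 F505029)) (tt N90874 F504122) (tt N117437 (iv5 F505027)) (tt N90873 (iv6 D220510)) (tt N101443 F504123))
theorem Q117253 : ∀ i, i < 117253 → P i := stepQ 117252 Q117252 (allL N117252 (tt N120470 F520951) (tt N122588 D225847) (tt N121944 (iv2 F529216)) (tt N90875 (iv3 D220511)) (tt N110706 F504124) (tt N121798 (iv5 F528386)) (tt N121585 F527172) (tt N113392 F504125))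
theorem Q117254 : ∀ i, i < 117254 → P i := stepQ 117253 Q117253 (allL N117253 (tt N121148 F524789) (tt N121149 (iv0 F524794)) (tt N121545 (iv2 F526959)) (tt N90878 F504126) (tt N113523 F504127) (tt N118805 (iv5 F512167)) (tt N90876 (iv6 D220512)) (tt N121175 (iv7 F524948)))
theorem Q117255 : ∀ i, i < 117255 → P i := stepQ 117254 Q117254 (allL N117254 (tt N110742 F504130) (tt N119793 (iv0 F517445)) (tt N119806 F517498) (tt N90877 (iv3 D220513)) (tt N99250 F504128) (tt N121871 (iv5 F528822)) (tt N122550 (iv6 F532791)) (tt N99249 F504129))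
theorem Q117256 : ∀ i, i < 117256 → P i := stepQ 117255 Q117255 (allL N117255 (tt N112554 F504134) (tt N112556 F504135) (tt N113396 F504131) (tt N121871 F528824) (tt N90931 F504133) (tt N90877 (iv5 D220514)) (tt N113396 F504136) (tt N113394 F504132))
theorem Q117257 : ∀ i, i < 117257 → P i := stepQ 117256 Q117256 (allL N117256 (tt N105658 F504140) (tt N105660 (iv0 F504141)) (tt N113397 F504137) (tt N122550 (iv3 F532790)) (tt N90878 F504138) (tt N113397 F504139) (tt N90877 (iv6 D220515)) (tt N121114 (iv7 F524580)))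
theorem Q117258 : ∀ i, i < 117258 → P i := stepQ 117257 Q117257 (allL N117257 (tt N121115 F524585) (tt N119777 (iv0 F517367)) (tt N122299 (iv2 F531269)) (tt N90879 (iv3 D220516)) (tt N117405 (iv4 F504865)) (tt N113412 (iv5 F504143)) (tt N117404 (iv6 F504862)) (tt N113395 F504142))
theorem Q117259 : ∀ i, i < 117259 → P i := stepQ 117258 Q117258 (allL N117258 (tt N112556 F504148) (tt N112554 F504149) (tt N113394 F504144) (tt N113412 F504145) (tt N90929 F504146) (tt N90879 (iv5 D220517)) (tt N121363 (iv6 F525973)) (tt N113396 F504147))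
theorem Q117260 : ∀ i, i < 117260 → P i := stepQ 117259 Q117259 (allL N117259 (tt N101433 (iv1 F504153)) (tt N112621 (iv0 F504152)) (tt N112577 F504150) (tt N122315 (iv3 F531367)) (tt N107492 F504151) (tt N121380 (iv5 F526047)) (tt N90881 (iv6 D220518)) (tt N112575 (iv7 F504154)))
theorem Q117261 : ∀ i, i < 117261 → P i := stepQ 117260 Q117260 (allL N117260 (tt N122018 (iv1 F529667)) (tt N121633 (iv0 F527450)) (tt N122589 D225848) (tt N90890 (iv3 D220519)) (tt N90892 F504155) (tt N120307 (iv5 F520134)) (tt N122590 D225849) (tt N112971 F504156))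
theorem Q117262 : ∀ i, i < 117262 → P i := stepQ 117261 Q117261 (allL N117261 (tt N122224 (iv1 F530876)) (tt N120951 (iv0 F523661)) (tt N116184 F504157) (tt N122590 (iv3 F533029)) (tt N90891 F504158) (tt N110124 (iv5 F504159)) (tt N90890 (iv6 D220520)) (tt N122590 (iv7 F533032)))
theorem Q117263 : ∀ i, i < 117263 → P i := stepQ 117262 Q117262 (allL N117262 (tt N110210 F504165) (tt N90891 (iv0 D220521)) (tt N121157 (iv2 F524837)) (tt N112752 F504161) (tt N112783 (iv4 F504163)) (tt N105461 F504160) (tt N112756 F504162) (tt N105190 (iv7 F504164)))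
theorem Q117264 : ∀ i, i < 117264 → P i := stepQ 117263 Q117263 (allL N117263 (tt N105190 (iv1 F504172)) (tt N121157 F524841) (tt N110210 F504168) (tt N90893 F504169) (tt N122590 (iv4 F533030)) (tt N110208 F504170) (tt N90892 F504171) (tt N90891 (iv7 D220522)))
theorem Q117265 : ∀ i, i < 117265 → P i := stepQ 117264 Q117264 (allL N117264 (tt N90892 (iv1 D220523)) (tt N112970 (iv0 F504177)) (tt N112972 (iv2 F504176)) (tt N116268 (iv3 F504175)) (tt N120974 (iv4 F523800)) (tt N113200 F504174) (tt N119963 (iv6 F518285)) (tt N110885 F504173))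
theorem Q117266 : ∀ i, i < 117266 → P i := stepQ 117265 Q117265 (allL N117265 (tt N110885 (iv1 F504183)) (tt N112972 F504182) (tt N90892 (iv2 D220524)) (tt N112968 F504178) (tt N122589 (iv4 F533022)) (tt N113193 F504179) (tt N110210 F504180) (tt N112970 F504181))
theorem Q117267 : ∀ i, i < 117267 → P i := stepQ 117266 Q117266 (allL N117266 (tt N112884 F504188) (tt N114957 F504189) (tt N114742 F504184) (tt N90895 (iv3 D220525)) (tt N116725 F504185) (tt N115036 F504186) (tt N121580 (iv6 F527140)) (tt N112969 F504187))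
theorem Q117268 : ∀ i, i < 117268 → P i := stepQ 117267 Q117267 (allL N117267 (tt N105181 (iv1 F504194)) (tt N105172 F504195) (tt N105178 F504190) (tt N121580 (iv3 F527144)) (tt N110170 F504191) (tt N105393 F504192) (tt N90895 (iv6 D220526)) (tt N105179 F504193))
theorem Q117269 : ∀ i, i < 117269 → P i := stepQ 117268 Q117268 (allL N117268 (tt N116785 F504199) (tt N110946 F504200) (tt N118332 (iv2 F509750)) (tt N112374 F504196) (tt N109182 F504197) (tt N90896 (iv5 D220527)) (tt N118634 (iv6 F511254)) (tt N96159 F504198))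
theorem Q117270 : ∀ i, i < 117270 → P i := stepQ 117269 Q117269 (allL N117269 (tt N95072 F504206) (tt N95071 (iv0 F504207)) (tt N95074 F504201) (tt N90898 (iv3 D220528)) (tt N110656 F504202) (tt N94706 F504203) (tt N107884 F504204) (tt N94705 F504205))
theorem Q117271 : ∀ i, i < 117271 → P i := stepQ 117270 Q117270 (allL N117270 (tt N118383 F510062) (tt N90900 (iv0 D220529)) (tt N117182 (iv2 F504210)) (tt N106978 F504211) (tt N119048 (iv4 F513487)) (tt N122351 (iv5 F531576)) (tt N106976 F504209) (tt N121321 (iv7 F525754)))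
theorem Q117272 : ∀ i, i < 117272 → P i := stepQ 117271 Q117271 (allL N117271 (tt N116988 F504215) (tt N93716 F504216) (tt N120804 (iv2 F522811)) (tt N114562 F504212) (tt N109179 F504213) (tt N90901 (iv5 D220530)) (tt N114560 F504214) (tt N121608 (iv7 F527311)))
theorem Q117273 : ∀ i, i < 117273 → P i := stepQ 117272 Q117272 (allL N117272 (tt N90902 (iv1 D220531)) (tt N104965 F504217) (tt N117170 F504221) (tt N94215 (iv3 F504220)) (tt N117010 F504219) (tt N106325 F504218) (tt N119068 F513613) (tt N120563 (iv7 F521473)))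
theorem Q117274 : ∀ i, i < 117274 → P i := stepQ 117273 Q117273 (allL N117273 (tt N95690 F504224) (tt N106918 (iv0 F504225)) (tt N122025 F529709) (tt N90903 (iv3 D220532)) (tt N117015 F504222) (tt N112761 F504226) (tt N108909 F504227) (tt N117005 F504223))
theorem Q117275 : ∀ i, i < 117275 → P i := stepQ 117274 Q117274 (allL N117274 (tt N117009 F504232) (tt N116491 F504233) (tt N116962 F504228) (tt N112761 F504229) (tt N109184 F504230) (tt N90903 (iv5 D220533)) (tt N118661 F511402) (tt N117006 F504231))
theorem Q117276 : ∀ i, i < 117276 → P i := stepQ 117275 Q117275 (allL N117275 (tt N119048 F513490) (tt N119051 F513508) (tt N116963 F504234) (tt N108909 F504235) (tt N116930 F504236) (tt N121661 (iv5 F527605)) (tt N90903 (iv6 D220534)) (tt N119049 (iv7 F513496)))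
theorem Q117277 : ∀ i, i < 117277 → P i := stepQ 117276 Q117276 (allL N117276 (tt N120190 (iv1 F519510)) (tt N117386 (iv0 F504776)) (tt N119072 (iv2 F513633)) (tt N112347 F504237) (tt N112570 F504239) (tt N90905 (iv5 D220535)) (tt N112346 F504238) (tt N120189 (iv7 F519508)))
theorem Q117278 : ∀ i, i < 117278 → P i := stepQ 117277 Q117277 (allL N117277 (tt N98980 (iv1 F504244)) (tt N100443 F504245) (tt N106646 F504240) (tt N121120 (iv3 F524609)) (tt N90912 F504241) (tt N100451 F504242) (tt N90911 (iv6 D220536)) (tt N101504 F504243))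
theorem Q117279 : ∀ i, i < 117279 → P i := stepQ 117278 Q117278 (allL N117278 (tt N99095 (iv1 F504248)) (tt N90914 (iv0 D220537)) (tt N99593 (iv2 F504247)) (tt N99114 (iv3 F504250)) (tt N95947 F504246) (tt N121372 (iv5 F526009)) (tt N110924 (iv6 F504251)) (tt N99122 F504249))
theorem Q117280 : ∀ i, i < 117280 → P i := stepQ 117279 Q117279 (allL N117279 (tt N99593 (iv1 F504256)) (tt N99122 F504255) (tt N90914 (iv2 D220538)) (tt N90935 F504252) (tt N122336 (iv4 F531490)) (tt N113339 (iv5 F504257)) (tt N99086 F504253) (tt N99095 F504254))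
theorem Q117281 : ∀ i, i < 117281 → P i := stepQ 117280 Q117280 (allL N117280 (tt N121423 (iv1 F526281)) (tt N121803 F528418) (tt N113339 F504258) (tt N90915 F504259) (tt N99953 (iv4 F504262)) (tt N90914 (iv5 D220539)) (tt N99137 F504260) (tt N99144 F504261))
theorem Q117282 : ∀ i, i < 117282 → P i := stepQ 117281 Q117281 (allL N117281 (tt N98812 F504268) (tt N98819 F504269) (tt N90942 F504263) (tt N99099 F504264) (tt N90917 (iv4 D220540)) (tt N107785 F504265) (tt N112601 F504266) (tt N90944 F504267))
theorem Q117283 : ∀ i, i < 117283 → P i := stepQ 117282 Q117282 (allL N117282 (tt N118351 (iv1 F509854)) (tt N99184 (iv0 F504275)) (tt N98822 F504270) (tt N90918 (iv3 D220541)) (tt N105155 F504271) (tt N117004 F504272) (tt N98818 F504273) (tt N98821 F504274))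
theorem Q117284 : ∀ i, i < 117284 → P i := stepQ 117283 Q117283 (allL N117283 (tt N122591 D225850) (tt N122591 F533038) (tt N122539 (iv2 F532729)) (tt N99149 F504276) (tt N122315 (iv4 F531368)) (tt N121986 (iv5 F529469)) (tt N90919 (iv6 D220542)) (tt N122539 (iv7 F532732)))
theorem Q117285 : ∀ i, i < 117285 → P i := stepQ 117284 Q117284 (allL N117284 (tt N121276 (iv1 F525521)) (tt N90930 F504278) (tt N121397 (iv2 F526131)) (tt N110926 F504279) (tt N90920 (iv4 D220543)) (tt N119882 (iv5 F517855)) (tt N119755 (iv6 F517258)) (tt N105983 F504277))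
theorem Q117286 : ∀ i, i < 117286 → P i := stepQ 117285 Q117285 (allL N117285 (tt N90930 F504283) (tt N121276 (iv0 F525520)) (tt N105983 F504280) (tt N97207 F504281) (tt N90921 (iv4 D220544)) (tt N119883 (iv5 F517858)) (tt N97205 F504282) (tt N121397 (iv7 F526127)))
theorem Q117287 : ∀ i, i < 117287 → P i := stepQ 117286 Q117286 (allL N117286 (tt N90924 (iv1 D220545)) (tt N106273 F504284) (tt N106906 F504289) (tt N117086 (iv3 F504290)) (tt N99458 F504287) (tt N101619 F504286) (tt N106863 (iv6 F504288)) (tt N106389 F504285))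
theorem Q117288 : ∀ i, i < 117288 → P i := stepQ 117287 Q117287 (allL N117287 (tt N106906 (iv1 F504296)) (tt N106389 F504297) (tt N106273 F504291) (tt N90927 F504292) (tt N99729 F504293) (tt N108464 F504294) (tt N106271 F504295) (tt N90924 (iv7 D220546)))
theorem Q117289 : ∀ i, i < 117289 → P i := stepQ 117288 Q117288 (allL N117288 (tt N119095 (iv1 F513770)) (tt N116979 (iv0 F504303)) (tt N108457 F504298) (tt N99730 F504299) (tt N90927 F504300) (tt N108457 F504301) (tt N112611 F504302) (tt N90926 (iv7 D220547)))
theorem Q117290 : ∀ i, i < 117290 → P i := stepQ 117289 Q117289 (allL N117289 (tt N90928 (iv1 D220548)) (tt N98786 F504304) (tt N98788 F504308) (tt N99116 F504309) (tt N117896 (iv4 F507485)) (tt N113444 (iv5 F504307)) (tt N99060 (iv6 F504306)) (tt N98785 F504305))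
theorem Q117291 : ∀ i, i < 117291 → P i := stepQ 117290 Q117290 (allL N117290 (tt N119906 (iv1 F517969)) (tt N112805 F504313) (tt N118521 (iv2 F510790)) (tt N91754 F504310) (tt N90928 (iv4 D220549)) (tt N121497 (iv5 F526696)) (tt N110732 F504311) (tt N106964 F504312))
theorem Q117292 : ∀ i, i < 117292 → P i := stepQ 117291 Q117291 (allL N117291 (tt N90929 (iv1 D220550)) (tt N90931 F504314) (tt N116543 (iv2 F504318)) (tt N109481 (iv3 F504317)) (tt N122195 (iv4 F530707)) (tt N101615 F504316) (tt N121874 (iv6 F528841)) (tt N109506 F504315))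
theorem Q117293 : ∀ i, i < 117293 → P i := stepQ 117292 Q117292 (allL N117292 (tt N121873 F528838) (tt N121875 F528850) (tt N119794 (iv2 F517447)) (tt N110733 F504319) (tt N122592 D225851) (tt N90930 (iv5 D220551)) (tt N119808 (iv6 F517502)) (tt N121398 (iv7 F526133)))
theorem Q117294 : ∀ i, i < 117294 → P i := stepQ 117293 Q117293 (allL N117293 (tt N107290 (iv1 F504324)) (tt N99616 F504325) (tt N108458 F504320) (tt N100404 F504321) (tt N101655 F504322) (tt N108458 F504323) (tt N121276 (iv6 F525518)) (tt N90932 (iv7 D220552)))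
theorem Q117295 : ∀ i, i < 117295 → P i := stepQ 117294 Q117294 (allL N117294 (tt N119849 F517687) (tt N122206 (iv0 F530773)) (tt N122045 (iv2 F529822)) (tt N96891 F504326) (tt N106883 F504327) (tt N99044 F504328) (tt N90934 (iv6 D220553)) (tt N121967 (iv7 F529356)))
theorem Q117296 : ∀ i, i < 117296 → P i := stepQ 117295 Q117295 (allL N117295 (tt N98787 (iv1 F504333)) (tt N113444 (iv0 F504332)) (tt N110668 F504329) (tt N90936 (iv3 D220554)) (tt N119616 (iv4 F516531)) (tt N110604 F504330) (tt N119615 F516528) (tt N110670 F504331))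
theorem Q117297 : ∀ i, i < 117297 → P i := stepQ 117296 Q117296 (allL N117296 (tt N121456 F528412) (tt N122202 (iv0 F530746)) (tt N113406 F504334) (tt N121802 (iv3 F528406)) (tt N90939 F504335) (tt N122172 (iv5 F530572)) (tt N90938 (iv6 D220555)) (tt N121852 (iv7 F528708)))
theorem Q117298 : ∀ i, i < 117298 → P i := stepQ 117297 Q117297 (allL N117297 (tt N100855 F504340) (tt N114043 (iv0 F504341)) (tt N114042 F504336) (tt N106066 F504337) (tt N122379 (iv4 F531748)) (tt N90943 (iv5 D220556)) (tt N100980 F504338) (tt N114041 F504339))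
theorem Q117299 : ∀ i, i < 117299 → P i := stepQ 117298 Q117298 (allL N117298 (tt N99312 F504347) (tt N99310 F504348) (tt N99096 F504342) (tt N99203 F504343) (tt N94802 F504344) (tt N90944 (iv5 D220557)) (tt N107755 F504345) (tt N107785 F504346))
theorem Q117300 : ∀ i, i < 117300 → P i := stepQ 117299 Q117299 (allL N117299 (tt N117389 F504787) (tt N114051 F504355) (tt N114007 F504351) (tt N90948 F504352) (tt N120439 (iv4 F520791)) (tt N90947 (iv5 D220558)) (tt N114689 F504353) (tt N100979 F504354))
theorem Q117301 : ∀ i, i < 117301 → P i := stepQ 117300 Q117300 (allL N117300 (tt N95070 F504359) (tt N95067 (iv0 F504360)) (tt N117529 (iv2 F505534)) (tt N90949 (iv3 D220559)) (tt N106982 F504356) (tt N105381 F504357) (tt N118553 (iv6 F510915)) (tt N105380 F504358))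
theorem Q117302 : ∀ i, i < 117302 → P i := stepQ 117301 Q117301 (allL N117301 (tt N118215 (iv1 F509203)) (tt N118213 (iv0 F509189)) (tt N90953 F504361) (tt N118553 (iv3 F510914)) (tt N90950 F504362) (tt N119154 (iv5 F514077)) (tt N90949 (iv6 D220560)) (tt N118214 (iv7 F509192)))
theorem Q117303 : ∀ i, i < 117303 → P i := stepQ 117302 Q117302 (allL N117302 (tt N90956 (iv1 F504367)) (tt N90950 (iv0 D220561)) (tt N90954 (iv2 F504363)) (tt N111846 F504364) (tt N101949 F504366) (tt N122593 D225852) (tt N120783 (iv6 F522687)) (tt N90955 F504365))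
theorem Q117304 : ∀ i, i < 117304 → P i := stepQ 117303 Q117303 (allL N117303 (tt N90955 (iv1 F504372)) (tt N90954 F504373) (tt N90956 F504368) (tt N105966 F504369) (tt N118214 F509193) (tt N108876 F504370) (tt N117085 F504371) (tt N90950 (iv7 D220562)))
theorem Q117305 : ∀ i, i < 117305 → P i := stepQ 117304 Q117304 (allL N117304 (tt N114417 F504376) (tt N114414 F504377) (tt N117343 (iv2 F504562)) (tt N108881 F504374) (tt N90952 (iv4 D220563)) (tt N114949 F504375) (tt N120681 (iv6 F522113)) (tt N118206 (iv7 F509140)))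
theorem Q117306 : ∀ i, i < 117306 → P i := stepQ 117305 Q117305 (allL N117305 (tt N101368 F504380) (tt N104665 (iv0 F504381)) (tt N118165 (iv2 F508952)) (tt N110192 F504378) (tt N120681 (iv4 F522112)) (tt N105561 F504379) (tt N90952 (iv6 D220564)) (tt N118162 (iv7 F508940)))
theorem Q117307 : ∀ i, i < 117307 → P i := stepQ 117306 Q117306 (allL N117306 (tt N118214 (iv1 F509191)) (tt N90953 (iv0 D220565)) (tt N118215 (iv2 F509197)) (tt N120378 (iv3 F520464)) (tt N106253 (iv4 F504383)) (tt N116367 F504382) (tt N117542 F505616) (tt N118213 (iv7 F509188)))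
theorem Q117308 : ∀ i, i < 117308 → P i := stepQ 117307 Q117307 (allL N117307 (tt N118213 (iv1 F509190)) (tt N118215 F509202) (tt N118214 F509196) (tt N91660 F504384) (tt N90956 F504385) (tt N119171 (iv5 F514176)) (tt N121615 (iv6 F527345)) (tt N90953 (iv7 D220566)))
theorem Q117309 : ∀ i, i < 117309 → P i := stepQ 117308 Q117308 (allL N117308 (tt N94118 F504390) (tt N101947 (iv0 F504391)) (tt N101949 F504386) (tt N102945 F504387) (tt N90954 (iv4 D220567)) (tt N121329 (iv5 F525799)) (tt N101954 F504388) (tt N101938 F504389))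
theorem Q117310 : ∀ i, i < 117310 → P i := stepQ 117309 Q117309 (allL N117309 (tt N122594 D225853) (tt N114673 (iv0 F504396)) (tt N122593 (iv2 F533045)) (tt N106361 F504392) (tt N110489 F504394) (tt N90954 (iv5 D220568)) (tt N110488 F504395) (tt N106357 F504393))
theorem Q117311 : ∀ i, i < 117311 → P i := stepQ 117310 Q117310 (allL N117310 (tt N91740 F504401) (tt N109330 F504402) (tt N106352 F504397) (tt N90955 (iv3 D220569)) (tt N111762 F504398) (tt N101336 (iv5 F504403)) (tt N101943 F504399) (tt N111846 F504400))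
theorem Q117312 : ∀ i, i < 117312 → P i := stepQ 117311 Q117311 (allL N117311 (tt N114673 F504408) (tt N122594 F533057) (tt N106357 F504404) (tt N101336 F504405) (tt N96503 F504406) (tt N90955 (iv5 D220570)) (tt N96502 F504407) (tt N122593 (iv7 F533049)))
theorem Q117313 : ∀ i, i < 117313 → P i := stepQ 117312 Q117312 (allL N117312 (tt N116738 F504411) (tt N105580 F504412) (tt N121059 (iv2 F524286)) (tt N90962 F504409) (tt N107473 (iv4 F504414)) (tt N90961 (iv5 D220571)) (tt N116307 F504413) (tt N107470 F504410))
theorem Q117314 : ∀ i, i < 117314 → P i := stepQ 117313 Q117313 (allL N117313 (tt N107313 F504419) (tt N106323 F504420) (tt N116376 F504415) (tt N96002 F504416) (tt N115048 F504421) (tt N90965 (iv5 D220572)) (tt N96680 F504417) (tt N96701 F504418))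
theorem Q117315 : ∀ i, i < 117315 → P i := stepQ 117314 Q117314 (allL N117314 (tt N118505 (iv1 F510736)) (tt N120394 (iv0 F520553)) (tt N90973 F504422) (tt N107861 F504423) (tt N90968 F504424) (tt N117842 (iv5 F507227)) (tt N90966 (iv6 D220573)) (tt N121616 (iv7 F527351)))
theorem Q117316 : ∀ i, i < 117316 → P i := stepQ 117315 Q117315 (allL N117315 (tt N90968 (iv1 D220574)) (tt N90977 F504425) (tt N90976 F504428) (tt N91746 F504429) (tt N117074 F504430) (tt N116655 (iv5 F504427)) (tt N120126 (iv6 F519193)) (tt N90975 F504426))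
theorem Q117317 : ∀ i, i < 117317 → P i := stepQ 117316 Q117316 (allL N117316 (tt N90976 (iv1 F504435)) (tt N90975 F504436) (tt N90977 F504431) (tt N117085 F504432) (tt N121616 (iv4 F527348)) (tt N113283 F504433) (tt N105966 F504434) (tt N90968 (iv7 D220575)))
theorem Q117318 : ∀ i, i < 117318 → P i := stepQ 117317 Q117317 (allL N117317 (tt N121850 (iv1 F528696)) (tt N118284 (iv0 F509513)) (tt N118746 (iv2 F511862)) (tt N90973 F504437) (tt N90980 F504438) (tt N101903 F504439) (tt N90971 (iv6 D220576)) (tt N121849 (iv7 F528685)))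
theorem Q117319 : ∀ i, i < 117319 → P i := stepQ 117318 Q117318 (allL N117318 (tt N121491 F526667) (tt N107497 (iv0 F504443)) (tt N117842 (iv2 F507224)) (tt N101903 F504440) (tt N116388 F504442) (tt N90973 (iv5 D220577)) (tt N92433 F504441) (tt N122095 (iv7 F530132)))
theorem Q117320 : ∀ i, i < 117320 → P i := stepQ 117319 Q117319 (allL N117319 (tt N120394 (iv1 F520554)) (tt N118505 F510737) (tt N121616 F527354) (tt N121849 F528688) (tt N90977 F504444) (tt N122095 (iv5 F530130)) (tt N121747 F528084) (tt N90973 (iv7 D220578)))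
theorem Q117321 : ∀ i, i < 117321 → P i := stepQ 117320 Q117320 (allL N117320 (tt N117076 F504448) (tt N106966 (iv0 F504449)) (tt N107099 F504445) (tt N117867 (iv3 F507347)) (tt N90975 (iv4 D220579)) (tt N118561 (iv5 F510936)) (tt N106960 F504446) (tt N117074 F504447))
theorem Q117322 : ∀ i, i < 117322 → P i := stepQ 117321 Q117321 (allL N117321 (tt N106334 (iv1 F504454)) (tt N106076 F504455) (tt N120126 (iv2 F519190)) (tt N104713 F504450) (tt N104720 F504451) (tt N112755 F504452) (tt N90976 (iv6 D220580)) (tt N106092 F504453))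
theorem Q117323 : ∀ i, i < 117323 → P i := stepQ 117322 Q117322 (allL N117322 (tt N118865 (iv1 F512477)) (tt N95402 (iv0 F504459)) (tt N90980 F504456) (tt N112502 F504457) (tt N118746 (iv4 F511863)) (tt N95625 F504458) (tt N90979 (iv6 D220581)) (tt N118867 (iv7 F512489)))
theorem Q117324 : ∀ i, i < 117324 → P i := stepQ 117323 Q117323 (allL N117323 (tt N90980 (iv1 D220582)) (tt N118867 F512488) (tt N95402 F504462) (tt N112286 (iv3 F504460)) (tt N117856 (iv4 F507294)) (tt N95582 (iv5 F504461)) (tt N95305 F504463) (tt N118865 (iv7 F512476)))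
theorem Q117325 : ∀ i, i < 117325 → P i := stepQ 117324 Q117324 (allL N117324 (tt N95402 (iv1 F504466)) (tt N118865 F512478) (tt N118867 F512487) (tt N90983 F504464) (tt N121849 (iv4 F528687)) (tt N118940 (iv5 F512864)) (tt N117155 F504465) (tt N90980 (iv7 D220583)))
theorem Q117326 : ∀ i, i < 117326 → P i := stepQ 117325 Q117325 (allL N117325 (tt N113300 F504470) (tt N106948 (iv0 F504471)) (tt N108455 F504467) (tt N90987 F504468) (tt N101104 F504469) (tt N121526 (iv5 F526857)) (tt N90985 (iv6 D220584)) (tt N120526 (iv7 F521261)))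
theorem Q117327 : ∀ i, i < 117327 → P i := stepQ 117326 Q117326 (allL N117326 (tt N97295 (iv1 F504474)) (tt N91261 F504475) (tt N117485 F505282) (tt N91273 F504472) (tt N110776 F504473) (tt N122121 (iv5 F530291)) (tt N117648 (iv6 F506209)) (tt N90990 (iv7 D220585)))
theorem Q117328 : ∀ i, i < 117328 → P i := stepQ 117327 Q117327 (allL N117327 (tt N98822 F504478) (tt N98821 (iv0 F504479)) (tt N99184 F504476) (tt N90991 (iv3 D220586)) (tt N92898 F504477) (tt N122584 (iv5 F532990)) (tt N121603 (iv6 F527279)) (tt N118351 (iv7 F509855)))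
theorem Q117329 : ∀ i, i < 117329 → P i := stepQ 117328 Q117328 (allL N117328 (tt N90992 (iv1 D220587)) (tt N117648 (iv0 F506207)) (tt N122042 F529804) (tt N101730 (iv3 F504482)) (tt N122206 (iv4 F530770)) (tt N100805 F504481) (tt N117540 F505606) (tt N112119 F504480))
theorem Q117330 : ∀ i, i < 117330 → P i := stepQ 117329 Q117329 (allL N117329 (tt N112098 F504487) (tt N107056 (iv0 F504486)) (tt N90999 F504483) (tt N106076 F504484) (tt N118344 (iv4 F509814)) (tt N116876 F504485) (tt N90996 (iv6 D220588)) (tt N121890 (iv7 F528933)))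
theorem Q117331 : ∀ i, i < 117331 → P i := stepQ 117330 Q117330 (allL N117330 (tt N122066 (iv1 F529961)) (tt N116971 (iv0 F504490)) (tt N118344 (iv2 F509813)) (tt N96083 F504488) (tt N90999 F504489) (tt N121677 (iv5 F527685)) (tt N90997 (iv6 D220589)) (tt N117544 (iv7 F505621)))
theorem Q117332 : ∀ i, i < 117332 → P i := stepQ 117331 Q117331 (allL N117331 (tt N121890 F528935) (tt N90999 (iv0 D220590)) (tt N112098 (iv2 F504493)) (tt N106863 F504492) (tt N112103 F504491) (tt N121323 (iv5 F525761)) (tt N117086 (iv6 F504494)) (tt N107056 (iv7 F504495)))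
theorem Q117333 : ∀ i, i < 117333 → P i := stepQ 117332 Q117332 (allL N117332 (tt N90999 (iv1 D220591)) (tt N121890 (iv0 F528934)) (tt N107056 F504500) (tt N111563 (iv3 F504497)) (tt N96166 (iv4 F504498)) (tt N116562 F504501) (tt N96164 (iv6 F504499)) (tt N112098 F504496))
theorem Q117334 : ∀ i, i < 117334 → P i := stepQ 117333 Q117333 (allL N117333 (tt N113730 F504506) (tt N122595 D225854) (tt N116876 F504502) (tt N91004 F504503) (tt N97111 F504505) (tt N90999 (iv5 D220592)) (tt N97110 F504504) (tt N114049 (iv7 F504507)))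
theorem Q117335 : ∀ i, i < 117335 → P i := stepQ 117334 Q117334 (allL N117334 (tt N107056 (iv1 F504510)) (tt N112098 F504511) (tt N121890 (iv2 F528930)) (tt N91005 F504508) (tt N117544 (iv4 F505620)) (tt N114049 F504509) (tt N117475 (iv6 F505223)) (tt N90999 (iv7 D220593)))
theorem Q117336 : ∀ i, i < 117336 → P i := stepQ 117335 Q117335 (allL N117335 (tt N114007 F504515) (tt N100979 F504516) (tt N114051 F504512) (tt N97110 F504513) (tt N113065 F504517) (tt N91003 (iv5 D220594)) (tt N91004 F504514) (tt N117389 (iv7 F504785)))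
theorem Q117337 : ∀ i, i < 117337 → P i := stepQ 117336 Q117336 (allL N117336 (tt N119781 (iv1 F517382)) (tt N106641 F504521) (tt N106337 F504518) (tt N91009 F504519) (tt N119770 (iv4 F517334)) (tt N91007 (iv5 D220595)) (tt N120110 (iv6 F519097)) (tt N106333 F504520))
theorem Q117338 : ∀ i, i < 117338 → P i := stepQ 117337 Q117337 (allL N117337 (tt N114051 F504527) (tt N117389 (iv0 F504786)) (tt N100979 F504522) (tt N106495 F504523) (tt N106510 F504526) (tt N91013 (iv5 D220596)) (tt N114046 F504524) (tt N114007 F504525))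
theorem Q117339 : ∀ i, i < 117339 → P i := stepQ 117338 Q117338 (allL N117338 (tt N113709 F504532) (tt N113883 (iv0 F504534)) (tt N113915 F504528) (tt N111102 F504529) (tt N96869 F504530) (tt N113611 F504533) (tt N91014 (iv6 D220597)) (tt N110305 F504531))
theorem Q117340 : ∀ i, i < 117340 → P i := stepQ 117339 Q117339 (allL N117339 (tt N115555 F504539) (tt N107315 F504540) (tt N114012 F504535) (tt N95912 F504536) (tt N107702 F504538) (tt N91020 (iv5 D220598)) (tt N101487 F504541) (tt N95999 F504537))
theorem Q117341 : ∀ i, i < 117341 → P i := stepQ 117340 Q117340 (allL N117340 (tt N115418 F504546) (tt N111942 F504547) (tt N113928 F504542) (tt N112730 F504543) (tt N115274 F504545) (tt N91026 (iv5 D220599)) (tt N115815 (iv6 F504548)) (tt N113929 F504544))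
theorem Q117342 : ∀ i, i < 117342 → P i := stepQ 117341 Q117341 (allL N117341 (tt N97982 F504554) (tt N97981 F504555) (tt N98491 F504549) (tt N114543 F504550) (tt N91069 F504551) (tt N91029 (iv5 D220600)) (tt N98482 F504552) (tt N114566 F504553))
theorem Q117343 : ∀ i, i < 117343 → P i := stepQ 117342 Q117342 (allL N117342 (tt N91040 (iv1 D220601)) (tt N114368 F504556) (tt N114425 F504561) (tt N117765 (iv3 F506859)) (tt N98742 F504558) (tt N114420 F504559) (tt N102919 (iv6 F504560)) (tt N98740 F504557))
theorem Q117344 : ∀ i, i < 117344 → P i := stepQ 117343 Q117343 (allL N117343 (tt N109179 F504565) (tt N109177 F504566) (tt N117304 F504562) (tt N118659 (iv3 F511391)) (tt N117009 F504564) (tt N91040 (iv5 D220602)) (tt N118658 (iv6 F511389)) (tt N115398 F504563))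
theorem Q117345 : ∀ i, i < 117345 → P i := stepQ 117344 Q117344 (allL N117344 (tt N98746 F504572) (tt N102919 F504573) (tt N102920 F504567) (tt N96985 F504568) (tt N91044 (iv4 D220603)) (tt N102587 F504569) (tt N102509 F504570) (tt N102911 F504571))
theorem Q117346 : ∀ i, i < 117346 → P i := stepQ 117345 Q117345 (allL N117345 (tt N91053 (iv1 D220604)) (tt N91087 F504574) (tt N91084 F504579) (tt N105922 F504580) (tt N113037 F504577) (tt N109735 F504576) (tt N111263 (iv6 F504578)) (tt N91083 F504575))
theorem Q117347 : ∀ i, i < 117347 → P i := stepQ 117346 Q117346 (allL N117346 (tt N117190 F504585) (tt N116468 F504586) (tt N117194 F504581) (tt N109614 F504582) (tt N106377 F504587) (tt N91065 (iv5 D220605)) (tt N106376 F504583) (tt N117193 F504584))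
theorem Q117348 : ∀ i, i < 117348 → P i := stepQ 117347 Q117347 (allL N117347 (tt N116468 F504593) (tt N117190 F504594) (tt N117193 F504588) (tt N114901 F504589) (tt N116732 F504592) (tt N91066 (iv5 D220606)) (tt N114900 F504590) (tt N117194 F504591))
theorem Q117349 : ∀ i, i < 117349 → P i := stepQ 117348 Q117348 (allL N117348 (tt N121167 F524903) (tt N113088 (iv0 F504598)) (tt N119175 (iv2 F514197)) (tt N91071 F504595) (tt N106236 F504596) (tt N116733 F504597) (tt N91068 (iv6 D220607)) (tt N121047 (iv7 F524217)))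
theorem Q117350 : ∀ i, i < 117350 → P i := stepQ 117349 Q117349 (allL N117349 (tt N105982 (iv1 F504604)) (tt N105981 F504605) (tt N105585 F504599) (tt N106220 F504600) (tt N96279 F504601) (tt N105578 F504602) (tt N116378 F504603) (tt N91074 (iv7 D220608)))
theorem Q117351 : ∀ i, i < 117351 → P i := stepQ 117350 Q117350 (allL N117350 (tt N97914 F504611) (tt N97918 (iv0 F504612)) (tt N97920 F504606) (tt N91079 (iv3 D220609)) (tt N91109 F504607) (tt N111154 F504608) (tt N91085 F504609) (tt N92134 F504610))
theorem Q117352 : ∀ i, i < 117352 → P i := stepQ 117351 Q117351 (allL N117351 (tt N99994 F504618) (tt N109186 (iv0 F504619)) (tt N92812 F504613) (tt N100156 F504614) (tt N91082 F504615) (tt N92220 F504616) (tt N91081 (iv6 D220610)) (tt N109367 F504617))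
theorem Q117353 : ∀ i, i < 117353 → P i := stepQ 117352 Q117352 (allL N117352 (tt N97921 F504624) (tt N104020 (iv0 F504625)) (tt N104940 F504620) (tt N91083 (iv3 D220611)) (tt N120922 (iv4 F523491)) (tt N97256 F504621) (tt N92223 F504622) (tt N105922 F504623))
theorem Q117354 : ∀ i, i < 117354 → P i := stepQ 117353 Q117353 (allL N117353 (tt N115304 F504628) (tt N97461 F504629) (tt N117740 (iv2 F506727)) (tt N91095 (iv3 D220612)) (tt N98579 F504626) (tt N120597 (iv5 F521660)) (tt N115022 F504627) (tt N115260 (iv7 F504630)))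
theorem Q117355 : ∀ i, i < 117355 → P i := stepQ 117354 Q117354 (allL N117354 (tt N122521 (iv1 F532622)) (tt N122596 D225855) (tt N122540 (iv2 F532733)) (tt N120597 (iv3 F521662)) (tt N93024 F504631) (tt N91095 (iv5 D220613)) (tt N122597 D225856) (tt N122488 (iv7 F532429)))
theorem Q117356 : ∀ i, i < 117356 → P i := stepQ 117355 Q117355 (allL N117355 (tt N106871 (iv1 F504634)) (tt N106869 F504635) (tt N121399 (iv2 F526141)) (tt N115260 F504632) (tt N91096 F504633) (tt N122488 (iv5 F532430)) (tt N115258 (iv6 F504636)) (tt N91095 (iv7 D220614)))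
theorem Q117357 : ∀ i, i < 117357 → P i := stepQ 117356 Q117356 (allL N117356 (tt N119406 (iv1 F515453)) (tt N91236 F504641) (tt N106703 F504637) (tt N116509 F504638) (tt N91098 (iv4 D220615)) (tt N122521 (iv5 F532620)) (tt N93175 F504639) (tt N106705 F504640))
theorem Q117358 : ∀ i, i < 117358 → P i := stepQ 117357 Q117357 (allL N117357 (tt N106064 F504645) (tt N106888 F504646) (tt N106743 F504642) (tt N102041 F504643) (tt N122596 (iv4 F533069)) (tt N91099 (iv5 D220616)) (tt N119374 (iv6 F515283)) (tt N102038 F504644))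
theorem Q117359 : ∀ i, i < 117359 → P i := stepQ 117358 Q117358 (allL N117358 (tt N91236 F504649) (tt N119406 F515454) (tt N106705 F504647) (tt N119405 F515445) (tt N91104 (iv4 D220617)) (tt N122596 (iv5 F533068)) (tt N119362 F515223) (tt N106703 F504648))
theorem Q117360 : ∀ i, i < 117360 → P i := stepQ 117359 Q117359 (allL N117359 (tt N93105 F504655) (tt N93109 (iv0 F504656)) (tt N93107 F504650) (tt N91105 (iv3 D220618)) (tt N98066 F504651) (tt N102008 F504652) (tt N93223 F504653) (tt N93106 F504654))
theorem Q117361 : ∀ i, i < 117361 → P i := stepQ 117360 Q117360 (allL N117360 (tt N103511 F504661) (tt N105124 F504662) (tt N105129 F504657) (tt N98054 (iv3 F504663)) (tt N91106 (iv4 D220619)) (tt N98053 F504660) (tt N98536 F504658) (tt N105130 F504659))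
theorem Q117362 : ∀ i, i < 117362 → P i := stepQ 117361 Q117361 (allL N117361 (tt N116233 F504668) (tt N119498 (iv0 F515919)) (tt N98029 F504664) (tt N91107 (iv3 D220620)) (tt N98054 F504665) (tt N97472 F504666) (tt N92182 (iv6 F504669)) (tt N97471 F504667))
theorem Q117363 : ∀ i, i < 117363 → P i := stepQ 117362 Q117362 (allL N117362 (tt N114382 F504675) (tt N113823 F504676) (tt N103485 F504670) (tt N92182 F504671) (tt N91108 F504672) (tt N92174 F504673) (tt N91107 (iv6 D220621)) (tt N92173 F504674))
theorem Q117364 : ∀ i, i < 117364 → P i := stepQ 117363 Q117363 (allL N117363 (tt N122596 (iv1 F533066)) (tt N122521 (iv0 F532621)) (tt N122488 (iv2 F532426)) (tt N121404 (iv3 F526168)) (tt N91110 (iv4 D220622)) (tt N121399 F526142) (tt N122488 (iv6 F532428)) (tt N122540 (iv7 F532736)))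
theorem Q117365 : ∀ i, i < 117365 → P i := stepQ 117364 Q117364 (allL N117364 (tt N102298 (iv1 F504680)) (tt N102297 F504681) (tt N93024 F504677) (tt N104314 F504678) (tt N122540 (iv4 F532735)) (tt N91111 F504679) (tt N122598 D225857) (tt N91110 (iv7 D220623)))
theorem Q117366 : ∀ i, i < 117366 → P i := stepQ 117365 Q117365 (allL N117365 (tt N121925 (iv1 F529102)) (tt N111233 (iv0 F504687)) (tt N98468 F504682) (tt N91114 F504683) (tt N98460 F504684) (tt N98102 F504685) (tt N91113 (iv6 D220624)) (tt N98470 F504686))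
theorem Q117367 : ∀ i, i < 117367 → P i := stepQ 117366 Q117366 (allL N117366 (tt N109261 F504690) (tt N109260 F504691) (tt N120070 (iv2 F518884)) (tt N91117 F504688) (tt N120006 (iv4 F518518)) (tt N91116 (iv5 D220625)) (tt N114029 (iv6 F504692)) (tt N112675 F504689))
theorem Q117368 : ∀ i, i < 117368 → P i := stepQ 117367 Q117367 (allL N117367 (tt N100466 (iv1 F504695)) (tt N91120 (iv0 D220626)) (tt N121871 (iv2 F528825)) (tt N113415 F504694) (tt N101297 F504693) (tt N119806 (iv5 F517496)) (tt N113415 (iv6 F504696)) (tt N121870 F528819))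
theorem Q117369 : ∀ i, i < 117369 → P i := stepQ 117368 Q117368 (allL N117368 (tt N91120 (iv1 D220627)) (tt N100466 (iv0 F504700)) (tt N121870 F528818) (tt N113394 (iv3 F504698)) (tt N99865 F504697) (tt N99249 F504699) (tt N121239 (iv6 F525311)) (tt N121871 (iv7 F528821)))
theorem Q117370 : ∀ i, i < 117370 → P i := stepQ 117369 Q117369 (allL N117369 (tt N121871 (iv1 F528820)) (tt N121870 F528817) (tt N91120 (iv2 D220628)) (tt N101165 F504701) (tt N91136 F504702) (tt N119785 (iv5 F517407)) (tt N116189 F504703) (tt N100466 F504704))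
theorem Q117371 : ∀ i, i < 117371 → P i := stepQ 117370 Q117370 (allL N117370 (tt N121960 (iv1 F529315)) (tt N117249 (iv0 F504708)) (tt N119785 (iv2 F517406)) (tt N91121 F504705) (tt N118233 (iv4 F509279)) (tt N91120 (iv5 D220629)) (tt N106673 F504706) (tt N119789 (iv7 F517426)))
theorem Q117372 : ∀ i, i < 117372 → P i := stepQ 117371 Q117371 (allL N117371 (tt N120197 F519541) (tt N121425 (iv0 F526296)) (tt N119788 (iv2 F517420)) (tt N106673 F504709) (tt N109519 F504710) (tt N119787 F517419) (tt N91121 (iv6 D220630)) (tt N121992 (iv7 F529506)))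
theorem Q117373 : ∀ i, i < 117373 → P i := stepQ 117372 Q117372 (allL N117372 (tt N121696 (iv1 F527804)) (tt N120417 (iv0 F520671)) (tt N121350 (iv2 F525908)) (tt N98921 F504711) (tt N91126 F504712) (tt N98918 F504713) (tt N100470 F504714) (tt N91122 (iv7 D220631)))
theorem Q117374 : ∀ i, i < 117374 → P i := stepQ 117373 Q117373 (allL N117373 (tt N110710 F504718) (tt N113352 (iv0 F504719)) (tt N113350 F504715) (tt N122067 (iv3 F529963)) (tt N91123 (iv4 D220632)) (tt N120214 (iv5 F519633)) (tt N101309 F504716) (tt N113351 F504717))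
theorem Q117375 : ∀ i, i < 117375 → P i := stepQ 117374 Q117374 (allL N117374 (tt N116094 F504723) (tt N120180 (iv0 F519467)) (tt N109637 F504720) (tt N91124 (iv3 D220633)) (tt N107188 (iv4 F504721)) (tt N120301 (iv5 F520105)) (tt N100237 F504722) (tt N117398 (iv7 F504831)))
theorem Q117376 : ∀ i, i < 117376 → P i := stepQ 117375 Q117375 (allL N117375 (tt N113352 (iv1 F504728)) (tt N110710 F504727) (tt N113351 F504724) (tt N107189 F504725) (tt N91124 (iv4 D220634)) (tt N120215 (iv5 F519641)) (tt N109833 (iv6 F504729)) (tt N113350 F504726))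
theorem Q117377 : ∀ i, i < 117377 → P i := stepQ 117376 Q117376 (allL N117376 (tt N107338 F504733) (tt N105659 (iv0 F504735)) (tt N119825 (iv2 F517562)) (tt N100237 F504730) (tt N109833 F504731) (tt N100236 F504734) (tt N91124 (iv6 D220635)) (tt N111197 F504732))
theorem Q117378 : ∀ i, i < 117378 → P i := stepQ 117377 Q117377 (allL N117377 (tt N120318 (iv1 F520171)) (tt N120317 F520169) (tt N111956 F504736) (tt N120490 (iv3 F521043)) (tt N91125 (iv4 D220636)) (tt N120490 (iv5 F521045)) (tt N91127 F504737) (tt N122214 (iv7 F530820)))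
theorem Q117379 : ∀ i, i < 117379 → P i := stepQ 117378 Q117378 (allL N117378 (tt N107449 (iv1 F504742)) (tt N116181 F504743) (tt N112773 F504738) (tt N91147 F504739) (tt N122214 (iv4 F530817)) (tt N91126 F504740) (tt N112739 F504741) (tt N91125 (iv7 D220637)))
theorem Q117380 : ∀ i, i < 117380 → P i := stepQ 117379 Q117379 (allL N117379 (tt N105247 F504747) (tt N121104 (iv0 F524533)) (tt N101279 F504744) (tt N118431 (iv3 F510316)) (tt N96304 F504746) (tt N91127 (iv5 D220638)) (tt N118431 (iv6 F510317)) (tt N101280 F504745))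
theorem Q117381 : ∀ i, i < 117381 → P i := stepQ 117380 Q117380 (allL N117380 (tt N91128 (iv1 D220639)) (tt N119919 (iv0 F518040)) (tt N116097 F504752) (tt N101085 (iv3 F504749)) (tt N101087 (iv4 F504750)) (tt N117144 (iv5 F504751)) (tt N122209 (iv6 F530791)) (tt N112346 F504748))
theorem Q117382 : ∀ i, i < 117382 → P i := stepQ 117381 Q117381 (allL N117381 (tt N122599 D225858) (tt N116093 (iv0 F504757)) (tt N113382 F504753) (tt N91130 F504754) (tt N107531 F504755) (tt N122317 (iv5 F531380)) (tt N91129 (iv6 D220640)) (tt N117215 F504756))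
theorem Q117383 : ∀ i, i < 117383 → P i := stepQ 117382 Q117382 (allL N117382 (tt N117133 F504762) (tt N91151 (iv0 F504763)) (tt N105656 F504758) (tt N91131 (iv3 D220641)) (tt N107617 F504764) (tt N92153 F504759) (tt N116693 F504760) (tt N92152 F504761))
theorem Q117384 : ∀ i, i < 117384 → P i := stepQ 117383 Q117383 (allL N117383 (tt N109987 F504766) (tt N110229 F504767) (tt N120216 F519648) (tt N122312 (iv3 F531349)) (tt N91134 (iv4 D220642)) (tt N119797 (iv5 F517460)) (tt N113353 F504765) (tt N119796 F517457))
theorem Q117385 : ∀ i, i < 117385 → P i := stepQ 117384 Q117384 (allL N117384 (tt N100431 (iv1 F504771)) (tt N114637 (iv0 F504770)) (tt N120110 (iv2 F519095)) (tt N91135 (iv3 D220643)) (tt N119783 (iv4 F517395)) (tt N99878 F504768) (tt N106337 (iv6 F504769)) (tt N121770 (iv7 F528216)))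
theorem Q117386 : ∀ i, i < 117386 → P i := stepQ 117385 Q117385 (allL N117385 (tt N110229 F504772) (tt N109987 F504773) (tt N119796 (iv2 F517453)) (tt N119816 (iv3 F517522)) (tt N91135 (iv4 D220644)) (tt N118238 (iv5 F509307)) (tt N119815 F517521) (tt N120216 (iv7 F519646)))
theorem Q117387 : ∀ i, i < 117387 → P i := stepQ 117386 Q117386 (allL N117386 (tt N117276 F504776) (tt N100263 (iv0 F504777)) (tt N122050 (iv2 F529854)) (tt N106337 F504774) (tt N119815 (iv4 F517519)) (tt N106335 F504775) (tt N91135 (iv6 D220645)) (tt N119782 (iv7 F517391)))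
theorem Q117388 : ∀ i, i < 117388 → P i := stepQ 117387 Q117387 (allL N117387 (tt N116557 F518871) (tt N116271 (iv0 F504779)) (tt N119306 (iv2 F514949)) (tt N91140 F504778) (tt N118569 (iv4 F510953)) (tt N91139 (iv5 D220646)) (tt N118534 F510833) (tt N122381 (iv7 F531759)))
theorem Q117389 : ∀ i, i < 117389 → P i := stepQ 117388 Q117388 (allL N117388 (tt N113891 F504782) (tt N122051 (iv0 F529866)) (tt N122210 (iv2 F530795)) (tt N122595 F533063) (tt N91140 (iv4 D220647)) (tt N112372 F504780) (tt N122275 F531119) (tt N112371 F504781))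
theorem Q117390 : ∀ i, i < 117390 → P i := stepQ 117389 Q117389 (allL N117389 (tt N117337 F504786) (tt N117299 (iv0 F504787)) (tt N114023 F504783) (tt N118534 (iv3 F510834)) (tt N122275 (iv4 F531117)) (tt N113720 F504784) (tt N91140 (iv6 D220648)) (tt N117335 F504785))
theorem Q117391 : ∀ i, i < 117391 → P i := stepQ 117390 Q117390 (allL N117390 (tt N122541 (iv1 F532745)) (tt N112988 (iv0 F504791)) (tt N122319 (iv2 F531389)) (tt N91145 (iv3 D220649)) (tt N122302 (iv4 F531285)) (tt N109879 F504788) (tt N109882 (iv6 F504790)) (tt N116175 F504789))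
theorem Q117392 : ∀ i, i < 117392 → P i := stepQ 117391 Q117391 (allL N117391 (tt N116176 F504796) (tt N116768 (iv0 F504797)) (tt N114612 F504792) (tt N109882 F504793) (tt N122167 (iv4 F530539)) (tt N109876 F504794) (tt N91145 (iv6 D220650)) (tt N114610 F504795))
theorem Q117393 : ∀ i, i < 117393 → P i := stepQ 117392 Q117392 (allL N117392 (tt N92152 (iv1 F504802)) (tt N105656 F504803) (tt N117133 F504798) (tt N110243 F504799) (tt N117397 (iv4 F504824)) (tt N113783 F504800) (tt N113492 F504801) (tt N91151 (iv7 D220651)))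
theorem Q117394 : ∀ i, i < 117394 → P i := stepQ 117393 Q117393 (allL N117393 (tt N121946 F529232) (tt N116747 (iv0 F504807)) (tt N122451 (iv2 F532193)) (tt N109968 F504804) (tt N109895 F504805) (tt N116727 F504806) (tt N91152 (iv6 D220652)) (tt N121941 (iv7 F529201)))
theorem Q117395 : ∀ i, i < 117395 → P i := stepQ 117394 Q117394 (allL N117394 (tt N107617 F504812) (tt N107618 F504813) (tt N107213 F504808) (tt N106637 F504809) (tt N106596 F504810) (tt N100122 F504811) (tt N91153 (iv6 D220653)) (tt N107210 F504814))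
theorem Q117396 : ∀ i, i < 117396 → P i := stepQ 117395 Q117395 (allL N117395 (tt N120083 (iv1 F518963)) (tt N91154 (iv0 D220654)) (tt N122555 F532821) (tt N109817 (iv3 F504816)) (tt N121941 (iv4 F529199)) (tt N109816 F504815) (tt N121931 (iv6 F529136)) (tt N109895 (iv7 F504817)))
theorem Q117397 : ∀ i, i < 117397 → P i := stepQ 117396 Q117396 (allL N117396 (tt N109895 (iv1 F504821)) (tt N122555 F532822) (tt N120083 (iv2 F518957)) (tt N116923 F504818) (tt N91157 F504819) (tt N107612 F504820) (tt N120079 F518938) (tt N91154 (iv7 D220655)))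
theorem Q117398 : ∀ i, i < 117398 → P i := stepQ 117397 Q117397 (allL N117397 (tt N107340 (iv1 F504827)) (tt N107459 (iv0 F504828)) (tt N107181 F504822) (tt N110376 F504823) (tt N117392 F504824) (tt N99514 F504825) (tt N91155 (iv6 D220656)) (tt N107183 F504826))
theorem Q117399 : ∀ i, i < 117399 → P i := stepQ 117398 Q117398 (allL N117398 (tt N121822 (iv1 F528521)) (tt N113169 (iv0 F504832)) (tt N120274 (iv2 F519958)) (tt N112546 F504829) (tt N112565 F504830) (tt N122132 (iv5 F530351)) (tt N91159 (iv6 D220657)) (tt N117374 F504831))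
theorem Q117400 : ∀ i, i < 117400 → P i := stepQ 117399 Q117399 (allL N117399 (tt N112576 F504838) (tt N122287 (iv0 F531199)) (tt N91161 F504833) (tt N98448 F504834) (tt N110363 F504835) (tt N98447 F504836) (tt N91160 (iv6 D220658)) (tt N112514 F504837))
theorem Q117401 : ∀ i, i < 117401 → P i := stepQ 117400 Q117400 (allL N117400 (tt N122287 (iv1 F531200)) (tt N112576 (iv0 F504844)) (tt N112514 F504839) (tt N91163 F504840) (tt N116923 F504841) (tt N101470 F504842) (tt N101095 F504843) (tt N91161 (iv7 D220659)))
theorem Q117402 : ∀ i, i < 117402 → P i := stepQ 117401 Q117401 (allL N117401 (tt N98442 F504847) (tt N91162 (iv0 D220660)) (tt N121841 F528635) (tt N107981 F504845) (tt N121155 (iv4 F524828)) (tt N122274 (iv5 F531110)) (tt N121300 F525633) (tt N107975 (iv7 F504846)))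
theorem Q117403 : ∀ i, i < 117403 → P i := stepQ 117402 Q117402 (allL N117402 (tt N91162 (iv1 D220661)) (tt N98442 F504848) (tt N107975 F504851) (tt N114634 (iv3 F504849)) (tt N121154 (iv4 F524821)) (tt N121923 (iv5 F529085)) (tt N107974 (iv6 F504850)) (tt N121841 (iv7 F528637)))
theorem Q117404 : ∀ i, i < 117404 → P i := stepQ 117403 Q117403 (allL N117403 (tt N107975 (iv1 F504857)) (tt N121841 F528636) (tt N98442 F504852) (tt N101470 F504853) (tt N114744 F504854) (tt N91163 F504855) (tt N101468 F504856) (tt N91162 (iv7 D220662)))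
theorem Q117405 : ∀ i, i < 117405 → P i := stepQ 117404 Q117404 (allL N117404 (tt N122600 D225859) (tt N110718 (iv0 F504861)) (tt N113529 F504858) (tt N112572 F504859) (tt N91164 (iv4 D220663)) (tt N121292 (iv5 F525596)) (tt N117257 F504862) (tt N113531 F504860))
theorem Q117406 : ∀ i, i < 117406 → P i := stepQ 117405 Q117405 (allL N117405 (tt N110371 F504869) (tt N121373 (iv0 F526015)) (tt N113530 F504863) (tt N91166 F504864) (tt N117257 F504865) (tt N116601 F504867) (tt N91164 (iv6 D220664)) (tt N116600 F504866))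
theorem Q117407 : ∀ i, i < 117407 → P i := stepQ 117406 Q117406 (allL N117406 (tt N116422 F504875) (tt N116421 F504876) (tt N116423 F504870) (tt N114304 F504871) (tt N115734 F504872) (tt N91168 (iv5 D220665)) (tt N113841 F504873) (tt N114405 F504874))
theorem Q117408 : ∀ i, i < 117408 → P i := stepQ 117407 Q117407 (allL N117407 (tt N108320 F504882) (tt N115495 F504883) (tt N115494 F504877) (tt N95141 F504878) (tt N91179 (iv4 D220666)) (tt N95140 F504879) (tt N111772 F504880) (tt N111790 F504881))
theorem Q117409 : ∀ i, i < 117409 → P i := stepQ 117408 Q117408 (allL N117408 (tt N91188 (iv1 F504887)) (tt N91185 (iv0 D220667)) (tt N112826 (iv2 F504886)) (tt N111543 F504885) (tt N95458 F504884) (tt N121605 (iv5 F527292)) (tt N95457 F504889) (tt N111710 F504888))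
theorem Q117410 : ∀ i, i < 117410 → P i := stepQ 117409 Q117409 (allL N117409 (tt N98236 F504891) (tt N113263 (iv0 F504892)) (tt N122108 (iv2 F530213)) (tt N91682 F504890) (tt N121112 (iv4 F524568)) (tt N91188 (iv5 D220668)) (tt N122502 (iv6 F532512)) (tt N121444 (iv7 F526413)))
theorem Q117411 : ∀ i, i < 117411 → P i := stepQ 117410 Q117410 (allL N117410 (tt N112638 F504896) (tt N115440 F504897) (tt N91931 F504893) (tt N101507 F504894) (tt N91190 (iv4 D220669)) (tt N120205 (iv5 F519584)) (tt N118941 (iv6 F512875)) (tt N112532 F504895))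
theorem Q117412 : ∀ i, i < 117412 → P i := stepQ 117411 Q117411 (allL N117411 (tt N108259 (iv1 F504903)) (tt N99565 (iv0 F504902)) (tt N91199 F504898) (tt N112716 F504899) (tt N91196 F504900) (tt N112446 F504901) (tt N91195 (iv6 D220670)) (tt N108258 (iv7 F504904)))
theorem Q117413 : ∀ i, i < 117413 → P i := stepQ 117412 Q117412 (allL N117412 (tt N99565 (iv1 F504909)) (tt N108259 F504910) (tt N108258 F504905) (tt N97243 F504906) (tt N91202 F504907) (tt N119005 (iv5 F513235)) (tt N116078 F504908) (tt N91199 (iv7 D220671)))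
theorem Q117414 : ∀ i, i < 117414 → P i := stepQ 117413 Q117413 (allL N117413 (tt N91205 (iv1 D220672)) (tt N104916 F504911) (tt N104917 F504917) (tt N97349 (iv3 F504915)) (tt N115369 F504914) (tt N113692 F504913) (tt N105783 (iv6 F504916)) (tt N104914 F504912))
theorem Q117415 : ∀ i, i < 117415 → P i := stepQ 117414 Q117414 (allL N117414 (tt N104995 F504923) (tt N109723 F504924) (tt N91215 F504918) (tt N104927 F504919) (tt N113151 F504920) (tt N91211 (iv5 D220673)) (tt N92949 F504921) (tt N109744 F504922))
theorem Q117416 : ∀ i, i < 117416 → P i := stepQ 117415 Q117415 (allL N117415 (tt N96400 F504928) (tt N96705 F504929) (tt N96704 F504925) (tt N121179 (iv3 F524970)) (tt N91219 (iv4 D220674)) (tt N115047 F504927) (tt N121757 (iv6 F528136)) (tt N96611 F504926))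
theorem Q117417 : ∀ i, i < 117417 → P i := stepQ 117416 Q117416 (allL N117416 (tt N114451 F504934) (tt N104969 (iv0 F504935)) (tt N114983 F504930) (tt N113100 F504931) (tt N121757 (iv4 F528134)) (tt N111248 F504932) (tt N91219 (iv6 D220675)) (tt N114915 F504933))
theorem Q117418 : ∀ i, i < 117418 → P i := stepQ 117417 Q117417 (allL N117417 (tt N96705 F504940) (tt N96400 F504941) (tt N96611 F504936) (tt N119428 (iv3 F515563)) (tt N91221 (iv4 D220676)) (tt N115048 F504937) (tt N96350 F504938) (tt N96704 F504939))
theorem Q117419 : ∀ i, i < 117419 → P i := stepQ 117418 Q117418 (allL N117418 (tt N112468 F504947) (tt N108782 F504948) (tt N114076 F504942) (tt N104854 F504943) (tt N115083 F504944) (tt N91222 (iv5 D220677)) (tt N114914 F504945) (tt N105709 F504946))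
theorem Q117420 : ∀ i, i < 117420 → P i := stepQ 117419 Q117419 (allL N117419 (tt N91230 (iv1 D220678)) (tt N91240 F504949) (tt N91238 (iv2 F504952)) (tt N122466 (iv3 F532285)) (tt N93176 F504951) (tt N120596 (iv5 F521656)) (tt N118060 (iv6 F508356)) (tt N91237 F504950))
theorem Q117421 : ∀ i, i < 117421 → P i := stepQ 117420 Q117420 (allL N117420 (tt N91238 (iv1 F504957)) (tt N91237 F504958) (tt N91240 F504953) (tt N106694 F504954) (tt N91232 F504955) (tt N119393 (iv5 F515392)) (tt N115167 F504956) (tt N91230 (iv7 D220679)))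
theorem Q117422 : ∀ i, i < 117422 → P i := stepQ 117421 Q117421 (allL N117421 (tt N115230 F504961) (tt N115301 (iv0 F504962)) (tt N122465 (iv2 F532277)) (tt N91233 (iv3 D220680)) (tt N97302 F504959) (tt N115243 F504960) (tt N97301 (iv6 F504963)) (tt N122160 (iv7 F530502)))
theorem Q117423 : ∀ i, i < 117423 → P i := stepQ 117422 Q117422 (allL N117422 (tt N115211 F504968) (tt N115242 (iv0 F504969)) (tt N120968 (iv2 F523761)) (tt N97301 F504964) (tt N113929 F504965) (tt N115275 F504966) (tt N91233 (iv6 D220681)) (tt N115274 F504967))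
theorem Q117424 : ∀ i, i < 117424 → P i := stepQ 117423 Q117423 (allL N117423 (tt N106703 F504973) (tt N106705 (iv0 F504974)) (tt N91236 F504970) (tt N106698 F504971) (tt N91250 F504972) (tt N119407 (iv5 F515457)) (tt N91235 (iv6 D220682)) (tt N119406 (iv7 F515452)))
theorem Q117425 : ∀ i, i < 117425 → P i := stepQ 117424 Q117424 (allL N117424 (tt N119404 F515440) (tt N119403 (iv0 F515435)) (tt N119407 (iv2 F515455)) (tt N91239 F504975) (tt N119397 (iv4 F515410)) (tt N91236 (iv5 D220683)) (tt N119403 (iv6 F515434)) (tt N119396 F515407))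
theorem Q117426 : ∀ i, i < 117426 → P i := stepQ 117425 Q117425 (allL N117425 (tt N106705 (iv1 F504979)) (tt N106703 F504980) (tt N119406 (iv2 F515448)) (tt N91240 F504976) (tt N91251 F504977) (tt N119396 F515404) (tt N115298 F504978) (tt N91236 (iv7 D220684)))
theorem Q117427 : ∀ i, i < 117427 → P i := stepQ 117426 Q117426 (allL N117426 (tt N115322 F504983) (tt N115322 (iv0 F508415)) (tt N122466 (iv2 F532284)) (tt N91237 (iv3 D220685)) (tt N93023 F504981) (tt N122601 D225860) (tt N93022 F504982) (tt N122466 (iv7 F532287)))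
theorem Q117428 : ∀ i, i < 117428 → P i := stepQ 117427 Q117427 (allL N117427 (tt N120598 (iv1 F521667)) (tt N120597 F521664) (tt N102037 F504984) (tt N122601 (iv3 F533098)) (tt N97443 F504985) (tt N91237 (iv5 D220686)) (tt N122521 (iv6 F532618)) (tt N120596 (iv7 F521657)))
theorem Q117429 : ∀ i, i < 117429 → P i := stepQ 117428 Q117428 (allL N117428 (tt N106747 (iv1 F504990)) (tt N119381 F515329) (tt N102224 F504986) (tt N102226 F504989) (tt N91239 (iv4 D220687)) (tt N96974 F504988) (tt N102224 F504987) (tt N118992 (iv7 F513163)))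
theorem Q117430 : ∀ i, i < 117430 → P i := stepQ 117429 Q117429 (allL N117429 (tt N115239 F504994) (tt N98581 (iv0 F504995)) (tt N119389 (iv2 F515375)) (tt N91241 (iv3 D220688)) (tt N100292 F504991) (tt N119386 (iv5 F515358)) (tt N109691 F504992) (tt N115256 F504993))
theorem Q117431 : ∀ i, i < 117431 → P i := stepQ 117430 Q117430 (allL N117430 (tt N102296 (iv1 F515361)) (tt N119386 (iv0 F515359)) (tt N115197 F504996) (tt N119386 F515362) (tt N119390 (iv4 F515380)) (tt N91241 (iv5 D220689)) (tt N119454 (iv6 F515711)) (tt N119387 (iv7 F515364)))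
theorem Q117432 : ∀ i, i < 117432 → P i := stepQ 117431 Q117431 (allL N117431 (tt N119386 (iv1 F515360)) (tt N102296 F504999) (tt N119387 F515367) (tt N119454 (iv3 F515709)) (tt N102158 F504998) (tt N91242 (iv5 D220690)) (tt N119386 (iv6 F515356)) (tt N115197 F504997))
theorem Q117433 : ∀ i, i < 117433 → P i := stepQ 117432 Q117432 (allL N117432 (tt N114596 F505005) (tt N114600 F505006) (tt N115189 F505000) (tt N109692 F505001) (tt N91243 F505002) (tt N109691 (iv5 F505004)) (tt N91242 (iv6 D220691)) (tt N104924 F505003))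
theorem Q117434 : ∀ i, i < 117434 → P i := stepQ 117433 Q117433 (allL N117433 (tt N119365 F515237) (tt N122417 F531984) (tt N115198 F505007) (tt N104938 F505008) (tt N91246 F505009) (tt N118068 (iv5 F508398)) (tt N91245 (iv6 D220692)) (tt N120967 (iv7 F523760)))
theorem Q117435 : ∀ i, i < 117435 → P i := stepQ 117434 Q117434 (allL N117434 (tt N122082 F530055) (tt N119360 (iv0 F515210)) (tt N122128 (iv2 F530333)) (tt N115391 F505010) (tt N114861 F505011) (tt N91249 (iv5 D220693)) (tt N119244 (iv6 F514588)) (tt N122339 (iv7 F531511)))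
theorem Q117436 : ∀ i, i < 117436 → P i := stepQ 117435 Q117435 (allL N117435 (tt N106669 F505016) (tt N119798 (iv0 F517467)) (tt N117484 (iv2 F505274)) (tt N110921 F505012) (tt N109837 F505015) (tt N91256 (iv5 D220694)) (tt N110919 F505013) (tt N110000 F505014))
theorem Q117437 : ∀ i, i < 117437 → P i := stepQ 117436 Q117436 (allL N117436 (tt N94450 F505021) (tt N97233 (iv0 F505022)) (tt N97235 F505017) (tt N100503 F505018) (tt N110790 F505019) (tt N122492 (iv5 F532457)) (tt N91258 (iv6 D220695)) (tt N97227 F505020))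
theorem Q117438 : ∀ i, i < 117438 → P i := stepQ 117437 Q117437 (allL N117437 (tt N106664 F505025) (tt N110565 (iv0 F505026)) (tt N119755 (iv2 F517257)) (tt N91260 (iv3 D220696)) (tt N105987 F505023) (tt N117251 F505027) (tt N121397 F526130) (tt N105986 F505024))
theorem Q117439 : ∀ i, i < 117439 → P i := stepQ 117438 Q117438 (allL N117438 (tt N119798 (iv1 F517468)) (tt N106669 F505031) (tt N110000 F505028) (tt N117251 F505029) (tt N109999 F505030) (tt N91260 (iv5 D220697)) (tt N117249 F505032) (tt N117484 (iv7 F505277)))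
theorem Q117440 : ∀ i, i < 117440 → P i := stepQ 117439 Q117439 (allL N117439 (tt N110743 F505036) (tt N119804 F517492) (tt N117487 (iv2 F505292)) (tt N116516 F505033) (tt N109831 F505035) (tt N91263 (iv5 D220698)) (tt N119809 (iv6 F517504)) (tt N109983 F505034))
theorem Q117441 : ∀ i, i < 117441 → P i := stepQ 117440 Q117440 (allL N117440 (tt N119804 (iv1 F517491)) (tt N110743 F505039) (tt N109983 F505037) (tt N120419 (iv3 F520680)) (tt N109980 F505038) (tt N91265 (iv5 D220699)) (tt N120418 (iv6 F520679)) (tt N117487 (iv7 F505293)))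
theorem Q117442 : ∀ i, i < 117442 → P i := stepQ 117441 Q117441 (allL N117441 (tt N117461 (iv1 F505157)) (tt N116398 F505044) (tt N118443 (iv2 F510381)) (tt N110550 F505040) (tt N111176 F505043) (tt N91276 (iv5 D220700)) (tt N93414 F505041) (tt N91401 F505042))
theorem Q117443 : ∀ i, i < 117443 → P i := stepQ 117442 Q117442 (allL N117442 (tt N101234 F505050) (tt N91406 (iv0 F505051)) (tt N91412 F505045) (tt N96812 F505046) (tt N109292 F505047) (tt N114805 F505048) (tt N91280 (iv6 D220701)) (tt N96809 F505049))
theorem Q117444 : ∀ i, i < 117444 → P i := stepQ 117443 Q117443 (allL N117443 (tt N113382 F505055) (tt N117215 (iv0 F505056)) (tt N116093 F505052) (tt N111341 F505053) (tt N109956 F505054) (tt N122511 (iv5 F532568)) (tt N91288 (iv6 D220702)) (tt N122599 (iv7 F533089)))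
theorem Q117445 : ∀ i, i < 117445 → P i := stepQ 117444 Q117444 (allL N117444 (tt N102084 F505062) (tt N101988 (iv0 F505063)) (tt N102130 F505058) (tt N96974 F505059) (tt N95377 F505060) (tt N102226 F505061) (tt N91301 (iv6 D220703)) (tt N102131 F505064))
theorem Q117446 : ∀ i, i < 117446 → P i := stepQ 117445 Q117445 (allL N117445 (tt N103337 F505070) (tt N118698 (iv0 F511608)) (tt N111618 F505065) (tt N93233 F505066) (tt N100714 F505067) (tt N104279 F505068) (tt N91302 (iv6 D220704)) (tt N105874 F505069))
theorem Q117447 : ∀ i, i < 117447 → P i := stepQ 117446 Q117446 (allL N117446 (tt N103150 F505076) (tt N111598 (iv0 F505077)) (tt N102818 F505071) (tt N96071 F505072) (tt N102649 F505073) (tt N91593 F505074) (tt N91323 (iv6 D220705)) (tt N91361 F505075))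
theorem Q117448 : ∀ i, i < 117448 → P i := stepQ 117447 Q117447 (allL N117447 (tt N108197 F505082) (tt N108110 F505083) (tt N108189 F505078) (tt N115672 F505079) (tt N122113 (iv4 F530250)) (tt N91325 (iv5 D220706)) (tt N102854 F505080) (tt N108125 F505081))
theorem Q117449 : ∀ i, i < 117449 → P i := stepQ 117448 Q117448 (allL N117448 (tt N112194 F505089) (tt N97407 (iv0 F505090)) (tt N95802 F505084) (tt N91342 F505085) (tt N101685 F505086) (tt N112075 F505087) (tt N91338 (iv6 D220707)) (tt N91409 F505088))
theorem Q117450 : ∀ i, i < 117450 → P i := stepQ 117449 Q117449 (allL N117449 (tt N100092 F505096) (tt N109580 F505097) (tt N109581 F505091) (tt N92370 F505092) (tt N108830 F505093) (tt N91343 (iv5 D220708)) (tt N100102 F505094) (tt N108649 F505095))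
theorem Q117451 : ∀ i, i < 117451 → P i := stepQ 117450 Q117450 (allL N117450 (tt N108821 F505102) (tt N120147 (iv0 F519299)) (tt N109579 F505098) (tt N94321 F505099) (tt N116686 F505101) (tt N91346 (iv5 D220709)) (tt N116684 F505103) (tt N92368 F505100))
theorem Q117452 : ∀ i, i < 117452 → P i := stepQ 117451 Q117451 (allL N117451 (tt N92399 (iv1 F505109)) (tt N92398 F505110) (tt N92401 F505104) (tt N94322 F505105) (tt N91347 F505106) (tt N116685 F505107) (tt N91346 (iv6 D220710)) (tt N92295 F505108))
theorem Q117453 : ∀ i, i < 117453 → P i := stepQ 117452 Q117452 (allL N117452 (tt N120147 (iv1 F519300)) (tt N108821 F505117) (tt N92368 F505112) (tt N113287 F505113) (tt N100108 F505114) (tt N91348 (iv5 D220711)) (tt N92292 F505115) (tt N109579 F505116))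
theorem Q117454 : ∀ i, i < 117454 → P i := stepQ 117453 Q117453 (allL N117453 (tt N106454 F505121) (tt N106452 (iv0 F505122)) (tt N106451 F505118) (tt N91349 (iv3 D220712)) (tt N91635 F505119) (tt N121896 (iv5 F528956)) (tt N118282 (iv6 F509503)) (tt N92500 F505120))
theorem Q117455 : ∀ i, i < 117455 → P i := stepQ 117454 Q117454 (allL N117454 (tt N116687 F505125) (tt N116061 F505126) (tt N117469 F505194) (tt N121896 (iv3 F528955)) (tt N121898 F528965) (tt N91349 (iv5 D220713)) (tt N109586 F505123) (tt N92501 F505124))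
theorem Q117456 : ∀ i, i < 117456 → P i := stepQ 117455 Q117455 (allL N117455 (tt N119251 (iv1 F514635)) (tt N91350 (iv0 D220714)) (tt N113289 (iv2 F505129)) (tt N118854 (iv3 F512422)) (tt N113275 F505128) (tt N91390 F505127) (tt N113275 F505130) (tt N113272 F505131))
theorem Q117457 : ∀ i, i < 117457 → P i := stepQ 117456 Q117456 (allL N117456 (tt N120149 (iv1 F519310)) (tt N120148 (iv0 F519305)) (tt N109570 F505132) (tt N116643 F505133) (tt N118543 (iv4 F510872)) (tt N109569 F505134) (tt N91350 (iv6 D220715)) (tt N120153 (iv7 F519331)))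
theorem Q117458 : ∀ i, i < 117458 → P i := stepQ 117457 Q117457 (allL N117457 (tt N99201 (iv1 F505138)) (tt N91351 (iv0 D220716)) (tt N110985 (iv2 F505137)) (tt N110625 F505136) (tt N91460 F505135) (tt N117494 (iv5 F505323)) (tt N110778 (iv6 F505140)) (tt N110619 F505139))
theorem Q117459 : ∀ i, i < 117459 → P i := stepQ 117458 Q117458 (allL N117458 (tt N109980 F505144) (tt N109831 F505145) (tt N109982 F505141) (tt N110564 F505142) (tt N119905 (iv4 F517960)) (tt N91351 (iv5 D220717)) (tt N122307 (iv6 F531319)) (tt N109981 F505143))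
theorem Q117460 : ∀ i, i < 117460 → P i := stepQ 117459 Q117459 (allL N117459 (tt N91352 (iv1 D220718)) (tt N117541 F505613) (tt N117540 F505607) (tt N122097 F530148) (tt N122602 D225861) (tt N117678 (iv5 F506374)) (tt N122042 F529808) (tt N117539 F505602))
theorem Q117461 : ∀ i, i < 117461 → P i := stepQ 117460 Q117460 (allL N117460 (tt N119238 F514552) (tt N91365 (iv0 F505150)) (tt N119366 (iv2 F515238)) (tt N91353 (iv3 D220719)) (tt N108127 F505146) (tt N108532 F505147) (tt N97357 F505148) (tt N103151 F505149))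
theorem Q117462 : ∀ i, i < 117462 → P i := stepQ 117461 Q117461 (allL N117461 (tt N107793 F505156) (tt N117441 F505157) (tt N99334 F505151) (tt N96632 F505152) (tt N111161 F505153) (tt N91366 (iv5 D220720)) (tt N93866 F505154) (tt N96629 F505155))
theorem Q117463 : ∀ i, i < 117463 → P i := stepQ 117462 Q117462 (allL N117462 (tt N117128 F505160) (tt N121704 (iv0 F527857)) (tt N121468 (iv2 F526540)) (tt N115065 F505158) (tt N108628 F505161) (tt N91370 (iv5 D220721)) (tt N122122 (iv6 F530300)) (tt N115647 F505159))
theorem Q117464 : ∀ i, i < 117464 → P i := stepQ 117463 Q117463 (allL N117463 (tt N91372 (iv1 D220722)) (tt N119370 (iv0 F515267)) (tt N122411 (iv2 F531941)) (tt N99700 (iv3 F505164)) (tt N111627 F505163) (tt N99698 F505162) (tt N110958 (iv6 F505165)) (tt N121469 (iv7 F526550)))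
theorem Q117465 : ∀ i, i < 117465 → P i := stepQ 117464 Q117464 (allL N117464 (tt N122411 (iv1 F531947)) (tt N121469 (iv0 F526551)) (tt N119370 (iv2 F515262)) (tt N91387 F505166) (tt N120030 (iv4 F518653)) (tt N91373 F505167) (tt N120045 (iv6 F518732)) (tt N91372 (iv7 D220723)))
theorem Q117466 : ∀ i, i < 117466 → P i := stepQ 117465 Q117465 (allL N117465 (tt N120206 F519592) (tt N94092 (iv0 F505173)) (tt N91377 F505168) (tt N114876 F505169) (tt N116698 F505170) (tt N110774 F505171) (tt N91376 (iv6 D220724)) (tt N94573 F505172))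
theorem Q117467 : ∀ i, i < 117467 → P i := stepQ 117466 Q117466 (allL N117466 (tt N91377 (iv1 D220725)) (tt N94573 F505174) (tt N94092 F505178) (tt N112721 F505179) (tt N94632 F505176) (tt N95641 F505175) (tt N102800 (iv6 F505177)) (tt N120206 (iv7 F519590)))
theorem Q117468 : ∀ i, i < 117468 → P i := stepQ 117467 Q117467 (allL N117467 (tt N94092 (iv1 F505185)) (tt N120206 (iv0 F519591)) (tt N94573 F505180) (tt N91380 F505181) (tt N105439 F505182) (tt N101238 F505183) (tt N94077 F505184) (tt N91377 (iv7 D220726)))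
theorem Q117469 : ∀ i, i < 117469 → P i := stepQ 117468 Q117468 (allL N117468 (tt N117474 (iv1 F505220)) (tt N120018 (iv0 F518587)) (tt N121642 (iv2 F527500)) (tt N115605 F505186) (tt N91382 (iv4 D220727)) (tt N118668 (iv5 F511436)) (tt N94871 F505187) (tt N115576 F505188))
theorem Q117470 : ∀ i, i < 117470 → P i := stepQ 117469 Q117469 (allL N117469 (tt N91392 (iv1 D220728)) (tt N117912 F507560) (tt N117454 (iv2 F505194)) (tt N110087 (iv3 F505192)) (tt N116638 F505191) (tt N96846 F505190) (tt N110086 F505193) (tt N96845 F505189))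
theorem Q117471 : ∀ i, i < 117471 → P i := stepQ 117470 Q117470 (allL N117470 (tt N118436 (iv1 F510347)) (tt N98852 (iv0 F505197)) (tt N118545 (iv2 F510879)) (tt N117833 (iv3 F507180)) (tt N92372 F505195) (tt N102729 F505196) (tt N91392 (iv6 D220729)) (tt N118547 (iv7 F510893)))
theorem Q117472 : ∀ i, i < 117472 → P i := stepQ 117471 Q117471 (allL N117471 (tt N114580 F505201) (tt N114579 F505202) (tt N121604 (iv2 F527283)) (tt N98689 F505198) (tt N91401 (iv4 D220730)) (tt N111316 F505200) (tt N120454 (iv6 F520873)) (tt N111176 F505199))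
theorem Q117473 : ∀ i, i < 117473 → P i := stepQ 117472 Q117472 (allL N117472 (tt N91406 (iv1 D220731)) (tt N101234 F505203) (tt N96809 F505208) (tt N118311 (iv3 F509642)) (tt N109311 F505205) (tt N116003 (iv5 F505206)) (tt N96807 (iv6 F505207)) (tt N91412 F505204))
theorem Q117474 : ∀ i, i < 117474 → P i := stepQ 117473 Q117473 (allL N117473 (tt N95802 (iv1 F505213)) (tt N91409 (iv0 D220732)) (tt N97407 (iv2 F505212)) (tt N111608 F505210) (tt N118219 (iv4 F509221)) (tt N100703 F505209) (tt N95790 F505211) (tt N112194 F505214))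
theorem Q117475 : ∀ i, i < 117475 → P i := stepQ 117474 Q117474 (allL N117474 (tt N115887 F505219) (tt N117468 F505220) (tt N108114 F505215) (tt N95358 F505216) (tt N115885 F505218) (tt N91426 (iv5 D220733)) (tt N117545 (iv6 F505623)) (tt N117051 F505217))
theorem Q117476 : ∀ i, i < 117476 → P i := stepQ 117475 Q117475 (allL N117475 (tt N109635 F505225) (tt N111194 (iv0 F505226)) (tt N111192 F505221) (tt N91431 (iv3 D220734)) (tt N91585 F505222) (tt N120190 (iv5 F519511)) (tt N117334 F505223) (tt N111193 F505224))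
theorem Q117477 : ∀ i, i < 117477 → P i := stepQ 117476 Q117476 (allL N117476 (tt N115773 F505228) (tt N115774 F505229) (tt N122479 (iv2 F532375)) (tt N118896 F512629) (tt N119221 (iv4 F514442)) (tt N102067 F505227) (tt N91440 (iv6 D220735)) (tt N122330 (iv7 F531458)))
theorem Q117478 : ∀ i, i < 117478 → P i := stepQ 117477 Q117477 (allL N117477 (tt N112483 F505236) (tt N91443 (iv0 D220736)) (tt N114467 (iv2 F505233)) (tt N101056 (iv3 F505234)) (tt N104765 F505231) (tt N112296 F505230) (tt N110431 F505232) (tt N101055 (iv7 F505235)))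
theorem Q117479 : ∀ i, i < 117479 → P i := stepQ 117478 Q117478 (allL N117478 (tt N91443 (iv1 D220737)) (tt N112483 F505237) (tt N101055 F505241) (tt N101341 F505242) (tt N104764 F505239) (tt N122169 (iv5 F530554)) (tt N101073 (iv6 F505240)) (tt N114467 F505238))
theorem Q117480 : ∀ i, i < 117480 → P i := stepQ 117479 Q117479 (allL N117479 (tt N101055 (iv1 F505248)) (tt N114467 F505249) (tt N112483 F505243) (tt N108870 F505244) (tt N114457 F505245) (tt N108868 F505246) (tt N96626 F505247) (tt N91443 (iv7 D220738)))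
theorem Q117481 : ∀ i, i < 117481 → P i := stepQ 117480 Q117480 (allL N117480 (tt N95796 (iv1 F505255)) (tt N97405 F505256) (tt N97410 F505250) (tt N103344 F505251) (tt N101683 F505252) (tt N91447 F505253) (tt N101682 F505254) (tt N91446 (iv7 D220739)))
theorem Q117482 : ∀ i, i < 117482 → P i := stepQ 117481 Q117481 (allL N117481 (tt N114991 (iv1 F505260)) (tt N91449 (iv0 D220740)) (tt N114466 (iv2 F505259)) (tt N96630 F505258) (tt N117720 (iv4 F506611)) (tt N114933 F505257) (tt N101342 (iv6 F505262)) (tt N101427 F505261))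
theorem Q117483 : ∀ i, i < 117483 → P i := stepQ 117482 Q117482 (allL N117482 (tt N96626 (iv1 F505266)) (tt N91450 (iv0 D220741)) (tt N95716 (iv2 F505265)) (tt N96669 (iv3 F505268)) (tt N103019 F505264) (tt N95715 F505263) (tt N122366 F531671) (tt N96614 F505267))
theorem Q117484 : ∀ i, i < 117484 → P i := stepQ 117483 Q117483 (allL N117483 (tt N122575 (iv1 F532936)) (tt N116545 (iv0 F505273)) (tt N120207 (iv2 F519593)) (tt N91456 (iv3 D220742)) (tt N91478 F505269) (tt N109522 F505270) (tt N91468 F505271) (tt N101642 F505272))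
theorem Q117485 : ∀ i, i < 117485 → P i := stepQ 117484 Q117484 (allL N117484 (tt N98964 F505278) (tt N98957 F505279) (tt N117435 F505274) (tt N101443 F505275) (tt N117494 (iv4 F505324)) (tt N91458 (iv5 D220743)) (tt N101441 F505276) (tt N117438 F505277))
theorem Q117486 : ∀ i, i < 117486 → P i := stepQ 117485 Q117485 (allL N117485 (tt N117149 (iv1 F505283)) (tt N91463 (iv0 D220744)) (tt N117326 (iv2 F505282)) (tt N91482 (iv3 F505285)) (tt N110788 F505280) (tt N122089 (iv5 F530091)) (tt N111110 F505281) (tt N91602 F505284))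
theorem Q117487 : ∀ i, i < 117487 → P i := stepQ 117486 Q117486 (allL N117486 (tt N98935 F505289) (tt N109965 (iv0 F505290)) (tt N106644 F505286) (tt N91464 (iv3 D220745)) (tt N100184 F505287) (tt N122603 D225862) (tt N106803 F505291) (tt N106469 F505288))
theorem Q117488 : ∀ i, i < 117488 → P i := stepQ 117487 Q117487 (allL N117487 (tt N121856 (iv1 F528733)) (tt N98966 F505294) (tt N117439 F505292) (tt N122603 (iv3 F533111)) (tt N117489 (iv4 F505304)) (tt N91464 (iv5 D220746)) (tt N121996 (iv6 F529531)) (tt N117440 F505293))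
theorem Q117489 : ∀ i, i < 117489 → P i := stepQ 117488 Q117488 (allL N117488 (tt N99041 F505299) (tt N98778 F505301) (tt N99040 F505295) (tt N106803 F505296) (tt N91465 F505297) (tt N108459 (iv5 F505300)) (tt N91464 (iv6 D220747)) (tt N98884 F505298))
theorem Q117490 : ∀ i, i < 117490 → P i := stepQ 117489 Q117489 (allL N117489 (tt N109982 F505306) (tt N109981 F505307) (tt N109831 F505302) (tt N109992 F505303) (tt N117487 F505304) (tt N91467 (iv5 D220748)) (tt N120341 F520276) (tt N109980 F505305))
theorem Q117491 : ∀ i, i < 117491 → P i := stepQ 117490 Q117490 (allL N117490 (tt N93554 F505310) (tt N91468 (iv0 D220749)) (tt N109832 (iv2 F505309)) (tt N116849 F505308) (tt N118147 (iv4 F508858)) (tt N120475 (iv5 F520968)) (tt N119296 F514898) (tt N119285 (iv7 F514832)))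
theorem Q117492 : ∀ i, i < 117492 → P i := stepQ 117491 Q117491 (allL N117491 (tt N91468 (iv1 D220750)) (tt N93554 F505311) (tt N119285 (iv2 F514826)) (tt N98856 (iv3 F505313)) (tt N118146 (iv4 F508851)) (tt N120263 (iv5 F519890)) (tt N93542 F505314) (tt N109832 F505312))
theorem Q117493 : ∀ i, i < 117493 → P i := stepQ 117492 Q117492 (allL N117492 (tt N120424 F520711) (tt N121120 (iv0 F524613)) (tt N121170 (iv2 F524922)) (tt N91469 F505315) (tt N118671 (iv4 F511451)) (tt N91468 (iv5 D220751)) (tt N119824 (iv6 F517559)) (tt N121171 (iv7 F524925)))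
theorem Q117494 : ∀ i, i < 117494 → P i := stepQ 117493 Q117493 (allL N117493 (tt N119285 F514830) (tt N109832 (iv0 F505320)) (tt N93554 F505316) (tt N91470 F505317) (tt N91489 F505318) (tt N121171 (iv5 F524926)) (tt N101612 F505319) (tt N91468 (iv7 D220752)))
theorem Q117495 : ∀ i, i < 117495 → P i := stepQ 117494 Q117494 (allL N117494 (tt N91469 (iv1 D220753)) (tt N98983 F505321) (tt N109837 F505326) (tt N110004 (iv3 F505325)) (tt N117484 F505324) (tt N117457 F505323) (tt N120465 (iv6 F520922)) (tt N109999 F505322))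
theorem Q117496 : ∀ i, i < 117496 → P i := stepQ 117495 Q117495 (allL N117495 (tt N110197 F505331) (tt N110905 F505332) (tt N91564 F505327) (tt N96017 F505328) (tt N99621 F505329) (tt N91475 (iv5 D220754)) (tt N118714 (iv6 F511704)) (tt N91567 F505330))
theorem Q117497 : ∀ i, i < 117497 → P i := stepQ 117496 Q117496 (allL N117496 (tt N117524 (iv1 F505509)) (tt N117528 (iv0 F505532)) (tt N91572 F505333) (tt N111040 F505334) (tt N112482 F505335) (tt N91477 (iv5 D220755)) (tt N110221 F505337) (tt N91569 F505336))
theorem Q117498 : ∀ i, i < 117498 → P i := stepQ 117497 Q117497 (allL N117497 (tt N93376 (iv1 F505343)) (tt N97215 (iv0 F505342)) (tt N91573 F505338) (tt N107148 F505339) (tt N103967 F505340) (tt N111039 F505341) (tt N91477 (iv6 D220756)) (tt N118829 (iv7 F512291)))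
theorem Q117499 : ∀ i, i < 117499 → P i := stepQ 117498 Q117498 (allL N117498 (tt N93385 F505349) (tt N93381 (iv0 F505348)) (tt N91478 (iv2 D220757)) (tt N91574 F505344) (tt N120207 (iv4 F519594)) (tt N95219 F505345) (tt N91488 F505346) (tt N93383 (iv7 F505347)))
theorem Q117500 : ∀ i, i < 117500 → P i := stepQ 117499 Q117499 (allL N117499 (tt N93381 (iv1 F505355)) (tt N93385 F505356) (tt N93383 F505350) (tt N91480 F505351) (tt N101642 F505352) (tt N95206 F505353) (tt N95207 F505354) (tt N91478 (iv7 D220758)))
theorem Q117501 : ∀ i, i < 117501 → P i := stepQ 117500 Q117500 (allL N117500 (tt N93749 F505361) (tt N108327 F505362) (tt N91577 F505357) (tt N108873 (iv3 F505363)) (tt N91479 (iv4 D220759)) (tt N91547 F505358) (tt N114991 F505359) (tt N91546 F505360))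
theorem Q117502 : ∀ i, i < 117502 → P i := stepQ 117501 Q117501 (allL N117501 (tt N91614 F505371) (tt N91613 (iv0 F505372)) (tt N91579 F505366) (tt N95207 F505367) (tt N91481 F505368) (tt N95204 F505369) (tt N91480 (iv6 D220760)) (tt N91490 F505370))
theorem Q117503 : ∀ i, i < 117503 → P i := stepQ 117502 Q117502 (allL N117502 (tt N91659 F505377) (tt N91496 F505378) (tt N91599 F505373) (tt N96720 F505374) (tt N91482 (iv4 D220761)) (tt N101342 F505376) (tt N122091 (iv6 F530103)) (tt N91603 F505375))
theorem Q117504 : ∀ i, i < 117504 → P i := stepQ 117503 Q117503 (allL N117503 (tt N91496 F505383) (tt N91659 F505384) (tt N91603 F505379) (tt N122169 (iv3 F530552)) (tt N91483 (iv4 D220762)) (tt N101341 F505382) (tt N91552 F505380) (tt N91599 F505381))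
theorem Q117505 : ∀ i, i < 117505 → P i := stepQ 117504 Q117504 (allL N117504 (tt N91490 (iv1 D220763)) (tt N91579 F505385) (tt N91614 F505389) (tt N95165 (iv3 F505388)) (tt N91628 F505387) (tt N117690 (iv5 F506440)) (tt N120025 (iv6 F518625)) (tt N91613 F505386))
theorem Q117506 : ∀ i, i < 117506 → P i := stepQ 117505 Q117505 (allL N117505 (tt N97230 F505395) (tt N97228 (iv0 F505396)) (tt N93570 F505390) (tt N91494 (iv3 D220764)) (tt N106461 F505391) (tt N99569 F505392) (tt N99571 F505393) (tt N91647 F505394))
theorem Q117507 : ∀ i, i < 117507 → P i := stepQ 117506 Q117506 (allL N117506 (tt N96718 F505400) (tt N120026 (iv0 F518634)) (tt N91658 F505397) (tt N115021 F505398) (tt N110844 (iv4 F505401)) (tt N91496 (iv5 D220765)) (tt N91727 F505399) (tt N96641 (iv7 F505402)))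
theorem Q117508 : ∀ i, i < 117508 → P i := stepQ 117507 Q117507 (allL N117507 (tt N91603 (iv1 F505408)) (tt N91599 F505409) (tt N91659 F505403) (tt N94537 F505404) (tt N91498 F505405) (tt N96641 F505406) (tt N91646 F505407) (tt N91496 (iv7 D220766)))
theorem Q117509 : ∀ i, i < 117509 → P i := stepQ 117508 Q117508 (allL N117508 (tt N97229 F505412) (tt N110538 (iv0 F505413)) (tt N117155 F505410) (tt N91497 (iv3 D220767)) (tt N118555 (iv4 F510919)) (tt N118936 (iv5 F512839)) (tt N118867 (iv6 F512491)) (tt N91663 F505411))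
theorem Q117510 : ∀ i, i < 117510 → P i := stepQ 117509 Q117509 (allL N117509 (tt N91867 F505418) (tt N107163 F505419) (tt N107808 F505414) (tt N99318 F505415) (tt N116539 F505416) (tt N91509 (iv5 D220768)) (tt N110444 (iv6 F505420)) (tt N107807 F505417))
theorem Q117511 : ∀ i, i < 117511 → P i := stepQ 117510 Q117510 (allL N117510 (tt N108992 F505425) (tt N109000 F505426) (tt N108998 F505421) (tt N121972 (iv3 F529384)) (tt N91511 (iv4 D220769)) (tt N116473 F505422) (tt N94314 F505423) (tt N108997 F505424))
theorem Q117512 : ∀ i, i < 117512 → P i := stepQ 117511 Q117511 (allL N117511 (tt N103381 F505429) (tt N102168 (iv0 F505431)) (tt N102211 F505427) (tt N118083 (iv3 F508476)) (tt N91519 F505428) (tt N103378 F505430) (tt N91518 (iv6 D220770)) (tt N118082 (iv7 F508471)))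
theorem Q117513 : ∀ i, i < 117513 → P i := stepQ 117512 Q117512 (allL N117512 (tt N102903 F505437) (tt N113786 F505438) (tt N97602 F505432) (tt N104269 F505433) (tt N114355 F505434) (tt N91520 (iv5 D220771)) (tt N93041 F505435) (tt N98025 F505436))
theorem Q117514 : ∀ i, i < 117514 → P i := stepQ 117513 Q117513 (allL N117513 (tt N102035 F505444) (tt N102034 (iv0 F505445)) (tt N102036 F505439) (tt N111421 F505440) (tt N91523 F505441) (tt N112146 F505442) (tt N91522 (iv6 D220772)) (tt N102033 F505443))
theorem Q117515 : ∀ i, i < 117515 → P i := stepQ 117514 Q117514 (allL N117514 (tt N109625 (iv1 F505451)) (tt N91530 (iv0 D220773)) (tt N107601 (iv2 F505450)) (tt N91537 F505448) (tt N100584 F505447) (tt N99345 F505446) (tt N101273 F505449) (tt N100583 F505452))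
theorem Q117516 : ∀ i, i < 117516 → P i := stepQ 117515 Q117515 (allL N117515 (tt N95510 (iv1 F505459)) (tt N91532 (iv0 D220774)) (tt N95513 (iv2 F505455)) (tt N101635 F505456) (tt N95519 F505454) (tt N98495 F505453) (tt N106217 F505457) (tt N95511 F505458))
theorem Q117517 : ∀ i, i < 117517 → P i := stepQ 117516 Q117516 (allL N117516 (tt N95511 (iv1 F505465)) (tt N95513 F505466) (tt N95510 F505460) (tt N108872 F505461) (tt N91533 F505462) (tt N109790 F505463) (tt N106798 F505464) (tt N91532 (iv7 D220775)))
theorem Q117518 : ∀ i, i < 117518 → P i := stepQ 117517 Q117517 (allL N117517 (tt N91543 F505471) (tt N99439 F505473) (tt N99437 F505467) (tt N99345 F505468) (tt N107524 F505472) (tt N91537 (iv5 D220776)) (tt N108810 F505469) (tt N99436 F505470))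
theorem Q117519 : ∀ i, i < 117519 → P i := stepQ 117518 Q117518 (allL N117518 (tt N101291 F505479) (tt N99790 F505480) (tt N91539 F505474) (tt N92230 F505475) (tt N91538 (iv4 D220777)) (tt N99941 F505478) (tt N108071 F505476) (tt N109093 F505477))
theorem Q117520 : ∀ i, i < 117520 → P i := stepQ 117519 Q117519 (allL N117519 (tt N99935 F505484) (tt N99824 F505485) (tt N99941 F505481) (tt N113714 F505482) (tt N122604 D225863) (tt N91539 (iv5 D220778)) (tt N122444 (iv6 F532142)) (tt N99942 F505483))
theorem Q117521 : ∀ i, i < 117521 → P i := stepQ 117520 Q117520 (allL N117520 (tt N96475 F505489) (tt N120378 (iv0 F520467)) (tt N120427 F520726) (tt N91542 (iv3 D220779)) (tt N109955 F505486) (tt N119158 (iv5 F514101)) (tt N107927 F505487) (tt N110195 F505488))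
theorem Q117522 : ∀ i, i < 117522 → P i := stepQ 117521 Q117521 (allL N117521 (tt N115011 F505494) (tt N115009 (iv0 F505495)) (tt N112641 F505490) (tt N91544 (iv3 D220780)) (tt N107815 F505491) (tt N122053 (iv5 F529877)) (tt N108966 F505492) (tt N99619 F505493))
theorem Q117523 : ∀ i, i < 117523 → P i := stepQ 117522 Q117522 (allL N117522 (tt N108979 F505500) (tt N108978 F505501) (tt N108980 F505496) (tt N122053 (iv3 F529876)) (tt N91567 F505497) (tt N91544 (iv5 D220781)) (tt N110139 F505498) (tt N99621 F505499))
theorem Q117524 : ∀ i, i < 117524 → P i := stepQ 117523 Q117523 (allL N117523 (tt N118190 (iv1 F509062)) (tt N121953 (iv0 F529271)) (tt N108870 F505502) (tt N91546 F505503) (tt N120565 (iv4 F521487)) (tt N91545 (iv5 D220782)) (tt N96653 F505504) (tt N108873 F505505))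
theorem Q117525 : ∀ i, i < 117525 → P i := stepQ 117524 Q117524 (allL N117524 (tt N108918 F505508) (tt N117496 F505509) (tt N117531 (iv2 F505553)) (tt N101429 F505506) (tt N119427 (iv4 F515557)) (tt N91550 (iv5 D220783)) (tt N96465 F505510) (tt N101426 F505507))
theorem Q117526 : ∀ i, i < 117526 → P i := stepQ 117525 Q117525 (allL N117525 (tt N119084 F513707) (tt N116615 (iv0 F505515)) (tt N109307 F505511) (tt N107790 F505512) (tt N91551 F505513) (tt N107788 F505514) (tt N91550 (iv6 D220784)) (tt N122091 (iv7 F530104)))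
theorem Q117527 : ∀ i, i < 117527 → P i := stepQ 117526 Q117526 (allL N117526 (tt N91601 (iv1 F505520)) (tt N91551 (iv0 D220785)) (tt N95336 (iv2 F505521)) (tt N92675 F505518) (tt N93836 F505517) (tt N95335 F505516) (tt N93835 F505519) (tt N102323 (iv7 F505522)))
theorem Q117528 : ∀ i, i < 117528 → P i := stepQ 117527 Q117527 (allL N117527 (tt N91551 (iv1 D220786)) (tt N91601 F505523) (tt N102323 F505528) (tt N95346 (iv3 F505526)) (tt N120599 (iv4 F521673)) (tt N95337 F505525) (tt N91583 (iv6 F505527)) (tt N95336 F505524))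
theorem Q117529 : ∀ i, i < 117529 → P i := stepQ 117528 Q117528 (allL N117528 (tt N117496 F505532) (tt N108918 F505533) (tt N101426 F505529) (tt N122219 (iv3 F530845)) (tt N102996 F505531) (tt N91552 (iv5 D220787)) (tt N101423 F505530) (tt N117531 (iv7 F505548)))
theorem Q117530 : ∀ i, i < 117530 → P i := stepQ 117529 Q117529 (allL N117529 (tt N92917 F505538) (tt N108171 F505539) (tt N117300 F505534) (tt N91553 (iv3 D220788)) (tt N93688 F505535) (tt N93352 F505536) (tt N117584 (iv6 F505840)) (tt N93351 F505537))
theorem Q117531 : ∀ i, i < 117531 → P i := stepQ 117530 Q117530 (allL N117530 (tt N100829 F505544) (tt N112005 (iv0 F505545)) (tt N112006 F505540) (tt N96013 F505541) (tt N110139 F505542) (tt N96010 F505543) (tt N91567 (iv6 D220789)) (tt N112007 (iv7 F505546)))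
theorem Q117532 : ∀ i, i < 117532 → P i := stepQ 117531 Q117531 (allL N117531 (tt N91569 (iv1 D220790)) (tt N91572 F505547) (tt N117524 F505553) (tt N114542 (iv3 F505551)) (tt N108979 F505550) (tt N96138 F505549) (tt N106932 (iv6 F505552)) (tt N117528 F505548))
theorem Q117533 : ∀ i, i < 117533 → P i := stepQ 117532 Q117532 (allL N117532 (tt N114799 F505556) (tt N112205 F505557) (tt N115994 F505554) (tt N121762 (iv3 F528160)) (tt N115612 (iv4 F505558)) (tt N91570 (iv5 D220791)) (tt N115611 F505555) (tt N121656 (iv7 F527573)))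
theorem Q117534 : ∀ i, i < 117534 → P i := stepQ 117533 Q117533 (allL N117533 (tt N93712 F505564) (tt N96150 (iv0 F505565)) (tt N114726 F505559) (tt N91572 F505560) (tt N114321 F505563) (tt N91571 (iv5 D220792)) (tt N114320 F505561) (tt N115105 F505562))
theorem Q117535 : ∀ i, i < 117535 → P i := stepQ 117534 Q117534 (allL N117534 (tt N103455 F505571) (tt N103453 F505572) (tt N111039 F505566) (tt N93475 F505567) (tt N103322 F505569) (tt N91573 (iv5 D220793)) (tt N111038 F505568) (tt N96044 F505570))
theorem Q117536 : ∀ i, i < 117536 → P i := stepQ 117535 Q117535 (allL N117535 (tt N97215 (iv1 F505577)) (tt N93376 F505578) (tt N118829 (iv2 F512295)) (tt N93372 F505573) (tt N117169 F505574) (tt N96044 F505575) (tt N111559 F505576) (tt N91573 (iv7 D220794)))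
theorem Q117537 : ∀ i, i < 117537 → P i := stepQ 117536 Q117536 (allL N117536 (tt N95155 F505583) (tt N95225 (iv0 F505585)) (tt N95203 F505579) (tt N95209 F505580) (tt N96346 F505581) (tt N95138 F505584) (tt N91578 (iv6 D220795)) (tt N95223 F505582))
theorem Q117538 : ∀ i, i < 117538 → P i := stepQ 117537 Q117537 (allL N117537 (tt N95158 F505591) (tt N101611 F505592) (tt N95204 F505586) (tt N95210 F505587) (tt N102292 F505588) (tt N91579 (iv5 D220796)) (tt N95138 F505589) (tt N91615 F505590))
theorem Q117539 : ∀ i, i < 117539 → P i := stepQ 117538 Q117538 (allL N117538 (tt N99279 F505596) (tt N107527 (iv0 F505597)) (tt N107529 F505593) (tt N122172 (iv3 F530570)) (tt N91581 F505594) (tt N121802 (iv5 F528408)) (tt N91580 (iv6 D220797)) (tt N107522 F505595))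
theorem Q117540 : ∀ i, i < 117540 → P i := stepQ 117539 Q117539 (allL N117539 (tt N107526 F505601) (tt N91581 (iv0 D220798)) (tt N117119 (iv2 F505600)) (tt N116200 F505598) (tt N119846 (iv4 F517671)) (tt N120763 F522583) (tt N99281 F505599) (tt N117459 (iv7 F505602)))
theorem Q117541 : ∀ i, i < 117541 → P i := stepQ 117540 Q117540 (allL N117540 (tt N91581 (iv1 D220799)) (tt N107526 F505603) (tt N117459 (iv2 F505607)) (tt N116811 (iv3 F505605)) (tt N120015 (iv4 F518566)) (tt N117652 (iv5 F506229)) (tt N117328 (iv6 F505606)) (tt N117119 F505604))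
theorem Q117542 : ∀ i, i < 117542 → P i := stepQ 117541 Q117541 (allL N117541 (tt N117459 (iv1 F505613)) (tt N117119 F505614) (tt N107526 F505608) (tt N91584 F505609) (tt N107522 F505610) (tt N115618 F505611) (tt N107521 F505612) (tt N91581 (iv7 D220800)))
theorem Q117543 : ∀ i, i < 117543 → P i := stepQ 117542 Q117542 (allL N117542 (tt N117573 (iv1 F505782)) (tt N91585 (iv0 D220801)) (tt N117572 F505776) (tt N120161 F519357) (tt N119826 (iv4 F517569)) (tt N105634 F505615) (tt N117306 (iv6 F505616)) (tt N117571 F505770))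
theorem Q117544 : ∀ i, i < 117544 → P i := stepQ 117543 Q117543 (allL N117543 (tt N117572 (iv1 F505775)) (tt N117571 F505767) (tt N91585 (iv2 D220802)) (tt N117566 (iv3 F505732)) (tt N111192 F505617) (tt N114461 F505618) (tt N121662 (iv6 F527610)) (tt N117573 (iv7 F505781)))
theorem Q117545 : ∀ i, i < 117545 → P i := stepQ 117544 Q117544 (allL N117544 (tt N111378 F505622) (tt N122174 (iv0 F530589)) (tt N121662 (iv2 F527608)) (tt N91586 F505619) (tt N117334 F505620) (tt N118859 (iv5 F512440)) (tt N91585 (iv6 D220803)) (tt N117330 F505621))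
theorem Q117546 : ∀ i, i < 117546 → P i := stepQ 117545 Q117545 (allL N117545 (tt N101929 F505624) (tt N115575 F505625) (tt N117568 (iv2 F505746)) (tt N118859 (iv3 F512441)) (tt N122495 (iv4 F532476)) (tt N91586 (iv5 D220804)) (tt N117474 F505623) (tt N119052 (iv7 F513514)))
theorem Q117547 : ∀ i, i < 117547 → P i := stepQ 117546 Q117546 (allL N117546 (tt N117566 (iv1 F505736)) (tt N91587 (iv0 D220805)) (tt N117565 (iv2 F505730)) (tt N92879 F505628) (tt N109574 F505627) (tt N95679 F505626) (tt N92876 (iv6 F505629)) (tt N117564 F505724))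
theorem Q117548 : ∀ i, i < 117548 → P i := stepQ 117547 Q117547 (allL N117547 (tt N91587 (iv1 D220806)) (tt N117566 F505737) (tt N117564 F505725) (tt N120162 (iv3 F519361)) (tt N109575 (iv4 F505631)) (tt N100625 F505630) (tt N101385 (iv6 F505632)) (tt N117565 (iv7 F505726)))
theorem Q117549 : ∀ i, i < 117549 → P i := stepQ 117548 Q117548 (allL N117548 (tt N117565 (iv1 F505731)) (tt N117564 F505723) (tt N91587 (iv2 D220807)) (tt N117573 (iv3 F505777)) (tt N117888 (iv4 F507446)) (tt N107154 F505633) (tt N117887 (iv6 F507443)) (tt N117566 (iv7 F505735)))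
theorem Q117550 : ∀ i, i < 117550 → P i := stepQ 117549 Q117549 (allL N117549 (tt N111870 F505639) (tt N116041 F505640) (tt N95888 F505634) (tt N98126 F505635) (tt N91592 (iv4 D220808)) (tt N103293 F505636) (tt N111657 F505637) (tt N116033 F505638))
theorem Q117551 : ∀ i, i < 117551 → P i := stepQ 117550 Q117550 (allL N117550 (tt N119271 (iv1 F514746)) (tt N101385 (iv0 F505643)) (tt N107876 (iv2 F505645)) (tt N91596 (iv3 D220809)) (tt N94334 F505641) (tt N96432 F505644) (tt N94945 (iv6 F505642)) (tt N117584 (iv7 F505841)))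
theorem Q117552 : ∀ i, i < 117552 → P i := stepQ 117551 Q117551 (allL N117551 (tt N96451 F505649) (tt N108884 (iv0 F505652)) (tt N110484 F505646) (tt N96432 F505647) (tt N114558 F505650) (tt N91596 (iv5 D220810)) (tt N110482 F505651) (tt N110485 F505648))
theorem Q117553 : ∀ i, i < 117553 → P i := stepQ 117552 Q117552 (allL N117552 (tt N120599 (iv1 F521677)) (tt N93836 (iv0 F505657)) (tt N117581 (iv2 F505826)) (tt N94945 F505653) (tt N111500 F505654) (tt N93940 F505655) (tt N91596 (iv6 D220811)) (tt N93746 F505656))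
theorem Q117554 : ∀ i, i < 117554 → P i := stepQ 117553 Q117553 (allL N117553 (tt N108884 F505661) (tt N96451 F505662) (tt N110485 F505658) (tt N106529 F505659) (tt N106532 F505663) (tt N91597 (iv5 D220812)) (tt N120455 (iv6 F520876)) (tt N110484 F505660))
theorem Q117555 : ∀ i, i < 117555 → P i := stepQ 117554 Q117554 (allL N117554 (tt N94865 (iv1 F505665)) (tt N91598 (iv0 D220813)) (tt N118407 (iv2 F510178)) (tt N101383 (iv3 F505667)) (tt N118815 (iv4 F512220)) (tt N96053 F505664) (tt N117621 F506044) (tt N96052 F505666))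
theorem Q117556 : ∀ i, i < 117556 → P i := stepQ 117555 Q117555 (allL N117555 (tt N94867 F505671) (tt N94866 F505672) (tt N94869 F505668) (tt N116919 (iv3 F505673)) (tt N91598 (iv4 D220814)) (tt N121679 (iv5 F527698)) (tt N101769 F505669) (tt N94857 F505670))
theorem Q117557 : ∀ i, i < 117557 → P i := stepQ 117556 Q117556 (allL N117556 (tt N115757 (iv1 F505678)) (tt N91604 (iv0 D220815)) (tt N106516 (iv2 F505677)) (tt N118146 (iv3 F508846)) (tt N106004 F505675) (tt N113252 F505674) (tt N96054 F505676) (tt N106600 F505679))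
theorem Q117558 : ∀ i, i < 117558 → P i := stepQ 117557 Q117557 (allL N117557 (tt N106516 (iv1 F505686)) (tt N106600 F505685) (tt N91604 (iv2 D220816)) (tt N112775 F505680) (tt N100261 F505681) (tt N112774 F505682) (tt N111376 F505683) (tt N115757 F505684))
theorem Q117559 : ∀ i, i < 117559 → P i := stepQ 117558 Q117558 (allL N117558 (tt N109273 F505692) (tt N110475 F505693) (tt N110474 F505687) (tt N116583 F505688) (tt N91609 F505689) (tt N110842 F505690) (tt N91608 (iv6 D220817)) (tt N110473 F505691))
theorem Q117560 : ∀ i, i < 117560 → P i := stepQ 117559 Q117559 (allL N117559 (tt N95204 (iv1 F505697)) (tt N91615 (iv0 D220818)) (tt N101611 (iv2 F505696)) (tt N95149 F505695) (tt N95031 F505694) (tt N118304 (iv5 F509605)) (tt N120240 (iv6 F519761)) (tt N95158 F505698))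
theorem Q117561 : ∀ i, i < 117561 → P i := stepQ 117560 Q117560 (allL N117560 (tt N91886 F505703) (tt N91883 (iv0 F505704)) (tt N108944 F505699) (tt N121254 (iv3 F525394)) (tt N107942 F505700) (tt N91936 F505701) (tt N91618 (iv6 D220819)) (tt N91935 F505702))
theorem Q117562 : ∀ i, i < 117562 → P i := stepQ 117561 Q117561 (allL N117561 (tt N117664 (iv1 F506293)) (tt N93926 (iv0 F505709)) (tt N117105 F505705) (tt N108494 F505706) (tt N120025 (iv4 F518623)) (tt N114111 F505707) (tt N91628 (iv6 D220820)) (tt N108504 F505708))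
theorem Q117563 : ∀ i, i < 117563 → P i := stepQ 117562 Q117562 (allL N117562 (tt N91631 (iv1 D220821)) (tt N121697 (iv0 F527810)) (tt N108933 F505714) (tt N91638 (iv3 F505712)) (tt N93618 F505711) (tt N121066 (iv5 F524334)) (tt N93617 (iv6 F505713)) (tt N108482 F505710))
theorem Q117564 : ∀ i, i < 117564 → P i := stepQ 117563 Q117563 (allL N117563 (tt N108933 (iv1 F505719)) (tt N108482 F505720) (tt N121697 (iv2 F527805)) (tt N96079 F505715) (tt N99481 F505716) (tt N104897 F505717) (tt N96078 F505718) (tt N91631 (iv7 D220822)))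
theorem Q117565 : ∀ i, i < 117565 → P i := stepQ 117564 Q117564 (allL N117564 (tt N117548 (iv1 F505723)) (tt N91635 (iv0 D220823)) (tt N117547 (iv2 F505725)) (tt N103185 F505722) (tt N118435 (iv4 F510339)) (tt N111974 F505721) (tt N120381 (iv6 F520483)) (tt N117546 (iv7 F505724)))
theorem Q117566 : ∀ i, i < 117566 → P i := stepQ 117565 Q117565 (allL N117565 (tt N91635 (iv1 D220824)) (tt N117548 F505731) (tt N117546 F505730) (tt N103170 (iv3 F505728)) (tt N116640 (iv4 F505729)) (tt N113260 F505727) (tt N118031 (iv6 F508188)) (tt N117547 F505726))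
theorem Q117567 : ∀ i, i < 117567 → P i := stepQ 117566 Q117566 (allL N117566 (tt N117547 (iv1 F505737)) (tt N117546 F505736) (tt N91635 (iv2 D220825)) (tt N117543 F505732) (tt N106451 F505733) (tt N107514 F505734) (tt N108178 F505738) (tt N117548 F505735))
theorem Q117568 : ∀ i, i < 117568 → P i := stepQ 117567 Q117567 (allL N117567 (tt N95077 F505744) (tt N112087 (iv0 F505745)) (tt N108178 F505740) (tt N91636 F505741) (tt N118282 (iv4 F509501)) (tt N108104 F505742) (tt N91635 (iv6 D220826)) (tt N112086 F505743))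
theorem Q117569 : ∀ i, i < 117569 → P i := stepQ 117568 Q117568 (allL N117568 (tt N115888 F505749) (tt N118258 (iv0 F509402)) (tt N117545 F505746) (tt N108104 F505747) (tt N117570 (iv4 F505761)) (tt N91636 (iv5 D220827)) (tt N108114 F505748) (tt N117050 (iv7 F505750)))
theorem Q117570 : ∀ i, i < 117570 → P i := stepQ 117569 Q117569 (allL N117569 (tt N114199 (iv1 F505756)) (tt N93823 F505757) (tt N96083 F505751) (tt N112086 F505752) (tt N91639 F505753) (tt N117050 F505754) (tt N95304 F505755) (tt N91636 (iv7 D220828)))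
theorem Q117571 : ∀ i, i < 117571 → P i := stepQ 117570 Q117570 (allL N117570 (tt N115951 F505762) (tt N115612 F505763) (tt N122495 (iv2 F532474)) (tt N112253 F505758) (tt N117568 F505761) (tt N91637 (iv5 D220829)) (tt N115574 F505759) (tt N112250 F505760))
theorem Q117572 : ∀ i, i < 117572 → P i := stepQ 117571 Q117571 (allL N117571 (tt N117543 (iv1 F505767)) (tt N91640 (iv0 D220830)) (tt N114470 F505769) (tt N103162 F505765) (tt N106225 F505766) (tt N107730 F505764) (tt N106224 (iv6 F505768)) (tt N117542 (iv7 F505770)))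
theorem Q117573 : ∀ i, i < 117573 → P i := stepQ 117572 Q117572 (allL N117572 (tt N91640 (iv1 D220831)) (tt N117543 F505775) (tt N117542 (iv2 F505776)) (tt N98200 (iv3 F505773)) (tt N106290 (iv4 F505774)) (tt N113258 F505772) (tt N118215 (iv6 F509201)) (tt N114470 F505771))
theorem Q117574 : ∀ i, i < 117574 → P i := stepQ 117573 Q117573 (allL N117573 (tt N114470 (iv1 F505783)) (tt N117542 F505782) (tt N91640 (iv2 D220832)) (tt N117548 F505777) (tt N106335 F505778) (tt N105364 F505779) (tt N105365 F505780) (tt N117543 F505781))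
theorem Q117575 : ∀ i, i < 117575 → P i := stepQ 117574 Q117574 (allL N117574 (tt N96929 F505789) (tt N96927 F505790) (tt N104928 F505784) (tt N91648 F505785) (tt N92965 F505788) (tt N91647 (iv5 D220833)) (tt N108259 F505786) (tt N99569 F505787))
theorem Q117576 : ∀ i, i < 117576 → P i := stepQ 117575 Q117575 (allL N117575 (tt N104419 F505796) (tt N103223 F505797) (tt N93081 F505791) (tt N108259 F505792) (tt N93079 F505793) (tt N115486 F505794) (tt N91648 (iv6 D220834)) (tt N104418 F505795))
theorem Q117577 : ∀ i, i < 117577 → P i := stepQ 117576 Q117576 (allL N117576 (tt N119326 (iv1 F515035)) (tt N91655 (iv0 D220835)) (tt N111904 (iv2 F505801)) (tt N108745 F505800) (tt N111781 F505799) (tt N108738 F505798) (tt N111506 F505803) (tt N108737 (iv7 F505802)))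
theorem Q117578 : ∀ i, i < 117578 → P i := stepQ 117577 Q117577 (allL N117577 (tt N91655 (iv1 D220836)) (tt N119326 (iv0 F515036)) (tt N108737 F505808) (tt N115580 (iv3 F505807)) (tt N114014 F505806) (tt N108735 F505805) (tt N120942 (iv6 F523604)) (tt N111904 F505804))
theorem Q117579 : ∀ i, i < 117579 → P i := stepQ 117578 Q117578 (allL N117578 (tt N108737 (iv1 F505813)) (tt N111904 F505814) (tt N119326 (iv2 F515031)) (tt N91667 F505809) (tt N113918 F505810) (tt N91656 F505811) (tt N114149 F505812) (tt N91655 (iv7 D220837)))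
theorem Q117580 : ∀ i, i < 117580 → P i := stepQ 117579 Q117579 (allL N117579 (tt N96641 F505820) (tt N91658 (iv0 D220838)) (tt N96718 (iv2 F505817)) (tt N111551 F505818) (tt N94867 F505816) (tt N111550 F505815) (tt N110448 F505819) (tt N120026 (iv7 F518633)))
theorem Q117581 : ∀ i, i < 117581 → P i := stepQ 117580 Q117580 (allL N117580 (tt N120026 (iv1 F518635)) (tt N96718 (iv0 F505825)) (tt N96641 F505821) (tt N118377 F510023) (tt N110847 F505822) (tt N91659 F505823) (tt N96341 F505824) (tt N91658 (iv7 D220839)))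
theorem Q117582 : ∀ i, i < 117582 → P i := stepQ 117581 Q117581 (allL N117581 (tt N102139 F505830) (tt N118342 (iv0 F509804)) (tt N117552 F505826) (tt N121615 (iv3 F527343)) (tt N91662 F505827) (tt N103086 F505828) (tt N91660 (iv6 D220840)) (tt N117156 F505829))
theorem Q117583 : ∀ i, i < 117583 → P i := stepQ 117582 Q117582 (allL N117582 (tt N91663 (iv1 D220841)) (tt N117155 F505831) (tt N97229 F505835) (tt N101821 (iv3 F505833)) (tt N97324 F505836) (tt N122340 (iv5 F531517)) (tt N97228 (iv6 F505834)) (tt N110538 F505832))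
theorem Q117584 : ∀ i, i < 117584 → P i := stepQ 117583 Q117583 (allL N117583 (tt N119252 F514639) (tt N118471 (iv0 F510552)) (tt N117153 F505837) (tt N118318 (iv3 F509676)) (tt N91663 (iv4 D220842)) (tt N122605 D225864) (tt N92513 F505838) (tt N118555 (iv7 F510920)))
theorem Q117585 : ∀ i, i < 117585 → P i := stepQ 117584 Q117584 (allL N117584 (tt N120381 (iv1 F520486)) (tt N120443 F520811) (tt N118553 (iv2 F510913)) (tt N91664 (iv3 D220843)) (tt N118318 (iv4 F509677)) (tt N96550 F505839) (tt N117529 F505840) (tt N117550 F505841))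
theorem Q117586 : ∀ i, i < 117586 → P i := stepQ 117585 Q117585 (allL N117585 (tt N112277 F505844) (tt N108526 (iv0 F505845)) (tt N117114 (iv2 F505847)) (tt N91665 (iv3 D220844)) (tt N122457 (iv4 F532230)) (tt N108517 F505846) (tt N112269 F505842) (tt N117115 F505843))
theorem Q117587 : ∀ i, i < 117587 → P i := stepQ 117586 Q117586 (allL N117586 (tt N108504 F505851) (tt N117105 F505852) (tt N117664 (iv2 F506288)) (tt N108517 F505848) (tt N93929 F505853) (tt N91665 (iv5 D220845)) (tt N116466 F505849) (tt N93926 F505850))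
theorem Q117588 : ∀ i, i < 117588 → P i := stepQ 117587 Q117587 (allL N117587 (tt N115535 F505857) (tt N122340 (iv0 F531519)) (tt N111410 F505854) (tt N91666 (iv3 D220846)) (tt N111404 (iv4 F505858)) (tt N95569 F505855) (tt N111123 F505856) (tt N117663 (iv7 F506284)))
theorem Q117589 : ∀ i, i < 117589 → P i := stepQ 117588 Q117588 (allL N117588 (tt N106377 F505863) (tt N116732 (iv0 F505865)) (tt N107465 F505859) (tt N91672 (iv3 D220847)) (tt N116813 F505864) (tt N110991 F505860) (tt N107462 F505861) (tt N112923 F505862))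
theorem Q117590 : ∀ i, i < 117590 → P i := stepQ 117589 Q117589 (allL N117589 (tt N101244 F505869) (tt N101240 (iv0 F505870)) (tt N118693 (iv2 F511576)) (tt N122502 (iv3 F532510)) (tt N110274 F505866) (tt N108149 F505867) (tt N91682 (iv6 D220848)) (tt N107833 F505868))
theorem Q117591 : ∀ i, i < 117591 → P i := stepQ 117590 Q117590 (allL N117590 (tt N101032 F505875) (tt N101030 (iv0 F505876)) (tt N101320 F505871) (tt N91687 F505872) (tt N104169 F505873) (tt N105213 F505874) (tt N91684 (iv6 D220849)) (tt N120910 (iv7 F523415)))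
theorem Q117592 : ∀ i, i < 117592 → P i := stepQ 117591 Q117591 (allL N117591 (tt N99524 F505879) (tt N118667 (iv0 F511435)) (tt N118668 F511439) (tt N119477 (iv3 F515817)) (tt N91687 F505877) (tt N121642 (iv5 F527497)) (tt N91685 (iv6 D220850)) (tt N110033 F505878))
theorem Q117593 : ∀ i, i < 117593 → P i := stepQ 117592 Q117592 (allL N117592 (tt N96694 F505885) (tt N104857 F505886) (tt N94902 F505880) (tt N110449 F505881) (tt N91688 (iv4 D220851)) (tt N94681 F505882) (tt N95725 F505883) (tt N94916 F505884))
theorem Q117594 : ∀ i, i < 117594 → P i := stepQ 117593 Q117593 (allL N117593 (tt N95250 F505891) (tt N117012 F505892) (tt N114559 F505887) (tt N97836 F505888) (tt N110969 F505890) (tt N91699 (iv5 D220852)) (tt N114314 F505889) (tt N122558 (iv7 F532837)))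
theorem Q117595 : ∀ i, i < 117595 → P i := stepQ 117594 Q117594 (allL N117594 (tt N108098 (iv1 F505897)) (tt N108092 F505898) (tt N108096 F505893) (tt N106003 F505894) (tt N114069 F505895) (tt N122558 (iv5 F532838)) (tt N112832 F505896) (tt N91699 (iv7 D220853)))
theorem Q117596 : ∀ i, i < 117596 → P i := stepQ 117595 Q117595 (allL N117595 (tt N96151 F505904) (tt N93719 (iv0 F505905)) (tt N96153 F505899) (tt N91701 (iv3 D220854)) (tt N117057 F505900) (tt N93709 F505901) (tt N109495 F505902) (tt N96135 F505903))
theorem Q117597 : ∀ i, i < 117597 → P i := stepQ 117596 Q117596 (allL N117596 (tt N91702 (iv1 D220855)) (tt N110024 F505906) (tt N110078 F505911) (tt N115073 F505912) (tt N107507 F505909) (tt N107703 F505908) (tt N107506 (iv6 F505910)) (tt N110077 F505907))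
theorem Q117598 : ∀ i, i < 117598 → P i := stepQ 117597 Q117597 (allL N117597 (tt N106792 F505918) (tt N106791 F505919) (tt N94938 F505913) (tt N102753 F505914) (tt N93941 F505915) (tt N91718 (iv5 D220856)) (tt N94937 F505916) (tt N106793 F505917))
theorem Q117599 : ∀ i, i < 117599 → P i := stepQ 117598 Q117598 (allL N117598 (tt N91737 (iv1 D220857)) (tt N113221 F505920) (tt N113219 F505925) (tt N110445 (iv3 F505924)) (tt N112478 F505923) (tt N115898 F505922) (tt N118630 (iv6 F511227)) (tt N113220 F505921))
theorem Q117600 : ∀ i, i < 117600 → P i := stepQ 117599 Q117599 (allL N117599 (tt N91741 (iv1 D220858)) (tt N116126 F505926) (tt N116128 F505931) (tt N121644 (iv3 F527507)) (tt N112042 F505929) (tt N115597 F505928) (tt N110559 (iv6 F505930)) (tt N116129 F505927))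
theorem Q117601 : ∀ i, i < 117601 → P i := stepQ 117600 Q117600 (allL N117600 (tt N110546 F505936) (tt N118645 (iv0 F511316)) (tt N109326 F505932) (tt N91742 F505933) (tt N101840 F505934) (tt N117658 (iv5 F506253)) (tt N91741 (iv6 D220859)) (tt N109417 F505935))
theorem Q117602 : ∀ i, i < 117602 → P i := stepQ 117601 Q117601 (allL N117601 (tt N112536 (iv1 F505942)) (tt N101510 F505943) (tt N106302 F505937) (tt N109417 F505938) (tt N91744 F505939) (tt N101512 F505940) (tt N116980 F505941) (tt N91742 (iv7 D220860)))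
theorem Q117603 : ∀ i, i < 117603 → P i := stepQ 117602 Q117602 (allL N117602 (tt N106304 F505947) (tt N106303 F505948) (tt N106305 F505944) (tt N121317 (iv3 F525724)) (tt N111222 F505949) (tt N91743 (iv5 D220861)) (tt N114578 F505945) (tt N106300 F505946))
theorem Q117604 : ∀ i, i < 117604 → P i := stepQ 117603 Q117603 (allL N117603 (tt N106950 F505953) (tt N91751 (iv0 F505954)) (tt N106865 F505950) (tt N120126 (iv3 F519191)) (tt N111829 F505951) (tt N120125 (iv5 F519189)) (tt N91746 (iv6 D220862)) (tt N106934 F505952))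
theorem Q117605 : ∀ i, i < 117605 → P i := stepQ 117604 Q117604 (allL N117604 (tt N106988 F505959) (tt N108358 (iv0 F505960)) (tt N107913 F505955) (tt N91752 (iv3 D220863)) (tt N106846 F505956) (tt N117104 F505957) (tt N118015 F508099) (tt N99841 F505958))
theorem Q117606 : ∀ i, i < 117606 → P i := stepQ 117605 Q117605 (allL N117605 (tt N116539 F505964) (tt N94367 F505965) (tt N106968 F505961) (tt N121497 (iv3 F526698)) (tt N107769 F505962) (tt N91754 (iv5 D220864)) (tt N119179 (iv6 F514216)) (tt N106965 F505963))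
theorem Q117607 : ∀ i, i < 117607 → P i := stepQ 117606 Q117606 (allL N117606 (tt N91755 (iv1 D220865)) (tt N92439 F505966) (tt N92437 F505970) (tt N93707 (iv3 F505969)) (tt N116995 (iv4 F505968)) (tt N122585 (iv5 F532996)) (tt N118462 F510504) (tt N92436 F505967))
theorem Q117608 : ∀ i, i < 117608 → P i := stepQ 117607 Q117607 (allL N117607 (tt N91842 F505974) (tt N109353 F505975) (tt N106972 F505971) (tt N108953 F505976) (tt N91756 (iv4 D220866)) (tt N91865 F505972) (tt N120002 (iv6 F518494)) (tt N108949 F505973))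
theorem Q117609 : ∀ i, i < 117609 → P i := stepQ 117608 Q117608 (allL N117608 (tt N102272 F505979) (tt N102271 F505980) (tt N92402 F505977) (tt N117913 (iv3 F507563)) (tt N120002 (iv4 F518492)) (tt N92296 F505978) (tt N91756 (iv6 D220867)) (tt N92403 F505981))
theorem Q117610 : ∀ i, i < 117610 → P i := stepQ 117609 Q117609 (allL N117609 (tt N117855 (iv1 F507290)) (tt N117857 (iv0 F507300)) (tt N117823 (iv2 F507131)) (tt N92481 (iv3 F505982)) (tt N91757 (iv4 D220868)) (tt N117819 (iv5 F507117)) (tt N121761 (iv6 F528157)) (tt N120496 F521087))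
theorem Q117611 : ∀ i, i < 117611 → P i := stepQ 117610 Q117610 (allL N117610 (tt N107678 F505986) (tt N116603 F505987) (tt N116381 F505983) (tt N116586 F505984) (tt N121761 (iv4 F528155)) (tt N122561 (iv5 F532859)) (tt N91757 (iv6 D220869)) (tt N116604 F505985))
theorem Q117612 : ∀ i, i < 117612 → P i := stepQ 117611 Q117611 (allL N117611 (tt N93330 (iv1 F505992)) (tt N114940 (iv0 F505993)) (tt N115103 F505988) (tt N91758 (iv3 D220870)) (tt N95958 F505991) (tt N120349 (iv5 F520320)) (tt N115013 F505989) (tt N115102 F505990))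
theorem Q117613 : ∀ i, i < 117613 → P i := stepQ 117612 Q117612 (allL N117612 (tt N117857 (iv1 F507301)) (tt N117855 (iv0 F507289)) (tt N120496 (iv2 F521083)) (tt N94270 F505995) (tt N91758 (iv4 D220871)) (tt N94269 F505994) (tt N118584 (iv6 F511012)) (tt N117823 (iv7 F507133)))
theorem Q117614 : ∀ i, i < 117614 → P i := stepQ 117613 Q117613 (allL N117613 (tt N114183 F506000) (tt N114181 F506001) (tt N91762 F505996) (tt N114127 F506002) (tt N91761 (iv4 D220872)) (tt N114217 F505999) (tt N114126 F505997) (tt N115845 F505998))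
theorem Q117615 : ∀ i, i < 117615 → P i := stepQ 117614 Q117614 (allL N117614 (tt N108600 F506005) (tt N115645 F506006) (tt N114217 F506003) (tt N118883 (iv3 F512569)) (tt N102991 F506004) (tt N91762 (iv5 D220873)) (tt N104904 F506007) (tt N122096 (iv7 F530139)))
theorem Q117616 : ∀ i, i < 117616 → P i := stepQ 117615 Q117615 (allL N117615 (tt N111304 F506013) (tt N115655 (iv0 F506014)) (tt N114126 F506008) (tt N111453 F506009) (tt N91763 F506010) (tt N111876 F506011) (tt N91762 (iv6 D220874)) (tt N115654 F506012))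
theorem Q117617 : ∀ i, i < 117617 → P i := stepQ 117616 Q117616 (allL N117616 (tt N91924 F506019) (tt N122400 F531878) (tt N111510 F506015) (tt N91764 (iv3 D220875)) (tt N114855 (iv4 F506020)) (tt N115741 F506016) (tt N111469 F506017) (tt N115882 F506018))
theorem Q117618 : ∀ i, i < 117618 → P i := stepQ 117617 Q117617 (allL N117617 (tt N107439 F506022) (tt N107437 F506023) (tt N118390 (iv2 F510091)) (tt N110683 F506021) (tt N122022 (iv4 F529688)) (tt N91768 (iv5 D220876)) (tt N121760 (iv6 F528151)) (tt N118389 F510089))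
theorem Q117619 : ∀ i, i < 117619 → P i := stepQ 117618 Q117618 (allL N117618 (tt N120401 F520592) (tt N112021 (iv0 F506028)) (tt N96329 F506024) (tt N96569 F506025) (tt N95193 F506027) (tt N91770 (iv5 D220877)) (tt N96327 F506026) (tt N120414 (iv7 F520658)))
theorem Q117620 : ∀ i, i < 117620 → P i := stepQ 117619 Q117619 (allL N117619 (tt N112021 F506033) (tt N120401 (iv0 F520591)) (tt N120414 F520656) (tt N95709 F506029) (tt N95195 F506030) (tt N91771 (iv5 D220878)) (tt N95054 F506031) (tt N96329 F506032))
theorem Q117621 : ∀ i, i < 117621 → P i := stepQ 117620 Q117620 (allL N117620 (tt N103067 (iv1 F506036)) (tt N91772 (iv0 D220879)) (tt N103090 F506038) (tt N113868 F506035) (tt N95196 F506034) (tt N122478 (iv5 F532365)) (tt N108919 (iv6 F506037)) (tt N103089 (iv7 F506039)))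
theorem Q117622 : ∀ i, i < 117622 → P i := stepQ 117621 Q117621 (allL N117621 (tt N91772 (iv1 D220880)) (tt N103067 F506040) (tt N103089 (iv2 F506045)) (tt N105263 (iv3 F506043)) (tt N95197 F506042) (tt N122482 (iv5 F532393)) (tt N117554 (iv6 F506044)) (tt N103090 F506041))
theorem Q117623 : ∀ i, i < 117623 → P i := stepQ 117622 Q117622 (allL N117622 (tt N102054 F506051) (tt N102068 F506052) (tt N102066 F506046) (tt N111660 F506047) (tt N91775 (iv4 D220881)) (tt N102119 F506048) (tt N111681 F506049) (tt N102065 F506050))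
theorem Q117624 : ∀ i, i < 117624 → P i := stepQ 117623 Q117623 (allL N117623 (tt N104047 (iv1 F506056)) (tt N104049 F506055) (tt N91777 (iv2 D220882)) (tt N101578 F506053) (tt N121702 (iv4 F527841)) (tt N119651 (iv5 F516713)) (tt N120048 F518755) (tt N115657 F506054))
theorem Q117625 : ∀ i, i < 117625 → P i := stepQ 117624 Q117624 (allL N117624 (tt N115658 F506058) (tt N119324 (iv0 F515024)) (tt N121702 (iv2 F527839)) (tt N122084 F530064) (tt N91777 (iv4 D220883)) (tt N115408 F506059) (tt N115860 F506057) (tt N122110 (iv7 F530231)))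
theorem Q117626 : ∀ i, i < 117626 → P i := stepQ 117625 Q117625 (allL N117625 (tt N108783 F506063) (tt N108276 F506064) (tt N119651 (iv2 F516718)) (tt N91779 F506060) (tt N97824 F506062) (tt N91777 (iv5 D220884)) (tt N113634 F506061) (tt N119652 (iv7 F516721)))
theorem Q117627 : ∀ i, i < 117627 → P i := stepQ 117626 Q117626 (allL N117626 (tt N103794 (iv1 F506070)) (tt N91788 (iv0 D220885)) (tt N105184 (iv2 F506069)) (tt N116315 F506066) (tt N103541 F506065) (tt N114704 F506068) (tt N105228 F506067) (tt N103537 F506071))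
theorem Q117628 : ∀ i, i < 117628 → P i := stepQ 117627 Q117627 (allL N117627 (tt N106851 F506076) (tt N106852 F506077) (tt N105332 F506072) (tt N120329 F520215) (tt N110051 F506073) (tt N91790 (iv5 D220886)) (tt N113604 F506074) (tt N105333 F506075))
theorem Q117629 : ∀ i, i < 117629 → P i := stepQ 117628 Q117628 (allL N117628 (tt N119606 (iv1 F516480)) (tt N121019 (iv0 F524051)) (tt N121126 (iv2 F524647)) (tt N91798 F506078) (tt N114387 F506079) (tt N116878 F506080) (tt N91797 (iv6 D220887)) (tt N120088 (iv7 F518984)))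
theorem Q117630 : ∀ i, i < 117630 → P i := stepQ 117629 Q117629 (allL N117629 (tt N113888 (iv1 F506083)) (tt N91798 (iv0 D220888)) (tt N113945 F506086) (tt N106214 (iv3 F506084)) (tt N113742 F506082) (tt N114652 F506081) (tt N122360 (iv6 F531630)) (tt N113946 F506085))
theorem Q117631 : ∀ i, i < 117631 → P i := stepQ 117630 Q117630 (allL N117630 (tt N91798 (iv1 D220889)) (tt N113888 F506087) (tt N113946 (iv2 F506093)) (tt N99383 F506092) (tt N100986 F506090) (tt N99377 F506089) (tt N99380 (iv6 F506091)) (tt N113945 F506088))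
theorem Q117632 : ∀ i, i < 117632 → P i := stepQ 117631 Q117631 (allL N117631 (tt N103400 (iv1 F506098)) (tt N91806 (iv0 D220890)) (tt N92004 (iv2 F506097)) (tt N96605 (iv3 F506100)) (tt N102348 F506095) (tt N98278 F506094) (tt N92088 F506096) (tt N103409 F506099))
theorem Q117633 : ∀ i, i < 117633 → P i := stepQ 117632 Q117632 (allL N117632 (tt N91811 (iv1 D220891)) (tt N91821 F506101) (tt N91820 F506107) (tt N113624 (iv3 F506104)) (tt N102034 (iv4 F506105)) (tt N112076 F506103) (tt N103280 (iv6 F506106)) (tt N91819 F506102))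
theorem Q117634 : ∀ i, i < 117634 → P i := stepQ 117633 Q117633 (allL N117633 (tt N102033 F506114) (tt N102036 F506112) (tt N102035 F506108) (tt N97608 F506113) (tt N91819 (iv4 D220892)) (tt N91957 F506111) (tt N97607 F506109) (tt N102034 F506110))
theorem Q117635 : ∀ i, i < 117635 → P i := stepQ 117634 Q117634 (allL N117634 (tt N102036 F506119) (tt N102033 (iv0 F506120)) (tt N102034 F506115) (tt N97498 F506116) (tt N91820 (iv4 D220893)) (tt N97494 F506117) (tt N103279 F506121) (tt N102035 F506118))
theorem Q117636 : ∀ i, i < 117636 → P i := stepQ 117635 Q117635 (allL N117635 (tt N103447 F506127) (tt N103446 (iv0 F506128)) (tt N103280 F506122) (tt N101810 F506123) (tt N103279 F506124) (tt N103979 F506125) (tt N91820 (iv6 D220894)) (tt N99715 F506126))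
theorem Q117637 : ∀ i, i < 117637 → P i := stepQ 117636 Q117636 (allL N117636 (tt N111994 F506133) (tt N111993 (iv0 F506134)) (tt N100825 F506129) (tt N91834 (iv3 D220895)) (tt N111009 F506130) (tt N111829 F506135) (tt N93445 F506131) (tt N111995 F506132))
theorem Q117638 : ∀ i, i < 117638 → P i := stepQ 117637 Q117637 (allL N117637 (tt N96441 F506141) (tt N116661 F506142) (tt N111992 F506136) (tt N111829 F506137) (tt N116448 F506138) (tt N91834 (iv5 D220896)) (tt N116603 F506139) (tt N116660 F506140))
theorem Q117639 : ∀ i, i < 117639 → P i := stepQ 117638 Q117638 (allL N117638 (tt N101727 F506146) (tt N101726 F506147) (tt N112651 F506143) (tt N115425 F506144) (tt N91860 (iv4 D220897)) (tt N118922 (iv5 F512761)) (tt N118948 (iv6 F512917)) (tt N112650 F506145))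
theorem Q117640 : ∀ i, i < 117640 → P i := stepQ 117639 Q117639 (allL N117639 (tt N91862 (iv1 D220898)) (tt N102107 F506148) (tt N101722 F506154) (tt N91898 (iv3 F506152)) (tt N95821 F506151) (tt N115551 F506150) (tt N96792 (iv6 F506153)) (tt N111569 F506149))
theorem Q117641 : ∀ i, i < 117641 → P i := stepQ 117640 Q117640 (allL N117640 (tt N91900 F506160) (tt N117650 (iv0 F506220)) (tt N115424 F506155) (tt N103353 F506156) (tt N115423 F506157) (tt N107796 F506159) (tt N91865 (iv6 D220899)) (tt N103351 F506158))
theorem Q117642 : ∀ i, i < 117642 → P i := stepQ 117641 Q117641 (allL N117641 (tt N117675 (iv1 F506355)) (tt N117674 F506352) (tt N91866 (iv2 D220900)) (tt N99326 F506161) (tt N91870 F506162) (tt N99325 (iv5 F506165)) (tt N94743 F506163) (tt N112139 F506164))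
theorem Q117643 : ∀ i, i < 117643 → P i := stepQ 117642 Q117642 (allL N117642 (tt N107689 F506171) (tt N116968 F506170) (tt N99325 F506166) (tt N91867 F506167) (tt N102310 F506168) (tt N91866 (iv5 D220901)) (tt N99324 F506172) (tt N112642 F506169))
theorem Q117644 : ∀ i, i < 117644 → P i := stepQ 117643 Q117643 (allL N117643 (tt N111114 (iv1 F506178)) (tt N91868 (iv0 D220902)) (tt N112417 (iv2 F506177)) (tt N100676 F506175) (tt N96934 F506174) (tt N113263 F506173) (tt N111423 F506176) (tt N112416 F506179))
theorem Q117645 : ∀ i, i < 117645 → P i := stepQ 117644 Q117644 (allL N117644 (tt N113077 F506183) (tt N121657 (iv0 F527583)) (tt N107806 F506180) (tt N118346 (iv3 F509824)) (tt N122606 D225865) (tt N91868 (iv5 D220903)) (tt N107803 F506181) (tt N112418 F506182))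
theorem Q117646 : ∀ i, i < 117646 → P i := stepQ 117645 Q117645 (allL N117645 (tt N95588 F506188) (tt N115425 (iv0 F506189)) (tt N115426 F506184) (tt N91869 (iv3 D220904)) (tt N103351 F506185) (tt N116026 F506186) (tt N96861 (iv6 F506190)) (tt N115423 F506187))
theorem Q117647 : ∀ i, i < 117647 → P i := stepQ 117646 Q117646 (allL N117646 (tt N95142 F506195) (tt N113509 (iv0 F506196)) (tt N115428 F506191) (tt N96861 F506192) (tt N93431 F506193) (tt N118111 (iv5 F508659)) (tt N91869 (iv6 D220905)) (tt N91926 F506194))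
theorem Q117648 : ∀ i, i < 117648 → P i := stepQ 117647 Q117647 (allL N117647 (tt N93960 F506201) (tt N93956 F506202) (tt N108927 F506197) (tt N95344 F506198) (tt N93609 F506199) (tt N91878 (iv5 D220906)) (tt N107238 F506203) (tt N108929 F506200))
theorem Q117649 : ∀ i, i < 117649 → P i := stepQ 117648 Q117648 (allL N117648 (tt N117328 F506207) (tt N117151 F506208) (tt N111110 F506204) (tt N91886 F506205) (tt N121531 (iv4 F526884)) (tt N91884 (iv5 D220907)) (tt N117326 F506209) (tt N111111 F506206))
theorem Q117650 : ∀ i, i < 117650 → P i := stepQ 117649 Q117649 (allL N117649 (tt N92002 F506214) (tt N91944 (iv0 F506215)) (tt N92001 F506210) (tt N119208 (iv3 F514364)) (tt N97674 F506211) (tt N115692 F506212) (tt N91888 (iv6 D220908)) (tt N91949 F506213))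
theorem Q117651 : ∀ i, i < 117651 → P i := stepQ 117650 Q117650 (allL N117650 (tt N117640 F506220) (tt N101875 F506221) (tt N91892 F506216) (tt N101512 F506217) (tt N91891 (iv4 D220909)) (tt N109417 F506218) (tt N96174 F506219) (tt N117658 (iv7 F506255)))
theorem Q117652 : ∀ i, i < 117652 → P i := stepQ 117651 Q117651 (allL N117651 (tt N105936 F506224) (tt N105938 F506225) (tt N117677 (iv2 F506366)) (tt N118185 F509044) (tt N91895 (iv4 D220910)) (tt N116243 F506223) (tt N116246 (iv6 F506226)) (tt N111853 F506222))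
theorem Q117653 : ∀ i, i < 117653 → P i := stepQ 117652 Q117652 (allL N117652 (tt N122476 (iv1 F532353)) (tt N102982 (iv0 F506230)) (tt N117678 (iv2 F506372)) (tt N101729 F506227) (tt N116246 F506228) (tt N117540 F506229) (tt N91895 (iv6 D220911)) (tt N122475 (iv7 F532347)))
theorem Q117654 : ∀ i, i < 117654 → P i := stepQ 117653 Q117653 (allL N117653 (tt N112245 (iv1 F506235)) (tt N112244 F506236) (tt N112090 F506231) (tt N91896 (iv3 D220912)) (tt N122083 (iv4 F530057)) (tt N106809 F506232) (tt N111881 (iv6 F506234)) (tt N112243 F506233))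
theorem Q117655 : ∀ i, i < 117655 → P i := stepQ 117654 Q117654 (allL N117654 (tt N105938 F506239) (tt N105936 F506240) (tt N111853 F506237) (tt N103554 F506241) (tt N91896 (iv4 D220913)) (tt N103552 F506238) (tt N122607 D225866) (tt N117677 (iv7 F506368)))
theorem Q117656 : ∀ i, i < 117656 → P i := stepQ 117655 Q117655 (allL N117655 (tt N122089 F530093) (tt N116002 (iv0 F506245)) (tt N111854 F506242) (tt N111881 F506243) (tt N122607 (iv4 F533139)) (tt N99232 F506244) (tt N91896 (iv6 D220914)) (tt N122079 (iv7 F530036)))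
theorem Q117657 : ∀ i, i < 117657 → P i := stepQ 117656 Q117656 (allL N117656 (tt N105943 (iv1 F506247)) (tt N91897 (iv0 D220915)) (tt N117680 F506384) (tt N120845 (iv3 F523046)) (tt N112659 F506246) (tt N118019 (iv5 F508119)) (tt N120843 (iv6 F523034)) (tt N117679 F506379))
theorem Q117658 : ∀ i, i < 117658 → P i := stepQ 117657 Q117657 (allL N117657 (tt N91897 (iv1 D220916)) (tt N105943 F506248) (tt N117679 F506378) (tt N122608 D225867) (tt N95385 F506250) (tt N92660 F506249) (tt N122358 (iv6 F531619)) (tt N117680 (iv7 F506381)))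
theorem Q117659 : ∀ i, i < 117659 → P i := stepQ 117658 Q117658 (allL N117658 (tt N103351 F506256) (tt N115424 F506257) (tt N91900 F506251) (tt N111390 F506252) (tt N91899 (iv4 D220917)) (tt N117600 F506253) (tt N111389 F506254) (tt N117650 F506255))
theorem Q117660 : ∀ i, i < 117660 → P i := stepQ 117659 Q117659 (allL N117659 (tt N108597 F506262) (tt N99693 (iv0 F506263)) (tt N108594 F506258) (tt N114147 F506259) (tt N91912 F506260) (tt N108647 F506261) (tt N91911 (iv6 D220918)) (tt N108595 (iv7 F506264)))
theorem Q117661 : ∀ i, i < 117661 → P i := stepQ 117660 Q117660 (allL N117660 (tt N119327 F515041) (tt N91912 (iv0 D220919)) (tt N115498 (iv2 F506270)) (tt N104992 F506268) (tt N108516 F506267) (tt N120790 (iv5 F522731)) (tt N98080 F506269) (tt N108515 (iv7 F506271)))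
theorem Q117662 : ∀ i, i < 117662 → P i := stepQ 117661 Q117661 (allL N117661 (tt N91912 (iv1 D220920)) (tt N119327 (iv0 F515040)) (tt N108515 F506275) (tt N122185 (iv3 F530655)) (tt N99664 F506276) (tt N116076 F506273) (tt N99669 (iv6 F506274)) (tt N115498 F506272))
theorem Q117663 : ∀ i, i < 117663 → P i := stepQ 117662 Q117662 (allL N117662 (tt N114186 (iv1 F506283)) (tt N115969 F506282) (tt N91917 (iv2 D220921)) (tt N95656 F506277) (tt N108564 F506278) (tt N99691 F506279) (tt N115466 F506280) (tt N108593 F506281))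
theorem Q117664 : ∀ i, i < 117664 → P i := stepQ 117663 Q117663 (allL N117663 (tt N113683 F506287) (tt N115964 (iv0 F506285)) (tt N118935 (iv2 F512832)) (tt N91921 (iv3 D220922)) (tt N122069 (iv4 F529976)) (tt N95387 F506286) (tt N122127 (iv6 F530328)) (tt N117587 F506284))
theorem Q117665 : ∀ i, i < 117665 → P i := stepQ 117664 Q117664 (allL N117664 (tt N114192 F506291) (tt N117561 F506293) (tt N117586 F506288) (tt N95387 F506289) (tt N96053 F506292) (tt N91921 (iv5 D220923)) (tt N118401 (iv6 F510156)) (tt N96050 F506290))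
theorem Q117666 : ∀ i, i < 117666 → P i := stepQ 117665 Q117665 (allL N117665 (tt N122400 (iv1 F531877)) (tt N91924 (iv0 D220924)) (tt N115882 (iv2 F506298)) (tt N115816 F506296) (tt N114854 F506294) (tt N115815 F506295) (tt N113917 F506297) (tt N111510 F506299))
theorem Q117667 : ∀ i, i < 117667 → P i := stepQ 117666 Q117666 (allL N117666 (tt N112532 (iv1 F506302)) (tt N91931 (iv0 D220925)) (tt N112638 (iv2 F506303)) (tt N111711 F506301) (tt N95483 F506300) (tt N118645 (iv5 F511314)) (tt N111710 (iv6 F506304)) (tt N115440 F506305))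
theorem Q117668 : ∀ i, i < 117668 → P i := stepQ 117667 Q117667 (allL N117667 (tt N91931 (iv1 D220926)) (tt N112532 F506306) (tt N115440 F506310) (tt N96402 F506312) (tt N95462 (iv4 F506309)) (tt N110546 F506308) (tt N95460 F506311) (tt N112638 F506307))
theorem Q117669 : ∀ i, i < 117669 → P i := stepQ 117668 Q117668 (allL N117668 (tt N91932 (iv1 D220927)) (tt N93257 F506313) (tt N99301 F506319) (tt N99322 (iv3 F506317)) (tt N107300 F506316) (tt N116090 F506315) (tt N110436 (iv6 F506318)) (tt N107697 F506314))
theorem Q117670 : ∀ i, i < 117670 → P i := stepQ 117669 Q117669 (allL N117669 (tt N102869 F506324) (tt N111108 (iv0 F506325)) (tt N108950 F506320) (tt N91935 F506321) (tt N109909 F506323) (tt N91933 (iv5 D220928)) (tt N106113 F506322) (tt N121254 (iv7 F525398)))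
theorem Q117671 : ∀ i, i < 117671 → P i := stepQ 117670 Q117670 (allL N117670 (tt N117696 (iv1 F506476)) (tt N117701 (iv0 F506507)) (tt N91957 F506326) (tt N97499 F506327) (tt N91951 F506328) (tt N102035 F506329) (tt N91950 (iv6 D220929)) (tt N97494 F506330))
theorem Q117672 : ∀ i, i < 117672 → P i := stepQ 117671 Q117671 (allL N117671 (tt N117701 (iv1 F506508)) (tt N117696 (iv0 F506475)) (tt N97494 F506331) (tt N103283 F506332) (tt N91960 F506333) (tt N102034 F506334) (tt N97492 F506335) (tt N91957 (iv7 D220930)))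
theorem Q117673 : ∀ i, i < 117673 → P i := stepQ 117672 Q117672 (allL N117672 (tt N118112 F508670) (tt N115694 (iv0 F506340)) (tt N115377 F506336) (tt N96742 F506337) (tt N102395 F506338) (tt N92525 F506339) (tt N91959 (iv6 D220931)) (tt N118418 (iv7 F510247)))
theorem Q117674 : ∀ i, i < 117674 → P i := stepQ 117673 Q117673 (allL N117673 (tt N98751 F506346) (tt N96562 F506347) (tt N109852 F506341) (tt N94934 F506342) (tt N104961 F506345) (tt N91970 (iv5 D220932)) (tt N94581 F506343) (tt N94063 F506344))
theorem Q117675 : ∀ i, i < 117675 → P i := stepQ 117674 Q117674 (allL N117674 (tt N117641 (iv1 F506352)) (tt N91975 (iv0 D220933)) (tt N112233 (iv2 F506353)) (tt N96560 F506350) (tt N111977 F506349) (tt N115828 F506348) (tt N112047 F506351) (tt N96722 (iv7 F506354)))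
theorem Q117676 : ∀ i, i < 117676 → P i := stepQ 117675 Q117675 (allL N117675 (tt N91975 (iv1 D220934)) (tt N117641 F506355) (tt N96722 F506360) (tt N118810 (iv3 F512186)) (tt N111976 (iv4 F506357)) (tt N115827 (iv5 F506359)) (tt N96607 (iv6 F506358)) (tt N112233 F506356))
theorem Q117677 : ∀ i, i < 117677 → P i := stepQ 117676 Q117676 (allL N117676 (tt N106810 F506364) (tt N111899 F506365) (tt N111978 F506361) (tt N91988 F506362) (tt N121044 (iv4 F524194)) (tt N91987 (iv5 D220935)) (tt N121044 (iv6 F524196)) (tt N111456 F506363))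
theorem Q117678 : ∀ i, i < 117678 → P i := stepQ 117677 Q117677 (allL N117677 (tt N105856 F506369) (tt N105858 F506370) (tt N117651 F506366) (tt N103942 F506371) (tt N91991 (iv4 D220936)) (tt N98416 F506367) (tt N121056 F524269) (tt N117654 F506368))
theorem Q117679 : ∀ i, i < 117679 → P i := stepQ 117678 Q117678 (allL N117678 (tt N115525 F506375) (tt N120764 (iv0 F522588)) (tt N117652 F506372) (tt N115911 F506373) (tt N121056 (iv4 F524267)) (tt N117459 F506374) (tt N91991 (iv6 D220937)) (tt N120763 (iv7 F522580)))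
theorem Q117680 : ∀ i, i < 117680 → P i := stepQ 117679 Q117679 (allL N117679 (tt N105863 (iv1 F506377)) (tt N91992 (iv0 D220938)) (tt N117657 (iv2 F506378)) (tt N120760 F522568) (tt N118869 (iv4 F512496)) (tt N109843 F506376) (tt N122470 (iv6 F532312)) (tt N117656 (iv7 F506379)))
theorem Q117681 : ∀ i, i < 117681 → P i := stepQ 117680 Q117680 (allL N117680 (tt N91992 (iv1 D220939)) (tt N105863 F506380) (tt N117656 (iv2 F506384)) (tt N122581 (iv3 F532970)) (tt N112254 F506382) (tt N92851 F506383) (tt N122580 F532969) (tt N117657 F506381))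
theorem Q117682 : ∀ i, i < 117682 → P i := stepQ 117681 Q117681 (allL N117681 (tt N96320 F506389) (tt N107729 F506390) (tt N95729 F506385) (tt N96022 F506391) (tt N91997 (iv4 D220940)) (tt N101927 F506386) (tt N107779 F506387) (tt N107731 F506388))
theorem Q117683 : ∀ i, i < 117683 → P i := stepQ 117682 Q117682 (allL N117682 (tt N113662 (iv1 F506397)) (tt N108644 (iv0 F506396)) (tt N113660 F506392) (tt N92010 F506393) (tt N108647 F506394) (tt N120047 (iv5 F518744)) (tt N92008 (iv6 D220941)) (tt N113661 F506395))
theorem Q117684 : ∀ i, i < 117684 → P i := stepQ 117683 Q117683 (allL N117683 (tt N113578 F506402) (tt N114392 (iv0 F506403)) (tt N102403 F506398) (tt N97673 F506399) (tt N103276 F506400) (tt N114432 F506401) (tt N92015 (iv6 D220942)) (tt N117989 (iv7 F507941)))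
theorem Q117685 : ∀ i, i < 117685 → P i := stepQ 117684 Q117684 (allL N117684 (tt N116259 F506406) (tt N116253 (iv0 F506407)) (tt N104714 F506404) (tt N118995 F513178) (tt N92024 (iv4 D220943)) (tt N98534 F506408) (tt N120925 (iv6 F523512)) (tt N116258 F506405))
theorem Q117686 : ∀ i, i < 117686 → P i := stepQ 117685 Q117685 (allL N117685 (tt N106850 F506410) (tt N121082 F524429) (tt N121084 (iv2 F524435)) (tt N92026 F506409) (tt N122609 D225868) (tt N92024 (iv5 D220944)) (tt N116978 F506411) (tt N121080 (iv7 F524414)))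
theorem Q117687 : ∀ i, i < 117687 → P i := stepQ 117686 Q117686 (allL N117686 (tt N121081 F524423) (tt N112933 (iv0 F506416)) (tt N100897 F506412) (tt N92028 (iv3 D220945)) (tt N122538 (iv4 F532726)) (tt N105501 F506413) (tt N100892 F506414) (tt N112949 F506415))
theorem Q117688 : ∀ i, i < 117688 → P i := stepQ 117687 Q117687 (allL N117687 (tt N102008 F506421) (tt N102010 (iv0 F506422)) (tt N97475 F506417) (tt N102094 F506418) (tt N102245 F506419) (tt N103474 F506420) (tt N92043 (iv6 D220946)) (tt N120592 (iv7 F521637)))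
theorem Q117689 : ∀ i, i < 117689 → P i := stepQ 117688 Q117688 (allL N117688 (tt N118697 F511603) (tt N102209 (iv0 F506427)) (tt N102170 F506423) (tt N92044 (iv3 D220947)) (tt N116062 F506424) (tt N104315 F506425) (tt N94788 F506428) (tt N97473 F506426))
theorem Q117690 : ∀ i, i < 117690 → P i := stepQ 117689 Q117689 (allL N117689 (tt N102009 F506433) (tt N120578 (iv0 F521556)) (tt N97477 F506429) (tt N94788 F506430) (tt N93030 F506431) (tt N92532 F506432) (tt N92044 (iv6 D220948)) (tt N102165 F506434))
theorem Q117691 : ∀ i, i < 117691 → P i := stepQ 117690 Q117690 (allL N117690 (tt N103434 F506439) (tt N111370 (iv0 F506441)) (tt N97497 F506435) (tt N117109 F506436) (tt N92056 F506437) (tt N117504 F506440) (tt N92055 (iv6 D220949)) (tt N111369 F506438))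
theorem Q117692 : ∀ i, i < 117692 → P i := stepQ 117691 Q117691 (allL N117691 (tt N92059 (iv1 F506446)) (tt N92058 F506447) (tt N92061 F506442) (tt N97540 F506443) (tt N94853 F506444) (tt N120620 (iv5 F521798)) (tt N97504 F506445) (tt N92057 (iv7 D220950)))
theorem Q117693 : ∀ i, i < 117693 → P i := stepQ 117692 Q117692 (allL N117692 (tt N121824 F528540) (tt N104620 (iv0 F506449)) (tt N119524 (iv2 F516055)) (tt N92064 (iv3 D220951)) (tt N104955 F506448) (tt N119625 (iv5 F516582)) (tt N117953 (iv6 F507764)) (tt N114447 (iv7 F506450)))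
theorem Q117694 : ∀ i, i < 117694 → P i := stepQ 117693 Q117693 (allL N117693 (tt N101935 F506454) (tt N103695 F506455) (tt N97569 F506451) (tt N119625 (iv3 F516580)) (tt N93527 F506452) (tt N92064 (iv5 D220952)) (tt N122566 (iv6 F532883)) (tt N93526 F506453))
theorem Q117695 : ∀ i, i < 117695 → P i := stepQ 117694 Q117694 (allL N117694 (tt N97567 (iv1 F506460)) (tt N97566 F506461) (tt N97570 F506456) (tt N114447 F506457) (tt N92065 F506458) (tt N93526 F506459) (tt N114446 (iv6 F506462)) (tt N92064 (iv7 D220953)))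
theorem Q117696 : ∀ i, i < 117696 → P i := stepQ 117695 Q117695 (allL N117695 (tt N100377 F506468) (tt N102689 F506469) (tt N102693 F506463) (tt N111597 F506464) (tt N107796 F506467) (tt N92066 (iv5 D220954)) (tt N92067 F506465) (tt N102694 F506466))
theorem Q117697 : ∀ i, i < 117697 → P i := stepQ 117696 Q117696 (allL N117696 (tt N117671 F506475) (tt N117670 F506476) (tt N102136 F506470) (tt N92070 F506471) (tt N115417 F506474) (tt N92069 (iv5 D220955)) (tt N97045 F506472) (tt N97616 F506473))
theorem Q117698 : ∀ i, i < 117698 → P i := stepQ 117697 Q117697 (allL N117697 (tt N92077 (iv1 D220956)) (tt N97656 F506477) (tt N97658 F506483) (tt N92911 (iv3 F506481)) (tt N97525 F506480) (tt N92910 F506479) (tt N111826 (iv6 F506482)) (tt N97659 F506478))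
theorem Q117699 : ∀ i, i < 117699 → P i := stepQ 117698 Q117698 (allL N117698 (tt N103272 F506488) (tt N118439 (iv0 F510364)) (tt N103421 F506484) (tt N103428 F506485) (tt N117027 F506486) (tt N92940 F506487) (tt N92079 (iv6 D220957)) (tt N119429 (iv7 F515573)))
theorem Q117700 : ∀ i, i < 117700 → P i := stepQ 117699 Q117699 (allL N117699 (tt N97667 F506493) (tt N112146 F506494) (tt N92094 F506489) (tt N111593 F506490) (tt N106095 F506492) (tt N92085 (iv5 D220958)) (tt N103242 F506491) (tt N118780 (iv7 F512026)))
theorem Q117701 : ∀ i, i < 117701 → P i := stepQ 117700 Q117700 (allL N117700 (tt N92100 F506499) (tt N98006 F506500) (tt N97652 F506495) (tt N97703 F506496) (tt N107063 F506501) (tt N92086 (iv5 D220959)) (tt N102244 F506497) (tt N98005 F506498))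
theorem Q117702 : ∀ i, i < 117702 → P i := stepQ 117701 Q117701 (allL N117701 (tt N117670 F506507) (tt N117671 F506508) (tt N97616 F506502) (tt N97702 F506503) (tt N112850 F506506) (tt N92093 (iv5 D220960)) (tt N103232 F506504) (tt N102136 F506505))
theorem Q117703 : ∀ i, i < 117703 → P i := stepQ 117702 Q117702 (allL N117702 (tt N112146 (iv1 F506513)) (tt N97667 F506514) (tt N118780 (iv2 F512022)) (tt N106693 F506509) (tt N106094 F506510) (tt N92095 F506511) (tt N111863 F506512) (tt N92094 (iv7 D220961)))
theorem Q117704 : ∀ i, i < 117704 → P i := stepQ 117703 Q117703 (allL N117703 (tt N98005 (iv1 F506521)) (tt N97652 F506520) (tt N92100 (iv2 D220962)) (tt N98008 F506515) (tt N92700 F506516) (tt N97772 F506517) (tt N103385 F506518) (tt N98006 F506519))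
theorem Q117705 : ∀ i, i < 117705 → P i := stepQ 117704 Q117704 (allL N117704 (tt N97668 (iv1 F506528)) (tt N98007 F506527) (tt N92101 (iv2 D220963)) (tt N98006 F506522) (tt N109130 F506523) (tt N97837 F506524) (tt N113573 F506525) (tt N98008 F506526))
theorem Q117706 : ∀ i, i < 117706 → P i := stepQ 117705 Q117705 (allL N117705 (tt N97743 (iv1 F506534)) (tt N97670 F506533) (tt N92105 (iv2 D220964)) (tt N97738 F506529) (tt N117964 (iv4 F507818)) (tt N97003 F506530) (tt N103471 F506531) (tt N97002 F506532))
theorem Q117707 : ∀ i, i < 117707 → P i := stepQ 117706 Q117706 (allL N117706 (tt N119845 F517669) (tt N120750 (iv0 F522512)) (tt N117964 (iv2 F507817)) (tt N109127 F506535) (tt N92105 (iv4 D220965)) (tt N109441 F506537) (tt N120657 (iv6 F521998)) (tt N97744 F506536))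
theorem Q117708 : ∀ i, i < 117708 → P i := stepQ 117707 Q117707 (allL N117707 (tt N102146 F506541) (tt N102143 F506542) (tt N97742 F506538) (tt N102299 F506543) (tt N92106 (iv4 D220966)) (tt N102247 F506540) (tt N118085 F508493) (tt N97745 F506539))
theorem Q117709 : ∀ i, i < 117709 → P i := stepQ 117708 Q117708 (allL N117708 (tt N102143 F506548) (tt N102146 F506549) (tt N97745 F506544) (tt N118907 F512688) (tt N92108 (iv4 D220967)) (tt N102248 F506547) (tt N102163 F506545) (tt N97742 F506546))
theorem Q117710 : ∀ i, i < 117710 → P i := stepQ 117709 Q117709 (allL N117709 (tt N116234 F506555) (tt N116236 (iv0 F506556)) (tt N97752 F506550) (tt N115754 F506551) (tt N103518 F506552) (tt N108954 F506553) (tt N92111 (iv6 D220968)) (tt N116235 F506554))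
theorem Q117711 : ∀ i, i < 117711 → P i := stepQ 117710 Q117710 (allL N117710 (tt N97844 (iv1 F506562)) (tt N92119 (iv0 D220969)) (tt N93963 (iv2 F506561)) (tt N97769 F506559) (tt N111115 F506558) (tt N102358 F506557) (tt N103454 F506560) (tt N97842 F506563))
theorem Q117712 : ∀ i, i < 117712 → P i := stepQ 117711 Q117711 (allL N117711 (tt N95251 F506566) (tt N118631 (iv0 F511235)) (tt N94767 F506564) (tt N122106 (iv3 F530201)) (tt N92121 (iv4 D220970)) (tt N119517 (iv5 F516019)) (tt N93354 (iv6 F506567)) (tt N97823 F506565))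
theorem Q117713 : ∀ i, i < 117713 → P i := stepQ 117712 Q117712 (allL N117712 (tt N103049 F506573) (tt N118718 (iv0 F511729)) (tt N94766 F506568) (tt N97890 F506569) (tt N93354 F506570) (tt N97886 F506571) (tt N92121 (iv6 D220971)) (tt N94769 F506572))
theorem Q117714 : ∀ i, i < 117714 → P i := stepQ 117713 Q117713 (allL N117713 (tt N92123 (iv1 D220972)) (tt N92741 F506574) (tt N92743 F506578) (tt N105789 (iv3 F506577)) (tt N105925 F506576) (tt N120770 (iv5 F522622)) (tt N92748 F506579) (tt N92725 F506575))
theorem Q117715 : ∀ i, i < 117715 → P i := stepQ 117714 Q117714 (allL N117714 (tt N118631 (iv1 F511236)) (tt N95251 F506583) (tt N97823 F506580) (tt N118923 (iv3 F512766)) (tt N92124 (iv4 D220973)) (tt N117202 (iv5 F506584)) (tt N98343 F506581) (tt N94767 F506582))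
theorem Q117716 : ∀ i, i < 117716 → P i := stepQ 117715 Q117715 (allL N117715 (tt N92790 (iv1 F506589)) (tt N97275 F506590) (tt N97825 F506585) (tt N120805 (iv3 F522818)) (tt N93073 F506586) (tt N104008 F506587) (tt N92786 F506588) (tt N92125 (iv7 D220974)))
theorem Q117717 : ∀ i, i < 117717 → P i := stepQ 117716 Q117716 (allL N117716 (tt N93307 F506593) (tt N110035 F506594) (tt N120407 (iv2 F520621)) (tt N92126 (iv3 D220975)) (tt N110469 F506591) (tt N118723 (iv5 F511751)) (tt N92128 F506592) (tt N120406 F520618))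
theorem Q117718 : ∀ i, i < 117718 → P i := stepQ 117717 Q117717 (allL N117717 (tt N121199 (iv1 F525098)) (tt N117038 (iv0 F506597)) (tt N97830 F506595) (tt N118723 (iv3 F511754)) (tt N120705 F522247) (tt N92126 (iv5 D220976)) (tt N97830 F506596) (tt N122610 D225869))
theorem Q117719 : ∀ i, i < 117719 → P i := stepQ 117718 Q117718 (allL N117718 (tt N93896 (iv1 F506601)) (tt N97829 F506602) (tt N97831 F506598) (tt N120406 (iv3 F520615)) (tt N92127 F506599) (tt N122610 (iv5 F533158)) (tt N109656 F506600) (tt N92126 (iv7 D220977)))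
theorem Q117720 : ∀ i, i < 117720 → P i := stepQ 117719 Q117719 (allL N117719 (tt N92128 (iv1 D220978)) (tt N109652 F506609) (tt N94716 F506608) (tt N95114 (iv3 F506606)) (tt N115007 F506605) (tt N98251 F506604) (tt N94713 (iv6 F506607)) (tt N103052 F506603))
theorem Q117721 : ∀ i, i < 117721 → P i := stepQ 117720 Q117720 (allL N117720 (tt N103052 (iv1 F506615)) (tt N94716 F506614) (tt N92128 (iv2 D220979)) (tt N97834 F506610) (tt N117481 F506611) (tt N97834 F506612) (tt N120407 (iv6 F520624)) (tt N109652 F506613))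
theorem Q117722 : ∀ i, i < 117722 → P i := stepQ 117721 Q117721 (allL N117721 (tt N92638 F506619) (tt N92636 (iv0 F506620)) (tt N97890 F506616) (tt N109058 F506617) (tt N121772 (iv4 F528228)) (tt N92131 (iv5 D220980)) (tt N98563 F506618) (tt N111189 F506621))
theorem Q117723 : ∀ i, i < 117723 → P i := stepQ 117722 Q117722 (allL N117722 (tt N97879 (iv1 F506626)) (tt N97889 F506627) (tt N97891 F506622) (tt N99807 F506623) (tt N118088 (iv4 F508512)) (tt N111189 F506624) (tt N92846 F506625) (tt N92131 (iv7 D220981)))
theorem Q117724 : ∀ i, i < 117724 → P i := stepQ 117723 Q117723 (allL N117723 (tt N105069 F506632) (tt N105073 (iv0 F506633)) (tt N105071 F506628) (tt N92142 F506629) (tt N109428 F506630) (tt N120328 (iv5 F520210)) (tt N92141 (iv6 D220982)) (tt N105070 F506631))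
theorem Q117725 : ∀ i, i < 117725 → P i := stepQ 117724 Q117724 (allL N117724 (tt N92142 (iv1 D220983)) (tt N105331 F506634) (tt N116315 F506638) (tt N107055 (iv3 F506636)) (tt N115225 F506635) (tt N121958 (iv5 F529297)) (tt N106588 (iv6 F506637)) (tt N121130 (iv7 F524674)))
theorem Q117726 : ∀ i, i < 117726 → P i := stepQ 117725 Q117725 (allL N117725 (tt N120171 (iv1 F519417)) (tt N121334 (iv0 F525832)) (tt N116159 F506639) (tt N120328 (iv3 F520211)) (tt N100954 F506641) (tt N92142 (iv5 D220984)) (tt N108081 F506640) (tt N121826 (iv7 F528551)))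
theorem Q117727 : ∀ i, i < 117727 → P i := stepQ 117726 Q117726 (allL N117726 (tt N116315 (iv1 F506646)) (tt N121130 (iv0 F524675)) (tt N105331 F506642) (tt N105070 F506643) (tt N92144 F506644) (tt N121826 (iv5 F528549)) (tt N113046 F506645) (tt N92142 (iv7 D220985)))
theorem Q117728 : ∀ i, i < 117728 → P i := stepQ 117727 Q117727 (allL N117727 (tt N98517 F506653) (tt N105913 F506652) (tt N105914 F506647) (tt N92164 F506648) (tt N109077 F506651) (tt N92143 (iv5 D220986)) (tt N109685 F506649) (tt N97987 F506650))
theorem Q117729 : ∀ i, i < 117729 → P i := stepQ 117728 Q117728 (allL N117728 (tt N94594 F506658) (tt N107708 F506659) (tt N97411 F506654) (tt N101774 F506655) (tt N92146 (iv4 D220987)) (tt N97405 F506656) (tt N107697 F506660) (tt N97714 F506657))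
theorem Q117730 : ∀ i, i < 117730 → P i := stepQ 117729 Q117729 (allL N117729 (tt N96496 F506666) (tt N107301 (iv0 F506667)) (tt N95003 F506661) (tt N92149 F506662) (tt N107697 F506663) (tt N115431 F506664) (tt N92146 (iv6 D220988)) (tt N107300 F506665))
theorem Q117731 : ∀ i, i < 117731 → P i := stepQ 117730 Q117730 (allL N117730 (tt N107183 F506672) (tt N107181 F506673) (tt N107340 F506668) (tt N115431 F506669) (tt N121766 (iv4 F528186)) (tt N92149 (iv5 D220989)) (tt N92152 F506670) (tt N107459 F506671))
theorem Q117732 : ∀ i, i < 117732 → P i := stepQ 117731 Q117731 (allL N117731 (tt N107213 F506677) (tt N107210 F506678) (tt N107618 F506674) (tt N121924 (iv3 F529091)) (tt N92152 (iv4 D220990)) (tt N99441 F506675) (tt N121766 (iv6 F528187)) (tt N107617 F506676))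
theorem Q117733 : ∀ i, i < 117733 → P i := stepQ 117732 Q117732 (allL N117732 (tt N92156 (iv1 F506681)) (tt N92155 (iv0 D220991)) (tt N106536 (iv2 F506680)) (tt N105163 (iv3 F506684)) (tt N109415 F506679) (tt N121726 (iv5 F527982)) (tt N105998 (iv6 F506683)) (tt N106590 F506682))
theorem Q117734 : ∀ i, i < 117734 → P i := stepQ 117733 Q117733 (allL N117733 (tt N113343 F506688) (tt N113342 (iv0 F506689)) (tt N106591 F506685) (tt N113337 F506686) (tt N99442 F506687) (tt N92155 (iv5 D220992)) (tt N120233 (iv6 F519735)) (tt N121200 (iv7 F525103)))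
theorem Q117735 : ∀ i, i < 117735 → P i := stepQ 117734 Q117734 (allL N117734 (tt N113342 F506694) (tt N113343 (iv0 F506695)) (tt N121200 (iv2 F525099)) (tt N105329 F506690) (tt N107621 F506691) (tt N92156 (iv5 D220993)) (tt N113455 F506692) (tt N106591 F506693))
theorem Q117736 : ∀ i, i < 117736 → P i := stepQ 117735 Q117735 (allL N117735 (tt N118721 (iv1 F511747)) (tt N110943 F506700) (tt N97992 F506696) (tt N114545 F506697) (tt N92164 (iv4 D220994)) (tt N117038 (iv5 F506701)) (tt N98252 F506698) (tt N97990 F506699))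
theorem Q117737 : ∀ i, i < 117737 → P i := stepQ 117736 Q117736 (allL N117736 (tt N100300 F506707) (tt N104215 F506708) (tt N105901 F506702) (tt N97194 F506703) (tt N104192 F506704) (tt N92168 (iv5 D220995)) (tt N109753 F506705) (tt N105903 F506706))
theorem Q117738 : ∀ i, i < 117738 → P i := stepQ 117737 Q117737 (allL N117737 (tt N115830 F506714) (tt N112858 F506715) (tt N98018 F506709) (tt N102178 F506710) (tt N106151 F506711) (tt N103340 F506712) (tt N92176 (iv6 D220996)) (tt N106147 F506713))
theorem Q117739 : ∀ i, i < 117739 → P i := stepQ 117738 Q117738 (allL N117738 (tt N92177 (iv1 D220997)) (tt N97556 F506716) (tt N98013 F506720) (tt N117989 (iv3 F507938)) (tt N120800 (iv4 F522785)) (tt N102236 F506718) (tt N97743 (iv6 F506719)) (tt N97673 F506717))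
theorem Q117740 : ∀ i, i < 117740 → P i := stepQ 117739 Q117739 (allL N117739 (tt N121772 (iv1 F528232)) (tt N103737 F506725) (tt N98042 F506721) (tt N96391 (iv3 F506726)) (tt N92188 (iv4 D220998)) (tt N103735 F506724) (tt N106144 F506722) (tt N98044 F506723))
theorem Q117741 : ∀ i, i < 117741 → P i := stepQ 117740 Q117740 (allL N117740 (tt N109244 F506730) (tt N119395 F515401) (tt N117353 F506727) (tt N106703 F506728) (tt N92204 (iv4 D220999)) (tt N120582 (iv5 F521580)) (tt N115216 F506729) (tt N119405 (iv7 F515443)))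
theorem Q117742 : ∀ i, i < 117742 → P i := stepQ 117741 Q117741 (allL N117741 (tt N115259 F506735) (tt N115257 F506736) (tt N97309 F506731) (tt N114512 F506732) (tt N92211 (iv4 D221000)) (tt N115169 F506734) (tt N122342 (iv6 F531530)) (tt N97312 F506733))
theorem Q117743 : ∀ i, i < 117743 → P i := stepQ 117742 Q117742 (allL N117742 (tt N98472 F506742) (tt N115157 (iv0 F506743)) (tt N96230 F506737) (tt N92216 F506738) (tt N96226 F506739) (tt N94007 F506740) (tt N92214 (iv6 D221001)) (tt N96227 F506741))
theorem Q117744 : ∀ i, i < 117744 → P i := stepQ 117743 Q117743 (allL N117743 (tt N114962 F506747) (tt N120111 (iv0 F519106)) (tt N92232 F506744) (tt N121177 (iv3 F524958)) (tt N92217 (iv4 D221002)) (tt N121931 (iv5 F529135)) (tt N116312 F506745) (tt N92227 F506746))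
theorem Q117745 : ∀ i, i < 117745 → P i := stepQ 117744 Q117744 (allL N117744 (tt N109186 F506753) (tt N99994 F506754) (tt N109367 F506748) (tt N92807 F506749) (tt N113783 F506750) (tt N92221 (iv5 D221003)) (tt N113685 F506751) (tt N92812 F506752))
theorem Q117746 : ∀ i, i < 117746 → P i := stepQ 117745 Q117745 (allL N117745 (tt N95012 F506758) (tt N95010 (iv0 F506760)) (tt N95008 F506759) (tt N92222 (iv3 D221004)) (tt N107589 F506755) (tt N122536 (iv5 F532711)) (tt N107502 F506756) (tt N95009 F506757))
theorem Q117747 : ∀ i, i < 117747 → P i := stepQ 117746 Q117746 (allL N117746 (tt N118017 (iv1 F508110)) (tt N114356 F506762) (tt N120275 (iv2 F519964)) (tt N122242 (iv3 F530965)) (tt N92223 (iv4 D221005)) (tt N117043 F506761) (tt N120922 (iv6 F523493)) (tt N120276 (iv7 F519972)))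
theorem Q117748 : ∀ i, i < 117748 → P i := stepQ 117747 Q117747 (allL N117747 (tt N121726 (iv1 F527984)) (tt N121766 (iv0 F528189)) (tt N106596 F506763) (tt N113190 F506764) (tt N107213 F506766) (tt N92227 (iv5 D221006)) (tt N113166 F506765) (tt N121931 (iv7 F529137)))
theorem Q117749 : ∀ i, i < 117749 → P i := stepQ 117748 Q117748 (allL N117748 (tt N121766 (iv1 F528190)) (tt N121726 (iv0 F527983)) (tt N121931 (iv2 F529133)) (tt N106016 F506767) (tt N107210 F506768) (tt N92232 (iv5 D221007)) (tt N122555 (iv6 F532820)) (tt N106596 F506769))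
theorem Q117750 : ∀ i, i < 117750 → P i := stepQ 117749 Q117749 (allL N117749 (tt N119414 (iv1 F515495)) (tt N119504 (iv0 F515951)) (tt N104358 F506770) (tt N92241 (iv3 D221008)) (tt N115401 F506771) (tt N93206 F506772) (tt N119416 (iv6 F515506)) (tt N98568 F506773))
theorem Q117751 : ∀ i, i < 117751 → P i := stepQ 117750 Q117750 (allL N117750 (tt N120693 (iv1 F522185)) (tt N102515 (iv0 F506777)) (tt N104365 F506774) (tt N120686 (iv3 F522142)) (tt N107015 F506775) (tt N122405 (iv5 F531905)) (tt N92250 (iv6 D221009)) (tt N102472 F506776))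
theorem Q117752 : ∀ i, i < 117752 → P i := stepQ 117751 Q117751 (allL N117751 (tt N105203 F506783) (tt N94967 F506782) (tt N92253 F506778) (tt N103398 F506779) (tt N114298 F506780) (tt N92252 (iv5 D221010)) (tt N114297 F506784) (tt N105201 F506781))
theorem Q117753 : ∀ i, i < 117753 → P i := stepQ 117752 Q117752 (allL N117752 (tt N114552 F506790) (tt N114551 F506791) (tt N114297 F506785) (tt N92255 F506786) (tt N98342 F506787) (tt N109172 F506788) (tt N92253 (iv6 D221011)) (tt N114550 F506789))
theorem Q117754 : ∀ i, i < 117754 → P i := stepQ 117753 Q117753 (allL N117753 (tt N103519 F506795) (tt N104712 F506796) (tt N106140 F506792) (tt N113754 F506797) (tt N92256 (iv4 D221012)) (tt N118498 (iv5 F510694)) (tt N116336 F506793) (tt N113753 F506794))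
theorem Q117755 : ∀ i, i < 117755 → P i := stepQ 117754 Q117754 (allL N117754 (tt N103404 F506802) (tt N103403 F506803) (tt N92259 F506798) (tt N105201 F506799) (tt N115386 F506800) (tt N92258 (iv5 D221013)) (tt N118000 (iv6 F508011)) (tt N103398 F506801))
theorem Q117756 : ∀ i, i < 117756 → P i := stepQ 117755 Q117755 (allL N117755 (tt N102917 F506807) (tt N103885 (iv0 F506809)) (tt N92260 F506804) (tt N105202 F506805) (tt N103262 F506806) (tt N120969 (iv5 F523769)) (tt N92258 (iv6 D221014)) (tt N116282 (iv7 F506808)))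
theorem Q117757 : ∀ i, i < 117757 → P i := stepQ 117756 Q117756 (allL N117756 (tt N103194 F506814) (tt N98160 F506815) (tt N115386 F506810) (tt N105964 F506811) (tt N92259 (iv4 D221015)) (tt N97196 F506812) (tt N92636 F506816) (tt N103405 F506813))
theorem Q117758 : ∀ i, i < 117758 → P i := stepQ 117757 Q117757 (allL N117757 (tt N119528 (iv1 F516077)) (tt N104467 (iv0 F506819)) (tt N118000 (iv2 F508010)) (tt N92261 F506817) (tt N92636 F506818) (tt N119536 (iv5 F516118)) (tt N92259 (iv6 D221016)) (tt N118002 (iv7 F508024)))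
theorem Q117759 : ∀ i, i < 117759 → P i := stepQ 117758 Q117758 (allL N117758 (tt N116282 F506826) (tt N92260 (iv0 D221017)) (tt N102917 (iv2 F506824)) (tt N96987 F506822) (tt N102928 F506821) (tt N116256 F506820) (tt N102916 F506823) (tt N103885 (iv7 F506825)))
theorem Q117760 : ∀ i, i < 117760 → P i := stepQ 117759 Q117759 (allL N117759 (tt N92260 (iv1 D221018)) (tt N116282 F506827) (tt N103885 F506831) (tt N102920 (iv3 F506830)) (tt N102931 F506829) (tt N113819 F506832) (tt N104433 F506833) (tt N102917 F506828))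
theorem Q117761 : ∀ i, i < 117761 → P i := stepQ 117760 Q117760 (allL N117760 (tt N103885 (iv1 F506838)) (tt N102917 F506839) (tt N116282 F506834) (tt N92263 F506835) (tt N103264 F506836) (tt N120842 (iv5 F523028)) (tt N103408 F506837) (tt N92260 (iv7 D221019)))
theorem Q117762 : ∀ i, i < 117762 → P i := stepQ 117761 Q117761 (allL N117761 (tt N105207 (iv1 F506844)) (tt N99981 F506845) (tt N105208 F506840) (tt N118002 F508025) (tt N105971 F506841) (tt N104581 F506842) (tt N106139 F506843) (tt N92261 (iv7 D221020)))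
theorem Q117763 : ∀ i, i < 117763 → P i := stepQ 117762 Q117762 (allL N117762 (tt N120622 (iv1 F521813)) (tt N118658 (iv0 F511387)) (tt N120661 (iv2 F522020)) (tt N92266 F506846) (tt N120261 (iv4 F519874)) (tt N92265 (iv5 D221021)) (tt N94966 F506847) (tt N111188 F506848))
theorem Q117764 : ∀ i, i < 117764 → P i := stepQ 117763 Q117763 (allL N117763 (tt N105126 (iv1 F506854)) (tt N105125 F506853) (tt N92272 (iv2 D221022)) (tt N106127 F506849) (tt N118634 (iv4 F511252)) (tt N98711 F506850) (tt N109182 F506851) (tt N105123 F506852))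
theorem Q117765 : ∀ i, i < 117765 → P i := stepQ 117764 Q117764 (allL N117764 (tt N105438 F506857) (tt N120547 (iv0 F521382)) (tt N118634 (iv2 F511251)) (tt N105989 F506855) (tt N92272 (iv4 D221023)) (tt N118650 (iv5 F511344)) (tt N118332 (iv6 F509756)) (tt N105127 F506856))
theorem Q117766 : ∀ i, i < 117766 → P i := stepQ 117765 Q117765 (allL N117765 (tt N120641 (iv1 F521910)) (tt N120638 (iv0 F521895)) (tt N106134 F506858) (tt N117342 F506859) (tt N102600 (iv4 F506861)) (tt N92273 (iv5 D221024)) (tt N95108 F506860) (tt N119662 (iv7 F516782)))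
theorem Q117767 : ∀ i, i < 117767 → P i := stepQ 117766 Q117766 (allL N117766 (tt N118654 F511371) (tt N118656 F511379) (tt N119661 (iv2 F516775)) (tt N92274 (iv3 D221025)) (tt N105564 F506862) (tt N120651 (iv5 F521962)) (tt N119659 F516768) (tt N117773 (iv7 F506898)))
theorem Q117768 : ∀ i, i < 117768 → P i := stepQ 117767 Q117767 (allL N117767 (tt N116868 F506867) (tt N116890 (iv0 F506868)) (tt N98532 F506863) (tt N119659 (iv3 F516764)) (tt N106427 F506864) (tt N104722 F506865) (tt N92274 (iv6 D221026)) (tt N116888 F506866))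
theorem Q117769 : ∀ i, i < 117769 → P i := stepQ 117768 Q117768 (allL N117768 (tt N121051 (iv1 F524239)) (tt N121050 F524236) (tt N93238 F506869) (tt N92278 F506870) (tt N112793 F506872) (tt N92277 (iv5 D221027)) (tt N119657 (iv6 F516754)) (tt N93241 F506871))
theorem Q117770 : ∀ i, i < 117770 → P i := stepQ 117769 Q117769 (allL N117769 (tt N120978 (iv1 F523830)) (tt N120984 (iv0 F523863)) (tt N120899 (iv2 F523357)) (tt N92282 (iv3 D221028)) (tt N101413 F506874) (tt N104481 F506873) (tt N118191 (iv6 F509064)) (tt N120853 (iv7 F523094)))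
theorem Q117771 : ∀ i, i < 117771 → P i := stepQ 117770 Q117770 (allL N117770 (tt N105701 F506879) (tt N105558 (iv0 F506880)) (tt N118446 (iv2 F510401)) (tt N92284 (iv3 D221029)) (tt N92285 F506875) (tt N105528 F506876) (tt N116302 F506877) (tt N106195 F506878))
theorem Q117772 : ∀ i, i < 117772 → P i := stepQ 117771 Q117771 (allL N117771 (tt N106194 (iv1 F506885)) (tt N92285 (iv0 D221030)) (tt N105579 (iv2 F506884)) (tt N106383 F506883) (tt N105403 F506882) (tt N104462 F506881) (tt N111283 (iv6 F506887)) (tt N105581 F506886))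
theorem Q117773 : ∀ i, i < 117773 → P i := stepQ 117772 Q117772 (allL N117772 (tt N105579 (iv1 F506893)) (tt N105581 F506892) (tt N92285 (iv2 D221031)) (tt N106192 F506888) (tt N118446 (iv4 F510403)) (tt N98998 F506889) (tt N113307 F506890) (tt N106194 F506891))
theorem Q117774 : ∀ i, i < 117774 → P i := stepQ 117773 Q117773 (allL N117773 (tt N120632 (iv1 F521864)) (tt N120630 (iv0 F521852)) (tt N114582 F506894) (tt N92287 (iv3 D221032)) (tt N114588 F506895) (tt N109419 F506896) (tt N98682 F506897) (tt N117766 F506898))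
theorem Q117775 : ∀ i, i < 117775 → P i := stepQ 117774 Q117774 (allL N117774 (tt N118286 F509525) (tt N97105 (iv0 F506901)) (tt N92389 F506899) (tt N93596 F506900) (tt N119945 (iv4 F518174)) (tt N120249 (iv5 F519810)) (tt N92288 (iv6 D221033)) (tt N118491 (iv7 F510663)))
theorem Q117776 : ∀ i, i < 117776 → P i := stepQ 117775 Q117775 (allL N117775 (tt N118538 (iv1 F510849)) (tt N110458 F506905) (tt N120159 (iv2 F519344)) (tt N92292 F506902) (tt N120138 (iv4 F519267)) (tt N92291 (iv5 D221034)) (tt N113287 F506903) (tt N108760 F506904))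
theorem Q117777 : ∀ i, i < 117777 → P i := stepQ 117776 Q117776 (allL N117776 (tt N108763 F506910) (tt N100047 F506911) (tt N92374 F506906) (tt N100109 F506912) (tt N92292 (iv4 D221035)) (tt N94204 F506909) (tt N100108 F506907) (tt N108761 F506908))
theorem Q117778 : ∀ i, i < 117778 → P i := stepQ 117777 Q117777 (allL N117777 (tt N108989 (iv1 F506917)) (tt N92294 (iv0 D221036)) (tt N108988 (iv2 F506916)) (tt N108046 F506914) (tt N96299 F506915) (tt N108045 F506913) (tt N118482 (iv6 F510612)) (tt N108987 F506918))
theorem Q117779 : ∀ i, i < 117779 → P i := stepQ 117778 Q117778 (allL N117778 (tt N110582 F506923) (tt N117075 F506922) (tt N121632 (iv2 F527440)) (tt N92297 F506919) (tt N116390 F506924) (tt N92294 (iv5 D221037)) (tt N94272 F506920) (tt N108990 F506921))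
theorem Q117780 : ∀ i, i < 117780 → P i := stepQ 117779 Q117779 (allL N117779 (tt N94370 F506930) (tt N118484 (iv0 F510622)) (tt N92400 F506925) (tt N94272 F506926) (tt N115928 F506929) (tt N92295 (iv5 D221038)) (tt N92297 F506927) (tt N116685 F506928))
theorem Q117781 : ∀ i, i < 117781 → P i := stepQ 117780 Q117780 (allL N117780 (tt N92407 (iv1 F506933)) (tt N92297 (iv0 D221039)) (tt N92404 F506936) (tt N108451 (iv3 F506934)) (tt N117126 F506932) (tt N107206 F506931) (tt N120554 (iv6 F521424)) (tt N92405 F506935))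
theorem Q117782 : ∀ i, i < 117782 → P i := stepQ 117781 Q117781 (allL N117781 (tt N92297 (iv1 D221040)) (tt N92407 F506938) (tt N92405 F506943) (tt N108700 (iv3 F506941)) (tt N121729 (iv4 F528001)) (tt N92446 F506940) (tt N94373 (iv6 F506942)) (tt N92404 F506939))
theorem Q117783 : ∀ i, i < 117783 → P i := stepQ 117782 Q117782 (allL N117782 (tt N110459 F506948) (tt N120722 (iv0 F522353)) (tt N92301 F506944) (tt N92418 F506945) (tt N93288 F506946) (tt N102775 F506947) (tt N92299 (iv6 D221041)) (tt N119851 (iv7 F517697)))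
theorem Q117784 : ∀ i, i < 117784 → P i := stepQ 117783 Q117783 (allL N117783 (tt N119851 (iv1 F517699)) (tt N92301 (iv0 D221042)) (tt N110459 (iv2 F506951)) (tt N118287 (iv3 F509528)) (tt N110463 F506950) (tt N106429 F506949) (tt N110457 F506952) (tt N120722 (iv7 F522352)))
theorem Q117785 : ∀ i, i < 117785 → P i := stepQ 117784 Q117784 (allL N117784 (tt N94209 F506959) (tt N100702 F506958) (tt N92442 F506953) (tt N92402 F506954) (tt N112309 F506957) (tt N92303 (iv5 D221043)) (tt N92306 F506955) (tt N111604 F506956))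
theorem Q117786 : ∀ i, i < 117786 → P i := stepQ 117785 Q117785 (allL N117785 (tt N93282 F506964) (tt N92470 (iv0 F506965)) (tt N92319 F506960) (tt N92308 (iv3 D221044)) (tt N99468 F506961) (tt N118472 (iv5 F510556)) (tt N92315 F506962) (tt N92311 F506963))
theorem Q117787 : ∀ i, i < 117787 → P i := stepQ 117786 Q117786 (allL N117786 (tt N92470 (iv1 F506970)) (tt N93282 F506969) (tt N92311 (iv2 D221045)) (tt N92323 F506966) (tt N99466 F506967) (tt N118475 (iv5 F510573)) (tt N117857 (iv6 F507302)) (tt N92319 F506968))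
theorem Q117788 : ∀ i, i < 117788 → P i := stepQ 117787 Q117787 (allL N117787 (tt N117823 (iv1 F507135)) (tt N120496 F521088) (tt N117857 (iv2 F507297)) (tt N92314 F506971) (tt N108133 F506972) (tt N95404 F506973) (tt N92311 (iv6 D221046)) (tt N117855 (iv7 F507288)))
theorem Q117789 : ∀ i, i < 117789 → P i := stepQ 117788 Q117788 (allL N117788 (tt N118325 F509718) (tt N118541 (iv0 F510863)) (tt N121634 (iv2 F527452)) (tt N95404 F506974) (tt N120958 (iv4 F523701)) (tt N92314 (iv5 D221047)) (tt N118518 F510785) (tt N117854 (iv7 F507283)))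
theorem Q117790 : ∀ i, i < 117790 → P i := stepQ 117789 Q117789 (allL N117789 (tt N93296 F506978) (tt N93288 (iv0 F506980)) (tt N93293 F506975) (tt N110038 F506979) (tt N92316 (iv4 D221048)) (tt N107076 F506977) (tt N94620 F506981) (tt N93294 F506976))
theorem Q117791 : ∀ i, i < 117791 → P i := stepQ 117790 Q117790 (allL N117790 (tt N116645 F506986) (tt N116644 F506987) (tt N116385 F506982) (tt N106464 F506983) (tt N94620 F506984) (tt N121743 (iv5 F528060)) (tt N92316 (iv6 D221049)) (tt N116646 F506985))
theorem Q117792 : ∀ i, i < 117792 → P i := stepQ 117791 Q117791 (allL N117791 (tt N92492 F506992) (tt N119249 (iv0 F514622)) (tt N119843 (iv2 F517654)) (tt N92317 (iv3 D221050)) (tt N107948 F506991) (tt N107800 F506988) (tt N116653 F506989) (tt N116281 F506990))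
theorem Q117793 : ∀ i, i < 117793 → P i := stepQ 117792 Q117792 (allL N117792 (tt N93288 F506998) (tt N93296 F506999) (tt N93294 F506993) (tt N107949 F506994) (tt N92317 (iv4 D221051)) (tt N106087 F506995) (tt N116661 F506996) (tt N93293 F506997))
theorem Q117794 : ∀ i, i < 117794 → P i := stepQ 117793 Q117793 (allL N117793 (tt N108704 F507003) (tt N118529 F510814) (tt N117856 (iv2 F507292)) (tt N92324 F507000) (tt N95402 F507002) (tt N92320 (iv5 D221052)) (tt N95400 F507001) (tt N118476 (iv7 F510581)))
theorem Q117795 : ∀ i, i < 117795 → P i := stepQ 117794 Q117794 (allL N117794 (tt N117878 (iv1 F507395)) (tt N101192 (iv0 F507009)) (tt N92511 F507004) (tt N106070 F507005) (tt N106866 F507006) (tt N108712 F507008) (tt N92321 (iv6 D221053)) (tt N108251 F507007))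
theorem Q117796 : ∀ i, i < 117796 → P i := stepQ 117795 Q117795 (allL N117795 (tt N106639 F507013) (tt N106638 (iv0 F507014)) (tt N92326 F507010) (tt N102673 F507011) (tt N92360 F507012) (tt N119781 (iv5 F517384)) (tt N92325 (iv6 D221054)) (tt N106640 F507015))
theorem Q117797 : ∀ i, i < 117797 → P i := stepQ 117796 Q117796 (allL N117796 (tt N92326 (iv1 D221055)) (tt N106640 F507016) (tt N106638 F507021) (tt N100261 (iv3 F507019)) (tt N100105 (iv4 F507018)) (tt N121282 (iv5 F525540)) (tt N110999 (iv6 F507020)) (tt N106639 F507017))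
theorem Q117798 : ∀ i, i < 117798 → P i := stepQ 117797 Q117797 (allL N117797 (tt N106333 F507025) (tt N106337 (iv0 F507026)) (tt N119781 (iv2 F517386)) (tt N92327 F507022) (tt N121835 (iv4 F528602)) (tt N92326 (iv5 D221056)) (tt N106082 F507023) (tt N106641 F507024))
theorem Q117799 : ∀ i, i < 117799 → P i := stepQ 117798 Q117798 (allL N117798 (tt N118841 (iv1 F512365)) (tt N118843 (iv0 F512378)) (tt N118897 F512637) (tt N122330 (iv3 F531456)) (tt N92331 (iv4 D221057)) (tt N115396 F507027) (tt N118898 (iv6 F512640)) (tt N118896 F512630))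
theorem Q117800 : ∀ i, i < 117800 → P i := stepQ 117799 Q117799 (allL N117799 (tt N94799 F507033) (tt N94803 (iv0 F507034)) (tt N107791 F507028) (tt N92334 (iv3 D221058)) (tt N99319 F507029) (tt N116281 F507030) (tt N102730 F507031) (tt N107800 F507032))
theorem Q117801 : ∀ i, i < 117801 → P i := stepQ 117800 Q117800 (allL N117800 (tt N112631 F507038) (tt N119179 (iv0 F514218)) (tt N120553 (iv2 F521415)) (tt N92337 F507035) (tt N107799 F507036) (tt N112026 F507037) (tt N92335 (iv6 D221059)) (tt N120554 (iv7 F521425)))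
theorem Q117802 : ∀ i, i < 117802 → P i := stepQ 117801 Q117801 (allL N117801 (tt N97114 (iv1 F507041)) (tt N92337 (iv0 D221060)) (tt N97112 (iv2 F507042)) (tt N121031 (iv3 F524115)) (tt N95386 F507039) (tt N122611 D225870) (tt N94397 F507040) (tt N97113 (iv7 F507043)))
theorem Q117803 : ∀ i, i < 117803 → P i := stepQ 117802 Q117802 (allL N117802 (tt N92337 (iv1 D221061)) (tt N97114 F507044) (tt N97113 F507047) (tt N118278 (iv3 F509480)) (tt N95387 (iv4 F507046)) (tt N122233 (iv5 F530917)) (tt N122585 (iv6 F532997)) (tt N97112 F507045))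
theorem Q117804 : ∀ i, i < 117804 → P i := stepQ 117803 Q117803 (allL N117803 (tt N112938 F507052) (tt N122605 (iv0 F533128)) (tt N97111 F507048) (tt N112026 F507049) (tt N116876 (iv4 F507051)) (tt N92337 (iv5 D221062)) (tt N92339 F507050) (tt N121720 (iv7 F527942)))
theorem Q117805 : ∀ i, i < 117805 → P i := stepQ 117804 Q117804 (allL N117804 (tt N95323 (iv1 F507056)) (tt N118278 F509481) (tt N117884 (iv2 F507421)) (tt N92338 (iv3 D221063)) (tt N93865 F507053) (tt N122612 D225871) (tt N93683 F507054) (tt N97107 F507055))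
theorem Q117806 : ∀ i, i < 117806 → P i := stepQ 117805 Q117805 (allL N117805 (tt N110712 F507059) (tt N94120 F507060) (tt N97109 F507057) (tt N122612 (iv3 F533168)) (tt N120253 (iv4 F519832)) (tt N92338 (iv5 D221064)) (tt N121083 (iv6 F524432)) (tt N97108 F507058))
theorem Q117807 : ∀ i, i < 117807 → P i := stepQ 117806 Q117806 (allL N117806 (tt N118491 F510666) (tt N92389 (iv0 F507064)) (tt N118286 (iv2 F509521)) (tt N92341 (iv3 D221065)) (tt N99298 F507061) (tt N116565 F507065) (tt N108696 F507062) (tt N97105 F507063))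
theorem Q117808 : ∀ i, i < 117808 → P i := stepQ 117807 Q117807 (allL N117807 (tt N118468 (iv1 F510533)) (tt N107205 F507071) (tt N97103 F507066) (tt N116565 F507067) (tt N116571 F507070) (tt N92341 (iv5 D221066)) (tt N110898 F507068) (tt N97106 F507069))
theorem Q117809 : ∀ i, i < 117809 → P i := stepQ 117808 Q117808 (allL N117808 (tt N92358 (iv1 F507076)) (tt N108242 (iv0 F507075)) (tt N119760 (iv2 F517280)) (tt N92342 (iv3 D221067)) (tt N95508 F507072) (tt N122613 D225872) (tt N99880 F507073) (tt N97102 F507074))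
theorem Q117810 : ∀ i, i < 117810 → P i := stepQ 117809 Q117809 (allL N117809 (tt N107205 F507080) (tt N118468 (iv0 F510532)) (tt N97106 F507077) (tt N122613 (iv3 F533173)) (tt N116570 F507078) (tt N92342 (iv5 D221068)) (tt N117828 (iv6 F507159)) (tt N97103 F507079))
theorem Q117811 : ∀ i, i < 117811 → P i := stepQ 117810 Q117810 (allL N117810 (tt N122614 D225873) (tt N117843 (iv0 F507230)) (tt N92347 F507081) (tt N108575 F507082) (tt N95010 F507083) (tt N122302 (iv5 F531284)) (tt N92345 (iv6 D221069)) (tt N122615 D225874))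
theorem Q117812 : ∀ i, i < 117812 → P i := stepQ 117811 Q117811 (allL N117811 (tt N122615 (iv1 F533190)) (tt N92347 (iv0 D221070)) (tt N122614 F533181) (tt N112937 F507086) (tt N113344 F507085) (tt N112936 F507084) (tt N122095 (iv6 F530131)) (tt N117843 F507616))
theorem Q117813 : ∀ i, i < 117813 → P i := stepQ 117812 Q117812 (allL N117812 (tt N92347 (iv1 D221071)) (tt N122615 F533189) (tt N117843 (iv2 F507229)) (tt N118294 (iv3 F509566)) (tt N121442 (iv4 F526399)) (tt N122616 D225875) (tt N92432 (iv6 F507087)) (tt N122614 (iv7 F533182)))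
theorem Q117814 : ∀ i, i < 117814 → P i := stepQ 117813 Q117813 (allL N117813 (tt N112960 F507090) (tt N122294 (iv0 F531244)) (tt N122302 (iv2 F531289)) (tt N92349 F507088) (tt N122319 (iv4 F531390)) (tt N92347 (iv5 D221072)) (tt N107602 F507089) (tt N122303 (iv7 F531292)))
theorem Q117815 : ∀ i, i < 117815 → P i := stepQ 117814 Q117814 (allL N117814 (tt N117843 (iv1 F507231)) (tt N122614 F533183) (tt N122615 (iv2 F533184)) (tt N92350 F507091) (tt N95012 F507092) (tt N122303 (iv5 F531294)) (tt N107349 F507093) (tt N92347 (iv7 D221073)))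
theorem Q117816 : ∀ i, i < 117816 → P i := stepQ 117815 Q117815 (allL N117815 (tt N122617 D225876) (tt N122618 D225877) (tt N117875 (iv2 F507381)) (tt N107602 F507094) (tt N117178 F507096) (tt N92348 (iv5 D221074)) (tt N92349 F507095) (tt N121272 (iv7 F525502)))
theorem Q117817 : ∀ i, i < 117817 → P i := stepQ 117816 Q117816 (allL N117816 (tt N94304 F507102) (tt N92349 (iv0 D221075)) (tt N94306 (iv2 F507098)) (tt N116328 (iv3 F507101)) (tt N116332 F507100) (tt N94197 F507097) (tt N122619 D225878) (tt N94196 F507099))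
theorem Q117818 : ∀ i, i < 117818 → P i := stepQ 117817 Q117817 (allL N117817 (tt N118571 (iv1 F510966)) (tt N110714 F507106) (tt N108378 F507103) (tt N99824 F507107) (tt N92349 (iv4 D221076)) (tt N99821 F507105) (tt N117178 F507104) (tt N118570 (iv7 F510957)))
theorem Q117819 : ∀ i, i < 117819 → P i := stepQ 117818 Q117818 (allL N117818 (tt N94196 (iv1 F507110)) (tt N94306 F507111) (tt N94304 F507108) (tt N122303 F531295) (tt N118570 (iv4 F510958)) (tt N92350 F507109) (tt N122251 (iv6 F531015)) (tt N92349 (iv7 D221077)))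
theorem Q117820 : ∀ i, i < 117820 → P i := stepQ 117819 Q117819 (allL N117819 (tt N94236 F507115) (tt N108727 (iv0 F507116)) (tt N92354 F507112) (tt N107343 F507113) (tt N99675 F507114) (tt N117609 F507117) (tt N92352 (iv6 D221078)) (tt N118497 (iv7 F510689)))
theorem Q117821 : ∀ i, i < 117821 → P i := stepQ 117820 Q117820 (allL N117820 (tt N118494 F510679) (tt N119775 (iv0 F517358)) (tt N119097 (iv2 F513776)) (tt N92355 F507118) (tt N110829 F507119) (tt N122116 (iv5 F530265)) (tt N92353 (iv6 D221079)) (tt N119938 (iv7 F518135)))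
theorem Q117822 : ∀ i, i < 117822 → P i := stepQ 117821 Q117821 (allL N117821 (tt N118497 (iv1 F510690)) (tt N92354 (iv0 D221080)) (tt N94236 (iv2 F507123)) (tt N101852 F507121) (tt N96928 F507120) (tt N117859 (iv5 F507312)) (tt N92423 F507122) (tt N108727 (iv7 F507124)))
theorem Q117823 : ∀ i, i < 117823 → P i := stepQ 117822 Q117822 (allL N117822 (tt N92354 (iv1 D221081)) (tt N118497 F510691) (tt N108727 F507130) (tt N94244 (iv3 F507127)) (tt N116541 (iv4 F507128)) (tt N112801 F507126) (tt N108707 (iv6 F507129)) (tt N94236 F507125))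
theorem Q117824 : ∀ i, i < 117824 → P i := stepQ 117823 Q117823 (allL N117823 (tt N106120 F507136) (tt N117787 F507135) (tt N117609 F507131) (tt N92356 F507132) (tt N105359 F507134) (tt N92354 (iv5 D221082)) (tt N122116 (iv6 F530268)) (tt N117612 F507133))
theorem Q117825 : ∀ i, i < 117825 → P i := stepQ 117824 Q117824 (allL N117824 (tt N107353 (iv1 F507140)) (tt N92355 (iv0 D221083)) (tt N107350 F507143) (tt N94247 (iv3 F507141)) (tt N95338 F507138) (tt N107360 F507137) (tt N94246 F507139) (tt N107351 F507142))
theorem Q117826 : ∀ i, i < 117826 → P i := stepQ 117825 Q117825 (allL N117825 (tt N92355 (iv1 D221084)) (tt N107353 F507144) (tt N107351 F507150) (tt N113285 (iv3 F507148)) (tt N95339 F507147) (tt N116426 F507146) (tt N108819 (iv6 F507149)) (tt N107350 F507145))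
theorem Q117827 : ∀ i, i < 117827 → P i := stepQ 117826 Q117826 (allL N117826 (tt N121573 (iv1 F527106)) (tt N119369 (iv0 F515260)) (tt N98911 F507151) (tt N92358 F507152) (tt N98776 F507153) (tt N122620 D225879) (tt N92357 (iv6 D221085)) (tt N121572 (iv7 F527100)))
theorem Q117828 : ∀ i, i < 117828 → P i := stepQ 117827 Q117827 (allL N117827 (tt N108242 F507157) (tt N92358 (iv0 D221086)) (tt N97102 (iv2 F507156)) (tt N118286 (iv3 F509522)) (tt N106473 F507154) (tt N122621 D225880) (tt N116198 F507155) (tt N119760 (iv7 F517283)))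
theorem Q117829 : ∀ i, i < 117829 → P i := stepQ 117828 Q117828 (allL N117828 (tt N121146 F524776) (tt N94291 (iv0 F507161)) (tt N113735 F507158) (tt N122620 (iv3 F533214)) (tt N113740 F507160) (tt N92358 (iv5 D221087)) (tt N117809 F507159) (tt N122524 (iv7 F532640)))
theorem Q117830 : ∀ i, i < 117830 → P i := stepQ 117829 Q117829 (allL N117829 (tt N119760 F517285) (tt N97102 F507164) (tt N108242 F507162) (tt N121572 (iv3 F527097)) (tt N121346 (iv4 F525885)) (tt N122524 (iv5 F532638)) (tt N108239 F507163) (tt N92358 (iv7 D221088)))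
theorem Q117831 : ∀ i, i < 117831 → P i := stepQ 117830 Q117830 (allL N117830 (tt N92360 (iv1 D221089)) (tt N92364 F507165) (tt N92362 F507169) (tt N98936 (iv3 F507168)) (tt N111334 F507167) (tt N118544 (iv5 F510877)) (tt N120467 (iv6 F520932)) (tt N92361 F507166))
theorem Q117832 : ∀ i, i < 117832 → P i := stepQ 117831 Q117831 (allL N117831 (tt N92362 (iv1 F507174)) (tt N92361 F507175) (tt N92364 F507170) (tt N108759 F507171) (tt N106640 F507172) (tt N120122 (iv5 F519168)) (tt N108989 F507173) (tt N92360 (iv7 D221090)))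
theorem Q117833 : ∀ i, i < 117833 → P i := stepQ 117832 Q117832 (allL N117832 (tt N109583 F507179) (tt N120732 F522409) (tt N120731 (iv2 F522405)) (tt N116650 F507176) (tt N110128 F507178) (tt N92361 (iv5 D221091)) (tt N116647 F507177) (tt N118544 (iv7 F510876)))
theorem Q117834 : ∀ i, i < 117834 → P i := stepQ 117833 Q117833 (allL N117833 (tt N120732 (iv1 F522410)) (tt N109583 (iv0 F507183)) (tt N118544 (iv2 F510873)) (tt N117470 F507180) (tt N102741 F507181) (tt N92362 (iv5 D221092)) (tt N102740 F507182) (tt N120731 (iv7 F522402)))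
theorem Q117835 : ∀ i, i < 117835 → P i := stepQ 117834 Q117834 (allL N117834 (tt N108767 F507185) (tt N119722 (iv0 F517102)) (tt N118573 (iv2 F510968)) (tt N116632 F507184) (tt N92363 (iv4 D221093)) (tt N106463 (iv5 F507186)) (tt N117837 (iv6 F507197)) (tt N118575 (iv7 F510976)))
theorem Q117836 : ∀ i, i < 117836 → P i := stepQ 117835 Q117835 (allL N117835 (tt N108649 F507189) (tt N109581 F507190) (tt N100092 F507187) (tt N120734 (iv3 F522418)) (tt N118546 (iv4 F510887)) (tt N92367 (iv5 D221094)) (tt N122622 D225881) (tt N109580 F507188))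
theorem Q117837 : ∀ i, i < 117837 → P i := stepQ 117836 Q117836 (allL N117836 (tt N94301 (iv1 F507195)) (tt N119367 F515249) (tt N100093 F507191) (tt N94298 F507192) (tt N96847 F507193) (tt N122623 D225882) (tt N92367 (iv6 D221095)) (tt N94288 F507194))
theorem Q117838 : ∀ i, i < 117838 → P i := stepQ 117837 Q117837 (allL N117837 (tt N98852 F507198) (tt N118436 (iv0 F510346)) (tt N118547 (iv2 F510891)) (tt N118543 F510869) (tt N92373 (iv4 D221096)) (tt N102727 F507196) (tt N117834 F507197) (tt N118545 (iv7 F510881)))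
theorem Q117839 : ∀ i, i < 117839 → P i := stepQ 117838 Q117838 (allL N117838 (tt N100047 (iv1 F507203)) (tt N108763 F507204) (tt N108761 F507199) (tt N116636 F507200) (tt N92375 F507201) (tt N94098 F507202) (tt N120155 (iv6 F519337)) (tt N92374 (iv7 D221097)))
theorem Q117840 : ∀ i, i < 117840 → P i := stepQ 117839 Q117839 (allL N117839 (tt N94350 F507209) (tt N106437 F507210) (tt N99631 F507205) (tt N120146 F519290) (tt N95333 F507206) (tt N102725 F507207) (tt N92377 (iv6 D221098)) (tt N100101 F507208))
theorem Q117841 : ∀ i, i < 117841 → P i := stepQ 117840 Q117840 (allL N117840 (tt N107791 F507215) (tt N107800 F507214) (tt N94803 F507211) (tt N107303 F507212) (tt N92381 (iv4 D221099)) (tt N121032 (iv5 F524122)) (tt N106965 (iv6 F507216)) (tt N94799 F507213))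
theorem Q117842 : ∀ i, i < 117842 → P i := stepQ 117841 Q117841 (allL N117841 (tt N107770 F507222) (tt N99309 (iv0 F507223)) (tt N94805 F507217) (tt N107307 F507218) (tt N106965 F507219) (tt N112862 F507220) (tt N92381 (iv6 D221100)) (tt N107769 F507221))
theorem Q117843 : ∀ i, i < 117843 → P i := stepQ 117842 Q117842 (allL N117842 (tt N120738 F522441) (tt N113285 (iv0 F507228)) (tt N117318 F507224) (tt N95088 F507225) (tt N102756 F507226) (tt N117314 F507227) (tt N92386 (iv6 D221101)) (tt N118809 (iv7 F512183)))
theorem Q117844 : ∀ i, i < 117844 → P i := stepQ 117843 Q117843 (allL N117843 (tt N117810 F507230) (tt N117814 F507231) (tt N117812 F507229) (tt N117922 (iv3 F507610)) (tt N121518 (iv4 F526816)) (tt N121915 (iv5 F529042)) (tt N92388 (iv6 D221102)) (tt N117811 (iv7 F507616)))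
theorem Q117845 : ∀ i, i < 117845 → P i := stepQ 117844 Q117844 (allL N117844 (tt N92389 (iv1 D221103)) (tt N118491 (iv0 F510664)) (tt N97105 (iv2 F507234)) (tt N119760 (iv3 F517281)) (tt N107784 F507233) (tt N116554 F507232) (tt N118489 F510651) (tt N118286 (iv7 F509526)))
theorem Q117846 : ∀ i, i < 117846 → P i := stepQ 117845 Q117845 (allL N117845 (tt N97105 (iv1 F507236)) (tt N118286 (iv0 F509524)) (tt N118491 (iv2 F510660)) (tt N119596 (iv3 F516442)) (tt N119946 (iv4 F518180)) (tt N120322 (iv5 F520189)) (tt N108722 F507235) (tt N92389 (iv7 D221104)))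
theorem Q117847 : ∀ i, i < 117847 → P i := stepQ 117846 Q117846 (allL N117846 (tt N108773 (iv1 F507241)) (tt N94395 (iv0 F507239)) (tt N92396 F507237) (tt N121632 (iv3 F527441)) (tt N110809 F507240) (tt N92390 (iv5 D221105)) (tt N94384 F507238) (tt N119725 (iv7 F517117)))
theorem Q117848 : ∀ i, i < 117848 → P i := stepQ 117847 Q117847 (allL N117847 (tt N92395 (iv1 F507246)) (tt N92394 F507247) (tt N92397 F507242) (tt N108989 F507243) (tt N107873 F507244) (tt N119725 (iv5 F517119)) (tt N108759 F507245) (tt N92390 (iv7 D221106)))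
theorem Q117849 : ∀ i, i < 117849 → P i := stepQ 117848 Q117848 (allL N117848 (tt N108336 (iv1 F507252)) (tt N118034 (iv0 F508208)) (tt N93702 F507248) (tt N92391 (iv3 D221107)) (tt N117910 (iv4 F507549)) (tt N92430 F507249) (tt N108302 F507250) (tt N93704 F507251))
theorem Q117850 : ∀ i, i < 117850 → P i := stepQ 117849 Q117849 (allL N117849 (tt N93392 F507258) (tt N94386 F507257) (tt N94384 F507253) (tt N92400 F507254) (tt N110647 (iv4 F507259)) (tt N92393 (iv5 D221108)) (tt N92396 F507255) (tt N94383 F507256))
theorem Q117851 : ∀ i, i < 117851 → P i := stepQ 117850 Q117850 (allL N117850 (tt N94338 (iv1 F507264)) (tt N99053 (iv0 F507263)) (tt N94403 F507260) (tt N96903 F507261) (tt N99070 F507262) (tt N92394 (iv5 D221109)) (tt N121186 (iv6 F525018)) (tt N117891 (iv7 F507460)))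
theorem Q117852 : ∀ i, i < 117852 → P i := stepQ 117851 Q117851 (allL N117851 (tt N92396 (iv1 D221110)) (tt N119725 (iv0 F517118)) (tt N94395 F507267) (tt N99284 (iv3 F507266)) (tt N99291 F507268) (tt N118604 (iv5 F511117)) (tt N94210 F507269) (tt N108773 F507265))
theorem Q117853 : ∀ i, i < 117853 → P i := stepQ 117852 Q117852 (allL N117852 (tt N99275 (iv1 F507275)) (tt N110828 (iv0 F507274)) (tt N110809 F507270) (tt N120022 F518607) (tt N92396 (iv4 D221111)) (tt N99257 F507272) (tt N110647 F507271) (tt N116673 (iv7 F507273)))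
theorem Q117854 : ∀ i, i < 117854 → P i := stepQ 117853 Q117853 (allL N117853 (tt N94395 (iv1 F507280)) (tt N108773 F507281) (tt N119725 (iv2 F517114)) (tt N92407 F507276) (tt N116673 F507277) (tt N92397 F507278) (tt N108764 F507279) (tt N92396 (iv7 D221112)))
theorem Q117855 : ∀ i, i < 117855 → P i := stepQ 117854 Q117854 (allL N117854 (tt N117908 F507540) (tt N119854 (iv0 F517713)) (tt N108043 F507282) (tt N92398 (iv3 D221113)) (tt N119717 (iv4 F517072)) (tt N108040 (iv5 F507284)) (tt N108041 F507285) (tt N117788 F507283))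
theorem Q117856 : ∀ i, i < 117856 → P i := stepQ 117855 Q117855 (allL N117855 (tt N117612 F507289) (tt N117609 F507290) (tt N106120 F507286) (tt N108040 F507287) (tt N121644 (iv4 F527508)) (tt N92398 (iv5 D221114)) (tt N106119 F507291) (tt N117787 F507288))
theorem Q117857 : ∀ i, i < 117857 → P i := stepQ 117856 Q117856 (allL N117856 (tt N117882 F507414) (tt N121730 F528010) (tt N117793 F507292) (tt N108041 F507293) (tt N117323 F507294) (tt N100702 F507295) (tt N92398 (iv6 D221115)) (tt N111605 (iv7 F507296)))
theorem Q117858 : ∀ i, i < 117858 → P i := stepQ 117857 Q117857 (allL N117857 (tt N117609 F507300) (tt N117612 F507301) (tt N117787 F507297) (tt N106123 F507298) (tt N120000 (iv4 F518482)) (tt N92399 (iv5 D221116)) (tt N117786 F507302) (tt N106120 F507299))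
theorem Q117859 : ∀ i, i < 117859 → P i := stepQ 117858 Q117858 (allL N117858 (tt N108270 F507306) (tt N95318 (iv0 F507308)) (tt N116608 F507303) (tt N94471 F507304) (tt N108248 F507305) (tt N110824 (iv5 F507307)) (tt N92399 (iv6 D221117)) (tt N108054 F507309))
theorem Q117860 : ∀ i, i < 117860 → P i := stepQ 117859 Q117859 (allL N117859 (tt N92400 (iv1 D221118)) (tt N116685 F507310) (tt N118484 (iv2 F510618)) (tt N116540 (iv3 F507313)) (tt N110444 (iv4 F507314)) (tt N117821 F507312) (tt N116539 (iv6 F507315)) (tt N94370 F507311))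
theorem Q117861 : ∀ i, i < 117861 → P i := stepQ 117860 Q117860 (allL N117860 (tt N118484 (iv1 F510623)) (tt N94370 (iv0 F507321)) (tt N116685 F507316) (tt N94383 F507317) (tt N115924 F507318) (tt N92401 F507319) (tt N116683 F507320) (tt N92400 (iv7 D221119)))
theorem Q117862 : ∀ i, i < 117862 → P i := stepQ 117861 Q117861 (allL N117861 (tt N92402 (iv1 D221120)) (tt N92403 F507322) (tt N102271 (iv2 F507328)) (tt N99053 (iv3 F507326)) (tt N94647 F507325) (tt N102254 F507324) (tt N99052 F507327) (tt N102272 F507323))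
theorem Q117863 : ∀ i, i < 117863 → P i := stepQ 117862 Q117862 (allL N117862 (tt N101794 F507331) (tt N118345 (iv0 F509821)) (tt N120002 F518495) (tt N111607 F507329) (tt N92402 (iv4 D221121)) (tt N118458 (iv5 F510480)) (tt N106972 F507330) (tt N118480 (iv7 F510598)))
theorem Q117864 : ∀ i, i < 117864 → P i := stepQ 117863 Q117863 (allL N117863 (tt N121962 (iv1 F529327)) (tt N122116 F530270) (tt N117073 F507332) (tt N120395 (iv3 F520555)) (tt N93953 F507333) (tt N94294 F507334) (tt N92403 (iv6 D221122)) (tt N108948 F507335))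
theorem Q117865 : ∀ i, i < 117865 → P i := stepQ 117864 Q117864 (allL N117864 (tt N109344 F507338) (tt N93587 F507339) (tt N117126 F507336) (tt N118458 (iv3 F510479)) (tt N92404 (iv4 D221123)) (tt N111607 F507337) (tt N120549 (iv6 F521393)) (tt N121729 (iv7 F527999)))
theorem Q117866 : ∀ i, i < 117866 → P i := stepQ 117865 Q117865 (allL N117865 (tt N119179 F514219) (tt N112631 (iv0 F510576)) (tt N120554 (iv2 F521421)) (tt N121552 (iv3 F527001)) (tt N120549 (iv4 F521392)) (tt N118530 (iv5 F510818)) (tt N92404 (iv6 D221124)) (tt N120553 (iv7 F521418)))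
theorem Q117867 : ∀ i, i < 117867 → P i := stepQ 117866 Q117866 (allL N117866 (tt N93587 F507344) (tt N109344 F507345) (tt N121729 (iv2 F528004)) (tt N93662 F507340) (tt N92405 (iv4 D221125)) (tt N108940 F507341) (tt N93661 F507342) (tt N117126 F507343))
theorem Q117868 : ∀ i, i < 117868 → P i := stepQ 117867 Q117867 (allL N117867 (tt N117918 F507594) (tt N107724 (iv0 F507350)) (tt N99734 F507346) (tt N117320 F507347) (tt N111611 F507348) (tt N94338 F507349) (tt N92409 (iv6 D221126)) (tt N117892 (iv7 F507469)))
theorem Q117869 : ∀ i, i < 117869 → P i := stepQ 117868 Q117868 (allL N117868 (tt N95962 F507355) (tt N95955 F507356) (tt N95966 F507351) (tt N95972 F507352) (tt N92410 (iv4 D221127)) (tt N118812 (iv5 F512200)) (tt N108720 F507353) (tt N95963 F507354))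
theorem Q117870 : ∀ i, i < 117870 → P i := stepQ 117869 Q117869 (allL N117869 (tt N118504 (iv1 F510724)) (tt N118503 F510720) (tt N92413 F507357) (tt N118845 (iv3 F512383)) (tt N99367 F507358) (tt N120394 (iv5 F520550)) (tt N92412 (iv6 D221128)) (tt N118502 (iv7 F510714)))
theorem Q117871 : ∀ i, i < 117871 → P i := stepQ 117870 Q117870 (allL N117870 (tt N118502 F510716) (tt N92413 (iv0 D221129)) (tt N118504 (iv2 F510729)) (tt N92486 F507361) (tt N116655 F507360) (tt N92480 F507359) (tt N92483 F507362) (tt N118503 F510722))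
theorem Q117872 : ∀ i, i < 117872 → P i := stepQ 117871 Q117871 (allL N117871 (tt N92413 (iv1 D221130)) (tt N118502 (iv0 F510715)) (tt N118503 (iv2 F510723)) (tt N95082 (iv3 F507363)) (tt N107100 (iv4 F507364)) (tt N120736 (iv5 F522428)) (tt N108711 F507365) (tt N118504 (iv7 F510725)))
theorem Q117873 : ∀ i, i < 117873 → P i := stepQ 117872 Q117872 (allL N117872 (tt N118518 (iv1 F510780)) (tt N118517 F510776) (tt N99069 F507366) (tt N92416 F507367) (tt N98784 F507368) (tt N111806 F507369) (tt N92415 (iv6 D221131)) (tt N94228 F507370))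
theorem Q117874 : ∀ i, i < 117874 → P i := stepQ 117873 Q117873 (allL N117873 (tt N102737 F507374) (tt N102739 F507375) (tt N102736 F507371) (tt N102746 F507372) (tt N100240 F507373) (tt N120123 (iv5 F519175)) (tt N92419 (iv6 D221132)) (tt N102735 F507376))
theorem Q117875 : ∀ i, i < 117875 → P i := stepQ 117874 Q117874 (allL N117874 (tt N92422 (iv1 D221133)) (tt N108580 F507377) (tt N108582 F507380) (tt N122615 (iv3 F533185)) (tt N96810 (iv4 F507379)) (tt N122548 (iv5 F532780)) (tt N118497 (iv6 F510688)) (tt N108575 F507378))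
theorem Q117876 : ∀ i, i < 117876 → P i := stepQ 117875 Q117875 (allL N117875 (tt N118528 F510815) (tt N121570 (iv0 F527088)) (tt N117815 F507381) (tt N121719 (iv3 F527937)) (tt N112939 (iv4 F507383)) (tt N92422 (iv5 D221134)) (tt N95321 F507382) (tt N122624 D225883))
theorem Q117877 : ∀ i, i < 117877 → P i := stepQ 117876 Q117876 (allL N117876 (tt N108582 (iv1 F507387)) (tt N108575 F507388) (tt N108580 F507384) (tt N121573 (iv3 F527102)) (tt N95389 F507385) (tt N122624 (iv5 F533238)) (tt N116597 F507386) (tt N92422 (iv7 D221135)))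
theorem Q117878 : ∀ i, i < 117878 → P i := stepQ 117877 Q117877 (allL N117877 (tt N117893 F507473) (tt N117900 F507501) (tt N108699 F507389) (tt N101189 F507390) (tt N106538 F507391) (tt N121491 (iv5 F526663)) (tt N92428 (iv6 D221136)) (tt N117899 (iv7 F507499)))
theorem Q117879 : ∀ i, i < 117879 → P i := stepQ 117878 Q117878 (allL N117878 (tt N117915 (iv1 F507581)) (tt N117794 F507395) (tt N117913 (iv2 F507562)) (tt N92442 F507392) (tt N97354 F507393) (tt N92435 (iv5 D221137)) (tt N92438 F507394) (tt N117914 (iv7 F507570)))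
theorem Q117880 : ∀ i, i < 117880 → P i := stepQ 117879 Q117879 (allL N117879 (tt N117032 F507398) (tt N102813 F507399) (tt N121650 (iv2 F527538)) (tt N95324 F507396) (tt N118399 (iv4 F510144)) (tt N92436 (iv5 D221138)) (tt N94394 F507397) (tt N122585 (iv7 F532998)))
theorem Q117881 : ∀ i, i < 117881 → P i := stepQ 117880 Q117880 (allL N117880 (tt N96518 F507403) (tt N118461 (iv0 F510501)) (tt N118462 (iv2 F510505)) (tt N109338 F507400) (tt N109339 F507401) (tt N116564 (iv5 F507402)) (tt N92437 (iv6 D221139)) (tt N118463 (iv7 F510506)))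
theorem Q117882 : ∀ i, i < 117882 → P i := stepQ 117881 Q117881 (allL N117881 (tt N100702 (iv1 F507408)) (tt N94209 F507409) (tt N111604 F507404) (tt N117914 F507573) (tt N109911 F507405) (tt N92443 F507406) (tt N109910 F507407) (tt N92442 (iv7 D221140)))
theorem Q117883 : ∀ i, i < 117883 → P i := stepQ 117882 Q117882 (allL N117882 (tt N118476 (iv1 F510582)) (tt N117856 (iv0 F507414)) (tt N108704 F507410) (tt N92446 F507411) (tt N102869 F507412) (tt N108700 F507413) (tt N92444 (iv6 D221141)) (tt N118529 (iv7 F510811)))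
theorem Q117884 : ∀ i, i < 117884 → P i := stepQ 117883 Q117883 (allL N117883 (tt N95089 F507419) (tt N116631 F507420) (tt N92463 F507415) (tt N119303 (iv3 F514932)) (tt N92460 (iv4 D221142)) (tt N93501 F507416) (tt N95730 F507417) (tt N99022 F507418))
theorem Q117885 : ∀ i, i < 117885 → P i := stepQ 117884 Q117884 (allL N117884 (tt N93575 F507424) (tt N118849 F512405) (tt N117804 F507421) (tt N118477 (iv3 F510584)) (tt N93597 F507422) (tt N122625 D225884) (tt N92462 (iv6 D221143)) (tt N107893 F507423))
theorem Q117886 : ∀ i, i < 117886 → P i := stepQ 117885 Q117885 (allL N117885 (tt N99022 (iv1 F507428)) (tt N92463 (iv0 D221144)) (tt N95089 F507430) (tt N97406 F507427) (tt N93591 F507425) (tt N107759 F507426) (tt N94710 (iv6 F507429)) (tt N116631 (iv7 F507431)))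
theorem Q117887 : ∀ i, i < 117887 → P i := stepQ 117886 Q117886 (allL N117886 (tt N92463 (iv1 D221145)) (tt N99022 F507432) (tt N116631 F507437) (tt N107076 (iv3 F507435)) (tt N93595 (iv4 F507436)) (tt N110038 F507434) (tt N119046 F513475) (tt N95089 F507433))
theorem Q117888 : ∀ i, i < 117888 → P i := stepQ 117887 Q117887 (allL N117887 (tt N118280 (iv1 F509488)) (tt N93805 F507442) (tt N92499 F507438) (tt N105365 F507439) (tt N92465 (iv4 D221146)) (tt N93633 F507440) (tt N117548 F507443) (tt N99118 F507441))
theorem Q117889 : ∀ i, i < 117889 → P i := stepQ 117888 Q117888 (allL N117888 (tt N106452 F507447) (tt N106454 F507448) (tt N92500 F507444) (tt N106336 F507445) (tt N117548 F507446) (tt N121904 (iv5 F528981)) (tt N92465 (iv6 D221147)) (tt N106451 F507449))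
theorem Q117890 : ∀ i, i < 117890 → P i := stepQ 117889 Q117889 (allL N117889 (tt N112799 F507455) (tt N96924 F507456) (tt N101853 F507450) (tt N94206 F507451) (tt N106180 F507452) (tt N92467 (iv5 D221148)) (tt N100079 F507453) (tt N110822 F507454))
theorem Q117891 : ∀ i, i < 117891 → P i := stepQ 117890 Q117890 (allL N117890 (tt N119952 (iv1 F518220)) (tt N118593 (iv0 F511062)) (tt N120607 (iv2 F521724)) (tt N92474 F507457) (tt N119896 (iv4 F517910)) (tt N117074 F507458) (tt N92472 (iv6 D221149)) (tt N118561 (iv7 F510937)))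
theorem Q117892 : ∀ i, i < 117892 → P i := stepQ 117891 Q117891 (allL N117891 (tt N92474 (iv1 D221150)) (tt N94220 F507459) (tt N92518 (iv2 F507465)) (tt N95095 (iv3 F507462)) (tt N106679 (iv4 F507461)) (tt N94259 F507464) (tt N107862 (iv6 F507463)) (tt N117850 F507460))
theorem Q117893 : ∀ i, i < 117893 → P i := stepQ 117892 Q117892 (allL N117892 (tt N118604 F511121) (tt N120055 F518803) (tt N119841 (iv2 F517642)) (tt N117074 F507466) (tt N116603 F507467) (tt N92474 (iv5 D221151)) (tt N116448 F507468) (tt N117867 F507469))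
theorem Q117894 : ∀ i, i < 117894 → P i := stepQ 117893 Q117893 (allL N117893 (tt N107936 F507472) (tt N117877 (iv0 F507473)) (tt N92480 F507470) (tt N93580 F507471) (tt N118945 (iv4 F512896)) (tt N118504 (iv5 F510726)) (tt N92475 (iv6 D221152)) (tt N120736 (iv7 F522430)))
theorem Q117895 : ∀ i, i < 117895 → P i := stepQ 117894 Q117894 (allL N117894 (tt N92476 (iv1 D221153)) (tt N92484 F507474) (tt N92482 (iv2 F507476)) (tt N120496 (iv3 F521084)) (tt N119907 (iv4 F517972)) (tt N121490 (iv5 F526658)) (tt N106680 F507477) (tt N92481 F507475))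
theorem Q117896 : ∀ i, i < 117896 → P i := stepQ 117895 Q117895 (allL N117895 (tt N108023 (iv1 F507481)) (tt N116808 F507480) (tt N92483 F507478) (tt N118317 (iv3 F509672)) (tt N116634 F507479) (tt N92476 (iv5 D221154)) (tt N118504 (iv6 F510730)) (tt N116656 (iv7 F507482)))
theorem Q117897 : ∀ i, i < 117897 → P i := stepQ 117896 Q117896 (allL N117896 (tt N92482 (iv1 F507488)) (tt N92481 F507489) (tt N92484 F507483) (tt N107847 F507484) (tt N117289 F507485) (tt N116656 F507486) (tt N92510 F507487) (tt N92476 (iv7 D221155)))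
theorem Q117898 : ∀ i, i < 117898 → P i := stepQ 117897 Q117897 (allL N117897 (tt N118472 F510558) (tt N118475 F510575) (tt N118474 (iv2 F510568)) (tt N92477 (iv3 D221156)) (tt N107022 F507490) (tt N98843 F507491) (tt N122626 D225885) (tt N118473 (iv7 F510564)))
theorem Q117899 : ∀ i, i < 117899 → P i := stepQ 117898 Q117898 (allL N117898 (tt N118848 F512401) (tt N119316 F514981) (tt N107591 F507492) (tt N122626 (iv3 F533249)) (tt N99985 F507493) (tt N122526 (iv5 F532651)) (tt N92477 (iv6 D221157)) (tt N121347 (iv7 F525892)))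
theorem Q117900 : ∀ i, i < 117900 → P i := stepQ 117899 Q117899 (allL N117899 (tt N120736 (iv1 F522432)) (tt N92480 (iv0 D221158)) (tt N107936 (iv2 F507497)) (tt N116426 F507496) (tt N116429 F507495) (tt N113285 F507494) (tt N116427 F507498) (tt N117877 F507499))
theorem Q117901 : ∀ i, i < 117901 → P i := stepQ 117900 Q117900 (allL N117900 (tt N117877 (iv1 F507501)) (tt N107936 F507502) (tt N120736 (iv2 F522426)) (tt N92487 F507500) (tt N118944 (iv4 F512889)) (tt N118503 (iv5 F510721)) (tt N119265 (iv6 F514709)) (tt N92480 (iv7 D221159)))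
theorem Q117902 : ∀ i, i < 117902 → P i := stepQ 117901 Q117901 (allL N117901 (tt N107862 F507507) (tt N119259 (iv0 F514678)) (tt N110585 F507503) (tt N121761 (iv3 F528156)) (tt N99266 F507504) (tt N100117 F507505) (tt N92481 (iv6 D221160)) (tt N110587 F507506))
theorem Q117903 : ∀ i, i < 117903 → P i := stepQ 117902 Q117902 (allL N117902 (tt N92483 (iv1 D221161)) (tt N116656 F507508) (tt N116808 F507513) (tt N102734 (iv3 F507510)) (tt N108032 (iv4 F507511)) (tt N118171 (iv5 F508990)) (tt N102733 (iv6 F507512)) (tt N108023 F507509))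
theorem Q117904 : ∀ i, i < 117904 → P i := stepQ 117903 Q117903 (allL N117903 (tt N116808 (iv1 F507518)) (tt N108023 F507519) (tt N116656 F507514) (tt N92490 F507515) (tt N112161 F507516) (tt N92484 F507517) (tt N108712 (iv6 F507520)) (tt N92483 (iv7 D221162)))
theorem Q117905 : ∀ i, i < 117905 → P i := stepQ 117904 Q117904 (allL N117904 (tt N118592 F511055) (tt N116829 (iv0 F507524)) (tt N117071 F507521) (tt N92485 (iv3 D221163)) (tt N93605 F507522) (tt N118494 F510678) (tt N108573 F507523) (tt N118321 (iv7 F509692)))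
theorem Q117906 : ∀ i, i < 117906 → P i := stepQ 117905 Q117905 (allL N117905 (tt N111601 F507526) (tt N111438 F507525) (tt N118323 (iv2 F509701)) (tt N118494 (iv3 F510677)) (tt N119376 (iv4 F515294)) (tt N92485 (iv5 D221164)) (tt N118492 F510670) (tt N118322 (iv7 F509696)))
theorem Q117907 : ∀ i, i < 117907 → P i := stepQ 117906 Q117906 (allL N117906 (tt N112496 (iv1 F507529)) (tt N92486 (iv0 D221165)) (tt N118324 F509710) (tt N102744 (iv3 F507530)) (tt N112503 F507527) (tt N121850 (iv5 F528693)) (tt N102743 F507528) (tt N106962 F507531))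
theorem Q117908 : ∀ i, i < 117908 → P i := stepQ 117907 Q117907 (allL N117907 (tt N92486 (iv1 D221166)) (tt N112496 F507532) (tt N106962 F507535) (tt N99069 (iv3 F507534)) (tt N112506 F507533) (tt N118284 (iv5 F509514)) (tt N99067 F507536) (tt N118324 (iv7 F509712)))
theorem Q117909 : ∀ i, i < 117909 → P i := stepQ 117908 Q117908 (allL N117908 (tt N121634 (iv1 F527458)) (tt N117854 (iv0 F507540)) (tt N118541 (iv2 F510860)) (tt N92489 (iv3 D221167)) (tt N106663 F507537) (tt N94251 F507538) (tt N102745 F507539) (tt N118325 (iv7 F509716)))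
theorem Q117910 : ∀ i, i < 117910 → P i := stepQ 117909 Q117909 (allL N117909 (tt N99118 (iv1 F507545)) (tt N92499 (iv0 D221168)) (tt N118280 (iv2 F509493)) (tt N93808 F507543) (tt N108303 F507542) (tt N99021 F507541) (tt N95067 F507544) (tt N93805 (iv7 F507546)))
theorem Q117911 : ∀ i, i < 117911 → P i := stepQ 117910 Q117910 (allL N117910 (tt N92499 (iv1 D221169)) (tt N99118 F507547) (tt N93805 F507552) (tt N95967 (iv3 F507550)) (tt N117848 F507549) (tt N99020 F507548) (tt N93804 (iv6 F507551)) (tt N118280 (iv7 F509489)))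
theorem Q117912 : ∀ i, i < 117912 → P i := stepQ 117911 Q117911 (allL N117911 (tt N95328 F507555) (tt N110207 F507556) (tt N121904 (iv2 F528979)) (tt N92501 F507553) (tt N122225 (iv4 F530878)) (tt N92500 (iv5 D221170)) (tt N95328 F507554) (tt N121896 (iv7 F528957)))
theorem Q117913 : ∀ i, i < 117913 → P i := stepQ 117912 Q117912 (allL N117912 (tt N117469 (iv1 F507560)) (tt N92501 (iv0 D221171)) (tt N116061 (iv2 F507559)) (tt N121750 (iv3 F528096)) (tt N116387 F507558) (tt N116054 F507557) (tt N118575 F510980) (tt N116687 F507561))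
theorem Q117914 : ∀ i, i < 117914 → P i := stepQ 117913 Q117913 (allL N117913 (tt N108251 (iv1 F507568)) (tt N92511 (iv0 F507567)) (tt N117878 F507562) (tt N117608 F507563) (tt N108269 F507564) (tt N101193 F507565) (tt N92505 (iv6 D221172)) (tt N101192 (iv7 F507566)))
theorem Q117915 : ∀ i, i < 117915 → P i := stepQ 117914 Q117914 (allL N117914 (tt N92511 (iv1 D221173)) (tt N108251 F507569) (tt N101192 F507574) (tt N117881 (iv3 F507573)) (tt N108268 F507572) (tt N101172 F507571) (tt N121850 (iv6 F528694)) (tt N117878 F507570))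
theorem Q117916 : ∀ i, i < 117916 → P i := stepQ 117915 Q117915 (allL N117915 (tt N101192 (iv1 F507580)) (tt N117878 F507581) (tt N108251 F507575) (tt N106462 F507576) (tt N99571 F507577) (tt N108711 F507578) (tt N106461 F507579) (tt N92511 (iv7 D221174)))
theorem Q117917 : ∀ i, i < 117917 → P i := stepQ 117916 Q117916 (allL N117916 (tt N118279 F509487) (tt N118282 F509504) (tt N118281 (iv2 F509498)) (tt N92517 F507582) (tt N95094 F507583) (tt N107849 F507585) (tt N92515 (iv6 D221175)) (tt N107865 F507584))
theorem Q117918 : ∀ i, i < 117918 → P i := stepQ 117917 Q117917 (allL N117917 (tt N110587 (iv1 F507591)) (tt N110585 (iv0 F507590)) (tt N107862 F507586) (tt N92520 F507587) (tt N110833 F507588) (tt N101791 F507589) (tt N92518 (iv6 D221176)) (tt N119259 (iv7 F514677)))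
theorem Q117919 : ∀ i, i < 117919 → P i := stepQ 117918 Q117918 (allL N117918 (tt N119841 (iv1 F517647)) (tt N117867 (iv0 F507594)) (tt N120055 F518802) (tt N92521 (iv3 D221177)) (tt N108947 F507592) (tt N108773 F507593) (tt N118463 F510509) (tt N118604 (iv7 F511119)))
theorem Q117920 : ∀ i, i < 117920 → P i := stepQ 117919 Q117919 (allL N117919 (tt N116811 F507599) (tt N116461 (iv0 F507600)) (tt N106112 F507595) (tt N92531 F507596) (tt N107950 F507597) (tt N119336 (iv5 F515090)) (tt N92529 (iv6 D221178)) (tt N116805 F507598))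
theorem Q117921 : ∀ i, i < 117921 → P i := stepQ 117920 Q117920 (allL N117920 (tt N92532 (iv1 D221179)) (tt N102002 F507601) (tt N101993 F507607) (tt N97368 (iv3 F507605)) (tt N96914 F507604) (tt N93028 F507603) (tt N112504 (iv6 F507606)) (tt N102003 F507602))
theorem Q117922 : ∀ i, i < 117922 → P i := stepQ 117921 Q117921 (allL N117921 (tt N118834 F512323) (tt N118878 (iv0 F512542)) (tt N118868 (iv2 F512492)) (tt N92537 F507608) (tt N118302 (iv4 F509596)) (tt N119348 (iv5 F515147)) (tt N92535 (iv6 D221180)) (tt N118274 (iv7 F509466)))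
theorem Q117923 : ∀ i, i < 117923 → P i := stepQ 117922 Q117922 (allL N117922 (tt N113736 F507613) (tt N114877 (iv0 F507615)) (tt N108969 F507609) (tt N117843 F507610) (tt N102683 F507611) (tt N112893 F507614) (tt N92546 (iv6 D221181)) (tt N112937 F507612))
theorem Q117924 : ∀ i, i < 117924 → P i := stepQ 117923 Q117923 (allL N117923 (tt N119004 (iv1 F513231)) (tt N106879 F507621) (tt N119000 (iv2 F513204)) (tt N95472 F507617) (tt N107232 F507618) (tt N92549 (iv5 D221182)) (tt N95632 F507619) (tt N108547 F507620))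
theorem Q117925 : ∀ i, i < 117925 → P i := stepQ 117924 Q117924 (allL N117924 (tt N98111 F507627) (tt N98098 (iv0 F507628)) (tt N98113 F507622) (tt N92550 (iv3 D221183)) (tt N106837 F507623) (tt N98169 F507624) (tt N92841 F507625) (tt N98093 F507626))
theorem Q117926 : ∀ i, i < 117926 → P i := stepQ 117925 Q117925 (allL N117925 (tt N100079 F507630) (tt N100082 F507631) (tt N118275 (iv2 F509468)) (tt N121650 (iv3 F527539)) (tt N102751 F507632) (tt N92554 (iv5 D221184)) (tt N102750 F507629) (tt N120136 (iv7 F519255)))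
theorem Q117927 : ∀ i, i < 117927 → P i := stepQ 117926 Q117926 (allL N117926 (tt N100202 F507637) (tt N109566 F507638) (tt N114990 F507633) (tt N92570 F507634) (tt N119439 (iv4 F515634)) (tt N92569 (iv5 D221185)) (tt N98336 F507635) (tt N102956 F507636))
theorem Q117928 : ∀ i, i < 117928 → P i := stepQ 117927 Q117927 (allL N117927 (tt N114765 F507642) (tt N114764 (iv0 F507643)) (tt N109036 F507639) (tt N98336 F507640) (tt N119531 (iv4 F516094)) (tt N98335 F507641) (tt N92570 (iv6 D221186)) (tt N119531 (iv7 F516096)))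
theorem Q117929 : ∀ i, i < 117929 → P i := stepQ 117928 Q117928 (allL N117928 (tt N100188 F507648) (tt N100174 F507649) (tt N100225 F507644) (tt N121956 (iv3 F529283)) (tt N100181 F507645) (tt N92587 (iv5 D221187)) (tt N100187 F507646) (tt N100226 F507647))
theorem Q117930 : ∀ i, i < 117930 → P i := stepQ 117929 Q117929 (allL N117929 (tt N121236 (iv1 F525301)) (tt N117164 (iv0 F507652)) (tt N100479 F507650) (tt N122007 (iv3 F529601)) (tt N100271 F507651) (tt N120020 (iv5 F518595)) (tt N92591 (iv6 D221188)) (tt N121355 (iv7 F525938)))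
theorem Q117931 : ∀ i, i < 117931 → P i := stepQ 117930 Q117930 (allL N117930 (tt N117970 (iv1 F507850)) (tt N92611 (iv0 D221189)) (tt N103697 (iv2 F507655)) (tt N120688 (iv3 F522155)) (tt N97578 F507654) (tt N103692 F507653) (tt N97577 F507656) (tt N111238 F507657))
theorem Q117932 : ∀ i, i < 117932 → P i := stepQ 117931 Q117931 (allL N117931 (tt N103697 (iv1 F507662)) (tt N111238 F507661) (tt N92611 (iv2 D221190)) (tt N92614 F507658) (tt N97743 F507659) (tt N92614 F507660) (tt N120800 (iv6 F522786)) (tt N117970 (iv7 F507847)))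
theorem Q117933 : ∀ i, i < 117933 → P i := stepQ 117932 Q117932 (allL N117932 (tt N98020 F507667) (tt N98017 F507669) (tt N104362 F507663) (tt N104707 F507664) (tt N98569 F507665) (tt N98161 (iv5 F507668)) (tt N92612 (iv6 D221191)) (tt N104705 F507666))
theorem Q117934 : ∀ i, i < 117934 → P i := stepQ 117933 Q117933 (allL N117933 (tt N118185 (iv1 F509042)) (tt N118184 F509040) (tt N108854 F507670) (tt N92618 F507671) (tt N93879 F507672) (tt N92615 (iv5 D221192)) (tt N122115 (iv6 F530262)) (tt N108853 F507673))
theorem Q117935 : ∀ i, i < 117935 → P i := stepQ 117934 Q117934 (allL N117934 (tt N121640 (iv1 F527489)) (tt N121665 (iv0 F527625)) (tt N117037 F507674) (tt N104742 F507675) (tt N115620 F507677) (tt N92616 (iv5 D221193)) (tt N120983 (iv6 F523853)) (tt N117040 F507676))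
theorem Q117936 : ∀ i, i < 117936 → P i := stepQ 117935 Q117935 (allL N117935 (tt N120905 (iv1 F523387)) (tt N105935 (iv0 F507681)) (tt N104680 F507678) (tt N92617 (iv3 D221194)) (tt N105068 F507679) (tt N122627 D225886) (tt N104679 F507680) (tt N120627 (iv7 F521833)))
theorem Q117937 : ∀ i, i < 117937 → P i := stepQ 117936 Q117936 (allL N117936 (tt N121665 (iv1 F527626)) (tt N121640 (iv0 F527488)) (tt N117040 F507682) (tt N122627 (iv3 F533255)) (tt N115619 F507684) (tt N92617 (iv5 D221195)) (tt N122628 D225887) (tt N117037 F507683))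
theorem Q117938 : ∀ i, i < 117938 → P i := stepQ 117937 Q117937 (allL N117937 (tt N108198 (iv1 F507688)) (tt N92618 (iv0 D221196)) (tt N117043 (iv2 F507686)) (tt N120924 (iv3 F523504)) (tt N115915 F507685) (tt N120275 (iv5 F519967)) (tt N118184 F509041) (tt N117045 (iv7 F507687)))
theorem Q117939 : ∀ i, i < 117939 → P i := stepQ 117938 Q117938 (allL N117938 (tt N92618 (iv1 D221197)) (tt N108198 F507689) (tt N117045 (iv2 F507692)) (tt N122583 (iv3 F532983)) (tt N115914 F507691) (tt N120276 (iv5 F519970)) (tt N122471 (iv6 F532317)) (tt N117043 F507690))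
theorem Q117940 : ∀ i, i < 117940 → P i := stepQ 117939 Q117939 (allL N117939 (tt N117045 (iv1 F507697)) (tt N117043 F507698) (tt N108198 F507693) (tt N108853 F507694) (tt N108197 F507695) (tt N92619 F507696) (tt N122629 D225888) (tt N92618 (iv7 D221198)))
theorem Q117941 : ∀ i, i < 117941 → P i := stepQ 117940 Q117940 (allL N117940 (tt N109032 F507701) (tt N109031 F507702) (tt N119148 F514044) (tt N117978 (iv3 F507888)) (tt N92623 F507699) (tt N119211 (iv5 F514382)) (tt N92619 (iv6 D221199)) (tt N92620 F507700))
theorem Q117942 : ∀ i, i < 117942 → P i := stepQ 117941 Q117941 (allL N117941 (tt N119148 (iv1 F514039)) (tt N92620 (iv0 D221200)) (tt N109031 (iv2 F507705)) (tt N103862 F507706) (tt N94773 F507703) (tt N103861 F507704) (tt N119010 (iv6 F513267)) (tt N109032 F507707))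
theorem Q117943 : ∀ i, i < 117943 → P i := stepQ 117942 Q117942 (allL N117942 (tt N119134 (iv1 F513973)) (tt N96406 F507710) (tt N119212 F514393) (tt N98049 F507708) (tt N94755 F507709) (tt N92620 (iv5 D221201)) (tt N119212 F514392) (tt N119211 F514386))
theorem Q117944 : ∀ i, i < 117944 → P i := stepQ 117943 Q117943 (allL N117943 (tt N92630 (iv1 F507713)) (tt N92627 (iv0 D221202)) (tt N107063 (iv2 F507714)) (tt N102711 F507712) (tt N97652 F507711) (tt N120750 (iv5 F522510)) (tt N119682 (iv6 F516893)) (tt N117973 (iv7 F507865)))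
theorem Q117945 : ∀ i, i < 117945 → P i := stepQ 117944 Q117944 (allL N117944 (tt N92627 (iv1 D221203)) (tt N92630 F507715) (tt N117973 F507863) (tt N103669 (iv3 F507718)) (tt N98005 F507717) (tt N119845 (iv5 F517665)) (tt N104561 F507719) (tt N107063 F507716))
theorem Q117946 : ∀ i, i < 117946 → P i := stepQ 117945 Q117945 (allL N117945 (tt N93239 (iv1 F507725)) (tt N98032 (iv0 F507724)) (tt N117976 (iv2 F507877)) (tt N116259 F507720) (tt N92628 F507721) (tt N98599 F507722) (tt N92627 (iv6 D221204)) (tt N116257 F507723))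
theorem Q117947 : ∀ i, i < 117947 → P i := stepQ 117946 Q117946 (allL N117946 (tt N97672 F507729) (tt N97669 F507730) (tt N116275 F507726) (tt N120689 (iv3 F522161)) (tt N92629 (iv4 D221205)) (tt N98708 F507728) (tt N116274 F507727) (tt N117974 (iv7 F507869)))
theorem Q117948 : ∀ i, i < 117948 → P i := stepQ 117947 Q117947 (allL N117947 (tt N116255 (iv1 F507737)) (tt N103920 (iv0 F507736)) (tt N113819 F507731) (tt N103886 F507732) (tt N92631 F507733) (tt N103885 F507734) (tt N92630 (iv6 D221206)) (tt N116256 (iv7 F507735)))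
theorem Q117949 : ∀ i, i < 117949 → P i := stepQ 117948 Q117948 (allL N117948 (tt N114099 F507743) (tt N120701 F522234) (tt N120700 (iv2 F522223)) (tt N119522 (iv3 F516044)) (tt N112260 F507742) (tt N92633 (iv5 D221207)) (tt N120997 (iv6 F523932)) (tt N102514 F507741))
theorem Q117950 : ∀ i, i < 117950 → P i := stepQ 117949 Q117949 (allL N117949 (tt N104467 F507746) (tt N119528 (iv0 F516076)) (tt N118002 (iv2 F508022)) (tt N114553 F507744) (tt N92638 (iv4 D221208)) (tt N119537 (iv5 F516124)) (tt N111322 F507745) (tt N118000 (iv7 F508012)))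
theorem Q117951 : ∀ i, i < 117951 → P i := stepQ 117950 Q117950 (allL N117950 (tt N103465 F507752) (tt N114246 F507753) (tt N111778 F507747) (tt N111657 F507748) (tt N92639 (iv4 D221209)) (tt N104421 F507749) (tt N98126 F507750) (tt N93247 F507751))
theorem Q117952 : ∀ i, i < 117952 → P i := stepQ 117951 Q117951 (allL N117951 (tt N119561 (iv1 F516257)) (tt N119560 F516253) (tt N103025 F507754) (tt N120682 (iv3 F522118)) (tt N92641 (iv4 D221210)) (tt N117967 (iv5 F507832)) (tt N98668 F507755) (tt N119559 (iv7 F516248)))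
theorem Q117953 : ∀ i, i < 117953 → P i := stepQ 117952 Q117952 (allL N117952 (tt N109528 F507761) (tt N102872 F507762) (tt N111767 F507756) (tt N96869 F507757) (tt N100769 F507758) (tt N92646 (iv5 D221211)) (tt N98122 F507759) (tt N111231 F507760))
theorem Q117954 : ∀ i, i < 117954 → P i := stepQ 117953 Q117953 (allL N117953 (tt N120276 (iv1 F519974)) (tt N120275 (iv0 F519968)) (tt N118017 (iv2 F508108)) (tt N102383 F507763) (tt N92650 (iv4 D221212)) (tt N108193 F507766) (tt N117692 F507764) (tt N114356 F507765))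
theorem Q117955 : ∀ i, i < 117955 → P i := stepQ 117954 Q117954 (allL N117954 (tt N92654 (iv1 F507769)) (tt N92652 (iv0 D221213)) (tt N122112 F530242) (tt N109180 F507768) (tt N114445 F507767) (tt N120995 (iv5 F523916)) (tt N103491 (iv6 F507770)) (tt N114361 F507771))
theorem Q117956 : ∀ i, i < 117956 → P i := stepQ 117955 Q117955 (allL N117955 (tt N92652 (iv1 D221214)) (tt N92654 F507772) (tt N114361 F507777) (tt N115614 (iv3 F507775)) (tt N109438 F507773) (tt N115613 F507774) (tt N109437 (iv6 F507776)) (tt N122112 (iv7 F530244)))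
theorem Q117957 : ∀ i, i < 117957 → P i := stepQ 117956 Q117956 (allL N117956 (tt N121026 (iv1 F524084)) (tt N120911 (iv0 F523423)) (tt N103564 F507778) (tt N92654 (iv3 D221215)) (tt N122162 (iv4 F530513)) (tt N122580 (iv5 F532965)) (tt N103562 F507779) (tt N121024 (iv7 F524078)))
theorem Q117958 : ∀ i, i < 117958 → P i := stepQ 117957 Q117957 (allL N117957 (tt N118057 (iv1 F508340)) (tt N93127 F507785) (tt N104084 F507780) (tt N115223 F507781) (tt N115826 F507782) (tt N92655 (iv5 D221216)) (tt N92657 F507783) (tt N111247 F507784))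
theorem Q117959 : ∀ i, i < 117959 → P i := stepQ 117958 Q117958 (allL N117958 (tt N98416 F507789) (tt N109798 F507790) (tt N109862 F507786) (tt N120848 (iv3 F523064)) (tt N92659 (iv4 D221217)) (tt N105940 F507787) (tt N120847 (iv6 F523063)) (tt N114376 F507788))
theorem Q117960 : ∀ i, i < 117960 → P i := stepQ 117959 Q117959 (allL N117959 (tt N118019 (iv1 F508123)) (tt N92660 (iv0 D221218)) (tt N118020 (iv2 F508129)) (tt N114173 F507794) (tt N98750 F507792) (tt N114172 F507791) (tt N120901 (iv6 F523373)) (tt N114418 (iv7 F507793)))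
theorem Q117961 : ∀ i, i < 117961 → P i := stepQ 117960 Q117960 (allL N117960 (tt N119460 (iv1 F515737)) (tt N102899 (iv0 F507797)) (tt N119458 F515729) (tt N92660 (iv3 D221219)) (tt N92663 F507795) (tt N122608 (iv5 F533146)) (tt N105755 F507796) (tt N118021 (iv7 F508131)))
theorem Q117962 : ∀ i, i < 117962 → P i := stepQ 117961 Q117961 (allL N117961 (tt N115337 F507803) (tt N115344 (iv0 F507804)) (tt N115343 F507798) (tt N92662 F507799) (tt N104276 F507800) (tt N97826 F507801) (tt N92661 (iv6 D221220)) (tt N102943 F507802))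
theorem Q117963 : ∀ i, i < 117963 → P i := stepQ 117962 Q117962 (allL N117962 (tt N92692 F507810) (tt N92683 (iv0 D221221)) (tt N105752 (iv2 F507809)) (tt N102777 F507807) (tt N97775 F507806) (tt N102501 F507805) (tt N102503 F507808) (tt N119435 (iv7 F515612)))
theorem Q117964 : ∀ i, i < 117964 → P i := stepQ 117963 Q117963 (allL N117963 (tt N92683 (iv1 D221222)) (tt N92692 F507811) (tt N119435 (iv2 F515609)) (tt N103668 (iv3 F507814)) (tt N102393 F507813) (tt N103667 F507815) (tt N102392 F507816) (tt N105752 F507812))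
theorem Q117965 : ∀ i, i < 117965 → P i := stepQ 117964 Q117964 (allL N117964 (tt N119463 (iv1 F515748)) (tt N119455 (iv0 F515716)) (tt N117706 F507817) (tt N119900 (iv3 F517935)) (tt N117705 F507818) (tt N92683 (iv5 D221223)) (tt N102489 F507819) (tt N119281 (iv7 F514804)))
theorem Q117966 : ∀ i, i < 117966 → P i := stepQ 117965 Q117965 (allL N117965 (tt N119435 (iv1 F515614)) (tt N105752 (iv0 F507823)) (tt N92692 F507820) (tt N105496 F507821) (tt N92684 F507822) (tt N119281 (iv5 F514802)) (tt N119683 (iv6 F516896)) (tt N92683 (iv7 D221224)))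
theorem Q117967 : ∀ i, i < 117967 → P i := stepQ 117966 Q117966 (allL N117966 (tt N104493 F507828) (tt N97887 F507829) (tt N92693 F507824) (tt N110857 F507825) (tt N119683 (iv4 F516895)) (tt N93217 F507826) (tt N92684 (iv6 D221225)) (tt N115312 F507827))
theorem Q117968 : ∀ i, i < 117968 → P i := stepQ 117967 Q117967 (allL N117967 (tt N97840 F507833) (tt N97838 F507834) (tt N118091 (iv2 F508531)) (tt N102533 F507830) (tt N92688 (iv4 D221226)) (tt N117951 F507832) (tt N92925 F507831) (tt N119445 (iv7 F515662)))
theorem Q117969 : ∀ i, i < 117969 → P i := stepQ 117968 Q117968 (allL N117968 (tt N92689 (iv1 D221227)) (tt N111873 F507835) (tt N111863 F507840) (tt N100541 (iv3 F507838)) (tt N97678 (iv4 F507839)) (tt N104281 F507837) (tt N118780 (iv6 F512025)) (tt N102351 F507836))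
theorem Q117970 : ∀ i, i < 117970 → P i := stepQ 117969 Q117969 (allL N117969 (tt N104481 (iv1 F507844)) (tt N104579 (iv0 F507843)) (tt N119683 (iv2 F516894)) (tt N102532 F507841) (tt N92693 F507842) (tt N118126 (iv5 F508739)) (tt N92692 (iv6 D221228)) (tt N118092 (iv7 F508539)))
theorem Q117971 : ∀ i, i < 117971 → P i := stepQ 117970 Q117970 (allL N117970 (tt N104637 F507848) (tt N117930 F507850) (tt N92702 F507845) (tt N92694 (iv3 D221229)) (tt N102208 F507846) (tt N92694 (iv5 F507849)) (tt N102927 F507851) (tt N117931 F507847))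
theorem Q117972 : ∀ i, i < 117972 → P i := stepQ 117971 Q117971 (allL N117971 (tt N103867 F507855) (tt N109103 (iv0 F507857)) (tt N92703 F507852) (tt N102927 F507853) (tt N92695 F507854) (tt N111181 F507856) (tt N92694 (iv6 D221230)) (tt N119438 (iv7 F515628)))
theorem Q117973 : ∀ i, i < 117973 → P i := stepQ 117972 Q117972 (allL N117972 (tt N92706 (iv1 F507860)) (tt N92695 (iv0 D221231)) (tt N92704 (iv2 F507859)) (tt N119425 (iv3 F515543)) (tt N121771 (iv4 F528220)) (tt N120581 (iv5 F521575)) (tt N116131 F507858) (tt N92705 F507861))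
theorem Q117974 : ∀ i, i < 117974 → P i := stepQ 117973 Q117973 (allL N117973 (tt N92698 (iv1 F507864)) (tt N92696 (iv0 D221232)) (tt N117944 (iv2 F507863)) (tt N120716 (iv3 F522311)) (tt N102890 F507862) (tt N119463 (iv5 F515749)) (tt N103299 F507866) (tt N117943 F507865))
theorem Q117975 : ∀ i, i < 117975 → P i := stepQ 117974 Q117974 (allL N117974 (tt N102927 F507870) (tt N102925 F507871) (tt N119436 (iv2 F515620)) (tt N120919 (iv3 F523473)) (tt N92697 (iv4 D221233)) (tt N98645 F507867) (tt N104382 F507868) (tt N117946 F507869))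
theorem Q117976 : ∀ i, i < 117976 → P i := stepQ 117975 Q117975 (allL N117975 (tt N109026 F507875) (tt N97900 (iv0 F507876)) (tt N109025 F507872) (tt N92698 (iv3 D221234)) (tt N120919 (iv4 F523474)) (tt N102589 F507873) (tt N121255 (iv6 F525402)) (tt N109024 F507874))
theorem Q117977 : ∀ i, i < 117977 → P i := stepQ 117976 Q117976 (allL N117976 (tt N98616 (iv1 F507881)) (tt N98619 (iv0 F507880)) (tt N117945 F507877) (tt N121255 (iv3 F525401)) (tt N92699 F507878) (tt N98279 F507879) (tt N92698 (iv6 D221235)) (tt N118128 (iv7 F508752)))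
theorem Q117978 : ∀ i, i < 117978 → P i := stepQ 117977 Q117977 (allL N117977 (tt N92703 (iv1 D221236)) (tt N119438 (iv0 F515629)) (tt N109103 F507887) (tt N102461 (iv3 F507885)) (tt N103374 F507884) (tt N103737 F507883) (tt N102459 (iv6 F507886)) (tt N103867 F507882))
theorem Q117979 : ∀ i, i < 117979 → P i := stepQ 117978 Q117978 (allL N117978 (tt N109103 (iv1 F507892)) (tt N103867 F507893) (tt N119438 (iv2 F515626)) (tt N117940 F507888) (tt N92706 F507889) (tt N111179 F507890) (tt N103764 F507891) (tt N92703 (iv7 D221237)))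
theorem Q117980 : ∀ i, i < 117980 → P i := stepQ 117979 Q117979 (allL N117979 (tt N119533 (iv1 F516104)) (tt N119535 (iv0 F516116)) (tt N121771 (iv2 F528219)) (tt N106989 F507894) (tt N92704 (iv4 D221238)) (tt N119505 (iv5 F515955)) (tt N118129 F508758) (tt N121003 (iv7 F523965)))
theorem Q117981 : ∀ i, i < 117981 → P i := stepQ 117980 Q117980 (allL N117980 (tt N119535 (iv1 F516117)) (tt N119533 (iv0 F516105)) (tt N121003 (iv2 F523962)) (tt N119473 F515799) (tt N92705 (iv4 D221239)) (tt N121002 (iv5 F523958)) (tt N114364 F507895) (tt N121771 (iv7 F528223)))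
theorem Q117982 : ∀ i, i < 117982 → P i := stepQ 117981 Q117981 (allL N117981 (tt N92709 (iv1 F507900)) (tt N92707 (iv0 D221240)) (tt N102385 (iv2 F507899)) (tt N102188 (iv3 F507902)) (tt N102146 F507897) (tt N97643 F507896) (tt N104423 F507898) (tt N102144 F507901))
theorem Q117983 : ∀ i, i < 117983 → P i := stepQ 117982 Q117982 (allL N117982 (tt N102123 F507907) (tt N102129 F507908) (tt N102386 F507903) (tt N102176 F507904) (tt N92707 (iv4 D221241)) (tt N119409 (iv5 F515463)) (tt N104318 F507905) (tt N102389 F507906))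
theorem Q117984 : ∀ i, i < 117984 → P i := stepQ 117983 Q117983 (allL N117983 (tt N117987 (iv1 F507929)) (tt N117986 (iv0 F507926)) (tt N92739 F507909) (tt N92709 F507910) (tt N117990 (iv4 F507946)) (tt N92708 (iv5 D221242)) (tt N118676 (iv6 F511484)) (tt N92744 F507911))
theorem Q117985 : ∀ i, i < 117985 → P i := stepQ 117984 Q117984 (allL N117984 (tt N102129 F507915) (tt N102123 F507916) (tt N102389 F507912) (tt N102179 F507917) (tt N92709 (iv4 D221243)) (tt N119410 (iv5 F515470)) (tt N102124 F507913) (tt N102386 F507914))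
theorem Q117986 : ∀ i, i < 117986 → P i := stepQ 117985 Q117985 (allL N117985 (tt N97603 F507923) (tt N97600 F507924) (tt N102045 F507918) (tt N117056 F507919) (tt N97776 F507920) (tt N92710 (iv5 D221244)) (tt N97774 F507921) (tt N103450 F507922))
theorem Q117987 : ∀ i, i < 117987 → P i := stepQ 117986 Q117986 (allL N117986 (tt N117983 F507926) (tt N102193 F507927) (tt N117992 F507962) (tt N120589 F521617) (tt N117991 (iv4 F507952)) (tt N92715 (iv5 D221245)) (tt N116049 F507925) (tt N117991 F507957))
theorem Q117988 : ∀ i, i < 117988 → P i := stepQ 117987 Q117987 (allL N117987 (tt N102193 F507928) (tt N117983 F507929) (tt N117991 F507956) (tt N120601 F521689) (tt N117992 (iv4 F507961)) (tt N92716 (iv5 D221246)) (tt N120601 F521690) (tt N117992 (iv7 F507959)))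
theorem Q117989 : ∀ i, i < 117989 → P i := stepQ 117988 Q117988 (allL N117988 (tt N115481 F507935) (tt N92816 (iv0 F507936)) (tt N97882 F507930) (tt N97893 F507931) (tt N97783 F507932) (tt N104006 F507934) (tt N92720 (iv6 D221247)) (tt N109060 F507933))
theorem Q117990 : ∀ i, i < 117990 → P i := stepQ 117989 Q117989 (allL N117989 (tt N104395 F507942) (tt N114955 F507943) (tt N92758 F507937) (tt N117738 F507938) (tt N92778 F507939) (tt N92723 (iv5 D221248)) (tt N92756 F507940) (tt N117683 F507941))
theorem Q117991 : ∀ i, i < 117991 → P i := stepQ 117990 Q117990 (allL N117990 (tt N98061 F507949) (tt N93981 F507950) (tt N92753 F507944) (tt N102143 F507945) (tt N117983 F507946) (tt N92728 (iv5 D221249)) (tt N96643 F507947) (tt N92750 F507948))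
theorem Q117992 : ∀ i, i < 117992 → P i := stepQ 117991 Q117991 (allL N117991 (tt N92744 (iv1 F507954)) (tt N92739 (iv0 D221250)) (tt N117987 (iv2 F507956)) (tt N106888 (iv3 F507955)) (tt N117986 F507952) (tt N106887 F507951) (tt N102829 F507953) (tt N117986 (iv7 F507957)))
theorem Q117993 : ∀ i, i < 117993 → P i := stepQ 117992 Q117992 (allL N117992 (tt N92739 (iv1 D221251)) (tt N92744 F507958) (tt N117986 (iv2 F507962)) (tt N119384 (iv3 F515347)) (tt N117987 F507961) (tt N114450 F507960) (tt N120787 (iv6 F522713)) (tt N117987 F507959))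
theorem Q117994 : ∀ i, i < 117994 → P i := stepQ 117993 Q117993 (allL N117993 (tt N111222 (iv1 F507967)) (tt N97826 F507968) (tt N120770 (iv2 F522619)) (tt N109684 F507963) (tt N105477 F507964) (tt N92743 F507965) (tt N105476 F507966) (tt N92742 (iv7 D221252)))
theorem Q117995 : ∀ i, i < 117995 → P i := stepQ 117994 Q117994 (allL N117994 (tt N93126 (iv1 F507974)) (tt N93144 F507975) (tt N93145 F507969) (tt N105776 F507970) (tt N111085 F507971) (tt N92748 F507972) (tt N93152 F507973) (tt N92747 (iv7 D221253)))
theorem Q117996 : ∀ i, i < 117996 → P i := stepQ 117995 Q117995 (allL N117995 (tt N97745 F507982) (tt N97742 F507981) (tt N102146 F507976) (tt N92750 F507977) (tt N102385 F507980) (tt N92749 (iv5 D221254)) (tt N102174 F507978) (tt N102143 F507979))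
theorem Q117997 : ∀ i, i < 117997 → P i := stepQ 117996 Q117996 (allL N117996 (tt N92753 (iv1 F507986)) (tt N92750 (iv0 D221255)) (tt N93981 (iv2 F507985)) (tt N102163 (iv3 F507988)) (tt N97875 F507984) (tt N93172 F507983) (tt N118907 (iv6 F512686)) (tt N98061 F507987))
theorem Q117998 : ∀ i, i < 117998 → P i := stepQ 117997 Q117997 (allL N117997 (tt N111663 F507994) (tt N101977 (iv0 F507995)) (tt N102097 F507989) (tt N95669 F507990) (tt N102012 F507991) (tt N95668 F507992) (tt N92762 (iv6 D221256)) (tt N102238 F507993))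
theorem Q117999 : ∀ i, i < 117999 → P i := stepQ 117998 Q117998 (allL N117998 (tt N115342 F508001) (tt N110270 F508002) (tt N102377 F507996) (tt N109377 F507997) (tt N100596 F507998) (tt N92769 (iv5 D221257)) (tt N115721 F507999) (tt N110346 F508000))
theorem Q118000 : ∀ i, i < 118000 → P i := stepQ 117999 Q117999 (allL N117999 (tt N102663 F508008) (tt N102842 (iv0 F508009)) (tt N102843 F508003) (tt N92776 (iv3 D221258)) (tt N104755 F508004) (tt N102190 F508005) (tt N104378 F508006) (tt N102372 F508007))
theorem Q118001 : ∀ i, i < 118001 → P i := stepQ 118000 Q118000 (allL N118000 (tt N119505 (iv1 F515957)) (tt N121002 (iv0 F523960)) (tt N117757 F508010) (tt N118163 (iv3 F508945)) (tt N92789 (iv4 D221259)) (tt N119667 (iv5 F516808)) (tt N117754 F508011) (tt N117949 F508012))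
theorem Q118002 : ∀ i, i < 118002 → P i := stepQ 118001 Q118001 (allL N118001 (tt N97806 F508018) (tt N105864 (iv0 F508019)) (tt N109128 F508013) (tt N97744 F508014) (tt N92791 (iv4 D221260)) (tt N109443 F508017) (tt N114949 F508015) (tt N109127 F508016))
theorem Q118003 : ∀ i, i < 118003 → P i := stepQ 118002 Q118002 (allL N118002 (tt N121002 F523961) (tt N119505 (iv0 F515956)) (tt N117949 F508022) (tt N117761 (iv3 F508025)) (tt N92792 (iv4 D221261)) (tt N119668 (iv5 F516815)) (tt N111316 F508023) (tt N117757 F508024))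
theorem Q118004 : ∀ i, i < 118004 → P i := stepQ 118003 Q118003 (allL N118003 (tt N92823 F508031) (tt N92825 F508032) (tt N98291 F508026) (tt N105460 F508027) (tt N92797 (iv4 D221262)) (tt N115130 F508030) (tt N113326 F508028) (tt N98310 F508029))
theorem Q118005 : ∀ i, i < 118005 → P i := stepQ 118004 Q118004 (allL N118004 (tt N110028 (iv1 F508036)) (tt N92804 (iv0 D221263)) (tt N115130 (iv2 F508037)) (tt N122630 D225889) (tt N110331 F508034) (tt N98291 F508033) (tt N110330 F508035) (tt N110331 (iv7 F508038)))
theorem Q118006 : ∀ i, i < 118006 → P i := stepQ 118005 Q118005 (allL N118005 (tt N92804 (iv1 D221264)) (tt N110028 F508039) (tt N110331 F508044) (tt N101281 F508045) (tt N115130 F508042) (tt N98310 F508041) (tt N101225 (iv6 F508043)) (tt N115130 F508040))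
theorem Q118007 : ∀ i, i < 118007 → P i := stepQ 118006 Q118006 (allL N118006 (tt N110151 F508050) (tt N103037 F508051) (tt N110159 F508046) (tt N122435 F532086) (tt N92804 (iv4 D221265)) (tt N98432 F508047) (tt N110069 F508048) (tt N114831 F508049))
theorem Q118008 : ∀ i, i < 118008 → P i := stepQ 118007 Q118007 (allL N118007 (tt N92816 (iv1 D221266)) (tt N115481 F508052) (tt N109060 F508058) (tt N92846 (iv3 F508056)) (tt N97782 F508055) (tt N92974 F508054) (tt N99807 (iv6 F508057)) (tt N97882 F508053))
theorem Q118009 : ∀ i, i < 118009 → P i := stepQ 118008 Q118008 (allL N118008 (tt N114491 F508063) (tt N107324 (iv0 F508064)) (tt N116737 F508059) (tt N92827 (iv3 D221267)) (tt N109870 F508060) (tt N113505 F508061) (tt N122449 (iv6 F532176)) (tt N113976 F508062))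
theorem Q118010 : ∀ i, i < 118010 → P i := stepQ 118009 Q118009 (allL N118009 (tt N106300 F508068) (tt N106305 (iv0 F508069)) (tt N106304 F508065) (tt N122449 (iv3 F532174)) (tt N114454 F508066) (tt N118926 (iv5 F512779)) (tt N92827 (iv6 D221268)) (tt N106303 F508067))
theorem Q118011 : ∀ i, i < 118011 → P i := stepQ 118010 Q118010 (allL N118010 (tt N109117 (iv1 F508071)) (tt N92828 (iv0 D221269)) (tt N114668 (iv2 F508072)) (tt N121951 (iv3 F529255)) (tt N109173 F508070) (tt N122269 (iv5 F531080)) (tt N105601 (iv6 F508073)) (tt N121794 (iv7 F528359)))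
theorem Q118012 : ∀ i, i < 118012 → P i := stepQ 118011 Q118011 (allL N118011 (tt N92828 (iv1 D221270)) (tt N109117 (iv0 F508078)) (tt N121794 F528357) (tt N114671 (iv3 F508077)) (tt N109172 F508075) (tt N114697 F508076) (tt N119634 (iv6 F516625)) (tt N114668 F508074))
theorem Q118013 : ∀ i, i < 118013 → P i := stepQ 118012 Q118012 (allL N118012 (tt N114668 (iv1 F508083)) (tt N121794 F528358) (tt N92828 (iv2 D221271)) (tt N114493 F508079) (tt N92866 F508080) (tt N122322 (iv5 F531413)) (tt N104712 F508081) (tt N109117 F508082))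
theorem Q118014 : ∀ i, i < 118014 → P i := stepQ 118013 Q118013 (allL N118013 (tt N121912 (iv1 F529028)) (tt N115137 (iv0 F508086)) (tt N122322 (iv2 F531410)) (tt N92829 F508084) (tt N112749 F508085) (tt N92828 (iv5 D221272)) (tt N122321 (iv6 F531406)) (tt N121795 (iv7 F528364)))
theorem Q118015 : ∀ i, i < 118015 → P i := stepQ 118014 Q118014 (allL N118014 (tt N98101 F508092) (tt N108078 (iv0 F508093)) (tt N92839 F508087) (tt N109223 F508088) (tt N92836 F508089) (tt N103954 F508090) (tt N92835 (iv6 D221273)) (tt N112315 F508091))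
theorem Q118016 : ∀ i, i < 118016 → P i := stepQ 118015 Q118015 (allL N118015 (tt N92839 (iv1 D221274)) (tt N112315 F508094) (tt N108078 F508100) (tt N112703 (iv3 F508098)) (tt N115157 F508097) (tt N97296 F508096) (tt N117604 (iv6 F508099)) (tt N98101 F508095))
theorem Q118017 : ∀ i, i < 118017 → P i := stepQ 118016 Q118016 (allL N118016 (tt N108078 (iv1 F508106)) (tt N98101 F508107) (tt N112315 F508101) (tt N110860 F508102) (tt N92842 F508103) (tt N103955 F508104) (tt N108066 F508105) (tt N92839 (iv7 D221275)))
theorem Q118018 : ∀ i, i < 118018 → P i := stepQ 118017 Q118017 (allL N118017 (tt N120837 (iv1 F523005)) (tt N117746 F508110) (tt N117953 F508108) (tt N118076 (iv3 F508440)) (tt N92843 (iv4 D221276)) (tt N121665 (iv5 F527623)) (tt N119524 (iv6 F516058)) (tt N114448 F508109))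
theorem Q118019 : ∀ i, i < 118019 → P i := stepQ 118018 Q118018 (allL N118018 (tt N104368 (iv1 F508116)) (tt N102374 F508115) (tt N92845 (iv2 D221277)) (tt N102382 F508111) (tt N103614 F508112) (tt N119416 (iv5 F515505)) (tt N103613 F508113) (tt N115780 F508114))
theorem Q118020 : ∀ i, i < 118020 → P i := stepQ 118019 Q118019 (allL N118019 (tt N109180 F508122) (tt N117959 F508123) (tt N92851 F508117) (tt N103565 F508118) (tt N92849 (iv4 D221278)) (tt N117656 F508119) (tt N103563 F508120) (tt N109843 F508121))
theorem Q118021 : ∀ i, i < 118021 → P i := stepQ 118020 Q118020 (allL N118020 (tt N92851 (iv1 D221279)) (tt N109843 F508124) (tt N117959 F508129) (tt N114361 (iv3 F508127)) (tt N98415 F508126) (tt N120701 (iv5 F522230)) (tt N114359 (iv6 F508128)) (tt N109180 F508125))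
theorem Q118022 : ∀ i, i < 118022 → P i := stepQ 118021 Q118021 (allL N118021 (tt N97735 F508132) (tt N120745 F522480) (tt N119417 (iv2 F515510)) (tt N92851 (iv3 D221280)) (tt N92855 F508130) (tt N122581 (iv5 F532972)) (tt N106130 (iv6 F508134)) (tt N117960 F508131))
theorem Q118023 : ∀ i, i < 118023 → P i := stepQ 118022 Q118022 (allL N118022 (tt N109165 F508139) (tt N97873 (iv0 F508141)) (tt N103563 F508135) (tt N106130 F508136) (tt N92852 F508137) (tt N103562 F508140) (tt N92851 (iv6 D221281)) (tt N109157 F508138))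
theorem Q118024 : ∀ i, i < 118024 → P i := stepQ 118023 Q118023 (allL N118023 (tt N112806 F508146) (tt N111030 F508147) (tt N93395 F508142) (tt N94262 F508143) (tt N92867 (iv4 D221282)) (tt N94311 F508144) (tt N118289 F509544) (tt N93393 F508145))
theorem Q118025 : ∀ i, i < 118025 → P i := stepQ 118024 Q118024 (allL N118024 (tt N95172 F508152) (tt N108665 (iv0 F508153)) (tt N93396 F508148) (tt N94435 F508149) (tt N118289 (iv4 F509542)) (tt N101515 F508150) (tt N92867 (iv6 D221283)) (tt N93601 F508151))
theorem Q118026 : ∀ i, i < 118026 → P i := stepQ 118025 Q118025 (allL N118025 (tt N93418 F508158) (tt N119042 F513456) (tt N92874 F508154) (tt N119271 (iv3 F514743)) (tt N111544 F508155) (tt N104767 F508156) (tt N92870 (iv6 D221284)) (tt N111546 F508157))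
theorem Q118027 : ∀ i, i < 118027 → P i := stepQ 118026 Q118026 (allL N118026 (tt N108317 F508161) (tt N121818 (iv0 F528500)) (tt N119012 (iv2 F513275)) (tt N92874 F508159) (tt N110901 F508160) (tt N119114 (iv5 F513860)) (tt N92871 (iv6 D221285)) (tt N120780 (iv7 F522670)))
theorem Q118028 : ∀ i, i < 118028 → P i := stepQ 118027 Q118027 (allL N118027 (tt N92878 (iv1 F508168)) (tt N92873 (iv0 D221286)) (tt N93431 (iv2 F508166)) (tt N93455 F508164) (tt N115428 F508163) (tt N94416 F508162) (tt N101143 F508165) (tt N108671 F508167))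
theorem Q118029 : ∀ i, i < 118029 → P i := stepQ 118028 Q118028 (allL N118028 (tt N108671 (iv1 F508174)) (tt N93431 F508175) (tt N92878 F508169) (tt N94701 F508170) (tt N110594 F508171) (tt N92875 F508172) (tt N94700 F508173) (tt N92873 (iv7 D221287)))
theorem Q118030 : ∀ i, i < 118030 → P i := stepQ 118029 Q118029 (allL N118029 (tt N111546 F508181) (tt N92874 (iv0 D221288)) (tt N93418 (iv2 F508178)) (tt N93456 F508179) (tt N112721 F508177) (tt N115046 F508176) (tt N92919 F508180) (tt N119042 (iv7 F513454)))
theorem Q118031 : ∀ i, i < 118031 → P i := stepQ 118030 Q118030 (allL N118030 (tt N119042 (iv1 F513455)) (tt N93418 (iv0 F508185)) (tt N111546 F508182) (tt N120780 (iv3 F522667)) (tt N104773 F508183) (tt N118245 (iv5 F509337)) (tt N108656 F508184) (tt N92874 (iv7 D221289)))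
theorem Q118032 : ∀ i, i < 118032 → P i := stepQ 118031 Q118031 (allL N118031 (tt N93439 (iv1 F508191)) (tt N94329 F508190) (tt N92876 (iv2 D221290)) (tt N95113 F508186) (tt N96253 (iv4 F508192)) (tt N95111 F508187) (tt N117565 F508188) (tt N112812 F508189))
theorem Q118033 : ∀ i, i < 118033 → P i := stepQ 118032 Q118032 (allL N118032 (tt N94311 F508198) (tt N94457 F508199) (tt N96253 F508193) (tt N96254 F508194) (tt N92876 (iv4 D221291)) (tt N96253 F508197) (tt N109574 F508195) (tt N112725 F508196))
theorem Q118034 : ∀ i, i < 118034 → P i := stepQ 118033 Q118033 (allL N118033 (tt N93320 (iv1 F508204)) (tt N96117 (iv0 F508205)) (tt N96115 F508200) (tt N92887 (iv3 D221292)) (tt N116998 F508203) (tt N116997 F508201) (tt N121612 (iv6 F527333)) (tt N96114 F508202))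
theorem Q118035 : ∀ i, i < 118035 → P i := stepQ 118034 Q118034 (allL N118034 (tt N117848 F508208) (tt N108303 F508207) (tt N118288 (iv2 F509534)) (tt N120722 (iv3 F522349)) (tt N92887 (iv4 D221293)) (tt N102304 F508206) (tt N118319 (iv6 F509684)) (tt N118287 (iv7 F509529)))
theorem Q118036 : ∀ i, i < 118036 → P i := stepQ 118035 Q118035 (allL N118035 (tt N95863 F508213) (tt N118985 (iv0 F513127)) (tt N119080 (iv2 F513684)) (tt N92890 (iv3 D221294)) (tt N111648 F508209) (tt N93954 F508210) (tt N117129 F508211) (tt N93658 F508212))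
theorem Q118037 : ∀ i, i < 118037 → P i := stepQ 118036 Q118036 (allL N118036 (tt N119284 (iv1 F514824)) (tt N98826 F508219) (tt N93648 F508214) (tt N94392 F508215) (tt N99020 F508218) (tt N92894 (iv5 D221295)) (tt N110644 F508216) (tt N93645 F508217))
theorem Q118038 : ∀ i, i < 118038 → P i := stepQ 118037 Q118037 (allL N118037 (tt N98826 F508225) (tt N119284 (iv0 F514823)) (tt N93645 F508220) (tt N98792 F508221) (tt N99021 F508222) (tt N92896 (iv5 D221296)) (tt N94389 F508223) (tt N93648 F508224))
theorem Q118039 : ∀ i, i < 118039 → P i := stepQ 118038 Q118038 (allL N118038 (tt N92901 (iv1 F508231)) (tt N92897 (iv0 D221297)) (tt N92898 (iv2 F508230)) (tt N112177 F508228) (tt N99184 F508227) (tt N105645 F508226) (tt N112175 F508229) (tt N92899 F508232))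
theorem Q118040 : ∀ i, i < 118040 → P i := stepQ 118039 Q118039 (allL N118039 (tt N98821 F508236) (tt N98822 (iv0 F508237)) (tt N118351 (iv2 F509858)) (tt N98806 F508233) (tt N92899 (iv4 D221298)) (tt N122587 (iv5 F533010)) (tt N112647 F508234) (tt N99184 F508235))
theorem Q118041 : ∀ i, i < 118041 → P i := stepQ 118040 Q118040 (allL N118040 (tt N121608 (iv1 F527312)) (tt N120804 (iv0 F522815)) (tt N116988 F508238) (tt N92903 F508239) (tt N119623 (iv4 F516568)) (tt N92902 (iv5 D221299)) (tt N98329 F508240) (tt N93716 F508241))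
theorem Q118042 : ∀ i, i < 118042 → P i := stepQ 118041 Q118041 (allL N118041 (tt N93595 F508244) (tt N93591 F508245) (tt N118299 (iv2 F509578)) (tt N96133 F508242) (tt N107856 F508243) (tt N92916 (iv5 D221300)) (tt N107855 F508246) (tt N118174 (iv7 F509008)))
theorem Q118043 : ∀ i, i < 118043 → P i := stepQ 118042 Q118042 (allL N118042 (tt N107717 F508251) (tt N107850 F508252) (tt N107849 F508247) (tt N105730 F508248) (tt N92917 F508249) (tt N118281 (iv5 F509495)) (tt N92916 (iv6 D221301)) (tt N107848 F508250))
theorem Q118044 : ∀ i, i < 118044 → P i := stepQ 118043 Q118043 (allL N118043 (tt N112824 F508256) (tt N119057 F513547) (tt N93726 F508253) (tt N93791 F508254) (tt N120397 (iv4 F520567)) (tt N92919 (iv5 D221302)) (tt N121134 F524701) (tt N93338 F508255))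
theorem Q118045 : ∀ i, i < 118045 → P i := stepQ 118044 Q118044 (allL N118044 (tt N104302 (iv1 F508261)) (tt N92928 (iv0 D221303)) (tt N104301 (iv2 F508260)) (tt N104599 F508258) (tt N116228 F508257) (tt N120807 (iv5 F522831)) (tt N102248 F508259) (tt N104282 F508262))
theorem Q118046 : ∀ i, i < 118046 → P i := stepQ 118045 Q118045 (allL N118045 (tt N92929 (iv1 D221304)) (tt N104300 F508263) (tt N93982 F508268) (tt N120807 (iv3 F522833)) (tt N93171 F508266) (tt N104599 F508265) (tt N93172 (iv6 F508267)) (tt N104274 F508264))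
theorem Q118047 : ∀ i, i < 118047 → P i := stepQ 118046 Q118046 (allL N118046 (tt N98478 F508274) (tt N93121 (iv0 F508275)) (tt N105003 F508269) (tt N108361 F508270) (tt N102220 F508271) (tt N104935 F508272) (tt N92933 (iv6 D221305)) (tt N109732 F508273))
theorem Q118048 : ∀ i, i < 118048 → P i := stepQ 118047 Q118047 (allL N118047 (tt N102334 F508280) (tt N101690 (iv0 F508281)) (tt N102336 F508276) (tt N92940 F508277) (tt N119540 (iv4 F516143)) (tt N103428 F508278) (tt N92938 (iv6 D221306)) (tt N102331 F508279))
theorem Q118049 : ∀ i, i < 118049 → P i := stepQ 118048 Q118048 (allL N118048 (tt N102116 F508287) (tt N102160 F508288) (tt N92943 F508282) (tt N102125 F508283) (tt N97436 F508284) (tt N92941 (iv5 D221307)) (tt N116065 F508285) (tt N102155 F508286))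
theorem Q118050 : ∀ i, i < 118050 → P i := stepQ 118049 Q118049 (allL N118049 (tt N120601 (iv1 F521686)) (tt N120600 F521682) (tt N102294 F508289) (tt N92945 (iv3 D221308)) (tt N116063 F508290) (tt N101710 F508291) (tt N101711 F508292) (tt N97439 F508293))
theorem Q118051 : ∀ i, i < 118051 → P i := stepQ 118050 Q118050 (allL N118050 (tt N93214 F508298) (tt N93191 (iv0 F508299)) (tt N104299 F508294) (tt N102354 F508295) (tt N92957 F508296) (tt N120501 (iv5 F521115)) (tt N92956 (iv6 D221309)) (tt N115715 F508297))
theorem Q118052 : ∀ i, i < 118052 → P i := stepQ 118051 Q118051 (allL N118051 (tt N108778 F508304) (tt N109055 (iv0 F508305)) (tt N105846 F508300) (tt N92962 F508301) (tt N114074 F508302) (tt N105844 F508303) (tt N92961 (iv6 D221310)) (tt N118421 (iv7 F510264)))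
theorem Q118053 : ∀ i, i < 118053 → P i := stepQ 118052 Q118052 (allL N118052 (tt N103467 (iv1 F508310)) (tt N103464 F508311) (tt N115375 F508306) (tt N118421 (iv3 F510261)) (tt N97647 F508307) (tt N111252 F508308) (tt N98638 F508309) (tt N92962 (iv7 D221311)))
theorem Q118054 : ∀ i, i < 118054 → P i := stepQ 118053 Q118053 (allL N118053 (tt N93133 F508315) (tt N109656 F508316) (tt N109650 F508312) (tt N114506 F508313) (tt N92968 (iv4 D221312)) (tt N120882 (iv5 F523264)) (tt N119037 (iv6 F513421)) (tt N109648 F508314))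
theorem Q118055 : ∀ i, i < 118055 → P i := stepQ 118054 Q118054 (allL N118054 (tt N98322 F508320) (tt N98264 (iv0 F508321)) (tt N109651 F508317) (tt N113111 F508318) (tt N119037 (iv4 F513418)) (tt N118096 (iv5 F508562)) (tt N92968 (iv6 D221313)) (tt N109661 F508319))
theorem Q118056 : ∀ i, i < 118056 → P i := stepQ 118055 Q118055 (allL N118055 (tt N109647 (iv1 F508327)) (tt N92969 (iv0 D221314)) (tt N105443 (iv2 F508325)) (tt N120861 (iv3 F523135)) (tt N92987 F508323) (tt N112793 F508322) (tt N105441 F508324) (tt N109646 F508326))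
theorem Q118057 : ∀ i, i < 118057 → P i := stepQ 118056 Q118056 (allL N118056 (tt N109646 (iv1 F508333)) (tt N105443 F508334) (tt N109647 F508328) (tt N94602 F508329) (tt N92970 F508330) (tt N100653 F508331) (tt N97997 F508332) (tt N92969 (iv7 D221315)))
theorem Q118058 : ∀ i, i < 118058 → P i := stepQ 118057 Q118057 (allL N118057 (tt N105328 (iv1 F508339)) (tt N117957 F508340) (tt N118102 (iv2 F508600)) (tt N97824 F508335) (tt N103463 F508336) (tt N97821 F508337) (tt N110979 F508338) (tt N92976 (iv7 D221316)))
theorem Q118059 : ∀ i, i < 118059 → P i := stepQ 118058 Q118058 (allL N118058 (tt N121418 (iv1 F526250)) (tt N121416 (iv0 F526240)) (tt N115152 F508341) (tt N92977 (iv3 D221317)) (tt N97182 F508342) (tt N104340 F508343) (tt N114228 F508344) (tt N115183 F508345))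
theorem Q118060 : ∀ i, i < 118060 → P i := stepQ 118059 Q118059 (allL N118059 (tt N92980 (iv1 D221318)) (tt N115162 F508346) (tt N115025 (iv2 F508350)) (tt N120965 (iv3 F523745)) (tt N114917 F508349) (tt N92996 F508348) (tt N115156 (iv6 F508351)) (tt N115022 F508347))
theorem Q118061 : ∀ i, i < 118061 → P i := stepQ 118060 Q118060 (allL N118060 (tt N114509 (iv1 F508357)) (tt N114512 F508358) (tt N100294 F508352) (tt N115273 F508353) (tt N92998 F508354) (tt N115022 F508355) (tt N117419 F508356) (tt N92996 (iv7 D221319)))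
theorem Q118062 : ∀ i, i < 118062 → P i := stepQ 118061 Q118061 (allL N118061 (tt N104924 F508363) (tt N115189 F508364) (tt N114596 F508359) (tt N120272 (iv3 F519946)) (tt N92997 (iv4 D221320)) (tt N115027 F508360) (tt N113771 F508361) (tt N114600 F508362))
theorem Q118063 : ∀ i, i < 118063 → P i := stepQ 118062 Q118062 (allL N118062 (tt N114907 F508368) (tt N98529 F508369) (tt N103719 F508365) (tt N121009 (iv3 F523993)) (tt N92999 (iv4 D221321)) (tt N103836 F508366) (tt N122239 (iv6 F530950)) (tt N114584 F508367))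
theorem Q118064 : ∀ i, i < 118064 → P i := stepQ 118063 Q118063 (allL N118063 (tt N93003 (iv1 F508375)) (tt N93002 (iv0 D221322)) (tt N97689 (iv2 F508374)) (tt N102418 F508372) (tt N103517 F508371) (tt N94013 F508370) (tt N115753 F508373) (tt N97690 F508376))
theorem Q118065 : ∀ i, i < 118065 → P i := stepQ 118064 Q118064 (allL N118064 (tt N104358 F508379) (tt N98568 (iv0 F508380)) (tt N119504 (iv2 F515949)) (tt N93017 F508377) (tt N119414 (iv4 F515491)) (tt N114352 F508378) (tt N93016 (iv6 D221323)) (tt N119414 (iv7 F515493)))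
theorem Q118066 : ∀ i, i < 118066 → P i := stepQ 118065 Q118065 (allL N118065 (tt N122100 F530168) (tt N122100 (iv0 F530167)) (tt N93023 F508381) (tt N93026 F508382) (tt N122466 (iv4 F532286)) (tt N122598 (iv5 F533079)) (tt N93019 (iv6 D221324)) (tt N93023 F508383))
theorem Q118067 : ∀ i, i < 118067 → P i := stepQ 118066 Q118066 (allL N118066 (tt N118116 (iv1 F508690)) (tt N116047 F508388) (tt N104295 F508384) (tt N114366 F508385) (tt N93020 (iv4 D221325)) (tt N114365 F508387) (tt N116070 (iv6 F508389)) (tt N104292 F508386))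
theorem Q118068 : ∀ i, i < 118068 → P i := stepQ 118067 Q118067 (allL N118067 (tt N115716 F508395) (tt N93216 F508396) (tt N104296 F508390) (tt N104409 F508391) (tt N116070 F508392) (tt N104780 F508393) (tt N93020 (iv6 D221326)) (tt N104406 F508394))
theorem Q118069 : ∀ i, i < 118069 → P i := stepQ 118068 Q118068 (allL N118068 (tt N116047 F508400) (tt N118116 (iv0 F508689)) (tt N104292 F508397) (tt N97314 F508401) (tt N93021 (iv4 D221327)) (tt N117433 F508398) (tt N120975 (iv6 F523809)) (tt N104295 F508399))
theorem Q118070 : ∀ i, i < 118070 → P i := stepQ 118069 Q118069 (allL N118069 (tt N93190 F508406) (tt N104404 (iv0 F508407)) (tt N104293 F508402) (tt N98764 F508403) (tt N120975 (iv4 F523807)) (tt N98763 F508404) (tt N93021 (iv6 D221328)) (tt N104403 F508405))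
theorem Q118071 : ∀ i, i < 118071 → P i := stepQ 118070 Q118070 (allL N118070 (tt N115419 F508413) (tt N115212 F508412) (tt N113933 F508408) (tt N93175 F508409) (tt N113713 F508411) (tt N93022 (iv5 D221329)) (tt N116509 F508414) (tt N104298 F508410))
theorem Q118072 : ∀ i, i < 118072 → P i := stepQ 118071 Q118071 (allL N118071 (tt N120990 F523893) (tt N120990 (iv0 F523892)) (tt N122598 (iv2 F533077)) (tt N93025 F508416) (tt N122597 (iv4 F533074)) (tt N93023 (iv5 D221330)) (tt N93024 F508417) (tt N122598 (iv7 F533080)))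
theorem Q118073 : ∀ i, i < 118073 → P i := stepQ 118072 Q118072 (allL N118072 (tt N93025 (iv1 D221331)) (tt N102122 F508418) (tt N104318 F508422) (tt N118087 (iv3 F508504)) (tt N102387 F508420) (tt N109733 (iv5 F508421)) (tt N102386 (iv6 F508423)) (tt N104317 F508419))
theorem Q118074 : ∀ i, i < 118074 → P i := stepQ 118073 Q118073 (allL N118073 (tt N104318 (iv1 F508428)) (tt N104317 F508429) (tt N102122 F508424) (tt N122598 (iv3 F533078)) (tt N102121 F508425) (tt N93026 F508426) (tt N104314 F508427) (tt N93025 (iv7 D221332)))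
theorem Q118075 : ∀ i, i < 118075 → P i := stepQ 118074 Q118074 (allL N118074 (tt N119390 (iv1 F515384)) (tt N102158 (iv0 F508434)) (tt N101994 F508430) (tt N93028 (iv3 D221333)) (tt N120597 (iv4 F521661)) (tt N97368 F508431) (tt N102126 F508432) (tt N102128 F508433))
theorem Q118076 : ∀ i, i < 118076 → P i := stepQ 118075 Q118075 (allL N118075 (tt N119440 F515638) (tt N111795 F508437) (tt N104379 F508435) (tt N102444 (iv3 F508438)) (tt N93035 (iv4 D221334)) (tt N122386 (iv5 F531790)) (tt N93057 F508436) (tt N119457 (iv7 F515725)))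
theorem Q118077 : ∀ i, i < 118077 → P i := stepQ 118076 Q118076 (allL N118076 (tt N120982 (iv1 F523852)) (tt N120936 (iv0 F523568)) (tt N104361 F508439) (tt N118017 F508440) (tt N93039 (iv4 D221335)) (tt N108894 F508443) (tt N98022 F508441) (tt N104363 F508442))
theorem Q118078 : ∀ i, i < 118078 → P i := stepQ 118077 Q118077 (allL N118077 (tt N119504 (iv1 F515952)) (tt N119414 (iv0 F515494)) (tt N98568 F508444) (tt N93041 F508445) (tt N115402 F508446) (tt N93040 (iv5 D221336)) (tt N104269 F508447) (tt N104358 F508448))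
theorem Q118079 : ∀ i, i < 118079 → P i := stepQ 118078 Q118078 (allL N118078 (tt N120936 F523569) (tt N120982 (iv0 F523851)) (tt N104363 F508449) (tt N119420 (iv3 F515520)) (tt N93041 (iv4 D221337)) (tt N108893 F508450) (tt N114355 F508451) (tt N104361 F508452))
theorem Q118080 : ∀ i, i < 118080 → P i := stepQ 118079 Q118079 (allL N118079 (tt N93043 (iv1 D221338)) (tt N104367 F508453) (tt N104364 F508457) (tt N103801 (iv3 F508456)) (tt N93051 F508455) (tt N94429 F508458) (tt N119533 (iv6 F516102)) (tt N103299 F508454))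
theorem Q118081 : ∀ i, i < 118081 → P i := stepQ 118080 Q118080 (allL N118080 (tt N105944 F508462) (tt N116008 (iv0 F508463)) (tt N120686 (iv2 F522141)) (tt N93043 (iv3 D221339)) (tt N102444 F508459) (tt N114098 F508460) (tt N102443 F508461) (tt N120692 (iv7 F522182)))
theorem Q118082 : ∀ i, i < 118082 → P i := stepQ 118081 Q118081 (allL N118081 (tt N120798 (iv1 F522779)) (tt N120799 (iv0 F522782)) (tt N104373 F508464) (tt N111098 F508465) (tt N93045 (iv4 D221340)) (tt N118261 (iv5 F509414)) (tt N114360 F508466) (tt N104370 F508467))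
theorem Q118083 : ∀ i, i < 118083 → P i := stepQ 118082 Q118082 (allL N118082 (tt N103330 F508473) (tt N102348 (iv0 F508474)) (tt N102302 F508468) (tt N93065 F508469) (tt N96792 F508472) (tt N93064 (iv5 D221341)) (tt N95821 F508470) (tt N117511 F508471))
theorem Q118084 : ∀ i, i < 118084 → P i := stepQ 118083 Q118083 (allL N118083 (tt N95180 (iv1 F508480)) (tt N103320 F508481) (tt N93074 F508475) (tt N117511 F508476) (tt N93445 F508477) (tt N93067 F508478) (tt N111009 F508479) (tt N93065 (iv7 D221342)))
theorem Q118085 : ∀ i, i < 118085 → P i := stepQ 118084 Q118084 (allL N118084 (tt N104423 F508488) (tt N93086 (iv0 D221343)) (tt N104421 (iv2 F508485)) (tt N116043 (iv3 F508486)) (tt N102114 F508483) (tt N111778 F508482) (tt N97001 F508484) (tt N104422 (iv7 F508487)))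
theorem Q118086 : ∀ i, i < 118086 → P i := stepQ 118085 Q118085 (allL N118085 (tt N93086 (iv1 D221344)) (tt N104423 F508489) (tt N104422 F508494) (tt N116067 F508495) (tt N102111 F508491) (tt N93247 (iv5 F508492)) (tt N117707 (iv6 F508493)) (tt N104421 F508490))
theorem Q118087 : ∀ i, i < 118087 → P i := stepQ 118086 Q118086 (allL N118086 (tt N102181 F508499) (tt N102184 F508500) (tt N101985 F508496) (tt N95028 F508501) (tt N93086 (iv4 D221345)) (tt N102087 F508497) (tt N93110 F508498) (tt N102174 (iv7 F508502)))
theorem Q118088 : ∀ i, i < 118088 → P i := stepQ 118087 Q118087 (allL N118087 (tt N104422 (iv1 F508508)) (tt N104421 F508509) (tt N104423 F508503) (tt N118072 F508504) (tt N102174 F508505) (tt N93087 F508506) (tt N102385 F508507) (tt N93086 (iv7 D221346)))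
theorem Q118089 : ∀ i, i < 118089 → P i := stepQ 118088 Q118088 (allL N118088 (tt N102015 F508515) (tt N102013 (iv0 F508516)) (tt N102235 F508510) (tt N102408 F508511) (tt N117722 F508512) (tt N102144 F508513) (tt N93098 (iv6 D221347)) (tt N97643 F508514))
theorem Q118090 : ∀ i, i < 118090 → P i := stepQ 118089 Q118089 (allL N118089 (tt N116208 F508521) (tt N97633 (iv0 F508523)) (tt N97400 F508517) (tt N93102 F508518) (tt N104267 F508519) (tt N97391 (iv5 F508522)) (tt N93100 (iv6 D221348)) (tt N97389 F508520))
theorem Q118091 : ∀ i, i < 118091 → P i := stepQ 118090 Q118090 (allL N118090 (tt N93104 (iv1 F508528)) (tt N93101 (iv0 D221349)) (tt N103517 (iv2 F508527)) (tt N98064 F508526) (tt N97689 F508525) (tt N102422 F508524) (tt N116239 (iv6 F508530)) (tt N98063 F508529))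
theorem Q118092 : ∀ i, i < 118092 → P i := stepQ 118091 Q118091 (allL N118091 (tt N97681 F508535) (tt N97684 F508536) (tt N117967 F508531) (tt N103774 F508532) (tt N93102 F508533) (tt N103025 F508534) (tt N93101 (iv6 D221350)) (tt N119421 (iv7 F515524)))
theorem Q118093 : ∀ i, i < 118093 → P i := stepQ 118092 Q118092 (allL N118092 (tt N103670 F508540) (tt N103743 F508541) (tt N105122 F508537) (tt N102428 F508538) (tt N93103 (iv4 D221351)) (tt N121050 (iv5 F524232)) (tt N119492 (iv6 F515884)) (tt N117969 F508539))
theorem Q118094 : ∀ i, i < 118094 → P i := stepQ 118093 Q118093 (allL N118093 (tt N93107 (iv1 F508546)) (tt N93106 F508547) (tt N93109 F508542) (tt N113057 F508543) (tt N120662 (iv4 F522027)) (tt N102039 F508544) (tt N113056 F508545) (tt N93105 (iv7 D221352)))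
theorem Q118095 : ∀ i, i < 118095 → P i := stepQ 118094 Q118094 (allL N118094 (tt N108245 (iv1 F508552)) (tt N95881 F508551) (tt N115371 F508548) (tt N104411 F508549) (tt N93114 (iv4 D221353)) (tt N118866 (iv5 F512482)) (tt N114230 F508553) (tt N115370 F508550))
theorem Q118096 : ∀ i, i < 118096 → P i := stepQ 118095 Q118095 (allL N118095 (tt N115723 F508558) (tt N119267 F514722) (tt N119268 (iv2 F514723)) (tt N93116 F508554) (tt N114230 F508555) (tt N106313 F508556) (tt N93114 (iv6 D221354)) (tt N115711 F508557))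
theorem Q118097 : ∀ i, i < 118097 → P i := stepQ 118096 Q118096 (allL N118096 (tt N98047 F508564) (tt N111004 (iv0 F508565)) (tt N114763 F508559) (tt N113107 F508560) (tt N104443 F508561) (tt N118054 F508562) (tt N93115 (iv6 D221355)) (tt N98664 F508563))
theorem Q118098 : ∀ i, i < 118098 → P i := stepQ 118097 Q118097 (allL N118097 (tt N97255 F508570) (tt N104936 F508571) (tt N104088 F508566) (tt N109744 F508567) (tt N118107 (iv4 F508636)) (tt N93118 (iv5 D221356)) (tt N98661 F508568) (tt N104927 F508569))
theorem Q118099 : ∀ i, i < 118099 → P i := stepQ 118098 Q118098 (allL N118098 (tt N93121 (iv1 D221357)) (tt N98478 F508572) (tt N109732 F508577) (tt N115358 F508578) (tt N102221 F508575) (tt N109564 F508574) (tt N111262 (iv6 F508576)) (tt N105003 F508573))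
theorem Q118100 : ∀ i, i < 118100 → P i := stepQ 118099 Q118099 (allL N118099 (tt N98177 F508583) (tt N114519 (iv0 F508584)) (tt N104938 F508579) (tt N93122 (iv3 D221358)) (tt N94007 F508580) (tt N115193 F508585) (tt N115232 F508581) (tt N113769 F508582))
theorem Q118101 : ∀ i, i < 118101 → P i := stepQ 118100 Q118100 (allL N118100 (tt N109692 F508591) (tt N104923 F508592) (tt N115188 F508586) (tt N115193 F508587) (tt N103226 F508588) (tt N93122 (iv5 D221359)) (tt N111074 F508589) (tt N113770 F508590))
theorem Q118102 : ∀ i, i < 118102 → P i := stepQ 118101 Q118101 (allL N118101 (tt N113586 F508598) (tt N104016 F508599) (tt N115202 F508593) (tt N113557 F508594) (tt N93123 (iv4 D221360)) (tt N111666 F508595) (tt N114518 F508596) (tt N115150 F508597))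
theorem Q118103 : ∀ i, i < 118103 → P i := stepQ 118102 Q118102 (allL N118102 (tt N111247 (iv1 F508604)) (tt N104084 F508605) (tt N118057 F508600) (tt N115474 F508601) (tt N119434 (iv4 F515604)) (tt N105907 F508602) (tt N98699 F508603) (tt N93127 (iv7 D221361)))
theorem Q118104 : ∀ i, i < 118104 → P i := stepQ 118103 Q118103 (allL N118103 (tt N93151 (iv1 F508611)) (tt N93128 (iv0 D221362)) (tt N93152 (iv2 F508610)) (tt N94142 F508608) (tt N97167 F508607) (tt N105476 F508606) (tt N93145 F508609) (tt N93146 F508612))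
theorem Q118105 : ∀ i, i < 118105 → P i := stepQ 118104 Q118104 (allL N118104 (tt N115742 (iv1 F508618)) (tt N115365 F508619) (tt N105694 F508613) (tt N104187 F508614) (tt N114821 F508615) (tt N98768 F508616) (tt N114820 F508617) (tt N93138 (iv7 D221363)))
theorem Q118106 : ∀ i, i < 118106 → P i := stepQ 118105 Q118105 (allL N118105 (tt N113628 (iv1 F508624)) (tt N103410 F508623) (tt N93140 (iv2 D221364)) (tt N111084 F508620) (tt N104051 F508621) (tt N103446 (iv5 F508625)) (tt N111082 F508626) (tt N97166 F508622))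
theorem Q118107 : ∀ i, i < 118107 → P i := stepQ 118106 Q118106 (allL N118106 (tt N103280 F508631) (tt N99715 F508632) (tt N103446 F508627) (tt N93141 F508628) (tt N115410 F508630) (tt N93140 (iv5 D221365)) (tt N112399 F508633) (tt N103447 F508629))
theorem Q118108 : ∀ i, i < 118108 → P i := stepQ 118107 Q118107 (allL N118107 (tt N103991 F508638) (tt N115717 (iv0 F508639)) (tt N111082 F508634) (tt N93142 F508635) (tt N118097 F508636) (tt N122631 D225890) (tt N93140 (iv6 D221366)) (tt N97169 F508637))
theorem Q118109 : ∀ i, i < 118109 → P i := stepQ 118108 Q118108 (allL N118108 (tt N115937 F508644) (tt N119222 (iv0 F514449)) (tt N101566 F508640) (tt N122631 (iv3 F533278)) (tt N101562 F508641) (tt N93142 (iv5 D221367)) (tt N111887 F508642) (tt N115910 F508643))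
theorem Q118110 : ∀ i, i < 118110 → P i := stepQ 118109 Q118109 (allL N118109 (tt N115489 (iv1 F508650)) (tt N115743 F508651) (tt N111085 F508645) (tt N97169 F508646) (tt N93145 F508647) (tt N115910 F508648) (tt N97167 F508649) (tt N93142 (iv7 D221368)))
theorem Q118111 : ∀ i, i < 118111 → P i := stepQ 118110 Q118110 (allL N118110 (tt N105483 (iv1 F508657)) (tt N108321 F508658) (tt N114820 F508652) (tt N98284 F508653) (tt N114813 F508654) (tt N113120 F508655) (tt N105694 F508656) (tt N93147 (iv7 D221369)))
theorem Q118112 : ∀ i, i < 118112 → P i := stepQ 118111 Q118111 (allL N118111 (tt N111084 (iv1 F508663)) (tt N93148 (iv0 D221370)) (tt N94015 (iv2 F508662)) (tt N119255 (iv3 F514653)) (tt N94014 F508660) (tt N117646 F508659) (tt N104035 F508661) (tt N114707 F508664))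
theorem Q118113 : ∀ i, i < 118113 → P i := stepQ 118112 Q118112 (allL N118112 (tt N108961 F508669) (tt N117672 (iv0 F508670)) (tt N103339 F508665) (tt N93164 (iv3 D221371)) (tt N98019 F508666) (tt N108643 F508667) (tt N119236 (iv6 F514535)) (tt N103336 F508668))
theorem Q118114 : ∀ i, i < 118114 → P i := stepQ 118113 Q118113 (allL N118113 (tt N93984 F508676) (tt N93983 F508677) (tt N93985 F508671) (tt N93196 F508672) (tt N104274 F508673) (tt N93169 (iv5 D221372)) (tt N98059 F508674) (tt N93171 F508675))
theorem Q118115 : ∀ i, i < 118115 → P i := stepQ 118114 Q118114 (allL N118114 (tt N93188 F508683) (tt N115169 (iv0 F508684)) (tt N115182 F508678) (tt N111716 F508679) (tt N104918 F508680) (tt N115289 F508681) (tt N93174 (iv6 D221373)) (tt N115252 F508682))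
theorem Q118116 : ∀ i, i < 118116 → P i := stepQ 118115 Q118115 (allL N118115 (tt N116066 F508686) (tt N116067 F508687) (tt N104414 F508685) (tt N120787 (iv3 F522711)) (tt N119384 (iv4 F515346)) (tt N93179 (iv5 D221374)) (tt N119384 (iv6 F515348)) (tt N120787 (iv7 F522714)))
theorem Q118117 : ∀ i, i < 118117 → P i := stepQ 118116 Q118116 (allL N118116 (tt N118068 F508689) (tt N118066 F508690) (tt N120966 F523754) (tt N118954 (iv3 F512952)) (tt N93180 (iv4 D221375)) (tt N121418 (iv5 F526247)) (tt N120966 F523755) (tt N104412 F508688))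
theorem Q118118 : ∀ i, i < 118118 → P i := stepQ 118117 Q118117 (allL N118117 (tt N115252 F508696) (tt N115182 F508697) (tt N93188 F508691) (tt N115170 F508692) (tt N93187 (iv4 D221376)) (tt N97312 F508693) (tt N115329 F508694) (tt N115169 F508695))
theorem Q118119 : ∀ i, i < 118119 → P i := stepQ 118118 Q118118 (allL N118118 (tt N104403 (iv1 F508704)) (tt N104293 F508703) (tt N93190 (iv2 D221377)) (tt N93217 F508698) (tt N104343 F508699) (tt N110857 F508700) (tt N93216 F508701) (tt N104404 F508702))
theorem Q118120 : ∀ i, i < 118120 → P i := stepQ 118119 Q118119 (allL N118119 (tt N119500 F515931) (tt N103689 F508710) (tt N103292 F508705) (tt N104640 F508706) (tt N93223 (iv4 D221378)) (tt N115017 F508707) (tt N98066 F508708) (tt N103291 F508709))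
theorem Q118121 : ∀ i, i < 118121 → P i := stepQ 118120 Q118120 (allL N118120 (tt N93230 (iv1 F508715)) (tt N93227 (iv0 D221379)) (tt N102580 (iv2 F508714)) (tt N102582 F508713) (tt N97748 F508712) (tt N102580 F508711) (tt N108862 (iv6 F508717)) (tt N102595 F508716))
theorem Q118122 : ∀ i, i < 118122 → P i := stepQ 118121 Q118121 (allL N118121 (tt N113819 (iv1 F508722)) (tt N116256 F508723) (tt N103920 F508718) (tt N102602 F508719) (tt N93231 F508720) (tt N121194 (iv5 F525062)) (tt N93230 (iv6 D221380)) (tt N116255 F508721))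
theorem Q118123 : ∀ i, i < 118123 → P i := stepQ 118122 Q118122 (allL N118122 (tt N93231 (iv1 D221381)) (tt N103384 F508724) (tt N102078 F508729) (tt N103387 (iv3 F508727)) (tt N105760 F508726) (tt N120615 (iv5 F521772)) (tt N93240 (iv6 F508728)) (tt N103385 F508725))
theorem Q118124 : ∀ i, i < 118124 → P i := stepQ 118123 Q118123 (allL N118123 (tt N102078 (iv1 F508735)) (tt N103385 F508736) (tt N103384 F508730) (tt N107081 F508731) (tt N116255 F508732) (tt N102930 F508733) (tt N103372 F508734) (tt N93231 (iv7 D221382)))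
theorem Q118125 : ∀ i, i < 118125 → P i := stepQ 118124 Q118124 (allL N118124 (tt N120853 F523096) (tt N120899 (iv0 F523362)) (tt N120978 (iv2 F523825)) (tt N120630 (iv3 F521849)) (tt N121823 (iv4 F528530)) (tt N93236 (iv5 D221383)) (tt N122632 D225891) (tt N120984 (iv7 F523862)))
theorem Q118126 : ∀ i, i < 118126 → P i := stepQ 118125 Q118125 (allL N118125 (tt N120899 (iv1 F523363)) (tt N120853 (iv0 F523095)) (tt N120984 (iv2 F523858)) (tt N94634 F508737) (tt N101796 F508738) (tt N93237 (iv5 D221384)) (tt N120984 (iv6 F523861)) (tt N120978 (iv7 F523827)))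
theorem Q118127 : ∀ i, i < 118127 → P i := stepQ 118126 Q118126 (allL N118126 (tt N93241 (iv1 F508742)) (tt N93238 (iv0 D221385)) (tt N121051 (iv2 F524245)) (tt N120681 (iv3 F522111)) (tt N108905 F508740) (tt N117969 F508739) (tt N108881 F508741) (tt N121050 F524238))
theorem Q118128 : ∀ i, i < 118128 → P i := stepQ 118127 Q118127 (allL N118127 (tt N93238 (iv1 D221386)) (tt N93241 F508743) (tt N121050 F524237) (tt N94638 (iv3 F508745)) (tt N115020 F508746) (tt N105122 F508744) (tt N118749 (iv6 F511874)) (tt N121051 (iv7 F524240)))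
theorem Q118129 : ∀ i, i < 118129 → P i := stepQ 118128 Q118128 (allL N118128 (tt N98032 (iv1 F508751)) (tt N93239 (iv0 D221387)) (tt N116257 (iv2 F508750)) (tt N120638 (iv3 F521893)) (tt N98016 F508748) (tt N98601 F508747) (tt N116256 F508749) (tt N117976 F508752))
theorem Q118130 : ∀ i, i < 118130 → P i := stepQ 118129 Q118129 (allL N118129 (tt N113141 (iv1 F508756)) (tt N93242 (iv0 D221388)) (tt N113140 (iv2 F508755)) (tt N120696 (iv3 F522202)) (tt N112858 F508754) (tt N102502 F508753) (tt N117979 (iv6 F508758)) (tt N109448 F508757))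
theorem Q118131 : ∀ i, i < 118131 → P i := stepQ 118130 Q118130 (allL N118130 (tt N97639 F508765) (tt N104779 F508764) (tt N112490 F508759) (tt N93249 F508760) (tt N97404 F508763) (tt N93248 (iv5 D221389)) (tt N112284 F508761) (tt N97401 F508762))
theorem Q118132 : ∀ i, i < 118132 → P i := stepQ 118131 Q118131 (allL N118131 (tt N93254 (iv1 D221390)) (tt N111061 F508766) (tt N111384 F508771) (tt N111449 (iv3 F508769)) (tt N111113 F508768) (tt N122062 (iv5 F529933)) (tt N112153 (iv6 F508770)) (tt N112407 F508767))
theorem Q118133 : ∀ i, i < 118133 → P i := stepQ 118132 Q118132 (allL N118132 (tt N115895 F508774) (tt N119127 (iv0 F513933)) (tt N122107 (iv2 F530206)) (tt N93255 F508772) (tt N120353 (iv4 F520335)) (tt N93254 (iv5 D221391)) (tt N95250 F508773) (tt N119197 (iv7 F514314)))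
theorem Q118134 : ∀ i, i < 118134 → P i := stepQ 118133 Q118133 (allL N118133 (tt N96583 F508779) (tt N96586 F508780) (tt N97764 F508775) (tt N122482 (iv3 F532391)) (tt N93255 (iv4 D221392)) (tt N105263 F508776) (tt N95254 F508777) (tt N105262 F508778))
theorem Q118135 : ∀ i, i < 118135 → P i := stepQ 118134 Q118134 (allL N118134 (tt N110995 F508786) (tt N115348 (iv0 F508787)) (tt N112533 F508781) (tt N93257 F508782) (tt N106942 F508783) (tt N101508 F508784) (tt N93256 (iv6 D221393)) (tt N112535 F508785))
theorem Q118136 : ∀ i, i < 118136 → P i := stepQ 118135 Q118135 (allL N118135 (tt N93262 (iv1 D221394)) (tt N99331 F508788) (tt N99330 F508793) (tt N114933 (iv3 F508792)) (tt N116668 (iv4 F508791)) (tt N96630 F508790) (tt N97031 (iv6 F508794)) (tt N99313 F508789))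
theorem Q118137 : ∀ i, i < 118137 → P i := stepQ 118136 Q118136 (allL N118136 (tt N98927 F508800) (tt N106078 F508801) (tt N99482 F508795) (tt N94393 F508796) (tt N93275 (iv4 D221395)) (tt N98882 F508797) (tt N111538 F508798) (tt N99479 F508799))
theorem Q118138 : ∀ i, i < 118138 → P i := stepQ 118137 Q118137 (allL N118137 (tt N119303 (iv1 F514935)) (tt N111612 (iv0 F508806)) (tt N110490 F508802) (tt N93277 F508803) (tt N99861 F508805) (tt N93276 (iv5 D221396)) (tt N121327 (iv6 F525783)) (tt N99492 F508804))
theorem Q118139 : ∀ i, i < 118139 → P i := stepQ 118138 Q118138 (allL N118138 (tt N93884 F508811) (tt N120426 (iv0 F520722)) (tt N99488 F508807) (tt N121327 (iv3 F525782)) (tt N98825 F508808) (tt N101053 F508809) (tt N93277 (iv6 D221397)) (tt N101339 F508810))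
theorem Q118140 : ∀ i, i < 118140 → P i := stepQ 118139 Q118139 (allL N118139 (tt N93317 (iv1 F508816)) (tt N93324 F508815) (tt N93279 (iv2 D221398)) (tt N99491 F508812) (tt N93671 F508813) (tt N118349 (iv5 F509845)) (tt N118751 (iv6 F511885)) (tt N93323 F508814))
theorem Q118141 : ∀ i, i < 118141 → P i := stepQ 118140 Q118140 (allL N118140 (tt N93608 F508819) (tt N118348 (iv0 F509841)) (tt N118349 F509847) (tt N93280 F508817) (tt N121595 (iv4 F527228)) (tt N93279 (iv5 D221399)) (tt N120388 (iv6 F520525)) (tt N99486 F508818))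
theorem Q118142 : ∀ i, i < 118142 → P i := stepQ 118141 Q118141 (allL N118141 (tt N116662 F508825) (tt N116455 (iv0 F508826)) (tt N94544 F508820) (tt N93284 F508821) (tt N95956 F508822) (tt N94533 F508823) (tt N93281 (iv6 D221400)) (tt N117110 F508824))
theorem Q118143 : ∀ i, i < 118143 → P i := stepQ 118142 Q118142 (allL N118142 (tt N116276 F508831) (tt N120859 (iv0 F523126)) (tt N109389 F508827) (tt N103854 F508828) (tt N93283 (iv4 D221401)) (tt N119494 (iv5 F515894)) (tt N116882 F508829) (tt N116911 F508830))
theorem Q118144 : ∀ i, i < 118144 → P i := stepQ 118143 Q118143 (allL N118143 (tt N120769 F522618) (tt N120894 (iv0 F523334)) (tt N118701 (iv2 F511618)) (tt N96121 F508832) (tt N93289 (iv4 D221402)) (tt N107013 F508833) (tt N121012 (iv6 F524008)) (tt N118700 (iv7 F511615)))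
theorem Q118145 : ∀ i, i < 118145 → P i := stepQ 118144 Q118144 (allL N118144 (tt N120822 (iv1 F522922)) (tt N93291 (iv0 D221403)) (tt N107805 (iv2 F508837)) (tt N98692 F508836) (tt N107803 F508835) (tt N116277 F508834) (tt N122606 (iv6 F533133)) (tt N119534 (iv7 F516109)))
theorem Q118146 : ∀ i, i < 118146 → P i := stepQ 118145 Q118145 (allL N118145 (tt N107075 (iv1 F508844)) (tt N107074 F508843) (tt N107076 F508838) (tt N97409 F508839) (tt N106088 F508840) (tt N93293 (iv5 D221404)) (tt N108914 F508841) (tt N106087 F508842))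
theorem Q118147 : ∀ i, i < 118147 → P i := stepQ 118146 Q118146 (allL N118146 (tt N93892 F508849) (tt N103158 F508850) (tt N103156 F508845) (tt N117556 F508846) (tt N117491 F508851) (tt N93297 (iv5 D221405)) (tt N93883 F508847) (tt N103157 F508848))
theorem Q118148 : ∀ i, i < 118148 → P i := stepQ 118147 Q118147 (allL N118147 (tt N103158 F508856) (tt N93892 F508857) (tt N103157 F508852) (tt N93563 F508853) (tt N117490 F508858) (tt N93298 (iv5 D221406)) (tt N108922 F508854) (tt N103156 F508855))
theorem Q118149 : ∀ i, i < 118149 → P i := stepQ 118148 Q118148 (allL N118148 (tt N93632 (iv1 F508863)) (tt N93635 F508864) (tt N93634 F508859) (tt N99085 F508860) (tt N93302 F508861) (tt N102702 F508862) (tt N121124 (iv6 F524636)) (tt N93301 (iv7 D221407)))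
theorem Q118150 : ∀ i, i < 118150 → P i := stepQ 118149 Q118149 (allL N118149 (tt N96601 F508870) (tt N96668 F508871) (tt N95722 F508865) (tt N96671 F508866) (tt N93305 (iv4 D221408)) (tt N107898 F508867) (tt N96714 F508868) (tt N96675 F508869))
theorem Q118151 : ∀ i, i < 118151 → P i := stepQ 118150 Q118150 (allL N118150 (tt N100831 F508875) (tt N112020 (iv0 F508876)) (tt N106936 F508872) (tt N120767 (iv3 F522600)) (tt N119215 (iv4 F514406)) (tt N100827 F508873) (tt N93306 (iv6 D221409)) (tt N95052 F508874))
theorem Q118152 : ∀ i, i < 118152 → P i := stepQ 118151 Q118151 (allL N118151 (tt N100834 F508882) (tt N112023 F508883) (tt N107219 F508877) (tt N114284 F508878) (tt N95169 F508879) (tt N96578 F508880) (tt N93308 (iv6 D221410)) (tt N95126 F508881))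
theorem Q118153 : ∀ i, i < 118153 → P i := stepQ 118152 Q118152 (allL N118152 (tt N93399 F508888) (tt N111542 F508889) (tt N111541 F508884) (tt N115564 F508885) (tt N93310 (iv4 D221411)) (tt N118797 (iv5 F512126)) (tt N93314 F508886) (tt N111540 F508887))
theorem Q118154 : ∀ i, i < 118154 → P i := stepQ 118153 Q118153 (allL N118153 (tt N119876 (iv1 F517830)) (tt N120017 (iv0 F518581)) (tt N110854 F508890) (tt N116855 F508891) (tt N108203 F508892) (tt N116853 F508893) (tt N93312 (iv6 D221412)) (tt N116852 F508894))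
theorem Q118155 : ∀ i, i < 118155 → P i := stepQ 118154 Q118154 (allL N118154 (tt N107673 F508899) (tt N108219 (iv0 F508900)) (tt N108755 F508895) (tt N93313 (iv3 D221413)) (tt N99723 F508901) (tt N94507 F508896) (tt N116362 F508897) (tt N110853 F508898))
theorem Q118156 : ∀ i, i < 118156 → P i := stepQ 118155 Q118155 (allL N118155 (tt N122026 (iv1 F529718)) (tt N121595 (iv0 F527231)) (tt N96116 F508902) (tt N101776 F508903) (tt N108983 F508905) (tt N93320 (iv5 D221414)) (tt N107823 F508904) (tt N101772 (iv7 F508906)))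
theorem Q118157 : ∀ i, i < 118157 → P i := stepQ 118156 Q118156 (allL N118156 (tt N96115 (iv1 F508912)) (tt N96114 F508913) (tt N96117 F508907) (tt N101775 F508908) (tt N93324 F508909) (tt N101772 F508910) (tt N108210 F508911) (tt N93320 (iv7 D221415)))
theorem Q118158 : ∀ i, i < 118158 → P i := stepQ 118157 Q118157 (allL N118157 (tt N118348 (iv1 F509842)) (tt N93608 (iv0 F508917)) (tt N99486 F508914) (tt N110490 F508915) (tt N122026 (iv4 F529714)) (tt N93323 (iv5 D221416)) (tt N108899 F508916) (tt N118349 (iv7 F509844)))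
theorem Q118159 : ∀ i, i < 118159 → P i := stepQ 118158 Q118158 (allL N118158 (tt N110851 (iv1 F508921)) (tt N115956 F508922) (tt N108211 F508918) (tt N115107 F508919) (tt N122123 (iv4 F530305)) (tt N93335 F508920) (tt N122165 (iv6 F530530)) (tt N93334 (iv7 D221417)))
theorem Q118160 : ∀ i, i < 118160 → P i := stepQ 118159 Q118159 (allL N118159 (tt N93726 (iv1 F508927)) (tt N93338 (iv0 D221418)) (tt N119057 F513546) (tt N93350 F508925) (tt N110266 F508924) (tt N108891 F508923) (tt N94876 F508926) (tt N112824 F508928))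
theorem Q118161 : ∀ i, i < 118161 → P i := stepQ 118160 Q118160 (allL N118160 (tt N118751 (iv1 F511888)) (tt N107226 (iv0 F508933)) (tt N111997 F508929) (tt N110479 F508930) (tt N118807 (iv4 F512177)) (tt N101142 F508931) (tt N93339 (iv6 D221419)) (tt N111996 F508932))
theorem Q118162 : ∀ i, i < 118162 → P i := stepQ 118161 Q118161 (allL N118161 (tt N105205 F508936) (tt N114553 F508937) (tt N93343 F508934) (tt N119160 (iv3 F514113)) (tt N93342 (iv4 D221420)) (tt N107067 F508935) (tt N120622 (iv6 F521814)) (tt N121127 (iv7 F524654)))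
theorem Q118163 : ∀ i, i < 118163 → P i := stepQ 118162 Q118162 (allL N118162 (tt N100624 (iv1 F508942)) (tt N94964 (iv0 F508941)) (tt N93344 F508938) (tt N119162 (iv3 F514125)) (tt N120622 (iv4 F521811)) (tt N101402 F508939) (tt N93342 (iv6 D221421)) (tt N117305 F508940))
theorem Q118164 : ∀ i, i < 118164 → P i := stepQ 118163 Q118163 (allL N118163 (tt N121127 (iv1 F524656)) (tt N93343 (iv0 D221422)) (tt N105205 (iv2 F508944)) (tt N118000 F508945) (tt N114555 F508943) (tt N120821 (iv5 F522916)) (tt N105201 F508946) (tt N114553 F508947))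
theorem Q118165 : ∀ i, i < 118165 → P i := stepQ 118164 Q118164 (allL N118164 (tt N111188 F508951) (tt N120661 (iv0 F522025)) (tt N120622 (iv2 F521810)) (tt N94967 F508948) (tt N93344 F508949) (tt N102534 F508950) (tt N93343 (iv6 D221423)) (tt N118658 (iv7 F511386)))
theorem Q118166 : ∀ i, i < 118166 → P i := stepQ 118165 Q118165 (allL N118165 (tt N94964 (iv1 F508956)) (tt N100624 F508957) (tt N117305 F508952) (tt N93347 F508953) (tt N118658 (iv4 F511384)) (tt N101401 F508954) (tt N117009 F508955) (tt N93344 (iv7 D221424)))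
theorem Q118167 : ∀ i, i < 118167 → P i := stepQ 118166 Q118166 (allL N118166 (tt N94705 F508963) (tt N95074 F508964) (tt N95072 F508958) (tt N108891 F508959) (tt N110108 F508960) (tt N93350 (iv5 D221425)) (tt N108889 F508961) (tt N95071 F508962))
theorem Q118168 : ∀ i, i < 118168 → P i := stepQ 118167 Q118167 (allL N118167 (tt N93690 F508969) (tt N93682 F508970) (tt N93687 F508965) (tt N106121 F508966) (tt N93351 (iv4 D221426)) (tt N93592 (iv5 F508971)) (tt N94944 F508967) (tt N93688 F508968))
theorem Q118169 : ∀ i, i < 118169 → P i := stepQ 118168 Q118168 (allL N118168 (tt N108468 F508977) (tt N108467 F508978) (tt N99614 F508972) (tt N101641 F508973) (tt N93369 (iv4 D221427)) (tt N101643 F508974) (tt N101458 F508975) (tt N107684 F508976))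
theorem Q118170 : ∀ i, i < 118170 → P i := stepQ 118169 Q118169 (allL N118169 (tt N108669 (iv1 F508983)) (tt N101870 F508984) (tt N108670 F508979) (tt N101720 F508980) (tt N118201 (iv4 F509118)) (tt N108127 F508981) (tt N101879 F508982) (tt N93375 (iv7 D221428)))
theorem Q118171 : ∀ i, i < 118171 → P i := stepQ 118170 Q118170 (allL N118170 (tt N116545 F508989) (tt N122575 F532937) (tt N101642 F508985) (tt N100421 F508986) (tt N93383 (iv4 D221429)) (tt N109521 F508988) (tt N95221 F508987) (tt N120207 (iv7 F519596)))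
theorem Q118172 : ∀ i, i < 118172 → P i := stepQ 118171 Q118171 (allL N118171 (tt N94386 (iv1 F508996)) (tt N93392 (iv0 D221430)) (tt N94383 (iv2 F508993)) (tt N94273 F508992) (tt N110646 F508991) (tt N117902 F508990) (tt N108765 F508994) (tt N94384 F508995))
theorem Q118173 : ∀ i, i < 118173 → P i := stepQ 118172 Q118172 (allL N118172 (tt N94384 (iv1 F509001)) (tt N94383 F509002) (tt N94386 F508997) (tt N107844 F508998) (tt N110606 F508999) (tt N121313 (iv5 F525704)) (tt N94382 F509000) (tt N93392 (iv7 D221431)))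
theorem Q118174 : ∀ i, i < 118174 → P i := stepQ 118173 Q118173 (allL N118173 (tt N118341 F509800) (tt N118347 F509835) (tt N110948 F509003) (tt N93396 F509004) (tt N119064 (iv4 F513588)) (tt N119061 (iv5 F513572)) (tt N93394 (iv6 D221432)) (tt N119063 (iv7 F513585)))
theorem Q118175 : ∀ i, i < 118175 → P i := stepQ 118174 Q118174 (allL N118174 (tt N102311 F509009) (tt N102306 F509010) (tt N118289 (iv2 F509545)) (tt N102655 F509005) (tt N93396 F509006) (tt N93700 F509007) (tt N93395 (iv6 D221433)) (tt N118041 F509008))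
theorem Q118176 : ∀ i, i < 118176 → P i := stepQ 118175 Q118175 (allL N118175 (tt N110657 F509014) (tt N120273 (iv0 F519956)) (tt N118490 (iv2 F510653)) (tt N108726 F509011) (tt N93398 (iv4 D221434)) (tt N93688 F509013) (tt N120611 (iv6 F521746)) (tt N93592 F509012))
theorem Q118177 : ∀ i, i < 118177 → P i := stepQ 118176 Q118176 (allL N118176 (tt N95666 F509021) (tt N107867 F509020) (tt N94881 F509015) (tt N112306 F509016) (tt N94676 F509017) (tt N93398 (iv5 D221435)) (tt N94681 F509018) (tt N93593 F509019))
theorem Q118178 : ∀ i, i < 118178 → P i := stepQ 118177 Q118177 (allL N118177 (tt N100556 F509024) (tt N108194 F509025) (tt N112859 F509022) (tt N122080 (iv3 F530040)) (tt N120994 (iv4 F523914)) (tt N93400 (iv5 D221436)) (tt N108192 F509023) (tt N119198 (iv7 F514320)))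
theorem Q118179 : ∀ i, i < 118179 → P i := stepQ 118178 Q118178 (allL N118178 (tt N93401 (iv1 D221437)) (tt N94907 F509026) (tt N96383 (iv2 F509028)) (tt N122071 (iv3 F529986)) (tt N122565 (iv4 F532878)) (tt N96377 F509027) (tt N121670 (iv6 F527645)) (tt N120498 (iv7 F521094)))
theorem Q118180 : ∀ i, i < 118180 → P i := stepQ 118179 Q118179 (allL N118179 (tt N119570 (iv1 F516313)) (tt N122326 (iv0 F531439)) (tt N120575 (iv2 F521534)) (tt N120499 (iv3 F521101)) (tt N93401 (iv4 D221438)) (tt N119532 (iv5 F516100)) (tt N93404 F509029) (tt N120499 (iv7 F521102)))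
theorem Q118181 : ∀ i, i < 118181 → P i := stepQ 118180 Q118180 (allL N118180 (tt N118259 (iv1 F509408)) (tt N94429 F509032) (tt N120566 F521492) (tt N116007 F509030) (tt N93402 (iv4 D221439)) (tt N120979 (iv5 F523835)) (tt N117047 F509031) (tt N120567 (iv7 F521495)))
theorem Q118182 : ∀ i, i < 118182 → P i := stepQ 118181 Q118181 (allL N118181 (tt N118384 F510066) (tt N115573 (iv0 F509034)) (tt N118937 (iv2 F512844)) (tt N93403 (iv3 D221440)) (tt N95388 (iv4 F509038)) (tt N119081 F513689) (tt N95391 F509037) (tt N120742 (iv7 F522463)))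
theorem Q118183 : ∀ i, i < 118183 → P i := stepQ 118182 Q118182 (allL N118182 (tt N94429 F509033) (tt N118259 (iv0 F509407)) (tt N120567 F521498) (tt N122358 (iv3 F531618)) (tt N93403 (iv4 D221441)) (tt N120980 (iv5 F523840)) (tt N122608 (iv6 F533147)) (tt N120566 F521493))
theorem Q118184 : ∀ i, i < 118184 → P i := stepQ 118183 Q118183 (allL N118183 (tt N118386 F510078) (tt N120500 (iv0 F521111)) (tt N119483 (iv2 F515844)) (tt N95391 (iv3 F509036)) (tt N122608 (iv4 F533145)) (tt N93560 F509035) (tt N93403 (iv6 D221442)) (tt N119481 (iv7 F515836)))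
theorem Q118185 : ∀ i, i < 118185 → P i := stepQ 118184 Q118184 (allL N118184 (tt N117933 (iv1 F509040)) (tt N93404 (iv0 D221443)) (tt N118612 (iv2 F511154)) (tt N103941 (iv3 F511160)) (tt N93675 F509039) (tt N120629 (iv5 F521845)) (tt N117937 (iv6 F509041)) (tt N118614 (iv7 F511168)))
theorem Q118186 : ∀ i, i < 118186 → P i := stepQ 118185 Q118185 (allL N118185 (tt N93404 (iv1 D221444)) (tt N117933 F509042) (tt N118614 (iv2 F511167)) (tt N117651 (iv3 F509044)) (tt N101930 F509043) (tt N120797 (iv5 F522773)) (tt N122522 (iv6 F532626)) (tt N118612 (iv7 F511157)))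
theorem Q118187 : ∀ i, i < 118187 → P i := stepQ 118186 Q118186 (allL N118186 (tt N122522 (iv1 F532629)) (tt N115447 (iv0 F509045)) (tt N121668 (iv2 F527637)) (tt N93404 (iv3 D221445)) (tt N120500 (iv4 F521108)) (tt N119440 F515640) (tt N120499 F521105) (tt N121660 (iv7 F527601)))
theorem Q118188 : ∀ i, i < 118188 → P i := stepQ 118187 Q118187 (allL N118187 (tt N93532 (iv1 F509049)) (tt N93405 (iv0 D221446)) (tt N93534 (iv2 F509048)) (tt N116963 F509047) (tt N116968 F509046) (tt N122129 (iv5 F530339)) (tt N116961 (iv6 F509051)) (tt N93533 F509050))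
theorem Q118189 : ∀ i, i < 118189 → P i := stepQ 118188 Q118188 (allL N118188 (tt N118361 (iv1 F509919)) (tt N120522 F521238) (tt N112222 F509052) (tt N93406 F509053) (tt N112232 (iv4 F509056)) (tt N93405 (iv5 D221447)) (tt N115034 F509054) (tt N93535 F509055))
theorem Q118190 : ∀ i, i < 118190 → P i := stepQ 118189 Q118189 (allL N118189 (tt N122633 D225892) (tt N122633 F533292) (tt N108896 F509057) (tt N115034 F509058) (tt N120985 (iv4 F523866)) (tt N108906 F509059) (tt N93406 (iv6 D221448)) (tt N108896 F509060))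
theorem Q118191 : ∀ i, i < 118191 → P i := stepQ 118190 Q118190 (allL N118190 (tt N110558 F509063) (tt N117523 F509062) (tt N120574 (iv2 F521528)) (tt N93412 F509061) (tt N121296 (iv4 F525609)) (tt N93411 (iv5 D221449)) (tt N120453 (iv6 F520867)) (tt N118441 (iv7 F510372)))
theorem Q118192 : ∀ i, i < 118192 → P i := stepQ 118191 Q118191 (allL N118191 (tt N109171 F509065) (tt N118247 (iv0 F509351)) (tt N118438 (iv2 F510354)) (tt N98534 (iv3 F509066)) (tt N93412 (iv4 D221450)) (tt N118995 (iv5 F513173)) (tt N117769 F509064) (tt N118442 (iv7 F510377)))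
theorem Q118193 : ∀ i, i < 118193 → P i := stepQ 118192 Q118192 (allL N118192 (tt N96032 (iv1 F509071)) (tt N96041 F509070) (tt N93413 (iv2 D221451)) (tt N118440 (iv3 F510366)) (tt N107192 F509067) (tt N122453 (iv5 F532204)) (tt N109479 F509068) (tt N96039 F509069))
theorem Q118194 : ∀ i, i < 118194 → P i := stepQ 118193 Q118193 (allL N118193 (tt N118374 (iv1 F510004)) (tt N110467 (iv0 F509074)) (tt N122453 (iv2 F532201)) (tt N93414 F509072) (tt N121189 (iv4 F525036)) (tt N93413 (iv5 D221452)) (tt N110550 F509073) (tt N118437 (iv7 F510351)))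
theorem Q118195 : ∀ i, i < 118195 → P i := stepQ 118194 Q118194 (allL N118194 (tt N96040 F509079) (tt N105512 (iv0 F509080)) (tt N113651 F509075) (tt N93415 (iv3 D221453)) (tt N113645 F509076) (tt N93862 F509077) (tt N113644 F509081) (tt N93861 F509078))
theorem Q118196 : ∀ i, i < 118196 → P i := stepQ 118195 Q118195 (allL N118195 (tt N121060 F524296) (tt N121060 (iv0 F524295)) (tt N108883 F509082) (tt N113644 F509083) (tt N116341 F509084) (tt N108864 F509085) (tt N93415 (iv6 D221454)) (tt N108883 F509086))
theorem Q118197 : ∀ i, i < 118197 → P i := stepQ 118196 Q118196 (allL N118196 (tt N104525 F509090) (tt N118379 (iv0 F510034)) (tt N98612 F509087) (tt N98671 F509088) (tt N93419 (iv4 D221455)) (tt N119283 (iv5 F514814)) (tt N104494 (iv6 F509091)) (tt N98667 F509089))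
theorem Q118198 : ∀ i, i < 118198 → P i := stepQ 118197 Q118197 (allL N118197 (tt N121823 (iv1 F528533)) (tt N101796 (iv0 F509096)) (tt N106152 F509092) (tt N122048 (iv3 F529843)) (tt N104494 F509093) (tt N93728 F509094) (tt N93419 (iv6 D221456)) (tt N106153 F509095))
theorem Q118199 : ∀ i, i < 118199 → P i := stepQ 118198 Q118198 (allL N118198 (tt N108677 (iv1 F509102)) (tt N93432 (iv0 D221457)) (tt N108675 (iv2 F509099)) (tt N111994 F509100) (tt N93838 F509097) (tt N121451 (iv5 F526449)) (tt N93837 F509098) (tt N108676 F509101))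
theorem Q118200 : ∀ i, i < 118200 → P i := stepQ 118199 Q118199 (allL N118199 (tt N108676 (iv1 F509108)) (tt N108675 F509109) (tt N108677 F509103) (tt N101142 F509104) (tt N103353 F509105) (tt N110479 F509106) (tt N108673 F509107) (tt N93432 (iv7 D221458)))
theorem Q118201 : ∀ i, i < 118201 → P i := stepQ 118200 Q118200 (allL N118200 (tt N93434 (iv1 D221459)) (tt N108673 F509110) (tt N108672 F509115) (tt N101521 (iv3 F509114)) (tt N107904 F509112) (tt N110896 F509113) (tt N101560 F509116) (tt N93828 F509111))
theorem Q118202 : ∀ i, i < 118202 → P i := stepQ 118201 Q118201 (allL N118201 (tt N108672 (iv1 F509120)) (tt N93828 F509121) (tt N108673 F509117) (tt N119582 (iv3 F516374)) (tt N118169 F509118) (tt N119056 (iv5 F513538)) (tt N108677 F509119) (tt N93434 (iv7 D221460)))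
theorem Q118203 : ∀ i, i < 118203 → P i := stepQ 118202 Q118202 (allL N118202 (tt N108686 F509124) (tt N96454 F509125) (tt N94761 F509122) (tt N119190 F514279) (tt N119211 (iv4 F514383)) (tt N93435 (iv5 D221461)) (tt N122634 D225893) (tt N94755 F509123))
theorem Q118204 : ∀ i, i < 118204 → P i := stepQ 118203 Q118203 (allL N118203 (tt N96454 F509130) (tt N108686 F509131) (tt N94755 F509126) (tt N96426 F509127) (tt N119212 (iv4 F514391)) (tt N93436 (iv5 D221462)) (tt N94755 F509128) (tt N94761 F509129))
theorem Q118205 : ∀ i, i < 118205 → P i := stepQ 118204 Q118204 (allL N118204 (tt N93437 (iv1 D221463)) (tt N118784 (iv0 F512051)) (tt N119040 (iv2 F513440)) (tt N105027 (iv3 F509132)) (tt N119028 (iv4 F513367)) (tt N94812 (iv5 F509133)) (tt N120882 (iv6 F523265)) (tt N119039 F513435))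
theorem Q118206 : ∀ i, i < 118206 → P i := stepQ 118205 Q118205 (allL N118205 (tt N96389 F509136) (tt N96386 F509137) (tt N119041 (iv2 F513443)) (tt N121127 (iv3 F524652)) (tt N93437 (iv4 D221464)) (tt N109125 F509135) (tt N93438 F509134) (tt N119160 (iv7 F514115)))
theorem Q118207 : ∀ i, i < 118207 → P i := stepQ 118206 Q118206 (allL N118206 (tt N109177 F509141) (tt N109179 F509142) (tt N115398 (iv2 F509143)) (tt N93438 (iv3 D221465)) (tt N116491 F509138) (tt N114368 F509139) (tt N121127 (iv6 F524653)) (tt N117304 F509140))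
theorem Q118208 : ∀ i, i < 118208 → P i := stepQ 118207 Q118207 (allL N118207 (tt N94890 F509148) (tt N93463 F509149) (tt N100752 F509144) (tt N93442 F509145) (tt N108279 F509147) (tt N93441 (iv5 D221466)) (tt N111602 F509146) (tt N119036 (iv7 F513411)))
theorem Q118209 : ∀ i, i < 118209 → P i := stepQ 118208 Q118208 (allL N118208 (tt N111672 F509154) (tt N103322 F509155) (tt N105872 F509150) (tt N111671 F509151) (tt N93442 (iv4 D221467)) (tt N103319 F509152) (tt N111926 F509156) (tt N111673 F509153))
theorem Q118210 : ∀ i, i < 118210 → P i := stepQ 118209 Q118209 (allL N118209 (tt N96542 F509161) (tt N94837 (iv0 F509162)) (tt N101120 F509157) (tt N111602 F509158) (tt N111926 F509159) (tt N118677 (iv5 F511490)) (tt N93442 (iv6 D221468)) (tt N112485 F509160))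
theorem Q118211 : ∀ i, i < 118211 → P i := stepQ 118210 Q118210 (allL N118210 (tt N94861 F509169) (tt N93446 (iv0 D221469)) (tt N108657 (iv2 F509167)) (tt N94819 F509165) (tt N94772 F509164) (tt N94818 F509163) (tt N98254 F509166) (tt N108658 (iv7 F509168)))
theorem Q118212 : ∀ i, i < 118212 → P i := stepQ 118211 Q118211 (allL N118211 (tt N93446 (iv1 D221470)) (tt N94861 F509170) (tt N108658 F509175) (tt N114773 (iv3 F509174)) (tt N94771 F509173) (tt N94846 F509172) (tt N105822 F509176) (tt N108657 F509171))
theorem Q118213 : ∀ i, i < 118213 → P i := stepQ 118212 Q118212 (allL N118212 (tt N108658 (iv1 F509182)) (tt N108657 F509183) (tt N94861 F509177) (tt N95680 F509178) (tt N104175 F509179) (tt N93447 F509180) (tt N113316 F509181) (tt N93446 (iv7 D221471)))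
theorem Q118214 : ∀ i, i < 118214 → P i := stepQ 118213 Q118213 (allL N118213 (tt N117301 F509189) (tt N117307 F509190) (tt N93452 F509184) (tt N101332 F509185) (tt N101916 F509186) (tt N101331 F509187) (tt N93450 (iv6 D221472)) (tt N117306 F509188))
theorem Q118215 : ∀ i, i < 118215 → P i := stepQ 118214 Q118214 (allL N118214 (tt N93452 (iv1 D221473)) (tt N117306 F509191) (tt N117307 (iv2 F509196)) (tt N107876 F509195) (tt N117303 (iv4 F509193)) (tt N119189 (iv5 F514269)) (tt N107874 (iv6 F509194)) (tt N117301 F509192))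
theorem Q118216 : ∀ i, i < 118216 → P i := stepQ 118215 Q118215 (allL N118215 (tt N117307 (iv1 F509202)) (tt N117301 F509203) (tt N117306 F509197) (tt N93458 F509198) (tt N115349 F509199) (tt N105738 F509200) (tt N117572 F509201) (tt N93452 (iv7 D221474)))
theorem Q118217 : ∀ i, i < 118217 → P i := stepQ 118216 Q118216 (allL N118216 (tt N100512 (iv1 F509208)) (tt N99476 (iv0 F509207)) (tt N110636 F509204) (tt N116626 F509205) (tt N93460 F509206) (tt N120424 (iv5 F520708)) (tt N93459 (iv6 D221475)) (tt N119897 (iv7 F517916)))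
theorem Q118218 : ∀ i, i < 118218 → P i := stepQ 118217 Q118217 (allL N118217 (tt N101962 F509214) (tt N101957 F509215) (tt N101960 F509209) (tt N109804 F509210) (tt N93463 (iv4 D221476)) (tt N116078 F509213) (tt N111077 F509211) (tt N101961 F509212))
theorem Q118219 : ∀ i, i < 118219 → P i := stepQ 118218 Q118218 (allL N118218 (tt N120345 (iv1 F520301)) (tt N120346 (iv0 F520307)) (tt N120511 (iv2 F521174)) (tt N94680 F509216) (tt N120506 (iv4 F521146)) (tt N93465 (iv5 D221477)) (tt N122024 (iv6 F529701)) (tt N94884 F509217))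
theorem Q118220 : ∀ i, i < 118220 → P i := stepQ 118219 Q118219 (allL N118219 (tt N101684 F509220) (tt N96062 F509222) (tt N118679 (iv2 F511502)) (tt N106772 F509218) (tt N117473 F509221) (tt N93466 (iv5 D221478)) (tt N110930 F509219) (tt N118243 (iv7 F509333)))
theorem Q118221 : ∀ i, i < 118221 → P i := stepQ 118220 Q118220 (allL N118220 (tt N115944 F509225) (tt N108892 F509224) (tt N118606 (iv2 F511128)) (tt N112275 F509223) (tt N122635 D225894) (tt N93470 (iv5 D221479)) (tt N119484 F515851) (tt N118607 (iv7 F511134)))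
theorem Q118222 : ∀ i, i < 118222 → P i := stepQ 118221 Q118221 (allL N118221 (tt N118611 (iv1 F511153)) (tt N93472 (iv0 D221480)) (tt N118608 F511138) (tt N120345 (iv3 F520297)) (tt N119570 (iv4 F516312)) (tt N112839 F509226) (tt N118608 (iv6 F511137)) (tt N118609 (iv7 F511143)))
theorem Q118223 : ∀ i, i < 118223 → P i := stepQ 118222 Q118222 (allL N118222 (tt N93472 (iv1 D221481)) (tt N118611 F511152) (tt N118609 F511145) (tt N111356 (iv3 F509228)) (tt N122326 (iv4 F531437)) (tt N111354 F509227) (tt N122499 (iv6 F532495)) (tt N118608 F511140))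
theorem Q118224 : ∀ i, i < 118224 → P i := stepQ 118223 Q118223 (allL N118223 (tt N119588 F516404) (tt N119142 (iv0 F514011)) (tt N118610 (iv2 F511146)) (tt N122487 (iv3 F532422)) (tt N93472 (iv4 D221482)) (tt N119574 (iv5 F516330)) (tt N101931 F509229) (tt N122636 D225895))
theorem Q118225 : ∀ i, i < 118225 → P i := stepQ 118224 Q118224 (allL N118224 (tt N118609 (iv1 F511142)) (tt N118608 (iv0 F511141)) (tt N118611 (iv2 F511150)) (tt N111396 F509230) (tt N122636 (iv4 F533308)) (tt N93473 F509231) (tt N122500 (iv6 F532500)) (tt N93472 (iv7 D221483)))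
theorem Q118226 : ∀ i, i < 118226 → P i := stepQ 118225 Q118225 (allL N118225 (tt N110936 (iv1 F509236)) (tt N115438 (iv0 F509235)) (tt N112143 F509232) (tt N109341 F509233) (tt N93483 F509234) (tt N119055 (iv5 F513530)) (tt N93482 (iv6 D221484)) (tt N118709 (iv7 F511672)))
theorem Q118227 : ∀ i, i < 118227 → P i := stepQ 118226 Q118226 (allL N118226 (tt N101339 F509240) (tt N99488 (iv0 F509242)) (tt N93884 F509237) (tt N108912 F509238) (tt N93496 F509239) (tt N95996 (iv5 F509241)) (tt N93495 (iv6 D221485)) (tt N120426 (iv7 F520721)))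
theorem Q118228 : ∀ i, i < 118228 → P i := stepQ 118227 Q118227 (allL N118227 (tt N99011 (iv1 F509247)) (tt N93496 (iv0 D221486)) (tt N98870 (iv2 F509246)) (tt N98913 F509249) (tt N93546 F509244) (tt N101351 F509243) (tt N101623 F509245) (tt N99009 F509248))
theorem Q118229 : ∀ i, i < 118229 → P i := stepQ 118228 Q118228 (allL N118228 (tt N101303 F509255) (tt N101300 F509256) (tt N99010 F509250) (tt N110701 F509251) (tt N96197 F509252) (tt N93496 (iv5 D221487)) (tt N96201 F509253) (tt N112557 F509254))
theorem Q118230 : ∀ i, i < 118230 → P i := stepQ 118229 Q118229 (allL N118229 (tt N99012 (iv1 F509260)) (tt N93501 (iv0 D221488)) (tt N99021 (iv2 F509259)) (tt N94372 (iv3 F509262)) (tt N93645 F509257) (tt N118280 (iv5 F509490)) (tt N94371 F509258) (tt N99020 F509261))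
theorem Q118231 : ∀ i, i < 118231 → P i := stepQ 118230 Q118230 (allL N118230 (tt N110725 F509265) (tt N110731 F509266) (tt N100478 F509263) (tt N122023 F529697) (tt N105653 (iv4 F509267)) (tt N93503 (iv5 D221489)) (tt N121628 (iv6 F527423)) (tt N110730 F509264))
theorem Q118232 : ∀ i, i < 118232 → P i := stepQ 118231 Q118231 (allL N118231 (tt N110731 F509271) (tt N110725 F509272) (tt N110730 F509268) (tt N99970 F509269) (tt N105654 F509273) (tt N93504 (iv5 D221490)) (tt N120493 (iv6 F521064)) (tt N100478 F509270))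
theorem Q118233 : ∀ i, i < 118233 → P i := stepQ 118232 Q118232 (allL N118232 (tt N119746 F517215) (tt N120532 F521298) (tt N119690 (iv2 F516935)) (tt N93509 (iv3 D221491)) (tt N105468 F509274) (tt N121805 (iv5 F528427)) (tt N102702 F509275) (tt N98948 F509276))
theorem Q118234 : ∀ i, i < 118234 → P i := stepQ 118233 Q118233 (allL N118233 (tt N110571 F509280) (tt N101441 F509281) (tt N98947 F509277) (tt N121805 (iv3 F528426)) (tt N117370 F509279) (tt N93509 (iv5 D221492)) (tt N121390 (iv6 F526098)) (tt N98950 F509278))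
theorem Q118235 : ∀ i, i < 118235 → P i := stepQ 118234 Q118234 (allL N118234 (tt N101441 F509285) (tt N110571 F509286) (tt N98950 F509282) (tt N110738 F509283) (tt N120226 (iv4 F519695)) (tt N93510 (iv5 D221493)) (tt N120227 (iv6 F519701)) (tt N98947 F509284))
theorem Q118236 : ∀ i, i < 118236 → P i := stepQ 118235 Q118235 (allL N118235 (tt N112184 (iv1 F509292)) (tt N112185 (iv0 F509291)) (tt N98951 F509287) (tt N110607 F509288) (tt N102710 F509289) (tt N120389 (iv5 F520531)) (tt N93510 (iv6 D221494)) (tt N102708 F509290))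
theorem Q118237 : ∀ i, i < 118237 → P i := stepQ 118236 Q118236 (allL N118236 (tt N98955 (iv1 F509295)) (tt N93511 (iv0 D221495)) (tt N98952 (iv2 F509296)) (tt N122637 D225896) (tt N119929 (iv4 F518082)) (tt N110918 F509293) (tt N106688 F509294) (tt N98953 (iv7 F509297)))
theorem Q118238 : ∀ i, i < 118238 → P i := stepQ 118237 Q118237 (allL N118237 (tt N93511 (iv1 D221496)) (tt N98955 F509298) (tt N98953 F509303) (tt N106685 F509304) (tt N98968 F509301) (tt N106684 F509300) (tt N98967 (iv6 F509302)) (tt N98952 F509299))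
theorem Q118239 : ∀ i, i < 118239 → P i := stepQ 118238 Q118238 (allL N118238 (tt N121176 F524956) (tt N110749 (iv0 F509308)) (tt N98954 F509305) (tt N120256 (iv3 F519846)) (tt N93511 (iv4 D221497)) (tt N117385 F509307) (tt N93514 F509306) (tt N120469 (iv7 F520943)))
theorem Q118240 : ∀ i, i < 118240 → P i := stepQ 118239 Q118239 (allL N118239 (tt N98973 (iv1 F509312)) (tt N98972 F509313) (tt N98976 F509309) (tt N121987 F529473) (tt N93515 F509310) (tt N98996 F509311) (tt N122588 F533019) (tt N93514 (iv7 D221498)))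
theorem Q118241 : ∀ i, i < 118241 → P i := stepQ 118240 Q118240 (allL N118240 (tt N121853 (iv1 F528713)) (tt N107626 (iv0 F509316)) (tt N98977 F509314) (tt N119093 F513758) (tt N122588 (iv4 F533017)) (tt N99048 F509315) (tt N93515 (iv6 D221499)) (tt N120217 (iv7 F519653)))
theorem Q118242 : ∀ i, i < 118242 → P i := stepQ 118241 Q118241 (allL N118241 (tt N120380 F520480) (tt N115015 F509322) (tt N93519 F509317) (tt N108900 F509318) (tt N104969 F509321) (tt N93516 (iv5 D221500)) (tt N108900 F509319) (tt N112228 F509320))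
theorem Q118243 : ∀ i, i < 118243 → P i := stepQ 118242 Q118242 (allL N118242 (tt N108916 F509326) (tt N108912 (iv0 F509327)) (tt N108913 F509323) (tt N93517 (iv3 D221501)) (tt N106795 F509324) (tt N119185 (iv5 F514254)) (tt N106794 F509328) (tt N108914 F509325))
theorem Q118244 : ∀ i, i < 118244 → P i := stepQ 118243 Q118243 (allL N118243 (tt N118358 F509901) (tt N118368 (iv0 F509967)) (tt N95084 F509329) (tt N106794 F509330) (tt N112194 F509331) (tt N96425 F509332) (tt N93517 (iv6 D221502)) (tt N118219 F509333))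
theorem Q118245 : ∀ i, i < 118245 → P i := stepQ 118244 Q118244 (allL N118244 (tt N118353 F509868) (tt N119047 F513483) (tt N119046 (iv2 F513476)) (tt N93518 (iv3 D221503)) (tt N118296 F509571) (tt N96433 F509334) (tt N116631 F509335) (tt N95086 F509336))
theorem Q118246 : ∀ i, i < 118246 → P i := stepQ 118245 Q118245 (allL N118245 (tt N112228 F509341) (tt N93519 (iv0 D221504)) (tt N120380 (iv2 F520474)) (tt N120440 (iv3 F520795)) (tt N113641 F509338) (tt N118030 F509337) (tt N106281 F509339) (tt N115015 (iv7 F509340)))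
theorem Q118247 : ∀ i, i < 118247 → P i := stepQ 118246 Q118246 (allL N118246 (tt N115015 (iv1 F509347)) (tt N120380 (iv0 F520479)) (tt N112228 F509342) (tt N93527 F509343) (tt N114451 F509344) (tt N93520 F509345) (tt N114925 F509346) (tt N93519 (iv7 D221505)))
theorem Q118248 : ∀ i, i < 118248 → P i := stepQ 118247 Q118247 (allL N118247 (tt N118191 F509351) (tt N103407 F509352) (tt N108685 F509348) (tt N104654 (iv3 F509353)) (tt N93522 (iv4 D221506)) (tt N97565 F509349) (tt N119184 (iv6 F514248)) (tt N108885 F509350))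
theorem Q118249 : ∀ i, i < 118249 → P i := stepQ 118248 Q118248 (allL N118248 (tt N110136 F509359) (tt N108318 F509360) (tt N108917 F509354) (tt N93524 F509355) (tt N93748 F509356) (tt N93523 (iv5 D221507)) (tt N110480 F509357) (tt N107567 F509358))
theorem Q118250 : ∀ i, i < 118250 → P i := stepQ 118249 Q118249 (allL N118249 (tt N102908 F509365) (tt N93867 F509366) (tt N108881 F509361) (tt N104735 F509362) (tt N93525 (iv4 D221508)) (tt N97006 F509363) (tt N121051 F524244) (tt N96029 F509364))
theorem Q118251 : ∀ i, i < 118251 → P i := stepQ 118250 Q118250 (allL N118250 (tt N115019 F509371) (tt N115019 (iv0 F509372)) (tt N108906 F509367) (tt N114925 F509368) (tt N122566 (iv4 F532881)) (tt N108896 F509369) (tt N93527 (iv6 D221509)) (tt N108906 F509370))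
theorem Q118252 : ∀ i, i < 118252 → P i := stepQ 118251 Q118251 (allL N118251 (tt N120522 (iv1 F521239)) (tt N118361 (iv0 F509918)) (tt N93535 F509373) (tt N101721 F509374) (tt N111979 F509377) (tt N93532 (iv5 D221510)) (tt N101721 F509375) (tt N112222 F509376))
theorem Q118253 : ∀ i, i < 118253 → P i := stepQ 118252 Q118252 (allL N118252 (tt N119051 (iv1 F513509)) (tt N119048 (iv0 F513489)) (tt N119049 F513494) (tt N93533 (iv3 D221511)) (tt N116965 F509378) (tt N120512 (iv5 F521183)) (tt N117011 F509379) (tt N116963 F509380))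
theorem Q118254 : ∀ i, i < 118254 → P i := stepQ 118253 Q118253 (allL N118253 (tt N122165 (iv1 F530533)) (tt N118613 (iv0 F511165)) (tt N122024 (iv2 F529699)) (tt N120512 (iv3 F521181)) (tt N114159 F509381) (tt N93533 (iv5 D221512)) (tt N120511 F521178) (tt N122129 (iv7 F530340)))
theorem Q118255 : ∀ i, i < 118255 → P i := stepQ 118254 Q118254 (allL N118254 (tt N99004 F509385) (tt N108910 F509386) (tt N108909 F509382) (tt N93534 (iv3 D221513)) (tt N118268 (iv4 F509443)) (tt N115577 (iv5 F509384)) (tt N122025 (iv6 F529708)) (tt N108908 F509383))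
theorem Q118256 : ∀ i, i < 118256 → P i := stepQ 118255 Q118255 (allL N118255 (tt N99325 F509390) (tt N112642 F509392) (tt N116968 F509387) (tt N94994 F509393) (tt N93534 (iv4 D221514)) (tt N94993 F509391) (tt N116967 F509388) (tt N107689 F509389))
theorem Q118257 : ∀ i, i < 118257 → P i := stepQ 118256 Q118256 (allL N118256 (tt N118613 F511166) (tt N122165 (iv0 F530532)) (tt N122129 (iv2 F530338)) (tt N115577 F509394) (tt N122086 (iv4 F530074)) (tt N93534 (iv5 D221515)) (tt N121641 (iv6 F527492)) (tt N122024 (iv7 F529702)))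
theorem Q118258 : ∀ i, i < 118258 → P i := stepQ 118257 Q118257 (allL N118257 (tt N112222 (iv1 F509397)) (tt N93535 (iv0 D221516)) (tt N120522 (iv2 F521233)) (tt N122069 (iv3 F529975)) (tt N112269 F509396) (tt N112209 F509395) (tt N122457 (iv6 F532231)) (tt N118361 (iv7 F509916)))
theorem Q118259 : ∀ i, i < 118259 → P i := stepQ 118258 Q118258 (allL N118258 (tt N117568 F509402) (tt N119052 (iv0 F513515)) (tt N115575 F509398) (tt N93537 F509399) (tt N115683 F509400) (tt N93536 (iv5 D221517)) (tt N115606 F509403) (tt N101929 F509401))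
theorem Q118260 : ∀ i, i < 118260 → P i := stepQ 118259 Q118259 (allL N118259 (tt N118182 F509407) (tt N118180 F509408) (tt N108732 F509404) (tt N120672 (iv3 F522073)) (tt N93537 (iv4 D221518)) (tt N104561 F509405) (tt N120671 (iv6 F522071)) (tt N101931 F509406))
theorem Q118261 : ∀ i, i < 118261 → P i := stepQ 118260 Q118260 (allL N118260 (tt N122032 (iv1 F529755)) (tt N118615 (iv0 F511176)) (tt N108733 F509409) (tt N115606 F509410) (tt N120671 (iv4 F522072)) (tt N119038 (iv5 F513425)) (tt N93537 (iv6 D221519)) (tt N122500 (iv7 F532501)))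
theorem Q118262 : ∀ i, i < 118262 → P i := stepQ 118261 Q118261 (allL N118261 (tt N108863 F509415) (tt N93881 F509416) (tt N108859 F509411) (tt N116000 F509412) (tt N93538 (iv4 D221520)) (tt N118081 F509414) (tt N120664 (iv6 F522041)) (tt N108860 F509413))
theorem Q118263 : ∀ i, i < 118263 → P i := stepQ 118262 Q118262 (allL N118262 (tt N93881 F509420) (tt N108863 F509421) (tt N108860 F509417) (tt N120854 (iv3 F523098)) (tt N93539 (iv4 D221521)) (tt N103818 F509418) (tt N119649 (iv6 F516706)) (tt N108859 F509419))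
theorem Q118264 : ∀ i, i < 118264 → P i := stepQ 118263 Q118263 (allL N118263 (tt N118606 (iv1 F511131)) (tt N118607 (iv0 F511135)) (tt N108892 F509422) (tt N94873 F509423) (tt N119649 (iv4 F516707)) (tt N93826 F509424) (tt N93539 (iv6 D221522)) (tt N115944 F509425))
theorem Q118265 : ∀ i, i < 118265 → P i := stepQ 118264 Q118264 (allL N118264 (tt N93645 F509429) (tt N93648 F509430) (tt N119284 (iv2 F514819)) (tt N97414 F509426) (tt N107853 F509428) (tt N93542 (iv5 D221523)) (tt N112596 F509431) (tt N98826 F509427))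
theorem Q118266 : ∀ i, i < 118266 → P i := stepQ 118265 Q118265 (allL N118265 (tt N99652 (iv1 F509436)) (tt N98872 F509435) (tt N93543 (iv2 D221524)) (tt N94923 F509432) (tt N106440 F509433) (tt N119696 (iv5 F516970)) (tt N119709 (iv6 F517032)) (tt N102664 F509434))
theorem Q118267 : ∀ i, i < 118267 → P i := stepQ 118266 Q118266 (allL N118266 (tt N119295 (iv1 F514892)) (tt N93545 (iv0 D221525)) (tt N119293 F514876) (tt N101458 (iv3 F509440)) (tt N101659 F509438) (tt N101354 F509437) (tt N101641 F509439) (tt N119294 (iv7 F514880)))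
theorem Q118268 : ∀ i, i < 118268 → P i := stepQ 118267 Q118267 (allL N118267 (tt N119292 (iv1 F514872)) (tt N93551 (iv0 D221526)) (tt N119289 F514854) (tt N112674 F509441) (tt N118733 (iv4 F511798)) (tt N122313 (iv5 F531355)) (tt N112673 F509442) (tt N119290 (iv7 F514859)))
theorem Q118269 : ∀ i, i < 118269 → P i := stepQ 118268 Q118268 (allL N118268 (tt N93551 (iv1 D221527)) (tt N119292 F514869) (tt N119290 (iv2 F514862)) (tt N118760 (iv3 F511932)) (tt N118254 F509443) (tt N119980 (iv5 F518367)) (tt N122575 (iv6 F532934)) (tt N119289 (iv7 F514856)))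
theorem Q118270 : ∀ i, i < 118270 → P i := stepQ 118269 Q118269 (allL N118269 (tt N122296 F531256) (tt N121454 (iv0 F526469)) (tt N119291 (iv2 F514864)) (tt N116628 F509444) (tt N121974 (iv4 F529399)) (tt N93551 (iv5 D221528)) (tt N116627 F509445) (tt N122170 (iv7 F530562)))
theorem Q118271 : ∀ i, i < 118271 → P i := stepQ 118270 Q118270 (allL N118270 (tt N121120 F524614) (tt N120424 (iv0 F520710)) (tt N121171 (iv2 F524930)) (tt N100445 F509446) (tt N113467 F509448) (tt N93554 (iv5 D221529)) (tt N100443 F509447) (tt N121170 (iv7 F524923)))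
theorem Q118272 : ∀ i, i < 118272 → P i := stepQ 118271 Q118271 (allL N118271 (tt N122108 (iv1 F530217)) (tt N121444 (iv0 F526414)) (tt N113263 F509449) (tt N93557 F509450) (tt N116906 F509451) (tt N112417 F509452) (tt N93556 (iv6 D221530)) (tt N98236 F509453))
theorem Q118273 : ∀ i, i < 118273 → P i := stepQ 118272 Q118272 (allL N118272 (tt N93837 F509457) (tt N93833 F509458) (tt N118362 F509925) (tt N100850 F509454) (tt N93558 (iv4 D221531)) (tt N118362 (iv5 F509922)) (tt N100918 F509455) (tt N94756 F509456))
theorem Q118274 : ∀ i, i < 118274 → P i := stepQ 118273 Q118273 (allL N118273 (tt N120537 (iv1 F521324)) (tt N93565 (iv0 D221532)) (tt N120388 (iv2 F520522)) (tt N110047 F509461) (tt N110050 F509460) (tt N93818 F509459) (tt N118349 F509846) (tt N108903 (iv7 F509462)))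
theorem Q118275 : ∀ i, i < 118275 → P i := stepQ 118274 Q118274 (allL N118274 (tt N95403 F509467) (tt N119258 (iv0 F514672)) (tt N122456 (iv2 F532221)) (tt N93569 F509463) (tt N106660 F509464) (tt N104900 F509465) (tt N93568 (iv6 D221533)) (tt N117921 F509466))
theorem Q118276 : ∀ i, i < 118276 → P i := stepQ 118275 Q118275 (allL N118275 (tt N110106 F509472) (tt N110107 (iv0 F509473)) (tt N117925 F509468) (tt N93573 F509469) (tt N106978 F509470) (tt N100068 F509471) (tt N93571 (iv6 D221534)) (tt N108326 (iv7 F509474)))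
theorem Q118277 : ∀ i, i < 118277 → P i := stepQ 118276 Q118276 (allL N118276 (tt N100750 F509478) (tt N108889 (iv0 F509479)) (tt N93915 F509475) (tt N119048 (iv3 F513486)) (tt N93573 F509476) (tt N112274 F509477) (tt N93572 (iv6 D221535)) (tt N121676 (iv7 F527679)))
theorem Q118278 : ∀ i, i < 118278 → P i := stepQ 118277 Q118277 (allL N118277 (tt N118560 F510932) (tt N118551 (iv0 F510906)) (tt N118557 F510924) (tt N119315 (iv3 F514979)) (tt N122518 F532607) (tt N93575 (iv5 D221536)) (tt N122625 (iv6 F533244)) (tt N118558 (iv7 F510925)))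
theorem Q118279 : ∀ i, i < 118279 → P i := stepQ 118278 Q118278 (allL N118278 (tt N117804 (iv1 F509481)) (tt N107893 F509482) (tt N118849 (iv2 F512402)) (tt N117802 F509480) (tt N119047 (iv4 F513480)) (tt N118558 (iv5 F510926)) (tt N118326 F509723) (tt N93575 (iv7 D221537)))
theorem Q118280 : ∀ i, i < 118280 → P i := stepQ 118279 Q118279 (allL N118279 (tt N121602 F527276) (tt N117916 (iv0 F509487)) (tt N93579 F509483) (tt N110115 F509484) (tt N118792 (iv4 F512098)) (tt N110112 F509485) (tt N93576 (iv6 D221538)) (tt N110111 F509486))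
theorem Q118281 : ∀ i, i < 118281 → P i := stepQ 118280 Q118280 (allL N118280 (tt N93578 (iv1 D221539)) (tt N117887 F509488) (tt N117909 F509493) (tt N118590 (iv3 F511038)) (tt N93704 (iv4 F509491)) (tt N118229 F509490) (tt N108171 (iv6 F509492)) (tt N117910 F509489))
theorem Q118282 : ∀ i, i < 118282 → P i := stepQ 118281 Q118281 (allL N118281 (tt N93579 (iv1 D221540)) (tt N110111 F509494) (tt N117916 F509498) (tt N121186 (iv3 F525016)) (tt N96904 F509496) (tt N118042 F509495) (tt N96903 (iv6 F509497)) (tt N121602 (iv7 F527274)))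
theorem Q118283 : ∀ i, i < 118283 → P i := stepQ 118282 Q118282 (allL N118282 (tt N117916 (iv1 F509504)) (tt N121602 (iv0 F527275)) (tt N110111 F509499) (tt N93584 F509500) (tt N117567 F509501) (tt N110110 F509502) (tt N117453 F509503) (tt N93579 (iv7 D221541)))
theorem Q118284 : ∀ i, i < 118284 → P i := stepQ 118283 Q118283 (allL N118283 (tt N107863 F509508) (tt N93705 F509509) (tt N95076 F509505) (tt N118504 F510727) (tt N94708 F509506) (tt N93580 (iv5 D221542)) (tt N118317 (iv6 F509673)) (tt N95082 F509507))
theorem Q118285 : ∀ i, i < 118285 → P i := stepQ 118284 Q118284 (allL N118284 (tt N117317 F509513) (tt N121611 (iv0 F527329)) (tt N109909 F509510) (tt N108948 F509511) (tt N108950 F509512) (tt N117907 F509514) (tt N93582 (iv6 D221543)) (tt N120395 (iv7 F520558)))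
theorem Q118286 : ∀ i, i < 118286 → P i := stepQ 118285 Q118285 (allL N118285 (tt N110445 F509520) (tt N110444 F509519) (tt N110447 F509515) (tt N116966 F509516) (tt N93583 (iv4 D221544)) (tt N121655 (iv5 F527569)) (tt N93587 F509517) (tt N110440 F509518))
theorem Q118287 : ∀ i, i < 118287 → P i := stepQ 118286 Q118286 (allL N118286 (tt N117845 F509524) (tt N117774 (iv0 F509525)) (tt N117806 F509521) (tt N117827 F509522) (tt N101528 F509523) (tt N121983 (iv5 F529453)) (tt N93585 (iv6 D221545)) (tt N117844 F509526))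
theorem Q118288 : ∀ i, i < 118288 → P i := stepQ 118287 Q118287 (allL N118287 (tt N93704 F509531) (tt N93702 F509532) (tt N108336 F509527) (tt N117783 F509528) (tt N108121 F509530) (tt N93589 (iv5 D221546)) (tt N109576 (iv6 F509533)) (tt N118034 F509529))
theorem Q118289 : ∀ i, i < 118289 → P i := stepQ 118288 Q118288 (allL N118288 (tt N93702 F509538) (tt N93704 F509539) (tt N118034 F509534) (tt N99555 F509535) (tt N99556 F509536) (tt N93590 (iv5 D221547)) (tt N118790 (iv6 F512085)) (tt N108336 F509537))
theorem Q118290 : ∀ i, i < 118290 → P i := stepQ 118289 Q118289 (allL N118289 (tt N93591 (iv1 D221548)) (tt N93595 F509540) (tt N118174 F509545) (tt N107345 (iv3 F509543)) (tt N118024 F509542) (tt N108302 F509541) (tt N118023 (iv6 F509544)) (tt N118299 (iv7 F509582)))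
theorem Q118291 : ∀ i, i < 118291 → P i := stepQ 118290 Q118290 (allL N118290 (tt N118490 F510658) (tt N93592 (iv0 D221549)) (tt N120273 (iv2 F519952)) (tt N110659 F509548) (tt N111554 F509547) (tt N110658 F509546) (tt N112806 F509549) (tt N110657 (iv7 F509550)))
theorem Q118292 : ∀ i, i < 118292 → P i := stepQ 118291 Q118291 (allL N118291 (tt N93592 (iv1 D221550)) (tt N118490 (iv0 F510657)) (tt N110657 F509553) (tt N107347 F509554) (tt N118397 (iv4 F510133)) (tt N110655 F509551) (tt N108715 (iv6 F509552)) (tt N120273 (iv7 F519955)))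
theorem Q118293 : ∀ i, i < 118293 → P i := stepQ 118292 Q118292 (allL N118292 (tt N94880 F509560) (tt N94879 F509559) (tt N94882 F509555) (tt N118662 (iv3 F511404)) (tt N93593 (iv4 D221551)) (tt N94677 F509558) (tt N100930 F509556) (tt N94676 F509557))
theorem Q118294 : ∀ i, i < 118294 → P i := stepQ 118293 Q118293 (allL N118293 (tt N115021 F509565) (tt N119044 (iv0 F513467)) (tt N120024 (iv2 F518616)) (tt N93598 F509561) (tt N112357 F509564) (tt N93594 (iv5 D221552)) (tt N96717 F509562) (tt N115030 F509563))
theorem Q118295 : ∀ i, i < 118295 → P i := stepQ 118294 Q118294 (allL N118294 (tt N102307 F509567) (tt N118298 F509577) (tt N118296 (iv2 F509574)) (tt N117812 F509566) (tt N119046 (iv4 F513477)) (tt N122638 D225897) (tt N93595 (iv6 D221553)) (tt N118295 F509570))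
theorem Q118296 : ∀ i, i < 118296 → P i := stepQ 118295 Q118295 (allL N118295 (tt N120611 (iv1 F521748)) (tt N93596 (iv0 D221554)) (tt N118795 (iv2 F512117)) (tt N122614 (iv3 F533179)) (tt N96552 F509568) (tt N122639 D225898) (tt N95173 F509569) (tt N118294 (iv7 F509570)))
theorem Q118297 : ∀ i, i < 118297 → P i := stepQ 118296 Q118296 (allL N118296 (tt N93596 (iv1 D221555)) (tt N120611 F521747) (tt N118294 F509574) (tt N108969 (iv3 F509572)) (tt N118244 (iv4 F509571)) (tt N122640 D225899) (tt N102306 (iv6 F509573)) (tt N118795 (iv7 F512119)))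
theorem Q118298 : ∀ i, i < 118298 → P i := stepQ 118297 Q118297 (allL N118297 (tt N122641 D225900) (tt N122295 (iv0 F531250)) (tt N120610 (iv2 F521741)) (tt N120249 (iv3 F519808)) (tt N112788 F509575) (tt N93596 (iv5 D221556)) (tt N122638 (iv6 F533322)) (tt N120326 (iv7 F520204)))
theorem Q118299 : ∀ i, i < 118299 → P i := stepQ 118298 Q118298 (allL N118298 (tt N118294 (iv1 F509577)) (tt N118795 (iv0 F512120)) (tt N120611 (iv2 F521743)) (tt N118491 (iv3 F510661)) (tt N93599 F509576) (tt N120326 (iv5 F520203)) (tt N118490 F510659) (tt N93596 (iv7 D221557)))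
theorem Q118300 : ∀ i, i < 118300 → P i := stepQ 118299 Q118299 (allL N118299 (tt N102306 (iv1 F509584)) (tt N102311 (iv0 F509583)) (tt N118041 F509578) (tt N105048 F509579) (tt N93601 F509580) (tt N93701 F509581) (tt N93600 (iv6 D221558)) (tt N118289 F509582))
theorem Q118301 : ∀ i, i < 118301 → P i := stepQ 118300 Q118300 (allL N118300 (tt N96835 F509590) (tt N96831 (iv0 F509591)) (tt N96832 F509585) (tt N93622 (iv3 D221559)) (tt N100808 F509586) (tt N99714 F509587) (tt N101811 F509588) (tt N96833 F509589))
theorem Q118302 : ∀ i, i < 118302 → P i := stepQ 118301 Q118301 (allL N118301 (tt N119687 F516921) (tt N120531 (iv0 F521292)) (tt N121124 F524637) (tt N99073 F509592) (tt N111380 F509593) (tt N121977 (iv5 F529417)) (tt N93634 (iv6 D221560)) (tt N120099 (iv7 F519038)))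
theorem Q118303 : ∀ i, i < 118303 → P i := stepQ 118302 Q118302 (allL N118302 (tt N122602 (iv1 F533109)) (tt N119850 (iv0 F517691)) (tt N99582 F509594) (tt N93640 F509595) (tt N117921 F509596) (tt N116531 F509597) (tt N93638 (iv6 D221561)) (tt N106660 F509598))
theorem Q118304 : ∀ i, i < 118304 → P i := stepQ 118303 Q118303 (allL N118303 (tt N120530 F521288) (tt N119747 (iv0 F517218)) (tt N99091 F509599) (tt N98929 F509600) (tt N99440 F509601) (tt N100481 F509602) (tt N93639 (iv6 D221562)) (tt N121550 (iv7 F526989)))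
theorem Q118305 : ∀ i, i < 118305 → P i := stepQ 118304 Q118304 (allL N118304 (tt N93642 (iv1 D221563)) (tt N108301 F509603) (tt N96173 (iv2 F509607)) (tt N118638 (iv3 F511277)) (tt N108477 F509606) (tt N117559 F509605) (tt N121599 (iv6 F527257)) (tt N108300 F509604))
theorem Q118306 : ∀ i, i < 118306 → P i := stepQ 118305 Q118305 (allL N118305 (tt N106945 F509613) (tt N110561 F509612) (tt N93651 F509608) (tt N96131 F509609) (tt N105354 F509610) (tt N93650 (iv5 D221564)) (tt N105353 F509614) (tt N110559 F509611))
theorem Q118307 : ∀ i, i < 118307 → P i := stepQ 118306 Q118306 (allL N118306 (tt N110468 F509619) (tt N110463 F509620) (tt N93656 F509615) (tt N110559 F509616) (tt N106119 F509617) (tt N93655 (iv5 D221565)) (tt N121644 (iv6 F527509)) (tt N96131 F509618))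
theorem Q118308 : ∀ i, i < 118308 → P i := stepQ 118307 Q118307 (allL N118307 (tt N115991 (iv1 F509626)) (tt N96172 (iv0 F509625)) (tt N93657 F509621) (tt N119079 (iv3 F513673)) (tt N108016 F509622) (tt N115961 F509624) (tt N93655 (iv6 D221566)) (tt N116875 F509623))
theorem Q118309 : ∀ i, i < 118309 → P i := stepQ 118308 Q118308 (allL N118308 (tt N93657 (iv1 D221567)) (tt N116875 F509627) (tt N96172 F509632) (tt N112203 (iv3 F509630)) (tt N118943 (iv4 F512884)) (tt N108851 F509629) (tt N96046 (iv6 F509631)) (tt N115991 F509628))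
theorem Q118310 : ∀ i, i < 118310 → P i := stepQ 118309 Q118309 (allL N118309 (tt N118985 (iv1 F513128)) (tt N95863 F509635) (tt N93658 (iv2 D221568)) (tt N96132 F509633) (tt N118424 (iv4 F510277)) (tt N103346 F509634) (tt N120552 (iv6 F521413)) (tt N119080 (iv7 F513679)))
theorem Q118311 : ∀ i, i < 118311 → P i := stepQ 118310 Q118310 (allL N118310 (tt N107696 F509640) (tt N120205 (iv0 F519585)) (tt N120552 (iv2 F521410)) (tt N93660 F509636) (tt N102694 F509637) (tt N103351 F509638) (tt N93658 (iv6 D221569)) (tt N107796 F509639))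
theorem Q118312 : ∀ i, i < 118312 → P i := stepQ 118311 Q118311 (allL N118311 (tt N117116 F509645) (tt N117127 F509646) (tt N95352 F509641) (tt N117472 F509642) (tt N93660 F509643) (tt N121704 (iv5 F527855)) (tt N93659 (iv6 D221570)) (tt N107797 F509644))
theorem Q118313 : ∀ i, i < 118313 → P i := stepQ 118312 Q118312 (allL N118312 (tt N96111 (iv1 F509651)) (tt N96134 F509650) (tt N93661 (iv2 D221571)) (tt N119080 F513681) (tt N94373 F509647) (tt N106761 F509648) (tt N121729 F528003) (tt N96132 F509649))
theorem Q118314 : ∀ i, i < 118314 → P i := stepQ 118313 Q118313 (allL N118313 (tt N115833 F509654) (tt N97578 (iv0 F509655)) (tt N120590 F521622) (tt N93669 F509652) (tt N119455 (iv4 F515715)) (tt N120592 (iv5 F521631)) (tt N93668 (iv6 D221572)) (tt N103474 F509653))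
theorem Q118315 : ∀ i, i < 118315 → P i := stepQ 118314 Q118314 (allL N118314 (tt N122129 (iv1 F530342)) (tt N122024 (iv0 F529704)) (tt N122165 (iv2 F530528)) (tt N93675 F509656) (tt N122642 D225901) (tt N93672 (iv5 D221573)) (tt N108211 F509657) (tt N118613 (iv7 F511163)))
theorem Q118316 : ∀ i, i < 118316 → P i := stepQ 118315 Q118315 (allL N118315 (tt N93677 (iv1 F509662)) (tt N93676 (iv0 D221574)) (tt N93679 (iv2 F509661)) (tt N101997 F509660) (tt N105823 F509659) (tt N101996 F509658) (tt N120962 (iv6 F523731)) (tt N93678 F509663))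
theorem Q118317 : ∀ i, i < 118317 → P i := stepQ 118316 Q118316 (allL N118316 (tt N97519 F509669) (tt N97780 (iv0 F509670)) (tt N97782 F509664) (tt N97839 F509665) (tt N109060 F509666) (tt N111392 F509667) (tt N93677 (iv6 D221575)) (tt N97783 F509668))
theorem Q118318 : ∀ i, i < 118318 → P i := stepQ 118317 Q118317 (allL N118317 (tt N118790 (iv1 F512088)) (tt N121972 (iv0 F529387)) (tt N93689 F509671) (tt N117895 F509672) (tt N118678 (iv4 F511497)) (tt N93682 (iv5 D221576)) (tt N118283 F509673) (tt N107870 F509674))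
theorem Q118319 : ∀ i, i < 118319 → P i := stepQ 118318 Q118318 (allL N118318 (tt N94336 F509680) (tt N94332 (iv0 F509679)) (tt N94333 F509675) (tt N117583 F509676) (tt N117584 F509677) (tt N122643 D225902) (tt N93688 (iv6 D221577)) (tt N94334 F509678))
theorem Q118320 : ∀ i, i < 118320 → P i := stepQ 118319 Q118319 (allL N118319 (tt N107870 (iv1 F509685)) (tt N93689 (iv0 D221578)) (tt N118790 (iv2 F512083)) (tt N108997 F509683) (tt N107866 F509682) (tt N116537 F509681) (tt N118034 F509684) (tt N121972 (iv7 F529386)))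
theorem Q118321 : ∀ i, i < 118321 → P i := stepQ 118320 Q118320 (allL N118320 (tt N93689 (iv1 D221579)) (tt N107870 F509686) (tt N121972 (iv2 F529383)) (tt N100033 (iv3 F509688)) (tt N103177 F509687) (tt N118791 (iv5 F512093)) (tt N100031 F509689) (tt N118790 F512089))
theorem Q118322 : ∀ i, i < 118322 → P i := stepQ 118321 Q118321 (allL N118321 (tt N94375 F509693) (tt N116607 (iv0 F509694)) (tt N122560 (iv2 F532856)) (tt N93691 (iv3 D221580)) (tt N97035 F509690) (tt N119839 (iv5 F517634)) (tt N110437 F509691) (tt N117904 F509692))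
theorem Q118323 : ∀ i, i < 118323 → P i := stepQ 118322 Q118322 (allL N118322 (tt N101903 F509698) (tt N110589 F509699) (tt N112510 F509695) (tt N119839 (iv3 F517631)) (tt N112509 F509697) (tt N93691 (iv5 D221581)) (tt N106446 F509700) (tt N117905 F509696))
theorem Q118324 : ∀ i, i < 118324 → P i := stepQ 118323 Q118323 (allL N118323 (tt N110589 F509706) (tt N101903 F509705) (tt N117905 F509701) (tt N116802 F509702) (tt N112369 F509703) (tt N93692 (iv5 D221582)) (tt N112368 (iv6 F509707)) (tt N112510 F509704))
theorem Q118325 : ∀ i, i < 118325 → P i := stepQ 118324 Q118324 (allL N118324 (tt N111603 (iv1 F509711)) (tt N93693 (iv0 D221583)) (tt N117906 (iv2 F509710)) (tt N94294 F509708) (tt N121851 (iv4 F528700)) (tt N120395 (iv5 F520557)) (tt N94293 F509709) (tt N117907 F509712))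
theorem Q118326 : ∀ i, i < 118326 → P i := stepQ 118325 Q118325 (allL N118325 (tt N108043 F509717) (tt N117788 (iv0 F509718)) (tt N119854 (iv2 F517709)) (tt N93698 (iv3 D221584)) (tt N98888 F509713) (tt N102806 F509714) (tt N98887 F509715) (tt N117908 F509716))
theorem Q118327 : ∀ i, i < 118327 → P i := stepQ 118326 Q118326 (allL N118326 (tt N108690 F509721) (tt N94378 F509722) (tt N108714 F509719) (tt N122585 (iv3 F532995)) (tt N118398 (iv4 F510138)) (tt N93707 (iv5 D221585)) (tt N118278 (iv6 F509723)) (tt N95324 F509720))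
theorem Q118328 : ∀ i, i < 118328 → P i := stepQ 118327 Q118327 (allL N118327 (tt N120442 (iv1 F520806)) (tt N121613 F527339) (tt N118620 (iv2 F511187)) (tt N118462 (iv3 F510503)) (tt N93708 F509724) (tt N120314 (iv5 F520157)) (tt N93707 (iv6 D221586)) (tt N120570 (iv7 F521509)))
theorem Q118329 : ∀ i, i < 118329 → P i := stepQ 118328 Q118328 (allL N118328 (tt N115105 F509730) (tt N114726 F509729) (tt N93712 F509725) (tt N116988 F509726) (tt N113082 F509728) (tt N93710 (iv5 D221587)) (tt N118822 (iv6 F512260)) (tt N96150 F509727))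
theorem Q118330 : ∀ i, i < 118330 → P i := stepQ 118329 Q118329 (allL N118329 (tt N95977 (iv1 F509735)) (tt N93711 (iv0 D221588)) (tt N95979 (iv2 F509734)) (tt N108719 F509732) (tt N121658 (iv4 F527588)) (tt N105614 F509731) (tt N95970 F509733) (tt N95971 F509736))
theorem Q118331 : ∀ i, i < 118331 → P i := stepQ 118330 Q118330 (allL N118330 (tt N96150 (iv1 F509740)) (tt N93712 (iv0 D221589)) (tt N115105 (iv2 F509739)) (tt N121598 (iv3 F527249)) (tt N106262 F509738) (tt N110944 F509737) (tt N106261 (iv6 F509742)) (tt N114726 F509741))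
theorem Q118332 : ∀ i, i < 118332 → P i := stepQ 118331 Q118331 (allL N118331 (tt N93713 (iv1 D221590)) (tt N109479 F509743) (tt N117107 F509749) (tt N111584 (iv3 F509747)) (tt N109471 F509746) (tt N108939 F509745) (tt N115991 (iv6 F509748)) (tt N96175 F509744))
theorem Q118333 : ∀ i, i < 118333 → P i := stepQ 118332 Q118332 (allL N118332 (tt N93720 F509754) (tt N116931 F509755) (tt N117268 F509750) (tt N110079 F509751) (tt N114420 F509752) (tt N93714 (iv5 D221591)) (tt N117764 F509756) (tt N95864 F509753))
theorem Q118334 : ∀ i, i < 118334 → P i := stepQ 118333 Q118333 (allL N118333 (tt N120804 (iv1 F522816)) (tt N121608 F527313) (tt N93716 F509757) (tt N96150 F509758) (tt N104708 F509760) (tt N93715 (iv5 D221592)) (tt N120913 (iv6 F523435)) (tt N116988 F509759))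
theorem Q118335 : ∀ i, i < 118335 → P i := stepQ 118334 Q118334 (allL N118334 (tt N114375 F509765) (tt N114410 F509766) (tt N104708 F509761) (tt N98161 F509762) (tt N93716 (iv4 D221593)) (tt N104707 F509764) (tt N103641 F509763) (tt N119623 (iv7 F516571)))
theorem Q118336 : ∀ i, i < 118336 → P i := stepQ 118335 Q118335 (allL N118335 (tt N96153 (iv1 F509771)) (tt N96135 F509770) (tt N93719 (iv2 D221594)) (tt N116931 F509767) (tt N118451 (iv4 F510436)) (tt N106783 F509768) (tt N118685 (iv6 F511542)) (tt N96151 F509769))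
theorem Q118337 : ∀ i, i < 118337 → P i := stepQ 118336 Q118336 (allL N118336 (tt N100641 F509775) (tt N118452 F510445) (tt N118451 (iv2 F510439)) (tt N110257 F509772) (tt N93719 (iv4 D221595)) (tt N110256 F509774) (tt N112702 F509773) (tt N118450 F510432))
theorem Q118338 : ∀ i, i < 118338 → P i := stepQ 118337 Q118337 (allL N118337 (tt N93791 (iv1 F509779)) (tt N93723 (iv0 D221596)) (tt N119058 (iv2 F513554)) (tt N116962 F509778) (tt N113914 F509777) (tt N116961 F509776) (tt N116916 (iv6 F509781)) (tt N112837 F509780))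
theorem Q118339 : ∀ i, i < 118339 → P i := stepQ 118338 Q118338 (allL N118338 (tt N105803 F509786) (tt N98558 F509787) (tt N120397 F520569) (tt N109380 F509782) (tt N93726 (iv4 D221597)) (tt N105802 F509783) (tt N109379 F509784) (tt N116797 F509785))
theorem Q118340 : ∀ i, i < 118340 → P i := stepQ 118339 Q118339 (allL N118339 (tt N98221 (iv1 F509791)) (tt N93728 (iv0 D221598)) (tt N113316 (iv2 F509790)) (tt N94863 (iv3 F509793)) (tt N98217 F509788) (tt N119161 (iv5 F514120)) (tt N94861 F509789) (tt N108659 F509792))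
theorem Q118341 : ∀ i, i < 118341 → P i := stepQ 118340 Q118340 (allL N118340 (tt N93736 (iv1 D221599)) (tt N119056 F513540) (tt N119055 (iv2 F513534)) (tt N118713 (iv3 F511697)) (tt N118857 F512433) (tt N112143 F509794) (tt N121451 (iv6 F526450)) (tt N118710 (iv7 F511678)))
theorem Q118342 : ∀ i, i < 118342 → P i := stepQ 118341 Q118341 (allL N118341 (tt N108983 F509799) (tt N118173 (iv0 F509800)) (tt N106762 F509795) (tt N99470 F509796) (tt N93737 (iv4 D221600)) (tt N93770 F509798) (tt N106786 F509797) (tt N119053 (iv7 F513520)))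
theorem Q118343 : ∀ i, i < 118343 → P i := stepQ 118342 Q118342 (allL N118342 (tt N117581 F509804) (tt N93746 (iv0 F509805)) (tt N93836 F509801) (tt N108307 F509802) (tt N95336 F509803) (tt N118410 (iv5 F510196)) (tt N93742 (iv6 D221601)) (tt N120599 (iv7 F521676)))
theorem Q118344 : ∀ i, i < 118344 → P i := stepQ 118343 Q118343 (allL N118343 (tt N93752 (iv1 D221602)) (tt N96066 F509806) (tt N97155 F509812) (tt N113697 (iv3 F509810)) (tt N104926 F509809) (tt N97147 F509808) (tt N114595 (iv6 F509811)) (tt N97145 F509807))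
theorem Q118345 : ∀ i, i < 118345 → P i := stepQ 118344 Q118344 (allL N118344 (tt N122174 F530590) (tt N111378 (iv0 F509815)) (tt N117330 F509813) (tt N118792 (iv3 F512099)) (tt N117329 F509814) (tt N121663 (iv5 F527615)) (tt N93760 (iv6 D221603)) (tt N121662 (iv7 F527611)))
theorem Q118346 : ∀ i, i < 118346 → P i := stepQ 118345 Q118345 (allL N118345 (tt N117862 F509821) (tt N108128 (iv0 F509822)) (tt N99469 F509816) (tt N93763 F509817) (tt N99733 F509818) (tt N101836 F509819) (tt N93762 (iv6 D221604)) (tt N108995 F509820))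
theorem Q118347 : ∀ i, i < 118347 → P i := stepQ 118346 Q118346 (allL N118346 (tt N94517 F509828) (tt N114511 (iv0 F509829)) (tt N108141 F509823) (tt N117644 F509824) (tt N114601 F509825) (tt N114564 F509826) (tt N93765 (iv6 D221605)) (tt N116124 F509827))
theorem Q118348 : ∀ i, i < 118348 → P i := stepQ 118347 Q118347 (allL N118347 (tt N118173 (iv1 F509835)) (tt N108983 (iv0 F509834)) (tt N119053 (iv2 F513517)) (tt N106764 F509830) (tt N93773 F509833) (tt N93769 (iv5 D221606)) (tt N115011 F509831) (tt N106762 F509832))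
theorem Q118349 : ∀ i, i < 118349 → P i := stepQ 118348 Q118348 (allL N118348 (tt N118140 F509841) (tt N118157 F509842) (tt N94420 F509836) (tt N110929 F509837) (tt N93775 F509838) (tt N93773 (iv5 D221607)) (tt N94419 F509839) (tt N93774 F509840))
theorem Q118350 : ∀ i, i < 118350 → P i := stepQ 118349 Q118349 (allL N118349 (tt N93774 (iv1 D221608)) (tt N94420 F509843) (tt N118140 (iv2 F509847)) (tt N120005 (iv3 F518509)) (tt N119062 (iv4 F513577)) (tt N118139 F509845) (tt N118273 (iv6 F509846)) (tt N118157 F509844))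
theorem Q118351 : ∀ i, i < 118351 → P i := stepQ 118350 Q118350 (allL N118350 (tt N93777 (iv1 D221609)) (tt N93786 F509848) (tt N93784 F509852) (tt N108316 F509853) (tt N99114 F509850) (tt N101848 (iv5 F509851)) (tt N119165 (iv6 F514146)) (tt N93783 F509849))
theorem Q118352 : ∀ i, i < 118352 → P i := stepQ 118351 Q118351 (allL N118351 (tt N93780 (iv1 D221610)) (tt N117282 F509854) (tt N118039 F509858) (tt N116507 (iv3 F509857)) (tt N101344 F509856) (tt N120473 (iv5 F520962)) (tt N101343 F509859) (tt N117327 F509855))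
theorem Q118353 : ∀ i, i < 118353 → P i := stepQ 118352 Q118352 (allL N118352 (tt N109521 F509862) (tt N109522 F509863) (tt N109520 F509860) (tt N122570 (iv3 F532904)) (tt N121992 (iv4 F529507)) (tt N93780 (iv5 D221611)) (tt N122504 (iv6 F532524)) (tt N109519 F509861))
theorem Q118354 : ∀ i, i < 118354 → P i := stepQ 118353 Q118353 (allL N118353 (tt N96552 F509867) (tt N118244 (iv0 F509868)) (tt N96047 F509864) (tt N118402 (iv3 F510160)) (tt N95323 F509865) (tt N101384 F509866) (tt N93781 (iv6 D221612)) (tt N118796 F512123))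
theorem Q118355 : ∀ i, i < 118355 → P i := stepQ 118354 Q118354 (allL N118354 (tt N108315 F509872) (tt N108311 (iv0 F509873)) (tt N108308 F509869) (tt N93783 (iv3 D221613)) (tt N96144 F509870) (tt N95260 F509874) (tt N107773 F509875) (tt N108316 F509871))
theorem Q118356 : ∀ i, i < 118356 → P i := stepQ 118355 Q118355 (allL N118355 (tt N112761 F509881) (tt N112760 F509880) (tt N105649 F509876) (tt N95260 F509877) (tt N101849 F509879) (tt N93783 (iv5 D221614)) (tt N94564 F509882) (tt N101848 F509878))
theorem Q118357 : ∀ i, i < 118357 → P i := stepQ 118356 Q118356 (allL N118356 (tt N101662 F509888) (tt N116587 (iv0 F509887)) (tt N108313 F509883) (tt N107773 F509884) (tt N99124 F509885) (tt N107772 F509886) (tt N93783 (iv6 D221615)) (tt N121619 (iv7 F527367)))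
theorem Q118358 : ∀ i, i < 118358 → P i := stepQ 118357 Q118357 (allL N118357 (tt N104064 F509894) (tt N109641 (iv0 F509895)) (tt N113108 F509889) (tt N93787 (iv3 D221616)) (tt N110345 F509890) (tt N102329 F509891) (tt N108232 F509892) (tt N98311 F509893))
theorem Q118359 : ∀ i, i < 118359 → P i := stepQ 118358 Q118358 (allL N118358 (tt N118679 F511508) (tt N118243 (iv0 F509901)) (tt N96062 F509896) (tt N116846 F509897) (tt N97076 F509898) (tt N101678 F509899) (tt N93788 (iv6 D221617)) (tt N101684 F509900))
theorem Q118360 : ∀ i, i < 118360 → P i := stepQ 118359 Q118359 (allL N118359 (tt N118705 F511646) (tt N114504 (iv0 F509905)) (tt N95069 F509902) (tt N93802 F509903) (tt N118452 (iv4 F510442)) (tt N93796 (iv5 D221618)) (tt N114278 F509904) (tt N118449 (iv7 F510426)))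
theorem Q118361 : ∀ i, i < 118361 → P i := stepQ 118360 Q118360 (allL N118360 (tt N111374 F509911) (tt N112294 F509912) (tt N101665 F509906) (tt N96155 F509907) (tt N93809 (iv4 D221619)) (tt N95214 F509908) (tt N112101 F509909) (tt N96163 F509910))
theorem Q118362 : ∀ i, i < 118362 → P i := stepQ 118361 Q118361 (allL N118361 (tt N118251 F509918) (tt N118188 F509919) (tt N101598 F509913) (tt N111404 F509914) (tt N111575 F509917) (tt N93816 (iv5 D221620)) (tt N101597 F509915) (tt N118257 F509916))
theorem Q118363 : ∀ i, i < 118363 → P i := stepQ 118362 Q118362 (allL N118362 (tt N93827 (iv1 F509926)) (tt N93825 (iv0 D221621)) (tt N118272 (iv2 F509925)) (tt N96555 F509924) (tt N93846 F509923) (tt N118272 F509922) (tt N112839 (iv6 F509928)) (tt N111474 F509927))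
theorem Q118364 : ∀ i, i < 118364 → P i := stepQ 118363 Q118363 (allL N118363 (tt N100918 (iv1 F509933)) (tt N94762 F509934) (tt N101560 F509929) (tt N101576 F509930) (tt N120281 (iv4 F520004)) (tt N115944 F509931) (tt N108672 F509932) (tt N93826 (iv7 D221622)))
theorem Q118365 : ∀ i, i < 118365 → P i := stepQ 118364 Q118364 (allL N118364 (tt N103050 F509940) (tt N111433 (iv0 F509941)) (tt N112004 F509935) (tt N94718 F509936) (tt N93834 F509937) (tt N109657 F509938) (tt N93833 (iv6 D221623)) (tt N112008 F509939))
theorem Q118366 : ∀ i, i < 118366 → P i := stepQ 118365 Q118365 (allL N118365 (tt N96455 F509948) (tt N93840 (iv0 D221624)) (tt N112639 (iv2 F509945)) (tt N107756 F509944) (tt N96521 F509943) (tt N107903 F509942) (tt N94424 (iv6 F509946)) (tt N112637 (iv7 F509947)))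
theorem Q118367 : ∀ i, i < 118367 → P i := stepQ 118366 Q118366 (allL N118366 (tt N93840 (iv1 D221625)) (tt N96455 F509949) (tt N112637 F509955) (tt N107764 (iv3 F509952)) (tt N96402 F509951) (tt N107762 (iv5 F509953)) (tt N96401 (iv6 F509954)) (tt N112639 F509950))
theorem Q118368 : ∀ i, i < 118368 → P i := stepQ 118367 Q118367 (allL N118367 (tt N112637 (iv1 F509961)) (tt N112639 F509962) (tt N96455 F509956) (tt N117035 F509957) (tt N94849 F509958) (tt N110477 F509959) (tt N94848 F509960) (tt N93840 (iv7 D221626)))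
theorem Q118369 : ∀ i, i < 118369 → P i := stepQ 118368 Q118368 (allL N118368 (tt N118243 F509967) (tt N118679 (iv0 F511507)) (tt N101684 (iv2 F509968)) (tt N93848 (iv3 D221627)) (tt N101681 F509963) (tt N101677 F509964) (tt N96016 F509965) (tt N96062 F509966))
theorem Q118370 : ∀ i, i < 118370 → P i := stepQ 118369 Q118369 (allL N118369 (tt N93862 F509974) (tt N93858 (iv0 D221628)) (tt N93859 (iv2 F509970)) (tt N108973 (iv3 F509971)) (tt N106059 (iv4 F509972)) (tt N121955 (iv5 F529279)) (tt N106058 F509969) (tt N93860 (iv7 F509973)))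
theorem Q118371 : ∀ i, i < 118371 → P i := stepQ 118370 Q118370 (allL N118370 (tt N93858 (iv1 D221629)) (tt N93862 F509975) (tt N93860 F509979) (tt N115011 (iv3 F509977)) (tt N106765 F509980) (tt N115010 F509981) (tt N106764 (iv6 F509978)) (tt N93859 F509976))
theorem Q118372 : ∀ i, i < 118372 → P i := stepQ 118371 Q118371 (allL N118371 (tt N105512 F509985) (tt N96040 (iv0 F509986)) (tt N93861 F509982) (tt N108866 F509983) (tt N113654 F509987) (tt N93858 (iv5 D221630)) (tt N108866 F509984) (tt N113651 (iv7 F509988)))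
theorem Q118373 : ∀ i, i < 118373 → P i := stepQ 118372 Q118372 (allL N118372 (tt N93860 (iv1 F509993)) (tt N93859 F509994) (tt N93862 F509989) (tt N108867 F509990) (tt N119978 (iv4 F518359)) (tt N113651 F509991) (tt N108844 F509992) (tt N93858 (iv7 D221631)))
theorem Q118374 : ∀ i, i < 118374 → P i := stepQ 118373 Q118373 (allL N118373 (tt N112641 F509997) (tt N99619 (iv0 F509998)) (tt N115009 (iv2 F510000)) (tt N93859 (iv3 D221632)) (tt N119944 (iv4 F518166)) (tt N96623 F509999) (tt N106788 F509995) (tt N115011 F509996))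
theorem Q118375 : ∀ i, i < 118375 → P i := stepQ 118374 Q118374 (allL N118374 (tt N116337 F510005) (tt N118193 F510004) (tt N121955 (iv2 F529276)) (tt N96623 F510001) (tt N121183 (iv4 F524997)) (tt N93859 (iv5 D221633)) (tt N96621 F510002) (tt N115010 F510003))
theorem Q118376 : ∀ i, i < 118376 → P i := stepQ 118375 Q118375 (allL N118375 (tt N106790 F510011) (tt N106789 (iv0 F510012)) (tt N106765 F510006) (tt N107320 F510007) (tt N93860 (iv4 D221634)) (tt N106599 F510010) (tt N106047 F510008) (tt N106059 F510009))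
theorem Q118377 : ∀ i, i < 118377 → P i := stepQ 118376 Q118376 (allL N118376 (tt N113651 (iv1 F510014)) (tt N93861 (iv0 D221635)) (tt N105512 F510016) (tt N119228 (iv3 F514480)) (tt N105504 (iv4 F510015)) (tt N96041 F510013) (tt N105503 F510017) (tt N96040 F510018))
theorem Q118378 : ∀ i, i < 118378 → P i := stepQ 118377 Q118377 (allL N118377 (tt N93861 (iv1 D221636)) (tt N113651 F510019) (tt N96040 (iv2 F510022)) (tt N117580 (iv3 F510023)) (tt N95948 (iv4 F510024)) (tt N96032 F510021) (tt N119120 (iv6 F513890)) (tt N105512 F510020))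
theorem Q118379 : ∀ i, i < 118379 → P i := stepQ 118378 Q118378 (allL N118378 (tt N113653 F510030) (tt N113652 F510029) (tt N113654 F510025) (tt N116345 F510026) (tt N93861 (iv4 D221637)) (tt N122011 (iv5 F529625)) (tt N108876 F510027) (tt N113645 F510028))
theorem Q118380 : ∀ i, i < 118380 → P i := stepQ 118379 Q118379 (allL N118379 (tt N118196 F510034) (tt N98525 F510035) (tt N108878 F510031) (tt N116211 F510036) (tt N93864 (iv4 D221638)) (tt N102906 F510032) (tt N119150 (iv6 F514056)) (tt N108879 F510033))
theorem Q118381 : ∀ i, i < 118381 → P i := stepQ 118380 Q118380 (allL N118380 (tt N110202 F510043) (tt N102321 F510042) (tt N96149 F510037) (tt N110204 F510038) (tt N114775 F510041) (tt N93870 (iv5 D221639)) (tt N96135 F510039) (tt N110201 F510040))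
theorem Q118382 : ∀ i, i < 118382 → P i := stepQ 118381 Q118381 (allL N118381 (tt N115568 (iv1 F510049)) (tt N108591 (iv0 F510048)) (tt N93876 F510044) (tt N108843 F510045) (tt N115964 F510047) (tt N93873 (iv5 D221640)) (tt N108843 F510046) (tt N116365 (iv7 F510050)))
theorem Q118383 : ∀ i, i < 118383 → P i := stepQ 118382 Q118382 (allL N118382 (tt N93875 (iv1 F510056)) (tt N93874 F510057) (tt N93877 F510051) (tt N108844 F510052) (tt N116964 F510053) (tt N116365 F510054) (tt N108867 F510055) (tt N93873 (iv7 D221641)))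
theorem Q118384 : ∀ i, i < 118384 → P i := stepQ 118383 Q118383 (allL N118383 (tt N114038 (iv1 F510063)) (tt N117270 (iv0 F510062)) (tt N106490 F510058) (tt N112372 F510059) (tt N93874 (iv4 D221642)) (tt N122595 (iv5 F533061)) (tt N103347 F510060) (tt N112370 F510061))
theorem Q118385 : ∀ i, i < 118385 → P i := stepQ 118384 Q118384 (allL N118384 (tt N122480 (iv1 F532376)) (tt N118181 (iv0 F510066)) (tt N115665 F510064) (tt N112189 F510065) (tt N119241 (iv4 F514568)) (tt N93874 (iv5 D221643)) (tt N120561 F521462) (tt N122092 (iv7 F530110)))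
theorem Q118386 : ∀ i, i < 118386 → P i := stepQ 118385 Q118385 (allL N118385 (tt N108591 (iv1 F510072)) (tt N115568 F510073) (tt N116365 F510067) (tt N93882 F510068) (tt N113683 F510069) (tt N93877 F510070) (tt N113682 F510071) (tt N93876 (iv7 D221644)))
theorem Q118387 : ∀ i, i < 118387 → P i := stepQ 118386 Q118386 (allL N118386 (tt N119516 (iv1 F516018)) (tt N118183 (iv0 F510078)) (tt N108174 F510074) (tt N108111 F510075) (tt N122115 (iv4 F530261)) (tt N110848 F510076) (tt N93879 (iv6 D221645)) (tt N108200 F510077))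
theorem Q118388 : ∀ i, i < 118388 → P i := stepQ 118387 Q118387 (allL N118387 (tt N120673 F522079) (tt N122468 (iv0 F532300)) (tt N120650 (iv2 F521957)) (tt N93881 (iv3 D221646)) (tt N119344 (iv4 F515124)) (tt N102583 F510079) (tt N108861 F510080) (tt N119343 F515122))
theorem Q118389 : ∀ i, i < 118389 → P i := stepQ 118388 Q118388 (allL N118388 (tt N118735 (iv1 F511808)) (tt N118735 (iv0 F511807)) (tt N108864 F510081) (tt N113682 F510082) (tt N120981 (iv4 F523845)) (tt N108883 F510083) (tt N93882 (iv6 D221647)) (tt N108864 F510084))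
theorem Q118390 : ∀ i, i < 118390 → P i := stepQ 118389 Q118389 (allL N118389 (tt N108887 F510087) (tt N115996 (iv0 F510090)) (tt N93888 F510085) (tt N99004 F510086) (tt N119989 (iv4 F518417)) (tt N112220 F510088) (tt N93887 (iv6 D221648)) (tt N117617 (iv7 F510089)))
theorem Q118391 : ∀ i, i < 118391 → P i := stepQ 118390 Q118390 (allL N118390 (tt N115996 (iv1 F510096)) (tt N108887 F510097) (tt N117617 F510091) (tt N93891 F510092) (tt N110886 F510093) (tt N112219 F510094) (tt N108916 F510095) (tt N93888 (iv7 D221649)))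
theorem Q118392 : ∀ i, i < 118392 → P i := stepQ 118391 Q118391 (allL N118391 (tt N112007 F510103) (tt N112006 (iv0 F510104)) (tt N100829 F510098) (tt N111999 F510099) (tt N103067 F510100) (tt N100828 F510101) (tt N93894 (iv6 D221650)) (tt N112005 F510102))
theorem Q118393 : ∀ i, i < 118393 → P i := stepQ 118392 Q118392 (allL N118392 (tt N108733 F510106) (tt N122500 (iv0 F532502)) (tt N118615 (iv2 F511172)) (tt N120541 (iv3 F521348)) (tt N122522 (iv4 F532625)) (tt N93896 (iv5 D221651)) (tt N101930 F510105) (tt N122032 (iv7 F529753)))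
theorem Q118394 : ∀ i, i < 118394 → P i := stepQ 118393 Q118393 (allL N118393 (tt N115455 F510110) (tt N119357 F515200) (tt N115236 F510107) (tt N93901 (iv3 D221652)) (tt N115235 F510108) (tt N111646 (iv5 F510111)) (tt N121744 (iv6 F528063)) (tt N105000 F510109))
theorem Q118395 : ∀ i, i < 118395 → P i := stepQ 118394 Q118394 (allL N118394 (tt N115466 F510117) (tt N111621 F510118) (tt N104997 F510112) (tt N111646 F510113) (tt N97679 F510116) (tt N93901 (iv5 D221653)) (tt N114188 F510114) (tt N105001 F510115))
theorem Q118396 : ∀ i, i < 118396 → P i := stepQ 118395 Q118395 (allL N118395 (tt N111621 F510123) (tt N115466 F510124) (tt N105001 F510119) (tt N108629 F510120) (tt N122122 (iv4 F530299)) (tt N93902 (iv5 D221654)) (tt N108628 F510121) (tt N104997 F510122))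
theorem Q118397 : ∀ i, i < 118397 → P i := stepQ 118396 Q118396 (allL N118396 (tt N114136 (iv1 F510129)) (tt N93903 (iv0 D221655)) (tt N114140 (iv2 F510128)) (tt N122128 (iv3 F530334)) (tt N110968 F510126) (tt N115718 F510125) (tt N110967 F510127) (tt N114139 F510130))
theorem Q118398 : ∀ i, i < 118398 → P i := stepQ 118397 Q118397 (allL N118397 (tt N93915 (iv1 D221656)) (tt N121676 (iv0 F527680)) (tt N108889 F510136) (tt N115996 (iv3 F510134)) (tt N118291 F510133) (tt N100751 F510132) (tt N95072 (iv6 F510135)) (tt N100750 F510131))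
theorem Q118399 : ∀ i, i < 118399 → P i := stepQ 118398 Q118398 (allL N118398 (tt N108889 (iv1 F510140)) (tt N100750 F510141) (tt N121676 (iv2 F527676)) (tt N93921 F510137) (tt N118326 F510138) (tt N95254 F510139) (tt N119047 (iv6 F513482)) (tt N93915 (iv7 D221657)))
theorem Q118400 : ∀ i, i < 118400 → P i := stepQ 118399 Q118399 (allL N118399 (tt N108553 F510146) (tt N108751 (iv0 F510147)) (tt N116465 F510142) (tt N93918 F510143) (tt N117879 F510144) (tt N122491 (iv5 F532450)) (tt N93916 (iv6 D221658)) (tt N117183 F510145))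
theorem Q118401 : ∀ i, i < 118401 → P i := stepQ 118400 Q118400 (allL N118400 (tt N112250 F510151) (tt N122495 (iv0 F532479)) (tt N115951 F510148) (tt N122491 (iv3 F532448)) (tt N121656 (iv4 F527575)) (tt N93918 (iv5 D221659)) (tt N115733 F510149) (tt N115612 F510150))
theorem Q118402 : ∀ i, i < 118402 → P i := stepQ 118401 Q118401 (allL N118401 (tt N113273 (iv1 F510157)) (tt N115901 F510158) (tt N116466 F510152) (tt N117183 F510153) (tt N93921 F510154) (tt N115612 F510155) (tt N117664 F510156) (tt N93918 (iv7 D221660)))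
theorem Q118403 : ∀ i, i < 118403 → P i := stepQ 118402 Q118402 (allL N118402 (tt N108902 F510161) (tt N121327 (iv0 F525786)) (tt N93924 F510159) (tt N118353 F510160) (tt N119066 (iv4 F513599)) (tt N120429 (iv5 F520735)) (tt N93922 (iv6 D221661)) (tt N121328 (iv7 F525792)))
theorem Q118404 : ∀ i, i < 118404 → P i := stepQ 118403 Q118403 (allL N118403 (tt N105739 F510165) (tt N121755 (iv0 F528124)) (tt N119066 (iv2 F513597)) (tt N114674 F510162) (tt N93924 F510163) (tt N114673 F510164) (tt N93923 (iv6 D221662)) (tt N121756 (iv7 F528131)))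
theorem Q118405 : ∀ i, i < 118405 → P i := stepQ 118404 Q118404 (allL N118404 (tt N116367 F510168) (tt N116366 F510169) (tt N120429 F520739) (tt N93928 F510166) (tt N115345 (iv4 F510170)) (tt N93924 (iv5 D221663)) (tt N108915 F510167) (tt N120430 (iv7 F520741)))
theorem Q118406 : ∀ i, i < 118406 → P i := stepQ 118405 Q118405 (allL N118405 (tt N121327 (iv1 F525787)) (tt N108902 (iv0 F513510)) (tt N121328 F525790) (tt N93929 F510171) (tt N121756 (iv4 F528127)) (tt N120430 F520744) (tt N119051 (iv6 F513507)) (tt N93924 (iv7 D221664)))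
theorem Q118407 : ∀ i, i < 118407 → P i := stepQ 118406 Q118406 (allL N118406 (tt N110844 F510175) (tt N110847 F510176) (tt N110846 F510172) (tt N121216 (iv3 F525181)) (tt N93928 (iv4 D221665)) (tt N115681 F510174) (tt N108918 F510173) (tt N110845 (iv7 F510177)))
theorem Q118408 : ∀ i, i < 118408 → P i := stepQ 118407 Q118407 (allL N118407 (tt N96023 (iv1 F510182)) (tt N110191 F510183) (tt N117554 F510178) (tt N120430 F520743) (tt N110845 F510179) (tt N93929 F510180) (tt N103089 F510181) (tt N93928 (iv7 D221666)))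
theorem Q118409 : ∀ i, i < 118409 → P i := stepQ 118408 Q118408 (allL N118408 (tt N121135 (iv1 F524709)) (tt N108897 (iv0 F510187)) (tt N107878 F510184) (tt N93930 (iv3 D221667)) (tt N119067 (iv4 F513603)) (tt N111611 F510188) (tt N111612 F510185) (tt N93937 F510186))
theorem Q118410 : ∀ i, i < 118410 → P i := stepQ 118409 Q118409 (allL N118409 (tt N108926 F510194) (tt N114197 F510195) (tt N93935 F510189) (tt N111611 F510190) (tt N110299 F510191) (tt N93930 (iv5 D221668)) (tt N108228 F510192) (tt N93939 F510193))
theorem Q118411 : ∀ i, i < 118411 → P i := stepQ 118410 Q118410 (allL N118410 (tt N93939 (iv1 F510200)) (tt N93935 (iv0 D221669)) (tt N108926 (iv2 F510199)) (tt N108923 F510198) (tt N115945 F510197) (tt N118342 F510196) (tt N110897 (iv6 F510202)) (tt N114197 F510201))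
theorem Q118412 : ∀ i, i < 118412 → P i := stepQ 118411 Q118411 (allL N118411 (tt N108897 (iv1 F510206)) (tt N121135 (iv0 F524708)) (tt N93937 (iv2 D221670)) (tt N95098 F510203) (tt N119068 F513612) (tt N120614 (iv5 F521764)) (tt N117010 F510204) (tt N107878 F510205))
theorem Q118413 : ∀ i, i < 118413 → P i := stepQ 118412 Q118412 (allL N118412 (tt N107802 F510212) (tt N97035 (iv0 F510213)) (tt N101788 F510207) (tt N107838 F510208) (tt N94259 F510209) (tt N93951 (iv5 D221671)) (tt N94258 F510210) (tt N96130 F510211))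
theorem Q118414 : ∀ i, i < 118414 → P i := stepQ 118413 Q118413 (allL N118413 (tt N108947 F510219) (tt N108946 F510218) (tt N93953 F510214) (tt N108938 F510215) (tt N117073 F510216) (tt N93952 (iv5 D221672)) (tt N118480 (iv6 F510597)) (tt N108945 F510217))
theorem Q118415 : ∀ i, i < 118415 → P i := stepQ 118414 Q118414 (allL N118414 (tt N103345 F510224) (tt N103344 (iv0 F510225)) (tt N93954 F510220) (tt N106761 F510221) (tt N108397 F510222) (tt N119080 F513682) (tt N93952 (iv6 D221673)) (tt N103346 F510223))
theorem Q118416 : ∀ i, i < 118416 → P i := stepQ 118415 Q118415 (allL N118415 (tt N93954 (iv1 D221674)) (tt N103346 F510226) (tt N103344 F510232) (tt N108984 (iv3 F510230)) (tt N109261 F510229) (tt N112668 F510228) (tt N110222 (iv6 F510231)) (tt N103345 F510227))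
theorem Q118417 : ∀ i, i < 118417 → P i := stepQ 118416 Q118416 (allL N118416 (tt N111108 F510236) (tt N102869 (iv0 F510237)) (tt N121254 F525396) (tt N93956 (iv3 D221675)) (tt N120395 (iv4 F520556)) (tt N102137 F510233) (tt N97353 F510234) (tt N108950 F510235))
theorem Q118418 : ∀ i, i < 118418 → P i := stepQ 118417 Q118417 (allL N118417 (tt N112100 F510241) (tt N96169 (iv0 F510242)) (tt N121797 (iv2 F528375)) (tt N93965 (iv3 D221676)) (tt N121215 (iv4 F525175)) (tt N97035 F510238) (tt N94118 F510239) (tt N108956 F510240))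
theorem Q118419 : ∀ i, i < 118419 → P i := stepQ 118418 Q118418 (allL N118418 (tt N103336 F510248) (tt N103339 (iv0 F510249)) (tt N108961 F510243) (tt N95342 F510244) (tt N93970 F510245) (tt N96074 F510246) (tt N93969 (iv6 D221677)) (tt N117672 F510247))
theorem Q118420 : ∀ i, i < 118420 → P i := stepQ 118419 Q118419 (allL N118419 (tt N102290 F510255) (tt N102157 F510256) (tt N95811 F510250) (tt N93981 F510251) (tt N95810 F510252) (tt N93980 (iv5 D221678)) (tt N102300 F510253) (tt N102186 F510254))
theorem Q118421 : ∀ i, i < 118421 → P i := stepQ 118420 Q118420 (allL N118420 (tt N118909 F512699) (tt N102187 (iv0 F510260)) (tt N118907 F512687) (tt N102300 F510257) (tt N116043 F510258) (tt N104659 F510259) (tt N93981 (iv6 D221679)) (tt N118908 (iv7 F512691)))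
theorem Q118422 : ∀ i, i < 118422 → P i := stepQ 118421 Q118421 (allL N118421 (tt N104996 F510265) (tt N109731 (iv0 F510266)) (tt N121201 (iv2 F525106)) (tt N118052 F510261) (tt N94020 F510262) (tt N97983 F510263) (tt N94019 (iv6 D221680)) (tt N118051 F510264))
theorem Q118423 : ∀ i, i < 118423 → P i := stepQ 118422 Q118422 (allL N118422 (tt N119478 (iv1 F515825)) (tt N119496 (iv0 F515906)) (tt N119010 (iv2 F513264)) (tt N105220 F510267) (tt N94022 (iv4 D221681)) (tt N119424 (iv5 F515538)) (tt N109031 F510268) (tt N119009 (iv7 F513262)))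
theorem Q118424 : ∀ i, i < 118424 → P i := stepQ 118423 Q118423 (allL N118423 (tt N104122 F510275) (tt N102784 F510274) (tt N103622 F510269) (tt N100733 F510270) (tt N104128 F510273) (tt N94032 (iv5 D221682)) (tt N114963 F510271) (tt N104117 F510272))
theorem Q118425 : ∀ i, i < 118425 → P i := stepQ 118424 Q118424 (allL N118424 (tt N118426 F510291) (tt N106732 (iv0 F510279)) (tt N112707 F510276) (tt N94033 (iv3 D221683)) (tt N118309 F510277) (tt N97067 F510278) (tt N119541 (iv6 F516150)) (tt N118427 (iv7 F510297)))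
theorem Q118426 : ∀ i, i < 118426 → P i := stepQ 118425 Q118425 (allL N118425 (tt N111130 F510283) (tt N94593 F510284) (tt N107158 F510280) (tt N94366 F510281) (tt N94052 (iv4 D221684)) (tt N120548 (iv5 F521386)) (tt N110508 F510282) (tt N118630 (iv7 F511229)))
theorem Q118427 : ∀ i, i < 118427 → P i := stepQ 118426 Q118426 (allL N118426 (tt N111648 F510290) (tt N118424 (iv0 F510291)) (tt N94055 F510285) (tt N112295 F510286) (tt N105151 F510287) (tt N102400 F510288) (tt N94053 (iv6 D221685)) (tt N104248 F510289))
theorem Q118428 : ∀ i, i < 118428 → P i := stepQ 118427 Q118427 (allL N118427 (tt N104248 (iv1 F510296)) (tt N94055 (iv0 D221686)) (tt N111648 (iv2 F510295)) (tt N95752 F510293) (tt N119080 (iv4 F513680)) (tt N95764 F510292) (tt N95771 F510294) (tt N118424 F510297))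
theorem Q118429 : ∀ i, i < 118429 → P i := stepQ 118428 Q118428 (allL N118428 (tt N119373 F515280) (tt N118991 (iv0 F513159)) (tt N118955 (iv2 F512955)) (tt N103913 F510298) (tt N115421 F510299) (tt N102715 F510300) (tt N94061 (iv6 D221687)) (tt N119432 (iv7 F515593)))
theorem Q118430 : ∀ i, i < 118430 → P i := stepQ 118429 Q118429 (allL N118429 (tt N110927 F510305) (tt N109693 F510306) (tt N109718 F510301) (tt N98174 F510302) (tt N94062 (iv4 D221688)) (tt N111128 F510303) (tt N97098 F510307) (tt N94577 F510304))
theorem Q118431 : ∀ i, i < 118431 → P i := stepQ 118430 Q118430 (allL N118430 (tt N94936 F510312) (tt N94922 (iv0 F510313)) (tt N94933 F510308) (tt N94063 F510309) (tt N97098 F510310) (tt N97104 F510311) (tt N94062 (iv6 D221689)) (tt N94934 F510314))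
theorem Q118432 : ∀ i, i < 118432 → P i := stepQ 118431 Q118431 (allL N118431 (tt N110873 F510320) (tt N110875 F510321) (tt N105140 F510315) (tt N117379 F510316) (tt N94068 (iv4 D221690)) (tt N105191 F510319) (tt N117379 F510317) (tt N107384 F510318))
theorem Q118433 : ∀ i, i < 118433 → P i := stepQ 118432 Q118432 (allL N118432 (tt N94095 (iv1 D221691)) (tt N98074 F510322) (tt N112044 F510327) (tt N100362 (iv3 F510325)) (tt N118519 (iv4 F510787)) (tt N109264 F510324) (tt N100354 (iv6 F510326)) (tt N109907 F510323))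
theorem Q118434 : ∀ i, i < 118434 → P i := stepQ 118433 Q118433 (allL N118433 (tt N109416 F510333) (tt N94307 F510332) (tt N110541 F510328) (tt N116637 F510329) (tt N94095 (iv4 D221692)) (tt N122304 (iv5 F531298)) (tt N94098 F510330) (tt N94200 F510331))
theorem Q118435 : ∀ i, i < 118435 → P i := stepQ 118434 Q118434 (allL N118434 (tt N121848 F528683) (tt N121430 (iv0 F526328)) (tt N110540 F510334) (tt N122644 D225903) (tt N94102 (iv4 D221693)) (tt N112956 F510335) (tt N94103 F510336) (tt N112726 F510337))
theorem Q118436 : ∀ i, i < 118436 → P i := stepQ 118435 Q118435 (allL N118435 (tt N109576 F510341) (tt N100031 (iv0 F510342)) (tt N109575 F510338) (tt N94103 (iv3 D221694)) (tt N117564 F510339) (tt N121894 (iv5 F528948)) (tt N122644 (iv6 F533355)) (tt N109574 F510340))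
theorem Q118437 : ∀ i, i < 118437 → P i := stepQ 118436 Q118436 (allL N118436 (tt N117837 F510346) (tt N117470 F510347) (tt N108768 F510343) (tt N121894 F528949) (tt N95332 F510344) (tt N94103 (iv5 D221695)) (tt N121906 (iv6 F528991)) (tt N95331 F510345))
theorem Q118438 : ∀ i, i < 118438 → P i := stepQ 118437 Q118437 (allL N118437 (tt N115010 F510352) (tt N121955 F529281) (tt N116337 F510348) (tt N94116 F510349) (tt N105734 F510353) (tt N94115 (iv5 D221696)) (tt N105627 F510350) (tt N118193 F510351))
theorem Q118439 : ∀ i, i < 118439 → P i := stepQ 118438 Q118438 (allL N118438 (tt N108885 F510357) (tt N108685 F510358) (tt N118191 F510354) (tt N104609 F510359) (tt N94116 (iv4 D221697)) (tt N103408 F510356) (tt N120899 (iv6 F523360)) (tt N103407 F510355))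
theorem Q118440 : ∀ i, i < 118440 → P i := stepQ 118439 Q118439 (allL N118439 (tt N117698 F510364) (tt N97592 (iv0 F510365)) (tt N103252 F510360) (tt N94117 (iv3 D221698)) (tt N118804 (iv4 F512159)) (tt N103248 F510361) (tt N111850 F510362) (tt N102249 F510363))
theorem Q118441 : ∀ i, i < 118441 → P i := stepQ 118440 Q118440 (allL N118440 (tt N101938 (iv1 F510369)) (tt N101949 F510368) (tt N94118 (iv2 D221699)) (tt N118192 F510366) (tt N121214 (iv4 F525168)) (tt N121953 (iv5 F529269)) (tt N121797 (iv6 F528378)) (tt N101947 F510367))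
theorem Q118442 : ∀ i, i < 118442 → P i := stepQ 118441 Q118441 (allL N118441 (tt N108870 F510373) (tt N108873 F510374) (tt N121953 (iv2 F529267)) (tt N94119 F510370) (tt N122594 (iv4 F533053)) (tt N94118 (iv5 D221700)) (tt N110438 F510371) (tt N118190 F510372))
theorem Q118443 : ∀ i, i < 118443 → P i := stepQ 118442 Q118442 (allL N118442 (tt N108685 F510378) (tt N108885 F510379) (tt N103407 F510375) (tt N119633 (iv3 F516618)) (tt N94119 (iv4 D221701)) (tt N103399 F510376) (tt N115387 F510380) (tt N118191 F510377))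
theorem Q118444 : ∀ i, i < 118444 → P i := stepQ 118443 Q118443 (allL N118443 (tt N99334 F510386) (tt N96629 (iv0 F510387)) (tt N117441 F510381) (tt N110438 F510382) (tt N115387 F510383) (tt N97036 F510384) (tt N94119 (iv6 D221702)) (tt N107793 F510385))
theorem Q118445 : ∀ i, i < 118445 → P i := stepQ 118444 Q118444 (allL N118444 (tt N109683 (iv1 F510394)) (tt N94141 (iv0 D221703)) (tt N109681 (iv2 F510392)) (tt N109868 F510390) (tt N114986 F510389) (tt N113695 F510388) (tt N114594 F510391) (tt N109682 F510393))
theorem Q118446 : ∀ i, i < 118446 → P i := stepQ 118445 Q118445 (allL N118445 (tt N109682 (iv1 F510399)) (tt N109681 F510400) (tt N109683 F510395) (tt N105476 F510396) (tt N120164 (iv4 F519373)) (tt N94142 F510397) (tt N109684 F510398) (tt N94141 (iv7 D221704)))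
theorem Q118447 : ∀ i, i < 118447 → P i := stepQ 118446 Q118446 (allL N118446 (tt N105497 F510406) (tt N114644 (iv0 F510407)) (tt N117770 F510401) (tt N94146 F510402) (tt N117772 F510403) (tt N105088 F510404) (tt N94144 (iv6 D221705)) (tt N114334 F510405))
theorem Q118448 : ∀ i, i < 118448 → P i := stepQ 118447 Q118447 (allL N118447 (tt N107640 F510413) (tt N107642 F510414) (tt N109622 F510408) (tt N116939 F510409) (tt N107050 F510410) (tt N94148 (iv5 D221706)) (tt N116938 F510411) (tt N108081 F510412))
theorem Q118449 : ∀ i, i < 118449 → P i := stepQ 118448 Q118448 (allL N118448 (tt N111847 F510420) (tt N115737 (iv0 F510421)) (tt N115736 F510415) (tt N94152 F510416) (tt N106188 F510417) (tt N112365 F510418) (tt N94151 (iv6 D221707)) (tt N115735 F510419))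
theorem Q118450 : ∀ i, i < 118450 → P i := stepQ 118449 Q118449 (allL N118449 (tt N108319 F510427) (tt N118783 (iv0 F512044)) (tt N108170 F510422) (tt N114586 F510423) (tt N94155 F510424) (tt N108315 F510425) (tt N94154 (iv6 D221708)) (tt N118359 F510426))
theorem Q118451 : ∀ i, i < 118451 → P i := stepQ 118450 Q118450 (allL N118450 (tt N99519 F510433) (tt N94155 (iv0 D221709)) (tt N119075 (iv2 F513648)) (tt N103038 F510428) (tt N103043 F510429) (tt N107128 F510430) (tt N103036 F510431) (tt N118336 (iv7 F510432)))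
theorem Q118452 : ∀ i, i < 118452 → P i := stepQ 118451 Q118451 (allL N118451 (tt N94155 (iv1 D221710)) (tt N99519 F510434) (tt N118336 F510439) (tt N104618 (iv3 F510437)) (tt N118335 F510436) (tt N107119 F510435) (tt N105281 (iv6 F510438)) (tt N119075 (iv7 F513651)))
theorem Q118453 : ∀ i, i < 118453 → P i := stepQ 118452 Q118452 (allL N118452 (tt N118336 (iv1 F510445)) (tt N119075 (iv0 F513652)) (tt N99519 F510440) (tt N94160 F510441) (tt N118359 F510442) (tt N95977 F510443) (tt N111144 F510444) (tt N94155 (iv7 D221711)))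
theorem Q118454 : ∀ i, i < 118454 → P i := stepQ 118453 Q118453 (allL N118453 (tt N100192 F510449) (tt N100194 (iv0 F510450)) (tt N121767 (iv2 F528191)) (tt N113104 F510446) (tt N100321 F510447) (tt N105098 F510448) (tt N94159 (iv6 D221712)) (tt N119628 (iv7 F516595)))
theorem Q118455 : ∀ i, i < 118455 → P i := stepQ 118454 Q118454 (allL N118454 (tt N106903 (iv1 F510455)) (tt N106902 F510456) (tt N106260 F510451) (tt N116991 F510452) (tt N94163 F510453) (tt N106770 F510454) (tt N106258 (iv6 F510457)) (tt N94162 (iv7 D221713)))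
theorem Q118456 : ∀ i, i < 118456 → P i := stepQ 118455 Q118455 (allL N118455 (tt N107175 F510463) (tt N107186 (iv0 F510464)) (tt N96200 F510459) (tt N107192 F510460) (tt N106258 F510461) (tt N120193 (iv5 F519521)) (tt N94163 (iv6 D221714)) (tt N107187 F510462))
theorem Q118457 : ∀ i, i < 118457 → P i := stepQ 118456 Q118456 (allL N118456 (tt N112509 F510469) (tt N112369 F510470) (tt N112498 F510465) (tt N94175 F510466) (tt N111615 F510471) (tt N94173 (iv5 D221715)) (tt N109850 F510467) (tt N112505 F510468))
theorem Q118458 : ∀ i, i < 118458 → P i := stepQ 118457 Q118457 (allL N118457 (tt N109304 (iv1 F510476)) (tt N100530 F510477) (tt N109303 F510472) (tt N109851 F510473) (tt N102326 F510474) (tt N119541 (iv5 F516149)) (tt N96566 F510475) (tt N94174 (iv7 D221716)))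
theorem Q118459 : ∀ i, i < 118459 → P i := stepQ 118458 Q118458 (allL N118458 (tt N95791 F510482) (tt N102265 F510483) (tt N111609 F510478) (tt N117864 F510479) (tt N94175 (iv4 D221717)) (tt N117862 F510480) (tt N120724 (iv6 F522364)) (tt N111610 F510481))
theorem Q118460 : ∀ i, i < 118460 → P i := stepQ 118459 Q118459 (allL N118459 (tt N94242 (iv1 F510489)) (tt N94241 F510490) (tt N94244 F510484) (tt N100080 F510485) (tt N110651 F510486) (tt N112041 F510487) (tt N94268 F510488) (tt N94185 (iv7 D221718)))
theorem Q118461 : ∀ i, i < 118461 → P i := stepQ 118460 Q118460 (allL N118460 (tt N94266 (iv1 F510496)) (tt N94265 F510497) (tt N94268 F510491) (tt N108707 F510492) (tt N110649 F510493) (tt N108706 F510494) (tt N94244 F510495) (tt N94189 (iv7 D221719)))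
theorem Q118462 : ∀ i, i < 118462 → P i := stepQ 118461 Q118461 (allL N118461 (tt N117880 F510501) (tt N119181 F514230) (tt N94193 F510498) (tt N94287 F510499) (tt N94525 F510500) (tt N120325 (iv5 F520197)) (tt N94192 (iv6 D221720)) (tt N119173 (iv7 F514187)))
theorem Q118463 : ∀ i, i < 118463 → P i := stepQ 118462 Q118462 (allL N118462 (tt N119173 F514189) (tt N94193 (iv0 D221721)) (tt N117880 F510505) (tt N118327 F510503) (tt N120551 (iv4 F521406)) (tt N112795 F510502) (tt N117606 (iv6 F510504)) (tt N119181 (iv7 F514231)))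
theorem Q118464 : ∀ i, i < 118464 → P i := stepQ 118463 Q118463 (allL N118463 (tt N94193 (iv1 D221722)) (tt N119173 (iv0 F514188)) (tt N119181 F514229) (tt N94460 (iv3 F510508)) (tt N109623 (iv4 F510507)) (tt N112918 F510510) (tt N117918 (iv6 F510509)) (tt N117880 F510506))
theorem Q118465 : ∀ i, i < 118465 → P i := stepQ 118464 Q118464 (allL N118464 (tt N120249 (iv1 F519811)) (tt N120322 (iv0 F520191)) (tt N120325 F520198) (tt N94196 F510511) (tt N112110 F510514) (tt N94193 (iv5 D221723)) (tt N94461 F510512) (tt N116328 F510513))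
theorem Q118466 : ∀ i, i < 118466 → P i := stepQ 118465 Q118465 (allL N118465 (tt N122620 (iv1 F533219)) (tt N122246 (iv0 F530992)) (tt N94297 F510515) (tt N94461 F510516) (tt N122382 (iv4 F531762)) (tt N94194 (iv5 D221724)) (tt N94196 F510517) (tt N122645 D225904))
theorem Q118467 : ∀ i, i < 118467 → P i := stepQ 118466 Q118466 (allL N118466 (tt N94296 (iv1 F510522)) (tt N94295 F510523) (tt N94298 F510518) (tt N94462 F510519) (tt N110629 F510520) (tt N122645 (iv5 F533362)) (tt N94320 F510521) (tt N94194 (iv7 D221725)))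
theorem Q118468 : ∀ i, i < 118468 → P i := stepQ 118467 Q118467 (allL N118467 (tt N100093 F510527) (tt N94288 (iv0 F510528)) (tt N119367 F515248) (tt N94195 (iv3 D221726)) (tt N94438 F510524) (tt N122618 (iv5 F533203)) (tt N106102 F510525) (tt N94301 F510526))
theorem Q118469 : ∀ i, i < 118469 → P i := stepQ 118468 Q118468 (allL N118468 (tt N117809 F510532) (tt N117807 F510533) (tt N94300 F510529) (tt N122618 F533205) (tt N113365 F510530) (tt N94195 (iv5 D221727)) (tt N113364 (iv6 F510534)) (tt N94302 F510531))
theorem Q118470 : ∀ i, i < 118470 → P i := stepQ 118469 Q118469 (allL N118469 (tt N97110 F510539) (tt N97100 F510540) (tt N94305 F510535) (tt N113890 F510536) (tt N94196 (iv4 D221728)) (tt N97101 F510538) (tt N122382 (iv6 F531764)) (tt N116332 F510537))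
theorem Q118471 : ∀ i, i < 118471 → P i := stepQ 118470 Q118470 (allL N118470 (tt N94307 F510545) (tt N109416 (iv0 F510547)) (tt N94200 F510541) (tt N94357 F510542) (tt N98074 F510543) (tt N116527 F510546) (tt N94198 (iv6 D221729)) (tt N110541 F510544))
theorem Q118472 : ∀ i, i < 118472 → P i := stepQ 118471 Q118471 (allL N118471 (tt N117583 F510552) (tt N122250 F531013) (tt N97337 F510548) (tt N94200 F510549) (tt N97332 F510550) (tt N122348 (iv5 F531561)) (tt N94199 (iv6 D221730)) (tt N116637 F510551))
theorem Q118473 : ∀ i, i < 118473 → P i := stepQ 118472 Q118472 (allL N118472 (tt N121032 F524126) (tt N117897 (iv0 F510558)) (tt N94208 F510553) (tt N94364 F510554) (tt N116610 F510555) (tt N117785 F510556) (tt N94205 (iv6 D221731)) (tt N116609 F510557))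
theorem Q118474 : ∀ i, i < 118474 → P i := stepQ 118473 Q118473 (allL N118473 (tt N116609 F510563) (tt N94208 (iv0 D221732)) (tt N121032 (iv2 F524120)) (tt N96921 (iv3 F510562)) (tt N105522 F510560) (tt N94803 F510559) (tt N117075 F510561) (tt N117897 F510564))
theorem Q118475 : ∀ i, i < 118475 → P i := stepQ 118474 Q118474 (allL N118474 (tt N94208 (iv1 D221733)) (tt N116609 F510565) (tt N117897 F510568) (tt N101858 (iv3 F510567)) (tt N105523 F510569) (tt N94799 F510566) (tt N118771 (iv6 F511987)) (tt N121032 (iv7 F524124)))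
theorem Q118476 : ∀ i, i < 118476 → P i := stepQ 118475 Q118475 (allL N118475 (tt N117897 (iv1 F510575)) (tt N121032 (iv0 F524125)) (tt N116609 F510570) (tt N94212 F510571) (tt N116606 F510572) (tt N117786 F510573) (tt N110824 F510574) (tt N94208 (iv7 D221734)))
theorem Q118477 : ∀ i, i < 118477 → P i := stepQ 118476 Q118476 (allL N118476 (tt N121730 (iv1 F528011)) (tt N117882 F510582) (tt N111605 F510577) (tt N94213 F510578) (tt N95367 F510579) (tt N94209 (iv5 D221735)) (tt N108054 F510580) (tt N117793 F510581))
theorem Q118478 : ∀ i, i < 118478 → P i := stepQ 118477 Q118477 (allL N118477 (tt N108694 F510585) (tt N119720 F517089) (tt N94398 F510583) (tt N117884 F510584) (tt N119691 (iv4 F516945)) (tt N122646 D225905) (tt N94211 (iv6 D221736)) (tt N119718 (iv7 F517078)))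
theorem Q118479 : ∀ i, i < 118479 → P i := stepQ 118478 Q118478 (allL N118478 (tt N94218 (iv1 D221737)) (tt N100412 F510586) (tt N110798 (iv2 F510591)) (tt N117019 (iv3 F510589)) (tt N116394 (iv4 F510588)) (tt N121455 (iv5 F526474)) (tt N99257 (iv6 F510590)) (tt N110797 F510587))
theorem Q118480 : ∀ i, i < 118480 → P i := stepQ 118479 Q118479 (allL N118479 (tt N99069 (iv1 F510595)) (tt N94228 (iv0 D221738)) (tt N118517 (iv2 F510779)) (tt N118847 F512396) (tt N99272 F510592) (tt N116829 F510593) (tt N99271 F510594) (tt N118518 (iv7 F510781)))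
theorem Q118481 : ∀ i, i < 118481 → P i := stepQ 118480 Q118480 (allL N118480 (tt N99469 F510600) (tt N108995 F510601) (tt N108128 F510596) (tt N118987 (iv3 F513135)) (tt N94229 (iv4 D221739)) (tt N111610 F510599) (tt N118413 F510597) (tt N117862 F510598))
theorem Q118482 : ∀ i, i < 118482 → P i := stepQ 118481 Q118481 (allL N118481 (tt N99206 (iv1 F510607)) (tt N94231 (iv0 D221740)) (tt N98919 (iv2 F510605)) (tt N120717 (iv3 F522319)) (tt N110052 F510603) (tt N98774 F510602) (tt N110053 F510604) (tt N98910 F510606))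
theorem Q118483 : ∀ i, i < 118483 → P i := stepQ 118482 Q118482 (allL N118482 (tt N98910 (iv1 F510613)) (tt N98919 F510614) (tt N99206 F510608) (tt N97327 F510609) (tt N105294 F510610) (tt N99204 F510611) (tt N117777 F510612) (tt N94231 (iv7 D221741)))
theorem Q118484 : ∀ i, i < 118484 → P i := stepQ 118483 Q118483 (allL N118483 (tt N120607 (iv1 F521730)) (tt N118561 (iv0 F510938)) (tt N118593 (iv2 F511057)) (tt N106958 F510615) (tt N96297 F510617) (tt N94234 (iv5 D221742)) (tt N116595 F510616) (tt N119952 (iv7 F518218)))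
theorem Q118485 : ∀ i, i < 118485 → P i := stepQ 118484 Q118484 (allL N118484 (tt N117779 F510622) (tt N117860 F510623) (tt N117859 F510618) (tt N94243 F510619) (tt N121606 (iv4 F527298)) (tt N94236 (iv5 D221743)) (tt N94238 F510620) (tt N112801 F510621))
theorem Q118486 : ∀ i, i < 118486 → P i := stepQ 118485 Q118485 (allL N118485 (tt N119369 (iv1 F515261)) (tt N121573 F527107) (tt N121572 F527098) (tt N114877 F510624) (tt N98915 F510625) (tt N122246 (iv5 F530991)) (tt N94241 (iv6 D221744)) (tt N98911 F510626))
theorem Q118487 : ∀ i, i < 118487 → P i := stepQ 118486 Q118486 (allL N118486 (tt N117168 (iv1 F510633)) (tt N110105 F510632) (tt N94246 (iv2 D221745)) (tt N110677 F510627) (tt N103998 F510628) (tt N99501 F510629) (tt N107350 F510630) (tt N108833 F510631))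
theorem Q118488 : ∀ i, i < 118488 → P i := stepQ 118487 Q118487 (allL N118487 (tt N107578 F510639) (tt N107588 F510640) (tt N107586 F510634) (tt N107582 F510635) (tt N109842 F510636) (tt N113364 F510637) (tt N94248 (iv6 D221746)) (tt N107577 F510638))
theorem Q118489 : ∀ i, i < 118489 → P i := stepQ 118488 Q118488 (allL N118488 (tt N99246 F510645) (tt N112083 (iv0 F510647)) (tt N94256 F510641) (tt N108087 F510642) (tt N100416 F510643) (tt N107541 F510646) (tt N94255 (iv6 D221747)) (tt N100413 F510644))
theorem Q118490 : ∀ i, i < 118490 → P i := stepQ 118489 Q118489 (allL N118489 (tt N94260 (iv1 D221748)) (tt N96133 F510648) (tt N104646 F510652) (tt N98910 (iv3 F510650)) (tt N118589 (iv4 F511032)) (tt N98909 F510649) (tt N117844 (iv6 F510651)) (tt N120717 (iv7 F522323)))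
theorem Q118491 : ∀ i, i < 118491 → P i := stepQ 118490 Q118490 (allL N118490 (tt N118291 F510657) (tt N118290 (iv0 F510658)) (tt N118175 F510653) (tt N94263 (iv3 D221749)) (tt N102315 F510656) (tt N106982 F510654) (tt N118298 (iv6 F510659)) (tt N102312 F510655))
theorem Q118492 : ∀ i, i < 118492 → P i := stepQ 118491 Q118491 (allL N118491 (tt N117844 F510664) (tt N117806 (iv0 F510666)) (tt N117845 F510660) (tt N118298 F510661) (tt N112640 F510662) (tt N100896 (iv5 F510665)) (tt N94263 (iv6 D221750)) (tt N117774 F510663))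
theorem Q118493 : ∀ i, i < 118493 → P i := stepQ 118492 Q118492 (allL N118492 (tt N103111 F510669) (tt N94381 (iv0 F510671)) (tt N112368 F510667) (tt N94266 (iv3 D221751)) (tt N100408 F510668) (tt N119844 (iv5 F517662)) (tt N117905 (iv6 F510670)) (tt N120727 (iv7 F522384)))
theorem Q118494 : ∀ i, i < 118494 → P i := stepQ 118493 Q118493 (allL N118493 (tt N116652 F510674) (tt N116651 (iv0 F510676)) (tt N116653 F510672) (tt N119844 (iv3 F517661)) (tt N116635 F510675) (tt N94266 (iv5 D221752)) (tt N119843 (iv6 F517660)) (tt N116633 F510673))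
theorem Q118495 : ∀ i, i < 118495 → P i := stepQ 118494 Q118494 (allL N118494 (tt N110586 (iv1 F511056)) (tt N117820 (iv0 F510679)) (tt N121973 (iv2 F529390)) (tt N117905 F510677) (tt N118989 (iv4 F513150)) (tt N117904 (iv5 F510678)) (tt N94266 (iv6 D221753)) (tt N119839 (iv7 F517633)))
theorem Q118496 : ∀ i, i < 118496 → P i := stepQ 118495 Q118495 (allL N118495 (tt N108706 (iv1 F510684)) (tt N94267 (iv0 D221754)) (tt N119721 (iv2 F517091)) (tt N106965 F510682) (tt N107305 F510681) (tt N106964 F510680) (tt N107303 F510683) (tt N121497 (iv7 F526701)))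
theorem Q118497 : ∀ i, i < 118497 → P i := stepQ 118496 Q118496 (allL N118496 (tt N94267 (iv1 D221755)) (tt N108706 F510685) (tt N121497 F526699) (tt N94379 (iv3 F510686)) (tt N122647 D225906) (tt N118521 (iv5 F510792)) (tt N121559 (iv6 F527041)) (tt N119721 F517096))
theorem Q118498 : ∀ i, i < 118498 → P i := stepQ 118497 Q118497 (allL N118497 (tt N117822 (iv1 F510691)) (tt N117821 F510690) (tt N94269 (iv2 D221756)) (tt N121490 (iv3 F526656)) (tt N110963 F510687) (tt N120496 (iv5 F521086)) (tt N117874 F510688) (tt N117819 F510689))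
theorem Q118499 : ∀ i, i < 118499 → P i := stepQ 118498 Q118498 (allL N118498 (tt N108720 F510695) (tt N108719 F510696) (tt N121256 (iv2 F525406)) (tt N95958 F510692) (tt N94270 (iv4 D221757)) (tt N117753 F510694) (tt N116601 (iv6 F510697)) (tt N116380 F510693))
theorem Q118500 : ∀ i, i < 118500 → P i := stepQ 118499 Q118499 (allL N118499 (tt N116642 F510700) (tt N96289 (iv0 F510701)) (tt N118562 F510942) (tt N118584 (iv3 F511011)) (tt N116601 F510698) (tt N118533 (iv5 F510828)) (tt N94270 (iv6 D221758)) (tt N116598 F510699))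
theorem Q118501 : ∀ i, i < 118501 → P i := stepQ 118500 Q118500 (allL N118500 (tt N94457 F510706) (tt N94311 (iv0 F510707)) (tt N112725 F510702) (tt N94279 (iv3 D221759)) (tt N112812 F510703) (tt N112725 F510704) (tt N122648 D225907) (tt N96253 F510705))
theorem Q118502 : ∀ i, i < 118502 → P i := stepQ 118501 Q118501 (allL N118501 (tt N94299 F510709) (tt N121462 F526512) (tt N96252 F510708) (tt N122648 (iv3 F533380)) (tt N119011 (iv4 F513271)) (tt N122294 (iv5 F531241)) (tt N94279 (iv6 D221760)) (tt N121461 (iv7 F526501)))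
theorem Q118503 : ∀ i, i < 118503 → P i := stepQ 118502 Q118502 (allL N118502 (tt N117871 F510715) (tt N117870 (iv0 F510716)) (tt N94281 F510710) (tt N108270 F510711) (tt N96283 F510712) (tt N117091 F510713) (tt N94280 (iv6 D221761)) (tt N117869 F510714))
theorem Q118504 : ∀ i, i < 118504 → P i := stepQ 118503 Q118503 (allL N118503 (tt N117869 (iv1 F510720)) (tt N94281 (iv0 D221762)) (tt N117871 F510723) (tt N111603 F510718) (tt N110296 F510717) (tt N117900 F510721) (tt N110295 F510719) (tt N117870 (iv7 F510722)))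
theorem Q118505 : ∀ i, i < 118505 → P i := stepQ 118504 Q118504 (allL N118504 (tt N94281 (iv1 D221763)) (tt N117869 F510724) (tt N117870 F510729) (tt N118283 (iv3 F510727)) (tt N106800 (iv4 F510728)) (tt N117893 F510726) (tt N117895 F510730) (tt N117871 F510725))
theorem Q118506 : ∀ i, i < 118506 → P i := stepQ 118505 Q118505 (allL N118505 (tt N117319 (iv1 F510737)) (tt N117314 F510736) (tt N117091 F510731) (tt N94282 F510732) (tt N117090 F510735) (tt N94281 (iv5 D221764)) (tt N108048 F510733) (tt N117094 F510734))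
theorem Q118507 : ∀ i, i < 118507 → P i := stepQ 118506 Q118506 (allL N118506 (tt N94287 (iv1 D221765)) (tt N94292 F510738) (tt N94290 (iv2 F510742)) (tt N94296 (iv3 F510740)) (tt N107259 F510741) (tt N122649 D225908) (tt N121429 (iv6 F526320)) (tt N94289 F510739))
theorem Q118508 : ∀ i, i < 118508 → P i := stepQ 118507 Q118507 (allL N118507 (tt N113735 F510744) (tt N122524 (iv0 F532641)) (tt N94291 F510743) (tt N120325 F520200) (tt N106850 (iv4 F510745)) (tt N94287 (iv5 D221766)) (tt N119368 (iv6 F515253)) (tt N121146 (iv7 F524773)))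
theorem Q118509 : ∀ i, i < 118509 → P i := stepQ 118508 Q118508 (allL N118508 (tt N94290 (iv1 F510748)) (tt N94289 F510749) (tt N94292 F510746) (tt N119173 (iv3 F514185)) (tt N116486 F510747) (tt N121146 (iv5 F524774)) (tt N120730 F522401) (tt N94287 (iv7 D221767)))
theorem Q118510 : ∀ i, i < 118510 → P i := stepQ 118509 Q118509 (allL N118509 (tt N94288 (iv1 D221768)) (tt N100093 F510750) (tt N94301 (iv2 F510751)) (tt N121462 (iv3 F526507)) (tt N119319 (iv4 F514991)) (tt N122617 (iv5 F533197)) (tt N121730 (iv6 F528009)) (tt N119367 (iv7 F515250)))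
theorem Q118511 : ∀ i, i < 118511 → P i := stepQ 118510 Q118510 (allL N118510 (tt N108581 F510754) (tt N122548 (iv0 F532781)) (tt N119368 (iv2 F515251)) (tt N94297 F510752) (tt N121229 (iv4 F525257)) (tt N94288 (iv5 D221769)) (tt N94291 F510753) (tt N122623 (iv7 F533232)))
theorem Q118512 : ∀ i, i < 118512 → P i := stepQ 118511 Q118511 (allL N118511 (tt N107261 F510759) (tt N107256 (iv0 F510760)) (tt N106238 F510755) (tt N116956 F510756) (tt N94289 (iv4 D221770)) (tt N120105 F519071) (tt N108343 F510757) (tt N107259 F510758))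
theorem Q118513 : ∀ i, i < 118513 → P i := stepQ 118512 Q118512 (allL N118512 (tt N122544 F532758) (tt N119307 (iv0 F514956)) (tt N121432 (iv2 F526337)) (tt N121989 (iv3 F529484)) (tt N116262 (iv4 F523275)) (tt N94289 (iv5 D221771)) (tt N122530 (iv6 F532675)) (tt N122649 (iv7 F533389)))
theorem Q118514 : ∀ i, i < 118514 → P i := stepQ 118513 Q118513 (allL N118513 (tt N119307 F514957) (tt N122544 (iv0 F532757)) (tt N122649 (iv2 F533385)) (tt N114396 F510761) (tt N113958 (iv4 F510762)) (tt N94290 (iv5 D221772)) (tt N122525 (iv6 F532646)) (tt N121432 (iv7 F526340)))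
theorem Q118515 : ∀ i, i < 118515 → P i := stepQ 118514 Q118514 (allL N118514 (tt N94291 (iv1 D221773)) (tt N121146 (iv0 F524775)) (tt N122524 (iv2 F532636)) (tt N112958 F510765) (tt N113741 F510767) (tt N108242 (iv5 F510764)) (tt N107215 F510766) (tt N113735 F510763))
theorem Q118516 : ∀ i, i < 118516 → P i := stepQ 118515 Q118515 (allL N118515 (tt N121080 (iv1 F524416)) (tt N121084 F524438) (tt N106850 F510768) (tt N121332 (iv3 F525817)) (tt N94291 (iv4 D221774)) (tt N105146 (iv5 F510769)) (tt N121229 (iv6 F525258)) (tt N121082 (iv7 F524427)))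
theorem Q118517 : ∀ i, i < 118517 → P i := stepQ 118516 Q118516 (allL N118516 (tt N122524 (iv1 F532642)) (tt N113735 (iv0 F510772)) (tt N121146 (iv2 F524772)) (tt N94306 F510770) (tt N121082 F524428) (tt N94292 F510771) (tt N122263 (iv6 F531052)) (tt N94291 (iv7 D221775)))
theorem Q118518 : ∀ i, i < 118518 → P i := stepQ 118517 Q118517 (allL N118517 (tt N117872 (iv1 F510776)) (tt N94294 (iv0 D221776)) (tt N118479 F510779) (tt N94402 (iv3 F510777)) (tt N99242 F510773) (tt N94375 F510775) (tt N94377 F510774) (tt N108051 F510778))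
theorem Q118519 : ∀ i, i < 118519 → P i := stepQ 118518 Q118518 (allL N118518 (tt N94294 (iv1 D221777)) (tt N117872 F510780) (tt N108051 F510786) (tt N116608 (iv3 F510784)) (tt N104183 F510783) (tt N116607 F510782) (tt N117788 (iv6 F510785)) (tt N118479 F510781))
theorem Q118520 : ∀ i, i < 118520 → P i := stepQ 118519 Q118519 (allL N118519 (tt N110540 F510788) (tt N112726 F510789) (tt N121430 (iv2 F526323)) (tt N94295 (iv3 D221778)) (tt N118432 F510787) (tt N122236 (iv5 F530932)) (tt N118595 (iv6 F511076)) (tt N121848 (iv7 F528680)))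
theorem Q118521 : ∀ i, i < 118521 → P i := stepQ 118520 Q118520 (allL N118520 (tt N122650 D225909) (tt N122546 F532770) (tt N121989 (iv2 F529483)) (tt N122236 F530936) (tt N122243 (iv4 F530970)) (tt N94295 (iv5 D221779)) (tt N122264 (iv6 F531054)) (tt N121990 (iv7 F529492)))
theorem Q118522 : ∀ i, i < 118522 → P i := stepQ 118521 Q118521 (allL N118521 (tt N99207 (iv1 F510793)) (tt N118846 (iv0 F512391)) (tt N117290 F510790) (tt N118595 (iv3 F511071)) (tt N106686 F510791) (tt N118496 F510792) (tt N94295 (iv6 D221780)) (tt N119693 (iv7 F516956)))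
theorem Q118523 : ∀ i, i < 118523 → P i := stepQ 118522 Q118522 (allL N118522 (tt N122546 F532769) (tt N122650 F533396) (tt N121990 (iv2 F529489)) (tt N122649 (iv3 F533386)) (tt N107633 F510795) (tt N94296 (iv5 D221781)) (tt N107590 F510794) (tt N121989 (iv7 F529485)))
theorem Q118524 : ∀ i, i < 118524 → P i := stepQ 118523 Q118523 (allL N118523 (tt N122645 (iv1 F533364)) (tt N94297 (iv0 D221782)) (tt N122620 (iv2 F533213)) (tt N112959 (iv3 F510803)) (tt N116157 F510802) (tt N98911 F510796) (tt N122544 (iv6 F532756)) (tt N122246 F530994))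
theorem Q118525 : ∀ i, i < 118525 → P i := stepQ 118524 Q118524 (allL N118524 (tt N94297 (iv1 D221783)) (tt N122645 F533363) (tt N122246 (iv2 F530988)) (tt N122524 (iv3 F532637)) (tt N116939 F510798) (tt N121572 (iv5 F527095)) (tt N116940 (iv6 F510797)) (tt N122620 (iv7 F533217)))
theorem Q118526 : ∀ i, i < 118526 → P i := stepQ 118525 Q118525 (allL N118525 (tt N122651 D225910) (tt N114044 (iv0 F510801)) (tt N122382 (iv2 F531761)) (tt N121333 (iv3 F525823)) (tt N94297 (iv4 D221784)) (tt N110802 (iv5 F510800)) (tt N94305 F510799) (tt N122652 D225911))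
theorem Q118527 : ∀ i, i < 118527 → P i := stepQ 118526 Q118526 (allL N118526 (tt N122246 (iv1 F530993)) (tt N122620 (iv0 F533218)) (tt N122645 (iv2 F533359)) (tt N122623 (iv3 F533230)) (tt N122652 (iv4 F533407)) (tt N94298 F510804) (tt N122653 D225912) (tt N94297 (iv7 D221785)))
theorem Q118528 : ∀ i, i < 118528 → P i := stepQ 118527 Q118527 (allL N118527 (tt N121915 F529043) (tt N122248 F531001) (tt N118569 (iv2 F510952)) (tt N94300 F510805) (tt N119306 (iv4 F514951)) (tt N94299 (iv5 D221786)) (tt N110713 F510806) (tt N121463 (iv7 F526514)))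
theorem Q118529 : ∀ i, i < 118529 → P i := stepQ 118528 Q118528 (allL N118528 (tt N121272 (iv1 F525504)) (tt N117875 (iv0 F510815)) (tt N122617 F533200) (tt N94302 F510807) (tt N113730 (iv4 F510808)) (tt N94301 (iv5 D221787)) (tt N113729 F510809) (tt N122618 (iv7 F533202)))
theorem Q118530 : ∀ i, i < 118530 → P i := stepQ 118529 Q118529 (allL N118529 (tt N117793 (iv1 F510814)) (tt N111605 (iv0 F510813)) (tt N121730 (iv2 F528005)) (tt N94303 F510810) (tt N119320 (iv4 F514999)) (tt N111615 F510812) (tt N94301 (iv6 D221788)) (tt N117882 F510811))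
theorem Q118531 : ∀ i, i < 118531 → P i := stepQ 118530 Q118530 (allL N118530 (tt N122153 (iv1 F530459)) (tt N122152 F530455) (tt N120242 (iv2 F519768)) (tt N113729 F510816) (tt N111353 F510817) (tt N117865 F510818) (tt N94302 (iv6 D221789)) (tt N113306 F510819))
theorem Q118532 : ∀ i, i < 118532 → P i := stepQ 118531 Q118531 (allL N118531 (tt N119368 F515255) (tt N122623 (iv0 F533233)) (tt N122548 (iv2 F532777)) (tt N94304 (iv3 D221790)) (tt N121440 (iv4 F526390)) (tt N108582 F510820) (tt N122153 (iv6 F530464)) (tt N108581 F510821))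
theorem Q118533 : ∀ i, i < 118533 → P i := stepQ 118532 Q118532 (allL N118532 (tt N110714 F510824) (tt N118571 F510965) (tt N118570 (iv2 F510960)) (tt N108386 F510825) (tt N94304 (iv4 D221791)) (tt N94935 F510822) (tt N113416 (iv6 F510826)) (tt N108378 F510823))
theorem Q118534 : ∀ i, i < 118534 → P i := stepQ 118533 Q118533 (allL N118533 (tt N122545 F532763) (tt N122525 (iv0 F532647)) (tt N122251 (iv2 F531014)) (tt N122153 F530463) (tt N113416 F510827) (tt N118499 F510828) (tt N94304 (iv6 D221792)) (tt N122252 (iv7 F531020)))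
theorem Q118535 : ∀ i, i < 118535 → P i := stepQ 118534 Q118534 (allL N118534 (tt N94305 (iv1 D221793)) (tt N116332 F510829) (tt N97100 (iv2 F510835)) (tt N117389 F510834) (tt N94343 F510832) (tt N97066 F510831) (tt N117387 (iv6 F510833)) (tt N97110 F510830))
theorem Q118536 : ∀ i, i < 118536 → P i := stepQ 118535 Q118535 (allL N118535 (tt N97100 (iv1 F510840)) (tt N97110 F510841) (tt N116332 F510836) (tt N100951 F510837) (tt N94306 F510838) (tt N96973 F510839) (tt N122422 (iv6 F532012)) (tt N94305 (iv7 D221794)))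
theorem Q118537 : ∀ i, i < 118537 → P i := stepQ 118536 Q118536 (allL N118536 (tt N120157 F519342) (tt N122557 (iv0 F532835)) (tt N122619 (iv2 F533208)) (tt N122263 (iv3 F531053)) (tt N122422 (iv4 F532013)) (tt N120735 (iv5 F522424)) (tt N94306 (iv6 D221795)) (tt N122653 (iv7 F533413)))
theorem Q118538 : ∀ i, i < 118538 → P i := stepQ 118537 Q118537 (allL N118537 (tt N109575 F510845) (tt N109574 (iv0 F510846)) (tt N100031 F510842) (tt N94314 (iv3 D221796)) (tt N103176 F510843) (tt N122654 D225913) (tt N121972 (iv6 F529389)) (tt N109576 F510844))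
theorem Q118539 : ∀ i, i < 118539 → P i := stepQ 118538 Q118538 (allL N118538 (tt N121734 (iv1 F528030)) (tt N117775 F510849) (tt N109572 F510848) (tt N122654 (iv3 F533416)) (tt N121742 (iv4 F528054)) (tt N94314 (iv5 D221797)) (tt N121810 F528455) (tt N121307 (iv7 F525674)))
theorem Q118540 : ∀ i, i < 118540 → P i := stepQ 118539 Q118539 (allL N118539 (tt N109587 (iv1 F510854)) (tt N94315 (iv0 D221798)) (tt N108769 (iv2 F510852)) (tt N120613 (iv3 F521757)) (tt N121906 (iv4 F528990)) (tt N108758 F510850) (tt N95332 F510851) (tt N109586 F510853))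
theorem Q118541 : ∀ i, i < 118541 → P i := stepQ 118540 Q118540 (allL N118540 (tt N109586 (iv1 F510858)) (tt N108769 F510859) (tt N109587 F510855) (tt N94326 F510856) (tt N120158 (iv4 F519343)) (tt N94316 F510857) (tt N121908 (iv6 F529001)) (tt N94315 (iv7 D221799)))
theorem Q118542 : ∀ i, i < 118542 → P i := stepQ 118541 Q118541 (allL N118541 (tt N117788 F510863) (tt N108043 (iv0 F510864)) (tt N117908 F510860) (tt N100041 F510861) (tt N119855 (iv4 F517715)) (tt N100040 F510862) (tt N94317 (iv6 D221800)) (tt N119854 (iv7 F517712)))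
theorem Q118543 : ∀ i, i < 118543 → P i := stepQ 118542 Q118542 (allL N118542 (tt N120734 (iv1 F522422)) (tt N94319 (iv0 D221801)) (tt N120733 F522414) (tt N118544 (iv3 F510874)) (tt N100110 F510867) (tt N98936 F510865) (tt N118548 (iv6 F510897)) (tt N116650 (iv7 F510866)))
theorem Q118544 : ∀ i, i < 118544 → P i := stepQ 118543 Q118543 (allL N118543 (tt N94319 (iv1 D221802)) (tt N120734 F522421) (tt N116650 F510871) (tt N117837 (iv3 F510869)) (tt N117456 F510872) (tt N98933 F510868) (tt N116632 (iv6 F510870)) (tt N120733 (iv7 F522415)))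
theorem Q118545 : ∀ i, i < 118545 → P i := stepQ 118544 Q118544 (allL N118544 (tt N121815 (iv1 F528482)) (tt N102738 (iv0 F510878)) (tt N117833 F510873) (tt N118542 F510874) (tt N94319 (iv4 D221803)) (tt N117830 F510877) (tt N94325 F510875) (tt N117832 F510876))
theorem Q118546 : ∀ i, i < 118546 → P i := stepQ 118545 Q118545 (allL N118545 (tt N108768 F510883) (tt N95331 F510884) (tt N117470 F510879) (tt N120733 (iv3 F522413)) (tt N94321 (iv4 D221804)) (tt N106446 F510882) (tt N116687 F510880) (tt N117837 F510881))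
theorem Q118547 : ∀ i, i < 118547 → P i := stepQ 118546 Q118546 (allL N118546 (tt N110460 F510889) (tt N113275 F510890) (tt N113287 F510885) (tt N94324 F510886) (tt N117835 F510887) (tt N94323 (iv5 D221805)) (tt N120159 (iv6 F519346)) (tt N113288 F510888))
theorem Q118548 : ∀ i, i < 118548 → P i := stepQ 118547 Q118547 (allL N118547 (tt N95331 F510894) (tt N108768 F510895) (tt N117837 F510891) (tt N120731 F522404) (tt N94324 (iv4 D221806)) (tt N106445 F510892) (tt N118573 (iv6 F510972)) (tt N117470 F510893))
theorem Q118549 : ∀ i, i < 118549 → P i := stepQ 118548 Q118548 (allL N118548 (tt N120729 F522395) (tt N122553 (iv0 F532811)) (tt N121947 (iv2 F529233)) (tt N94325 (iv3 D221807)) (tt N120154 (iv4 F519334)) (tt N116842 F510896) (tt N118542 F510897) (tt N120728 (iv7 F522389)))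
theorem Q118550 : ∀ i, i < 118550 → P i := stepQ 118549 Q118549 (allL N118549 (tt N122622 F533228) (tt N121735 (iv0 F528033)) (tt N120735 (iv2 F522423)) (tt N121908 (iv3 F528999)) (tt N120729 (iv4 F522392)) (tt N122619 (iv5 F533211)) (tt N94326 (iv6 D221808)) (tt N121905 (iv7 F528988)))
theorem Q118551 : ∀ i, i < 118551 → P i := stepQ 118550 Q118550 (allL N118550 (tt N94332 (iv1 D221809)) (tt N94336 F510898) (tt N94334 F510901) (tt N121220 (iv3 F525205)) (tt N107876 F510902) (tt N122655 D225914) (tt N107875 (iv6 F510900)) (tt N94333 F510899))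
theorem Q118552 : ∀ i, i < 118552 → P i := stepQ 118551 Q118551 (allL N118551 (tt N118277 F510906) (tt N122656 D225915) (tt N94335 F510903) (tt N94341 F510904) (tt N120489 (iv4 F521040)) (tt N94332 (iv5 D221810)) (tt N94335 F510905) (tt N122657 D225916))
theorem Q118553 : ∀ i, i < 118553 → P i := stepQ 118552 Q118552 (allL N118552 (tt N94334 (iv1 F510911)) (tt N94333 F510912) (tt N94336 F510907) (tt N94342 F510908) (tt N112768 F510909) (tt N122657 (iv5 F533434)) (tt N112769 F510910) (tt N94332 (iv7 D221811)))
theorem Q118554 : ∀ i, i < 118554 → P i := stepQ 118553 Q118553 (allL N118553 (tt N101385 (iv1 F510918)) (tt N119271 (iv0 F514745)) (tt N117584 F510913) (tt N117301 F510914) (tt N94333 (iv4 D221812)) (tt N96431 F510917) (tt N117300 F510915) (tt N107876 F510916))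
theorem Q118555 : ∀ i, i < 118555 → P i := stepQ 118554 Q118554 (allL N118554 (tt N122625 (iv1 F533247)) (tt N119309 (iv0 F514963)) (tt N122643 (iv2 F533346)) (tt N120327 (iv3 F520206)) (tt N120333 (iv4 F520229)) (tt N94333 (iv5 D221813)) (tt N120326 F520205) (tt N122655 (iv7 F533423)))
theorem Q118556 : ∀ i, i < 118556 → P i := stepQ 118555 Q118555 (allL N118555 (tt N97337 (iv1 F510921)) (tt N116637 F510922) (tt N122250 (iv2 F531007)) (tt N94334 (iv3 D221814)) (tt N117508 F510919) (tt N119312 (iv5 F514968)) (tt N121611 (iv6 F527327)) (tt N117583 F510920))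
theorem Q118557 : ∀ i, i < 118557 → P i := stepQ 118556 Q118556 (allL N118556 (tt N119309 (iv1 F514964)) (tt N122625 (iv0 F533246)) (tt N122655 (iv2 F533421)) (tt N119312 F514969) (tt N122658 D225917) (tt N94334 (iv5 D221815)) (tt N122245 (iv6 F530985)) (tt N122643 (iv7 F533348)))
theorem Q118558 : ∀ i, i < 118558 → P i := stepQ 118557 Q118557 (allL N118557 (tt N122657 (iv1 F533436)) (tt N94335 (iv0 D221816)) (tt N118277 (iv2 F510924)) (tt N121083 F524434) (tt N121085 (iv4 F524440)) (tt N95323 F510923) (tt N122612 (iv6 F533170)) (tt N122656 (iv7 F533427)))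
theorem Q118559 : ∀ i, i < 118559 → P i := stepQ 118558 Q118558 (allL N118558 (tt N94335 (iv1 D221817)) (tt N122657 F533435) (tt N122656 F533430) (tt N122233 (iv3 F530915)) (tt N120315 (iv4 F520160)) (tt N118278 F510926) (tt N120314 F520158) (tt N118277 F510925))
theorem Q118560 : ∀ i, i < 118560 → P i := stepQ 118559 Q118559 (allL N118559 (tt N122231 (iv1 F530907)) (tt N100899 (iv0 F510929)) (tt N120489 (iv2 F521036)) (tt N101279 F510927) (tt N94335 (iv4 D221818)) (tt N111957 F510928) (tt N120489 (iv6 F521038)) (tt N122230 (iv7 F530902)))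
theorem Q118561 : ∀ i, i < 118561 → P i := stepQ 118560 Q118560 (allL N118560 (tt N122656 (iv1 F533426)) (tt N118277 (iv0 F510932)) (tt N122657 (iv2 F533431)) (tt N94345 F510930) (tt N122230 (iv4 F530899)) (tt N94336 F510931) (tt N122659 D225918) (tt N94335 (iv7 D221819)))
theorem Q118562 : ∀ i, i < 118562 → P i := stepQ 118561 Q118561 (allL N118561 (tt N118483 F510938) (tt N108045 (iv0 F510939)) (tt N112803 F510933) (tt N94338 F510934) (tt N109224 F510935) (tt N117320 F510936) (tt N94337 (iv6 D221820)) (tt N117890 F510937))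
theorem Q118563 : ∀ i, i < 118563 → P i := stepQ 118562 Q118562 (allL N118562 (tt N119109 (iv1 F513838)) (tt N94355 (iv0 F510941)) (tt N118499 (iv2 F510942)) (tt N94339 (iv3 D221821)) (tt N122001 (iv4 F529561)) (tt N122251 (iv5 F531016)) (tt N107357 F510940) (tt N119107 (iv7 F513826)))
theorem Q118564 : ∀ i, i < 118564 → P i := stepQ 118563 Q118563 (allL N118563 (tt N118602 (iv1 F511109)) (tt N121505 F526740) (tt N121393 (iv2 F526112)) (tt N122251 (iv3 F531017)) (tt N122547 (iv4 F532772)) (tt N94339 (iv5 D221822)) (tt N122303 F531296) (tt N121394 (iv7 F526116)))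
theorem Q118565 : ∀ i, i < 118565 → P i := stepQ 118564 Q118564 (allL N118564 (tt N94357 F510945) (tt N121471 F526562) (tt N119180 (iv2 F514220)) (tt N94340 (iv3 D221823)) (tt N94527 F510943) (tt N122152 (iv5 F530452)) (tt N121962 (iv6 F529328)) (tt N101529 F510944))
theorem Q118566 : ∀ i, i < 118566 → P i := stepQ 118565 Q118565 (allL N118565 (tt N121505 F526739) (tt N118602 (iv0 F511110)) (tt N121394 (iv2 F526115)) (tt N122152 F530456) (tt N122512 (iv4 F532572)) (tt N94340 (iv5 D221824)) (tt N107600 F510946) (tt N121393 (iv7 F526114)))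
theorem Q118567 : ∀ i, i < 118567 → P i := stepQ 118566 Q118566 (allL N118566 (tt N121396 (iv1 F526125)) (tt N94341 (iv0 D221825)) (tt N119719 (iv2 F517082)) (tt N121564 (iv3 F527059)) (tt N122651 (iv4 F533399)) (tt N108694 F510947) (tt N121563 (iv6 F527057)) (tt N121395 (iv7 F526118)))
theorem Q118568 : ∀ i, i < 118568 → P i := stepQ 118567 Q118567 (allL N118567 (tt N94341 (iv1 D221826)) (tt N121396 F526124) (tt N121395 F526120) (tt N116558 (iv3 F510948)) (tt N114044 (iv4 F510949)) (tt N119720 (iv5 F517087)) (tt N112934 F510950) (tt N119719 F517085))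
theorem Q118569 : ∀ i, i < 118569 → P i := stepQ 118568 Q118568 (allL N118568 (tt N121395 (iv1 F526117)) (tt N119719 (iv0 F517083)) (tt N121396 (iv2 F526121)) (tt N122657 (iv3 F533432)) (tt N119966 (iv4 F518301)) (tt N94342 F510951) (tt N122660 D225919) (tt N94341 (iv7 D221827)))
theorem Q118570 : ∀ i, i < 118570 → P i := stepQ 118569 Q118569 (allL N118569 (tt N122616 (iv1 F533196)) (tt N112936 (iv0 F510955)) (tt N118527 F510952) (tt N121570 (iv3 F527086)) (tt N117387 F510953) (tt N108721 F510954) (tt N94343 (iv6 D221828)) (tt N122661 D225920))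
theorem Q118571 : ∀ i, i < 118571 → P i := stepQ 118570 Q118570 (allL N118570 (tt N94344 (iv1 D221829)) (tt N110329 F510956) (tt N118532 F510960) (tt N120069 (iv3 F518879)) (tt N117818 F510958) (tt N118744 (iv5 F511850)) (tt N112946 (iv6 F510959)) (tt N117817 F510957))
theorem Q118572 : ∀ i, i < 118572 → P i := stepQ 118571 Q118571 (allL N118571 (tt N118532 (iv1 F510965)) (tt N117817 F510966) (tt N110329 F510961) (tt N100585 F510962) (tt N94345 F510963) (tt N96981 F510964) (tt N122662 D225921) (tt N94344 (iv7 D221830)))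
theorem Q118573 : ∀ i, i < 118573 → P i := stepQ 118572 Q118572 (allL N118572 (tt N120142 F519277) (tt N122459 F532244) (tt N121984 (iv2 F529457)) (tt N122659 (iv3 F533443)) (tt N122662 (iv4 F533458)) (tt N108771 F510967) (tt N94345 (iv6 D221831)) (tt N122660 (iv7 F533447)))
theorem Q118574 : ∀ i, i < 118574 → P i := stepQ 118573 Q118573 (allL N118573 (tt N110130 F510971) (tt N98851 F510970) (tt N117834 F510968) (tt N122553 (iv3 F532808)) (tt N100113 F510969) (tt N94346 (iv5 D221832)) (tt N118547 F510972) (tt N121315 (iv7 F525715)))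
theorem Q118575 : ∀ i, i < 118575 → P i := stepQ 118574 Q118574 (allL N118574 (tt N121186 (iv1 F525020)) (tt N121123 (iv0 F524632)) (tt N121314 (iv2 F525708)) (tt N106971 F510973) (tt N110767 F510974) (tt N118597 F511085) (tt N94346 (iv6 D221833)) (tt N122181 (iv7 F530633)))
theorem Q118576 : ∀ i, i < 118576 → P i := stepQ 118575 Q118575 (allL N118575 (tt N98851 F510978) (tt N110130 F510979) (tt N121315 (iv2 F525713)) (tt N108829 F510975) (tt N100112 F510977) (tt N94347 (iv5 D221834)) (tt N117912 (iv6 F510980)) (tt N117834 F510976))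
theorem Q118577 : ∀ i, i < 118577 → P i := stepQ 118576 Q118576 (allL N118576 (tt N99057 F510985) (tt N99054 (iv0 F510986)) (tt N99055 F510981) (tt N113277 F510982) (tt N99165 F510983) (tt N99672 F510984) (tt N94347 (iv6 D221835)) (tt N99056 (iv7 F510987)))
theorem Q118578 : ∀ i, i < 118578 → P i := stepQ 118577 Q118577 (allL N118577 (tt N121312 (iv1 F525700)) (tt N94348 (iv0 D221836)) (tt N119724 (iv2 F517109)) (tt N108762 (iv3 F510990)) (tt N121815 (iv4 F528478)) (tt N108764 F510988) (tt N108760 F510989) (tt N119723 (iv7 F517105)))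
theorem Q118579 : ∀ i, i < 118579 → P i := stepQ 118578 Q118578 (allL N118578 (tt N94348 (iv1 D221837)) (tt N121312 F525699) (tt N119723 (iv2 F517103)) (tt N116681 (iv3 F510993)) (tt N102738 F510992) (tt N108765 F510991) (tt N113288 (iv6 F510994)) (tt N119724 (iv7 F517111)))
theorem Q118580 : ∀ i, i < 118580 → P i := stepQ 118579 Q118579 (allL N118579 (tt N120153 (iv1 F519332)) (tt N109570 F510997) (tt N120149 (iv2 F519307)) (tt N113289 F510995) (tt N94348 (iv4 D221838)) (tt N120121 (iv5 F519161)) (tt N94350 F510996) (tt N120148 (iv7 F519303)))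
theorem Q118581 : ∀ i, i < 118581 → P i := stepQ 118580 Q118580 (allL N118580 (tt N119723 (iv1 F517108)) (tt N119724 (iv0 F517112)) (tt N121312 (iv2 F525697)) (tt N94351 F510998) (tt N120148 (iv4 F519304)) (tt N94349 F510999) (tt N121812 (iv6 F528466)) (tt N94348 (iv7 D221839)))
theorem Q118582 : ∀ i, i < 118582 → P i := stepQ 118581 Q118581 (allL N118581 (tt N122551 F532801) (tt N120154 (iv0 F519335)) (tt N108771 F511000) (tt N121812 (iv3 F528465)) (tt N110458 F511001) (tt N121984 (iv5 F529459)) (tt N94351 (iv6 D221840)) (tt N121812 (iv7 F528467)))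
theorem Q118583 : ∀ i, i < 118583 → P i := stepQ 118582 Q118582 (allL N118582 (tt N121564 F527061) (tt N122301 (iv0 F531283)) (tt N119108 (iv2 F513831)) (tt N94359 F511002) (tt N116525 (iv4 F511004)) (tt N94355 (iv5 D221841)) (tt N116527 F511003) (tt N121565 (iv7 F527063)))
theorem Q118584 : ∀ i, i < 118584 → P i := stepQ 118583 Q118583 (allL N118583 (tt N109339 F511008) (tt N112644 (iv0 F511009)) (tt N121136 (iv2 F524710)) (tt N118645 (iv3 F511312)) (tt N94357 F511005) (tt N111711 F511006) (tt N94356 (iv6 D221842)) (tt N110462 F511007))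
theorem Q118585 : ∀ i, i < 118585 → P i := stepQ 118584 Q118584 (allL N118584 (tt N121471 (iv1 F526563)) (tt N94357 (iv0 D221843)) (tt N101529 (iv2 F511013)) (tt N118499 F511011) (tt N94526 F511010) (tt N122153 (iv5 F530461)) (tt N117612 F511012) (tt N119180 (iv7 F514224)))
theorem Q118586 : ∀ i, i < 118586 → P i := stepQ 118585 Q118585 (allL N118585 (tt N116556 (iv1 F511018)) (tt N116558 (iv0 F511017)) (tt N120376 (iv2 F520453)) (tt N116527 F511014) (tt N100894 F511016) (tt N94357 (iv5 D221844)) (tt N94359 F511015) (tt N121181 (iv7 F524986)))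
theorem Q118587 : ∀ i, i < 118587 → P i := stepQ 118586 Q118586 (allL N118586 (tt N119180 F514225) (tt N101529 (iv0 F511022)) (tt N121471 (iv2 F526558)) (tt N110541 F511019) (tt N110462 F511020) (tt N121181 (iv5 F524985)) (tt N110461 F511021) (tt N94357 (iv7 D221845)))
theorem Q118588 : ∀ i, i < 118588 → P i := stepQ 118587 Q118587 (allL N118587 (tt N107592 F511025) (tt N107590 F511026) (tt N107215 F511023) (tt N116940 F511024) (tt N119603 (iv4 F516470)) (tt N94358 (iv5 D221846)) (tt N122524 (iv6 F532639)) (tt N119308 F514961))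
theorem Q118589 : ∀ i, i < 118589 → P i := stepQ 118588 Q118588 (allL N118588 (tt N110182 F511029) (tt N120444 F520816) (tt N120375 (iv2 F520447)) (tt N122333 (iv3 F531471)) (tt N94359 (iv4 D221847)) (tt N108805 F511028) (tt N100894 F511027) (tt N121566 (iv7 F527066)))
theorem Q118590 : ∀ i, i < 118590 → P i := stepQ 118589 Q118589 (allL N118589 (tt N94372 (iv1 D221848)) (tt N116611 F511030) (tt N105149 F511036) (tt N116986 (iv3 F511034)) (tt N118489 F511032) (tt N107075 F511033) (tt N107784 (iv6 F511035)) (tt N116985 F511031))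
theorem Q118591 : ∀ i, i < 118591 → P i := stepQ 118590 Q118590 (allL N118590 (tt N106757 F511041) (tt N103174 F511042) (tt N108015 F511037) (tt N118280 F511038) (tt N95970 F511039) (tt N94372 (iv5 D221849)) (tt N121658 (iv6 F527589)) (tt N95967 F511040))
theorem Q118592 : ∀ i, i < 118592 → P i := stepQ 118591 Q118591 (allL N118591 (tt N105149 (iv1 F511048)) (tt N116985 F511049) (tt N116611 F511043) (tt N99020 F511044) (tt N94374 F511045) (tt N95967 F511046) (tt N107872 F511047) (tt N94372 (iv7 D221850)))
theorem Q118593 : ∀ i, i < 118593 → P i := stepQ 118592 Q118592 (allL N118592 (tt N122560 (iv1 F532850)) (tt N117904 (iv0 F511055)) (tt N116607 F511050) (tt N94399 F511051) (tt N107872 F511052) (tt N108051 F511054) (tt N94374 (iv6 D221851)) (tt N94375 F511053))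
theorem Q118594 : ∀ i, i < 118594 → P i := stepQ 118593 Q118593 (allL N118593 (tt N117890 F511062) (tt N112803 (iv0 F511063)) (tt N118483 F511057) (tt N94376 (iv3 D221852)) (tt N99370 F511058) (tt N108987 F511059) (tt N101187 F511060) (tt N108045 F511061))
theorem Q118595 : ∀ i, i < 118595 → P i := stepQ 118594 Q118594 (allL N118594 (tt N95324 (iv1 F511068)) (tt N108714 F511069) (tt N108690 F511064) (tt N94382 F511065) (tt N102313 F511066) (tt N118788 (iv5 F512075)) (tt N107844 F511067) (tt N94378 (iv7 D221853)))
theorem Q118596 : ∀ i, i < 118596 → P i := stepQ 118595 Q118595 (allL N118595 (tt N102659 F511075) (tt N108305 F511074) (tt N106967 F511070) (tt N118521 F511071) (tt N100354 F511072) (tt N94379 (iv5 D221854)) (tt N118519 F511076) (tt N100353 F511073))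
theorem Q118597 : ∀ i, i < 118597 → P i := stepQ 118596 Q118596 (allL N118596 (tt N94398 (iv1 F511079)) (tt N119718 F517080) (tt N119720 (iv2 F517086)) (tt N121559 (iv3 F527040)) (tt N110819 F511077) (tt N121395 (iv5 F526119)) (tt N94379 (iv6 D221855)) (tt N108694 F511078))
theorem Q118598 : ∀ i, i < 118598 → P i := stepQ 118597 Q118597 (allL N118597 (tt N94381 (iv1 D221856)) (tt N103111 F511080) (tt N120727 (iv2 F522381)) (tt N116447 (iv3 F511083)) (tt N111440 F511082) (tt N118574 (iv5 F511085)) (tt N106445 (iv6 F511084)) (tt N112368 F511081))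
theorem Q118599 : ∀ i, i < 118599 → P i := stepQ 118598 Q118598 (allL N118598 (tt N120727 F522386) (tt N112368 (iv0 F511090)) (tt N103111 F511086) (tt N118788 (iv3 F512074)) (tt N100515 F511087) (tt N94382 F511088) (tt N96256 F511089) (tt N94381 (iv7 D221857)))
theorem Q118600 : ∀ i, i < 118600 → P i := stepQ 118599 Q118599 (allL N118599 (tt N95274 F511095) (tt N95278 (iv0 F511096)) (tt N105892 F511091) (tt N94388 (iv3 D221858)) (tt N96728 F511092) (tt N105892 F511093) (tt N120534 (iv6 F521308)) (tt N110641 F511094))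
theorem Q118601 : ∀ i, i < 118601 → P i := stepQ 118600 Q118600 (allL N118600 (tt N110806 F511101) (tt N117019 (iv0 F511100)) (tt N110640 F511097) (tt N120534 (iv3 F521307)) (tt N107156 F511098) (tt N121979 (iv5 F529428)) (tt N94388 (iv6 D221859)) (tt N117020 (iv7 F511099)))
theorem Q118602 : ∀ i, i < 118602 → P i := stepQ 118601 Q118601 (allL N118601 (tt N110671 F511106) (tt N99037 (iv0 F511107)) (tt N99291 F511102) (tt N111538 F511103) (tt N94395 F511104) (tt N112684 F511105) (tt N94393 (iv6 D221860)) (tt N119763 (iv7 F517296)))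
theorem Q118603 : ∀ i, i < 118603 → P i := stepQ 118602 Q118602 (allL N118602 (tt N118565 F511110) (tt N118563 F511109) (tt N122646 (iv2 F533365)) (tt N97109 F511108) (tt N115125 (iv4 F511111)) (tt N94398 (iv5 D221861)) (tt N122611 (iv6 F533164)) (tt N121547 (iv7 F526970)))
theorem Q118604 : ∀ i, i < 118604 → P i := stepQ 118603 Q118603 (allL N118603 (tt N122181 (iv1 F530635)) (tt N121314 (iv0 F525712)) (tt N121186 (iv2 F525015)) (tt N94405 F511112) (tt N99286 F511113) (tt N102659 F511114) (tt N94403 (iv6 D221862)) (tt N121123 (iv7 F524631)))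
theorem Q118605 : ∀ i, i < 118605 → P i := stepQ 118604 Q118604 (allL N118604 (tt N99734 F511120) (tt N117892 (iv0 F511121)) (tt N107724 F511115) (tt N94407 (iv3 D221863)) (tt N108156 F511116) (tt N117851 F511117) (tt N108154 F511118) (tt N117918 F511119))
theorem Q118606 : ∀ i, i < 118606 → P i := stepQ 118605 Q118605 (allL N118605 (tt N120467 (iv1 F520935)) (tt N116802 (iv0 F511127)) (tt N116198 F511122) (tt N94409 (iv3 D221864)) (tt N100029 F511123) (tt N100499 F511124) (tt N97102 F511125) (tt N108774 F511126))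
theorem Q118607 : ∀ i, i < 118607 → P i := stepQ 118606 Q118606 (allL N118606 (tt N120509 (iv1 F521167)) (tt N118263 F511131) (tt N118220 F511128) (tt N101595 F511129) (tt N122281 (iv4 F531156)) (tt N94423 (iv5 D221865)) (tt N121199 (iv6 F525094)) (tt N117041 F511130))
theorem Q118608 : ∀ i, i < 118608 → P i := stepQ 118607 Q118607 (allL N118607 (tt N118263 F511135) (tt N120509 (iv0 F521166)) (tt N117041 F511132) (tt N118726 (iv3 F511764)) (tt N122628 (iv4 F533260)) (tt N94424 (iv5 D221866)) (tt N115619 F511133) (tt N118220 F511134))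
theorem Q118609 : ∀ i, i < 118609 → P i := stepQ 118608 Q118608 (allL N118608 (tt N118224 F511141) (tt N94425 (iv0 D221867)) (tt N118221 (iv2 F511138)) (tt N100920 (iv3 F511139)) (tt N119670 (iv4 F516829)) (tt N100918 F511136) (tt N118221 F511137) (tt N118222 (iv7 F511140)))
theorem Q118610 : ∀ i, i < 118610 → P i := stepQ 118609 Q118609 (allL N118609 (tt N94425 (iv1 D221868)) (tt N118224 F511142) (tt N118222 (iv2 F511145)) (tt N118727 F511771) (tt N122426 (iv4 F532033)) (tt N94762 F511144) (tt N122663 D225922) (tt N118221 F511143))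
theorem Q118611 : ∀ i, i < 118611 → P i := stepQ 118610 Q118610 (allL N118610 (tt N120784 (iv1 F522696)) (tt N122565 (iv0 F532880)) (tt N118223 F511146) (tt N106423 F511147) (tt N94425 (iv4 D221869)) (tt N106422 F511149) (tt N94429 F511148) (tt N122664 D225923))
theorem Q118612 : ∀ i, i < 118612 → P i := stepQ 118611 Q118611 (allL N118611 (tt N118222 (iv1 F511152)) (tt N118221 F511153) (tt N118224 F511150) (tt N118717 (iv3 F511719)) (tt N122664 (iv4 F533472)) (tt N94426 F511151) (tt N121732 (iv6 F528017)) (tt N94425 (iv7 D221870)))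
theorem Q118613 : ∀ i, i < 118613 → P i := stepQ 118612 Q118612 (allL N118612 (tt N108854 F511158) (tt N108853 F511159) (tt N118184 F511154) (tt N111853 F511155) (tt N94427 (iv4 D221871)) (tt N120982 (iv5 F523848)) (tt N117043 F511156) (tt N118185 F511157))
theorem Q118614 : ∀ i, i < 118614 → P i := stepQ 118613 Q118613 (allL N118613 (tt N118253 F511165) (tt N118256 (iv0 F511166)) (tt N112212 F511161) (tt N94428 (iv3 D221872)) (tt N122344 (iv4 F531543)) (tt N112210 F511162) (tt N114640 (iv6 F511164)) (tt N118314 F511163))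
theorem Q118615 : ∀ i, i < 118615 → P i := stepQ 118614 Q118614 (allL N118614 (tt N108853 F511169) (tt N108854 F511170) (tt N118185 F511167) (tt N104814 F511171) (tt N94428 (iv4 D221873)) (tt N120936 (iv5 F523565)) (tt N122384 (iv6 F531777)) (tt N118184 F511168))
theorem Q118616 : ∀ i, i < 118616 → P i := stepQ 118615 Q118615 (allL N118615 (tt N118260 F511176) (tt N121732 F528018) (tt N118392 F511172) (tt N114640 F511173) (tt N122384 (iv4 F531775)) (tt N96064 F511174) (tt N94428 (iv6 D221874)) (tt N117046 F511175))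
theorem Q118617 : ∀ i, i < 118617 → P i := stepQ 118616 Q118616 (allL N118616 (tt N97227 (iv1 F511180)) (tt N97235 F511179) (tt N94450 (iv2 D221875)) (tt N119322 (iv3 F515007)) (tt N112682 F511177) (tt N122665 D225924) (tt N119257 (iv6 F514668)) (tt N97233 F511178))
theorem Q118618 : ∀ i, i < 118618 → P i := stepQ 118617 Q118617 (allL N118617 (tt N120038 (iv1 F518700)) (tt N120039 (iv0 F518705)) (tt N122665 (iv2 F533476)) (tt N94451 F511181) (tt N121209 (iv4 F525144)) (tt N94450 (iv5 D221876)) (tt N118887 F512590) (tt N119321 (iv7 F515005)))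
theorem Q118619 : ∀ i, i < 118619 → P i := stepQ 118618 Q118618 (allL N118618 (tt N121702 F527844) (tt N122110 F530230) (tt N119324 (iv2 F515019)) (tt N118887 (iv3 F512589)) (tt N104888 F511182) (tt N106724 F511183) (tt N94451 (iv6 D221877)) (tt N115658 F511184))
theorem Q118620 : ∀ i, i < 118620 → P i := stepQ 118619 Q118619 (allL N118619 (tt N121551 (iv1 F526998)) (tt N121571 (iv0 F527093)) (tt N94461 F511185) (tt N119368 (iv3 F515252)) (tt N121232 (iv4 F525271)) (tt N94454 (iv5 D221878)) (tt N120325 F520201) (tt N100095 F511186))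
theorem Q118621 : ∀ i, i < 118621 → P i := stepQ 118620 Q118620 (allL N118620 (tt N122644 F533358) (tt N122648 (iv0 F533383)) (tt N118327 F511187) (tt N94459 (iv3 D221879)) (tt N101933 F511188) (tt N122666 D225925) (tt N107850 F511189) (tt N107871 F511190))
theorem Q118622 : ∀ i, i < 118622 → P i := stepQ 118621 Q118621 (allL N118621 (tt N107602 F511191) (tt N107600 F511192) (tt N121785 (iv2 F528300)) (tt N122666 (iv3 F533484)) (tt N121499 (iv4 F526710)) (tt N94459 (iv5 D221880)) (tt N122667 D225926) (tt N119310 F514967))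
theorem Q118623 : ∀ i, i < 118623 → P i := stepQ 118622 Q118622 (allL N118622 (tt N107600 F511195) (tt N107602 F511196) (tt N119310 (iv2 F514965)) (tt N112918 F511193) (tt N110174 F511197) (tt N94460 (iv5 D221881)) (tt N107556 F511194) (tt N121785 (iv7 F528303)))
theorem Q118624 : ∀ i, i < 118624 → P i := stepQ 118623 Q118623 (allL N118623 (tt N94461 (iv1 D221882)) (tt N100095 F511198) (tt N121571 (iv2 F527090)) (tt N120322 (iv3 F520188)) (tt N119605 (iv4 F516474)) (tt N119596 (iv5 F516439)) (tt N119313 F516443) (tt N121551 (iv7 F526995)))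
theorem Q118625 : ∀ i, i < 118625 → P i := stepQ 118624 Q118624 (allL N118624 (tt N121571 (iv1 F527094)) (tt N121551 (iv0 F526997)) (tt N100095 F511199) (tt N122645 (iv3 F533360)) (tt N121568 (iv4 F527075)) (tt N94462 F511200) (tt N121907 (iv6 F528996)) (tt N94461 (iv7 D221883)))
theorem Q118626 : ∀ i, i < 118626 → P i := stepQ 118625 Q118625 (allL N118625 (tt N117166 (iv1 F511204)) (tt N94467 (iv0 D221884)) (tt N121320 (iv2 F525744)) (tt N114899 F511202) (tt N102321 F511201) (tt N120195 (iv5 F519530)) (tt N106306 F511203) (tt N106312 F511205))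
theorem Q118627 : ∀ i, i < 118627 → P i := stepQ 118626 Q118626 (allL N118626 (tt N103844 F511208) (tt N118821 (iv0 F512258)) (tt N107484 F511206) (tt N109766 F511207) (tt N120871 (iv4 F523194)) (tt N119594 (iv5 F516426)) (tt N94491 (iv6 D221885)) (tt N120437 (iv7 F520784)))
theorem Q118628 : ∀ i, i < 118628 → P i := stepQ 118627 Q118627 (allL N118627 (tt N109596 (iv1 F511211)) (tt N94493 (iv0 D221886)) (tt N105617 (iv2 F511210)) (tt N119671 F516834) (tt N105616 F511209) (tt N120796 (iv5 F522769)) (tt N103846 (iv6 F511212)) (tt N118665 (iv7 F511424)))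
theorem Q118629 : ∀ i, i < 118629 → P i := stepQ 118628 Q118628 (allL N118628 (tt N107656 F511216) (tt N121077 (iv0 F524397)) (tt N115347 F511213) (tt N94494 (iv3 D221887)) (tt N119426 (iv4 F515550)) (tt N99862 F511214) (tt N115346 (iv6 F511217)) (tt N100560 F511215))
theorem Q118630 : ∀ i, i < 118630 → P i := stepQ 118629 Q118629 (allL N118629 (tt N100633 F511222) (tt N100632 (iv0 F511223)) (tt N100608 F511218) (tt N115346 F511219) (tt N101429 F511220) (tt N119733 (iv5 F517157)) (tt N94494 (iv6 D221888)) (tt N100570 F511221))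
theorem Q118631 : ∀ i, i < 118631 → P i := stepQ 118630 Q118630 (allL N118630 (tt N118650 (iv1 F511346)) (tt N94498 (iv0 D221889)) (tt N110836 (iv2 F511228)) (tt N110839 F511226) (tt N103949 F511225) (tt N112747 F511224) (tt N117598 F511227) (tt N118425 F511229))
theorem Q118632 : ∀ i, i < 118632 → P i := stepQ 118631 Q118631 (allL N118631 (tt N117711 F511235) (tt N117714 F511236) (tt N112827 F511230) (tt N94502 (iv3 D221890)) (tt N97989 F511231) (tt N108200 F511232) (tt N95201 F511233) (tt N110848 F511234))
theorem Q118633 : ∀ i, i < 118633 → P i := stepQ 118632 Q118632 (allL N118632 (tt N103077 (iv1 F511243)) (tt N100433 F511242) (tt N94507 (iv2 D221891)) (tt N110850 F511237) (tt N112366 F511238) (tt N108755 F511239) (tt N103080 F511240) (tt N110852 F511241))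
theorem Q118634 : ∀ i, i < 118634 → P i := stepQ 118633 Q118633 (allL N118633 (tt N116124 F511249) (tt N108141 (iv0 F511250)) (tt N94517 F511244) (tt N110888 F511245) (tt N112016 F511246) (tt N115439 F511247) (tt N94513 (iv6 D221892)) (tt N114511 F511248))
theorem Q118635 : ∀ i, i < 118635 → P i := stepQ 118634 Q118634 (allL N118634 (tt N109496 F511256) (tt N118646 (iv0 F511321)) (tt N117764 F511251) (tt N94516 (iv3 D221893)) (tt N117763 F511252) (tt N94593 F511253) (tt N117268 F511254) (tt N116412 F511255))
theorem Q118636 : ∀ i, i < 118636 → P i := stepQ 118635 Q118635 (allL N118635 (tt N114511 (iv1 F511262)) (tt N94517 (iv0 D221894)) (tt N116124 (iv2 F511261)) (tt N107745 F511259) (tt N114585 F511258) (tt N96627 F511257) (tt N107742 F511260) (tt N108141 F511263))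
theorem Q118637 : ∀ i, i < 118637 → P i := stepQ 118636 Q118636 (allL N118636 (tt N94535 (iv1 F511270)) (tt N94540 F511269) (tt N94519 (iv2 D221895)) (tt N110894 F511264) (tt N112645 F511265) (tt N112649 F511266) (tt N108925 F511267) (tt N94538 F511268))
theorem Q118638 : ∀ i, i < 118638 → P i := stepQ 118637 Q118637 (allL N118637 (tt N120024 (iv1 F518621)) (tt N115030 F511275) (tt N119044 (iv2 F513463)) (tt N96641 F511271) (tt N98607 F511274) (tt N94537 (iv5 D221896)) (tt N96637 F511272) (tt N115021 F511273))
theorem Q118639 : ∀ i, i < 118639 → P i := stepQ 118638 Q118638 (allL N118638 (tt N99551 F511281) (tt N112486 F511282) (tt N95163 F511276) (tt N118304 F511277) (tt N94542 (iv4 D221897)) (tt N95149 F511278) (tt N107711 F511279) (tt N95159 F511280))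
theorem Q118640 : ∀ i, i < 118640 → P i := stepQ 118639 Q118639 (allL N118639 (tt N94878 F511287) (tt N106274 F511288) (tt N94546 F511283) (tt N118667 (iv3 F511433)) (tt N95502 F511284) (tt N95497 F511285) (tt N94545 (iv6 D221898)) (tt N106485 F511286))
theorem Q118641 : ∀ i, i < 118641 → P i := stepQ 118640 Q118640 (allL N118640 (tt N94675 F511291) (tt N116919 (iv0 F511292)) (tt N118660 F511399) (tt N94547 (iv3 D221899)) (tt N120898 (iv4 F523353)) (tt N115984 F511289) (tt N115131 F511290) (tt N118661 (iv7 F511400)))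
theorem Q118642 : ∀ i, i < 118642 → P i := stepQ 118641 Q118641 (allL N118641 (tt N101848 F511296) (tt N105649 (iv0 F511297)) (tt N112761 F511293) (tt N119058 F513553) (tt N100633 F511294) (tt N122025 (iv5 F529706)) (tt N94548 (iv6 D221900)) (tt N112760 F511295))
theorem Q118643 : ∀ i, i < 118643 → P i := stepQ 118642 Q118642 (allL N118642 (tt N101348 (iv1 F511301)) (tt N94560 (iv0 D221901)) (tt N118671 F511453) (tt N110343 F511299) (tt N121170 (iv4 F524919)) (tt N112844 F511298) (tt N107328 F511300) (tt N113467 (iv7 F511302)))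
theorem Q118644 : ∀ i, i < 118644 → P i := stepQ 118643 Q118643 (allL N118643 (tt N94560 (iv1 D221902)) (tt N101348 F511303) (tt N113467 (iv2 F511304)) (tt N120232 (iv3 F519732)) (tt N121171 (iv4 F524927)) (tt N118818 (iv5 F512240)) (tt N101444 F511305) (tt N118671 (iv7 F511455)))
theorem Q118645 : ∀ i, i < 118645 → P i := stepQ 118644 Q118644 (allL N118644 (tt N100478 F511309) (tt N110730 F511310) (tt N110731 F511306) (tt N121286 (iv3 F525567)) (tt N94560 (iv4 D221903)) (tt N100468 F511307) (tt N118649 (iv6 F511337)) (tt N110725 F511308))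
theorem Q118646 : ∀ i, i < 118646 → P i := stepQ 118645 Q118645 (allL N118645 (tt N117600 F511316) (tt N116826 (iv0 F511317)) (tt N105439 F511311) (tt N118583 F511312) (tt N94573 F511313) (tt N117666 F511314) (tt N94571 (iv6 D221904)) (tt N116698 F511315))
theorem Q118647 : ∀ i, i < 118647 → P i := stepQ 118646 Q118646 (allL N118646 (tt N118634 F511321) (tt N105127 F511322) (tt N120547 (iv2 F521377)) (tt N105441 F511318) (tt N105210 F511319) (tt N94574 (iv5 D221905)) (tt N120861 (iv6 F523136)) (tt N105438 F511320))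
theorem Q118648 : ∀ i, i < 118648 → P i := stepQ 118647 Q118647 (allL N118647 (tt N108254 (iv1 F511327)) (tt N112313 F511328) (tt N103888 F511323) (tt N94581 F511324) (tt N120114 (iv4 F519122)) (tt N102288 F511325) (tt N94934 F511326) (tt N94578 (iv7 D221906)))
theorem Q118649 : ∀ i, i < 118649 → P i := stepQ 118648 Q118648 (allL N118648 (tt N106235 F511334) (tt N105484 F511335) (tt N112356 F511329) (tt N95262 F511330) (tt N101767 F511331) (tt N113851 F511332) (tt N94587 (iv6 D221907)) (tt N112355 F511333))
theorem Q118650 : ∀ i, i < 118650 → P i := stepQ 118649 Q118649 (allL N118649 (tt N105304 F511340) (tt N105302 F511341) (tt N105533 F511336) (tt N121799 (iv3 F528390)) (tt N94590 (iv4 D221908)) (tt N105166 F511339) (tt N118644 F511337) (tt N112581 F511338))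
theorem Q118651 : ∀ i, i < 118651 → P i := stepQ 118650 Q118650 (allL N118650 (tt N107158 (iv1 F511347)) (tt N118630 F511346) (tt N94593 (iv2 D221909)) (tt N116960 F511342) (tt N101806 F511343) (tt N117764 F511344) (tt N118985 (iv6 F513125)) (tt N111130 F511345))
theorem Q118652 : ∀ i, i < 118652 → P i := stepQ 118651 Q118651 (allL N118651 (tt N99318 (iv1 F511354)) (tt N99317 F511353) (tt N94599 (iv2 D221910)) (tt N107164 F511348) (tt N104894 F511349) (tt N107339 F511350) (tt N107795 F511351) (tt N99316 F511352))
theorem Q118653 : ∀ i, i < 118653 → P i := stepQ 118652 Q118652 (allL N118652 (tt N96459 (iv1 F511360)) (tt N94613 (iv0 D221911)) (tt N96472 (iv2 F511359)) (tt N94842 F511357) (tt N95939 F511356) (tt N96540 F511355) (tt N94836 F511358) (tt N96471 F511361))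
theorem Q118654 : ∀ i, i < 118654 → P i := stepQ 118653 Q118653 (allL N118653 (tt N105210 F511367) (tt N104511 F511368) (tt N107512 F511362) (tt N98719 F511363) (tt N94629 (iv4 D221912)) (tt N104502 F511364) (tt N116873 F511365) (tt N106156 F511366))
theorem Q118655 : ∀ i, i < 118655 → P i := stepQ 118654 Q118654 (allL N118654 (tt N114582 F511370) (tt N117766 (iv0 F511371)) (tt N120630 (iv2 F521848)) (tt N94630 (iv3 D221913)) (tt N120283 (iv4 F520015)) (tt N102552 F511369) (tt N120282 (iv6 F520012)) (tt N120632 (iv7 F521862)))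
theorem Q118656 : ∀ i, i < 118656 → P i := stepQ 118655 Q118655 (allL N118655 (tt N104455 F511374) (tt N100618 (iv0 F511375)) (tt N94635 F511372) (tt N118801 (iv3 F512151)) (tt N120632 (iv4 F521860)) (tt N110492 F511373) (tt N94631 (iv6 D221914)) (tt N120283 (iv7 F520017)))
theorem Q118657 : ∀ i, i < 118657 → P i := stepQ 118656 Q118656 (allL N118656 (tt N117766 (iv1 F511379)) (tt N114582 (iv0 F511378)) (tt N120632 (iv2 F521858)) (tt N120984 (iv3 F523859)) (tt N94635 F511376) (tt N102551 F511377) (tt N94634 (iv6 D221915)) (tt N120630 (iv7 F521850)))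
theorem Q118658 : ∀ i, i < 118658 → P i := stepQ 118657 Q118657 (allL N118657 (tt N100618 (iv1 F511382)) (tt N104455 F511383) (tt N120283 (iv2 F520013)) (tt N101260 F511380) (tt N120630 (iv4 F521851)) (tt N110499 F511381) (tt N118799 (iv6 F512137)) (tt N94635 (iv7 D221916)))
theorem Q118659 : ∀ i, i < 118659 → P i := stepQ 118658 Q118658 (allL N118658 (tt N117762 F511387) (tt N109597 (iv0 F511388)) (tt N120681 (iv2 F522110)) (tt N94636 (iv3 D221917)) (tt N118165 F511384) (tt N102430 F511385) (tt N117343 F511389) (tt N118164 F511386))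
theorem Q118660 : ∀ i, i < 118660 → P i := stepQ 118659 Q118659 (allL N118659 (tt N111215 F511395) (tt N119640 F516657) (tt N104735 F511390) (tt N117343 F511391) (tt N94637 F511392) (tt N104731 F511393) (tt N94636 (iv6 D221918)) (tt N104733 F511394))
theorem Q118661 : ∀ i, i < 118661 → P i := stepQ 118660 Q118660 (allL N118660 (tt N118672 F511462) (tt N94637 (iv0 D221919)) (tt N118640 (iv2 F511399)) (tt N111046 F511397) (tt N120831 (iv4 F522972)) (tt N115958 F511396) (tt N111045 F511398) (tt N118673 (iv7 F511468)))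
theorem Q118662 : ∀ i, i < 118662 → P i := stepQ 118661 Q118661 (allL N118661 (tt N94637 (iv1 D221920)) (tt N118672 (iv0 F511461)) (tt N118673 F511466) (tt N94651 (iv3 F511401)) (tt N120820 (iv4 F522909)) (tt N108202 F511403) (tt N117274 (iv6 F511402)) (tt N118640 F511400))
theorem Q118663 : ∀ i, i < 118663 → P i := stepQ 118662 Q118662 (allL N118662 (tt N115519 F511408) (tt N118920 F512752) (tt N118919 (iv2 F512747)) (tt N118292 F511404) (tt N115979 F511407) (tt N94637 (iv5 D221921)) (tt N108221 F511405) (tt N111406 F511406))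
theorem Q118664 : ∀ i, i < 118664 → P i := stepQ 118663 Q118663 (allL N118663 (tt N120831 (iv1 F522973)) (tt N120820 (iv0 F522910)) (tt N104696 F511409) (tt N103712 F511410) (tt N121316 (iv4 F525720)) (tt N104686 F511411) (tt N94639 (iv6 D221922)) (tt N103739 F511412))
theorem Q118665 : ∀ i, i < 118665 → P i := stepQ 118664 Q118664 (allL N118664 (tt N114298 F511417) (tt N105204 F511418) (tt N120548 (iv2 F521390)) (tt N94770 F511413) (tt N94640 (iv4 D221923)) (tt N107158 F511414) (tt N94768 F511415) (tt N105445 F511416))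
theorem Q118666 : ∀ i, i < 118666 → P i := stepQ 118665 Q118665 (allL N118665 (tt N109155 (iv1 F511423)) (tt N94641 (iv0 D221924)) (tt N104710 (iv2 F511422)) (tt N115017 F511421) (tt N109457 F511420) (tt N104640 F511419) (tt N104670 (iv6 F511425)) (tt N118627 F511424))
theorem Q118667 : ∀ i, i < 118667 → P i := stepQ 118666 Q118666 (allL N118666 (tt N104693 F511430) (tt N109428 (iv0 F511431)) (tt N114950 F511426) (tt N116218 F511427) (tt N114952 F511428) (tt N122056 (iv5 F529894)) (tt N94642 (iv6 D221925)) (tt N116260 F511429))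
theorem Q118668 : ∀ i, i < 118668 → P i := stepQ 118667 Q118667 (allL N118667 (tt N117591 F511435) (tt N118720 F511743) (tt N94649 F511432) (tt N118639 F511433) (tt N120072 (iv4 F518898)) (tt N114124 F511434) (tt N94648 (iv6 D221926)) (tt N120009 (iv7 F518540)))
theorem Q118669 : ∀ i, i < 118669 → P i := stepQ 118668 Q118668 (allL N118668 (tt N120009 (iv1 F518541)) (tt N94649 (iv0 D221927)) (tt N117591 (iv2 F511439)) (tt N118715 F511712) (tt N105061 F511437) (tt N117468 F511436) (tt N96469 F511438) (tt N118720 (iv7 F511740)))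
theorem Q118670 : ∀ i, i < 118670 → P i := stepQ 118669 Q118669 (allL N118669 (tt N114710 F511443) (tt N105516 F511444) (tt N104723 F511440) (tt N113123 F511441) (tt N104674 F511442) (tt N119950 (iv5 F518205)) (tt N94653 (iv6 D221928)) (tt N104718 F511445))
theorem Q118671 : ∀ i, i < 118671 → P i := stepQ 118670 Q118670 (allL N118670 (tt N119680 (iv1 F516882)) (tt N121790 F528335) (tt N121791 (iv2 F528336)) (tt N94658 F511446) (tt N106631 (iv4 F511449)) (tt N94656 (iv5 D221929)) (tt N105532 F511447) (tt N109212 F511448))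
theorem Q118672 : ∀ i, i < 118672 → P i := stepQ 118671 Q118671 (allL N118671 (tt N101301 (iv1 F511454)) (tt N94658 (iv0 D221930)) (tt N118642 (iv2 F511453)) (tt N109820 (iv3 F511456)) (tt N117492 F511451) (tt N95230 F511450) (tt N109819 F511452) (tt N118643 F511455))
theorem Q118673 : ∀ i, i < 118673 → P i := stepQ 118672 Q118672 (allL N118672 (tt N118661 F511461) (tt N118660 (iv0 F511462)) (tt N94675 F511457) (tt N94857 F511458) (tt N119043 (iv4 F513458)) (tt N101584 F511459) (tt N94672 (iv6 D221931)) (tt N116919 F511460))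
theorem Q118674 : ∀ i, i < 118674 → P i := stepQ 118673 Q118673 (allL N118673 (tt N116919 (iv1 F511467)) (tt N94675 (iv0 D221932)) (tt N118661 (iv2 F511466)) (tt N116916 F511464) (tt N120897 (iv4 F523346)) (tt N115521 F511463) (tt N116962 F511465) (tt N118660 F511468))
theorem Q118675 : ∀ i, i < 118675 → P i := stepQ 118674 Q118674 (allL N118674 (tt N108209 F511473) (tt N111698 (iv0 F511474)) (tt N94892 F511469) (tt N122024 (iv3 F529700)) (tt N115922 F511470) (tt N108908 F511471) (tt N94680 (iv6 D221933)) (tt N115577 F511472))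
theorem Q118676 : ∀ i, i < 118676 → P i := stepQ 118675 Q118675 (allL N118675 (tt N94900 (iv1 F511479)) (tt N94899 F511480) (tt N94903 F511475) (tt N121909 (iv3 F529005)) (tt N94682 F511476) (tt N94916 F511477) (tt N101605 F511478) (tt N94681 (iv7 D221934)))
theorem Q118677 : ∀ i, i < 118677 → P i := stepQ 118676 Q118676 (allL N118676 (tt N95224 F511486) (tt N102117 F511487) (tt N94850 F511481) (tt N95813 F511482) (tt N96643 F511483) (tt N94684 (iv5 D221935)) (tt N117983 F511484) (tt N94840 F511485))
theorem Q118678 : ∀ i, i < 118678 → P i := stepQ 118677 Q118677 (allL N118677 (tt N94687 (iv1 D221936)) (tt N94845 F511488) (tt N94815 F511494) (tt N94958 (iv3 F511492)) (tt N112501 F511491) (tt N118209 F511490) (tt N112500 (iv6 F511493)) (tt N94843 F511489))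
theorem Q118679 : ∀ i, i < 118679 → P i := stepQ 118678 Q118678 (allL N118678 (tt N112086 F511500) (tt N108178 (iv0 F511501)) (tt N95077 F511495) (tt N112215 F511496) (tt N118317 F511497) (tt N94898 F511498) (tt N94708 (iv6 D221937)) (tt N112087 F511499))
theorem Q118680 : ∀ i, i < 118680 → P i := stepQ 118679 Q118679 (allL N118679 (tt N118368 F511507) (tt N118358 (iv0 F511508)) (tt N118219 F511502) (tt N94710 (iv3 D221938)) (tt N97407 F511503) (tt N96430 F511504) (tt N97406 F511505) (tt N95084 F511506))
theorem Q118681 : ∀ i, i < 118681 → P i := stepQ 118680 Q118680 (allL N118680 (tt N95091 (iv1 F511512)) (tt N95090 F511513) (tt N95093 F511509) (tt N120150 (iv3 F519313)) (tt N94712 F511510) (tt N95099 F511511) (tt N118850 F512411) (tt N94711 (iv7 D221939)))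
theorem Q118682 : ∀ i, i < 118682 → P i := stepQ 118681 Q118681 (allL N118681 (tt N95054 F511519) (tt N95053 F511520) (tt N94715 F511514) (tt N115008 F511515) (tt N94713 (iv4 D221940)) (tt N101972 F511516) (tt N115007 F511517) (tt N95046 F511518))
theorem Q118683 : ∀ i, i < 118683 → P i := stepQ 118682 Q118682 (allL N118682 (tt N95046 (iv1 F511524)) (tt N94715 (iv0 D221941)) (tt N95054 (iv2 F511523)) (tt N96529 (iv3 F511526)) (tt N95225 F511522) (tt N95706 F511521) (tt N120414 (iv6 F520655)) (tt N95053 F511525))
theorem Q118684 : ∀ i, i < 118684 → P i := stepQ 118683 Q118683 (allL N118683 (tt N118863 (iv1 F512466)) (tt N94765 (iv0 F511532)) (tt N108284 F511527) (tt N94741 F511528) (tt N108073 F511531) (tt N94739 (iv5 D221942)) (tt N110212 F511529) (tt N95145 F511530))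
theorem Q118685 : ∀ i, i < 118685 → P i := stepQ 118684 Q118684 (allL N118684 (tt N94765 F511537) (tt N118863 (iv0 F512465)) (tt N95145 F511533) (tt N95222 F511534) (tt N105700 F511535) (tt N94749 (iv5 D221943)) (tt N105699 (iv6 F511538)) (tt N108284 F511536))
theorem Q118686 : ∀ i, i < 118686 → P i := stepQ 118685 Q118685 (allL N118685 (tt N119567 (iv1 F516295)) (tt N95156 F511543) (tt N94751 F511539) (tt N103522 F511540) (tt N105281 F511541) (tt N94750 (iv5 D221944)) (tt N118335 F511542) (tt N118932 (iv7 F512818)))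
theorem Q118687 : ∀ i, i < 118687 → P i := stepQ 118686 Q118686 (allL N118686 (tt N96498 F511546) (tt N115055 F511548) (tt N119183 (iv2 F514239)) (tt N94755 F511544) (tt N98048 F511547) (tt N94754 (iv5 D221945)) (tt N96426 F511545) (tt N119190 (iv7 F514278)))
theorem Q118688 : ∀ i, i < 118688 → P i := stepQ 118687 Q118687 (allL N118687 (tt N103738 F511553) (tt N94768 F511554) (tt N95176 F511549) (tt N95208 F511550) (tt N94966 F511551) (tt N94758 (iv5 D221946)) (tt N120261 (iv6 F519876)) (tt N114475 F511552))
theorem Q118689 : ∀ i, i < 118689 → P i := stepQ 118688 Q118688 (allL N118688 (tt N103522 (iv1 F511560)) (tt N94759 (iv0 D221947)) (tt N95185 (iv2 F511559)) (tt N95211 F511557) (tt N95118 F511556) (tt N102787 F511555) (tt N112418 F511558) (tt N118745 (iv7 F511858)))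
theorem Q118690 : ∀ i, i < 118690 → P i := stepQ 118689 Q118689 (allL N118689 (tt N96406 F511561) (tt N119134 (iv0 F513972)) (tt N119211 (iv2 F514387)) (tt N119560 F516254) (tt N94761 (iv4 D221948)) (tt N119148 (iv5 F514041)) (tt N122668 D225927) (tt N119212 (iv7 F514389)))
theorem Q118691 : ∀ i, i < 118691 → P i := stepQ 118690 Q118690 (allL N118690 (tt N122669 D225928) (tt N122669 F533508) (tt N122634 (iv2 F533295)) (tt N114570 F511562) (tt N122668 (iv4 F533499)) (tt N122663 (iv5 F533466)) (tt N94761 (iv6 D221949)) (tt N122634 (iv7 F533299)))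
theorem Q118692 : ∀ i, i < 118692 → P i := stepQ 118691 Q118691 (allL N118691 (tt N108195 F511565) (tt N108173 F511566) (tt N119517 F516022) (tt N112261 F511563) (tt N119522 (iv4 F516045)) (tt N94767 (iv5 D221950)) (tt N119198 (iv6 F514317)) (tt N117202 F511564))
theorem Q118693 : ∀ i, i < 118693 → P i := stepQ 118692 Q118692 (allL N118692 (tt N95176 (iv1 F511571)) (tt N114475 F511570) (tt N94768 (iv2 D221951)) (tt N118863 (iv3 F512461)) (tt N103657 F511567) (tt N107738 F511568) (tt N120548 F521389) (tt N103738 F511569))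
theorem Q118694 : ∀ i, i < 118694 → P i := stepQ 118693 Q118693 (allL N118693 (tt N94776 (iv1 D221952)) (tt N117013 F511572) (tt N117589 F511576) (tt N114563 (iv3 F511574)) (tt N109312 F511577) (tt N114804 F511573) (tt N111023 (iv6 F511575)) (tt N120403 (iv7 F520599)))
theorem Q118695 : ∀ i, i < 118695 → P i := stepQ 118694 Q118694 (allL N118694 (tt N108147 F511583) (tt N108148 F511584) (tt N117014 F511578) (tt N94777 F511579) (tt N114119 F511580) (tt N94776 (iv5 D221953)) (tt N97763 F511581) (tt N114116 F511582))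
theorem Q118696 : ∀ i, i < 118696 → P i := stepQ 118695 Q118695 (allL N118695 (tt N95253 (iv1 F511590)) (tt N95252 F511591) (tt N95255 F511585) (tt N114116 F511586) (tt N112274 F511587) (tt N94778 F511588) (tt N108185 F511589) (tt N94777 (iv7 D221954)))
theorem Q118697 : ∀ i, i < 118697 → P i := stepQ 118696 Q118696 (allL N118696 (tt N94809 F511596) (tt N96825 (iv0 F511597)) (tt N107686 F511592) (tt N94784 (iv3 D221955)) (tt N102082 F511593) (tt N114722 F511594) (tt N112291 F511595) (tt N118862 (iv7 F512458)))
theorem Q118698 : ∀ i, i < 118698 → P i := stepQ 118697 Q118697 (allL N118697 (tt N102216 F511602) (tt N117688 (iv0 F511603)) (tt N102057 F511598) (tt N118785 (iv3 F512054)) (tt N94791 F511599) (tt N102889 F511600) (tt N94790 (iv6 D221956)) (tt N102199 F511601))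
theorem Q118699 : ∀ i, i < 118699 → P i := stepQ 118698 Q118698 (allL N118698 (tt N117445 F511608) (tt N120265 (iv0 F519905)) (tt N112868 F511604) (tt N94792 (iv3 D221957)) (tt N111451 F511605) (tt N115715 F511606) (tt N97511 F511607) (tt N120501 (iv7 F521117)))
theorem Q118700 : ∀ i, i < 118700 → P i := stepQ 118699 Q118699 (allL N118699 (tt N120554 (iv1 F521426)) (tt N120553 (iv0 F521420)) (tt N112631 F511609) (tt N121493 (iv3 F526675)) (tt N94801 F511610) (tt N116556 (iv5 F511611)) (tt N94799 (iv6 D221958)) (tt N119179 (iv7 F514217)))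
theorem Q118701 : ∀ i, i < 118701 → P i := stepQ 118700 Q118700 (allL N118700 (tt N116914 F511617) (tt N120830 (iv0 F522969)) (tt N109150 F511612) (tt N107435 F511613) (tt N94800 (iv4 D221959)) (tt N109149 F511616) (tt N94955 F511614) (tt N118143 F511615))
theorem Q118702 : ∀ i, i < 118702 → P i := stepQ 118701 Q118701 (allL N118701 (tt N120830 (iv1 F522970)) (tt N116914 F511622) (tt N118143 F511618) (tt N97803 F511619) (tt N94804 (iv4 D221960)) (tt N97802 F511620) (tt N118802 (iv6 F512153)) (tt N109150 F511621))
theorem Q118703 : ∀ i, i < 118703 → P i := stepQ 118702 Q118702 (allL N118702 (tt N112815 F511626) (tt N94985 F511627) (tt N121450 (iv2 F526441)) (tt N120029 (iv3 F518646)) (tt N115072 F511623) (tt N94820 (iv5 D221961)) (tt N116796 F511624) (tt N115070 F511625))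
theorem Q118704 : ∀ i, i < 118704 → P i := stepQ 118703 Q118703 (allL N118703 (tt N94876 F511631) (tt N115965 (iv0 F511633)) (tt N119514 (iv2 F516005)) (tt N116918 F511628) (tt N98556 F511629) (tt N115542 F511632) (tt N94822 (iv6 D221962)) (tt N116795 F511630))
theorem Q118705 : ∀ i, i < 118705 → P i := stepQ 118704 Q118704 (allL N118704 (tt N94894 F511639) (tt N112095 (iv0 F511640)) (tt N112275 F511634) (tt N100927 F511635) (tt N112462 F511638) (tt N94823 (iv5 D221963)) (tt N115542 F511636) (tt N112276 F511637))
theorem Q118706 : ∀ i, i < 118706 → P i := stepQ 118705 Q118705 (allL N118705 (tt N108170 F511645) (tt N118359 (iv0 F511646)) (tt N118783 (iv2 F512040)) (tt N108309 F511641) (tt N117061 F511642) (tt N106774 F511643) (tt N94831 (iv6 D221964)) (tt N108319 F511644))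
theorem Q118707 : ∀ i, i < 118707 → P i := stepQ 118706 Q118706 (allL N118706 (tt N112485 (iv1 F511652)) (tt N101120 F511653) (tt N96542 F511647) (tt N94845 F511648) (tt N102886 F511649) (tt N96532 F511650) (tt N107916 F511651) (tt N94837 (iv7 D221965)))
theorem Q118708 : ∀ i, i < 118708 → P i := stepQ 118707 Q118707 (allL N118707 (tt N95043 F511659) (tt N95045 F511660) (tt N102058 F511654) (tt N97450 F511655) (tt N96636 F511656) (tt N94838 (iv5 D221966)) (tt N102217 F511657) (tt N97456 F511658))
theorem Q118709 : ∀ i, i < 118709 → P i := stepQ 118708 Q118708 (allL N118708 (tt N102156 F511666) (tt N102192 (iv0 F511667)) (tt N96947 F511661) (tt N102181 F511662) (tt N95028 F511663) (tt N96634 F511664) (tt N94840 (iv6 D221967)) (tt N102175 F511665))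
theorem Q118710 : ∀ i, i < 118710 → P i := stepQ 118709 Q118709 (allL N118709 (tt N112658 F511673) (tt N112632 (iv0 F511674)) (tt N94849 F511668) (tt N99354 F511669) (tt N96455 F511670) (tt N99350 F511671) (tt N94847 (iv6 D221968)) (tt N118225 F511672))
theorem Q118711 : ∀ i, i < 118711 → P i := stepQ 118710 Q118710 (allL N118710 (tt N108502 F511679) (tt N96091 F511680) (tt N99350 F511675) (tt N94854 F511676) (tt N117116 F511681) (tt N94849 (iv5 D221969)) (tt N94941 F511677) (tt N118340 F511678))
theorem Q118712 : ∀ i, i < 118712 → P i := stepQ 118711 Q118711 (allL N118711 (tt N101688 (iv1 F511687)) (tt N94851 (iv0 D221970)) (tt N101499 (iv2 F511686)) (tt N97480 F511684) (tt N101509 F511683) (tt N102334 F511682) (tt N97479 F511685) (tt N101689 F511688))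
theorem Q118713 : ∀ i, i < 118713 → P i := stepQ 118712 Q118712 (allL N118712 (tt N94854 (iv1 D221971)) (tt N107780 F511689) (tt N99300 F511695) (tt N107784 (iv3 F511693)) (tt N106477 F511692) (tt N110904 F511691) (tt N116986 (iv6 F511694)) (tt N107781 F511690))
theorem Q118714 : ∀ i, i < 118714 → P i := stepQ 118713 Q118713 (allL N118713 (tt N99300 (iv1 F511701)) (tt N107781 F511702) (tt N107780 F511696) (tt N118340 F511697) (tt N110996 F511698) (tt N94855 F511699) (tt N107771 F511700) (tt N94854 (iv7 D221972)))
theorem Q118715 : ∀ i, i < 118715 → P i := stepQ 118714 Q118714 (allL N118714 (tt N94869 (iv1 F511705)) (tt N94857 (iv0 D221973)) (tt N94866 (iv2 F511706)) (tt N119038 (iv3 F513423)) (tt N120026 (iv4 F518631)) (tt N115606 F511703) (tt N117495 F511704) (tt N94867 (iv7 F511707)))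
theorem Q118716 : ∀ i, i < 118716 → P i := stepQ 118715 Q118715 (allL N118715 (tt N94857 (iv1 D221974)) (tt N94869 F511708) (tt N94867 (iv2 F511713)) (tt N118668 (iv3 F511712)) (tt N96718 F511710) (tt N115605 F511711) (tt N119163 (iv6 F514132)) (tt N94866 F511709))
theorem Q118717 : ∀ i, i < 118717 → P i := stepQ 118716 Q118716 (allL N118716 (tt N122395 (iv1 F531843)) (tt N122396 (iv0 F531849)) (tt N94868 F511714) (tt N101584 F511715) (tt N114129 F511717) (tt N94857 (iv5 D221975)) (tt N94859 F511716) (tt N121679 (iv7 F527699)))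
theorem Q118718 : ∀ i, i < 118718 → P i := stepQ 118717 Q118717 (allL N118717 (tt N96332 F511722) (tt N111402 F511723) (tt N94871 F511718) (tt N118611 F511719) (tt N115664 F511720) (tt N94858 (iv5 D221976)) (tt N121642 F527499) (tt N94872 F511721))
theorem Q118719 : ∀ i, i < 118719 → P i := stepQ 118718 Q118718 (allL N118718 (tt N117712 F511729) (tt N98255 F511730) (tt N104175 F511724) (tt N96686 F511725) (tt N94861 (iv4 D221977)) (tt N97895 F511728) (tt N98217 F511726) (tt N98245 F511727))
theorem Q118720 : ∀ i, i < 118720 → P i := stepQ 118719 Q118719 (allL N118719 (tt N119428 F515568) (tt N101425 (iv0 F511736)) (tt N96396 F511731) (tt N96687 F511732) (tt N94863 F511733) (tt N114510 F511735) (tt N94862 (iv6 D221978)) (tt N110435 F511734))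
theorem Q118721 : ∀ i, i < 118721 → P i := stepQ 118720 Q118720 (allL N118720 (tt N118667 (iv1 F511743)) (tt N99524 (iv0 F511741)) (tt N110033 (iv2 F511742)) (tt N94866 (iv3 D221979)) (tt N101239 F511737) (tt N115576 F511738) (tt N108314 F511739) (tt N118668 F511740))
theorem Q118722 : ∀ i, i < 118722 → P i := stepQ 118721 Q118721 (allL N118721 (tt N105822 F511746) (tt N117735 F511747) (tt N119477 (iv2 F515816)) (tt N94867 (iv3 D221980)) (tt N98241 F511744) (tt N122500 (iv5 F532499)) (tt N98239 F511745) (tt N119038 (iv7 F513426)))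
theorem Q118723 : ∀ i, i < 118723 → P i := stepQ 118722 Q118722 (allL N118722 (tt N121679 F527701) (tt N94868 (iv0 D221981)) (tt N122395 (iv2 F531838)) (tt N101248 F511750) (tt N114194 F511749) (tt N101247 F511748) (tt N122151 (iv6 F530447)) (tt N122396 (iv7 F531848)))
theorem Q118724 : ∀ i, i < 118724 → P i := stepQ 118723 Q118723 (allL N118723 (tt N94868 (iv1 D221982)) (tt N121679 (iv0 F527700)) (tt N122396 (iv2 F531844)) (tt N117717 F511754) (tt N114196 F511752) (tt N117716 F511751) (tt N114806 (iv6 F511753)) (tt N122395 (iv7 F531840)))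
theorem Q118725 : ∀ i, i < 118725 → P i := stepQ 118724 Q118724 (allL N118724 (tt N122396 (iv1 F531850)) (tt N122395 (iv0 F531842)) (tt N121679 (iv2 F527696)) (tt N94882 F511755) (tt N111572 F511756) (tt N94869 F511757) (tt N101603 F511758) (tt N94868 (iv7 D221983)))
theorem Q118726 : ∀ i, i < 118726 → P i := stepQ 118725 Q118725 (allL N118725 (tt N121763 (iv1 F528165)) (tt N121751 (iv0 F528104)) (tt N116038 F511759) (tt N94881 (iv3 D221984)) (tt N111576 F511760) (tt N120612 (iv5 F521752)) (tt N94901 F511761) (tt N111573 F511762))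
theorem Q118727 : ∀ i, i < 118727 → P i := stepQ 118726 Q118726 (allL N118726 (tt N112095 F511768) (tt N94894 F511769) (tt N112276 F511763) (tt N118607 F511764) (tt N112463 F511765) (tt N94883 (iv5 D221985)) (tt N115069 F511766) (tt N112275 F511767))
theorem Q118728 : ∀ i, i < 118728 → P i := stepQ 118727 Q118727 (allL N118727 (tt N120511 (iv1 F521179)) (tt N94884 (iv0 D221986)) (tt N120346 (iv2 F520303)) (tt N118609 (iv3 F511771)) (tt N113663 (iv4 F511772)) (tt N96523 F511770) (tt N122425 (iv6 F532028)) (tt N120345 F520302))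
theorem Q118729 : ∀ i, i < 118729 → P i := stepQ 118728 Q118728 (allL N118728 (tt N94884 (iv1 D221987)) (tt N120511 (iv0 F521177)) (tt N120345 (iv2 F520296)) (tt N111358 (iv3 F511775)) (tt N113665 F511774) (tt N96584 F511773) (tt N111358 (iv6 F511776)) (tt N120346 (iv7 F520306)))
theorem Q118730 : ∀ i, i < 118730 → P i := stepQ 118729 Q118729 (allL N118729 (tt N111083 F511779) (tt N111086 F511780) (tt N120507 (iv2 F521156)) (tt N115394 F511777) (tt N94884 (iv4 D221988)) (tt N104985 F511778) (tt N120052 (iv6 F518780)) (tt N120506 F521150))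
theorem Q118731 : ∀ i, i < 118731 → P i := stepQ 118730 Q118730 (allL N118730 (tt N101957 (iv1 F511787)) (tt N101962 (iv0 F511786)) (tt N101961 F511781) (tt N95309 F511782) (tt N94890 F511783) (tt N116079 F511785) (tt N94888 (iv6 D221989)) (tt N101960 F511784))
theorem Q118732 : ∀ i, i < 118732 → P i := stepQ 118731 Q118731 (allL N118731 (tt N95412 F511791) (tt N118959 F512979) (tt N111497 F511788) (tt N112009 F511789) (tt N94889 (iv4 D221990)) (tt N111496 F511790) (tt N118871 (iv6 F512503)) (tt N118951 (iv7 F512935)))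
theorem Q118733 : ∀ i, i < 118733 → P i := stepQ 118732 Q118732 (allL N118732 (tt N121663 F527617) (tt N118859 (iv0 F512442)) (tt N120512 (iv2 F521180)) (tt N94892 F511792) (tt N118871 (iv4 F512502)) (tt N119049 (iv5 F513491)) (tt N94889 (iv6 D221991)) (tt N121661 (iv7 F527603)))
theorem Q118734 : ∀ i, i < 118734 → P i := stepQ 118733 Q118733 (allL N118733 (tt N108910 F511796) (tt N99004 F511797) (tt N108908 F511793) (tt N119049 (iv3 F513495)) (tt N118267 F511798) (tt N94892 (iv5 D221992)) (tt N94893 F511794) (tt N108909 F511795))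
theorem Q118735 : ∀ i, i < 118735 → P i := stepQ 118734 Q118734 (allL N118734 (tt N112276 (iv1 F511805)) (tt N112275 F511804) (tt N94894 (iv2 D221993)) (tt N101570 F511799) (tt N112096 F511800) (tt N101569 F511801) (tt N112226 F511802) (tt N112095 F511803))
theorem Q118736 : ∀ i, i < 118736 → P i := stepQ 118735 Q118735 (allL N118735 (tt N118388 F511807) (tt N118388 F511808) (tt N119200 (iv2 F514323)) (tt N94899 (iv3 D221994)) (tt N122670 D225929) (tt N119130 (iv5 F513946)) (tt N108195 F511806) (tt N119200 (iv7 F514326)))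
theorem Q118737 : ∀ i, i < 118737 → P i := stepQ 118736 Q118736 (allL N118736 (tt N111562 (iv1 F511810)) (tt N94901 (iv0 D221995)) (tt N122147 (iv2 F530429)) (tt N119221 (iv3 F514440)) (tt N112237 F511809) (tt N119126 (iv5 F513924)) (tt N114638 (iv6 F511811)) (tt N122148 (iv7 F530439)))
theorem Q118738 : ∀ i, i < 118738 → P i := stepQ 118737 Q118737 (allL N118737 (tt N94901 (iv1 D221996)) (tt N111562 (iv0 F511815)) (tt N122148 (iv2 F530436)) (tt N113877 (iv3 F511814)) (tt N112236 F511812) (tt N113876 F511813) (tt N122558 F532841) (tt N122147 (iv7 F530432)))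
theorem Q118739 : ∀ i, i < 118739 → P i := stepQ 118738 Q118738 (allL N118738 (tt N122147 (iv1 F530435)) (tt N122148 (iv0 F530440)) (tt N94901 (iv2 D221997)) (tt N116037 F511816) (tt N113905 F511817) (tt N114923 F511818) (tt N116038 F511819) (tt N111562 F511820))
theorem Q118740 : ∀ i, i < 118740 → P i := stepQ 118739 Q118739 (allL N118739 (tt N94902 (iv1 D221998)) (tt N94916 F511821) (tt N104857 (iv2 F511827)) (tt N96694 (iv3 F511825)) (tt N94908 F511824) (tt N94909 F511823) (tt N96677 (iv6 F511826)) (tt N96694 F511822))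
theorem Q118741 : ∀ i, i < 118741 → P i := stepQ 118740 Q118740 (allL N118740 (tt N97762 (iv1 F511834)) (tt N97761 F511833) (tt N94905 (iv2 D221999)) (tt N111061 F511828) (tt N97781 F511829) (tt N114120 F511830) (tt N107749 F511831) (tt N97760 F511832))
theorem Q118742 : ∀ i, i < 118742 → P i := stepQ 118741 Q118741 (allL N118741 (tt N122326 (iv1 F531440)) (tt N119570 F516314) (tt N120499 (iv2 F521100)) (tt N121669 (iv3 F527641)) (tt N94907 (iv4 D222000)) (tt N122033 (iv5 F529757)) (tt N121668 F527640) (tt N120575 (iv7 F521537)))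
theorem Q118743 : ∀ i, i < 118743 → P i := stepQ 118742 Q118742 (allL N118742 (tt N104143 (iv1 F511839)) (tt N94911 (iv0 D222001)) (tt N105228 (iv2 F511838)) (tt N107041 F511836) (tt N120637 (iv4 F521888)) (tt N116314 F511835) (tt N105184 F511837) (tt N105160 F511840))
theorem Q118744 : ∀ i, i < 118744 → P i := stepQ 118743 Q118743 (allL N118743 (tt N105228 (iv1 F511847)) (tt N105160 F511846) (tt N94911 (iv2 D222002)) (tt N105226 F511841) (tt N104645 F511842) (tt N104144 F511843) (tt N104644 F511844) (tt N104143 F511845))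
theorem Q118745 : ∀ i, i < 118745 → P i := stepQ 118744 Q118744 (allL N118744 (tt N100811 F511853) (tt N100810 F511854) (tt N94935 F511848) (tt N99825 F511849) (tt N94922 (iv4 D222003)) (tt N118570 F511850) (tt N99866 F511851) (tt N99821 F511852))
theorem Q118746 : ∀ i, i < 118746 → P i := stepQ 118745 Q118745 (allL N118745 (tt N102835 F511859) (tt N104617 F511860) (tt N107739 F511855) (tt N112842 F511856) (tt N103513 F511857) (tt N94925 (iv5 D222004)) (tt N108139 F511861) (tt N118688 F511858))
theorem Q118747 : ∀ i, i < 118747 → P i := stepQ 118746 Q118746 (allL N118746 (tt N120395 F520559) (tt N109909 (iv0 F511866)) (tt N117317 F511862) (tt N94944 (iv3 D222005)) (tt N117322 F511863) (tt N111438 F511864) (tt N106121 F511865) (tt N121611 (iv7 F527328)))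
theorem Q118748 : ∀ i, i < 118748 → P i := stepQ 118747 Q118747 (allL N118747 (tt N120682 (iv1 F522121)) (tt N120891 F523321) (tt N122363 (iv2 F531646)) (tt N94956 (iv3 D222006)) (tt N109217 F511867) (tt N120677 (iv5 F522095)) (tt N112902 (iv6 F511869)) (tt N109151 F511868))
theorem Q118749 : ∀ i, i < 118749 → P i := stepQ 118748 Q118748 (allL N118748 (tt N120864 F523155) (tt N122513 F532581) (tt N106407 F511870) (tt N112902 F511871) (tt N94957 F511872) (tt N120678 (iv5 F522098)) (tt N94956 (iv6 D222007)) (tt N118802 (iv7 F512154)))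
theorem Q118750 : ∀ i, i < 118750 → P i := stepQ 118749 Q118749 (allL N118749 (tt N96386 F511875) (tt N96389 (iv0 F511876)) (tt N119160 (iv2 F514112)) (tt N94960 (iv3 D222008)) (tt N118784 (iv4 F512048)) (tt N109126 F511873) (tt N118127 F511874) (tt N119041 (iv7 F513446)))
theorem Q118751 : ∀ i, i < 118751 → P i := stepQ 118750 Q118750 (allL N118750 (tt N116410 (iv1 F511881)) (tt N116408 F511882) (tt N116922 F511877) (tt N100625 F511878) (tt N116904 F511879) (tt N120162 (iv5 F519359)) (tt N100624 F511880) (tt N94965 (iv7 D222009)))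
theorem Q118752 : ∀ i, i < 118752 → P i := stepQ 118751 Q118751 (allL N118751 (tt N116702 F511887) (tt N118160 F511888) (tt N101147 F511883) (tt N94969 F511884) (tt N112084 F511889) (tt N94968 (iv5 D222010)) (tt N118139 F511885) (tt N112211 F511886))
theorem Q118753 : ∀ i, i < 118753 → P i := stepQ 118752 Q118752 (allL N118752 (tt N116848 F511895) (tt N116853 (iv0 F511896)) (tt N101604 F511890) (tt N100433 F511891) (tt N100435 F511892) (tt N100930 F511893) (tt N94973 (iv6 D222011)) (tt N94992 F511894))
theorem Q118754 : ∀ i, i < 118754 → P i := stepQ 118753 Q118753 (allL N118753 (tt N95000 F511900) (tt N94997 F511901) (tt N112663 F511897) (tt N99048 F511898) (tt N94977 (iv4 D222012)) (tt N119093 (iv5 F513753)) (tt N99034 F511899) (tt N119151 (iv7 F514064)))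
theorem Q118755 : ∀ i, i < 118755 → P i := stepQ 118754 Q118754 (allL N118754 (tt N94997 F511906) (tt N95000 F511907) (tt N119151 F514062) (tt N99081 F511902) (tt N94978 (iv4 D222013)) (tt N112568 F511905) (tt N106677 F511903) (tt N112663 F511904))
theorem Q118756 : ∀ i, i < 118756 → P i := stepQ 118755 Q118755 (allL N118755 (tt N94982 (iv1 F511910)) (tt N94979 (iv0 D222014)) (tt N118761 (iv2 F511938)) (tt N120215 F519643) (tt N95280 F511909) (tt N107189 F511908) (tt N119707 (iv6 F517021)) (tt N118762 (iv7 F511945)))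
theorem Q118757 : ∀ i, i < 118757 → P i := stepQ 118756 Q118756 (allL N118756 (tt N94979 (iv1 D222015)) (tt N94982 F511911) (tt N118762 (iv2 F511942)) (tt N119731 F517146) (tt N96417 F511913) (tt N107194 F511912) (tt N107680 (iv6 F511914)) (tt N118761 (iv7 F511939)))
theorem Q118758 : ∀ i, i < 118758 → P i := stepQ 118757 Q118757 (allL N118757 (tt N119090 (iv1 F513741)) (tt N101459 F511920) (tt N107330 F511915) (tt N110753 F511916) (tt N95006 F511917) (tt N94986 (iv5 D222016)) (tt N110751 F511918) (tt N107333 F511919))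
theorem Q118759 : ∀ i, i < 118759 → P i := stepQ 118758 Q118758 (allL N118758 (tt N107202 F511924) (tt N101451 F511925) (tt N98904 F511921) (tt N119780 (iv3 F517378)) (tt N95002 F511922) (tt N94988 (iv5 D222017)) (tt N119778 (iv6 F517371)) (tt N107341 F511923))
theorem Q118760 : ∀ i, i < 118760 → P i := stepQ 118759 Q118759 (allL N118759 (tt N99082 F511929) (tt N116535 F511930) (tt N119751 (iv2 F517236)) (tt N94990 F511926) (tt N114024 F511927) (tt N94989 (iv5 D222018)) (tt N121459 F526495) (tt N107336 F511928))
theorem Q118761 : ∀ i, i < 118761 → P i := stepQ 118760 Q118760 (allL N118760 (tt N107755 F511936) (tt N107754 F511937) (tt N107427 F511931) (tt N118268 F511932) (tt N94994 (iv4 D222019)) (tt N99404 F511933) (tt N117020 F511934) (tt N107690 F511935))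
theorem Q118762 : ∀ i, i < 118762 → P i := stepQ 118761 Q118761 (allL N118761 (tt N96447 F511940) (tt N107758 F511941) (tt N118755 F511938) (tt N122171 F530566) (tt N94995 (iv4 D222020)) (tt N119090 (iv5 F513738)) (tt N119298 (iv6 F514904)) (tt N118756 F511939))
theorem Q118763 : ∀ i, i < 118763 → P i := stepQ 118762 Q118762 (allL N118762 (tt N107758 F511947) (tt N96447 F511948) (tt N118756 F511942) (tt N101644 F511943) (tt N94996 (iv4 D222021)) (tt N101459 F511946) (tt N101643 F511944) (tt N118755 F511945))
theorem Q118764 : ∀ i, i < 118764 → P i := stepQ 118763 Q118763 (allL N118763 (tt N119850 F517692) (tt N122602 (iv0 F533108)) (tt N106660 F511949) (tt N95000 (iv3 D222022)) (tt N122456 (iv4 F532223)) (tt N121460 (iv5 F526499)) (tt N106659 F511950) (tt N99582 F511951))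
theorem Q118765 : ∀ i, i < 118765 → P i := stepQ 118764 Q118764 (allL N118764 (tt N106778 F511957) (tt N106051 F511958) (tt N106768 F511952) (tt N95007 F511953) (tt N107546 F511954) (tt N106048 F511955) (tt N95005 (iv6 D222023)) (tt N106514 F511956))
theorem Q118766 : ∀ i, i < 118766 → P i := stepQ 118765 Q118765 (allL N118765 (tt N101353 F511964) (tt N120420 F520687) (tt N107331 F511959) (tt N106601 F511960) (tt N110751 F511961) (tt N106581 F511962) (tt N95006 (iv6 D222024)) (tt N105314 F511963))
theorem Q118767 : ∀ i, i < 118767 → P i := stepQ 118766 Q118766 (allL N118766 (tt N95009 (iv1 F511969)) (tt N95008 (iv0 D222025)) (tt N95012 (iv2 F511965)) (tt N107321 F511966) (tt N122615 (iv4 F533186)) (tt N122369 (iv5 F531687)) (tt N107364 F511967) (tt N95010 F511968))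
theorem Q118768 : ∀ i, i < 118768 → P i := stepQ 118767 Q118767 (allL N118767 (tt N113430 (iv1 F511974)) (tt N116857 (iv0 F511975)) (tt N107616 F511970) (tt N95008 (iv3 D222026)) (tt N108401 F511972) (tt N100256 F511976) (tt N100258 F511971) (tt N107025 (iv7 F511973)))
theorem Q118769 : ∀ i, i < 118769 → P i := stepQ 118768 Q118768 (allL N118768 (tt N122559 (iv1 F532849)) (tt N121728 F527997) (tt N107589 F511977) (tt N121347 (iv3 F525890)) (tt N95008 (iv4 D222027)) (tt N122525 (iv5 F532645)) (tt N121765 (iv6 F528183)) (tt N122626 (iv7 F533251)))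
theorem Q118770 : ∀ i, i < 118770 → P i := stepQ 118769 Q118769 (allL N118769 (tt N119110 (iv1 F513841)) (tt N101448 (iv0 F511980)) (tt N122536 (iv2 F532708)) (tt N100256 F511978) (tt N119777 (iv4 F517365)) (tt N95008 (iv5 D222028)) (tt N100252 F511979) (tt N121936 (iv7 F529166)))
theorem Q118771 : ∀ i, i < 118771 → P i := stepQ 118770 Q118770 (allL N118770 (tt N95010 (iv1 F511984)) (tt N95012 F511985) (tt N95009 F511981) (tt N107025 F511982) (tt N122626 (iv4 F533250)) (tt N121936 (iv5 F529164)) (tt N107022 F511983) (tt N95008 (iv7 D222029)))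
theorem Q118772 : ∀ i, i < 118772 → P i := stepQ 118771 Q118771 (allL N118771 (tt N121728 F527996) (tt N122559 (iv0 F532848)) (tt N122626 (iv2 F533248)) (tt N107580 F511986) (tt N95009 (iv4 D222030)) (tt N122545 (iv5 F532761)) (tt N118474 F511987) (tt N107589 F511988))
theorem Q118773 : ∀ i, i < 118773 → P i := stepQ 118772 Q118772 (allL N118772 (tt N101448 F511990) (tt N119110 (iv0 F513842)) (tt N121936 (iv2 F529163)) (tt N107618 F511989) (tt N121115 (iv4 F524583)) (tt N95009 (iv5 D222031)) (tt N121149 (iv6 F524792)) (tt N122536 (iv7 F532712)))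
theorem Q118774 : ∀ i, i < 118774 → P i := stepQ 118773 Q118773 (allL N118773 (tt N95011 (iv1 D222032)) (tt N122369 (iv0 F531690)) (tt N96294 F511994) (tt N107620 (iv3 F511991)) (tt N121118 (iv4 F524597)) (tt N96284 (iv5 F511992)) (tt N113458 (iv6 F511993)) (tt N121464 (iv7 F526519)))
theorem Q118775 : ∀ i, i < 118775 → P i := stepQ 118774 Q118774 (allL N118774 (tt N107554 F511996) (tt N113405 (iv0 F511999)) (tt N122298 (iv2 F531268)) (tt N119823 (iv3 F517554)) (tt N95011 (iv4 D222033)) (tt N110010 (iv5 F511997)) (tt N116672 F511995) (tt N110009 F511998))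
theorem Q118776 : ∀ i, i < 118776 → P i := stepQ 118775 Q118775 (allL N118775 (tt N96294 (iv1 F512003)) (tt N121464 (iv0 F526521)) (tt N122369 (iv2 F531685)) (tt N95016 F512000) (tt N110009 F512001) (tt N95012 F512002) (tt N122285 (iv6 F531183)) (tt N95011 (iv7 D222034)))
theorem Q118777 : ∀ i, i < 118777 → P i := stepQ 118776 Q118776 (allL N118776 (tt N120100 (iv1 F519046)) (tt N119761 (iv0 F517288)) (tt N109933 F512004) (tt N95014 (iv3 D222035)) (tt N119823 (iv4 F517555)) (tt N99343 F512005) (tt N119822 F517552) (tt N112670 F512006))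
theorem Q118778 : ∀ i, i < 118778 → P i := stepQ 118777 Q118777 (allL N118777 (tt N121628 (iv1 F527427)) (tt N121629 (iv0 F527432)) (tt N107329 F512007) (tt N119822 (iv3 F517547)) (tt N95015 F512008) (tt N121365 (iv5 F525981)) (tt N95014 (iv6 D222036)) (tt N121586 (iv7 F527175)))
theorem Q118779 : ∀ i, i < 118779 → P i := stepQ 118778 Q118778 (allL N118778 (tt N102293 (iv1 F512013)) (tt N95029 (iv0 D222037)) (tt N95812 (iv2 F512014)) (tt N102114 F512011) (tt N102300 F512010) (tt N102113 F512009) (tt N95810 F512012) (tt N115779 (iv7 F512015)))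
theorem Q118780 : ∀ i, i < 118780 → P i := stepQ 118779 Q118779 (allL N118779 (tt N95029 (iv1 D222038)) (tt N102293 F512016) (tt N115779 F512021) (tt N95815 (iv3 F512020)) (tt N102299 F512019) (tt N97397 F512018) (tt N118909 (iv6 F512698)) (tt N95812 F512017))
theorem Q118781 : ∀ i, i < 118781 → P i := stepQ 118780 Q118780 (allL N118780 (tt N112489 F512027) (tt N112504 (iv0 F512028)) (tt N117702 F512022) (tt N95030 (iv3 D222039)) (tt N95602 F512023) (tt N111866 F512024) (tt N117968 F512025) (tt N117699 F512026))
theorem Q118782 : ∀ i, i < 118782 → P i := stepQ 118781 Q118781 (allL N118781 (tt N103925 F512032) (tt N103918 (iv0 F512033)) (tt N103922 F512029) (tt N111677 F512030) (tt N120240 (iv4 F519759)) (tt N120962 (iv5 F523730)) (tt N95031 (iv6 D222040)) (tt N103923 F512031))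
theorem Q118783 : ∀ i, i < 118783 → P i := stepQ 118782 Q118782 (allL N118782 (tt N107790 F512038) (tt N107852 (iv0 F512039)) (tt N107719 F512034) (tt N95033 (iv3 D222041)) (tt N119254 (iv4 F514647)) (tt N108183 F512035) (tt N112304 F512036) (tt N96177 F512037))
theorem Q118784 : ∀ i, i < 118784 → P i := stepQ 118783 Q118783 (allL N118783 (tt N118449 F512044) (tt N95069 (iv0 F512045)) (tt N118705 F512040) (tt N95673 F512041) (tt N114766 F512042) (tt N121244 (iv5 F525335)) (tt N95038 (iv6 D222042)) (tt N114504 F512043))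
theorem Q118785 : ∀ i, i < 118785 → P i := stepQ 118784 Q118784 (allL N118784 (tt N118204 F512051) (tt N114912 F512052) (tt N96462 F512046) (tt N96952 F512047) (tt N118749 F512048) (tt N95044 (iv5 D222043)) (tt N115020 F512049) (tt N96024 F512050))
theorem Q118786 : ∀ i, i < 118786 → P i := stepQ 118785 Q118785 (allL N118785 (tt N102153 F512058) (tt N102150 (iv0 F512059)) (tt N102243 F512053) (tt N118697 F512054) (tt N101977 F512055) (tt N101888 F512056) (tt N95045 (iv6 D222044)) (tt N113040 F512057))
theorem Q118787 : ∀ i, i < 118787 → P i := stepQ 118786 Q118786 (allL N118786 (tt N101527 F512065) (tt N95281 (iv0 F512066)) (tt N95061 F512060) (tt N101520 F512061) (tt N102335 F512062) (tt N110897 F512063) (tt N95048 (iv6 D222045)) (tt N116994 F512064))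
theorem Q118788 : ∀ i, i < 118788 → P i := stepQ 118787 Q118787 (allL N118787 (tt N95223 F512071) (tt N95203 F512072) (tt N95155 F512067) (tt N119567 F516299) (tt N95053 (iv4 D222046)) (tt N102085 F512068) (tt N96530 F512069) (tt N95225 F512070))
theorem Q118789 : ∀ i, i < 118789 → P i := stepQ 118788 Q118788 (allL N118788 (tt N110110 F512078) (tt N110112 F512079) (tt N110109 F512073) (tt N118598 F512074) (tt N95071 (iv4 D222047)) (tt N118594 F512075) (tt N112825 F512076) (tt N110108 F512077))
theorem Q118790 : ∀ i, i < 118790 → P i := stepQ 118789 Q118789 (allL N118789 (tt N121244 F525338) (tt N103071 (iv0 F512082)) (tt N121408 (iv2 F526196)) (tt N95072 (iv3 D222048)) (tt N119087 (iv4 F513720)) (tt N115106 F512080) (tt N115996 F512081) (tt N121407 F526189))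
theorem Q118791 : ∀ i, i < 118791 → P i := stepQ 118790 Q118790 (allL N118790 (tt N112081 F512087) (tt N118317 F512088) (tt N118319 F512083) (tt N111931 F512084) (tt N116005 F512086) (tt N95073 (iv5 D222049)) (tt N118288 F512085) (tt N118320 (iv7 F512089)))
theorem Q118792 : ∀ i, i < 118792 → P i := stepQ 118791 Q118791 (allL N118791 (tt N110658 (iv1 F512095)) (tt N110655 F512096) (tt N110656 F512090) (tt N113270 F512091) (tt N95074 F512092) (tt N118320 F512093) (tt N113271 F512094) (tt N95073 (iv7 D222050)))
theorem Q118793 : ∀ i, i < 118793 → P i := stepQ 118792 Q118792 (allL N118792 (tt N112087 (iv1 F512102)) (tt N95077 (iv0 D222051)) (tt N112086 (iv2 F512101)) (tt N118344 F512099) (tt N118279 F512098) (tt N108179 F512097) (tt N99118 F512100) (tt N108178 F512103))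
theorem Q118794 : ∀ i, i < 118794 → P i := stepQ 118793 Q118793 (allL N118793 (tt N101525 F512108) (tt N100911 F512109) (tt N95081 F512104) (tt N112649 F512105) (tt N118904 (iv4 F512670)) (tt N110894 F512106) (tt N95079 (iv6 D222052)) (tt N101524 F512107))
theorem Q118795 : ∀ i, i < 118795 → P i := stepQ 118794 Q118794 (allL N118794 (tt N109588 F512115) (tt N107930 F512116) (tt N112183 F512110) (tt N95083 F512111) (tt N107101 F512112) (tt N110895 F512113) (tt N95080 (iv6 D222053)) (tt N112182 F512114))
theorem Q118796 : ∀ i, i < 118796 → P i := stepQ 118795 Q118795 (allL N118795 (tt N118298 F512120) (tt N102307 (iv0 F512121)) (tt N118295 F512117) (tt N120723 (iv3 F522356)) (tt N95086 F512118) (tt N122245 (iv5 F530984)) (tt N95085 (iv6 D222054)) (tt N118296 F512119))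
theorem Q118797 : ∀ i, i < 118797 → P i := stepQ 118796 Q118796 (allL N118796 (tt N119046 (iv1 F513472)) (tt N95086 (iv0 D222055)) (tt N119047 (iv2 F513478)) (tt N121328 (iv3 F525789)) (tt N118849 (iv4 F512403)) (tt N101484 F512122) (tt N121676 (iv6 F527678)) (tt N118353 (iv7 F512123)))
theorem Q118798 : ∀ i, i < 118798 → P i := stepQ 118797 Q118797 (allL N118797 (tt N95094 (iv1 D222056)) (tt N107721 F512124) (tt N103177 F512128) (tt N121821 (iv3 F528515)) (tt N121972 (iv4 F529385)) (tt N118152 F512126) (tt N103176 (iv6 F512127)) (tt N107866 F512125))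
theorem Q118799 : ∀ i, i < 118799 → P i := stepQ 118798 Q118798 (allL N118798 (tt N104541 F512134) (tt N104542 F512135) (tt N106136 F512129) (tt N102504 F512130) (tt N95108 (iv4 D222057)) (tt N102598 F512131) (tt N102600 F512132) (tt N102500 F512133))
theorem Q118800 : ∀ i, i < 118800 → P i := stepQ 118799 Q118799 (allL N118799 (tt N95127 (iv1 F512139)) (tt N95116 (iv0 D222058)) (tt N100833 (iv2 F512138)) (tt N112020 (iv3 F512141)) (tt N122671 D225930) (tt N111539 F512136) (tt N118657 F512137) (tt N112017 F512140))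
theorem Q118801 : ∀ i, i < 118801 → P i := stepQ 118800 Q118800 (allL N118800 (tt N122671 (iv1 F533519)) (tt N112018 (iv0 F512144)) (tt N106414 F512142) (tt N120771 (iv3 F522627)) (tt N112418 F512143) (tt N120703 (iv5 F522240)) (tt N95118 (iv6 D222059)) (tt N122606 (iv7 F533134)))
theorem Q118802 : ∀ i, i < 118802 → P i := stepQ 118801 Q118801 (allL N118801 (tt N107219 (iv1 F512149)) (tt N95126 (iv0 D222060)) (tt N112023 (iv2 F512148)) (tt N118655 F512151) (tt N112019 F512146) (tt N105028 F512145) (tt N112019 F512147) (tt N100834 F512150))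
theorem Q118803 : ∀ i, i < 118803 → P i := stepQ 118802 Q118802 (allL N118802 (tt N116152 F512155) (tt N121000 (iv0 F523948)) (tt N121012 (iv2 F524006)) (tt N115332 F512152) (tt N95127 (iv4 D222061)) (tt N121713 (iv5 F527907)) (tt N118701 F512153) (tt N118748 F512154))
theorem Q118804 : ∀ i, i < 118804 → P i := stepQ 118803 Q118803 (allL N118803 (tt N122288 F531207) (tt N119568 F516306) (tt N121774 (iv2 F528239)) (tt N114828 F512156) (tt N95132 (iv4 D222062)) (tt N121204 (iv5 F525119)) (tt N114375 F512157) (tt N122325 (iv7 F531433)))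
theorem Q118805 : ∀ i, i < 118805 → P i := stepQ 118804 Q118804 (allL N118804 (tt N95194 F512163) (tt N117026 (iv0 F512164)) (tt N116975 F512158) (tt N95134 (iv3 D222063)) (tt N118439 F512159) (tt N116952 F512160) (tt N107568 F512161) (tt N95277 F512162))
theorem Q118806 : ∀ i, i < 118806 → P i := stepQ 118805 Q118805 (allL N118805 (tt N114391 F512168) (tt N122452 (iv0 F532199)) (tt N122162 (iv2 F530511)) (tt N95137 F512165) (tt N103564 F512166) (tt N117253 F512167) (tt N95136 (iv6 D222064)) (tt N119202 (iv7 F514337)))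
theorem Q118807 : ∀ i, i < 118807 → P i := stepQ 118806 Q118806 (allL N118806 (tt N96756 F512174) (tt N96759 (iv0 F512175)) (tt N96758 F512169) (tt N111772 F512170) (tt N114781 F512171) (tt N115368 F512172) (tt N95141 (iv6 D222065)) (tt N96757 F512173))
theorem Q118808 : ∀ i, i < 118808 → P i := stepQ 118807 Q118807 (allL N118807 (tt N112305 F512179) (tt N121821 (iv0 F528519)) (tt N119083 (iv2 F513697)) (tt N112300 F512176) (tt N118160 F512177) (tt N121763 (iv5 F528167)) (tt N95159 (iv6 D222066)) (tt N116616 F512178))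
theorem Q118809 : ∀ i, i < 118809 → P i := stepQ 118808 Q118808 (allL N118808 (tt N122107 (iv1 F530212)) (tt N119197 (iv0 F514315)) (tt N119127 (iv2 F513930)) (tt N111387 F512180) (tt N118844 (iv4 F512380)) (tt N95160 (iv5 D222067)) (tt N121763 F528169) (tt N115895 F512181))
theorem Q118810 : ∀ i, i < 118810 → P i := stepQ 118809 Q118809 (allL N118809 (tt N107497 F512184) (tt N121491 (iv0 F526666)) (tt N122095 (iv2 F530128)) (tt N95173 (iv3 D222068)) (tt N116389 F512182) (tt N121616 (iv5 F527349)) (tt N122614 (iv6 F533180)) (tt N117842 F512183))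
theorem Q118811 : ∀ i, i < 118811 → P i := stepQ 118810 Q118810 (allL N118810 (tt N117026 F512189) (tt N95194 (iv0 F512190)) (tt N95277 F512185) (tt N117675 F512186) (tt N103272 F512187) (tt N116976 F512188) (tt N95181 (iv6 D222069)) (tt N116975 F512191))
theorem Q118812 : ∀ i, i < 118812 → P i := stepQ 118811 Q118811 (allL N118811 (tt N121657 F527585) (tt N113077 (iv0 F512197)) (tt N112418 F512192) (tt N95187 F512193) (tt N106414 F512194) (tt N111114 F512196) (tt N95185 (iv6 D222070)) (tt N107806 F512195))
theorem Q118813 : ∀ i, i < 118813 → P i := stepQ 118812 Q118812 (allL N118812 (tt N109046 F512202) (tt N107304 (iv0 F512203)) (tt N107433 F512198) (tt N95189 (iv3 D222071)) (tt N107366 F512199) (tt N117868 F512200) (tt N107816 F512201) (tt N119022 (iv7 F513332)))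
theorem Q118814 : ∀ i, i < 118814 → P i := stepQ 118813 Q118813 (allL N118813 (tt N96538 F512209) (tt N96537 (iv0 F512210)) (tt N96328 F512204) (tt N113086 F512205) (tt N96327 F512206) (tt N106939 F512207) (tt N95193 (iv6 D222072)) (tt N96530 F512208))
theorem Q118815 : ∀ i, i < 118815 → P i := stepQ 118814 Q118814 (allL N118814 (tt N116975 (iv1 F512216)) (tt N95277 F512217) (tt N117026 F512211) (tt N112311 F512212) (tt N116222 F512213) (tt N107753 F512214) (tt N101131 F512215) (tt N95194 (iv7 D222073)))
theorem Q118816 : ∀ i, i < 118816 → P i := stepQ 118815 Q118815 (allL N118815 (tt N110847 (iv1 F512224)) (tt N110844 (iv0 F512223)) (tt N110845 F512218) (tt N112828 F512219) (tt N117554 F512220) (tt N115680 F512221) (tt N95197 (iv6 D222074)) (tt N110846 F512222))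
theorem Q118817 : ∀ i, i < 118817 → P i := stepQ 118816 Q118816 (allL N118816 (tt N111425 F512230) (tt N111422 (iv0 F512231)) (tt N96168 F512225) (tt N95214 (iv3 D222075)) (tt N100708 F512226) (tt N96155 F512227) (tt N116146 F512228) (tt N96165 F512229))
theorem Q118818 : ∀ i, i < 118818 → P i := stepQ 118817 Q118817 (allL N118817 (tt N101612 (iv1 F512236)) (tt N95221 (iv0 D222076)) (tt N101641 (iv2 F512235)) (tt N101608 F512234) (tt N101122 F512233) (tt N101609 F512232) (tt N119293 (iv6 F514875)) (tt N101638 F512237))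
theorem Q118819 : ∀ i, i < 118819 → P i := stepQ 118818 Q118818 (allL N118818 (tt N100566 (iv1 F512242)) (tt N99534 F512243) (tt N100620 F512238) (tt N121184 F525005) (tt N95231 F512239) (tt N118643 F512240) (tt N105546 F512241) (tt N95230 (iv7 D222077)))
theorem Q118820 : ∀ i, i < 118820 → P i := stepQ 118819 Q118819 (allL N118819 (tt N98557 F512248) (tt N114563 (iv0 F512249)) (tt N95237 F512244) (tt N119213 (iv3 F514395)) (tt N113906 F512245) (tt N113900 F512246) (tt N95236 (iv6 D222078)) (tt N114546 F512247))
theorem Q118821 : ∀ i, i < 118821 → P i := stepQ 118820 Q118820 (allL N118820 (tt N114546 (iv1 F512253)) (tt N95237 (iv0 D222079)) (tt N98557 (iv2 F512252)) (tt N120403 F520601) (tt N98554 F512251) (tt N115553 F512250) (tt N120398 (iv6 F520576)) (tt N114563 F512254))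
theorem Q118822 : ∀ i, i < 118822 → P i := stepQ 118821 Q118821 (allL N118821 (tt N118626 F512258) (tt N119985 (iv0 F518395)) (tt N120917 (iv2 F523460)) (tt N95238 (iv3 D222080)) (tt N103653 F512255) (tt N101365 F512256) (tt N120258 (iv6 F519860)) (tt N101364 F512257))
theorem Q118823 : ∀ i, i < 118823 → P i := stepQ 118822 Q118822 (allL N118822 (tt N116783 F512263) (tt N107700 F512264) (tt N98219 F512259) (tt N107801 F512265) (tt N95243 (iv4 D222081)) (tt N102686 F512262) (tt N118328 F512260) (tt N105623 F512261))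
theorem Q118824 : ∀ i, i < 118824 → P i := stepQ 118823 Q118823 (allL N118823 (tt N122558 (iv1 F532836)) (tt N114559 F512269) (tt N95250 F512266) (tt N117014 F512267) (tt N122477 (iv4 F532356)) (tt N95247 (iv5 D222082)) (tt N122107 (iv6 F530209)) (tt N117012 F512268))
theorem Q118825 : ∀ i, i < 118825 → P i := stepQ 118824 Q118824 (allL N118824 (tt N121638 F527478) (tt N112200 (iv0 F512272)) (tt N121069 (iv2 F524346)) (tt N115611 F512270) (tt N117197 F512271) (tt N95248 (iv5 D222083)) (tt N121762 (iv6 F528161)) (tt N120503 F521133))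
theorem Q118826 : ∀ i, i < 118826 → P i := stepQ 118825 Q118825 (allL N118825 (tt N118921 (iv1 F512758)) (tt N118923 (iv0 F512770)) (tt N106256 F512273) (tt N95249 (iv3 D222084)) (tt N105952 F512274) (tt N118861 (iv5 F512451)) (tt N111041 F512275) (tt N106261 F512276))
theorem Q118827 : ∀ i, i < 118827 → P i := stepQ 118826 Q118826 (allL N118826 (tt N117012 (iv1 F512279)) (tt N95250 (iv0 D222085)) (tt N122558 (iv2 F532842)) (tt N121820 F528512) (tt N117198 F512278) (tt N108096 F512277) (tt N122148 (iv6 F530438)) (tt N114559 F512280))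
theorem Q118828 : ∀ i, i < 118828 → P i := stepQ 118827 Q118827 (allL N118827 (tt N117202 F512284) (tt N119517 F516023) (tt N108195 F512281) (tt N95252 (iv3 D222086)) (tt N119419 (iv4 F515519)) (tt N108103 F512282) (tt N119200 (iv6 F514325)) (tt N108173 F512283))
theorem Q118829 : ∀ i, i < 118829 → P i := stepQ 118828 Q118828 (allL N118828 (tt N105631 (iv1 F512288)) (tt N95260 (iv0 D222087)) (tt N115106 (iv2 F512287)) (tt N119057 (iv3 F513544)) (tt N105629 F512285) (tt N121408 (iv5 F526192)) (tt N106274 F512286) (tt N114728 F512289))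
theorem Q118830 : ∀ i, i < 118830 → P i := stepQ 118829 Q118829 (allL N118829 (tt N95276 (iv1 D222088)) (tt N97120 F512290) (tt N117535 F512295) (tt N107504 (iv3 F512294)) (tt N104868 F512293) (tt N112130 F512292) (tt N108967 F512296) (tt N117497 F512291))
theorem Q118831 : ∀ i, i < 118831 → P i := stepQ 118830 Q118830 (allL N118830 (tt N110549 F512302) (tt N106949 F512303) (tt N116976 F512297) (tt N95280 F512298) (tt N116953 F512299) (tt N95277 (iv5 D222089)) (tt N116981 F512300) (tt N116952 F512301))
theorem Q118832 : ∀ i, i < 118832 → P i := stepQ 118831 Q118831 (allL N118831 (tt N98829 F512309) (tt N98828 (iv0 F512310)) (tt N97029 F512304) (tt N99220 F512305) (tt N95279 F512306) (tt N116832 F512307) (tt N95278 (iv6 D222090)) (tt N97026 F512308))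
theorem Q118833 : ∀ i, i < 118833 → P i := stepQ 118832 Q118832 (allL N118832 (tt N118978 (iv1 F513090)) (tt N118979 (iv0 F513093)) (tt N112853 F512311) (tt N119005 (iv3 F513236)) (tt N95294 (iv4 D222091)) (tt N97243 F512314) (tt N111139 F512312) (tt N116056 F512313))
theorem Q118834 : ∀ i, i < 118834 → P i := stepQ 118833 Q118833 (allL N118833 (tt N118979 (iv1 F513094)) (tt N118978 (iv0 F513089)) (tt N116056 F512315) (tt N116072 F512316) (tt N95296 (iv4 D222092)) (tt N97244 F512317) (tt N114240 F512318) (tt N112853 F512319))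
theorem Q118835 : ∀ i, i < 118835 → P i := stepQ 118834 Q118834 (allL N118834 (tt N122456 F532227) (tt N117921 (iv0 F512323)) (tt N119258 (iv2 F514669)) (tt N95305 (iv3 D222093)) (tt N107527 F512322) (tt N108557 (iv5 F512324)) (tt N112286 F512320) (tt N95403 F512321))
theorem Q118836 : ∀ i, i < 118836 → P i := stepQ 118835 Q118835 (allL N118835 (tt N115952 F512330) (tt N122491 (iv0 F532452)) (tt N95401 F512326) (tt N108557 F512327) (tt N118957 (iv4 F512967)) (tt N95305 (iv5 D222094)) (tt N115603 F512328) (tt N95405 F512329))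
theorem Q118837 : ∀ i, i < 118837 → P i := stepQ 118836 Q118836 (allL N118836 (tt N122491 F532453) (tt N115952 F512335) (tt N95405 F512331) (tt N108754 F512332) (tt N115583 (iv4 F512336)) (tt N95306 (iv5 D222095)) (tt N108741 F512333) (tt N95401 F512334))
theorem Q118838 : ∀ i, i < 118838 → P i := stepQ 118837 Q118837 (allL N118837 (tt N95410 (iv1 F512339)) (tt N95307 (iv0 D222096)) (tt N95407 (iv2 F512340)) (tt N120699 (iv3 F522221)) (tt N120712 (iv4 F522286)) (tt N116541 F512337) (tt N95643 F512338) (tt N95408 (iv7 F512341)))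
theorem Q118839 : ∀ i, i < 118839 → P i := stepQ 118838 Q118838 (allL N118838 (tt N95307 (iv1 D222097)) (tt N95410 F512342) (tt N95408 F512345) (tt N120053 (iv3 F518786)) (tt N95424 (iv4 F512347)) (tt N96928 (iv5 F512344)) (tt N95423 F512346) (tt N95407 F512343))
theorem Q118840 : ∀ i, i < 118840 → P i := stepQ 118839 Q118839 (allL N118839 (tt N114144 (iv1 F512353)) (tt N114219 F512352) (tt N95409 F512348) (tt N122146 F530426) (tt N95307 (iv4 D222098)) (tt N115870 F512351) (tt N95312 F512349) (tt N115586 F512350))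
theorem Q118841 : ∀ i, i < 118841 → P i := stepQ 118840 Q118840 (allL N118840 (tt N114843 (iv1 F512359)) (tt N114844 (iv0 F512358)) (tt N120996 (iv2 F523922)) (tt N95310 (iv3 D222099)) (tt N103638 F512356) (tt N95620 F512354) (tt N103640 (iv6 F512357)) (tt N95425 F512355))
theorem Q118842 : ∀ i, i < 118842 → P i := stepQ 118841 Q118841 (allL N118841 (tt N108739 F512364) (tt N117798 F512365) (tt N95423 F512360) (tt N115970 F512361) (tt N95310 (iv4 D222100)) (tt N105784 F512363) (tt N95408 (iv6 F512366)) (tt N95426 F512362))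
theorem Q118843 : ∀ i, i < 118843 → P i := stepQ 118842 Q118842 (allL N118842 (tt N111898 (iv1 F512372)) (tt N115633 (iv0 F512371)) (tt N95424 F512367) (tt N103640 F512368) (tt N95408 F512369) (tt N95495 F512370) (tt N95310 (iv6 D222101)) (tt N120712 (iv7 F522289)))
theorem Q118844 : ∀ i, i < 118844 → P i := stepQ 118843 Q118843 (allL N118843 (tt N117798 F512378) (tt N108739 F512379) (tt N95426 F512373) (tt N111408 F512374) (tt N95311 (iv4 D222102)) (tt N104860 F512375) (tt N95642 F512376) (tt N95423 F512377))
theorem Q118845 : ∀ i, i < 118845 → P i := stepQ 118844 Q118844 (allL N118844 (tt N119364 (iv1 F515234)) (tt N120350 (iv0 F520324)) (tt N122027 (iv2 F529719)) (tt N95312 (iv3 D222103)) (tt N118808 F512380) (tt N114851 F512381) (tt N122146 F530427) (tt N121178 (iv7 F524965)))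
theorem Q118846 : ∀ i, i < 118846 → P i := stepQ 118845 Q118845 (allL N118845 (tt N116608 F512387) (tt N108054 (iv0 F512388)) (tt N95318 F512382) (tt N117869 F512383) (tt N107231 F512384) (tt N101183 F512385) (tt N95316 (iv6 D222104)) (tt N108270 F512386))
theorem Q118847 : ∀ i, i < 118847 → P i := stepQ 118846 Q118846 (allL N118846 (tt N118521 F512391) (tt N106964 (iv0 F512392)) (tt N112805 F512389) (tt N95319 F512390) (tt N119904 (iv4 F517952)) (tt N121963 (iv5 F529331)) (tt N95317 (iv6 D222105)) (tt N119906 (iv7 F517967)))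
theorem Q118848 : ∀ i, i < 118848 → P i := stepQ 118847 Q118847 (allL N118847 (tt N95318 (iv1 D222106)) (tt N108270 F512393) (tt N108054 F512398) (tt N118479 (iv3 F512396)) (tt N118881 (iv4 F512557)) (tt N110823 F512395) (tt N111605 (iv6 F512397)) (tt N116608 F512394))
theorem Q118849 : ∀ i, i < 118849 → P i := stepQ 118848 Q118848 (allL N118848 (tt N121554 F527017) (tt N117898 (iv0 F512401)) (tt N121031 (iv2 F524114)) (tt N95323 F512399) (tt N102752 F512400) (tt N121083 (iv5 F524433)) (tt N95322 (iv6 D222107)) (tt N121562 (iv7 F527051)))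
theorem Q118850 : ∀ i, i < 118850 → P i := stepQ 118849 Q118849 (allL N118849 (tt N117884 (iv1 F512405)) (tt N97107 F512406) (tt N118278 F512402) (tt N121562 F527053) (tt N118796 F512403) (tt N122656 (iv5 F533428)) (tt N108714 F512404) (tt N95323 (iv7 D222108)))
theorem Q118851 : ∀ i, i < 118851 → P i := stepQ 118850 Q118850 (allL N118850 (tt N95325 (iv1 D222109)) (tt N95329 F512407) (tt N95327 F512412) (tt N100105 (iv3 F512410)) (tt N112775 F512409) (tt N121310 (iv5 F525687)) (tt N118680 (iv6 F512411)) (tt N95326 F512408))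
theorem Q118852 : ∀ i, i < 118852 → P i := stepQ 118851 Q118851 (allL N118851 (tt N121896 (iv1 F528959)) (tt N121904 F528983) (tt N95328 F512413) (tt N119722 (iv3 F517098)) (tt N122672 D225931) (tt N95325 (iv5 D222110)) (tt N121904 (iv6 F528982)) (tt N110207 F512414))
theorem Q118853 : ∀ i, i < 118853 → P i := stepQ 118852 Q118852 (allL N118852 (tt N100043 F512419) (tt N100106 (iv0 F512420)) (tt N100104 F512415) (tt N95326 (iv3 D222111)) (tt N106639 F512416) (tt N121810 (iv5 F528453)) (tt N116473 F512417) (tt N100105 F512418))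
theorem Q118854 : ∀ i, i < 118854 → P i := stepQ 118853 Q118853 (allL N118853 (tt N121309 (iv1 F525686)) (tt N108770 F512421) (tt N121311 F525696) (tt N121810 F528457) (tt N122673 D225932) (tt N95326 (iv5 D222112)) (tt N122654 (iv6 F533417)) (tt N121310 F525691))
theorem Q118855 : ∀ i, i < 118855 → P i := stepQ 118854 Q118854 (allL N118854 (tt N108770 F512423) (tt N121309 (iv0 F525685)) (tt N121310 F525689) (tt N117455 F512422) (tt N122674 D225933) (tt N95327 (iv5 D222113)) (tt N121617 (iv6 F527357)) (tt N121311 (iv7 F525692)))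
theorem Q118856 : ∀ i, i < 118856 → P i := stepQ 118855 Q118855 (allL N118855 (tt N122226 (iv1 F530885)) (tt N122228 (iv0 F530889)) (tt N122672 (iv2 F533521)) (tt N121897 (iv3 F528960)) (tt N95328 (iv4 D222114)) (tt N120951 (iv5 F523660)) (tt N122225 (iv6 F530879)) (tt N122675 D225934))
theorem Q118857 : ∀ i, i < 118857 → P i := stepQ 118856 Q118856 (allL N118856 (tt N121904 (iv1 F528984)) (tt N121896 (iv0 F528958)) (tt N110207 F512424) (tt N95332 F512425) (tt N122675 (iv4 F533534)) (tt N95329 F512426) (tt N120613 (iv6 F521758)) (tt N95328 (iv7 D222115)))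
theorem Q118858 : ∀ i, i < 118858 → P i := stepQ 118857 Q118857 (allL N118857 (tt N95352 (iv1 D222116)) (tt N107797 F512427) (tt N117127 F512431) (tt N116457 (iv3 F512429)) (tt N118340 (iv4 F512433)) (tt N116023 F512432) (tt N116467 (iv6 F512430)) (tt N117116 F512428))
theorem Q118859 : ∀ i, i < 118859 → P i := stepQ 118858 Q118858 (allL N118858 (tt N121468 (iv1 F526546)) (tt N115647 F512437) (tt N121704 (iv2 F527852)) (tt N95355 F512434) (tt N120032 (iv4 F518664)) (tt N95352 (iv5 D222117)) (tt N95353 F512435) (tt N117128 F512436))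
theorem Q118860 : ∀ i, i < 118860 → P i := stepQ 118859 Q118859 (allL N118859 (tt N118732 F512442) (tt N122474 (iv0 F532339)) (tt N108177 F512438) (tt N117545 F512441) (tt N95355 (iv4 D222118)) (tt N117544 F512440) (tt N95358 F512439) (tt N121677 (iv7 F527686)))
theorem Q118861 : ∀ i, i < 118861 → P i := stepQ 118860 Q118860 (allL N118860 (tt N112258 F512447) (tt N112261 F512448) (tt N106533 F512443) (tt N122558 F532840) (tt N95356 (iv4 D222119)) (tt N106003 F512444) (tt N113877 F512445) (tt N97836 F512446))
theorem Q118862 : ∀ i, i < 118862 → P i := stepQ 118861 Q118861 (allL N118861 (tt N96829 F512452) (tt N106310 F512453) (tt N118874 (iv2 F512521)) (tt N108615 F512449) (tt N95357 (iv4 D222120)) (tt N118825 F512451) (tt N111431 F512450) (tt N118873 (iv7 F512514)))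
theorem Q118863 : ∀ i, i < 118863 → P i := stepQ 118862 Q118862 (allL N118862 (tt N95362 (iv1 F512457)) (tt N95360 (iv0 D222121)) (tt N115437 (iv2 F512456)) (tt N102085 F512455) (tt N109386 F512454) (tt N119567 (iv5 F516297)) (tt N112532 F512459) (tt N118696 F512458))
theorem Q118864 : ∀ i, i < 118864 → P i := stepQ 118863 Q118863 (allL N118863 (tt N118684 F512465) (tt N118683 F512466) (tt N105635 F512460) (tt N118692 F512461) (tt N99887 F512462) (tt N95360 (iv5 D222122)) (tt N101845 F512463) (tt N99886 F512464))
theorem Q118865 : ∀ i, i < 118865 → P i := stepQ 118864 Q118864 (allL N118864 (tt N95422 F512472) (tt N112262 (iv0 F512473)) (tt N111634 F512467) (tt N112272 F512468) (tt N96581 F512471) (tt N95363 (iv5 D222123)) (tt N108223 F512469) (tt N115534 F512470))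
theorem Q118866 : ∀ i, i < 118866 → P i := stepQ 118865 Q118865 (allL N118865 (tt N117324 (iv1 F512478)) (tt N117322 F512477) (tt N95367 F512474) (tt N119247 (iv3 F514605)) (tt N111605 F512475) (tt N95364 (iv5 D222124)) (tt N118881 (iv6 F512559)) (tt N117323 F512476))
theorem Q118867 : ∀ i, i < 118867 → P i := stepQ 118866 Q118866 (allL N118866 (tt N101961 F512484) (tt N101960 (iv0 F512485)) (tt N101962 F512479) (tt N100723 F512480) (tt N101936 F512481) (tt N118094 F512482) (tt N95366 (iv6 D222125)) (tt N101957 F512483))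
theorem Q118868 : ∀ i, i < 118868 → P i := stepQ 118867 Q118867 (allL N118867 (tt N117323 (iv1 F512488)) (tt N95367 (iv0 D222126)) (tt N117324 (iv2 F512487)) (tt N111500 (iv3 F512490)) (tt N121611 (iv4 F527325)) (tt N96879 F512486) (tt N117508 F512491) (tt N117322 F512489))
theorem Q118869 : ∀ i, i < 118869 → P i := stepQ 118868 Q118868 (allL N118868 (tt N119258 F514673) (tt N95403 (iv0 F512494)) (tt N117921 F512492) (tt N121697 (iv3 F527806)) (tt N99582 F512493) (tt N121715 (iv5 F527919)) (tt N95376 (iv6 D222127)) (tt N122456 (iv7 F532225)))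
theorem Q118870 : ∀ i, i < 118870 → P i := stepQ 118869 Q118869 (allL N118869 (tt N112653 F512498) (tt N112652 F512499) (tt N95385 F512495) (tt N119245 (iv3 F514594)) (tt N117679 F512496) (tt N95381 (iv5 D222128)) (tt N120039 (iv6 F518703)) (tt N112659 F512497))
theorem Q118871 : ∀ i, i < 118871 → P i := stepQ 118870 Q118870 (allL N118870 (tt N122665 (iv1 F533482)) (tt N119321 (iv0 F515006)) (tt N120039 (iv2 F518701)) (tt N95388 F512500) (tt N122358 (iv4 F531620)) (tt N95384 (iv5 D222129)) (tt N95385 F512501) (tt N120038 (iv7 F518698)))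
theorem Q118872 : ∀ i, i < 118872 → P i := stepQ 118871 Q118871 (allL N118871 (tt N118938 (iv1 F512854)) (tt N95388 (iv0 D222130)) (tt N118936 F512841) (tt N116854 (iv3 F512505)) (tt N118732 F512502) (tt N117155 F512504) (tt N118731 F512503) (tt N117154 (iv7 F512506)))
theorem Q118873 : ∀ i, i < 118873 → P i := stepQ 118872 Q118872 (allL N118872 (tt N117154 (iv1 F512508)) (tt N118936 F512843) (tt N118938 (iv2 F512849)) (tt N120038 (iv3 F518696)) (tt N120742 (iv4 F522464)) (tt N95389 F512507) (tt N120054 F518796) (tt N95388 (iv7 D222131)))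
theorem Q118874 : ∀ i, i < 118874 → P i := stepQ 118873 Q118873 (allL N118873 (tt N95486 (iv1 F512511)) (tt N95391 (iv0 D222132)) (tt N115995 F512513) (tt N121069 (iv3 F524347)) (tt N96815 F512510) (tt N106261 F512509) (tt N115977 (iv6 F512512)) (tt N118861 F512514))
theorem Q118875 : ∀ i, i < 118875 → P i := stepQ 118874 Q118874 (allL N118874 (tt N95391 (iv1 D222133)) (tt N95486 F512515) (tt N118861 F512521) (tt N115608 (iv3 F512519)) (tt N96816 F512518) (tt N106256 F512517) (tt N101898 (iv6 F512520)) (tt N115995 F512516))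
theorem Q118876 : ∀ i, i < 118876 → P i := stepQ 118875 Q118875 (allL N118875 (tt N95405 (iv1 F512525)) (tt N95401 (iv0 D222134)) (tt N115952 (iv2 F512526)) (tt N115612 F512523) (tt N114108 F512522) (tt N117183 F512524) (tt N115610 (iv6 F512527)) (tt N122491 (iv7 F532451)))
theorem Q118877 : ∀ i, i < 118877 → P i := stepQ 118876 Q118876 (allL N118876 (tt N95401 (iv1 D222135)) (tt N95405 F512529) (tt N122491 (iv2 F532447)) (tt N114155 (iv3 F512533)) (tt N114107 F512532) (tt N116465 F512531) (tt N115454 (iv6 F512534)) (tt N115952 F512530))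
theorem Q118878 : ∀ i, i < 118878 → P i := stepQ 118877 Q118877 (allL N118877 (tt N115610 (iv1 F512537)) (tt N120044 (iv0 F518728)) (tt N118957 (iv2 F512966)) (tt N118915 (iv3 F512725)) (tt N95401 (iv4 D222136)) (tt N118915 (iv5 F512726)) (tt N115570 F512535) (tt N115583 F512536))
theorem Q118879 : ∀ i, i < 118879 → P i := stepQ 118878 Q118878 (allL N118878 (tt N117921 F512542) (tt N122456 (iv0 F532226)) (tt N95403 (iv2 D222137)) (tt N100504 F512538) (tt N99279 F512539) (tt N108558 F512541) (tt N97246 F512540) (tt N119258 (iv7 F514671)))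
theorem Q118880 : ∀ i, i < 118880 → P i := stepQ 118879 Q118879 (allL N118879 (tt N108545 F512546) (tt N108560 (iv0 F512547)) (tt N108558 F512543) (tt N95405 F512544) (tt N121027 (iv4 F524093)) (tt N95403 (iv5 D222138)) (tt N122496 (iv6 F532484)) (tt N108557 F512545))
theorem Q118881 : ∀ i, i < 118881 → P i := stepQ 118880 Q118880 (allL N118880 (tt N100124 F512553) (tt N100345 F512554) (tt N100349 F512548) (tt N108652 F512549) (tt N112476 F512550) (tt N95406 (iv5 D222139)) (tt N99726 F512551) (tt N100348 F512552))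
theorem Q118882 : ∀ i, i < 118882 → P i := stepQ 118881 Q118881 (allL N118881 (tt N106866 (iv1 F512560)) (tt N99571 F512561) (tt N108250 F512555) (tt N97245 F512556) (tt N118847 F512557) (tt N100348 F512558) (tt N118865 F512559) (tt N95406 (iv7 D222140)))
theorem Q118883 : ∀ i, i < 118883 → P i := stepQ 118882 Q118882 (allL N118882 (tt N115633 F512564) (tt N111898 F512565) (tt N120712 (iv2 F522285)) (tt N112259 (iv3 F512566)) (tt N95407 (iv4 D222141)) (tt N118895 (iv5 F512621)) (tt N112257 F512562) (tt N95424 F512563))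
theorem Q118884 : ∀ i, i < 118884 → P i := stepQ 118883 Q118883 (allL N118883 (tt N115586 (iv1 F512573)) (tt N95409 (iv0 D222142)) (tt N114144 (iv2 F512571)) (tt N117614 F512569) (tt N114180 F512568) (tt N117034 F512567) (tt N114142 F512570) (tt N114219 F512572))
theorem Q118885 : ∀ i, i < 118885 → P i := stepQ 118884 Q118884 (allL N118884 (tt N114219 (iv1 F512579)) (tt N114144 F512580) (tt N115586 F512574) (tt N114181 F512575) (tt N95410 F512576) (tt N115871 F512577) (tt N107240 F512578) (tt N95409 (iv7 D222143)))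
theorem Q118886 : ∀ i, i < 118886 → P i := stepQ 118885 Q118885 (allL N118885 (tt N118951 F512938) (tt N111497 F512584) (tt N95412 F512581) (tt N118962 (iv3 F512995)) (tt N111436 F512582) (tt N95411 (iv5 D222144)) (tt N111435 F512583) (tt N118959 (iv7 F512977)))
theorem Q118887 : ∀ i, i < 118887 → P i := stepQ 118886 Q118886 (allL N118886 (tt N118958 (iv1 F512974)) (tt N118952 (iv0 F512943)) (tt N95416 F512585) (tt N118959 (iv3 F512975)) (tt N116901 F512587) (tt N95414 (iv5 D222145)) (tt N115381 F512586) (tt N118962 (iv7 F512997)))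
theorem Q118888 : ∀ i, i < 118888 → P i := stepQ 118887 Q118887 (allL N118887 (tt N118962 (iv1 F512998)) (tt N95416 (iv0 D222146)) (tt N118958 (iv2 F512970)) (tt N118618 F512589) (tt N106405 (iv4 F512591)) (tt N107079 F512588) (tt N118617 (iv6 F512590)) (tt N118952 (iv7 F512942)))
theorem Q118889 : ∀ i, i < 118889 → P i := stepQ 118888 Q118888 (allL N118888 (tt N95416 (iv1 D222147)) (tt N118962 F512999) (tt N118952 (iv2 F512939)) (tt N111464 (iv3 F512593)) (tt N106408 F512595) (tt N96865 F512592) (tt N115503 F512594) (tt N118958 (iv7 F512972)))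
theorem Q118890 : ∀ i, i < 118890 → P i := stepQ 118889 Q118889 (allL N118889 (tt N120855 (iv1 F523106)) (tt N120755 (iv0 F522544)) (tt N116901 F512596) (tt N116371 F512598) (tt N95416 (iv4 D222148)) (tt N107084 F512597) (tt N122149 (iv6 F530442)) (tt N118963 (iv7 F513003)))
theorem Q118891 : ∀ i, i < 118891 → P i := stepQ 118890 Q118890 (allL N118890 (tt N120932 F523556) (tt N108551 (iv0 F512602)) (tt N115381 F512599) (tt N95420 F512600) (tt N122149 (iv4 F530443)) (tt N115379 F512601) (tt N95416 (iv6 D222149)) (tt N122184 (iv7 F530651)))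
theorem Q118892 : ∀ i, i < 118892 → P i := stepQ 118891 Q118891 (allL N118891 (tt N122469 F532308) (tt N121063 (iv0 F524314)) (tt N116055 F512603) (tt N95419 (iv3 D222150)) (tt N116371 F512604) (tt N114240 F512605) (tt N122184 (iv6 F530650)) (tt N116057 F512606))
theorem Q118893 : ∀ i, i < 118893 → P i := stepQ 118892 Q118892 (allL N118892 (tt N115454 (iv1 F512611)) (tt N112453 (iv0 F512610)) (tt N118961 (iv2 F512988)) (tt N122184 (iv3 F530649)) (tt N95420 F512607) (tt N115457 F512609) (tt N95419 (iv6 D222151)) (tt N95420 F512608))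
theorem Q118894 : ∀ i, i < 118894 → P i := stepQ 118893 Q118893 (allL N118893 (tt N116056 F512614) (tt N112853 F512615) (tt N118978 (iv2 F513085)) (tt N112875 F512612) (tt N95421 (iv4 D222152)) (tt N118978 (iv5 F513088)) (tt N112874 F512613) (tt N118979 (iv7 F513092)))
theorem Q118895 : ∀ i, i < 118895 → P i := stepQ 118894 Q118894 (allL N118894 (tt N115534 (iv1 F512619)) (tt N111634 F512618) (tt N95422 (iv2 D222153)) (tt N120996 (iv3 F523927)) (tt N122080 (iv4 F530039)) (tt N95647 F512616) (tt N118925 (iv6 F512777)) (tt N112262 F512617))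
theorem Q118896 : ∀ i, i < 118896 → P i := stepQ 118895 Q118895 (allL N118895 (tt N112450 (iv1 F512623)) (tt N118924 F512773) (tt N118925 (iv2 F512775)) (tt N95424 F512620) (tt N122103 (iv4 F530185)) (tt N118882 F512621) (tt N95422 (iv6 D222154)) (tt N112259 F512622))
theorem Q118897 : ∀ i, i < 118897 → P i := stepQ 118896 Q118896 (allL N118896 (tt N95426 (iv1 F512627)) (tt N95423 (iv0 D222155)) (tt N108739 (iv2 F512628)) (tt N117476 (iv3 F512629)) (tt N114104 F512625) (tt N98762 F512624) (tt N99727 F512626) (tt N117798 (iv7 F512630)))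
theorem Q118898 : ∀ i, i < 118898 → P i := stepQ 118897 Q118897 (allL N118897 (tt N95423 (iv1 D222156)) (tt N95426 F512631) (tt N117798 (iv2 F512637)) (tt N111901 F512636) (tt N96803 F512634) (tt N108740 F512633) (tt N111898 (iv6 F512635)) (tt N108739 F512632))
theorem Q118899 : ∀ i, i < 118899 → P i := stepQ 118898 Q118898 (allL N118898 (tt N120712 (iv1 F522291)) (tt N95424 (iv0 D222157)) (tt N111898 (iv2 F512641)) (tt N114088 F512643) (tt N106115 F512639) (tt N114087 F512638) (tt N117798 F512640) (tt N115633 (iv7 F512642)))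
theorem Q118900 : ∀ i, i < 118900 → P i := stepQ 118899 Q118899 (allL N118899 (tt N95424 (iv1 D222158)) (tt N120712 (iv0 F522290)) (tt N115633 F512647) (tt N111506 F512648) (tt N114103 F512645) (tt N122031 (iv5 F529748)) (tt N108745 (iv6 F512646)) (tt N111898 F512644))
theorem Q118901 : ∀ i, i < 118901 → P i := stepQ 118900 Q118900 (allL N118900 (tt N114844 (iv1 F512652)) (tt N114843 F512651) (tt N95425 (iv2 D222159)) (tt N112262 F512649) (tt N120997 (iv4 F523930)) (tt N95650 F512650) (tt N112260 F512653) (tt N120996 F523928))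
theorem Q118902 : ∀ i, i < 118902 → P i := stepQ 118901 Q118901 (allL N118901 (tt N107094 F512656) (tt N107087 F512657) (tt N120997 (iv2 F523929)) (tt N121042 (iv3 F524180)) (tt N95425 (iv4 D222160)) (tt N103639 F512655) (tt N120700 (iv6 F522226)) (tt N103638 F512654))
theorem Q118903 : ∀ i, i < 118903 → P i := stepQ 118902 Q118902 (allL N118902 (tt N111755 (iv1 F512662)) (tt N111851 (iv0 F512661)) (tt N112260 F512658) (tt N95427 F512659) (tt N120700 (iv4 F522225)) (tt N112650 F512660) (tt N95425 (iv6 D222161)) (tt N118922 (iv7 F512763)))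
theorem Q118904 : ∀ i, i < 118904 → P i := stepQ 118903 Q118903 (allL N118903 (tt N122483 (iv1 F532397)) (tt N120946 (iv0 F523629)) (tt N116050 F512663) (tt N95426 (iv3 D222162)) (tt N121042 (iv4 F524183)) (tt N113564 F512664) (tt N103006 F512665) (tt N115970 F512666))
theorem Q118905 : ∀ i, i < 118905 → P i := stepQ 118904 Q118904 (allL N118904 (tt N115423 F512672) (tt N115426 F512673) (tt N95588 F512667) (tt N112650 F512668) (tt N118793 F512670) (tt N95427 (iv5 D222163)) (tt N95535 F512669) (tt N115425 F512671))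
theorem Q118906 : ∀ i, i < 118906 → P i := stepQ 118905 Q118905 (allL N118905 (tt N115627 (iv1 F512677)) (tt N115629 F512678) (tt N112257 F512674) (tt N118922 (iv3 F512759)) (tt N95643 F512675) (tt N115425 F512676) (tt N120712 (iv6 F522288)) (tt N95427 (iv7 D222164)))
theorem Q118907 : ∀ i, i < 118907 → P i := stepQ 118906 Q118906 (allL N118906 (tt N120787 (iv1 F522716)) (tt N104414 (iv0 F512684)) (tt N116066 F512679) (tt N104421 F512680) (tt N95442 F512681) (tt N111657 F512682) (tt N95441 (iv6 D222165)) (tt N116067 F512683))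
theorem Q118908 : ∀ i, i < 118908 → P i := stepQ 118907 Q118907 (allL N118907 (tt N97740 F512689) (tt N95442 (iv0 D222166)) (tt N118420 (iv2 F512687)) (tt N117708 (iv3 F512688)) (tt N119007 (iv4 F513251)) (tt N103581 F512685) (tt N117996 F512686) (tt N119462 (iv7 F515745)))
theorem Q118909 : ∀ i, i < 118909 → P i := stepQ 118908 Q118908 (allL N118908 (tt N95442 (iv1 D222167)) (tt N97740 F512690) (tt N119462 (iv2 F515743)) (tt N113041 (iv3 F512693)) (tt N120991 (iv4 F523895)) (tt N103573 F512692) (tt N122509 F532556) (tt N118420 F512691))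
theorem Q118910 : ∀ i, i < 118910 → P i := stepQ 118909 Q118909 (allL N118909 (tt N119462 F515747) (tt N118420 (iv0 F512699)) (tt N97740 F512694) (tt N97003 F512695) (tt N116067 F512696) (tt N97738 F512697) (tt N118779 F512698) (tt N95442 (iv7 D222168)))
theorem Q118911 : ∀ i, i < 118911 → P i := stepQ 118910 Q118910 (allL N118910 (tt N110864 F512703) (tt N113291 F512704) (tt N119921 (iv2 F518049)) (tt N99998 F512700) (tt N95447 (iv4 D222169)) (tt N107010 F512702) (tt N119983 F518385) (tt N107032 F512701))
theorem Q118912 : ∀ i, i < 118912 → P i := stepQ 118911 Q118911 (allL N118911 (tt N95450 (iv1 D222170)) (tt N119015 (iv0 F513296)) (tt N111022 F512709) (tt N111719 (iv3 F512708)) (tt N112400 F512707) (tt N114300 F512706) (tt N112407 F512710) (tt N114561 F512705))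
theorem Q118913 : ∀ i, i < 118913 → P i := stepQ 118912 Q118912 (allL N118912 (tt N119426 (iv1 F515554)) (tt N96609 F512714) (tt N96385 F512711) (tt N121782 (iv3 F528280)) (tt N109455 F512712) (tt N95457 (iv5 D222171)) (tt N121129 F524669) (tt N114919 F512713))
theorem Q118914 : ∀ i, i < 118914 → P i := stepQ 118913 Q118913 (allL N118913 (tt N100528 F512720) (tt N112731 F512721) (tt N100649 F512715) (tt N113929 F512716) (tt N97294 F512717) (tt N95471 (iv5 D222172)) (tt N115744 F512718) (tt N112730 F512719))
theorem Q118915 : ∀ i, i < 118915 → P i := stepQ 118914 Q118914 (allL N118914 (tt N115983 F512724) (tt N115563 F512723) (tt N122472 (iv2 F532320)) (tt N95486 F512722) (tt N95476 (iv4 D222173)) (tt N120832 (iv5 F522976)) (tt N121643 (iv6 F527502)) (tt N119246 (iv7 F514602)))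
theorem Q118916 : ∀ i, i < 118916 → P i := stepQ 118915 Q118915 (allL N118915 (tt N114161 F512728) (tt N115923 (iv0 F512729)) (tt N122383 F531772) (tt N118877 F512725) (tt N121643 (iv4 F527503)) (tt N118877 F512726) (tt N95476 (iv6 D222174)) (tt N115962 F512727))
theorem Q118917 : ∀ i, i < 118917 → P i := stepQ 118916 Q118916 (allL N118916 (tt N115563 F512732) (tt N115983 F512731) (tt N119246 (iv2 F514603)) (tt N119483 (iv3 F515845)) (tt N95478 (iv4 D222175)) (tt N119482 (iv5 F515843)) (tt N115837 F512730) (tt N122472 (iv7 F532323)))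
theorem Q118918 : ∀ i, i < 118918 → P i := stepQ 118917 Q118917 (allL N118917 (tt N115980 F512734) (tt N115981 (iv0 F512735)) (tt N122177 (iv2 F530601)) (tt N119480 (iv3 F515830)) (tt N95480 (iv4 D222176)) (tt N119479 F515828) (tt N115581 (iv6 F512736)) (tt N111707 F512733))
theorem Q118919 : ∀ i, i < 118919 → P i := stepQ 118918 Q118918 (allL N118918 (tt N115963 F512742) (tt N108290 F512743) (tt N108752 F512737) (tt N108556 F512738) (tt N115581 F512739) (tt N99722 F512740) (tt N95480 (iv6 D222177)) (tt N108750 F512741))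
theorem Q118920 : ∀ i, i < 118920 → P i := stepQ 118919 Q118919 (allL N118919 (tt N95481 (iv1 D222178)) (tt N115955 F512744) (tt N118662 F512747) (tt N121679 (iv3 F527697)) (tt N121043 (iv4 F524188)) (tt N116919 (iv5 F512746)) (tt N121093 (iv6 F524483)) (tt N101584 F512745))
theorem Q118921 : ∀ i, i < 118921 → P i := stepQ 118920 Q118920 (allL N118920 (tt N118662 (iv1 F512752)) (tt N101584 F512753) (tt N115955 F512748) (tt N101593 F512749) (tt N95482 F512750) (tt N121040 (iv5 F524168)) (tt N116359 F512751) (tt N95481 (iv7 D222179)))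
theorem Q118922 : ∀ i, i < 118922 → P i := stepQ 118921 Q118921 (allL N118921 (tt N121216 (iv1 F525186)) (tt N118825 F512758) (tt N106478 F512754) (tt N120896 (iv3 F523342)) (tt N95509 F512757) (tt N95489 (iv5 D222180)) (tt N99886 F512755) (tt N106475 F512756))
theorem Q118923 : ∀ i, i < 118923 → P i := stepQ 118922 Q118922 (allL N118922 (tt N119235 (iv1 F514531)) (tt N114842 F512764) (tt N95492 (iv2 D222181)) (tt N118905 F512759) (tt N102621 F512760) (tt N117638 F512761) (tt N102628 F512762) (tt N118902 F512763))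
theorem Q118924 : ∀ i, i < 118924 → P i := stepQ 118923 Q118923 (allL N118923 (tt N118825 F512770) (tt N121216 (iv0 F525185)) (tt N106475 F512765) (tt N117714 F512766) (tt N95506 F512767) (tt N95493 (iv5 D222182)) (tt N101846 F512768) (tt N106478 F512769))
theorem Q118925 : ∀ i, i < 118925 → P i := stepQ 118924 Q118924 (allL N118924 (tt N118895 (iv1 F512773)) (tt N95495 (iv0 D222183)) (tt N122127 (iv2 F530326)) (tt N111574 F512774) (tt N101590 F512771) (tt N122029 (iv5 F529734)) (tt N118935 F512836) (tt N101588 (iv7 F512772)))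
theorem Q118926 : ∀ i, i < 118926 → P i := stepQ 118925 Q118925 (allL N118925 (tt N101588 (iv1 F512778)) (tt N122127 (iv0 F530330)) (tt N118895 F512775) (tt N104448 F512776) (tt N121651 (iv4 F527546)) (tt N120712 (iv5 F522287)) (tt N118894 F512777) (tt N95495 (iv7 D222184)))
theorem Q118927 : ∀ i, i < 118927 → P i := stepQ 118926 Q118926 (allL N118926 (tt N106477 (iv1 F512782)) (tt N95505 (iv0 D222185)) (tt N106476 (iv2 F512781)) (tt N119552 (iv3 F516207)) (tt N120495 (iv4 F521078)) (tt N118009 F512779) (tt N106498 F512780) (tt N102670 F512783))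
theorem Q118928 : ∀ i, i < 118928 → P i := stepQ 118927 Q118927 (allL N118927 (tt N95508 (iv1 D222186)) (tt N106473 (iv0 F512787)) (tt N106472 (iv2 F512785)) (tt N121192 F525794) (tt N121562 (iv4 F527052)) (tt N121222 (iv5 F525216)) (tt N106501 (iv6 F512786)) (tt N102752 F512784))
theorem Q118929 : ∀ i, i < 118929 → P i := stepQ 118928 Q118928 (allL N118928 (tt N102752 (iv1 F512793)) (tt N106472 F512792) (tt N95508 (iv2 D222187)) (tt N106477 F512788) (tt N119760 (iv4 F517282)) (tt N109200 F512789) (tt N99879 F512790) (tt N106473 F512791))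
theorem Q118930 : ∀ i, i < 118930 → P i := stepQ 118929 Q118929 (allL N118929 (tt N106433 F512798) (tt N119552 (iv0 F516206)) (tt N112364 F512799) (tt N95510 (iv3 D222188)) (tt N98462 F512794) (tt N115735 F512795) (tt N98186 F512796) (tt N112365 F512797))
theorem Q118931 : ∀ i, i < 118931 → P i := stepQ 118930 Q118930 (allL N118930 (tt N104644 F512804) (tt N104489 F512805) (tt N106537 F512800) (tt N95525 F512801) (tt N102858 F512803) (tt N95524 (iv5 D222189)) (tt N107009 (iv6 F512806)) (tt N106561 F512802))
theorem Q118932 : ∀ i, i < 118932 → P i := stepQ 118931 Q118931 (allL N118931 (tt N106039 F512812) (tt N99371 (iv0 F512813)) (tt N106538 F512807) (tt N95526 F512808) (tt N108699 F512809) (tt N107501 F512810) (tt N95524 (iv6 D222190)) (tt N100253 F512811))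
theorem Q118933 : ∀ i, i < 118933 → P i := stepQ 118932 Q118932 (allL N118932 (tt N114722 F512819) (tt N114658 F512820) (tt N98230 F512814) (tt N102835 F512815) (tt N109116 F512816) (tt N95544 (iv5 D222191)) (tt N98229 F512817) (tt N118685 F512818))
theorem Q118934 : ∀ i, i < 118934 → P i := stepQ 118933 Q118933 (allL N118933 (tt N95555 (iv1 D222192)) (tt N95633 F512821) (tt N97243 F512826) (tt N112715 F512827) (tt N96734 F512823) (tt N112853 F512824) (tt N110915 (iv6 F512825)) (tt N97244 F512822))
theorem Q118935 : ∀ i, i < 118935 → P i := stepQ 118934 Q118934 (allL N118934 (tt N111734 F512830) (tt N111733 F512831) (tt N119264 (iv2 F514700)) (tt N106876 F512828) (tt N95558 (iv4 D222193)) (tt N119264 (iv5 F514702)) (tt N103196 F512829) (tt N119256 (iv7 F514660)))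
theorem Q118936 : ∀ i, i < 118936 → P i := stepQ 118935 Q118935 (allL N118935 (tt N122340 (iv1 F531520)) (tt N115535 (iv0 F512835)) (tt N117663 F512832) (tt N117114 F512833) (tt N111413 F512837) (tt N95570 (iv5 D222194)) (tt N118924 (iv6 F512836)) (tt N111410 F512834))
theorem Q118937 : ∀ i, i < 118937 → P i := stepQ 118936 Q118936 (allL N118936 (tt N118872 (iv1 F512843)) (tt N95571 (iv0 D222195)) (tt N118871 (iv2 F512841)) (tt N111499 F512838) (tt N120512 (iv4 F521182)) (tt N117508 F512839) (tt N111497 F512840) (tt N115522 F512842))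
theorem Q118938 : ∀ i, i < 118938 → P i := stepQ 118937 Q118937 (allL N118937 (tt N115665 F512848) (tt N122092 (iv0 F530111)) (tt N118181 F512844) (tt N113129 F512845) (tt N95571 (iv4 D222196)) (tt N112102 F512847) (tt N96829 F512846) (tt N122480 (iv7 F532377)))
theorem Q118939 : ∀ i, i < 118939 → P i := stepQ 118938 Q118938 (allL N118938 (tt N115522 (iv1 F512853)) (tt N118871 F512854) (tt N118872 F512849) (tt N108741 F512850) (tt N122480 (iv4 F532379)) (tt N95572 F512851) (tt N108754 F512852) (tt N95571 (iv7 D222197)))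
theorem Q118940 : ∀ i, i < 118940 → P i := stepQ 118939 Q118939 (allL N118939 (tt N108652 (iv1 F512860)) (tt N95573 (iv0 D222198)) (tt N103996 (iv2 F512859)) (tt N103997 F512857) (tt N99288 F512856) (tt N103996 F512855) (tt N103994 F512858) (tt N108651 F512861))
theorem Q118941 : ∀ i, i < 118941 → P i := stepQ 118940 Q118940 (allL N118940 (tt N95577 (iv1 D222199)) (tt N95580 F512862) (tt N96879 F512867) (tt N112010 (iv3 F512866)) (tt N111437 F512865) (tt N117324 F512864) (tt N111496 F512868) (tt N96859 F512863))
theorem Q118942 : ∀ i, i < 118942 → P i := stepQ 118941 Q118941 (allL N118941 (tt N95583 (iv1 D222200)) (tt N112495 F512869) (tt N112135 F512874) (tt N112289 (iv3 F512873)) (tt N111580 F512872) (tt N101901 F512871) (tt N117410 F512875) (tt N112291 F512870))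
theorem Q118943 : ∀ i, i < 118943 → P i := stepQ 118942 Q118942 (allL N118942 (tt N111720 F512880) (tt N111450 (iv0 F512881)) (tt N100730 F512876) (tt N106805 F512877) (tt N119036 (iv4 F513413)) (tt N108262 F512878) (tt N95599 (iv6 D222201)) (tt N108279 F512879))
theorem Q118944 : ∀ i, i < 118944 → P i := stepQ 118943 Q118943 (allL N118943 (tt N106758 F512887) (tt N109620 (iv0 F512888)) (tt N106766 F512882) (tt N107284 F512883) (tt N118308 F512884) (tt N106560 F512885) (tt N95600 (iv6 D222202)) (tt N116170 F512886))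
theorem Q118945 : ∀ i, i < 118945 → P i := stepQ 118944 Q118944 (allL N118944 (tt N102753 (iv1 F512892)) (tt N95607 (iv0 D222203)) (tt N102755 (iv2 F512893)) (tt N106714 F512890) (tt N117900 F512889) (tt N119021 (iv5 F513326)) (tt N101909 F512891) (tt N102754 (iv7 F512894)))
theorem Q118946 : ∀ i, i < 118946 → P i := stepQ 118945 Q118945 (allL N118945 (tt N95607 (iv1 D222204)) (tt N102753 (iv0 F512901)) (tt N102754 F512900) (tt N117081 (iv3 F512898)) (tt N117893 F512896) (tt N109224 F512897) (tt N99586 (iv6 F512899)) (tt N102755 F512895))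
theorem Q118947 : ∀ i, i < 118947 → P i := stepQ 118946 Q118946 (allL N118946 (tt N102755 (iv1 F512908)) (tt N102754 F512907) (tt N95607 (iv2 D222205)) (tt N106793 F512902) (tt N108989 F512903) (tt N113282 F512904) (tt N106640 F512905) (tt N102753 F512906))
theorem Q118948 : ∀ i, i < 118948 → P i := stepQ 118947 Q118947 (allL N118947 (tt N115280 F512913) (tt N115288 F512914) (tt N115258 F512909) (tt N115259 F512910) (tt N95610 (iv4 D222206)) (tt N115258 F512912) (tt N121399 F526140) (tt N115287 F512911))
theorem Q118949 : ∀ i, i < 118949 → P i := stepQ 118948 Q118948 (allL N118948 (tt N95649 (iv1 F512920)) (tt N95629 F512919) (tt N95620 (iv2 D222207)) (tt N95647 F512915) (tt N102286 F512916) (tt N120996 (iv5 F523923)) (tt N117638 F512917) (tt N95650 F512918))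
theorem Q118950 : ∀ i, i < 118950 → P i := stepQ 118949 Q118949 (allL N118949 (tt N121787 F528318) (tt N96621 F512926) (tt N96370 F512921) (tt N116374 F512922) (tt N109109 F512925) (tt N95624 (iv5 D222208)) (tt N116374 F512923) (tt N113763 F512924))
theorem Q118951 : ∀ i, i < 118951 → P i := stepQ 118950 Q118950 (allL N118950 (tt N96621 F512931) (tt N121787 (iv0 F528317)) (tt N113763 F512927) (tt N96375 F512928) (tt N99759 F512929) (tt N95626 (iv5 D222209)) (tt N113761 (iv6 F512932)) (tt N96370 F512930))
theorem Q118952 : ∀ i, i < 118952 → P i := stepQ 118951 Q118951 (allL N118951 (tt N95651 F512937) (tt N118885 (iv0 F512938)) (tt N111893 F512933) (tt N122034 (iv3 F529762)) (tt N101573 F512936) (tt N95627 (iv5 D222210)) (tt N115957 F512934) (tt N118731 F512935))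
theorem Q118953 : ∀ i, i < 118953 → P i := stepQ 118952 Q118952 (allL N118952 (tt N118886 F512943) (tt N95654 F512944) (tt N118888 F512939) (tt N115658 F512940) (tt N121014 (iv4 F524019)) (tt N95629 (iv5 D222211)) (tt N109542 F512941) (tt N118887 F512942))
theorem Q118954 : ∀ i, i < 118954 → P i := stepQ 118953 Q118953 (allL N118953 (tt N107235 F512949) (tt N107233 F512950) (tt N112696 F512945) (tt N115691 F512946) (tt N97236 F512947) (tt N95631 (iv5 D222212)) (tt N115623 F512951) (tt N110511 F512948))
theorem Q118955 : ∀ i, i < 118955 → P i := stepQ 118954 Q118954 (allL N118954 (tt N111733 F512953) (tt N111734 F512954) (tt N119256 (iv2 F514659)) (tt N118116 F512952) (tt N95634 (iv4 D222213)) (tt N119256 (iv5 F514661)) (tt N122282 (iv6 F531162)) (tt N119264 (iv7 F514703)))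
theorem Q118956 : ∀ i, i < 118956 → P i := stepQ 118955 Q118955 (allL N118955 (tt N120912 F523431) (tt N116029 F512960) (tt N118428 F512955) (tt N104762 F512956) (tt N95640 (iv4 D222214)) (tt N104695 F512959) (tt N110770 F512957) (tt N104771 F512958))
theorem Q118957 : ∀ i, i < 118957 → P i := stepQ 118956 Q118956 (allL N118956 (tt N109542 F512964) (tt N109541 (iv0 F512965)) (tt N109544 F512961) (tt N95645 (iv3 D222215)) (tt N120845 (iv4 F523047)) (tt N104226 F512962) (tt N120846 (iv6 F523054)) (tt N104225 F512963))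
theorem Q118958 : ∀ i, i < 118958 → P i := stepQ 118957 Q118957 (allL N118957 (tt N122029 F529737) (tt N115936 (iv0 F512969)) (tt N118877 F512966) (tt N120846 (iv3 F523053)) (tt N118835 F512967) (tt N122383 (iv5 F531768)) (tt N95645 (iv6 D222216)) (tt N115891 F512968))
theorem Q118959 : ∀ i, i < 118959 → P i := stepQ 118958 Q118958 (allL N118958 (tt N95654 F512973) (tt N118886 F512974) (tt N118887 F512970) (tt N111638 F512971) (tt N121013 (iv4 F524015)) (tt N95649 (iv5 D222217)) (tt N122665 (iv6 F533479)) (tt N118888 F512972))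
theorem Q118960 : ∀ i, i < 118960 → P i := stepQ 118959 Q118959 (allL N118959 (tt N118731 (iv1 F512979)) (tt N111893 F512978) (tt N95651 (iv2 D222218)) (tt N118886 F512975) (tt N122071 (iv4 F529987)) (tt N115790 F512976) (tt N113619 F512980) (tt N118885 F512977))
theorem Q118961 : ∀ i, i < 118961 → P i := stepQ 118960 Q118960 (allL N118960 (tt N115395 F512986) (tt N115394 (iv0 F512987)) (tt N113619 F512981) (tt N95653 F512982) (tt N113762 F512983) (tt N111081 F512984) (tt N95651 (iv6 D222219)) (tt N116373 F512985))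
theorem Q118962 : ∀ i, i < 118962 → P i := stepQ 118961 Q118961 (allL N118961 (tt N115808 (iv1 F512993)) (tt N115811 F512994) (tt N118892 F512988) (tt N116373 F512989) (tt N95653 F512990) (tt N115492 F512991) (tt N95652 (iv6 D222220)) (tt N95653 F512992))
theorem Q118963 : ∀ i, i < 118963 → P i := stepQ 118962 Q118962 (allL N118962 (tt N118888 (iv1 F512999)) (tt N118887 F512998) (tt N95654 (iv2 D222221)) (tt N118885 F512995) (tt N121445 (iv4 F526418)) (tt N105343 F512996) (tt N122073 (iv6 F530001)) (tt N118886 F512997))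
theorem Q118964 : ∀ i, i < 118964 → P i := stepQ 118963 Q118963 (allL N118963 (tt N106423 F513004) (tt N106415 F513005) (tt N121445 (iv2 F526416)) (tt N116351 F513000) (tt N95654 (iv4 D222222)) (tt N116350 F513001) (tt N116351 F513002) (tt N118889 F513003))
theorem Q118965 : ∀ i, i < 118965 → P i := stepQ 118964 Q118964 (allL N118964 (tt N122412 (iv1 F531954)) (tt N121724 (iv0 F527969)) (tt N122122 (iv2 F530297)) (tt N95660 F513006) (tt N105001 F513008) (tt N95659 (iv5 D222223)) (tt N121468 (iv6 F526543)) (tt N97679 F513007))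
theorem Q118966 : ∀ i, i < 118966 → P i := stepQ 118965 Q118965 (allL N118965 (tt N121721 F527949) (tt N122579 F532961) (tt N121410 (iv2 F526203)) (tt N114146 F513009) (tt N101589 F513010) (tt N95661 (iv5 D222224)) (tt N95662 F513011) (tt N121674 (iv7 F527668)))
theorem Q118967 : ∀ i, i < 118967 → P i := stepQ 118966 Q118966 (allL N118966 (tt N115288 F513016) (tt N115280 F513017) (tt N115287 F513012) (tt N115156 F513013) (tt N95665 (iv4 D222225)) (tt N115287 F513014) (tt N120965 (iv6 F523747)) (tt N115258 F513015))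
theorem Q118968 : ∀ i, i < 118968 → P i := stepQ 118967 Q118967 (allL N118967 (tt N97379 F513023) (tt N97395 (iv0 F513024)) (tt N97385 F513018) (tt N95670 (iv3 D222226)) (tt N102113 F513019) (tt N109549 F513020) (tt N103064 F513021) (tt N97396 F513022))
theorem Q118969 : ∀ i, i < 118969 → P i := stepQ 118968 Q118968 (allL N118968 (tt N100636 F513030) (tt N100571 (iv0 F513031)) (tt N95700 F513025) (tt N107455 F513026) (tt N95692 F513027) (tt N105653 F513028) (tt N95688 (iv6 D222227)) (tt N100634 F513029))
theorem Q118970 : ∀ i, i < 118970 → P i := stepQ 118969 Q118969 (allL N118969 (tt N106918 (iv1 F513036)) (tt N95690 (iv0 D222228)) (tt N117005 (iv2 F513035)) (tt N117008 F513033) (tt N120534 (iv4 F521306)) (tt N112760 F513032) (tt N96728 F513034) (tt N122025 (iv7 F529711)))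
theorem Q118971 : ∀ i, i < 118971 → P i := stepQ 118970 Q118970 (allL N118970 (tt N101319 F513042) (tt N105428 F513043) (tt N105653 F513037) (tt N114893 F513038) (tt N100478 F513039) (tt N95700 (iv5 D222229)) (tt N107421 F513040) (tt N105654 F513041))
theorem Q118972 : ∀ i, i < 118972 → P i := stepQ 118971 Q118971 (allL N118971 (tt N100571 (iv1 F513049)) (tt N100636 F513050) (tt N100634 F513044) (tt N113751 F513045) (tt N95701 F513046) (tt N105654 F513047) (tt N105590 F513048) (tt N95700 (iv7 D222230)))
theorem Q118973 : ∀ i, i < 118973 → P i := stepQ 118972 Q118972 (allL N118972 (tt N121796 (iv1 F528374)) (tt N119112 (iv0 F513849)) (tt N119156 (iv2 F514088)) (tt N99452 F513051) (tt N95712 (iv4 D222231)) (tt N99451 F513052) (tt N96325 F513053) (tt N96956 F513054))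
theorem Q118974 : ∀ i, i < 118974 → P i := stepQ 118973 Q118973 (allL N118973 (tt N96671 F513060) (tt N95720 F513061) (tt N96667 F513055) (tt N96344 F513056) (tt N98305 F513059) (tt N95713 (iv5 D222232)) (tt N96692 F513057) (tt N96637 F513058))
theorem Q118975 : ∀ i, i < 118975 → P i := stepQ 118974 Q118974 (allL N118974 (tt N95720 F513065) (tt N96671 F513066) (tt N96637 F513062) (tt N119045 (iv3 F513468)) (tt N98641 F513063) (tt N95714 (iv5 D222233)) (tt N119044 (iv6 F513466)) (tt N96667 F513064))
theorem Q118976 : ∀ i, i < 118976 → P i := stepQ 118975 Q118975 (allL N118975 (tt N115000 (iv1 F513072)) (tt N115089 (iv0 F513071)) (tt N122366 (iv2 F531672)) (tt N95717 F513067) (tt N115044 F513068) (tt N101558 F513069) (tt N95716 (iv6 D222234)) (tt N96359 F513070))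
theorem Q118977 : ∀ i, i < 118977 → P i := stepQ 118976 Q118976 (allL N118976 (tt N96399 (iv1 F513078)) (tt N95721 (iv0 D222235)) (tt N96677 (iv2 F513077)) (tt N115758 F513075) (tt N104858 F513074) (tt N99331 F513073) (tt N104857 F513076) (tt N96678 F513079))
theorem Q118978 : ∀ i, i < 118978 → P i := stepQ 118977 Q118977 (allL N118977 (tt N117011 F513083) (tt N117007 F513084) (tt N101927 F513080) (tt N95730 F513081) (tt N120563 (iv4 F521470)) (tt N95729 (iv5 D222236)) (tt N119303 (iv6 F514933)) (tt N117010 F513082))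
theorem Q118979 : ∀ i, i < 118979 → P i := stepQ 118978 Q118978 (allL N118978 (tt N118833 F513089) (tt N118832 F513090) (tt N118893 F513085) (tt N113631 F513086) (tt N95735 (iv4 D222237)) (tt N118893 F513088) (tt N113630 F513087) (tt N119273 (iv7 F514756)))
theorem Q118980 : ∀ i, i < 118980 → P i := stepQ 118979 Q118979 (allL N118979 (tt N118832 F513093) (tt N118833 F513094) (tt N119273 (iv2 F514753)) (tt N115710 F513091) (tt N95736 (iv4 D222238)) (tt N119273 (iv5 F514754)) (tt N120788 (iv6 F522720)) (tt N118893 F513092))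
theorem Q118981 : ∀ i, i < 118981 → P i := stepQ 118980 Q118980 (allL N118980 (tt N96735 F513099) (tt N96795 F513100) (tt N97270 F513095) (tt N111732 F513096) (tt N95741 (iv4 D222239)) (tt N111725 F513097) (tt N122044 F529820) (tt N111724 F513098))
theorem Q118982 : ∀ i, i < 118982 → P i := stepQ 118981 Q118981 (allL N118981 (tt N119347 (iv1 F515146)) (tt N122631 (iv0 F533282)) (tt N104988 F513101) (tt N115859 F513102) (tt N111639 F513105) (tt N95742 (iv5 D222240)) (tt N115649 F513103) (tt N104990 F513104))
theorem Q118983 : ∀ i, i < 118983 → P i := stepQ 118982 Q118982 (allL N118982 (tt N122631 (iv1 F533283)) (tt N119347 (iv0 F515145)) (tt N104990 F513106) (tt N121710 (iv3 F527892)) (tt N111638 F513107) (tt N95743 (iv5 D222241)) (tt N120027 (iv6 F518638)) (tt N104988 F513108))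
theorem Q118984 : ∀ i, i < 118984 → P i := stepQ 118983 Q118983 (allL N118983 (tt N104994 (iv1 F513114)) (tt N95744 (iv0 D222242)) (tt N104991 (iv2 F513113)) (tt N108515 F513111) (tt N104899 F513110) (tt N115482 F513109) (tt N104898 F513112) (tt N104992 F513115))
theorem Q118985 : ∀ i, i < 118985 → P i := stepQ 118984 Q118984 (allL N118984 (tt N95792 (iv1 F513122)) (tt N96420 F513121) (tt N95756 (iv2 D222243)) (tt N97420 F513116) (tt N101155 F513117) (tt N106824 F513118) (tt N101154 F513119) (tt N106825 F513120))
theorem Q118986 : ∀ i, i < 118986 → P i := stepQ 118985 Q118985 (allL N118985 (tt N118035 F513127) (tt N118309 F513128) (tt N111613 F513123) (tt N120071 (iv3 F518890)) (tt N95758 (iv4 D222244)) (tt N96162 F513124) (tt N118650 F513125) (tt N96161 F513126))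
theorem Q118987 : ∀ i, i < 118987 → P i := stepQ 118986 Q118986 (allL N118986 (tt N110490 F513132) (tt N99492 F513133) (tt N111612 F513129) (tt N99022 F513130) (tt N120016 (iv4 F518571)) (tt N95759 (iv5 D222245)) (tt N107878 F513131) (tt N119303 (iv7 F514934)))
theorem Q118988 : ∀ i, i < 118988 → P i := stepQ 118987 Q118987 (allL N118987 (tt N102263 F513138) (tt N101836 F513139) (tt N108940 F513134) (tt N118480 F513135) (tt N95769 (iv4 D222246)) (tt N121729 (iv5 F528000)) (tt N108938 F513136) (tt N111607 F513137))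
theorem Q118989 : ∀ i, i < 118989 → P i := stepQ 118988 Q118988 (allL N118988 (tt N102149 F513145) (tt N102152 F513146) (tt N111748 F513140) (tt N95790 F513141) (tt N106085 F513144) (tt N95788 (iv5 D222247)) (tt N111608 F513142) (tt N97408 F513143))
theorem Q118990 : ∀ i, i < 118990 → P i := stepQ 118989 Q118989 (allL N118989 (tt N119763 F517299) (tt N99291 (iv0 F513151)) (tt N110671 F513147) (tt N95799 (iv3 D222248)) (tt N118494 F513150) (tt N120529 (iv5 F521279)) (tt N110605 F513148) (tt N99037 F513149))
theorem Q118991 : ∀ i, i < 118991 → P i := stepQ 118990 Q118990 (allL N118990 (tt N102625 F513153) (tt N102623 F513154) (tt N103567 F513152) (tt N122114 (iv3 F530254)) (tt N120930 (iv4 F523544)) (tt N95808 (iv5 D222249)) (tt N120761 F522575) (tt N119278 (iv7 F514786)))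
theorem Q118992 : ∀ i, i < 118992 → P i := stepQ 118991 Q118991 (allL N118991 (tt N118428 F513159) (tt N104771 (iv0 F513160)) (tt N116029 F513155) (tt N104571 F513156) (tt N115820 F513157) (tt N104570 F513158) (tt N95830 (iv6 D222250)) (tt N120912 (iv7 F523429)))
theorem Q118993 : ∀ i, i < 118993 → P i := stepQ 118992 Q118992 (allL N118992 (tt N120556 (iv1 F521439)) (tt N102151 F513164) (tt N102007 F513161) (tt N120578 (iv3 F521552)) (tt N97458 F513162) (tt N95837 (iv5 D222251)) (tt N120576 (iv6 F521544)) (tt N117428 F513163))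
theorem Q118994 : ∀ i, i < 118994 → P i := stepQ 118993 Q118993 (allL N118993 (tt N102042 F513167) (tt N102902 F513168) (tt N119283 (iv2 F514812)) (tt N98613 F513165) (tt N95850 (iv4 D222252)) (tt N98612 F513166) (tt N120881 (iv6 F523257)) (tt N119282 (iv7 F514808)))
theorem Q118995 : ∀ i, i < 118995 → P i := stepQ 118994 Q118994 (allL N118994 (tt N102902 F513171) (tt N102042 F513172) (tt N119282 (iv2 F514805)) (tt N98670 F513169) (tt N95851 (iv4 D222253)) (tt N98667 F513170) (tt N119672 (iv6 F516840)) (tt N119283 (iv7 F514816)))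
theorem Q118996 : ∀ i, i < 118996 → P i := stepQ 118995 Q118995 (allL N118995 (tt N97856 (iv1 F513176)) (tt N95852 (iv0 D222254)) (tt N103408 (iv2 F513175)) (tt N117684 (iv3 F513178)) (tt N97572 F513174) (tt N118191 F513173) (tt N116282 (iv6 F513179)) (tt N103399 F513177))
theorem Q118997 : ∀ i, i < 118997 → P i := stepQ 118996 Q118996 (allL N118996 (tt N103682 F513185) (tt N106989 F513186) (tt N106517 F513180) (tt N99489 F513181) (tt N95856 (iv4 D222255)) (tt N106416 F513184) (tt N102515 F513182) (tt N106512 F513183))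
theorem Q118998 : ∀ i, i < 118998 → P i := stepQ 118997 Q118997 (allL N118997 (tt N106989 F513191) (tt N103682 F513192) (tt N106512 F513187) (tt N102915 F513188) (tt N95857 (iv4 D222256)) (tt N107434 F513189) (tt N119931 (iv6 F518097)) (tt N106517 F513190))
theorem Q118999 : ∀ i, i < 118999 → P i := stepQ 118998 Q118998 (allL N118998 (tt N104834 F513197) (tt N100525 F513198) (tt N115772 F513193) (tt N104035 F513194) (tt N95867 (iv4 D222257)) (tt N102327 F513195) (tt N119255 (iv6 F514655)) (tt N115740 F513196))
theorem Q119000 : ∀ i, i < 119000 → P i := stepQ 118999 Q118999 (allL N118999 (tt N104186 F513202) (tt N100518 (iv0 F513203)) (tt N115696 F513199) (tt N109722 F513200) (tt N119255 (iv4 F514654)) (tt N119003 (iv5 F513226)) (tt N95867 (iv6 D222258)) (tt N115695 F513201))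
theorem Q119001 : ∀ i, i < 119001 → P i := stepQ 119000 Q119000 (allL N119000 (tt N120788 F522723) (tt N109249 (iv0 F513208)) (tt N117923 F513204) (tt N95872 (iv3 D222259)) (tt N110913 F513205) (tt N96761 F513206) (tt N110912 F513209) (tt N95880 F513207))
theorem Q119002 : ∀ i, i < 119002 → P i := stepQ 119001 Q119001 (allL N119001 (tt N115371 F513215) (tt N115370 (iv0 F513216)) (tt N95881 F513210) (tt N110912 F513211) (tt N97178 F513212) (tt N96860 F513213) (tt N95872 (iv6 D222260)) (tt N108245 F513214))
theorem Q119003 : ∀ i, i < 119003 → P i := stepQ 119002 Q119002 (allL N119002 (tt N98428 F513222) (tt N113091 F513223) (tt N106193 F513217) (tt N114479 F513218) (tt N106192 F513219) (tt N95878 (iv5 D222261)) (tt N98444 F513220) (tt N114497 F513221))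
theorem Q119004 : ∀ i, i < 119004 → P i := stepQ 119003 Q119003 (allL N119003 (tt N95879 (iv1 D222262)) (tt N98439 F513224) (tt N98438 F513229) (tt N105423 F513230) (tt N106243 F513227) (tt N118999 F513226) (tt N99107 (iv6 F513228)) (tt N98437 F513225))
theorem Q119005 : ∀ i, i < 119005 → P i := stepQ 119004 Q119004 (allL N119004 (tt N95880 (iv1 D222263)) (tt N117923 F513231) (tt N120788 (iv2 F522717)) (tt N111789 (iv3 F513234)) (tt N119269 (iv4 F514734)) (tt N109250 F513233) (tt N119273 (iv6 F514755)) (tt N109249 F513232))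
theorem Q119006 : ∀ i, i < 119006 → P i := stepQ 119005 Q119005 (allL N119005 (tt N115362 (iv1 F513239)) (tt N95886 (iv0 D222264)) (tt N115730 (iv2 F513238)) (tt N118832 F513236) (tt N119345 (iv4 F515129)) (tt N117412 F513235) (tt N112700 F513237) (tt N115729 F513240))
theorem Q119007 : ∀ i, i < 119007 → P i := stepQ 119006 Q119006 (allL N119006 (tt N116044 (iv1 F513247)) (tt N95889 (iv0 D222265)) (tt N102061 (iv2 F513245)) (tt N114246 F513243) (tt N102823 F513242) (tt N102051 F513241) (tt N102054 F513244) (tt N111662 F513246))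
theorem Q119008 : ∀ i, i < 119008 → P i := stepQ 119007 Q119007 (allL N119007 (tt N104420 F513252) (tt N116084 F513253) (tt N116043 F513248) (tt N116066 F513249) (tt N118907 F513251) (tt N95889 (iv5 D222266)) (tt N97875 F513250) (tt N122509 (iv7 F532552)))
theorem Q119009 : ∀ i, i < 119009 → P i := stepQ 119008 Q119008 (allL N119008 (tt N111662 (iv1 F513258)) (tt N102061 F513259) (tt N116044 F513254) (tt N111658 F513255) (tt N115824 F513256) (tt N122509 (iv5 F532553)) (tt N103572 F513257) (tt N95889 (iv7 D222267)))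
theorem Q119010 : ∀ i, i < 119010 → P i := stepQ 119009 Q119009 (allL N119009 (tt N120680 F522109) (tt N121206 (iv0 F525132)) (tt N103850 F513260) (tt N120644 (iv3 F521924)) (tt N95895 (iv4 D222268)) (tt N115832 F513263) (tt N113585 F513261) (tt N118422 F513262))
theorem Q119011 : ∀ i, i < 119011 → P i := stepQ 119010 Q119010 (allL N119010 (tt N121206 (iv1 F525133)) (tt N120680 (iv0 F522108)) (tt N118422 F513264) (tt N96990 F513265) (tt N95896 (iv4 D222269)) (tt N115831 F513266) (tt N117941 F513267) (tt N103850 F513268))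
theorem Q119012 : ∀ i, i < 119012 → P i := stepQ 119011 Q119011 (allL N119011 (tt N116601 F513273) (tt N116592 (iv0 F513274)) (tt N116599 F513269) (tt N95919 F513270) (tt N118501 F513271) (tt N120092 (iv5 F519000)) (tt N95917 (iv6 D222270)) (tt N116358 F513272))
theorem Q119013 : ∀ i, i < 119013 → P i := stepQ 119012 Q119012 (allL N119012 (tt N121681 F527713) (tt N110194 (iv0 F513278)) (tt N118026 F513275) (tt N120443 (iv3 F520808)) (tt N95919 F513276) (tt N96512 F513277) (tt N95918 (iv6 D222271)) (tt N120441 (iv7 F520801)))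
theorem Q119014 : ∀ i, i < 119014 → P i := stepQ 119013 Q119013 (allL N119013 (tt N107191 (iv1 F513284)) (tt N95919 (iv0 D222272)) (tt N96198 (iv2 F513281)) (tt N107187 F513282) (tt N96039 F513279) (tt N121376 (iv5 F526025)) (tt N95977 F513280) (tt N107192 F513283))
theorem Q119015 : ∀ i, i < 119015 → P i := stepQ 119014 Q119014 (allL N119014 (tt N107192 (iv1 F513289)) (tt N96198 F513290) (tt N107191 F513285) (tt N116358 F513286) (tt N120441 (iv4 F520802)) (tt N109497 F513287) (tt N113226 F513288) (tt N95919 (iv7 D222273)))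
theorem Q119016 : ∀ i, i < 119016 → P i := stepQ 119015 Q119015 (allL N119015 (tt N118911 F513296) (tt N111998 (iv0 F513297)) (tt N95926 F513291) (tt N102016 F513292) (tt N111442 F513293) (tt N114511 F513294) (tt N95925 (iv6 D222274)) (tt N115439 F513295))
theorem Q119017 : ∀ i, i < 119017 → P i := stepQ 119016 Q119016 (allL N119016 (tt N106548 F513302) (tt N106551 (iv0 F513303)) (tt N121492 (iv2 F526668)) (tt N95930 F513298) (tt N114035 F513299) (tt N110156 F513300) (tt N95928 (iv6 D222275)) (tt N112167 F513301))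
theorem Q119018 : ∀ i, i < 119018 → P i := stepQ 119017 Q119017 (allL N119017 (tt N96125 F513307) (tt N96147 (iv0 F513308)) (tt N96145 F513304) (tt N95947 (iv3 D222276)) (tt N108316 F513305) (tt N96152 F513309) (tt N115061 F513310) (tt N96144 F513306))
theorem Q119019 : ∀ i, i < 119019 → P i := stepQ 119018 Q119018 (allL N119018 (tt N120011 F518552) (tt N120778 (iv0 F522658)) (tt N120013 (iv2 F518560)) (tt N96152 F513311) (tt N119187 (iv4 F514264)) (tt N95947 (iv5 D222277)) (tt N120775 (iv6 F522647)) (tt N105721 F513312))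
theorem Q119020 : ∀ i, i < 119020 → P i := stepQ 119019 Q119019 (allL N119019 (tt N96273 (iv1 F513319)) (tt N96268 (iv0 F513318)) (tt N96270 F513313) (tt N115061 F513314) (tt N110924 F513315) (tt N110389 F513317) (tt N95947 (iv6 D222278)) (tt N96271 F513316))
theorem Q119021 : ∀ i, i < 119021 → P i := stepQ 119020 Q119020 (allL N119020 (tt N105504 (iv1 F513322)) (tt N95948 (iv0 D222279)) (tt N105514 (iv2 F513321)) (tt N107147 F513320) (tt N119033 (iv4 F513392)) (tt N107146 F513324) (tt N122365 (iv6 F531663)) (tt N105513 F513323))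
theorem Q119022 : ∀ i, i < 119022 → P i := stepQ 119021 Q119021 (allL N119021 (tt N116655 F513327) (tt N107100 (iv0 F513328)) (tt N119896 (iv2 F517908)) (tt N95956 F513325) (tt N120607 (iv4 F521726)) (tt N118944 F513326) (tt N95955 (iv6 D222280)) (tt N119100 (iv7 F513789)))
theorem Q119023 : ∀ i, i < 119023 → P i := stepQ 119022 Q119022 (allL N119022 (tt N98383 F513333) (tt N98317 F513334) (tt N95964 F513329) (tt N107744 F513330) (tt N100319 F513331) (tt N95963 (iv5 D222281)) (tt N121228 (iv6 F525251)) (tt N118812 F513332))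
theorem Q119024 : ∀ i, i < 119024 → P i := stepQ 119023 Q119023 (allL N119023 (tt N115797 F513340) (tt N113134 F513339) (tt N121926 (iv2 F529103)) (tt N95969 F513335) (tt N103507 F513338) (tt N95965 (iv5 D222282)) (tt N113136 F513336) (tt N108034 F513337))
theorem Q119025 : ∀ i, i < 119025 → P i := stepQ 119024 Q119024 (allL N119024 (tt N116380 F513346) (tt N121256 (iv0 F525409)) (tt N108720 F513341) (tt N95971 F513342) (tt N105049 F513343) (tt N116343 F513344) (tt N95966 (iv6 D222283)) (tt N108719 F513345))
theorem Q119026 : ∀ i, i < 119026 → P i := stepQ 119025 Q119025 (allL N119025 (tt N95975 (iv1 F513349)) (tt N95968 (iv0 D222284)) (tt N119065 (iv2 F513591)) (tt N98037 (iv3 F513351)) (tt N106203 F513348) (tt N105130 F513347) (tt N98593 F513352) (tt N98053 F513350))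
theorem Q119027 : ∀ i, i < 119027 → P i := stepQ 119026 Q119026 (allL N119026 (tt N97688 F513357) (tt N109168 (iv0 F513358)) (tt N109169 F513353) (tt N95968 (iv3 D222285)) (tt N98204 F513354) (tt N97730 F513355) (tt N119573 (iv6 F516326)) (tt N109170 F513356))
theorem Q119028 : ∀ i, i < 119028 → P i := stepQ 119027 Q119027 (allL N119027 (tt N96384 (iv1 F513361)) (tt N95986 (iv0 D222286)) (tt N96392 F513363) (tt N98044 F513360) (tt N114912 F513359) (tt N119497 (iv5 F515911)) (tt N98644 (iv6 F513362)) (tt N96391 F513364))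
theorem Q119029 : ∀ i, i < 119029 → P i := stepQ 119028 Q119028 (allL N119028 (tt N95986 (iv1 D222287)) (tt N96384 F513365) (tt N96391 F513369) (tt N98647 (iv3 F513368)) (tt N118204 F513367) (tt N119488 (iv5 F515862)) (tt N103693 F513370) (tt N96392 F513366))
theorem Q119030 : ∀ i, i < 119030 → P i := stepQ 119029 Q119029 (allL N119029 (tt N101474 F513374) (tt N101481 (iv0 F513375)) (tt N101479 F513371) (tt N104957 F513372) (tt N120870 (iv4 F523188)) (tt N120094 (iv5 F519011)) (tt N95989 (iv6 D222288)) (tt N101478 F513373))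
theorem Q119031 : ∀ i, i < 119031 → P i := stepQ 119030 Q119030 (allL N119030 (tt N119045 (iv1 F513471)) (tt N96633 (iv0 F513380)) (tt N121782 (iv2 F528279)) (tt N95992 (iv3 D222289)) (tt N105737 F513379) (tt N96403 F513376) (tt N105609 F513377) (tt N96388 F513378))
theorem Q119032 : ∀ i, i < 119032 → P i := stepQ 119031 Q119031 (allL N119031 (tt N119041 (iv1 F513449)) (tt N119160 (iv0 F514116)) (tt N96386 F513381) (tt N104792 F513382) (tt N95992 (iv4 D222290)) (tt N102793 F513383) (tt N104790 F513384) (tt N96389 F513385))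
theorem Q119033 : ∀ i, i < 119033 → P i := stepQ 119032 Q119032 (allL N119032 (tt N101781 F513389) (tt N115099 F513390) (tt N116730 F513386) (tt N95998 F513387) (tt N121277 (iv4 F525527)) (tt N121622 (iv5 F527386)) (tt N95995 (iv6 D222291)) (tt N101483 F513388))
theorem Q119034 : ∀ i, i < 119034 → P i := stepQ 119033 Q119033 (allL N119033 (tt N120440 (iv1 F520798)) (tt N96512 (iv0 F513394)) (tt N108915 F513391) (tt N95996 (iv3 D222292)) (tt N119020 F513392) (tt N108912 F513393) (tt N120429 (iv6 F520737)) (tt N120425 (iv7 F520715)))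
theorem Q119035 : ∀ i, i < 119035 → P i := stepQ 119034 Q119034 (allL N119034 (tt N105426 F513398) (tt N99417 (iv0 F513399)) (tt N105640 F513395) (tt N96001 (iv3 D222293)) (tt N119688 (iv4 F516925)) (tt N105982 F513396) (tt N114886 (iv6 F513400)) (tt N96703 F513397))
theorem Q119036 : ∀ i, i < 119036 → P i := stepQ 119035 Q119035 (allL N119035 (tt N107316 F513406) (tt N104858 (iv0 F513407)) (tt N96702 F513401) (tt N114886 F513402) (tt N110039 F513403) (tt N107422 F513404) (tt N96001 (iv6 D222294)) (tt N96682 F513405))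
theorem Q119037 : ∀ i, i < 119037 → P i := stepQ 119036 Q119036 (allL N119036 (tt N96480 F513412) (tt N112131 (iv0 F513414)) (tt N111029 F513408) (tt N96009 (iv3 D222295)) (tt N118942 F513413) (tt N96019 F513409) (tt N108312 F513410) (tt N118207 F513411))
theorem Q119038 : ∀ i, i < 119038 → P i := stepQ 119037 Q119037 (allL N119037 (tt N107902 F513420) (tt N113116 F513419) (tt N110934 F513415) (tt N111042 F513416) (tt N118054 F513418) (tt N96011 (iv5 D222296)) (tt N118053 F513421) (tt N110935 F513417))
theorem Q119039 : ∀ i, i < 119039 → P i := stepQ 119038 Q119038 (allL N119038 (tt N97992 F513427) (tt N97990 (iv0 F513428)) (tt N110943 F513422) (tt N118714 F513423) (tt N97817 F513424) (tt N118260 F513425) (tt N96017 (iv6 D222297)) (tt N118721 F513426))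
theorem Q119040 : ∀ i, i < 119040 → P i := stepQ 119039 Q119039 (allL N119039 (tt N96462 (iv1 F513433)) (tt N96024 (iv0 D222298)) (tt N114912 (iv2 F513434)) (tt N96421 F513431) (tt N96392 F513430) (tt N96419 F513429) (tt N98639 F513432) (tt N118204 (iv7 F513435)))
theorem Q119041 : ∀ i, i < 119041 → P i := stepQ 119040 Q119040 (allL N119040 (tt N96024 (iv1 D222299)) (tt N96462 F513436) (tt N118204 F513440) (tt N114913 (iv3 F513439)) (tt N96391 F513441) (tt N96453 F513438) (tt N106148 F513442) (tt N114912 F513437))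
theorem Q119042 : ∀ i, i < 119042 → P i := stepQ 119041 Q119041 (allL N119041 (tt N109166 F513448) (tt N119031 F513449) (tt N118205 F513443) (tt N103878 F513444) (tt N96024 (iv4 D222300)) (tt N103876 F513447) (tt N96029 F513445) (tt N118749 F513446))
theorem Q119043 : ∀ i, i < 119043 → P i := stepQ 119042 Q119042 (allL N119042 (tt N118025 (iv1 F513456)) (tt N118030 F513455) (tt N96027 (iv2 D222301)) (tt N112645 F513450) (tt N103013 F513451) (tt N114456 F513452) (tt N112082 F513453) (tt N118029 F513454))
theorem Q119044 : ∀ i, i < 119044 → P i := stepQ 119043 Q119043 (allL N119043 (tt N119640 (iv1 F516656)) (tt N111215 (iv0 F513462)) (tt N104733 F513457) (tt N96029 (iv3 D222302)) (tt N118672 F513458) (tt N103877 F513459) (tt N103878 F513460) (tt N104735 F513461))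
theorem Q119045 : ∀ i, i < 119045 → P i := stepQ 119044 Q119044 (allL N119044 (tt N118293 F513467) (tt N122053 (iv0 F529880)) (tt N118637 F513463) (tt N96040 F513464) (tt N98504 F513465) (tt N96033 (iv5 D222303)) (tt N118974 F513466) (tt N119228 (iv7 F514483)))
theorem Q119046 : ∀ i, i < 119046 → P i := stepQ 119045 Q119045 (allL N119045 (tt N119143 (iv1 F514016)) (tt N119030 F513471) (tt N119120 (iv2 F513888)) (tt N118974 F513468) (tt N115092 F513469) (tt N96037 (iv5 D222304)) (tt N96040 F513470) (tt N119138 (iv7 F513995)))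
theorem Q119047 : ∀ i, i < 119047 → P i := stepQ 119046 Q119046 (allL N119046 (tt N96047 (iv1 D222305)) (tt N118796 F513472) (tt N118244 F513476) (tt N121443 (iv3 F526403)) (tt N118294 F513477) (tt N96553 F513474) (tt N117886 (iv6 F513475)) (tt N96552 F513473))
theorem Q119048 : ∀ i, i < 119048 → P i := stepQ 119047 Q119047 (allL N119047 (tt N118244 (iv1 F513483)) (tt N96552 F513484) (tt N118796 F513478) (tt N96053 F513479) (tt N118278 F513480) (tt N101383 F513481) (tt N118398 F513482) (tt N96047 (iv7 D222306)))
theorem Q119049 : ∀ i, i < 119049 → P i := stepQ 119048 Q119048 (allL N119048 (tt N118252 F513489) (tt N117275 (iv0 F513490)) (tt N96057 F513485) (tt N118276 F513486) (tt N117270 F513487) (tt N111411 F513488) (tt N96055 (iv6 D222307)) (tt N122571 (iv7 F532910)))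
theorem Q119050 : ∀ i, i < 119050 → P i := stepQ 119049 Q119049 (allL N119049 (tt N122571 (iv1 F532909)) (tt N96057 (iv0 D222308)) (tt N118252 (iv2 F513494)) (tt N118733 F513495) (tt N106008 F513492) (tt N118732 F513491) (tt N106170 F513493) (tt N117275 F513496))
theorem Q119051 : ∀ i, i < 119051 → P i := stepQ 119050 Q119050 (allL N119050 (tt N111413 (iv1 F513503)) (tt N111404 F513500) (tt N111411 F513497) (tt N96059 F513498) (tt N108589 F513501) (tt N96057 (iv5 D222309)) (tt N115537 F513499) (tt N111412 (iv7 F513502)))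
theorem Q119052 : ∀ i, i < 119052 → P i := stepQ 119051 Q119051 (allL N119051 (tt N117275 (iv1 F513508)) (tt N118252 F513509) (tt N122571 (iv2 F532915)) (tt N96060 F513504) (tt N114038 F513505) (tt N111412 F513506) (tt N118405 F513507) (tt N96057 (iv7 D222310)))
theorem Q119053 : ∀ i, i < 119053 → P i := stepQ 119052 Q119052 (allL N119052 (tt N118258 F513515) (tt N115888 F513516) (tt N117050 F513511) (tt N121677 (iv3 F527683)) (tt N115913 F513512) (tt N96083 (iv5 D222311)) (tt N110134 F513513) (tt N117545 F513514))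
theorem Q119054 : ∀ i, i < 119054 → P i := stepQ 119053 Q119053 (allL N119053 (tt N110948 F513521) (tt N119063 (iv0 F513583)) (tt N118347 F513517) (tt N109273 F513518) (tt N96089 (iv4 D222312)) (tt N109272 F513519) (tt N120023 F518614) (tt N118341 F513520))
theorem Q119055 : ∀ i, i < 119055 → P i := stepQ 119054 Q119054 (allL N119054 (tt N99294 F513526) (tt N99297 (iv0 F513527)) (tt N99296 F513522) (tt N96091 F513523) (tt N120023 (iv4 F518611)) (tt N112655 F513524) (tt N96089 (iv6 D222313)) (tt N99295 F513525))
theorem Q119056 : ∀ i, i < 119056 → P i := stepQ 119055 Q119055 (allL N119055 (tt N96091 (iv1 D222314)) (tt N108502 F513528) (tt N118340 F513534) (tt N99355 (iv3 F513531)) (tt N117127 (iv4 F513532)) (tt N118225 F513530) (tt N107171 (iv6 F513533)) (tt N99350 F513529))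
theorem Q119057 : ∀ i, i < 119057 → P i := stepQ 119056 Q119056 (allL N119056 (tt N118340 (iv1 F513540)) (tt N99350 F513541) (tt N108502 F513535) (tt N99295 F513536) (tt N108494 F513537) (tt N118201 F513538) (tt N116987 F513539) (tt N96091 (iv7 D222315)))
theorem Q119058 : ∀ i, i < 119058 → P i := stepQ 119057 Q119057 (allL N119057 (tt N118043 (iv1 F513547)) (tt N96099 (iv0 D222316)) (tt N118159 (iv2 F513546)) (tt N118828 F513544) (tt N114543 F513543) (tt N110937 F513542) (tt N115550 F513545) (tt N114567 F513548))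
theorem Q119059 : ∀ i, i < 119059 → P i := stepQ 119058 Q119058 (allL N119058 (tt N96101 (iv1 D222317)) (tt N116786 F513549) (tt N118337 F513554) (tt N118641 (iv3 F513553)) (tt N117172 F513552) (tt N110939 F513551) (tt N116765 F513555) (tt N111044 F513550))
theorem Q119060 : ∀ i, i < 119060 → P i := stepQ 119059 Q119059 (allL N119059 (tt N105949 F513561) (tt N106277 (iv0 F513562)) (tt N106279 F513556) (tt N96103 F513557) (tt N106323 F513558) (tt N114910 F513559) (tt N96101 (iv6 D222318)) (tt N106280 F513560))
theorem Q119061 : ∀ i, i < 119061 → P i := stepQ 119060 Q119060 (allL N119060 (tt N107837 F513568) (tt N107810 F513569) (tt N107823 F513563) (tt N96130 F513564) (tt N107854 F513565) (tt N96113 (iv5 D222319)) (tt N96116 F513566) (tt N107838 F513567))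
theorem Q119062 : ∀ i, i < 119062 → P i := stepQ 119061 Q119061 (allL N119061 (tt N101772 F513574) (tt N96116 (iv0 D222320)) (tt N122026 (iv2 F529712)) (tt N107853 F513571) (tt N99486 F513570) (tt N118173 F513572) (tt N107814 F513573) (tt N121595 (iv7 F527230)))
theorem Q119063 : ∀ i, i < 119063 → P i := stepQ 119062 Q119062 (allL N119062 (tt N96116 (iv1 D222321)) (tt N101772 F513575) (tt N121595 (iv2 F527226)) (tt N108985 (iv3 F513578)) (tt N118349 F513577) (tt N108983 F513576) (tt N110050 (iv6 F513579)) (tt N122026 (iv7 F529716)))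
theorem Q119064 : ∀ i, i < 119064 → P i := stepQ 119063 Q119063 (allL N119063 (tt N119053 F513583) (tt N106762 F513584) (tt N108983 F513580) (tt N107856 F513581) (tt N96116 (iv4 D222322)) (tt N121595 (iv5 F527229)) (tt N107854 F513582) (tt N118173 F513585))
theorem Q119065 : ∀ i, i < 119065 → P i := stepQ 119064 Q119064 (allL N119064 (tt N121595 F527232) (tt N122026 (iv0 F529717)) (tt N101772 F513586) (tt N96134 F513587) (tt N118173 F513588) (tt N96117 F513589) (tt N101770 F513590) (tt N96116 (iv7 D222323)))
theorem Q119066 : ∀ i, i < 119066 → P i := stepQ 119065 Q119065 (allL N119065 (tt N107434 F513595) (tt N106416 F513596) (tt N119025 F513591) (tt N121624 (iv3 F527398)) (tt N96119 (iv4 D222324)) (tt N105492 F513592) (tt N106133 F513593) (tt N107606 F513594))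
theorem Q119067 : ∀ i, i < 119067 → P i := stepQ 119066 Q119066 (allL N119066 (tt N108869 F513600) (tt N108872 F513601) (tt N118403 F513597) (tt N102752 F513598) (tt N118402 F513599) (tt N121296 (iv5 F525608)) (tt N96126 (iv6 D222325)) (tt N121192 (iv7 F525796)))
theorem Q119068 : ∀ i, i < 119068 → P i := stepQ 119067 Q119067 (allL N119067 (tt N100264 (iv1 F513606)) (tt N96129 (iv0 D222326)) (tt N117081 F513608) (tt N106713 F513604) (tt N118408 F513603) (tt N112316 F513602) (tt N112675 F513605) (tt N117080 (iv7 F513607)))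
theorem Q119069 : ∀ i, i < 119069 → P i := stepQ 119068 Q119068 (allL N119068 (tt N96129 (iv1 D222327)) (tt N100264 F513609) (tt N117080 F513614) (tt N102755 F513615) (tt N118411 (iv4 F513612)) (tt N99154 F513611) (tt N117272 (iv6 F513613)) (tt N117081 F513610))
theorem Q119070 : ∀ i, i < 119070 → P i := stepQ 119069 Q119069 (allL N119069 (tt N101788 (iv1 F513619)) (tt N96130 (iv0 D222328)) (tt N97035 (iv2 F513618)) (tt N115063 F513616) (tt N122560 (iv4 F532853)) (tt N121797 (iv5 F528377)) (tt N109342 F513617) (tt N107802 F513620))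
theorem Q119071 : ∀ i, i < 119071 → P i := stepQ 119070 Q119070 (allL N119070 (tt N117061 F513626) (tt N117060 (iv0 F513627)) (tt N96152 F513621) (tt N108370 F513622) (tt N96135 (iv4 D222329)) (tt N96145 F513623) (tt N114775 F513624) (tt N117057 F513625))
theorem Q119072 : ∀ i, i < 119072 → P i := stepQ 119071 Q119071 (allL N119071 (tt N103729 F513631) (tt N104619 (iv0 F513632)) (tt N114660 F513628) (tt N119470 (iv3 F515786)) (tt N96143 F513629) (tt N120741 (iv5 F522456)) (tt N96142 (iv6 D222330)) (tt N116886 F513630))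
theorem Q119073 : ∀ i, i < 119073 → P i := stepQ 119072 Q119072 (allL N119072 (tt N119782 F517392) (tt N122050 (iv0 F529859)) (tt N117276 F513633) (tt N100183 F513634) (tt N121362 F525968) (tt N96148 (iv5 D222331)) (tt N107017 F513635) (tt N100263 F513636))
theorem Q119074 : ∀ i, i < 119074 → P i := stepQ 119073 Q119073 (allL N119073 (tt N96149 (iv1 D222332)) (tt N110201 F513637) (tt N102321 F513641) (tt N114785 (iv3 F513639)) (tt N121320 (iv4 F525746)) (tt N101953 (iv5 F513640)) (tt N120768 (iv6 F522609)) (tt N110202 F513638))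
theorem Q119075 : ∀ i, i < 119075 → P i := stepQ 119074 Q119074 (allL N119074 (tt N106531 F513645) (tt N113247 F513646) (tt N114775 F513642) (tt N120775 (iv3 F522645)) (tt N96149 (iv4 D222333)) (tt N116862 (iv5 F513647)) (tt N96152 F513643) (tt N110203 F513644))
theorem Q119076 : ∀ i, i < 119076 → P i := stepQ 119075 Q119075 (allL N119075 (tt N118452 F513652) (tt N100641 (iv0 F513653)) (tt N118450 F513648) (tt N104712 F513649) (tt N96151 (iv4 D222334)) (tt N119087 (iv5 F513719)) (tt N114493 F513650) (tt N118451 F513651))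
theorem Q119077 : ∀ i, i < 119077 → P i := stepQ 119076 Q119076 (allL N119076 (tt N96152 (iv1 D222335)) (tt N117057 F513654) (tt N117060 F513658) (tt N120010 (iv3 F518545)) (tt N108319 F513656) (tt N121245 (iv5 F525341)) (tt N116927 (iv6 F513657)) (tt N117061 F513655))
theorem Q119078 : ∀ i, i < 119078 → P i := stepQ 119077 Q119077 (allL N119077 (tt N102853 F513663) (tt N112102 (iv0 F513664)) (tt N96166 F513659) (tt N103169 F513660) (tt N107056 F513661) (tt N115883 F513662) (tt N96154 (iv6 D222336)) (tt N112103 F513665))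
theorem Q119079 : ∀ i, i < 119079 → P i := stepQ 119078 Q119078 (allL N119078 (tt N121797 F528381) (tt N108956 (iv0 F513671)) (tt N96169 F513666) (tt N112101 F513667) (tt N112353 F513668) (tt N116617 F513669) (tt N96155 (iv6 D222337)) (tt N112100 F513670))
theorem Q119080 : ∀ i, i < 119080 → P i := stepQ 119079 Q119079 (allL N119079 (tt N112103 F513676) (tt N96166 (iv0 F513677)) (tt N102853 F513672) (tt N118307 F513673) (tt N108377 F513674) (tt N122480 (iv5 F532378)) (tt N96160 (iv6 D222338)) (tt N112102 F513675))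
theorem Q119081 : ∀ i, i < 119081 → P i := stepQ 119080 Q119080 (allL N119080 (tt N96161 (iv1 D222339)) (tt N111613 F513678) (tt N118035 F513684) (tt N118312 (iv3 F513681)) (tt N118427 F513680) (tt N118414 (iv5 F513682)) (tt N111610 (iv6 F513683)) (tt N118309 F513679))
theorem Q119082 : ∀ i, i < 119082 → P i := stepQ 119081 Q119081 (allL N119081 (tt N96166 (iv1 D222340)) (tt N112103 F513685) (tt N112102 F513690) (tt N96176 (iv3 F513687)) (tt N119828 (iv4 F517584)) (tt N118181 (iv5 F513689)) (tt N101932 (iv6 F513688)) (tt N102853 F513686))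
theorem Q119083 : ∀ i, i < 119083 → P i := stepQ 119082 Q119082 (allL N119082 (tt N108956 (iv1 F513696)) (tt N121797 (iv0 F528380)) (tt N112100 F513691) (tt N107825 F513692) (tt N117086 F513693) (tt N108156 F513694) (tt N112103 F513695) (tt N96169 (iv7 D222341)))
theorem Q119084 : ∀ i, i < 119084 → P i := stepQ 119083 Q119083 (allL N119083 (tt N121612 F527335) (tt N109633 (iv0 F513701)) (tt N118807 F513697) (tt N96172 F513698) (tt N111997 F513699) (tt N115988 F513700) (tt N96170 (iv6 D222342)) (tt N121600 (iv7 F527263)))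
theorem Q119085 : ∀ i, i < 119085 → P i := stepQ 119084 Q119084 (allL N119084 (tt N112178 F513706) (tt N117525 (iv0 F513707)) (tt N121599 (iv2 F527254)) (tt N96175 F513702) (tt N100696 F513703) (tt N116980 F513704) (tt N96173 (iv6 D222343)) (tt N111584 F513705))
theorem Q119086 : ∀ i, i < 119086 → P i := stepQ 119085 Q119085 (allL N119085 (tt N107719 (iv1 F513711)) (tt N96177 (iv0 D222344)) (tt N107852 (iv2 F513710)) (tt N122091 (iv3 F530101)) (tt N120436 (iv4 F520777)) (tt N97031 F513708) (tt N96720 F513709) (tt N107790 F513712))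
theorem Q119087 : ∀ i, i < 119087 → P i := stepQ 119086 Q119086 (allL N119086 (tt N116675 F513718) (tt N121436 (iv0 F526364)) (tt N99174 F513713) (tt N96183 F513714) (tt N98792 F513715) (tt N108350 F513716) (tt N96181 (iv6 D222345)) (tt N99169 F513717))
theorem Q119088 : ∀ i, i < 119088 → P i := stepQ 119087 Q119087 (allL N119087 (tt N107129 (iv1 F513724)) (tt N96187 (iv0 D222346)) (tt N107128 (iv2 F513723)) (tt N108717 F513721) (tt N118789 F513720) (tt N119075 F513719) (tt N107430 F513722) (tt N107119 F513725))
theorem Q119089 : ∀ i, i < 119089 → P i := stepQ 119088 Q119088 (allL N119088 (tt N107146 F513730) (tt N115119 (iv0 F513731)) (tt N115062 F513726) (tt N96190 (iv3 D222347)) (tt N106908 F513727) (tt N121182 (iv5 F524988)) (tt N99385 F513728) (tt N105063 F513729))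
theorem Q119090 : ∀ i, i < 119090 → P i := stepQ 119089 Q119089 (allL N119089 (tt N99505 F513735) (tt N99503 F513736) (tt N99528 F513732) (tt N121182 (iv3 F524989)) (tt N120008 (iv4 F518530)) (tt N96190 (iv5 D222348)) (tt N105551 F513733) (tt N99529 F513734))
theorem Q119091 : ∀ i, i < 119091 → P i := stepQ 119090 Q119090 (allL N119090 (tt N110237 F513740) (tt N118757 F513741) (tt N107189 F513737) (tt N122676 D225935) (tt N96199 (iv4 D222349)) (tt N118761 F513738) (tt N120475 (iv6 F520969)) (tt N107194 F513739))
theorem Q119092 : ∀ i, i < 119092 → P i := stepQ 119091 Q119091 (allL N119091 (tt N96200 (iv1 D222350)) (tt N107187 F513742) (tt N107186 F513748) (tt N114615 (iv3 F513746)) (tt N116477 F513744) (tt N116530 F513745) (tt N108014 (iv6 F513747)) (tt N107175 F513743))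
theorem Q119093 : ∀ i, i < 119093 → P i := stepQ 119092 Q119092 (allL N119092 (tt N121936 F529168) (tt N122536 (iv0 F532713)) (tt N119110 (iv2 F513839)) (tt N96203 F513749) (tt N122311 (iv4 F531345)) (tt N96202 (iv5 D222351)) (tt N113409 F513750) (tt N101448 F513751))
theorem Q119094 : ∀ i, i < 119094 → P i := stepQ 119093 Q119093 (allL N119093 (tt N107341 F513756) (tt N98904 F513757) (tt N107202 F513752) (tt N118240 (iv3 F513758)) (tt N96203 (iv4 D222352)) (tt N118753 F513753) (tt N113410 F513754) (tt N101451 F513755))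
theorem Q119095 : ∀ i, i < 119095 → P i := stepQ 119094 Q119094 (allL N119094 (tt N115207 F513764) (tt N103956 F513765) (tt N115206 F513759) (tt N104341 F513760) (tt N96221 (iv4 D222353)) (tt N115155 F513761) (tt N115234 F513762) (tt N114229 F513763))
theorem Q119096 : ∀ i, i < 119096 → P i := stepQ 119095 Q119095 (allL N119095 (tt N107494 F513769) (tt N117288 F513770) (tt N107287 F513766) (tt N122677 D225936) (tt N96244 (iv4 D222354)) (tt N107961 F513767) (tt N121385 F526076) (tt N101654 F513768))
theorem Q119097 : ∀ i, i < 119097 → P i := stepQ 119096 Q119096 (allL N119096 (tt N101646 F513774) (tt N101645 (iv0 F513775)) (tt N101647 F513771) (tt N121248 F525361) (tt N121385 (iv4 F526073)) (tt N112797 F513772) (tt N96244 (iv6 D222355)) (tt N101610 F513773))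
theorem Q119098 : ∀ i, i < 119098 → P i := stepQ 119097 Q119097 (allL N119097 (tt N121973 F529396) (tt N119839 (iv0 F517635)) (tt N117820 F513776) (tt N100117 F513777) (tt N110828 F513778) (tt N121761 (iv5 F528154)) (tt N96257 (iv6 D222356)) (tt N110586 (iv7 F513779)))
theorem Q119099 : ∀ i, i < 119099 → P i := stepQ 119098 Q119098 (allL N119098 (tt N119972 (iv1 F518333)) (tt N121520 (iv0 F526831)) (tt N121637 (iv2 F527469)) (tt N96263 (iv3 D222357)) (tt N119868 (iv4 F517781)) (tt N122515 (iv5 F532589)) (tt N121476 (iv6 F526585)) (tt N119167 F514159))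
theorem Q119100 : ∀ i, i < 119100 → P i := stepQ 119099 Q119099 (allL N119099 (tt N96264 (iv1 D222358)) (tt N110879 F513780) (tt N110877 (iv2 F513783)) (tt N120319 (iv3 F520173)) (tt N110903 F513782) (tt N120334 (iv5 F520233)) (tt N112953 (iv6 F513784)) (tt N110876 F513781))
theorem Q119101 : ∀ i, i < 119101 → P i := stepQ 119100 Q119100 (allL N119100 (tt N110296 F513790) (tt N106800 F513791) (tt N109224 F513785) (tt N96266 F513786) (tt N112803 F513787) (tt N102754 F513788) (tt N96265 (iv6 D222359)) (tt N119021 F513789))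
theorem Q119102 : ∀ i, i < 119102 → P i := stepQ 119101 Q119101 (allL N119101 (tt N110226 F513796) (tt N110224 F513797) (tt N110340 F513792) (tt N96274 F513793) (tt N121882 (iv4 F528884)) (tt N96269 (iv5 D222360)) (tt N96272 F513794) (tt N113196 F513795))
theorem Q119103 : ∀ i, i < 119103 → P i := stepQ 119102 Q119102 (allL N119102 (tt N105297 F513802) (tt N101503 F513803) (tt N112529 F513798) (tt N99244 (iv3 F513804)) (tt N96274 (iv4 D222361)) (tt N97020 F513799) (tt N96276 F513800) (tt N112528 F513801))
theorem Q119104 : ∀ i, i < 119104 → P i := stepQ 119103 Q119103 (allL N119103 (tt N106672 F513807) (tt N121542 (iv0 F526947)) (tt N121994 (iv2 F529522)) (tt N96276 (iv3 D222362)) (tt N121588 (iv4 F527187)) (tt N99166 F513805) (tt N99244 F513806) (tt N121514 (iv7 F526794)))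
theorem Q119105 : ∀ i, i < 119105 → P i := stepQ 119104 Q119104 (allL N119104 (tt N108438 F513813) (tt N119951 F518214) (tt N116729 F513808) (tt N96282 F513809) (tt N116378 F513810) (tt N99461 F513811) (tt N96279 (iv6 D222363)) (tt N107929 F513812))
theorem Q119106 : ∀ i, i < 119106 → P i := stepQ 119105 Q119105 (allL N119105 (tt N105951 F513819) (tt N106258 (iv0 F513820)) (tt N106229 F513814) (tt N107256 F513815) (tt N96287 F513816) (tt N107984 F513817) (tt N96286 (iv6 D222364)) (tt N106257 F513818))
theorem Q119107 : ∀ i, i < 119107 → P i := stepQ 119106 Q119106 (allL N119106 (tt N106983 F513824) (tt N121747 F528082) (tt N107248 F513821) (tt N96289 F513822) (tt N107256 F513823) (tt N122678 D225937) (tt N96288 (iv6 D222365)) (tt N121746 (iv7 F528077)))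
theorem Q119108 : ∀ i, i < 119108 → P i := stepQ 119107 Q119107 (allL N119107 (tt N96289 (iv1 D222366)) (tt N116642 F513825) (tt N116598 F513830) (tt N106681 (iv3 F513828)) (tt N116592 (iv4 F513827)) (tt N122314 (iv5 F531363)) (tt N116591 (iv6 F513829)) (tt N118562 F513826))
theorem Q119109 : ∀ i, i < 119109 → P i := stepQ 119108 Q119108 (allL N119108 (tt N122265 (iv1 F531064)) (tt N122264 (iv0 F531057)) (tt N118582 F513831) (tt N122678 (iv3 F533552)) (tt N112988 (iv4 F513833)) (tt N96289 (iv5 D222367)) (tt N113734 F513832) (tt N122679 D225938))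
theorem Q119110 : ∀ i, i < 119110 → P i := stepQ 119109 Q119109 (allL N119109 (tt N116598 (iv1 F513837)) (tt N118562 F513838) (tt N116642 F513834) (tt N121746 (iv3 F528075)) (tt N96295 F513835) (tt N122679 (iv5 F533561)) (tt N116384 F513836) (tt N96289 (iv7 D222368)))
theorem Q119111 : ∀ i, i < 119111 → P i := stepQ 119110 Q119110 (allL N119110 (tt N118772 F513842) (tt N118769 F513841) (tt N119092 F513839) (tt N114020 F513840) (tt N122297 (iv4 F531259)) (tt N96293 (iv5 D222369)) (tt N121781 (iv6 F528274)) (tt N120391 F520540))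
theorem Q119112 : ∀ i, i < 119112 → P i := stepQ 119111 Q119111 (allL N119111 (tt N113389 F513845) (tt N120098 (iv0 F519032)) (tt N121118 (iv2 F524596)) (tt N109952 F513844) (tt N96294 (iv4 D222370)) (tt N120230 (iv5 F519719)) (tt N116535 F513843) (tt N119752 (iv7 F517240)))
theorem Q119113 : ∀ i, i < 119113 → P i := stepQ 119112 Q119112 (allL N119112 (tt N118972 F513849) (tt N113875 F513850) (tt N109462 F513846) (tt N96301 F513847) (tt N119133 (iv4 F513966)) (tt N96300 (iv5 D222371)) (tt N120011 (iv6 F518550)) (tt N109464 F513848))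
theorem Q119114 : ∀ i, i < 119114 → P i := stepQ 119113 Q119113 (allL N119113 (tt N109864 F513854) (tt N109785 F513855) (tt N96511 F513851) (tt N109789 F513852) (tt N96310 (iv4 D222372)) (tt N119873 (iv5 F517812)) (tt N113652 F513856) (tt N96509 F513853))
theorem Q119115 : ∀ i, i < 119115 → P i := stepQ 119114 Q119114 (allL N119114 (tt N108915 F513861) (tt N120425 (iv0 F520716)) (tt N96512 F513857) (tt N115015 F513858) (tt N113652 F513859) (tt N118026 F513860) (tt N96310 (iv6 D222373)) (tt N120440 (iv7 F520796)))
theorem Q119116 : ∀ i, i < 119116 → P i := stepQ 119115 Q119115 (allL N119115 (tt N109785 F513865) (tt N109864 F513866) (tt N96509 F513862) (tt N120379 (iv3 F520469)) (tt N96311 (iv4 D222374)) (tt N121833 (iv5 F528589)) (tt N116330 F513863) (tt N96511 F513864))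
theorem Q119117 : ∀ i, i < 119117 → P i := stepQ 119116 Q119116 (allL N119116 (tt N108145 F513872) (tt N109857 F513871) (tt N113308 F513867) (tt N99511 F513868) (tt N98371 F513869) (tt N96325 (iv5 D222375)) (tt N113310 F513873) (tt N96572 F513870))
theorem Q119118 : ∀ i, i < 119118 → P i := stepQ 119117 Q119117 (allL N119117 (tt N96329 (iv1 D222376)) (tt N120414 F520657) (tt N112021 (iv2 F513875)) (tt N122680 D225939) (tt N112020 F513874) (tt N122331 (iv5 F531462)) (tt N120410 (iv6 F520634)) (tt N120401 (iv7 F520593)))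
theorem Q119119 : ∀ i, i < 119119 → P i := stepQ 119118 Q119118 (allL N119118 (tt N96585 (iv1 F513880)) (tt N96336 (iv0 D222377)) (tt N96584 (iv2 F513879)) (tt N112839 F513877) (tt N111089 F513876) (tt N120345 (iv5 F520299)) (tt N96555 F513878) (tt N96523 F513881))
theorem Q119120 : ∀ i, i < 119120 → P i := stepQ 119119 Q119119 (allL N119119 (tt N114984 F513886) (tt N114924 F513887) (tt N115031 F513882) (tt N96337 (iv3 D222378)) (tt N122126 (iv4 F530320)) (tt N96359 F513883) (tt N96362 F513884) (tt N101558 F513885))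
theorem Q119121 : ∀ i, i < 119121 → P i := stepQ 119120 Q119120 (allL N119120 (tt N96388 F513893) (tt N121782 (iv0 F528284)) (tt N119045 F513888) (tt N96341 F513889) (tt N96514 F513892) (tt N96339 (iv5 D222379)) (tt N118377 F513890) (tt N96633 F513891))
theorem Q119122 : ∀ i, i < 119122 → P i := stepQ 119121 Q119121 (allL N119121 (tt N102194 F513898) (tt N97428 F513899) (tt N96636 F513894) (tt N97425 F513895) (tt N102058 F513896) (tt N96343 (iv5 D222380)) (tt N120603 F521704) (tt N96638 F513897))
theorem Q119123 : ∀ i, i < 119123 → P i := stepQ 119122 Q119122 (allL N119122 (tt N114919 F513904) (tt N96385 F513905) (tt N119426 (iv2 F515548)) (tt N96352 F513900) (tt N115347 F513903) (tt N96351 (iv5 D222381)) (tt N101948 F513901) (tt N96609 F513902))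
theorem Q119124 : ∀ i, i < 119124 → P i := stepQ 119123 Q119123 (allL N119123 (tt N96717 F513910) (tt N111551 (iv0 F513911)) (tt N96606 F513906) (tt N101948 F513907) (tt N114915 F513908) (tt N101940 F513909) (tt N96352 (iv6 D222382)) (tt N121757 (iv7 F528137)))
theorem Q119125 : ∀ i, i < 119125 → P i := stepQ 119124 Q119124 (allL N119124 (tt N115089 F513915) (tt N115000 (iv0 F513917)) (tt N96359 F513912) (tt N96644 F513913) (tt N113115 F513914) (tt N115031 F513916) (tt N96354 (iv6 D222383)) (tt N122366 (iv7 F531667)))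
theorem Q119126 : ∀ i, i < 119126 → P i := stepQ 119125 Q119125 (allL N119125 (tt N122062 (iv1 F529931)) (tt N115562 F513922) (tt N96362 F513918) (tt N96647 F513919) (tt N115560 F513923) (tt N96355 (iv5 D222384)) (tt N115031 F513920) (tt N112050 F513921))
theorem Q119127 : ∀ i, i < 119127 → P i := stepQ 119126 Q119126 (allL N119126 (tt N122366 (iv1 F531666)) (tt N96359 (iv0 D222385)) (tt N115089 (iv2 F513928)) (tt N96655 F513926) (tt N114513 F513925) (tt N118736 F513924) (tt N101072 F513927) (tt N115000 F513929))
theorem Q119128 : ∀ i, i < 119128 → P i := stepQ 119127 Q119127 (allL N119127 (tt N118132 F513933) (tt N122040 (iv0 F529794)) (tt N118808 F513930) (tt N115989 F513931) (tt N122027 (iv4 F529720)) (tt N96361 (iv5 D222386)) (tt N115988 F513932) (tt N121639 (iv7 F527483)))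
theorem Q119129 : ∀ i, i < 119129 → P i := stepQ 119128 Q119128 (allL N119128 (tt N112050 (iv1 F513937)) (tt N96362 (iv0 D222387)) (tt N122062 (iv2 F529937)) (tt N100548 F513935) (tt N111568 F513934) (tt N111384 F513938) (tt N111558 F513936) (tt N115562 (iv7 F513939)))
theorem Q119130 : ∀ i, i < 119130 → P i := stepQ 119129 Q119129 (allL N119129 (tt N96362 (iv1 D222388)) (tt N112050 F513940) (tt N115562 F513944) (tt N122072 F529996) (tt N115656 (iv4 F513942)) (tt N112407 F513941) (tt N115552 (iv6 F513943)) (tt N122062 (iv7 F529932)))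
theorem Q119131 : ∀ i, i < 119131 → P i := stepQ 119130 Q119130 (allL N119130 (tt N96382 F513949) (tt N96382 (iv0 F513950)) (tt N96665 F513945) (tt N96364 (iv3 D222389)) (tt N121010 (iv4 F524001)) (tt N118735 F513946) (tt N100653 F513947) (tt N96665 F513948))
theorem Q119132 : ∀ i, i < 119132 → P i := stepQ 119131 Q119131 (allL N119131 (tt N109866 F513956) (tt N96653 F513957) (tt N116374 F513951) (tt N96367 F513952) (tt N109112 F513953) (tt N96366 (iv5 D222390)) (tt N96370 F513954) (tt N96379 F513955))
theorem Q119133 : ∀ i, i < 119133 → P i := stepQ 119132 Q119132 (allL N119132 (tt N96385 F513962) (tt N114919 F513963) (tt N96609 F513958) (tt N96668 F513959) (tt N100560 F513960) (tt N96369 (iv5 D222391)) (tt N100561 F513961) (tt N119426 (iv7 F515552)))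
theorem Q119134 : ∀ i, i < 119134 → P i := stepQ 119133 Q119133 (allL N119133 (tt N96370 (iv1 D222392)) (tt N113763 F513964) (tt N96621 F513968) (tt N96670 (iv3 F513967)) (tt N119112 F513966) (tt N97496 F513965) (tt N121955 (iv6 F529280)) (tt N121787 (iv7 F528319)))
theorem Q119135 : ∀ i, i < 119135 → P i := stepQ 119134 Q119134 (allL N119134 (tt N118689 F513972) (tt N117942 F513973) (tt N96628 F513969) (tt N103729 F513970) (tt N96373 (iv4 D222393)) (tt N119575 (iv5 F516333)) (tt N103727 F513971) (tt N119150 (iv7 F514057)))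
theorem Q119136 : ∀ i, i < 119136 → P i := stepQ 119135 Q119135 (allL N119135 (tt N96381 F513979) (tt N96374 (iv0 D222394)) (tt N103741 (iv2 F513977)) (tt N116887 F513976) (tt N96454 F513975) (tt N103740 F513974) (tt N110478 F513978) (tt N119184 (iv7 F514249)))
theorem Q119137 : ∀ i, i < 119137 → P i := stepQ 119136 Q119136 (allL N119136 (tt N119184 (iv1 F514251)) (tt N103741 (iv0 F513984)) (tt N96381 F513980) (tt N97808 F513981) (tt N96375 F513982) (tt N97807 F513983) (tt N116368 (iv6 F513985)) (tt N96374 (iv7 D222395)))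
theorem Q119138 : ∀ i, i < 119138 → P i := stepQ 119137 Q119137 (allL N119137 (tt N96665 F513990) (tt N96665 (iv0 F513991)) (tt N96382 F513986) (tt N113761 F513987) (tt N116368 F513988) (tt N121670 (iv5 F527644)) (tt N96375 (iv6 D222396)) (tt N96382 F513989))
theorem Q119139 : ∀ i, i < 119139 → P i := stepQ 119138 Q119138 (allL N119138 (tt N121782 (iv1 F528285)) (tt N96388 F513996) (tt N96633 F513992) (tt N96667 F513993) (tt N96513 F513994) (tt N96378 (iv5 D222397)) (tt N115024 F513997) (tt N119045 F513995))
theorem Q119140 : ∀ i, i < 119140 → P i := stepQ 119139 Q119139 (allL N119139 (tt N119638 F516649) (tt N119679 (iv0 F516878)) (tt N109107 F513998) (tt N96381 (iv3 D222398)) (tt N109122 F513999) (tt N109106 F514000) (tt N113764 (iv6 F514002)) (tt N109118 F514001))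
theorem Q119141 : ∀ i, i < 119141 → P i := stepQ 119140 Q119140 (allL N119140 (tt N122632 F533288) (tt N122632 (iv0 F533287)) (tt N116368 F514003) (tt N113764 F514004) (tt N96382 F514005) (tt N122498 (iv5 F532493)) (tt N96381 (iv6 D222399)) (tt N116368 F514006))
theorem Q119142 : ∀ i, i < 119142 → P i := stepQ 119141 Q119141 (allL N119141 (tt N121667 F527636) (tt N121667 (iv0 F527635)) (tt N121670 F527647) (tt N101906 F514007) (tt N122681 D225940) (tt N96382 (iv5 D222400)) (tt N96383 F514008) (tt N121670 F527648))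
theorem Q119143 : ∀ i, i < 119143 → P i := stepQ 119142 Q119142 (allL N119142 (tt N118223 F514011) (tt N122664 F533474) (tt N122565 (iv2 F532876)) (tt N116353 F514009) (tt N96383 (iv4 D222401)) (tt N115003 F514010) (tt N122681 (iv6 F533572)) (tt N120784 (iv7 F522694)))
theorem Q119144 : ∀ i, i < 119144 → P i := stepQ 119143 Q119143 (allL N119143 (tt N96633 (iv1 F514017)) (tt N119045 F514016) (tt N96388 (iv2 D222402)) (tt N114919 F514012) (tt N114695 F514013) (tt N109280 F514014) (tt N110442 F514015) (tt N121782 (iv7 F528283)))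
theorem Q119145 : ∀ i, i < 119145 → P i := stepQ 119144 Q119144 (allL N119144 (tt N120871 F523198) (tt N120874 F523216) (tt N109394 F514018) (tt N96389 (iv3 D222403)) (tt N121164 (iv4 F524884)) (tt N109422 F514019) (tt N114581 F514020) (tt N104792 F514021))
theorem Q119146 : ∀ i, i < 119146 → P i := stepQ 119145 Q119145 (allL N119145 (tt N96390 (iv1 D222404)) (tt N114573 F514022) (tt N96695 F514028) (tt N96678 (iv3 F514026)) (tt N98643 F514025) (tt N99332 F514024) (tt N96695 (iv6 F514027)) (tt N115758 F514023))
theorem Q119147 : ∀ i, i < 119147 → P i := stepQ 119146 Q119146 (allL N119146 (tt N103531 F514033) (tt N109659 F514032) (tt N119488 (iv2 F515860)) (tt N103735 F514029) (tt N104073 F514031) (tt N96391 (iv5 D222405)) (tt N106150 F514030) (tt N119497 F515913))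
theorem Q119148 : ∀ i, i < 119148 → P i := stepQ 119147 Q119147 (allL N119147 (tt N109659 F514037) (tt N103531 F514038) (tt N119497 (iv2 F515908)) (tt N97681 F514034) (tt N104072 F514035) (tt N96392 (iv5 D222406)) (tt N97923 F514036) (tt N119488 (iv7 F515863)))
theorem Q119149 : ∀ i, i < 119149 → P i := stepQ 119148 Q119148 (allL N119148 (tt N96393 (iv1 D222407)) (tt N117941 F514039) (tt N117940 (iv2 F514044)) (tt N102925 (iv3 F514043)) (tt N97897 F514042) (tt N118689 F514041) (tt N111797 (iv6 F514045)) (tt N97894 F514040))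
theorem Q119150 : ∀ i, i < 119150 → P i := stepQ 119149 Q119149 (allL N119149 (tt N96611 (iv1 F514052)) (tt N96704 F514051) (tt N96400 (iv2 D222408)) (tt N96714 F514046) (tt N98191 F514047) (tt N112830 F514048) (tt N96671 F514049) (tt N96705 F514050))
theorem Q119151 : ∀ i, i < 119151 → P i := stepQ 119150 Q119150 (allL N119150 (tt N119212 (iv1 F514388)) (tt N119211 F514385) (tt N96406 F514053) (tt N103532 F514054) (tt N96405 (iv4 D222409)) (tt N103531 F514055) (tt N118379 F514056) (tt N119134 F514057))
theorem Q119152 : ∀ i, i < 119152 → P i := stepQ 119151 Q119151 (allL N119151 (tt N99008 (iv1 F514063)) (tt N96418 (iv0 D222410)) (tt N118754 (iv2 F514062)) (tt N100460 F514060) (tt N96446 F514059) (tt N101451 F514058) (tt N108131 F514061) (tt N118753 F514064))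
theorem Q119153 : ∀ i, i < 119153 → P i := stepQ 119152 Q119152 (allL N119152 (tt N115055 F514067) (tt N96498 (iv0 F514068)) (tt N119190 F514276) (tt N96427 (iv3 D222411)) (tt N114569 F514065) (tt N100924 F514066) (tt N114568 (iv6 F514069)) (tt N119183 (iv7 F514242)))
theorem Q119154 : ∀ i, i < 119154 → P i := stepQ 119153 Q119153 (allL N119153 (tt N101396 F514073) (tt N116148 (iv0 F514074)) (tt N114570 F514070) (tt N114568 F514071) (tt N113879 F514072) (tt N122075 (iv5 F530011)) (tt N96427 (iv6 D222412)) (tt N114568 (iv7 F514075)))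
theorem Q119155 : ∀ i, i < 119155 → P i := stepQ 119154 Q119154 (allL N119154 (tt N110489 F514079) (tt N96503 (iv0 F514080)) (tt N106529 F514076) (tt N96431 (iv3 D222413)) (tt N105499 (iv4 F514081)) (tt N117301 F514077) (tt N101401 F514078) (tt N119189 (iv7 F514271)))
theorem Q119156 : ∀ i, i < 119156 → P i := stepQ 119155 Q119155 (allL N119155 (tt N100560 F514086) (tt N115347 F514087) (tt N107656 F514082) (tt N99898 F514083) (tt N96434 (iv4 D222414)) (tt N109102 F514084) (tt N109359 F514085) (tt N121077 (iv7 F524396)))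
theorem Q119157 : ∀ i, i < 119157 → P i := stepQ 119156 Q119156 (allL N119156 (tt N109464 F514092) (tt N109462 F514093) (tt N118972 F514088) (tt N114724 F514094) (tt N96438 (iv4 D222415)) (tt N110306 F514089) (tt N114754 F514090) (tt N113875 F514091))
theorem Q119158 : ∀ i, i < 119158 → P i := stepQ 119157 Q119157 (allL N119157 (tt N121952 (iv1 F529264)) (tt N121951 (iv0 F529258)) (tt N114488 F514095) (tt N107324 F514096) (tt N96440 F514097) (tt N122437 (iv5 F532096)) (tt N96439 (iv6 D222416)) (tt N122454 (iv7 F532211)))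
theorem Q119159 : ∀ i, i < 119159 → P i := stepQ 119158 Q119158 (allL N119158 (tt N101054 F514103) (tt N101053 (iv0 F514104)) (tt N101333 F514098) (tt N110136 F514099) (tt N107419 F514100) (tt N117520 F514101) (tt N96442 (iv6 D222417)) (tt N101334 F514102))
theorem Q119160 : ∀ i, i < 119160 → P i := stepQ 119159 Q119159 (allL N119159 (tt N96501 F514110) (tt N107227 (iv0 F514111)) (tt N107774 F514105) (tt N96443 (iv3 D222418)) (tt N105726 F514106) (tt N99304 F514107) (tt N101395 F514108) (tt N110486 F514109))
theorem Q119161 : ∀ i, i < 119161 → P i := stepQ 119160 Q119160 (allL N119160 (tt N119031 F514116) (tt N109166 F514117) (tt N118749 F514112) (tt N118161 F514113) (tt N96462 (iv4 D222419)) (tt N109028 F514114) (tt N121050 (iv6 F524235)) (tt N118205 F514115))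
theorem Q119162 : ∀ i, i < 119162 → P i := stepQ 119161 Q119161 (allL N119161 (tt N106143 F514122) (tt N106148 (iv0 F514123)) (tt N115020 F514118) (tt N96464 F514119) (tt N121050 (iv4 F524233)) (tt N118339 F514120) (tt N96462 (iv6 D222420)) (tt N108905 F514121))
theorem Q119163 : ∀ i, i < 119163 → P i := stepQ 119162 Q119162 (allL N119162 (tt N100132 F514128) (tt N110193 (iv0 F514129)) (tt N105372 F514124) (tt N118162 F514125) (tt N96464 F514126) (tt N120412 (iv5 F520642)) (tt N96463 (iv6 D222421)) (tt N110192 F514127))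
theorem Q119164 : ∀ i, i < 119164 → P i := stepQ 119163 Q119163 (allL N119163 (tt N112005 F514134) (tt N100829 F514135) (tt N112007 F514130) (tt N96469 F514131) (tt N110138 F514136) (tt N96468 (iv5 D222422)) (tt N118715 F514132) (tt N112006 F514133))
theorem Q119165 : ∀ i, i < 119165 → P i := stepQ 119164 Q119164 (allL N119164 (tt N96474 (iv1 D222423)) (tt N108904 F514137) (tt N98609 F514142) (tt N112228 (iv3 F514141)) (tt N98293 F514140) (tt N108901 F514139) (tt N114927 F514143) (tt N108900 F514138))
theorem Q119166 : ∀ i, i < 119166 → P i := stepQ 119165 Q119165 (allL N119165 (tt N120378 (iv1 F520468)) (tt N96475 (iv0 D222424)) (tt N110195 (iv2 F514147)) (tt N121681 (iv3 F527709)) (tt N110610 F514145) (tt N100977 F514144) (tt N118350 F514146) (tt N120427 (iv7 F520728)))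
theorem Q119167 : ∀ i, i < 119167 → P i := stepQ 119166 Q119166 (allL N119166 (tt N96493 (iv1 D222425)) (tt N99102 F514148) (tt N99391 F514154) (tt N99408 (iv3 F514152)) (tt N99089 F514151) (tt N104177 F514150) (tt N110803 (iv6 F514153)) (tt N107292 F514149))
theorem Q119168 : ∀ i, i < 119168 → P i := stepQ 119167 Q119167 (allL N119167 (tt N110802 F514158) (tt N122586 (iv0 F533006)) (tt N108086 F514155) (tt N96494 F514156) (tt N99097 F514157) (tt N122512 (iv5 F532573)) (tt N96493 (iv6 D222426)) (tt N119098 (iv7 F514159)))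
theorem Q119169 : ∀ i, i < 119169 → P i := stepQ 119168 Q119168 (allL N119168 (tt N113344 F514163) (tt N121442 (iv0 F526401)) (tt N122292 (iv2 F531228)) (tt N96496 F514160) (tt N121493 (iv4 F526676)) (tt N113341 F514161) (tt N96495 (iv6 D222427)) (tt N116801 (iv7 F514162)))
theorem Q119170 : ∀ i, i < 119170 → P i := stepQ 119169 Q119169 (allL N119169 (tt N121683 (iv1 F527725)) (tt N114665 (iv0 F514167)) (tt N121682 (iv2 F527718)) (tt N96502 (iv3 D222428)) (tt N101338 F514164) (tt N122280 (iv5 F531149)) (tt N101336 F514165) (tt N116375 F514166))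
theorem Q119171 : ∀ i, i < 119171 → P i := stepQ 119170 Q119170 (allL N119170 (tt N109809 F514172) (tt N109070 F514173) (tt N106356 F514168) (tt N122280 (iv3 F531147)) (tt N111803 F514169) (tt N96502 (iv5 D222429)) (tt N101944 F514170) (tt N109863 F514171))
theorem Q119172 : ∀ i, i < 119172 → P i := stepQ 119171 Q119171 (allL N119171 (tt N96503 (iv1 D222430)) (tt N110489 F514174) (tt N119189 (iv2 F514268)) (tt N110484 F514178) (tt N106530 (iv4 F514179)) (tt N117307 F514176) (tt N115043 (iv6 F514177)) (tt N106529 F514175))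
theorem Q119173 : ∀ i, i < 119173 → P i := stepQ 119172 Q119172 (allL N119172 (tt N119189 F514273) (tt N106529 (iv0 F514183)) (tt N110489 F514180) (tt N101053 F514181) (tt N122593 (iv4 F533047)) (tt N121327 (iv5 F525785)) (tt N107227 F514182) (tt N96503 (iv7 D222431)))
theorem Q119174 : ∀ i, i < 119174 → P i := stepQ 119173 Q119173 (allL N119173 (tt N118463 F514188) (tt N118462 (iv0 F514189)) (tt N96518 F514184) (tt N118508 F514185) (tt N96507 (iv4 D222432)) (tt N122529 (iv5 F532668)) (tt N110456 F514186) (tt N118461 F514187))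
theorem Q119175 : ∀ i, i < 119175 → P i := stepQ 119174 Q119174 (allL N119174 (tt N116331 F514193) (tt N105592 (iv0 F514195)) (tt N116330 F514190) (tt N105416 F514191) (tt N96510 F514192) (tt N105448 (iv5 F514194)) (tt N96509 (iv6 D222433)) (tt N105420 F514196))
theorem Q119176 : ∀ i, i < 119176 → P i := stepQ 119175 Q119175 (allL N119175 (tt N121792 F528349) (tt N116303 (iv0 F514200)) (tt N117348 F514197) (tt N96511 (iv3 D222434)) (tt N114770 F514198) (tt N113250 F514199) (tt N116309 F514201) (tt N120379 (iv7 F520472)))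
theorem Q119177 : ∀ i, i < 119177 → P i := stepQ 119176 Q119176 (allL N119176 (tt N113654 F514207) (tt N113645 (iv0 F514208)) (tt N113652 F514202) (tt N116309 F514203) (tt N96512 F514204) (tt N116581 F514205) (tt N96511 (iv6 D222435)) (tt N113653 F514206))
theorem Q119178 : ∀ i, i < 119178 → P i := stepQ 119177 Q119177 (allL N119177 (tt N96512 (iv1 D222436)) (tt N120440 F520797) (tt N120425 (iv2 F520712)) (tt N108919 (iv3 F514212)) (tt N113869 F514211) (tt N108916 F514210) (tt N113868 F514213) (tt N108915 F514209))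
theorem Q119179 : ∀ i, i < 119179 → P i := stepQ 119178 Q119178 (allL N119178 (tt N122630 F533276) (tt N122662 (iv0 F533461)) (tt N122442 (iv2 F532125)) (tt N107490 F514214) (tt N121567 (iv4 F527072)) (tt N96515 (iv5 D222437)) (tt N121566 F527070) (tt N116724 F514215))
theorem Q119180 : ∀ i, i < 119180 → P i := stepQ 119179 Q119179 (allL N119179 (tt N117800 F514218) (tt N117865 (iv0 F514219)) (tt N121431 (iv2 F526330)) (tt N122559 (iv3 F532844)) (tt N96516 (iv4 D222438)) (tt N122530 (iv5 F532674)) (tt N117605 F514216) (tt N118699 F514217))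
theorem Q119181 : ∀ i, i < 119181 → P i := stepQ 119180 Q119180 (allL N119180 (tt N107249 (iv1 F514226)) (tt N118586 (iv0 F514225)) (tt N118564 F514220) (tt N116598 F514221) (tt N96517 (iv4 D222439)) (tt N116559 F514222) (tt N116596 F514223) (tt N118584 F514224))
theorem Q119182 : ∀ i, i < 119182 → P i := stepQ 119181 Q119181 (allL N119181 (tt N118461 (iv1 F514230)) (tt N96518 (iv0 D222440)) (tt N118463 (iv2 F514229)) (tt N120570 (iv3 F521507)) (tt N112644 F514228) (tt N116563 F514227) (tt N120055 F518805) (tt N118462 F514231))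
theorem Q119183 : ∀ i, i < 119183 → P i := stepQ 119182 Q119182 (allL N119182 (tt N96520 (iv1 D222441)) (tt N105261 F514232) (tt N105263 F514238) (tt N113872 (iv3 F514236)) (tt N101486 F514235) (tt N97764 F514234) (tt N101484 (iv6 F514237)) (tt N105083 F514233))
theorem Q119184 : ∀ i, i < 119184 → P i := stepQ 119183 Q119183 (allL N119183 (tt N96554 F514244) (tt N96570 F514245) (tt N118686 F514239) (tt N96525 F514240) (tt N114976 F514243) (tt N96524 (iv5 D222442)) (tt N96525 F514241) (tt N119152 F514242))
theorem Q119185 : ∀ i, i < 119185 → P i := stepQ 119184 Q119184 (allL N119184 (tt N109029 F514250) (tt N119136 F514251) (tt N102795 F514246) (tt N120822 (iv3 F522918)) (tt N96535 (iv4 D222443)) (tt N102794 F514247) (tt N118247 F514248) (tt N119135 F514249))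
theorem Q119186 : ∀ i, i < 119186 → P i := stepQ 119185 Q119185 (allL N119185 (tt N121165 F524894) (tt N120431 (iv0 F520750)) (tt N96549 F514252) (tt N114978 F514253) (tt N121188 F525030) (tt N118242 F514254) (tt N96547 (iv6 D222444)) (tt N114996 F514255))
theorem Q119187 : ∀ i, i < 119187 → P i := stepQ 119186 Q119186 (allL N119186 (tt N114996 F514259) (tt N96549 (iv0 D222445)) (tt N121165 (iv2 F524888)) (tt N100977 F514256) (tt N109795 (iv4 F514258)) (tt N121681 (iv5 F527711)) (tt N101092 F514257) (tt N120431 (iv7 F520749)))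
theorem Q119188 : ∀ i, i < 119188 → P i := stepQ 119187 Q119187 (allL N119187 (tt N96549 (iv1 D222446)) (tt N114996 F514260) (tt N120431 (iv2 F520746)) (tt N103083 (iv3 F514262)) (tt N119018 F514264) (tt N110194 F514261) (tt N103082 (iv6 F514263)) (tt N121165 (iv7 F524892)))
theorem Q119189 : ∀ i, i < 119189 → P i := stepQ 119188 Q119188 (allL N119188 (tt N120431 F520751) (tt N121165 (iv0 F524893)) (tt N114996 F514265) (tt N96553 F514266) (tt N121187 (iv4 F525023)) (tt N121443 (iv5 F526405)) (tt N114994 F514267) (tt N96549 (iv7 D222447)))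
theorem Q119190 : ∀ i, i < 119190 → P i := stepQ 119189 Q119189 (allL N119189 (tt N96571 F514272) (tt N119172 (iv0 F514273)) (tt N119171 F514268) (tt N96551 (iv3 D222448)) (tt N121143 (iv4 F524755)) (tt N118214 F514269) (tt N114993 F514270) (tt N119154 F514271))
theorem Q119191 : ∀ i, i < 119191 → P i := stepQ 119190 Q119190 (allL N119190 (tt N96570 (iv1 F514277)) (tt N96554 (iv0 D222449)) (tt N119152 (iv2 F514276)) (tt N118202 (iv3 F514279)) (tt N111178 F514275) (tt N96567 F514274) (tt N120452 (iv6 F520860)) (tt N118686 F514278))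
theorem Q119192 : ∀ i, i < 119192 → P i := stepQ 119191 Q119191 (allL N119191 (tt N120510 F521173) (tt N96573 (iv0 D222450)) (tt N116362 (iv2 F514282)) (tt N119558 (iv3 F516241)) (tt N108749 F514283) (tt N110495 F514280) (tt N108755 F514281) (tt N116361 F514284))
theorem Q119193 : ∀ i, i < 119193 → P i := stepQ 119192 Q119192 (allL N119192 (tt N108629 F514288) (tt N115393 F514289) (tt N120514 (iv2 F521191)) (tt N96663 F514285) (tt N96573 (iv4 D222451)) (tt N113667 F514287) (tt N96576 F514286) (tt N120513 (iv7 F521188)))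
theorem Q119194 : ∀ i, i < 119194 → P i := stepQ 119193 Q119193 (allL N119193 (tt N96576 (iv1 D222452)) (tt N111403 F514290) (tt N115993 F514296) (tt N114839 (iv3 F514294)) (tt N101898 F514293) (tt N112852 F514292) (tt N96816 (iv6 F514295)) (tt N115976 F514291))
theorem Q119195 : ∀ i, i < 119195 → P i := stepQ 119194 Q119194 (allL N119194 (tt N111159 F514302) (tt N114507 F514303) (tt N114508 F514297) (tt N96578 F514298) (tt N115171 F514299) (tt N114284 F514300) (tt N96577 (iv6 D222453)) (tt N114283 F514301))
theorem Q119196 : ∀ i, i < 119196 → P i := stepQ 119195 Q119195 (allL N119195 (tt N122425 (iv1 F532031)) (tt N120347 (iv0 F520311)) (tt N119558 (iv2 F516240)) (tt N96580 (iv3 D222454)) (tt N122034 (iv4 F529763)) (tt N114980 F514304) (tt N110851 F514305) (tt N115012 F514306))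
theorem Q119197 : ∀ i, i < 119197 → P i := stepQ 119196 Q119196 (allL N119196 (tt N115034 F514311) (tt N112223 F514312) (tt N122085 (iv2 F530066)) (tt N96583 (iv3 D222455)) (tt N112272 F514307) (tt N101396 F514308) (tt N108224 F514309) (tt N115559 F514310))
theorem Q119198 : ∀ i, i < 119198 → P i := stepQ 119197 Q119197 (allL N119197 (tt N118808 F514315) (tt N121639 (iv0 F527482)) (tt N122040 (iv2 F529791)) (tt N96588 (iv3 D222456)) (tt N120517 (iv4 F521208)) (tt N96786 F514313) (tt N121654 F527565) (tt N118132 F514314))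
theorem Q119199 : ∀ i, i < 119199 → P i := stepQ 119198 Q119198 (allL N119198 (tt N100537 (iv1 F514319)) (tt N96590 (iv0 D222457)) (tt N111706 (iv2 F514318)) (tt N122077 (iv3 F530028)) (tt N122682 D225941) (tt N101534 F514316) (tt N118691 F514317) (tt N118177 F514320))
theorem Q119200 : ∀ i, i < 119200 → P i := stepQ 119199 Q119199 (allL N119199 (tt N122281 (iv1 F531158)) (tt N122628 (iv0 F533262)) (tt N119630 (iv2 F516605)) (tt N122683 D225942) (tt N96590 (iv4 D222458)) (tt N98610 F514322) (tt N108858 F514321) (tt N121666 (iv7 F527630)))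
theorem Q119201 : ∀ i, i < 119201 → P i := stepQ 119200 Q119200 (allL N119200 (tt N108864 F514327) (tt N108864 F514328) (tt N118735 F514323) (tt N96591 (iv3 D222459)) (tt N122683 (iv4 F533584)) (tt N96665 F514324) (tt N118827 F514325) (tt N118735 F514326))
theorem Q119202 : ∀ i, i < 119202 → P i := stepQ 119201 Q119201 (allL N119201 (tt N105455 (iv1 F514334)) (tt N105486 F514333) (tt N96594 (iv2 D222460)) (tt N105488 F514329) (tt N104551 F514330) (tt N116313 F514331) (tt N122419 (iv6 F531996)) (tt N105487 F514332))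
theorem Q119203 : ∀ i, i < 119203 → P i := stepQ 119202 Q119202 (allL N119202 (tt N120374 F520446) (tt N121788 (iv0 F528324)) (tt N122419 (iv2 F531993)) (tt N96595 F514335) (tt N104553 F514336) (tt N121175 (iv5 F524946)) (tt N96594 (iv6 D222461)) (tt N118805 F514337))
theorem Q119204 : ∀ i, i < 119204 → P i := stepQ 119203 Q119203 (allL N119203 (tt N104629 F514342) (tt N102450 F514343) (tt N103542 F514338) (tt N111245 F514339) (tt N96596 (iv4 D222462)) (tt N113789 F514341) (tt N103779 F514340) (tt N121793 (iv7 F528352)))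
theorem Q119205 : ∀ i, i < 119205 → P i := stepQ 119204 Q119204 (allL N119204 (tt N96598 (iv1 F514347)) (tt N96600 F514348) (tt N96597 F514344) (tt N116312 F514345) (tt N121793 (iv4 F528351)) (tt N105223 F514346) (tt N121177 (iv6 F524959)) (tt N96596 (iv7 D222463)))
theorem Q119206 : ∀ i, i < 119206 → P i := stepQ 119205 Q119205 (allL N119205 (tt N102450 F514352) (tt N104629 F514351) (tt N121793 (iv2 F528350)) (tt N102283 F514349) (tt N96597 (iv4 D222464)) (tt N120920 (iv5 F523480)) (tt N122130 (iv6 F530345)) (tt N103542 F514350))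
theorem Q119207 : ∀ i, i < 119207 → P i := stepQ 119206 Q119206 (allL N119206 (tt N121757 F528139) (tt N96606 (iv0 D222465)) (tt N96717 (iv2 F514355)) (tt N120026 (iv3 F518630)) (tt N104074 F514354) (tt N111552 F514353) (tt N120024 (iv6 F518619)) (tt N111551 F514356))
theorem Q119208 : ∀ i, i < 119208 → P i := stepQ 119207 Q119207 (allL N119207 (tt N111551 (iv1 F514361)) (tt N96717 F514362) (tt N121757 (iv2 F528133)) (tt N102996 F514357) (tt N114983 F514358) (tt N102995 F514359) (tt N96704 F514360) (tt N96606 (iv7 D222466)))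
theorem Q119209 : ∀ i, i < 119209 → P i := stepQ 119208 Q119208 (allL N119208 (tt N110594 F514368) (tt N96617 F514369) (tt N96721 F514363) (tt N117649 F514364) (tt N96607 (iv4 D222467)) (tt N112473 F514365) (tt N111976 F514366) (tt N112046 F514367))
theorem Q119210 : ∀ i, i < 119210 → P i := stepQ 119209 Q119209 (allL N119209 (tt N107989 F514375) (tt N107967 F514376) (tt N107988 F514370) (tt N116620 F514371) (tt N96618 (iv4 D222468)) (tt N104763 F514372) (tt N116481 F514373) (tt N107966 F514374))
theorem Q119211 : ∀ i, i < 119211 → P i := stepQ 119210 Q119210 (allL N119210 (tt N113291 F514380) (tt N110864 F514381) (tt N107032 F514377) (tt N119899 F517931) (tt N96619 (iv4 D222469)) (tt N97998 F514378) (tt N112351 F514379) (tt N119921 (iv7 F518051)))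
theorem Q119212 : ∀ i, i < 119212 → P i := stepQ 119211 Q119211 (allL N119211 (tt N119150 (iv1 F514385)) (tt N96628 (iv0 D222470)) (tt N118689 F514387) (tt N111179 F514384) (tt N118202 F514383) (tt N117940 F514382) (tt N121011 (iv6 F524004)) (tt N117942 (iv7 F514386)))
theorem Q119213 : ∀ i, i < 119213 → P i := stepQ 119212 Q119212 (allL N119212 (tt N96628 (iv1 D222471)) (tt N119150 F514388) (tt N117942 (iv2 F514393)) (tt N119437 (iv3 F515622)) (tt N118203 F514391) (tt N97894 F514390) (tt N117942 (iv6 F514392)) (tt N118689 F514389))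
theorem Q119214 : ∀ i, i < 119214 → P i := stepQ 119213 Q119213 (allL N119213 (tt N110846 F514398) (tt N110845 (iv0 F514399)) (tt N110847 F514394) (tt N118819 F514395) (tt N96641 F514396) (tt N122068 (iv5 F529970)) (tt N96640 (iv6 D222472)) (tt N110844 F514397))
theorem Q119215 : ∀ i, i < 119215 → P i := stepQ 119214 Q119214 (allL N119214 (tt N96656 (iv1 F514404)) (tt N96644 (iv0 D222473)) (tt N96654 (iv2 F514401)) (tt N115000 F514400) (tt N120586 (iv4 F521607)) (tt N122506 (iv5 F532534)) (tt N101416 F514402) (tt N96655 F514403))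
theorem Q119216 : ∀ i, i < 119216 → P i := stepQ 119215 Q119215 (allL N119215 (tt N96655 (iv1 F514409)) (tt N96654 F514410) (tt N96656 F514405) (tt N122366 F531670) (tt N118150 F514406) (tt N115599 F514407) (tt N96669 F514408) (tt N96644 (iv7 D222474)))
theorem Q119217 : ∀ i, i < 119217 → P i := stepQ 119216 Q119216 (allL N119216 (tt N96664 (iv1 F514414)) (tt N96647 (iv0 D222475)) (tt N96661 F514416) (tt N100550 (iv3 F514415)) (tt N115733 F514412) (tt N97762 F514411) (tt N121656 F527576) (tt N96662 (iv7 F514413)))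
theorem Q119218 : ∀ i, i < 119218 → P i := stepQ 119217 Q119217 (allL N119217 (tt N96647 (iv1 D222476)) (tt N96664 F514417) (tt N96662 F514423) (tt N101898 (iv3 F514421)) (tt N115609 F514420) (tt N97761 F514419) (tt N115608 (iv6 F514422)) (tt N96661 F514418))
theorem Q119219 : ∀ i, i < 119219 → P i := stepQ 119218 Q119218 (allL N119218 (tt N96662 (iv1 F514429)) (tt N96661 F514430) (tt N96664 F514424) (tt N112050 F514425) (tt N115708 F514426) (tt N96648 F514427) (tt N100546 F514428) (tt N96647 (iv7 D222477)))
theorem Q119220 : ∀ i, i < 119220 → P i := stepQ 119219 Q119219 (allL N119219 (tt N111815 F514435) (tt N97610 (iv0 F514436)) (tt N115777 F514431) (tt N96651 (iv3 D222478)) (tt N102344 F514432) (tt N119467 (iv5 F515769)) (tt N102343 F514433) (tt N115416 F514434))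
theorem Q119221 : ∀ i, i < 119221 → P i := stepQ 119220 Q119220 (allL N119220 (tt N113572 F514438) (tt N113571 F514439) (tt N122506 F532538) (tt N116364 F514437) (tt N122402 (iv4 F531888)) (tt N96654 (iv5 D222479)) (tt N121330 (iv6 F525805)) (tt N121646 (iv7 F527520)))
theorem Q119222 : ∀ i, i < 119222 → P i := stepQ 119221 Q119221 (allL N119221 (tt N113571 F514443) (tt N113572 F514444) (tt N121646 (iv2 F527517)) (tt N118736 F514440) (tt N117476 F514442) (tt N96655 (iv5 D222480)) (tt N114802 F514441) (tt N122506 (iv7 F532540)))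
theorem Q119223 : ∀ i, i < 119223 → P i := stepQ 119222 Q119222 (allL N119222 (tt N118108 F514449) (tt N111397 F514450) (tt N115733 F514445) (tt N100725 F514446) (tt N96661 (iv4 D222481)) (tt N113595 F514447) (tt N115951 F514451) (tt N115609 F514448))
theorem Q119224 : ∀ i, i < 119224 → P i := stepQ 119223 Q119223 (allL N119223 (tt N112205 F514456) (tt N114799 F514457) (tt N121656 (iv2 F527577)) (tt N115975 F514452) (tt N115951 F514453) (tt N111559 F514454) (tt N96661 (iv6 D222482)) (tt N115994 F514455))
theorem Q119225 : ∀ i, i < 119225 → P i := stepQ 119224 Q119224 (allL N119224 (tt N115477 (iv1 F514462)) (tt N115475 F514463) (tt N115708 F514458) (tt N120513 (iv3 F521185)) (tt N96664 F514459) (tt N115687 F514460) (tt N100549 F514461) (tt N96663 (iv7 D222483)))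
theorem Q119226 : ∀ i, i < 119226 → P i := stepQ 119225 Q119225 (allL N119225 (tt N96681 (iv1 D222484)) (tt N107469 F514464) (tt N105647 (iv2 F514470)) (tt N115101 (iv3 F514468)) (tt N100000 F514467) (tt N105643 F514466) (tt N115099 (iv6 F514469)) (tt N116301 F514465))
theorem Q119227 : ∀ i, i < 119227 → P i := stepQ 119226 Q119226 (allL N119226 (tt N115101 F514473) (tt N101767 (iv0 F514474)) (tt N122280 (iv2 F531146)) (tt N96683 (iv3 D222485)) (tt N116303 F514471) (tt N121682 (iv5 F527714)) (tt N106351 F514472) (tt N122291 (iv7 F531225)))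
theorem Q119228 : ∀ i, i < 119228 → P i := stepQ 119227 Q119227 (allL N119227 (tt N120172 F519424) (tt N107405 F514478) (tt N106359 F514475) (tt N121682 F527716) (tt N114339 F514476) (tt N96683 (iv5 D222486)) (tt N106353 F514477) (tt N120166 (iv7 F519387)))
theorem Q119229 : ∀ i, i < 119229 → P i := stepQ 119228 Q119228 (allL N119228 (tt N115030 F514484) (tt N120024 (iv0 F518620)) (tt N115021 F514479) (tt N118376 F514480) (tt N98608 F514481) (tt N115052 F514482) (tt N96693 (iv6 D222487)) (tt N119044 F514483))
theorem Q119230 : ∀ i, i < 119230 → P i := stepQ 119229 Q119229 (allL N119229 (tt N107479 (iv1 F514491)) (tt N99415 F514490) (tt N96696 (iv2 D222488)) (tt N104177 F514485) (tt N107282 F514486) (tt N99408 F514487) (tt N101766 F514488) (tt N107461 F514489))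
theorem Q119231 : ∀ i, i < 119231 → P i := stepQ 119230 Q119230 (allL N119230 (tt N96703 (iv1 D222489)) (tt N105640 (iv0 F514498)) (tt N105426 F514497) (tt N106363 (iv3 F514495)) (tt N105425 F514494) (tt N108360 F514493) (tt N107483 (iv6 F514496)) (tt N99417 F514492))
theorem Q119232 : ∀ i, i < 119232 → P i := stepQ 119231 Q119231 (allL N119231 (tt N99417 (iv1 F514505)) (tt N105426 F514504) (tt N96703 (iv2 D222490)) (tt N116376 F514499) (tt N107655 F514500) (tt N105981 F514501) (tt N107469 F514502) (tt N105640 F514503))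
theorem Q119233 : ∀ i, i < 119233 → P i := stepQ 119232 Q119232 (allL N119232 (tt N102995 F514510) (tt N101940 (iv0 F514511)) (tt N122169 (iv2 F530551)) (tt N96719 (iv3 D222491)) (tt N111545 F514506) (tt N101055 F514507) (tt N112373 F514508) (tt N112296 F514509))
theorem Q119234 : ∀ i, i < 119234 → P i := stepQ 119233 Q119233 (allL N119233 (tt N112460 F514517) (tt N98304 F514518) (tt N112473 F514512) (tt N96732 F514513) (tt N109245 F514514) (tt N96721 (iv5 D222492)) (tt N112472 F514515) (tt N112060 F514516))
theorem Q119235 : ∀ i, i < 119235 → P i := stepQ 119234 Q119234 (allL N119234 (tt N96729 (iv1 D222493)) (tt N99028 F514519) (tt N108922 F514524) (tt N121135 (iv3 F524704)) (tt N98828 F514522) (tt N110643 F514521) (tt N103157 (iv6 F514523)) (tt N108907 F514520))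
theorem Q119236 : ∀ i, i < 119236 → P i := stepQ 119235 Q119235 (allL N119235 (tt N112260 F514530) (tt N118922 F514531) (tt N111851 F514525) (tt N104901 F514526) (tt N105860 F514527) (tt N96754 (iv5 D222494)) (tt N111780 F514528) (tt N111755 F514529))
theorem Q119237 : ∀ i, i < 119237 → P i := stepQ 119236 Q119236 (allL N119236 (tt N106815 (iv1 F514537)) (tt N96773 (iv0 D222495)) (tt N106818 (iv2 F514536)) (tt N111722 F514534) (tt N115409 F514533) (tt N104004 F514532) (tt N118112 F514535) (tt N106817 F514538))
theorem Q119238 : ∀ i, i < 119238 → P i := stepQ 119237 Q119237 (allL N119237 (tt N96940 F514544) (tt N96937 F514545) (tt N115713 F514539) (tt N115325 F514540) (tt N96776 (iv4 D222496)) (tt N104032 F514541) (tt N108277 F514542) (tt N104031 F514543))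
theorem Q119239 : ∀ i, i < 119239 → P i := stepQ 119238 Q119238 (allL N119238 (tt N108951 F514551) (tt N117460 (iv0 F514552)) (tt N106109 F514546) (tt N111628 F514547) (tt N108934 F514548) (tt N111627 F514549) (tt N96791 (iv6 D222497)) (tt N114571 F514550))
theorem Q119240 : ∀ i, i < 119240 → P i := stepQ 119239 Q119239 (allL N119239 (tt N109269 F514558) (tt N100021 (iv0 F514559)) (tt N109311 F514553) (tt N107585 F514554) (tt N96809 F514555) (tt N109266 F514556) (tt N96808 (iv6 D222498)) (tt N109292 F514557))
theorem Q119241 : ∀ i, i < 119241 → P i := stepQ 119240 Q119240 (allL N119240 (tt N108590 F514564) (tt N108589 (iv0 F514565)) (tt N108592 F514560) (tt N115565 F514561) (tt N115568 F514563) (tt N96810 (iv5 D222499)) (tt N121653 (iv6 F527557)) (tt N108577 F514562))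
theorem Q119242 : ∀ i, i < 119242 → P i := stepQ 119241 Q119241 (allL N119241 (tt N108588 F514572) (tt N96811 (iv0 D222500)) (tt N111879 (iv2 F514570)) (tt N97129 F514567) (tt N118384 F514568) (tt N97128 F514566) (tt N111877 F514569) (tt N115982 (iv7 F514571)))
theorem Q119243 : ∀ i, i < 119243 → P i := stepQ 119242 Q119242 (allL N119242 (tt N96811 (iv1 D222501)) (tt N108588 F514573) (tt N115982 F514579) (tt N111882 (iv3 F514576)) (tt N115573 F514575) (tt N97342 (iv5 F514577)) (tt N115971 (iv6 F514578)) (tt N111879 F514574))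
theorem Q119244 : ∀ i, i < 119244 → P i := stepQ 119243 Q119243 (allL N119243 (tt N115982 (iv1 F514584)) (tt N111879 F514585) (tt N108588 F514580) (tt N114805 F514581) (tt N121663 (iv4 F527614)) (tt N96812 F514582) (tt N108631 F514583) (tt N96811 (iv7 D222502)))
theorem Q119245 : ∀ i, i < 119245 → P i := stepQ 119244 Q119244 (allL N119244 (tt N111978 F514591) (tt N111456 F514592) (tt N111899 F514586) (tt N96814 F514587) (tt N111505 F514590) (tt N96813 (iv5 D222503)) (tt N117434 F514588) (tt N106810 F514589))
theorem Q119246 : ∀ i, i < 119246 → P i := stepQ 119245 Q119245 (allL N119245 (tt N115601 F514599) (tt N115604 F514598) (tt N96828 F514593) (tt N118869 F514594) (tt N113127 F514595) (tt N96826 (iv5 D222504)) (tt N108742 F514596) (tt N115603 F514597))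
theorem Q119247 : ∀ i, i < 119247 → P i := stepQ 119246 Q119246 (allL N119246 (tt N122445 F532151) (tt N122111 (iv0 F530238)) (tt N118916 F514603) (tt N96829 (iv3 D222505)) (tt N113128 F514600) (tt N121319 (iv5 F525739)) (tt N113129 F514601) (tt N118914 F514602))
theorem Q119248 : ∀ i, i < 119248 → P i := stepQ 119247 Q119247 (allL N119247 (tt N119257 (iv1 F514667)) (tt N106883 F514609) (tt N96834 F514604) (tt N118865 F514605) (tt N99270 F514606) (tt N96831 (iv5 D222506)) (tt N97245 F514607) (tt N112286 F514608))
theorem Q119249 : ∀ i, i < 119249 → P i := stepQ 119248 Q119248 (allL N119248 (tt N107167 F514615) (tt N107211 F514616) (tt N107924 F514610) (tt N96887 F514611) (tt N99049 F514612) (tt N96836 (iv5 D222507)) (tt N103160 F514613) (tt N107519 F514614))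
theorem Q119250 : ∀ i, i < 119250 → P i := stepQ 119249 Q119249 (allL N119249 (tt N117791 F514622) (tt N113277 (iv0 F514623)) (tt N108028 F514617) (tt N96841 (iv3 D222508)) (tt N105055 F514618) (tt N99052 F514619) (tt N107355 F514620) (tt N105052 F514621))
theorem Q119251 : ∀ i, i < 119251 → P i := stepQ 119250 Q119250 (allL N119250 (tt N108827 F514630) (tt N108828 F514629) (tt N110131 F514624) (tt N96845 F514625) (tt N98851 F514628) (tt N96843 (iv5 D222509)) (tt N98851 F514626) (tt N110087 F514627))
theorem Q119252 : ∀ i, i < 119252 → P i := stepQ 119251 Q119251 (allL N119251 (tt N109573 F514634) (tt N117455 F514635) (tt N116636 F514631) (tt N121811 (iv3 F528459)) (tt N116386 F514632) (tt N96844 (iv5 D222510)) (tt N121740 (iv6 F528049)) (tt N116649 F514633))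
theorem Q119253 : ∀ i, i < 119253 → P i := stepQ 119252 Q119252 (allL N119252 (tt N122250 (iv1 F531012)) (tt N117583 (iv0 F514639)) (tt N116637 F514636) (tt N121471 (iv3 F526559)) (tt N97344 F514637) (tt N122684 D225943) (tt N96844 (iv6 D222511)) (tt N97337 F514638))
theorem Q119254 : ∀ i, i < 119254 → P i := stepQ 119253 Q119253 (allL N119253 (tt N113284 F514645) (tt N113286 F514646) (tt N116641 F514640) (tt N98852 F514641) (tt N96845 (iv4 D222512)) (tt N114080 F514644) (tt N98852 F514642) (tt N116638 F514643))
theorem Q119255 : ∀ i, i < 119255 → P i := stepQ 119254 Q119254 (allL N119254 (tt N99124 F514650) (tt N99043 (iv0 F514651)) (tt N121601 (iv2 F527265)) (tt N96857 (iv3 D222513)) (tt N118782 F514647) (tt N99039 F514648) (tt N119687 (iv6 F516919)) (tt N96897 F514649))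
theorem Q119256 : ∀ i, i < 119256 → P i := stepQ 119255 Q119255 (allL N119255 (tt N116079 F514657) (tt N116078 F514658) (tt N116080 F514652) (tt N118111 F514653) (tt N118999 F514654) (tt N96861 (iv5 D222514)) (tt N118998 F514655) (tt N116077 F514656))
theorem Q119257 : ∀ i, i < 119257 → P i := stepQ 119256 Q119256 (allL N119256 (tt N115209 F514662) (tt N120272 (iv0 F519950)) (tt N118954 F514659) (tt N121418 (iv3 F526245)) (tt N96868 (iv4 D222515)) (tt N118954 F514661) (tt N121418 (iv6 F526248)) (tt N118934 F514660))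
theorem Q119258 : ∀ i, i < 119258 → P i := stepQ 119257 Q119257 (allL N119257 (tt N96886 F514666) (tt N119247 F514667) (tt N111135 F514663) (tt N108942 F514664) (tt N119838 (iv4 F517627)) (tt N96881 (iv5 D222516)) (tt N118616 F514668) (tt N111136 F514665))
theorem Q119259 : ∀ i, i < 119259 → P i := stepQ 119258 Q119258 (allL N119258 (tt N118274 F514672) (tt N118868 (iv0 F514673)) (tt N118834 F514669) (tt N96888 F514670) (tt N119940 (iv4 F518144)) (tt N121711 (iv5 F527897)) (tt N96886 (iv6 D222517)) (tt N118878 F514671))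
theorem Q119260 : ∀ i, i < 119260 → P i := stepQ 119259 Q119259 (allL N119259 (tt N117901 F514678) (tt N119933 (iv0 F518112)) (tt N108306 F514674) (tt N96889 (iv3 D222518)) (tt N96892 F514675) (tt N108036 F514676) (tt N121123 (iv6 F524630)) (tt N117917 F514677))
theorem Q119261 : ∀ i, i < 119261 → P i := stepQ 119260 Q119260 (allL N119260 (tt N119784 (iv1 F517405)) (tt N96892 (iv0 D222519)) (tt N100403 (iv2 F514683)) (tt N99133 F514681) (tt N110581 F514680) (tt N99133 F514679) (tt N98786 F514682) (tt N110736 F514684))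
theorem Q119262 : ∀ i, i < 119262 → P i := stepQ 119261 Q119261 (allL N119261 (tt N100403 (iv1 F514688)) (tt N110736 F514687) (tt N96892 (iv2 D222520)) (tt N121601 (iv3 F527266)) (tt N108306 F514685) (tt N103216 F514686) (tt N119745 (iv6 F517210)) (tt N119784 (iv7 F517403)))
theorem Q119263 : ∀ i, i < 119263 → P i := stepQ 119262 Q119262 (allL N119262 (tt N121601 (iv1 F527270)) (tt N96897 (iv0 D222521)) (tt N99043 (iv2 F514692)) (tt N112691 F514690) (tt N121619 (iv4 F527364)) (tt N99031 F514689) (tt N110726 F514691) (tt N99124 (iv7 F514693)))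
theorem Q119264 : ∀ i, i < 119264 → P i := stepQ 119263 Q119263 (allL N119263 (tt N96897 (iv1 D222522)) (tt N121601 (iv0 F527269)) (tt N99124 F514699) (tt N98780 (iv3 F514696)) (tt N108313 F514695) (tt N99032 (iv5 F514697)) (tt N99113 (iv6 F514698)) (tt N99043 F514694))
theorem Q119265 : ∀ i, i < 119265 → P i := stepQ 119264 Q119264 (allL N119264 (tt N120272 (iv1 F519951)) (tt N115209 F514704) (tt N118934 F514700) (tt N104412 F514701) (tt N96919 (iv4 D222523)) (tt N118934 F514702) (tt N120785 (iv6 F522699)) (tt N118954 F514703))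
theorem Q119266 : ∀ i, i < 119266 → P i := stepQ 119265 Q119265 (allL N119265 (tt N110822 (iv1 F514710)) (tt N101853 F514711) (tt N112799 F514705) (tt N96926 F514706) (tt N101909 F514707) (tt N97336 F514708) (tt N117900 F514709) (tt N96924 (iv7 D222524)))
theorem Q119267 : ∀ i, i < 119267 → P i := stepQ 119266 Q119266 (allL N119266 (tt N122585 (iv1 F533000)) (tt N121650 (iv0 F527542)) (tt N117032 F514712) (tt N102817 F514713) (tt N103960 F514714) (tt N102814 F514715) (tt N96925 (iv6 D222525)) (tt N102813 F514716))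
theorem Q119268 : ∀ i, i < 119268 → P i := stepQ 119267 Q119267 (allL N119267 (tt N118095 (iv1 F514722)) (tt N96932 (iv0 D222526)) (tt N97339 (iv2 F514720)) (tt N111758 F514718) (tt N97331 F514717) (tt N121283 (iv5 F525549)) (tt N113867 F514719) (tt N97345 F514721))
theorem Q119269 : ∀ i, i < 119269 → P i := stepQ 119268 Q119268 (allL N119268 (tt N97345 (iv1 F514728)) (tt N97339 F514729) (tt N118095 F514723) (tt N109749 F514724) (tt N96933 F514725) (tt N109640 F514726) (tt N98365 F514727) (tt N96932 (iv7 D222527)))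
theorem Q119270 : ∀ i, i < 119270 → P i := stepQ 119269 Q119269 (allL N119269 (tt N112717 F514735) (tt N110910 F514736) (tt N112715 F514730) (tt N108258 F514731) (tt N119004 F514734) (tt N96938 (iv5 D222528)) (tt N96958 F514732) (tt N112716 F514733))
theorem Q119271 : ∀ i, i < 119271 → P i := stepQ 119270 Q119270 (allL N119270 (tt N102175 (iv1 F514741)) (tt N96947 (iv0 D222529)) (tt N102156 (iv2 F514740)) (tt N119390 (iv3 F515379)) (tt N102117 F514738) (tt N112492 F514737) (tt N102159 F514739) (tt N102192 F514742))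
theorem Q119272 : ∀ i, i < 119272 → P i := stepQ 119271 Q119271 (allL N119271 (tt N118553 F514745) (tt N117550 F514746) (tt N120443 (iv2 F520807)) (tt N118025 F514743) (tt N121613 (iv4 F527336)) (tt N96950 (iv5 D222530)) (tt N96951 F514744) (tt N120381 (iv7 F520484)))
theorem Q119273 : ∀ i, i < 119273 → P i := stepQ 119272 Q119272 (allL N119272 (tt N116080 (iv1 F514751)) (tt N116077 F514752) (tt N116078 F514747) (tt N96958 (iv3 D222531)) (tt N120203 (iv4 F519571)) (tt N101960 F514748) (tt N108258 F514749) (tt N116079 F514750))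
theorem Q119274 : ∀ i, i < 119274 → P i := stepQ 119273 Q119273 (allL N119273 (tt N112853 F514757) (tt N116056 F514758) (tt N118979 F514753) (tt N119350 (iv3 F515158)) (tt N96958 (iv4 D222532)) (tt N118979 F514754) (tt N119004 F514755) (tt N118978 F514756))
theorem Q119275 : ∀ i, i < 119275 → P i := stepQ 119274 Q119274 (allL N119274 (tt N119469 (iv1 F515779)) (tt N119468 F515776) (tt N102910 F514759) (tt N102916 F514760) (tt N96988 F514761) (tt N106250 F514763) (tt N96987 (iv6 D222533)) (tt N103815 F514762))
theorem Q119276 : ∀ i, i < 119276 → P i := stepQ 119275 Q119275 (allL N119275 (tt N96994 (iv1 D222534)) (tt N104548 F514770) (tt N104547 F514769) (tt N102592 (iv3 F514767)) (tt N104020 F514766) (tt N104791 F514765) (tt N102793 (iv6 F514768)) (tt N104465 F514764))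
theorem Q119277 : ∀ i, i < 119277 → P i := stepQ 119276 Q119276 (allL N119276 (tt N104465 (iv1 F514777)) (tt N104547 F514776) (tt N96994 (iv2 D222535)) (tt N104551 F514771) (tt N104832 F514772) (tt N115413 F514773) (tt N111793 F514774) (tt N104548 F514775))
theorem Q119278 : ∀ i, i < 119278 → P i := stepQ 119277 Q119277 (allL N119277 (tt N114173 F514781) (tt N115940 F514782) (tt N104554 F514778) (tt N120979 (iv3 F523832)) (tt N115448 F514779) (tt N116007 (iv5 F514780)) (tt N96995 (iv6 D222536)) (tt N120851 (iv7 F523083)))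
theorem Q119279 : ∀ i, i < 119279 → P i := stepQ 119278 Q119278 (allL N119278 (tt N102516 F514787) (tt N102518 F514788) (tt N104556 F514783) (tt N117047 F514784) (tt N121053 (iv4 F524250)) (tt N96996 (iv5 D222537)) (tt N116007 F514785) (tt N118990 F514786))
theorem Q119280 : ∀ i, i < 119280 → P i := stepQ 119279 Q119279 (allL N119279 (tt N104551 (iv1 F514792)) (tt N96998 (iv0 D222538)) (tt N104550 (iv2 F514791)) (tt N120969 (iv3 F523768)) (tt N113790 F514790) (tt N105202 F514789) (tt N120821 F522914) (tt N104483 F514793))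
theorem Q119281 : ∀ i, i < 119281 → P i := stepQ 119280 Q119280 (allL N119280 (tt N103331 F514798) (tt N104432 F514799) (tt N111243 F514794) (tt N102360 F514795) (tt N111240 F514796) (tt N97000 (iv5 D222539)) (tt N115748 F514797) (tt N119449 (iv7 F515681)))
theorem Q119282 : ∀ i, i < 119282 → P i := stepQ 119281 Q119281 (allL N119281 (tt N120750 F522513) (tt N119845 (iv0 F517668)) (tt N97744 F514800) (tt N102717 F514801) (tt N97002 (iv4 D222540)) (tt N117965 F514802) (tt N97006 F514803) (tt N117964 F514804))
theorem Q119283 : ∀ i, i < 119283 → P i := stepQ 119282 Q119282 (allL N119282 (tt N97573 F514810) (tt N97577 F514811) (tt N118994 F514805) (tt N98020 F514806) (tt N97004 (iv4 D222541)) (tt N98525 F514809) (tt N103393 F514807) (tt N118993 F514808))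
theorem Q119284 : ∀ i, i < 119284 → P i := stepQ 119283 Q119283 (allL N119283 (tt N97577 F514817) (tt N97573 F514818) (tt N118993 F514812) (tt N109429 F514813) (tt N97005 (iv4 D222542)) (tt N118196 F514814) (tt N116273 F514815) (tt N118994 F514816))
theorem Q119285 : ∀ i, i < 119285 → P i := stepQ 119284 Q119284 (allL N119284 (tt N118037 F514823) (tt N118036 F514824) (tt N118264 F514819) (tt N107786 F514820) (tt N101515 F514821) (tt N97009 (iv5 D222543)) (tt N101461 F514825) (tt N108470 F514822))
theorem Q119286 : ∀ i, i < 119286 → P i := stepQ 119285 Q119285 (allL N119285 (tt N110555 (iv1 F514831)) (tt N117493 (iv0 F514830)) (tt N117491 F514826) (tt N107787 F514827) (tt N103156 F514828) (tt N101462 F514829) (tt N97009 (iv6 D222544)) (tt N117490 F514832))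
theorem Q119287 : ∀ i, i < 119287 → P i := stepQ 119286 Q119286 (allL N119286 (tt N97026 F514837) (tt N97029 (iv0 F514838)) (tt N98829 F514833) (tt N107960 F514834) (tt N108907 F514835) (tt N119297 (iv5 F514901)) (tt N97010 (iv6 D222545)) (tt N98828 F514836))
theorem Q119288 : ∀ i, i < 119288 → P i := stepQ 119287 Q119287 (allL N119287 (tt N99195 F514843) (tt N99193 F514844) (tt N99165 F514839) (tt N97012 F514840) (tt N99055 F514842) (tt N97011 (iv5 D222546)) (tt N110624 F514845) (tt N99194 F514841))
theorem Q119289 : ∀ i, i < 119289 → P i := stepQ 119288 Q119288 (allL N119288 (tt N110814 F514849) (tt N110818 (iv0 F514850)) (tt N110816 F514846) (tt N97013 F514847) (tt N108486 F514848) (tt N121252 (iv5 F525384)) (tt N97011 (iv6 D222547)) (tt N110815 (iv7 F514851)))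
theorem Q119290 : ∀ i, i < 119290 → P i := stepQ 119289 Q119289 (allL N119289 (tt N112186 F514857) (tt N97013 (iv0 D222548)) (tt N118267 (iv2 F514854)) (tt N107690 (iv3 F514855)) (tt N108908 F514852) (tt N121456 (iv5 F526477)) (tt N110641 F514853) (tt N118268 F514856))
theorem Q119291 : ∀ i, i < 119291 → P i := stepQ 119290 Q119290 (allL N119290 (tt N97013 (iv1 D222549)) (tt N112186 F514858) (tt N118268 F514862) (tt N110708 (iv3 F514861)) (tt N108909 F514860) (tt N122202 (iv5 F530745)) (tt N117015 F514863) (tt N118267 F514859))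
theorem Q119292 : ∀ i, i < 119292 → P i := stepQ 119291 Q119291 (allL N119291 (tt N122676 F533543) (tt N122067 (iv0 F529966)) (tt N118269 F514864) (tt N121252 (iv3 F525383)) (tt N119888 F517877) (tt N97013 (iv5 D222550)) (tt N121886 (iv6 F528907)) (tt N113436 F514871))
theorem Q119293 : ∀ i, i < 119293 → P i := stepQ 119292 Q119292 (allL N119292 (tt N118268 (iv1 F514869)) (tt N118267 F514872) (tt N112186 F514865) (tt N110815 F514866) (tt N97016 F514867) (tt N113436 (iv5 F514870)) (tt N113437 F514868) (tt N97013 (iv7 D222551)))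
theorem Q119294 : ∀ i, i < 119294 → P i := stepQ 119293 Q119293 (allL N119293 (tt N113437 F514878) (tt N97020 (iv0 D222552)) (tt N118266 (iv2 F514876)) (tt N119728 (iv3 F517132)) (tt N101339 F514874) (tt N101309 F514873) (tt N118817 F514875) (tt N98825 (iv7 F514877)))
theorem Q119295 : ∀ i, i < 119295 → P i := stepQ 119294 Q119294 (allL N119294 (tt N97020 (iv1 D222553)) (tt N113437 F514879) (tt N98825 F514885) (tt N112596 (iv3 F514883)) (tt N99488 F514882) (tt N101310 F514881) (tt N97414 (iv6 F514884)) (tt N118266 F514880))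
theorem Q119296 : ∀ i, i < 119296 → P i := stepQ 119295 Q119295 (allL N119295 (tt N98825 (iv1 F514891)) (tt N118266 F514892) (tt N113437 F514886) (tt N98835 F514887) (tt N97022 F514888) (tt N112528 F514889) (tt N112186 F514890) (tt N97020 (iv7 D222554)))
theorem Q119297 : ∀ i, i < 119297 → P i := stepQ 119296 Q119296 (allL N119296 (tt N97029 (iv1 F514896)) (tt N97026 (iv0 D222555)) (tt N98828 (iv2 F514895)) (tt N107851 F514894) (tt N108922 F514893) (tt N119298 (iv5 F514903)) (tt N117490 (iv6 F514898)) (tt N98829 F514897))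
theorem Q119298 : ∀ i, i < 119298 → P i := stepQ 119297 Q119297 (allL N119297 (tt N101466 F514902) (tt N119932 (iv0 F518104)) (tt N119708 (iv2 F517025)) (tt N116979 F514899) (tt N97027 (iv4 D222556)) (tt N119286 F514901) (tt N107679 F514900) (tt N119707 (iv7 F517022)))
theorem Q119299 : ∀ i, i < 119299 → P i := stepQ 119298 Q119298 (allL N119298 (tt N119932 F518106) (tt N101466 F514905) (tt N119707 (iv2 F517019)) (tt N121610 (iv3 F527320)) (tt N97030 (iv4 D222557)) (tt N119296 F514903) (tt N118761 F514904) (tt N119708 (iv7 F517029)))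
theorem Q119300 : ∀ i, i < 119300 → P i := stepQ 119299 Q119299 (allL N119299 (tt N116614 (iv1 F514910)) (tt N107706 (iv0 F514911)) (tt N115028 F514906) (tt N97031 (iv3 D222558)) (tt N109310 F514909) (tt N122091 (iv5 F530102)) (tt N114933 F514907) (tt N107788 F514908))
theorem Q119301 : ∀ i, i < 119301 → P i := stepQ 119300 Q119300 (allL N119300 (tt N110639 F514916) (tt N110644 F514917) (tt N107851 F514912) (tt N107961 F514913) (tt N97031 (iv4 D222559)) (tt N122677 (iv5 F533546)) (tt N116668 F514914) (tt N107789 F514915))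
theorem Q119302 : ∀ i, i < 119302 → P i := stepQ 119301 Q119301 (allL N119301 (tt N110644 F514922) (tt N110639 F514923) (tt N107789 F514918) (tt N98829 F514919) (tt N97032 (iv4 D222560)) (tt N111367 (iv5 F514924)) (tt N99310 F514920) (tt N107851 F514921))
theorem Q119303 : ∀ i, i < 119303 → P i := stepQ 119302 Q119302 (allL N119302 (tt N98185 F514930) (tt N98184 F514931) (tt N98186 F514925) (tt N109260 F514926) (tt N97058 (iv4 D222561)) (tt N98168 F514927) (tt N112364 F514928) (tt N98167 F514929))
theorem Q119304 : ∀ i, i < 119304 → P i := stepQ 119303 Q119303 (allL N119303 (tt N120005 (iv1 F518514)) (tt N118137 F514935) (tt N120006 (iv2 F518521)) (tt N117883 F514932) (tt N120070 (iv4 F518886)) (tt N97061 (iv5 D222562)) (tt N118977 F514933) (tt N118986 F514934))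
theorem Q119305 : ∀ i, i < 119305 → P i := stepQ 119304 Q119304 (allL N119304 (tt N109730 F514940) (tt N99873 (iv0 F514941)) (tt N109729 F514936) (tt N97099 (iv3 D222563)) (tt N109694 F514937) (tt N109672 F514942) (tt N113029 F514938) (tt N109719 F514939))
theorem Q119306 : ∀ i, i < 119306 → P i := stepQ 119305 Q119305 (allL N119305 (tt N116569 F514947) (tt N116566 F514948) (tt N116571 F514943) (tt N109672 F514944) (tt N97103 F514945) (tt N97099 (iv5 D222564)) (tt N121846 (iv6 F528671)) (tt N116570 F514946))
theorem Q119307 : ∀ i, i < 119307 → P i := stepQ 119306 Q119306 (allL N119306 (tt N122164 F530527) (tt N122528 F532665) (tt N117387 F514949) (tt N113008 F514950) (tt N118527 F514951) (tt N116524 F514952) (tt N97100 (iv6 D222565)) (tt N122327 (iv7 F531443)))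
theorem Q119308 : ∀ i, i < 119308 → P i := stepQ 119307 Q119307 (allL N119307 (tt N118512 F514956) (tt N118513 (iv0 F514957)) (tt N122621 (iv2 F533220)) (tt N97103 F514953) (tt N112933 F514955) (tt N97102 (iv5 D222566)) (tt N112932 F514954) (tt N122613 (iv7 F533174)))
theorem Q119309 : ∀ i, i < 119309 → P i := stepQ 119308 Q119308 (allL N119308 (tt N121466 (iv1 F526528)) (tt N121465 F526525) (tt N110898 F514958) (tt N112932 F514959) (tt N121846 (iv4 F528666)) (tt N107250 F514960) (tt N97103 (iv6 D222567)) (tt N118587 (iv7 F514961)))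
theorem Q119310 : ∀ i, i < 119310 → P i := stepQ 119309 Q119309 (allL N119309 (tt N118554 F514963) (tt N118556 F514964) (tt N121618 (iv2 F527360)) (tt N97108 F514962) (tt N120370 (iv4 F520418)) (tt N97107 (iv5 D222568)) (tt N121614 (iv6 F527341)) (tt N122612 (iv7 F533171)))
theorem Q119311 : ∀ i, i < 119311 → P i := stepQ 119310 Q119310 (allL N119310 (tt N121556 (iv1 F527030)) (tt N121557 (iv0 F527034)) (tt N118622 F514965) (tt N121614 (iv3 F527340)) (tt N119607 (iv4 F516482)) (tt N110117 F514966) (tt N97108 (iv6 D222569)) (tt N118621 (iv7 F514967)))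
theorem Q119312 : ∀ i, i < 119312 → P i := stepQ 119311 Q119311 (allL N119311 (tt N122350 (iv1 F531572)) (tt N121470 (iv0 F526557)) (tt N121083 (iv2 F524431)) (tt N122611 (iv3 F533162)) (tt N121080 (iv4 F524415)) (tt N121031 (iv5 F524117)) (tt N97109 (iv6 D222570)) (tt N122609 (iv7 F533153)))
theorem Q119313 : ∀ i, i < 119313 → P i := stepQ 119312 Q119312 (allL N119312 (tt N121720 (iv1 F527944)) (tt N97111 (iv0 D222571)) (tt N112938 F514971) (tt N118556 (iv3 F514969)) (tt N112928 (iv4 F514970)) (tt N118555 F514968) (tt N112927 F514972) (tt N122605 (iv7 F533127)))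
theorem Q119314 : ∀ i, i < 119314 → P i := stepQ 119313 Q119313 (allL N119313 (tt N97111 (iv1 D222572)) (tt N121720 (iv0 F527943)) (tt N122605 (iv2 F533124)) (tt N122538 (iv3 F532723)) (tt N112940 (iv4 F514975)) (tt N117153 F514974) (tt N118623 (iv6 F516443)) (tt N112938 F514973))
theorem Q119315 : ∀ i, i < 119315 → P i := stepQ 119314 Q119314 (allL N119314 (tt N122605 (iv1 F533129)) (tt N112938 (iv0 F514978)) (tt N121720 (iv2 F527939)) (tt N121558 (iv3 F527036)) (tt N114049 F514976) (tt N97114 F514977) (tt N122661 (iv6 F533453)) (tt N97111 (iv7 D222573)))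
theorem Q119316 : ∀ i, i < 119316 → P i := stepQ 119315 Q119315 (allL N119315 (tt N122684 (iv1 F533595)) (tt N122348 (iv0 F531562)) (tt N122611 (iv2 F533161)) (tt N118277 F514979) (tt N121231 (iv4 F525266)) (tt N97112 (iv5 D222574)) (tt N122646 (iv6 F533368)) (tt N122233 F530919))
theorem Q119317 : ∀ i, i < 119317 → P i := stepQ 119316 Q119316 (allL N119316 (tt N117898 (iv1 F514981)) (tt N121554 (iv0 F527016)) (tt N121562 (iv2 F527055)) (tt N97113 (iv3 D222575)) (tt N106472 F514980) (tt N122609 (iv5 F533151)) (tt N120136 (iv6 F519258)) (tt N121031 (iv7 F524118)))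
theorem Q119318 : ∀ i, i < 119318 → P i := stepQ 119317 Q119317 (allL N119317 (tt N122348 F531563) (tt N122684 (iv0 F533594)) (tt N122233 (iv2 F530914)) (tt N122609 (iv3 F533150)) (tt N116973 F514983) (tt N97113 (iv5 D222576)) (tt N116564 F514982) (tt N122611 (iv7 F533165)))
theorem Q119319 : ∀ i, i < 119319 → P i := stepQ 119318 Q119318 (allL N119318 (tt N108628 F514988) (tt N115959 (iv0 F514989)) (tt N108532 F514984) (tt N114106 F514985) (tt N108505 F514986) (tt N119366 (iv5 F515241)) (tt N97119 (iv6 D222577)) (tt N115960 F514987))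
theorem Q119320 : ∀ i, i < 119320 → P i := stepQ 119319 Q119319 (allL N119319 (tt N97332 (iv1 F514995)) (tt N97344 F514994) (tt N97128 (iv2 D222578)) (tt N111109 F514990) (tt N118509 F514991) (tt N111879 F514992) (tt N111108 F514996) (tt N97342 F514993))
theorem Q119321 : ∀ i, i < 119321 → P i := stepQ 119320 Q119320 (allL N119320 (tt N108950 F515002) (tt N121254 F525397) (tt N111108 F514997) (tt N97130 F514998) (tt N118529 F514999) (tt N99710 F515000) (tt N97128 (iv6 D222579)) (tt N102869 F515001))
theorem Q119322 : ∀ i, i < 119322 → P i := stepQ 119321 Q119321 (allL N119321 (tt N118870 F515006) (tt N122496 (iv0 F532486)) (tt N119341 (iv2 F515114)) (tt N97133 F515003) (tt N121203 (iv4 F525118)) (tt N97132 (iv5 D222580)) (tt N111770 F515004) (tt N118617 F515005))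
theorem Q119323 : ∀ i, i < 119323 → P i := stepQ 119322 Q119322 (allL N119322 (tt N97141 (iv1 F515012)) (tt N97154 F515011) (tt N97135 (iv2 D222581)) (tt N118616 F515007) (tt N108943 F515008) (tt N122098 (iv5 F530151)) (tt N108942 F515009) (tt N97152 F515010))
theorem Q119324 : ∀ i, i < 119324 → P i := stepQ 119323 Q119323 (allL N119323 (tt N108503 F515017) (tt N108505 F515018) (tt N122098 (iv2 F530149)) (tt N97136 F515013) (tt N99645 F515016) (tt N97135 (iv5 D222582)) (tt N111466 F515014) (tt N115502 F515015))
theorem Q119325 : ∀ i, i < 119325 → P i := stepQ 119324 Q119324 (allL N119324 (tt N117624 F515024) (tt N122125 (iv0 F530317)) (tt N118618 F515019) (tt N111466 F515020) (tt N104041 F515021) (tt N111465 F515022) (tt N97136 (iv6 D222583)) (tt N111776 F515023))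
theorem Q119326 : ∀ i, i < 119326 → P i := stepQ 119325 Q119325 (allL N119325 (tt N113559 (iv1 F515030)) (tt N106872 (iv0 F515029)) (tt N113560 F515025) (tt N97150 F515026) (tt N115315 F515027) (tt N122400 (iv5 F531874)) (tt N97142 (iv6 D222584)) (tt N108562 F515028))
theorem Q119327 : ∀ i, i < 119327 → P i := stepQ 119326 Q119326 (allL N119326 (tt N117577 F515036) (tt N117576 F515035) (tt N117578 F515031) (tt N97153 F515032) (tt N102984 F515033) (tt N97143 (iv5 D222585)) (tt N122400 (iv6 F531875)) (tt N115896 F515034))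
theorem Q119328 : ∀ i, i < 119328 → P i := stepQ 119327 Q119327 (allL N119327 (tt N117661 F515040) (tt N117660 (iv0 F515041)) (tt N108561 F515037) (tt N122400 (iv3 F531872)) (tt N120049 (iv4 F518763)) (tt N97150 (iv5 D222586)) (tt N97153 F515038) (tt N108563 F515039))
theorem Q119329 : ∀ i, i < 119329 → P i := stepQ 119328 Q119328 (allL N119328 (tt N108505 F515044) (tt N108503 F515045) (tt N115502 F515042) (tt N119341 (iv3 F515115)) (tt N121065 (iv4 F524323)) (tt N97152 (iv5 D222587)) (tt N111313 F515043) (tt N122098 (iv7 F530152)))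
theorem Q119330 : ∀ i, i < 119330 → P i := stepQ 119329 Q119329 (allL N119329 (tt N106706 (iv1 F515051)) (tt N103985 F515050) (tt N97158 (iv2 D222588)) (tt N111943 F515046) (tt N97314 F515047) (tt N103981 F515048) (tt N111942 F515049) (tt N119354 (iv7 F515184)))
theorem Q119331 : ∀ i, i < 119331 → P i := stepQ 119330 Q119330 (allL N119330 (tt N99715 F515057) (tt N103280 F515058) (tt N103447 F515052) (tt N112079 F515053) (tt N112867 F515054) (tt N97166 (iv5 D222589)) (tt N111749 F515055) (tt N103446 F515056))
theorem Q119332 : ∀ i, i < 119332 → P i := stepQ 119331 Q119331 (allL N119331 (tt N104990 F515061) (tt N104988 F515062) (tt N119347 (iv2 F515142)) (tt N115910 F515059) (tt N121724 (iv4 F527966)) (tt N97169 (iv5 D222590)) (tt N115861 F515060) (tt N122631 (iv7 F533281)))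
theorem Q119333 : ∀ i, i < 119333 → P i := stepQ 119332 Q119332 (allL N119332 (tt N97192 (iv1 F515068)) (tt N97191 F515069) (tt N97190 F515063) (tt N104028 F515064) (tt N108245 F515065) (tt N100442 F515066) (tt N97181 F515067) (tt N97178 (iv7 D222591)))
theorem Q119334 : ∀ i, i < 119334 → P i := stepQ 119333 Q119333 (allL N119333 (tt N105871 F515075) (tt N115702 F515076) (tt N105902 F515070) (tt N105770 F515071) (tt N103418 F515072) (tt N97193 (iv5 D222592)) (tt N114349 F515073) (tt N116292 F515074))
theorem Q119335 : ∀ i, i < 119335 → P i := stepQ 119334 Q119334 (allL N119334 (tt N100404 F515082) (tt N99133 F515083) (tt N98777 F515077) (tt N99015 F515078) (tt N109480 F515079) (tt N97212 (iv5 D222593)) (tt N112681 F515080) (tt N100402 F515081))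
theorem Q119336 : ∀ i, i < 119336 → P i := stepQ 119335 Q119335 (allL N119335 (tt N110961 (iv1 F515087)) (tt N97218 (iv0 D222594)) (tt N110958 (iv2 F515086)) (tt N122448 (iv3 F532167)) (tt N111625 F515085) (tt N98592 F515084) (tt N122411 (iv6 F531944)) (tt N110959 F515088))
theorem Q119337 : ∀ i, i < 119337 → P i := stepQ 119336 Q119336 (allL N119336 (tt N117192 F515093) (tt N117199 (iv0 F515094)) (tt N117198 F515089) (tt N97219 (iv3 D222595)) (tt N122558 (iv4 F532839)) (tt N117919 F515090) (tt N112236 F515091) (tt N110969 F515092))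
theorem Q119338 : ∀ i, i < 119338 → P i := stepQ 119337 Q119337 (allL N119337 (tt N110972 (iv1 F515099)) (tt N97220 (iv0 D222596)) (tt N104898 (iv2 F515098)) (tt N111755 F515097) (tt N97251 F515096) (tt N111753 F515095) (tt N104991 (iv6 F515101)) (tt N104901 F515100))
theorem Q119339 : ∀ i, i < 119339 → P i := stepQ 119338 Q119338 (allL N119338 (tt N117030 F515106) (tt N117029 F515107) (tt N111416 F515102) (tt N112263 F515103) (tt N97221 (iv4 D222597)) (tt N120009 (iv5 F518538)) (tt N111414 F515104) (tt N114124 F515105))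
theorem Q119340 : ∀ i, i < 119340 → P i := stepQ 119339 Q119339 (allL N119339 (tt N97234 F515110) (tt N122492 (iv0 F532459)) (tt N122494 (iv2 F532467)) (tt N97222 (iv3 D222598)) (tt N120938 (iv4 F523579)) (tt N99661 F515108) (tt N120710 (iv6 F522273)) (tt N99660 F515109))
theorem Q119341 : ∀ i, i < 119341 → P i := stepQ 119340 Q119340 (allL N119340 (tt N99660 F515113) (tt N122494 (iv0 F532472)) (tt N97234 F515111) (tt N108744 F515112) (tt N122405 (iv4 F531904)) (tt N97227 (iv5 D222599)) (tt N121712 (iv6 F527904)) (tt N122492 (iv7 F532458)))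
theorem Q119342 : ∀ i, i < 119342 → P i := stepQ 119341 Q119341 (allL N119341 (tt N120039 (iv1 F518704)) (tt N120038 (iv0 F518699)) (tt N119321 F515114) (tt N119328 F515115) (tt N121052 (iv4 F524247)) (tt N97233 (iv5 D222600)) (tt N109541 F515116) (tt N122665 (iv7 F533480)))
theorem Q119343 : ∀ i, i < 119343 → P i := stepQ 119342 Q119342 (allL N119342 (tt N122492 F532460) (tt N97234 (iv0 D222601)) (tt N99660 (iv2 F515119)) (tt N108496 F515118) (tt N122685 D225944) (tt N99655 F515117) (tt N120946 (iv6 F523628)) (tt N122494 (iv7 F532471)))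
theorem Q119344 : ∀ i, i < 119344 → P i := stepQ 119343 Q119343 (allL N119343 (tt N120708 (iv1 F522264)) (tt N120707 (iv0 F523052)) (tt N122405 (iv2 F531903)) (tt N104366 F515120) (tt N97234 (iv4 D222602)) (tt N104365 (iv5 F515121)) (tt N122341 (iv6 F531523)) (tt N118387 (iv7 F515122)))
theorem Q119345 : ∀ i, i < 119345 → P i := stepQ 119344 Q119344 (allL N119344 (tt N122494 F532473) (tt N99660 (iv0 F515127)) (tt N122492 (iv2 F532454)) (tt N115535 F515123) (tt N118387 F515124) (tt N97235 F515125) (tt N115507 F515126) (tt N97234 (iv7 D222603)))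
theorem Q119346 : ∀ i, i < 119346 → P i := stepQ 119345 Q119345 (allL N119345 (tt N116051 (iv1 F515132)) (tt N97240 (iv0 D222604)) (tt N104930 (iv2 F515131)) (tt N115499 F515130) (tt N119005 F515129) (tt N108335 F515128) (tt N115380 (iv6 F515134)) (tt N111750 F515133))
theorem Q119347 : ∀ i, i < 119347 → P i := stepQ 119346 Q119346 (allL N119346 (tt N110910 F515140) (tt N112717 (iv0 F515141)) (tt N112716 F515135) (tt N97244 (iv3 D222605)) (tt N106879 F515136) (tt N116072 F515137) (tt N115457 F515138) (tt N112715 F515139))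
theorem Q119348 : ∀ i, i < 119348 → P i := stepQ 119347 Q119347 (allL N119347 (tt N118982 F515145) (tt N118981 F515146) (tt N119331 F515142) (tt N112414 F515143) (tt N119443 (iv4 F515652)) (tt N97250 (iv5 D222606)) (tt N108510 F515144) (tt N121072 (iv7 F524368)))
theorem Q119349 : ∀ i, i < 119349 → P i := stepQ 119348 Q119348 (allL N119348 (tt N120699 (iv1 F522220)) (tt N120939 (iv0 F523588)) (tt N121715 F527921) (tt N97251 (iv3 D222607)) (tt N121211 (iv4 F525153)) (tt N117921 F515147) (tt N114844 F515148) (tt N104900 F515149))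
theorem Q119350 : ∀ i, i < 119350 → P i := stepQ 119349 Q119349 (allL N119349 (tt N114519 F515154) (tt N98177 F515155) (tt N113769 F515150) (tt N120967 (iv3 F523757)) (tt N97253 (iv4 D222608)) (tt N115192 F515153) (tt N113773 F515151) (tt N104938 F515152))
theorem Q119351 : ∀ i, i < 119351 → P i := stepQ 119350 Q119350 (allL N119350 (tt N103209 (iv1 F515160)) (tt N97259 (iv0 D222609)) (tt N113633 (iv2 F515159)) (tt N119273 F515158) (tt N113632 F515157) (tt N115710 F515156) (tt N111789 (iv6 F515162)) (tt N113631 F515161))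
theorem Q119352 : ∀ i, i < 119352 → P i := stepQ 119351 Q119351 (allL N119351 (tt N115741 F515167) (tt N115815 (iv0 F515168)) (tt N120270 (iv2 F519933)) (tt N103207 F515163) (tt N114864 F515164) (tt N111645 F515165) (tt N97260 (iv6 D222610)) (tt N111644 F515166))
theorem Q119353 : ∀ i, i < 119353 → P i := stepQ 119352 Q119352 (allL N119352 (tt N112437 F515172) (tt N106870 (iv0 F515173)) (tt N108509 F515169) (tt N115600 F515170) (tt N122446 (iv4 F532156)) (tt N115561 F515171) (tt N97265 (iv6 D222611)) (tt N121402 (iv7 F526158)))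
theorem Q119354 : ∀ i, i < 119354 → P i := stepQ 119353 Q119353 (allL N119353 (tt N115279 F515177) (tt N115285 (iv0 F515178)) (tt N111068 F515174) (tt N112849 F515175) (tt N115250 F515176) (tt N122043 (iv5 F529811)) (tt N97266 (iv6 D222612)) (tt N115283 F515179))
theorem Q119355 : ∀ i, i < 119355 → P i := stepQ 119354 Q119354 (allL N119354 (tt N110908 (iv1 F515186)) (tt N104880 F515185) (tt N97279 (iv2 D222613)) (tt N116082 F515180) (tt N115192 F515181) (tt N104872 F515182) (tt N115142 F515183) (tt N119329 F515184))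
theorem Q119356 : ∀ i, i < 119356 → P i := stepQ 119355 Q119355 (allL N119355 (tt N99664 F515189) (tt N108516 F515188) (tt N108514 F515187) (tt N120516 (iv3 F521202)) (tt N120045 (iv4 F518734)) (tt N97280 (iv5 D222614)) (tt N120030 (iv6 F518654)) (tt N108513 (iv7 F515196)))
theorem Q119357 : ∀ i, i < 119357 → P i := stepQ 119356 Q119356 (allL N119356 (tt N116075 (iv1 F515193)) (tt N104886 F515194) (tt N116074 F515190) (tt N115143 F515191) (tt N120791 (iv4 F522736)) (tt N108513 F515195) (tt N109567 F515192) (tt N97280 (iv7 D222615)))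
theorem Q119358 : ∀ i, i < 119358 → P i := stepQ 119357 Q119357 (allL N119357 (tt N118393 (iv1 F515200)) (tt N108274 (iv0 F515199)) (tt N97302 F515197) (tt N115376 F515198) (tt N122465 (iv4 F532279)) (tt N122337 (iv5 F531496)) (tt N97292 (iv6 D222616)) (tt N121074 (iv7 F524375)))
theorem Q119359 : ∀ i, i < 119359 → P i := stepQ 119358 Q119358 (allL N119358 (tt N99689 F515204) (tt N115565 F515205) (tt N97304 F515201) (tt N122338 (iv3 F531502)) (tt N114016 F515202) (tt N97293 (iv5 D222617)) (tt N122337 F531499) (tt N114015 F515203))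
theorem Q119360 : ∀ i, i < 119360 → P i := stepQ 119359 Q119359 (allL N119359 (tt N114212 F515208) (tt N122388 F531806) (tt N122389 (iv2 F531807)) (tt N97304 F515206) (tt N121036 (iv4 F524144)) (tt N97295 (iv5 D222618)) (tt N122392 (iv6 F531825)) (tt N114170 F515207))
theorem Q119361 : ∀ i, i < 119361 → P i := stepQ 119360 Q119360 (allL N119360 (tt N117434 F515210) (tt N122399 (iv0 F531870)) (tt N122337 (iv2 F531500)) (tt N122392 (iv3 F531823)) (tt N122343 (iv4 F531538)) (tt N97302 (iv5 D222619)) (tt N97304 F515209) (tt N122078 (iv7 F530031)))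
theorem Q119362 : ∀ i, i < 119362 → P i := stepQ 119361 Q119361 (allL N119361 (tt N114014 F515214) (tt N111781 F515215) (tt N114016 F515211) (tt N115450 F515216) (tt N97304 (iv4 D222620)) (tt N113717 F515212) (tt N122343 (iv6 F531536)) (tt N113716 F515213))
theorem Q119363 : ∀ i, i < 119363 → P i := stepQ 119362 Q119362 (allL N119362 (tt N97312 (iv1 F515220)) (tt N97309 (iv0 D222621)) (tt N115259 (iv2 F515219)) (tt N115158 (iv3 F515222)) (tt N104880 F515218) (tt N115158 F515217) (tt N117358 (iv6 F515223)) (tt N115257 F515221))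
theorem Q119364 : ∀ i, i < 119364 → P i := stepQ 119363 Q119363 (allL N119363 (tt N108646 F515229) (tt N112472 (iv0 F515230)) (tt N112470 F515224) (tt N97313 F515225) (tt N114077 F515226) (tt N117200 F515227) (tt N97311 (iv6 D222622)) (tt N112466 F515228))
theorem Q119365 : ∀ i, i < 119365 → P i := stepQ 119364 Q119364 (allL N119364 (tt N122448 (iv1 F532172)) (tt N118844 F515234) (tt N120519 (iv2 F521220)) (tt N117200 F515231) (tt N100927 F515233) (tt N97313 (iv5 D222623)) (tt N117199 F515232) (tt N120521 (iv7 F521232)))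
theorem Q119366 : ∀ i, i < 119366 → P i := stepQ 119365 Q119365 (allL N119365 (tt N114365 F515236) (tt N117433 (iv0 F515237)) (tt N120987 (iv2 F523875)) (tt N120975 F523808) (tt N111942 F515235) (tt N120964 (iv5 F523740)) (tt N97314 (iv6 D222624)) (tt N122463 (iv7 F532265)))
theorem Q119367 : ∀ i, i < 119367 → P i := stepQ 119366 Q119366 (allL N119366 (tt N106109 F515243) (tt N114571 (iv0 F515244)) (tt N117460 F515238) (tt N106114 F515239) (tt N108953 F515240) (tt N119318 F515241) (tt N97321 (iv6 D222625)) (tt N108951 F515242))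
theorem Q119368 : ∀ i, i < 119368 → P i := stepQ 119367 Q119367 (allL N119367 (tt N117836 (iv1 F515249)) (tt N97324 (iv0 D222626)) (tt N118467 (iv2 F515248)) (tt N108721 F515246) (tt N97342 F515245) (tt N121570 (iv5 F527087)) (tt N106124 F515247) (tt N118509 F515250))
theorem Q119369 : ∀ i, i < 119369 → P i := stepQ 119368 Q119368 (allL N119368 (tt N121718 (iv1 F527936)) (tt N118531 (iv0 F515255)) (tt N118510 F515251) (tt N118619 F515252) (tt N106009 F515254) (tt N97324 (iv5 D222627)) (tt N118507 F515253) (tt N120139 (iv7 F519269)))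
theorem Q119370 : ∀ i, i < 119370 → P i := stepQ 119369 Q119369 (allL N119369 (tt N117826 F515260) (tt N118485 F515261) (tt N108579 F515256) (tt N107584 F515257) (tt N107532 F515258) (tt N122650 (iv5 F533392)) (tt N97326 (iv6 D222628)) (tt N107599 F515259))
theorem Q119371 : ∀ i, i < 119371 → P i := stepQ 119370 Q119370 (allL N119370 (tt N117463 F515267) (tt N116023 F515268) (tt N117464 F515262) (tt N97343 F515263) (tt N115856 F515264) (tt N97335 (iv5 D222629)) (tt N108616 F515265) (tt N115653 F515266))
theorem Q119372 : ∀ i, i < 119372 → P i := stepQ 119371 Q119371 (allL N119371 (tt N122611 (iv1 F533167)) (tt N122233 (iv0 F530918)) (tt N122348 (iv2 F531559)) (tt N120376 F520457) (tt N122351 (iv4 F531575)) (tt N97337 (iv5 D222630)) (tt N121470 (iv6 F526555)) (tt N122684 (iv7 F533593)))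
theorem Q119373 : ∀ i, i < 119373 → P i := stepQ 119372 Q119372 (allL N119372 (tt N115391 F515273) (tt N114272 F515274) (tt N115705 F515269) (tt N108616 F515270) (tt N122070 (iv4 F529982)) (tt N97340 (iv5 D222631)) (tt N97343 F515271) (tt N115703 F515272))
theorem Q119374 : ∀ i, i < 119374 → P i := stepQ 119373 Q119373 (allL N119373 (tt N104771 F515279) (tt N118428 (iv0 F515280)) (tt N120912 (iv2 F523425)) (tt N97363 (iv3 D222632)) (tt N98475 F515275) (tt N111100 F515276) (tt N108729 F515277) (tt N116029 F515278))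
theorem Q119375 : ∀ i, i < 119375 → P i := stepQ 119374 Q119374 (allL N119374 (tt N102158 F515285) (tt N119390 F515383) (tt N102128 F515281) (tt N102001 F515282) (tt N120598 (iv4 F521670)) (tt N97370 (iv5 D222633)) (tt N117357 F515283) (tt N101994 F515284))
theorem Q119376 : ∀ i, i < 119376 → P i := stepQ 119375 Q119375 (allL N119375 (tt N110741 F515291) (tt N110744 F515292) (tt N102668 F515286) (tt N112624 F515287) (tt N97371 (iv4 D222634)) (tt N106349 F515290) (tt N99249 F515288) (tt N106348 F515289))
theorem Q119377 : ∀ i, i < 119377 → P i := stepQ 119376 Q119376 (allL N119376 (tt N112498 F515298) (tt N112505 (iv0 F515299)) (tt N112369 F515293) (tt N97375 (iv3 D222635)) (tt N117905 F515294) (tt N112288 F515295) (tt N100408 F515296) (tt N112509 F515297))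
theorem Q119378 : ∀ i, i < 119378 → P i := stepQ 119377 Q119377 (allL N119377 (tt N104779 F515305) (tt N97639 (iv0 F515306)) (tt N97401 F515300) (tt N111463 F515301) (tt N97394 F515302) (tt N115270 F515303) (tt N97391 (iv6 D222636)) (tt N112490 F515304))
theorem Q119379 : ∀ i, i < 119379 → P i := stepQ 119378 Q119378 (allL N119378 (tt N111748 F515312) (tt N97408 F515313) (tt N102152 F515307) (tt N106162 F515308) (tt N105114 F515311) (tt N97395 (iv5 D222637)) (tt N106160 F515309) (tt N102149 F515310))
theorem Q119380 : ∀ i, i < 119380 → P i := stepQ 119379 Q119379 (allL N119379 (tt N102152 (iv1 F515320)) (tt N102149 F515319) (tt N97408 (iv2 D222638)) (tt N108332 F515314) (tt N113155 F515315) (tt N111687 F515316) (tt N109271 F515317) (tt N111748 F515318))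
theorem Q119381 : ∀ i, i < 119381 → P i := stepQ 119380 Q119380 (allL N119380 (tt N102234 F515325) (tt N102014 (iv0 F515326)) (tt N102154 F515321) (tt N120603 F521703) (tt N102233 F515322) (tt N97543 F515323) (tt N97425 (iv6 D222639)) (tt N102233 F515324))
theorem Q119382 : ∀ i, i < 119382 → P i := stepQ 119381 Q119381 (allL N119381 (tt N117428 (iv1 F515329)) (tt N102007 F515330) (tt N120556 (iv2 F521433)) (tt N97426 (iv3 D222640)) (tt N119398 (iv4 F515415)) (tt N97434 F515327) (tt N97464 (iv6 F515331)) (tt N102151 F515328))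
theorem Q119383 : ∀ i, i < 119383 → P i := stepQ 119382 Q119382 (allL N119382 (tt N102243 F515335) (tt N113040 F515336) (tt N102150 F515332) (tt N97464 F515337) (tt N97426 (iv4 D222641)) (tt N105113 F515333) (tt N97426 (iv6 F515338)) (tt N102153 F515334))
theorem Q119384 : ∀ i, i < 119384 → P i := stepQ 119383 Q119383 (allL N119383 (tt N102128 F515342) (tt N101994 (iv0 F515344)) (tt N119390 (iv2 F515378)) (tt N97438 (iv3 D222642)) (tt N115197 F515343) (tt N101735 F515339) (tt N102298 F515340) (tt N102158 F515341))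
theorem Q119385 : ∀ i, i < 119385 → P i := stepQ 119384 Q119384 (allL N119384 (tt N102294 (iv1 F515349)) (tt N97439 (iv0 D222643)) (tt N120600 F521683) (tt N117992 F515347) (tt N118115 F515346) (tt N103307 F515345) (tt N118115 F515348) (tt N120601 (iv7 F521687)))
theorem Q119386 : ∀ i, i < 119386 → P i := stepQ 119385 Q119385 (allL N119385 (tt N97459 F515353) (tt N97458 F515354) (tt N97460 F515350) (tt N120593 (iv3 F521639)) (tt N97441 (iv4 D222644)) (tt N115304 F515351) (tt N121400 (iv6 F526145)) (tt N97452 F515352))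
theorem Q119387 : ∀ i, i < 119387 → P i := stepQ 119386 Q119386 (allL N119386 (tt N117430 F515359) (tt N117431 F515360) (tt N97444 F515355) (tt N117430 (iv3 F515362)) (tt N97442 (iv4 D222645)) (tt N117429 F515358) (tt N117431 F515356) (tt N97447 F515357))
theorem Q119388 : ∀ i, i < 119388 → P i := stepQ 119387 Q119387 (allL N119387 (tt N97444 (iv1 D222646)) (tt N97447 F515363) (tt N117431 (iv2 F515367)) (tt N97447 (iv3 F515368)) (tt N97445 F515365) (tt N115317 F515366) (tt N97444 F515369) (tt N117430 F515364))
theorem Q119389 : ∀ i, i < 119389 → P i := stepQ 119388 Q119388 (allL N119388 (tt N106875 F515372) (tt N106894 (iv0 F515374)) (tt N120609 (iv2 F521736)) (tt N97444 (iv3 D222647)) (tt N97448 F515370) (tt N106708 (iv5 F515373)) (tt N97447 F515371) (tt N120608 (iv7 F521734)))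
theorem Q119390 : ∀ i, i < 119390 → P i := stepQ 119389 Q119389 (allL N119389 (tt N119648 (iv1 F516704)) (tt N119646 (iv0 F516691)) (tt N117429 F515375) (tt N106708 F515376) (tt N108267 F515377) (tt N97444 (iv5 D222648)) (tt N121828 (iv6 F528563)) (tt N119554 (iv7 F516219)))
theorem Q119391 : ∀ i, i < 119391 → P i := stepQ 119390 Q119390 (allL N119390 (tt N119374 (iv1 F515383)) (tt N118074 F515384) (tt N119383 F515378) (tt N119270 F515379) (tt N117430 F515380) (tt N116220 F515381) (tt N97718 F515382) (tt N97445 (iv7 D222649)))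
theorem Q119392 : ∀ i, i < 119392 → P i := stepQ 119391 Q119391 (allL N119391 (tt N119402 F515430) (tt N119647 (iv0 F516695)) (tt N97454 F515386) (tt N119399 F515419) (tt N97450 (iv4 D222650)) (tt N112359 F515387) (tt N121406 (iv6 F526180)) (tt N97457 F515388))
theorem Q119393 : ∀ i, i < 119393 → P i := stepQ 119392 Q119392 (allL N119392 (tt N120576 F521543) (tt N120576 (iv0 F521542)) (tt N97455 F515389) (tt N102217 F515390) (tt N121406 (iv4 F526179)) (tt N122100 (iv5 F530165)) (tt N97450 (iv6 D222651)) (tt N97455 F515391))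
theorem Q119394 : ∀ i, i < 119394 → P i := stepQ 119393 Q119393 (allL N119393 (tt N97460 (iv1 F515395)) (tt N97452 (iv0 D222652)) (tt N97458 (iv2 F515394)) (tt N121400 (iv3 F526144)) (tt N102007 F515393) (tt N117420 F515392) (tt N120593 (iv6 F521640)) (tt N97459 F515396))
theorem Q119395 : ∀ i, i < 119395 → P i := stepQ 119394 Q119394 (allL N119394 (tt N120593 F521644) (tt N120593 (iv0 F521642)) (tt N120593 (iv2 F521638)) (tt N97452 (iv3 D222653)) (tt N120576 (iv4 F521540)) (tt N122462 (iv5 F532262)) (tt N97458 (iv6 F515406)) (tt N120593 (iv7 F521641)))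
theorem Q119396 : ∀ i, i < 119396 → P i := stepQ 119395 Q119395 (allL N119395 (tt N117740 (iv1 F515401)) (tt N115260 F515400) (tt N97461 F515397) (tt N122462 (iv3 F532260)) (tt N112358 F515398) (tt N97452 (iv5 D222654)) (tt N122461 F532257) (tt N115304 F515399))
theorem Q119397 : ∀ i, i < 119397 → P i := stepQ 119396 Q119396 (allL N119396 (tt N121401 (iv1 F526156)) (tt N121400 (iv0 F526148)) (tt N97462 F515402) (tt N97458 F515405) (tt N97453 F515403) (tt N117425 (iv5 F515404)) (tt N97452 (iv6 D222655)) (tt N117424 (iv7 F515407)))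
theorem Q119398 : ∀ i, i < 119398 → P i := stepQ 119397 Q119397 (allL N119397 (tt N97464 (iv1 F515413)) (tt N97463 F515414) (tt N97465 F515408) (tt N103487 F515409) (tt N117424 F515410) (tt N97711 F515411) (tt N106893 F515412) (tt N97453 (iv7 D222656)))
theorem Q119399 : ∀ i, i < 119399 → P i := stepQ 119398 Q119398 (allL N119398 (tt N97457 (iv1 F515416)) (tt N97454 (iv0 D222657)) (tt N119402 (iv2 F515431)) (tt N119408 (iv3 F515458)) (tt N119381 F515415) (tt N119648 (iv5 F516701)) (tt N119408 (iv6 F515460)) (tt N119647 (iv7 F516697)))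
theorem Q119400 : ∀ i, i < 119400 → P i := stepQ 119399 Q119399 (allL N119399 (tt N97454 (iv1 D222658)) (tt N97457 F515417) (tt N119647 (iv2 F516693)) (tt N119391 (iv3 F515419)) (tt N106747 F515418) (tt N119646 (iv5 F516690)) (tt N106746 (iv6 F515420)) (tt N119402 (iv7 F515428)))
theorem Q119401 : ∀ i, i < 119401 → P i := stepQ 119400 Q119400 (allL N119400 (tt N106709 F515423) (tt N106746 (iv0 F515424)) (tt N121405 (iv2 F526171)) (tt N97454 (iv3 D222659)) (tt N97463 F515421) (tt N106738 F515422) (tt N121234 (iv6 F525287)) (tt N120604 (iv7 F521709)))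
theorem Q119402 : ∀ i, i < 119402 → P i := stepQ 119401 Q119401 (allL N119401 (tt N119401 F515426) (tt N119401 (iv0 F515426)) (tt N121406 (iv2 F526178)) (tt N121234 (iv3 F525285)) (tt N97455 F515425) (tt N121403 (iv5 F526164)) (tt N97454 (iv6 D222660)) (tt N121406 (iv7 F526181)))
theorem Q119403 : ∀ i, i < 119403 → P i := stepQ 119402 Q119402 (allL N119402 (tt N115318 F515429) (tt N119391 (iv0 F515430)) (tt N119398 F515431) (tt N97457 (iv3 D222661)) (tt N120556 (iv4 F521435)) (tt N115239 F515427) (tt N120604 (iv6 F521708)) (tt N119399 F515428))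
theorem Q119404 : ∀ i, i < 119404 → P i := stepQ 119403 Q119403 (allL N119403 (tt N117424 F515435) (tt N97462 (iv0 F515436)) (tt N121401 (iv2 F526150)) (tt N97459 (iv3 D222662)) (tt N106893 F515432) (tt N106869 F515433) (tt N117424 F515434) (tt N121400 (iv7 F526146)))
theorem Q119405 : ∀ i, i < 119405 → P i := stepQ 119404 Q119404 (allL N119404 (tt N97462 (iv1 F515441)) (tt N117424 (iv0 F515440)) (tt N121400 (iv2 F526143)) (tt N97462 F515437) (tt N97466 F515438) (tt N106871 F515439) (tt N97460 (iv6 D222663)) (tt N121401 (iv7 F526154)))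
theorem Q119406 : ∀ i, i < 119406 → P i := stepQ 119405 Q119405 (allL N119405 (tt N97461 (iv1 D222664)) (tt N115304 F515442) (tt N115260 F515447) (tt N117358 (iv3 F515445)) (tt N98580 F515444) (tt N120598 (iv5 F521669)) (tt N115158 (iv6 F515446)) (tt N117740 F515443))
theorem Q119407 : ∀ i, i < 119407 → P i := stepQ 119406 Q119406 (allL N119406 (tt N117358 (iv1 F515454)) (tt N117356 F515453) (tt N117425 F515448) (tt N106871 F515449) (tt N106734 F515450) (tt N97462 (iv5 D222665)) (tt N115453 F515451) (tt N117423 F515452))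
theorem Q119408 : ∀ i, i < 119408 → P i := stepQ 119407 Q119407 (allL N119407 (tt N121400 (iv1 F526149)) (tt N121401 (iv0 F526155)) (tt N117424 F515455) (tt N121401 (iv3 F526151)) (tt N97465 F515456) (tt N117423 F515457) (tt N121401 (iv6 F526153)) (tt N97462 (iv7 D222666)))
theorem Q119409 : ∀ i, i < 119409 → P i := stepQ 119408 Q119408 (allL N119408 (tt N106746 F515461) (tt N106709 F515462) (tt N120604 (iv2 F521706)) (tt N119398 F515458) (tt N97464 (iv4 D222667)) (tt N106736 F515459) (tt N119398 F515460) (tt N121405 (iv7 F526175)))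
theorem Q119410 : ∀ i, i < 119410 → P i := stepQ 119409 Q119409 (allL N119409 (tt N98029 (iv1 F515467)) (tt N97471 (iv0 D222668)) (tt N119498 (iv2 F515914)) (tt N102409 F515465) (tt N103691 F515464) (tt N117982 F515463) (tt N103690 F515466) (tt N116233 (iv7 F515468)))
theorem Q119411 : ∀ i, i < 119411 → P i := stepQ 119410 Q119410 (allL N119410 (tt N97471 (iv1 D222669)) (tt N98029 F515469) (tt N116233 F515474) (tt N102235 (iv3 F515472)) (tt N103735 F515471) (tt N117984 F515470) (tt N113802 (iv6 F515473)) (tt N119498 (iv7 F515918)))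
theorem Q119412 : ∀ i, i < 119412 → P i := stepQ 119411 Q119411 (allL N119411 (tt N119668 (iv1 F516813)) (tt N119667 F516810) (tt N119464 (iv2 F515752)) (tt N105130 F515475) (tt N97471 (iv4 D222670)) (tt N98037 F515476) (tt N97478 F515477) (tt N98054 F515478))
theorem Q119413 : ∀ i, i < 119413 → P i := stepQ 119412 Q119412 (allL N119412 (tt N102010 (iv1 F515482)) (tt N102008 F515483) (tt N120592 F521635) (tt N102166 F515479) (tt N103411 F515480) (tt N120590 (iv5 F521619)) (tt N102165 F515481) (tt N97475 (iv7 D222671)))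
theorem Q119414 : ∀ i, i < 119414 → P i := stepQ 119413 Q119413 (allL N119413 (tt N97513 (iv1 F515488)) (tt N97512 F515489) (tt N97514 F515484) (tt N103325 F515485) (tt N103420 F515486) (tt N97504 F515487) (tt N119643 F516672) (tt N97503 (iv7 D222672)))
theorem Q119415 : ∀ i, i < 119415 → P i := stepQ 119414 Q119414 (allL N119414 (tt N118077 F515494) (tt N117749 F515495) (tt N119643 (iv2 F516673)) (tt N97517 F515490) (tt N118064 F515491) (tt N103313 F515492) (tt N97514 (iv6 D222673)) (tt N118064 F515493))
theorem Q119416 : ∀ i, i < 119416 → P i := stepQ 119415 Q119415 (allL N119415 (tt N98072 F515501) (tt N108684 F515502) (tt N109100 F515496) (tt N103117 F515497) (tt N99559 F515498) (tt N97528 (iv5 D222674)) (tt N99558 F515499) (tt N109101 F515500))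
theorem Q119417 : ∀ i, i < 119417 → P i := stepQ 119416 Q119416 (allL N119416 (tt N102363 F515508) (tt N103295 F515509) (tt N97552 F515503) (tt N110281 F515504) (tt N97539 (iv4 D222675)) (tt N118018 F515505) (tt N117749 F515506) (tt N103296 F515507))
theorem Q119418 : ∀ i, i < 119418 → P i := stepQ 119417 Q119417 (allL N119417 (tt N102899 F515513) (tt N119460 F515736) (tt N118021 F515510) (tt N104223 F515511) (tt N97558 (iv4 D222676)) (tt N122686 D225945) (tt N104596 F515512) (tt N119458 (iv7 F515731)))
theorem Q119419 : ∀ i, i < 119419 → P i := stepQ 119418 Q119418 (allL N119418 (tt N97559 (iv1 D222677)) (tt N120619 F521794) (tt N120617 F521783) (tt N115448 (iv3 F515515)) (tt N97734 F515514) (tt N115447 F515516) (tt N115835 F515517) (tt N120616 F521777))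
theorem Q119420 : ∀ i, i < 119420 → P i := stepQ 119419 Q119419 (allL N119419 (tt N120983 (iv1 F523857)) (tt N122403 (iv0 F531895)) (tt N120618 (iv2 F521785)) (tt N108858 F515518) (tt N118827 F515519) (tt N97559 (iv5 D222678)) (tt N122683 (iv6 F533586)) (tt N121659 (iv7 F527597)))
theorem Q119421 : ∀ i, i < 119421 → P i := stepQ 119420 Q119420 (allL N119420 (tt N120617 (iv1 F521780)) (tt N120616 F521778) (tt N120619 (iv2 F521789)) (tt N118078 F515520) (tt N97560 F515521) (tt N121659 (iv5 F527595)) (tt N119521 (iv6 F516043)) (tt N97559 (iv7 D222679)))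
theorem Q119422 : ∀ i, i < 119422 → P i := stepQ 119421 Q119421 (allL N119421 (tt N97838 (iv1 F515525)) (tt N97840 F515526) (tt N119445 F515660) (tt N119493 F515888) (tt N97848 F515522) (tt N98206 F515523) (tt N97566 (iv6 D222680)) (tt N118091 F515524))
theorem Q119423 : ∀ i, i < 119423 → P i := stepQ 119422 Q119422 (allL N119422 (tt N122047 F529841) (tt N122047 (iv0 F529840)) (tt N122566 F532885) (tt N98610 F515527) (tt N108906 F515528) (tt N122683 (iv5 F533585)) (tt N97569 (iv6 D222681)) (tt N122566 F532886))
theorem Q119424 : ∀ i, i < 119424 → P i := stepQ 119423 Q119423 (allL N119423 (tt N104436 F515533) (tt N104437 (iv0 F515534)) (tt N114446 F515529) (tt N104498 F515530) (tt N97571 F515531) (tt N114446 F515532) (tt N97570 (iv6 D222682)) (tt N119521 (iv7 F516041)))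
theorem Q119425 : ∀ i, i < 119425 → P i := stepQ 119424 Q119424 (allL N119424 (tt N111246 F515540) (tt N103472 (iv0 F515541)) (tt N115831 F515535) (tt N104628 F515536) (tt N97574 F515537) (tt N118422 F515538) (tt N97573 (iv6 D222683)) (tt N115832 F515539))
theorem Q119426 : ∀ i, i < 119426 → P i := stepQ 119425 Q119425 (allL N119425 (tt N103474 (iv1 F515547)) (tt N120590 F521623) (tt N115833 F515542) (tt N117972 F515543) (tt N111238 F515544) (tt N102004 F515545) (tt N102005 F515546) (tt N97578 (iv7 D222684)))
theorem Q119427 : ∀ i, i < 119427 → P i := stepQ 119426 Q119426 (allL N119426 (tt N109197 F515553) (tt N118912 F515554) (tt N119122 F515548) (tt N97581 F515549) (tt N118628 F515550) (tt N97580 (iv5 D222685)) (tt N108875 F515551) (tt N119132 F515552))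
theorem Q119428 : ∀ i, i < 119428 → P i := stepQ 119427 Q119427 (allL N119427 (tt N99621 F515560) (tt N108980 (iv0 F515561)) (tt N108979 F515555) (tt N108875 F515556) (tt N117524 F515557) (tt N110198 F515558) (tt N97581 (iv6 D222686)) (tt N108978 F515559))
theorem Q119429 : ∀ i, i < 119429 → P i := stepQ 119428 Q119428 (allL N119428 (tt N100121 F515567) (tt N118719 (iv0 F515568)) (tt N112766 F515562) (tt N117417 F515563) (tt N110214 F515564) (tt N110216 F515565) (tt N97584 (iv6 D222687)) (tt N110215 F515566))
theorem Q119430 : ∀ i, i < 119430 → P i := stepQ 119429 Q119429 (allL N119429 (tt N103252 F515574) (tt N102249 F515575) (tt N97592 F515569) (tt N112474 F515570) (tt N111994 F515571) (tt N97585 (iv5 D222688)) (tt N97588 F515572) (tt N117698 F515573))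
theorem Q119431 : ∀ i, i < 119431 → P i := stepQ 119430 Q119430 (allL N119430 (tt N111437 F515581) (tt N111600 (iv0 F515582)) (tt N112141 F515576) (tt N97593 (iv3 D222689)) (tt N108574 F515577) (tt N112140 F515578) (tt N111114 F515579) (tt N101127 F515580))
theorem Q119432 : ∀ i, i < 119432 → P i := stepQ 119431 Q119431 (allL N119431 (tt N103443 F515587) (tt N103440 F515588) (tt N110315 F515583) (tt N102941 F515584) (tt N97599 (iv4 D222690)) (tt N120539 (iv5 F521336)) (tt N102412 F515585) (tt N110314 F515586))
theorem Q119433 : ∀ i, i < 119433 → P i := stepQ 119432 Q119432 (allL N119432 (tt N116029 F515594) (tt N120912 (iv0 F523430)) (tt N104771 F515589) (tt N103008 F515590) (tt N103009 F515591) (tt N104694 F515592) (tt N97627 (iv6 D222691)) (tt N118428 F515593))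
theorem Q119434 : ∀ i, i < 119434 → P i := stepQ 119433 Q119433 (allL N119433 (tt N111867 F515600) (tt N104426 F515601) (tt N112411 F515595) (tt N103225 F515596) (tt N97640 (iv4 D222692)) (tt N115548 F515597) (tt N103223 F515598) (tt N112410 F515599))
theorem Q119435 : ∀ i, i < 119435 → P i := stepQ 119434 Q119434 (allL N119434 (tt N103285 F515607) (tt N103284 (iv0 F515608)) (tt N103463 F515602) (tt N111661 F515603) (tt N118102 F515604) (tt N104425 F515605) (tt N97646 (iv6 D222693)) (tt N97649 F515606))
theorem Q119436 : ∀ i, i < 119436 → P i := stepQ 119435 Q119435 (allL N119435 (tt N109441 F515613) (tt N117965 F515614) (tt N117963 F515609) (tt N103594 F515610) (tt N97657 (iv4 D222694)) (tt N120662 (iv5 F522028)) (tt N97753 F515611) (tt N117962 F515612))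
theorem Q119437 : ∀ i, i < 119437 → P i := stepQ 119436 Q119436 (allL N119436 (tt N97669 (iv1 D222695)) (tt N97672 F515615) (tt N117974 F515620) (tt N109148 F515621) (tt N116283 F515617) (tt N98212 F515618) (tt N103482 (iv6 F515619)) (tt N116275 F515616))
theorem Q119438 : ∀ i, i < 119438 → P i := stepQ 119437 Q119437 (allL N119437 (tt N119559 (iv1 F516250)) (tt N103025 F515625) (tt N119561 (iv2 F516263)) (tt N119212 F515622) (tt N98050 F515624) (tt N97669 (iv5 D222696)) (tt N98049 F515623) (tt N119560 (iv7 F516256)))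
theorem Q119439 : ∀ i, i < 119439 → P i := stepQ 119438 Q119438 (allL N119438 (tt N117977 F515629) (tt N109143 (iv0 F515630)) (tt N117978 F515626) (tt N97672 (iv3 D222697)) (tt N102241 F515627) (tt N98046 F515631) (tt N104384 (iv6 F515632)) (tt N117971 F515628))
theorem Q119440 : ∀ i, i < 119440 → P i := stepQ 119439 Q119439 (allL N119439 (tt N103025 F515635) (tt N119559 (iv0 F516249)) (tt N119560 (iv2 F516255)) (tt N98046 F515633) (tt N117926 F515634) (tt N97672 (iv5 D222698)) (tt N119585 (iv6 F516394)) (tt N119561 (iv7 F516258)))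
theorem Q119441 : ∀ i, i < 119441 → P i := stepQ 119440 Q119440 (allL N119440 (tt N103395 (iv1 F515639)) (tt N118075 (iv0 F515638)) (tt N120753 (iv2 F522527)) (tt N104384 F515636) (tt N97673 F515637) (tt N118186 (iv5 F515640)) (tt N97672 (iv6 D222699)) (tt N120800 (iv7 F522787)))
theorem Q119442 : ∀ i, i < 119442 → P i := stepQ 119441 Q119441 (allL N119441 (tt N121724 F527970) (tt N122412 (iv0 F531953)) (tt N97679 F515641) (tt N121964 (iv3 F529337)) (tt N104997 F515642) (tt N97675 (iv5 D222700)) (tt N114872 F515643) (tt N122122 (iv7 F530301)))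
theorem Q119443 : ∀ i, i < 119443 → P i := stepQ 119442 Q119442 (allL N119442 (tt N109170 F515649) (tt N109169 F515650) (tt N97688 F515644) (tt N103603 F515645) (tt N98674 F515646) (tt N97676 (iv5 D222701)) (tt N98672 F515647) (tt N109168 F515648))
theorem Q119444 : ∀ i, i < 119444 → P i := stepQ 119443 Q119443 (allL N119443 (tt N122122 (iv1 F530303)) (tt N97679 (iv0 D222702)) (tt N121724 (iv2 F527964)) (tt N112405 F515653) (tt N119347 F515652) (tt N112404 F515651) (tt N120047 (iv6 F518747)) (tt N122412 (iv7 F531952)))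
theorem Q119445 : ∀ i, i < 119445 → P i := stepQ 119444 Q119444 (allL N119444 (tt N97679 (iv1 D222703)) (tt N122122 (iv0 F530302)) (tt N122412 (iv2 F531948)) (tt N111452 (iv3 F515655)) (tt N122631 (iv4 F533279)) (tt N111451 F515654) (tt N115657 (iv6 F515656)) (tt N121724 (iv7 F527968)))
theorem Q119446 : ∀ i, i < 119446 → P i := stepQ 119445 Q119445 (allL N119445 (tt N97684 (iv1 F515661)) (tt N97681 (iv0 D222704)) (tt N119421 (iv2 F515660)) (tt N103652 F515658) (tt N102905 F515657) (tt N119559 (iv5 F516246)) (tt N102904 F515659) (tt N117967 F515662))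
theorem Q119447 : ∀ i, i < 119447 → P i := stepQ 119446 Q119446 (allL N119446 (tt N120814 (iv1 F522873)) (tt N120813 (iv0 F522868)) (tt N119489 (iv2 F515865)) (tt N116232 F515663) (tt N97685 F515664) (tt N119496 (iv5 F515905)) (tt N97684 (iv6 D222705)) (tt N121006 (iv7 F523979)))
theorem Q119448 : ∀ i, i < 119448 → P i := stepQ 119447 Q119447 (allL N119447 (tt N109168 (iv1 F515669)) (tt N97688 (iv0 D222706)) (tt N109170 (iv2 F515668)) (tt N103513 F515667) (tt N98205 F515666) (tt N97729 F515665) (tt N98052 F515671) (tt N109169 F515670))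
theorem Q119449 : ∀ i, i < 119449 → P i := stepQ 119448 Q119448 (allL N119448 (tt N120806 (iv1 F522829)) (tt N104306 (iv0 F515676)) (tt N115753 F515672) (tt N104274 F515673) (tt N116239 F515674) (tt N104282 F515675) (tt N97689 (iv6 D222707)) (tt N120807 (iv7 F522837)))
theorem Q119450 : ∀ i, i < 119450 → P i := stepQ 119449 Q119449 (allL N119449 (tt N103478 F515682) (tt N120605 (iv0 F521716)) (tt N98060 F515677) (tt N108963 F515678) (tt N98067 F515679) (tt N102027 F515680) (tt N97690 (iv6 D222708)) (tt N119280 F515681))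
theorem Q119451 : ∀ i, i < 119451 → P i := stepQ 119450 Q119450 (allL N119450 (tt N111666 (iv1 F515688)) (tt N97706 (iv0 D222709)) (tt N116070 (iv2 F515685)) (tt N122157 (iv3 F530481)) (tt N104296 F515684) (tt N115231 F515683) (tt N104295 (iv6 F515686)) (tt N116071 (iv7 F515687)))
theorem Q119452 : ∀ i, i < 119452 → P i := stepQ 119451 Q119451 (allL N119451 (tt N97706 (iv1 D222710)) (tt N111666 F515689) (tt N116071 (iv2 F515695)) (tt N114865 (iv3 F515693)) (tt N104406 F515692) (tt N115232 F515691) (tt N104405 F515694) (tt N116070 F515690))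
theorem Q119453 : ∀ i, i < 119453 → P i := stepQ 119452 Q119452 (allL N119452 (tt N114848 F515700) (tt N114847 (iv0 F515701)) (tt N115250 F515696) (tt N97706 (iv3 D222711)) (tt N111068 F515697) (tt N115247 F515698) (tt N115200 F515699) (tt N115382 F515702))
theorem Q119454 : ∀ i, i < 119454 → P i := stepQ 119453 Q119453 (allL N119453 (tt N116071 (iv1 F515707)) (tt N116070 F515708) (tt N111666 F515703) (tt N115382 F515704) (tt N97707 F515705) (tt N115202 F515706) (tt N122101 F530174) (tt N97706 (iv7 D222712)))
theorem Q119455 : ∀ i, i < 119455 → P i := stepQ 119454 Q119454 (allL N119454 (tt N106894 F515712) (tt N106875 (iv0 F515713)) (tt N120608 (iv2 F521731)) (tt N117431 F515709) (tt N97718 (iv4 D222713)) (tt N106707 F515710) (tt N117430 F515711) (tt N120609 (iv7 F521740)))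
theorem Q119456 : ∀ i, i < 119456 → P i := stepQ 119455 Q119455 (allL N119455 (tt N117964 F515716) (tt N97744 (iv0 F515717)) (tt N120750 (iv2 F522507)) (tt N104724 F515714) (tt N118313 F515715) (tt N107063 (iv5 F515718)) (tt N97729 (iv6 D222714)) (tt N119845 (iv7 F517667)))
theorem Q119457 : ∀ i, i < 119457 → P i := stepQ 119456 Q119456 (allL N119456 (tt N98014 F515721) (tt N102571 (iv0 F515722)) (tt N102622 F515719) (tt N120649 (iv3 F521956)) (tt N103332 F515720) (tt N122687 D225946) (tt N97730 (iv6 D222715)) (tt N120655 (iv7 F521987)))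
theorem Q119458 : ∀ i, i < 119458 → P i := stepQ 119457 Q119457 (allL N119457 (tt N120800 F522789) (tt N120753 (iv0 F522531)) (tt N103395 F515723) (tt N104662 (iv3 F515726)) (tt N97733 (iv4 D222716)) (tt N122403 (iv5 F531893)) (tt N103260 F515724) (tt N118075 F515725))
theorem Q119459 : ∀ i, i < 119459 → P i := stepQ 119458 Q119458 (allL N119458 (tt N120745 (iv1 F522481)) (tt N97735 (iv0 D222717)) (tt N117960 (iv2 F515729)) (tt N103617 F515728) (tt N102382 F515727) (tt N121808 (iv5 F528444)) (tt N103615 F515730) (tt N119417 F515731))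
theorem Q119460 : ∀ i, i < 119460 → P i := stepQ 119459 Q119459 (allL N119459 (tt N120691 (iv1 F522176)) (tt N119522 (iv0 F516046)) (tt N120744 (iv2 F522473)) (tt N102520 F515732) (tt N122610 (iv4 F533157)) (tt N97735 (iv5 D222718)) (tt N122531 (iv6 F532681)) (tt N120705 (iv7 F522246)))
theorem Q119461 : ∀ i, i < 119461 → P i := stepQ 119460 Q119460 (allL N119460 (tt N119417 (iv1 F515736)) (tt N117960 F515737) (tt N120745 (iv2 F522477)) (tt N103566 F515733) (tt N97736 F515734) (tt N120705 (iv5 F522245)) (tt N103684 F515735) (tt N97735 (iv7 D222719)))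
theorem Q119462 : ∀ i, i < 119462 → P i := stepQ 119461 Q119461 (allL N119461 (tt N104414 F515742) (tt N120787 (iv0 F522715)) (tt N116067 F515738) (tt N122509 F532555) (tt N97740 (iv4 D222720)) (tt N111658 F515739) (tt N113041 F515740) (tt N116066 F515741))
theorem Q119463 : ∀ i, i < 119463 → P i := stepQ 119462 Q119462 (allL N119462 (tt N102187 F515746) (tt N118909 (iv0 F515747)) (tt N118908 F515743) (tt N97742 (iv3 D222721)) (tt N122509 (iv4 F532554)) (tt N104576 F515744) (tt N120991 (iv6 F523897)) (tt N118907 F515745))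
theorem Q119464 : ∀ i, i < 119464 → P i := stepQ 119463 Q119463 (allL N119463 (tt N97744 (iv1 D222722)) (tt N117964 F515748) (tt N119845 (iv2 F517663)) (tt N113044 (iv3 F515751)) (tt N113045 F515750) (tt N117973 F515749) (tt N120655 F521989) (tt N120750 (iv7 F522511)))
theorem Q119465 : ∀ i, i < 119465 → P i := stepQ 119464 Q119464 (allL N119464 (tt N119537 (iv1 F516123)) (tt N119536 F516122) (tt N119411 F515752) (tt N109421 F515753) (tt N102070 F515754) (tt N98538 F515755) (tt N97755 (iv6 D222723)) (tt N98626 F515756))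
theorem Q119466 : ∀ i, i < 119466 → P i := stepQ 119465 Q119465 (allL N119465 (tt N108161 F515761) (tt N115709 F515762) (tt N97763 F515757) (tt N122107 (iv3 F530207)) (tt N114122 F515758) (tt N97760 (iv5 D222724)) (tt N117014 F515759) (tt N114120 F515760))
theorem Q119467 : ∀ i, i < 119467 → P i := stepQ 119466 Q119466 (allL N119466 (tt N116149 F515766) (tt N116359 (iv0 F515767)) (tt N122070 (iv2 F529980)) (tt N97764 (iv3 D222725)) (tt N115705 F515763) (tt N113872 F515764) (tt N121675 (iv6 F527672)) (tt N115704 F515765))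
theorem Q119468 : ∀ i, i < 119468 → P i := stepQ 119467 Q119467 (allL N119467 (tt N103456 F515772) (tt N103457 (iv0 F515773)) (tt N113048 F515768) (tt N97783 (iv3 D222726)) (tt N122688 D225947) (tt N119219 F515769) (tt N103312 F515770) (tt N97839 F515771))
theorem Q119469 : ∀ i, i < 119469 → P i := stepQ 119468 Q119468 (allL N119468 (tt N119274 (iv1 F515776)) (tt N97792 (iv0 D222727)) (tt N102719 (iv2 F515777)) (tt N119682 (iv3 F516890)) (tt N102688 F515775) (tt N109218 F515774) (tt N102711 (iv6 F515778)) (tt N120749 (iv7 F522506)))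
theorem Q119470 : ∀ i, i < 119470 → P i := stepQ 119469 Q119469 (allL N119469 (tt N97792 (iv1 D222728)) (tt N119274 F515779) (tt N120749 F522504) (tt N107069 (iv3 F515783)) (tt N102687 F515782) (tt N109219 F515781) (tt N104728 F515784) (tt N102719 F515780))
theorem Q119471 : ∀ i, i < 119471 → P i := stepQ 119470 Q119470 (allL N119470 (tt N120891 F523319) (tt N120682 (iv0 F522122)) (tt N109151 F515785) (tt N119071 F515786) (tt N99776 F515787) (tt N120737 (iv5 F522434)) (tt N97797 (iv6 D222729)) (tt N122363 (iv7 F531649)))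
theorem Q119472 : ∀ i, i < 119472 → P i := stepQ 119471 Q119471 (allL N119471 (tt N120685 (iv1 F522139)) (tt N120688 (iv0 F522158)) (tt N109152 F515788) (tt N109433 F515789) (tt N120737 (iv4 F522433)) (tt N97798 (iv5 D222730)) (tt N120737 (iv6 F522435)) (tt N121008 (iv7 F523988)))
theorem Q119473 : ∀ i, i < 119473 → P i := stepQ 119472 Q119472 (allL N119472 (tt N105864 F515795) (tt N97806 F515796) (tt N109127 F515790) (tt N102716 F515791) (tt N97799 (iv4 D222731)) (tt N109440 F515794) (tt N102614 F515792) (tt N109128 F515793))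
theorem Q119474 : ∀ i, i < 119474 → P i := stepQ 119473 Q119473 (allL N119473 (tt N97804 (iv1 D222732)) (tt N109106 F515797) (tt N109104 (iv2 F515800)) (tt N117980 (iv3 F515799)) (tt N120688 (iv4 F522159)) (tt N120871 (iv5 F523195)) (tt N120666 (iv6 F522055)) (tt N109105 F515798))
theorem Q119475 : ∀ i, i < 119475 → P i := stepQ 119474 Q119474 (allL N119474 (tt N119679 F516879) (tt N119638 F516650) (tt N109118 F515801) (tt N97805 F515802) (tt N99761 F515805) (tt N97804 (iv5 D222733)) (tt N97805 F515803) (tt N109107 F515804))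
theorem Q119476 : ∀ i, i < 119476 → P i := stepQ 119475 Q119475 (allL N119475 (tt N109678 F515810) (tt N109676 F515812) (tt N109380 F515806) (tt N97812 F515807) (tt N98596 F515811) (tt N97811 (iv5 D222734)) (tt N109365 F515808) (tt N105884 F515809))
theorem Q119477 : ∀ i, i < 119477 → P i := stepQ 119476 Q119476 (allL N119476 (tt N120955 (iv1 F523679)) (tt N120948 (iv0 F523642)) (tt N120956 (iv2 F523686)) (tt N100501 F515813) (tt N97812 (iv4 D222735)) (tt N100500 F515814) (tt N120209 (iv6 F519605)) (tt N103817 F515815))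
theorem Q119478 : ∀ i, i < 119478 → P i := stepQ 119477 Q119477 (allL N119477 (tt N97990 F515820) (tt N97992 F515821) (tt N118721 F515816) (tt N117591 F515817) (tt N97818 (iv4 D222736)) (tt N121732 (iv5 F528016)) (tt N103047 F515818) (tt N110943 F515819))
theorem Q119479 : ∀ i, i < 119479 → P i := stepQ 119478 Q119478 (allL N119478 (tt N103850 F515824) (tt N118422 F515825) (tt N121206 (iv2 F525127)) (tt N103865 F515822) (tt N97821 F515823) (tt N122688 (iv5 F533617)) (tt N97819 (iv6 D222737)) (tt N120680 (iv7 F522107)))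
theorem Q119480 : ∀ i, i < 119480 → P i := stepQ 119479 Q119479 (allL N119479 (tt N122054 F529885) (tt N121609 (iv0 F527318)) (tt N121316 (iv2 F525719)) (tt N97823 (iv3 D222738)) (tt N104696 F515826) (tt N118917 (iv5 F515828)) (tt N105445 F515827) (tt N122106 (iv7 F530203)))
theorem Q119481 : ∀ i, i < 119481 → P i := stepQ 119480 Q119480 (allL N119480 (tt N108173 F515832) (tt N108195 F515833) (tt N117202 F515829) (tt N118917 F515830) (tt N120691 (iv4 F522174)) (tt N97823 (iv5 D222739)) (tt N108191 F515831) (tt N119517 (iv7 F516024)))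
theorem Q119482 : ∀ i, i < 119482 → P i := stepQ 119481 Q119481 (allL N119481 (tt N108200 F515837) (tt N108174 F515838) (tt N119516 (iv2 F516016)) (tt N106310 F515834) (tt N122581 (iv4 F532971)) (tt N97827 (iv5 D222740)) (tt N108125 F515835) (tt N118183 F515836))
theorem Q119483 : ∀ i, i < 119483 → P i := stepQ 119482 Q119482 (allL N119482 (tt N114313 F515841) (tt N108146 (iv0 F515842)) (tt N121319 (iv2 F525737)) (tt N97828 (iv3 D222741)) (tt N104697 F515839) (tt N118916 F515843) (tt N102320 F515840) (tt N119515 (iv7 F516014)))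
theorem Q119484 : ∀ i, i < 119484 → P i := stepQ 119483 Q119483 (allL N119483 (tt N108174 F515847) (tt N108200 F515848) (tt N118183 F515844) (tt N118916 F515845) (tt N121808 (iv4 F528443)) (tt N97828 (iv5 D222742)) (tt N108655 F515846) (tt N119516 (iv7 F516017)))
theorem Q119485 : ∀ i, i < 119485 → P i := stepQ 119484 Q119484 (allL N119484 (tt N122610 (iv1 F533160)) (tt N97830 (iv0 D222743)) (tt N121199 (iv2 F525092)) (tt N113902 F515850) (tt N122403 (iv4 F531892)) (tt N97990 F515849) (tt N118220 (iv6 F515851)) (tt N117038 (iv7 F515852)))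
theorem Q119486 : ∀ i, i < 119486 → P i := stepQ 119485 Q119485 (allL N119485 (tt N97830 (iv1 D222744)) (tt N122610 F533159) (tt N117038 F515855) (tt N116766 F515856) (tt N120983 (iv4 F523855)) (tt N97992 F515853) (tt N115620 (iv6 F515854)) (tt N121199 (iv7 F525095)))
theorem Q119487 : ∀ i, i < 119487 → P i := stepQ 119486 Q119486 (allL N119486 (tt N119522 F516047) (tt N120691 F522177) (tt N120705 (iv2 F522248)) (tt N120707 (iv3 F522258)) (tt N97830 (iv4 D222745)) (tt N120745 (iv5 F522479)) (tt N120705 (iv6 F522249)) (tt N120744 (iv7 F522475)))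
theorem Q119488 : ∀ i, i < 119488 → P i := stepQ 119487 Q119487 (allL N119487 (tt N117038 (iv1 F515859)) (tt N121199 (iv0 F525097)) (tt N122610 (iv2 F533155)) (tt N117030 F515857) (tt N120744 (iv4 F522474)) (tt N97831 F515858) (tt N121759 (iv6 F528145)) (tt N97830 (iv7 D222746)))
theorem Q119489 : ∀ i, i < 119489 → P i := stepQ 119488 Q119488 (allL N119488 (tt N109424 F515864) (tt N119575 (iv0 F516335)) (tt N119146 F515860) (tt N97838 (iv3 D222747)) (tt N105887 F515861) (tt N119028 F515862) (tt N120839 (iv6 F523016)) (tt N119147 F515863))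
theorem Q119490 : ∀ i, i < 119490 → P i := stepQ 119489 Q119489 (allL N119489 (tt N115835 F515867) (tt N115836 (iv0 F515868)) (tt N119446 F515865) (tt N120839 (iv3 F523014)) (tt N97839 F515866) (tt N120680 (iv5 F522106)) (tt N97838 (iv6 D222748)) (tt N122688 (iv7 F533619)))
theorem Q119491 : ∀ i, i < 119491 → P i := stepQ 119490 Q119490 (allL N119490 (tt N103335 F515874) (tt N103914 F515875) (tt N105873 F515869) (tt N111673 F515870) (tt N106805 F515872) (tt N97841 (iv5 D222749)) (tt N97843 F515871) (tt N111671 F515873))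
theorem Q119492 : ∀ i, i < 119492 → P i := stepQ 119491 Q119491 (allL N119491 (tt N103230 (iv1 F515881)) (tt N103329 F515882) (tt N103312 F515876) (tt N103319 F515877) (tt N104492 F515878) (tt N111671 F515879) (tt N113048 F515880) (tt N97841 (iv7 D222750)))
theorem Q119493 : ∀ i, i < 119493 → P i := stepQ 119492 Q119492 (allL N119492 (tt N120875 F523222) (tt N119525 (iv0 F516066)) (tt N120646 (iv2 F521934)) (tt N120623 (iv3 F521816)) (tt N97849 (iv4 D222751)) (tt N114053 F515883) (tt N118092 F515884) (tt N120660 (iv7 F522017)))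
theorem Q119494 : ∀ i, i < 119494 → P i := stepQ 119493 Q119493 (allL N119493 (tt N97868 (iv1 D222752)) (tt N106992 (iv0 F515890)) (tt N109158 (iv2 F515891)) (tt N119421 (iv3 F515888)) (tt N113785 F515887) (tt N116914 F515886) (tt N113784 F515889) (tt N103774 F515885))
theorem Q119495 : ∀ i, i < 119495 → P i := stepQ 119494 Q119494 (allL N119494 (tt N103774 (iv1 F515897)) (tt N109158 F515896) (tt N97868 (iv2 D222753)) (tt N106522 F515892) (tt N105054 F515893) (tt N118142 F515894) (tt N116226 (iv6 F515898)) (tt N106992 F515895))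
theorem Q119496 : ∀ i, i < 119496 → P i := stepQ 119495 Q119495 (allL N119495 (tt N120920 F523482) (tt N113789 (iv0 F515903)) (tt N116226 F515899) (tt N97869 F515900) (tt N116321 F515901) (tt N116272 F515902) (tt N97868 (iv6 D222754)) (tt N121007 (iv7 F523984)))
theorem Q119497 : ∀ i, i < 119497 → P i := stepQ 119496 Q119496 (allL N119496 (tt N118422 F515906) (tt N103850 (iv0 F515907)) (tt N120680 (iv2 F522103)) (tt N120808 (iv3 F522839)) (tt N97884 F515904) (tt N119446 F515905) (tt N97883 (iv6 D222755)) (tt N121206 (iv7 F525131)))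
theorem Q119498 : ∀ i, i < 119498 → P i := stepQ 119497 Q119497 (allL N119497 (tt N119575 (iv1 F516336)) (tt N109424 (iv0 F515912)) (tt N119147 F515908) (tt N104491 F515909) (tt N97886 F515910) (tt N119027 F515911) (tt N97885 (iv6 D222756)) (tt N119146 (iv7 F515913)))
theorem Q119499 : ∀ i, i < 119499 → P i := stepQ 119498 Q119498 (allL N119498 (tt N117361 F515919) (tt N102070 (iv0 F515920)) (tt N119409 F515914) (tt N97888 F515915) (tt N104491 F515916) (tt N102386 F515917) (tt N97887 (iv6 D222757)) (tt N119410 F515918))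
theorem Q119500 : ∀ i, i < 119500 → P i := stepQ 119499 Q119499 (allL N119499 (tt N98044 F515924) (tt N98042 F515925) (tt N121772 (iv2 F528226)) (tt N103658 F515921) (tt N97890 (iv4 D222758)) (tt N103867 F515923) (tt N119624 F516578) (tt N103737 F515922))
theorem Q119501 : ∀ i, i < 119501 → P i := stepQ 119500 Q119500 (allL N119500 (tt N104449 F515930) (tt N118119 (iv0 F515931)) (tt N104492 F515926) (tt N97892 (iv3 D222759)) (tt N103312 F515927) (tt N98658 F515928) (tt N122688 (iv6 F533618)) (tt N98657 F515929))
theorem Q119502 : ∀ i, i < 119502 → P i := stepQ 119501 Q119501 (allL N119501 (tt N120838 (iv1 F523011)) (tt N103868 (iv0 F515934)) (tt N119506 (iv2 F515958)) (tt N122688 (iv3 F533616)) (tt N97893 F515932) (tt N103865 F515933) (tt N97892 (iv6 D222760)) (tt N120839 (iv7 F523017)))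
theorem Q119503 : ∀ i, i < 119503 → P i := stepQ 119502 Q119502 (allL N119502 (tt N97900 (iv1 D222761)) (tt N109026 F515940) (tt N109024 (iv2 F515941)) (tt N104657 (iv3 F515937)) (tt N104543 (iv4 F515938)) (tt N102588 F515936) (tt N104542 F515939) (tt N109025 F515935))
theorem Q119504 : ∀ i, i < 119504 → P i := stepQ 119503 Q119503 (allL N119503 (tt N109025 (iv1 F515948)) (tt N109024 F515947) (tt N97900 (iv2 D222762)) (tt N105945 F515942) (tt N109106 F515943) (tt N105945 F515944) (tt N105944 F515945) (tt N109026 F515946))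
theorem Q119505 : ∀ i, i < 119505 → P i := stepQ 119504 Q119504 (allL N119504 (tt N117749 F515951) (tt N118077 F515952) (tt N118064 F515949) (tt N120970 (iv3 F523775)) (tt N119643 (iv4 F516671)) (tt N97908 (iv5 D222763)) (tt N103420 F515950) (tt N119643 (iv7 F516669)))
theorem Q119506 : ∀ i, i < 119506 → P i := stepQ 119505 Q119505 (allL N119505 (tt N118002 F515956) (tt N118000 F515957) (tt N119528 (iv2 F516074)) (tt N104470 F515953) (tt N97919 (iv4 D222764)) (tt N117979 F515955) (tt N119656 (iv6 F516747)) (tt N104467 F515954))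
theorem Q119507 : ∀ i, i < 119507 → P i := stepQ 119506 Q119506 (allL N119506 (tt N103550 F515963) (tt N120922 F523496) (tt N119501 F515958) (tt N103688 F515959) (tt N104162 F515960) (tt N106151 F515961) (tt N97922 (iv6 D222765)) (tt N106150 F515962))
theorem Q119508 : ∀ i, i < 119508 → P i := stepQ 119507 Q119507 (allL N119507 (tt N121793 F528354) (tt N103542 (iv0 F515969)) (tt N104629 F515964) (tt N102457 F515965) (tt N116223 F515966) (tt N104624 F515967) (tt N97927 (iv6 D222766)) (tt N102450 F515968))
theorem Q119509 : ∀ i, i < 119509 → P i := stepQ 119508 Q119508 (allL N119508 (tt N102329 (iv1 F515975)) (tt N97929 (iv0 D222767)) (tt N97970 (iv2 F515974)) (tt N99756 F515972) (tt N98008 F515971) (tt N114903 F515970) (tt N105850 F515973) (tt N109130 F515976))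
theorem Q119510 : ∀ i, i < 119510 → P i := stepQ 119509 Q119509 (allL N119509 (tt N112067 F515982) (tt N115205 F515983) (tt N98578 F515977) (tt N109731 F515978) (tt N112880 F515979) (tt N97931 (iv5 D222768)) (tt N98575 F515980) (tt N115166 F515981))
theorem Q119511 : ∀ i, i < 119511 → P i := stepQ 119510 Q119510 (allL N119510 (tt N99431 F515987) (tt N107639 (iv0 F515988)) (tt N107637 F515984) (tt N97956 (iv3 D222769)) (tt N121161 (iv4 F524863)) (tt N121325 (iv5 F525771)) (tt N109638 F515985) (tt N107636 F515986))
theorem Q119512 : ∀ i, i < 119512 → P i := stepQ 119511 Q119511 (allL N119511 (tt N120108 (iv1 F519090)) (tt N120109 (iv0 F519093)) (tt N120916 (iv2 F523453)) (tt N103739 F515989) (tt N109108 F515990) (tt N104693 F515991) (tt N97959 (iv6 D222770)) (tt N103712 F515992))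
theorem Q119513 : ∀ i, i < 119513 → P i := stepQ 119512 Q119512 (allL N119512 (tt N98451 (iv1 F515996)) (tt N97974 (iv0 D222771)) (tt N98449 (iv2 F515995)) (tt N97984 (iv3 F515998)) (tt N113310 F515993) (tt N119597 (iv5 F516447)) (tt N98371 F515994) (tt N98450 F515997))
theorem Q119514 : ∀ i, i < 119514 → P i := stepQ 119513 Q119513 (allL N119513 (tt N106288 F516003) (tt N98997 F516004) (tt N106286 F515999) (tt N97977 F516000) (tt N121289 (iv4 F525581)) (tt N97976 (iv5 D222772)) (tt N116108 F516001) (tt N98455 F516002))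
theorem Q119515 : ∀ i, i < 119515 → P i := stepQ 119514 Q119514 (allL N119514 (tt N115550 F516010) (tt N107846 (iv0 F516011)) (tt N118703 F516005) (tt N97990 (iv3 D222773)) (tt N109075 F516006) (tt N113902 F516007) (tt N105430 F516008) (tt N114545 F516009))
theorem Q119516 : ∀ i, i < 119516 → P i := stepQ 119515 Q119515 (allL N119515 (tt N119660 (iv1 F516773)) (tt N114800 (iv0 F516015)) (tt N120832 (iv2 F522974)) (tt N97994 (iv3 D222774)) (tt N104622 F516012) (tt N122472 (iv5 F532321)) (tt N103026 F516013) (tt N119482 F516014))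
theorem Q119517 : ∀ i, i < 119517 → P i := stepQ 119516 Q119516 (allL N119516 (tt N120500 F521112) (tt N118386 F516018) (tt N119481 F516016) (tt N122472 (iv3 F532326)) (tt N122686 (iv4 F533605)) (tt N97994 (iv5 D222775)) (tt N120001 (iv6 F518487)) (tt N119483 F516017))
theorem Q119518 : ∀ i, i < 119518 → P i := stepQ 119517 Q119517 (allL N119517 (tt N118827 (iv1 F516023)) (tt N97996 (iv0 D222776)) (tt N118691 (iv2 F516022)) (tt N111707 F516020) (tt N120811 (iv4 F522852)) (tt N117711 F516019) (tt N111706 F516021) (tt N119480 F516024))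
theorem Q119519 : ∀ i, i < 119519 → P i := stepQ 119518 Q119518 (allL N119518 (tt N122403 F531896) (tt N120983 (iv0 F523856)) (tt N121659 (iv2 F527593)) (tt N121640 (iv3 F527484)) (tt N97996 (iv4 D222777)) (tt N120619 (iv5 F521792)) (tt N121659 (iv6 F527596)) (tt N120618 F521788))
theorem Q119520 : ∀ i, i < 119520 → P i := stepQ 119519 Q119519 (allL N119519 (tt N105256 F516029) (tt N107044 (iv0 F516030)) (tt N105093 F516025) (tt N98000 (iv3 D222778)) (tt N119684 (iv4 F516902)) (tt N109890 F516026) (tt N105091 F516027) (tt N107045 F516028))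
theorem Q119521 : ∀ i, i < 119521 → P i := stepQ 119520 Q119520 (allL N119520 (tt N104429 F516035) (tt N104431 F516036) (tt N104473 F516031) (tt N104474 F516032) (tt N98011 (iv4 D222779)) (tt N104473 F516034) (tt N102909 F516033) (tt N120816 (iv7 F522882)))
theorem Q119522 : ∀ i, i < 119522 → P i := stepQ 119521 Q119521 (allL N119521 (tt N103486 (iv1 F516040)) (tt N98012 (iv0 D222780)) (tt N114354 (iv2 F516039)) (tt N114355 (iv3 F516042)) (tt N103476 F516038) (tt N114354 F516037) (tt N119420 F516043) (tt N119423 F516041))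
theorem Q119523 : ∀ i, i < 119523 → P i := stepQ 119522 Q119522 (allL N119522 (tt N119459 F516046) (tt N119486 (iv0 F516047)) (tt N120811 (iv2 F522850)) (tt N117948 F516044) (tt N118691 F516045) (tt N98014 (iv5 D222781)) (tt N122682 (iv6 F533579)) (tt N120656 (iv7 F521993)))
theorem Q119524 : ∀ i, i < 119524 → P i := stepQ 119523 Q119523 (allL N119523 (tt N112858 (iv1 F516053)) (tt N115830 F516054) (tt N106147 F516048) (tt N113154 F516049) (tt N104676 F516050) (tt N115776 F516051) (tt N104675 F516052) (tt N98018 (iv7 D222782)))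
theorem Q119525 : ∀ i, i < 119525 → P i := stepQ 119524 Q119524 (allL N119524 (tt N119675 (iv1 F516856)) (tt N111236 (iv0 F516060)) (tt N117692 F516055) (tt N98022 (iv3 D222783)) (tt N111221 F516056) (tt N98522 F516057) (tt N118017 F516058) (tt N114351 F516059))
theorem Q119526 : ∀ i, i < 119526 → P i := stepQ 119525 Q119525 (allL N119525 (tt N119492 F516066) (tt N103790 (iv0 F516067)) (tt N114358 F516061) (tt N103752 F516062) (tt N98590 F516063) (tt N109436 F516064) (tt N98027 (iv6 D222784)) (tt N114360 F516065))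
theorem Q119527 : ∀ i, i < 119527 → P i := stepQ 119526 Q119526 (allL N119526 (tt N98028 (iv1 D222785)) (tt N119663 F516789) (tt N109176 (iv2 F516790)) (tt N103492 F516791) (tt N120877 (iv4 F523233)) (tt N120870 F523191) (tt N114357 (iv6 F516792)) (tt N119664 (iv7 F516794)))
theorem Q119528 : ∀ i, i < 119528 → P i := stepQ 119527 Q119527 (allL N119527 (tt N119664 (iv1 F516793)) (tt N109176 F516072) (tt N98028 (iv2 D222786)) (tt N105745 F516068) (tt N103645 F516069) (tt N106133 F516070) (tt N102477 F516071) (tt N119663 (iv7 F516786)))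
theorem Q119529 : ∀ i, i < 119529 → P i := stepQ 119528 Q119528 (allL N119528 (tt N117949 F516076) (tt N117757 F516077) (tt N119505 F516074) (tt N104719 F516078) (tt N98040 (iv4 D222787)) (tt N121771 (iv5 F528221)) (tt N104717 F516075) (tt N121002 (iv7 F523959)))
theorem Q119530 : ∀ i, i < 119530 → P i := stepQ 119529 Q119529 (allL N119529 (tt N98042 (iv1 D222788)) (tt N98044 F516079) (tt N103737 F516083) (tt N103714 (iv3 F516081)) (tt N111189 F516080) (tt N109103 F516084) (tt N98633 (iv6 F516082)) (tt N121772 (iv7 F528230)))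
theorem Q119531 : ∀ i, i < 119531 → P i := stepQ 119530 Q119530 (allL N119530 (tt N115018 F516089) (tt N115017 (iv0 F516091)) (tt N106144 F516085) (tt N98635 F516086) (tt N98043 F516087) (tt N103392 F516090) (tt N98042 (iv6 D222789)) (tt N98632 F516088))
theorem Q119532 : ∀ i, i < 119532 → P i := stepQ 119531 Q119531 (allL N119531 (tt N109081 F516097) (tt N109084 (iv0 F516098)) (tt N114565 F516092) (tt N98047 F516093) (tt N117927 F516094) (tt N100217 F516095) (tt N98045 (iv6 D222790)) (tt N117927 F516096))
theorem Q119533 : ∀ i, i < 119533 → P i := stepQ 119532 Q119532 (allL N119532 (tt N122049 F529853) (tt N112903 (iv0 F516101)) (tt N119586 (iv2 F516397)) (tt N119585 (iv3 F516393)) (tt N98047 F516099) (tt N118179 F516100) (tt N98046 (iv6 D222791)) (tt N119585 (iv7 F516395)))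
theorem Q119534 : ∀ i, i < 119534 → P i := stepQ 119533 Q119533 (allL N119533 (tt N117980 F516105) (tt N117979 F516104) (tt N119681 (iv2 F516884)) (tt N120749 (iv3 F522502)) (tt N102246 F516103) (tt N98051 (iv5 D222792)) (tt N118079 F516102) (tt N119682 (iv7 F516892)))
theorem Q119535 : ∀ i, i < 119535 → P i := stepQ 119534 Q119534 (allL N119534 (tt N116887 F516110) (tt N103508 (iv0 F516111)) (tt N107068 F516106) (tt N98052 (iv3 D222793)) (tt N108139 F516107) (tt N107064 F516112) (tt N103513 F516108) (tt N118144 F516109))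
theorem Q119536 : ∀ i, i < 119536 → P i := stepQ 119535 Q119535 (allL N119535 (tt N117979 F516116) (tt N117980 F516117) (tt N119682 (iv2 F516889)) (tt N107064 F516113) (tt N102244 F516114) (tt N98052 (iv5 D222794)) (tt N107063 F516115) (tt N119681 (iv7 F516887)))
theorem Q119537 : ∀ i, i < 119537 → P i := stepQ 119536 Q119536 (allL N119536 (tt N119464 (iv1 F516122)) (tt N98054 (iv0 D222795)) (tt N119667 F516811) (tt N103602 F516120) (tt N102248 F516119) (tt N117757 F516118) (tt N116228 F516121) (tt N119668 (iv7 F516814)))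
theorem Q119538 : ∀ i, i < 119538 → P i := stepQ 119537 Q119537 (allL N119537 (tt N98054 (iv1 D222796)) (tt N119464 F516123) (tt N119668 (iv2 F516818)) (tt N103506 (iv3 F516127)) (tt N102247 F516125) (tt N117949 F516124) (tt N103670 (iv6 F516126)) (tt N119667 F516812))
theorem Q119539 : ∀ i, i < 119539 → P i := stepQ 119538 Q119538 (allL N119538 (tt N114422 (iv1 F516132)) (tt N103742 (iv0 F516133)) (tt N114311 F516128) (tt N98055 (iv3 D222797)) (tt N98223 F516131) (tt N114687 F516129) (tt N119631 (iv6 F516611)) (tt N98682 F516130))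
theorem Q119540 : ∀ i, i < 119540 → P i := stepQ 119539 Q119539 (allL N119539 (tt N108008 F516139) (tt N108005 (iv0 F516140)) (tt N98685 F516134) (tt N113253 F516135) (tt N98055 (iv4 D222798)) (tt N100438 F516138) (tt N100439 F516136) (tt N98683 F516137))
theorem Q119541 : ∀ i, i < 119541 → P i := stepQ 119540 Q119540 (allL N119540 (tt N115343 F516146) (tt N102943 (iv0 F516147)) (tt N115344 F516141) (tt N111326 F516142) (tt N118047 F516143) (tt N115338 F516144) (tt N98058 (iv6 D222799)) (tt N115337 F516145))
theorem Q119542 : ∀ i, i < 119542 → P i := stepQ 119541 Q119541 (allL N119541 (tt N102689 F516152) (tt N100377 (iv0 F516153)) (tt N102694 F516148) (tt N98075 (iv3 D222800)) (tt N120552 (iv4 F521412)) (tt N118457 F516149) (tt N118424 F516150) (tt N102693 F516151))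
theorem Q119543 : ∀ i, i < 119543 → P i := stepQ 119542 Q119542 (allL N119542 (tt N121438 F526378) (tt N121529 F526876) (tt N98099 F516154) (tt N120072 (iv3 F518897)) (tt N113845 F516155) (tt N98090 (iv5 D222801)) (tt N121223 (iv6 F525222)) (tt N98100 F516156))
theorem Q119544 : ∀ i, i < 119544 → P i := stepQ 119543 Q119543 (allL N119543 (tt N116419 F516161) (tt N101336 F516162) (tt N98104 F516157) (tt N106303 F516158) (tt N98092 (iv4 D222802)) (tt N106729 F516160) (tt N101398 F516159) (tt N122449 (iv7 F532177)))
theorem Q119545 : ∀ i, i < 119545 → P i := stepQ 119544 Q119544 (allL N119544 (tt N99742 F516167) (tt N108799 F516168) (tt N100287 F516163) (tt N112357 F516164) (tt N101388 F516169) (tt N98095 (iv5 D222803)) (tt N104168 F516165) (tt N100288 F516166))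
theorem Q119546 : ∀ i, i < 119546 → P i := stepQ 119545 Q119545 (allL N119545 (tt N98099 (iv1 D222804)) (tt N98100 F516170) (tt N121529 F526875) (tt N111278 (iv3 F516548)) (tt N121784 (iv4 F528295)) (tt N119618 (iv5 F516542)) (tt N122244 (iv6 F530979)) (tt N121438 F526379))
theorem Q119547 : ∀ i, i < 119547 → P i := stepQ 119546 Q119546 (allL N119546 (tt N111233 F516176) (tt N121925 F529101) (tt N98470 F516171) (tt N109294 F516172) (tt N98461 F516173) (tt N98103 (iv5 D222805)) (tt N107652 F516175) (tt N98468 F516174))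
theorem Q119548 : ∀ i, i < 119548 → P i := stepQ 119547 Q119547 (allL N119547 (tt N122449 (iv1 F532179)) (tt N98104 (iv0 D222806)) (tt N116419 (iv2 F516180)) (tt N122593 (iv3 F533046)) (tt N101052 F516178) (tt N111846 F516177) (tt N114646 F516179) (tt N101336 (iv7 F516181)))
theorem Q119549 : ∀ i, i < 119549 → P i := stepQ 119548 Q119548 (allL N119548 (tt N98104 (iv1 D222807)) (tt N122449 (iv0 F532178)) (tt N101336 F516186) (tt N106353 (iv3 F516185)) (tt N101335 F516184) (tt N106352 F516183) (tt N121682 F527717) (tt N116419 F516182))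
theorem Q119550 : ∀ i, i < 119550 → P i := stepQ 119549 Q119549 (allL N119549 (tt N121059 F524291) (tt N107470 (iv0 F516190)) (tt N105580 F516187) (tt N98104 (iv3 D222808)) (tt N111283 F516188) (tt N120112 (iv5 F519110)) (tt N105403 F516189) (tt N116738 (iv7 F516191)))
theorem Q119551 : ∀ i, i < 119551 → P i := stepQ 119550 Q119550 (allL N119550 (tt N101336 (iv1 F516195)) (tt N116419 F516196) (tt N122449 (iv2 F532173)) (tt N116738 F516192) (tt N98105 F516193) (tt N121305 (iv5 F525661)) (tt N116737 F516194) (tt N98104 (iv7 D222809)))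
theorem Q119552 : ∀ i, i < 119552 → P i := stepQ 119551 Q119551 (allL N119551 (tt N98109 (iv1 D222810)) (tt N98114 F516197) (tt N101328 F516203) (tt N117172 (iv3 F516201)) (tt N106240 F516200) (tt N109403 F516199) (tt N101377 (iv6 F516202)) (tt N101329 F516198))
theorem Q119553 : ∀ i, i < 119553 → P i := stepQ 119552 Q119552 (allL N119552 (tt N118929 F516206) (tt N119617 (iv0 F516540)) (tt N121305 (iv2 F525658)) (tt N118926 F516207) (tt N98118 (iv4 D222811)) (tt N122449 (iv5 F532175)) (tt N112385 F516204) (tt N106729 F516205))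
theorem Q119554 : ∀ i, i < 119554 → P i := stepQ 119553 Q119553 (allL N119553 (tt N113716 F516212) (tt N114016 F516213) (tt N114014 F516208) (tt N98130 F516209) (tt N108737 F516211) (tt N98129 (iv5 D222812)) (tt N122399 (iv6 F531868)) (tt N111781 F516210))
theorem Q119555 : ∀ i, i < 119555 → P i := stepQ 119554 Q119554 (allL N119554 (tt N98581 F516220) (tt N115239 F516221) (tt N115256 F516215) (tt N115196 F516216) (tt N98145 (iv4 D222813)) (tt N102296 F516217) (tt N115154 F516218) (tt N119389 F516219))
theorem Q119556 : ∀ i, i < 119556 → P i := stepQ 119555 Q119555 (allL N119555 (tt N106144 F516227) (tt N98632 F516228) (tt N115017 F516222) (tt N103641 F516223) (tt N98160 (iv4 D222814)) (tt N103292 F516226) (tt N98161 F516224) (tt N115018 F516225))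
theorem Q119557 : ∀ i, i < 119557 → P i := stepQ 119556 Q119556 (allL N119556 (tt N112675 F516234) (tt N120070 (iv0 F518888)) (tt N109261 F516229) (tt N98167 F516230) (tt N103344 F516233) (tt N98165 (iv5 D222815)) (tt N112068 F516231) (tt N109260 F516232))
theorem Q119558 : ∀ i, i < 119558 → P i := stepQ 119557 Q119557 (allL N119557 (tt N119628 (iv1 F516597)) (tt N121767 (iv0 F528196)) (tt N100192 F516235) (tt N101113 F516236) (tt N100201 F516239) (tt N98187 (iv5 D222816)) (tt N107998 F516237) (tt N100194 F516238))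
theorem Q119559 : ∀ i, i < 119559 → P i := stepQ 119558 Q119558 (allL N119558 (tt N122075 (iv1 F530015)) (tt N122064 (iv0 F529948)) (tt N119195 F516240) (tt N119191 F516241) (tt N111494 F516242) (tt N98194 (iv5 D222817)) (tt N115524 F516243) (tt N115039 F516244))
theorem Q119560 : ∀ i, i < 119560 → P i := stepQ 119559 Q119559 (allL N119559 (tt N119439 F516249) (tt N119437 F516250) (tt N98206 F516245) (tt N120865 (iv3 F523156)) (tt N98203 (iv4 D222818)) (tt N119445 F516246) (tt N111168 F516247) (tt N117951 F516248))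
theorem Q119561 : ∀ i, i < 119561 → P i := stepQ 119560 Q119560 (allL N119560 (tt N117951 (iv1 F516253)) (tt N98206 (iv0 D222819)) (tt N119439 F516255) (tt N118689 (iv3 F516254)) (tt N114990 F516252) (tt N102925 F516251) (tt N122033 (iv6 F529758)) (tt N119437 F516256))
theorem Q119562 : ∀ i, i < 119562 → P i := stepQ 119561 Q119561 (allL N119561 (tt N98206 (iv1 D222820)) (tt N117951 F516257) (tt N119437 F516263) (tt N111181 (iv3 F516261)) (tt N102956 F516260) (tt N102927 F516259) (tt N111181 (iv6 F516262)) (tt N119439 F516258))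
theorem Q119563 : ∀ i, i < 119563 → P i := stepQ 119562 Q119562 (allL N119562 (tt N114774 (iv1 F516269)) (tt N108095 F516268) (tt N98211 (iv2 D222821)) (tt N108132 F516264) (tt N105970 F516265) (tt N102768 F516266) (tt N105972 F516267) (tt N120768 (iv7 F522610)))
theorem Q119564 : ∀ i, i < 119564 → P i := stepQ 119563 Q119563 (allL N119563 (tt N109389 F516274) (tt N116911 (iv0 F516275)) (tt N120859 (iv2 F523123)) (tt N98212 (iv3 D222822)) (tt N98214 F516270) (tt N109148 F516271) (tt N103826 F516272) (tt N116276 F516273))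
theorem Q119565 : ∀ i, i < 119565 → P i := stepQ 119564 Q119564 (allL N119564 (tt N113241 F516281) (tt N113242 (iv0 F516282)) (tt N105621 F516276) (tt N98215 F516277) (tt N103826 F516278) (tt N105562 F516279) (tt N98214 (iv6 D222823)) (tt N113240 F516280))
theorem Q119566 : ∀ i, i < 119566 → P i := stepQ 119565 Q119565 (allL N119565 (tt N106308 (iv1 F516288)) (tt N104098 F516287) (tt N98224 (iv2 D222824)) (tt N109117 F516283) (tt N98229 F516284) (tt N112750 (iv5 F516289)) (tt N109116 F516285) (tt N114493 F516286))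
theorem Q119567 : ∀ i, i < 119567 → P i := stepQ 119566 Q119566 (allL N119566 (tt N112753 F516293) (tt N112745 F516294) (tt N112750 F516290) (tt N98225 F516291) (tt N122216 (iv4 F530830)) (tt N98224 (iv5 D222825)) (tt N120075 (iv6 F518916)) (tt N112751 F516292))
theorem Q119568 : ∀ i, i < 119568 → P i := stepQ 119567 Q119567 (allL N119567 (tt N98230 (iv1 D222826)) (tt N118685 F516295) (tt N114658 F516301) (tt N118787 (iv3 F516299)) (tt N114724 F516298) (tt N118862 F516297) (tt N114774 (iv6 F516300)) (tt N114722 F516296))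
theorem Q119569 : ∀ i, i < 119569 → P i := stepQ 119568 Q119568 (allL N119568 (tt N118803 (iv1 F516306)) (tt N122035 (iv0 F529768)) (tt N116347 F516302) (tt N98234 F516303) (tt N98236 F516304) (tt N120933 (iv5 F523558)) (tt N98233 (iv6 D222827)) (tt N116906 F516305))
theorem Q119570 : ∀ i, i < 119570 → P i := stepQ 119569 Q119569 (allL N119569 (tt N98234 (iv1 D222828)) (tt N113537 F516307) (tt N119587 (iv2 F516400)) (tt N98523 (iv3 F516310)) (tt N98524 F516309) (tt N120239 (iv5 F519755)) (tt N98522 (iv6 F516311)) (tt N98523 F516308))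
theorem Q119571 : ∀ i, i < 119571 → P i := stepQ 119570 Q119570 (allL N119570 (tt N118741 (iv1 F516314)) (tt N118179 F516313) (tt N119670 (iv2 F516826)) (tt N120933 F523559) (tt N118221 F516312) (tt N98234 (iv5 D222829)) (tt N119670 (iv6 F516828)) (tt N122426 (iv7 F532034)))
theorem Q119572 : ∀ i, i < 119572 → P i := stepQ 119571 Q119571 (allL N119571 (tt N98340 F516316) (tt N115003 F516317) (tt N119650 (iv2 F516708)) (tt N121447 (iv3 F526427)) (tt N98235 (iv4 D222830)) (tt N122689 D225948) (tt N119641 (iv6 F516661)) (tt N111216 F516315))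
theorem Q119573 : ∀ i, i < 119573 → P i := stepQ 119572 Q119572 (allL N119572 (tt N101392 (iv1 F516324)) (tt N114336 F516323) (tt N109891 F516318) (tt N98238 F516319) (tt N105991 F516322) (tt N98237 (iv5 D222831)) (tt N107367 F516320) (tt N106419 F516321))
theorem Q119574 : ∀ i, i < 119574 → P i := stepQ 119573 Q119573 (allL N119573 (tt N120993 F523911) (tt N119673 (iv0 F516848)) (tt N120771 (iv2 F522626)) (tt N103636 F516325) (tt N98238 (iv4 D222832)) (tt N122664 (iv5 F533473)) (tt N119026 F516326) (tt N106422 F516327))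
theorem Q119575 : ∀ i, i < 119575 → P i := stepQ 119574 Q119574 (allL N119574 (tt N119673 F516849) (tt N120993 (iv0 F523910)) (tt N106422 F516328) (tt N122606 (iv3 F533131)) (tt N98240 (iv4 D222833)) (tt N118223 F516330) (tt N98692 F516329) (tt N120771 (iv7 F522629)))
theorem Q119576 : ∀ i, i < 119576 → P i := stepQ 119575 Q119575 (allL N119575 (tt N119488 F516335) (tt N119497 F516336) (tt N109659 F516331) (tt N103533 F516332) (tt N98263 (iv4 D222834)) (tt N119134 F516333) (tt N119675 (iv6 F516853)) (tt N103531 F516334))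
theorem Q119577 : ∀ i, i < 119577 → P i := stepQ 119576 Q119576 (allL N119576 (tt N98264 (iv1 D222835)) (tt N98322 F516337) (tt N109661 F516343) (tt N109084 (iv3 F516340)) (tt N112013 F516339) (tt N111166 (iv5 F516341)) (tt N98286 (iv6 F516342)) (tt N109651 F516338))
theorem Q119578 : ∀ i, i < 119578 → P i := stepQ 119577 Q119577 (allL N119577 (tt N107279 (iv1 F516348)) (tt N98277 (iv0 D222836)) (tt N99719 (iv2 F516347)) (tt N103200 F516346) (tt N115358 F516345) (tt N99718 F516344) (tt N113561 (iv6 F516350)) (tt N108734 F516349))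
theorem Q119579 : ∀ i, i < 119579 → P i := stepQ 119578 Q119578 (allL N119578 (tt N107088 F516354) (tt N120870 (iv0 F523190)) (tt N116877 F516351) (tt N98279 (iv3 D222837)) (tt N109595 F516352) (tt N121255 (iv5 F525399)) (tt N109594 F516353) (tt N119655 (iv7 F516743)))
theorem Q119580 : ∀ i, i < 119580 → P i := stepQ 119579 Q119579 (allL N119579 (tt N105906 F516360) (tt N105897 (iv0 F516361)) (tt N105904 F516355) (tt N115487 F516356) (tt N98281 F516357) (tt N98549 F516358) (tt N98280 (iv6 D222838)) (tt N105905 F516359))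
theorem Q119581 : ∀ i, i < 119581 → P i := stepQ 119580 Q119580 (allL N119580 (tt N108491 F516366) (tt N108648 (iv0 F516368)) (tt N108639 F516362) (tt N98285 F516363) (tt N113661 F516364) (tt N108595 F516367) (tt N98283 (iv6 D222839)) (tt N108647 F516365))
theorem Q119582 : ∀ i, i < 119582 → P i := stepQ 119581 Q119581 (allL N119581 (tt N105500 F516371) (tt N116734 (iv0 F516372)) (tt N110466 F516369) (tt N98291 (iv3 D222840)) (tt N98295 F516370) (tt N122630 (iv5 F533272)) (tt N120778 (iv6 F522657)) (tt N121158 (iv7 F524847)))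
theorem Q119583 : ∀ i, i < 119583 → P i := stepQ 119582 Q119582 (allL N119582 (tt N111838 F516378) (tt N101679 F516379) (tt N115784 F516373) (tt N118201 F516374) (tt N98292 (iv4 D222841)) (tt N99295 F516375) (tt N101878 F516376) (tt N112655 F516377))
theorem Q119584 : ∀ i, i < 119584 → P i := stepQ 119583 Q119583 (allL N119583 (tt N98311 (iv1 D222842)) (tt N113108 F516380) (tt N104064 F516385) (tt N98389 F516386) (tt N110267 F516383) (tt N104063 F516382) (tt N107907 (iv6 F516384)) (tt N109641 F516381))
theorem Q119585 : ∀ i, i < 119585 → P i := stepQ 119584 Q119584 (allL N119584 (tt N98334 (iv1 F516391)) (tt N98330 (iv0 D222843)) (tt N98331 (iv2 F516390)) (tt N98425 F516388) (tt N116924 F516387) (tt N120957 (iv5 F523695)) (tt N98422 F516389) (tt N98332 F516392))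
theorem Q119586 : ∀ i, i < 119586 → P i := stepQ 119585 Q119585 (allL N119585 (tt N122239 (iv1 F530952)) (tt N113118 F516396) (tt N122033 (iv2 F529756)) (tt N119532 F516393) (tt N98336 (iv4 D222844)) (tt N120499 (iv5 F521103)) (tt N119439 F516394) (tt N119532 F516395))
theorem Q119587 : ∀ i, i < 119587 → P i := stepQ 119586 Q119586 (allL N119586 (tt N113118 F516399) (tt N122239 F530953) (tt N119532 F516397) (tt N121011 (iv3 F524003)) (tt N98337 (iv4 D222845)) (tt N120575 (iv5 F521535)) (tt N111179 F516398) (tt N122033 (iv7 F529759)))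
theorem Q119588 : ∀ i, i < 119588 → P i := stepQ 119587 Q119587 (allL N119587 (tt N98630 F516402) (tt N114576 F516403) (tt N119569 F516400) (tt N122566 (iv3 F532882)) (tt N98339 (iv4 D222846)) (tt N121666 (iv5 F527629)) (tt N119625 (iv6 F516583)) (tt N98610 F516401))
theorem Q119589 : ∀ i, i < 119589 → P i := stepQ 119588 Q119588 (allL N119588 (tt N122664 (iv1 F533475)) (tt N118223 (iv0 F516404)) (tt N120784 (iv2 F522691)) (tt N121445 (iv3 F526417)) (tt N120498 (iv4 F521099)) (tt N98340 (iv5 D222847)) (tt N120784 (iv6 F522693)) (tt N122565 (iv7 F532879)))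
theorem Q119590 : ∀ i, i < 119590 → P i := stepQ 119589 Q119589 (allL N119589 (tt N120056 (iv1 F518811)) (tt N121207 F525139) (tt N98420 F516405) (tt N120383 F520497) (tt N98344 (iv4 D222848)) (tt N121846 (iv5 F528665)) (tt N120948 (iv6 F523639)) (tt N98424 F516406))
theorem Q119591 : ∀ i, i < 119591 → P i := stepQ 119590 Q119590 (allL N119590 (tt N110174 (iv1 F519550)) (tt N121499 F526712) (tt N98431 F516407) (tt N120360 (iv3 F520368)) (tt N121465 (iv4 F526524)) (tt N98349 (iv5 D222849)) (tt N112967 F516408) (tt N121561 (iv7 F527046)))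
theorem Q119592 : ∀ i, i < 119592 → P i := stepQ 119591 Q119591 (allL N119591 (tt N121359 F525956) (tt N121577 F527125) (tt N121578 (iv2 F527126)) (tt N98352 F516409) (tt N121583 (iv4 F527156)) (tt N98351 (iv5 D222850)) (tt N113439 (iv6 F516411)) (tt N100480 F516410))
theorem Q119593 : ∀ i, i < 119593 → P i := stepQ 119592 Q119592 (allL N119592 (tt N111206 F516417) (tt N111205 F516418) (tt N111207 F516412) (tt N98377 F516413) (tt N100243 F516414) (tt N98376 (iv5 D222851)) (tt N100226 F516415) (tt N100272 F516416))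
theorem Q119594 : ∀ i, i < 119594 → P i := stepQ 119593 Q119593 (allL N119593 (tt N121590 (iv1 F527201)) (tt N114263 (iv0 F516422)) (tt N121843 (iv2 F528646)) (tt N100226 F516419) (tt N100473 F516420) (tt N100244 F516421) (tt N98377 (iv6 D222852)) (tt N121956 (iv7 F529286)))
theorem Q119595 : ∀ i, i < 119595 → P i := stepQ 119594 Q119594 (allL N119594 (tt N120061 (iv1 F518841)) (tt N116512 F516427) (tt N109642 F516423) (tt N107955 F516424) (tt N98388 (iv4 D222853)) (tt N118626 F516426) (tt N101393 F516428) (tt N107365 F516425))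
theorem Q119596 : ∀ i, i < 119596 → P i := stepQ 119595 Q119595 (allL N119595 (tt N113111 F516434) (tt N113110 (iv0 F516435)) (tt N109643 F516429) (tt N104180 F516430) (tt N101393 F516431) (tt N115739 F516432) (tt N98388 (iv6 D222854)) (tt N113112 F516433))
theorem Q119597 : ∀ i, i < 119597 → P i := stepQ 119596 Q119596 (allL N119596 (tt N107584 F516440) (tt N107583 F516441) (tt N107598 F516436) (tt N117845 F516442) (tt N98408 (iv4 D222855)) (tt N118623 F516439) (tt N112865 F516437) (tt N107573 F516438))
theorem Q119598 : ∀ i, i < 119598 → P i := stepQ 119597 Q119597 (allL N119597 (tt N104056 F516449) (tt N104052 (iv0 F516450)) (tt N104053 F516444) (tt N98546 F516445) (tt N114359 F516446) (tt N119512 F516447) (tt N98415 (iv6 D222856)) (tt N104054 F516448))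
theorem Q119599 : ∀ i, i < 119599 → P i := stepQ 119598 Q119598 (allL N119598 (tt N121499 F526711) (tt N110174 (iv0 F516453)) (tt N121561 (iv2 F527043)) (tt N106202 F516451) (tt N121466 F526532) (tt N98417 (iv5 D222857)) (tt N121089 (iv6 F524460)) (tt N98431 F516452))
theorem Q119600 : ∀ i, i < 119600 → P i := stepQ 119599 Q119599 (allL N119599 (tt N101388 F516457) (tt N121745 F528072) (tt N109865 F516454) (tt N106252 F516458) (tt N98419 (iv4 D222858)) (tt N121264 (iv5 F525455)) (tt N106249 F516455) (tt N101041 F516456))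
theorem Q119601 : ∀ i, i < 119601 → P i := stepQ 119600 Q119600 (allL N119600 (tt N121575 (iv1 F527113)) (tt N120201 (iv0 F519561)) (tt N121846 F528667) (tt N116572 F516459) (tt N110898 F516460) (tt N98420 (iv5 D222859)) (tt N116571 (iv6 F516461)) (tt N121467 (iv7 F526536)))
theorem Q119602 : ∀ i, i < 119602 → P i := stepQ 119601 Q119601 (allL N119601 (tt N120956 (iv1 F523692)) (tt N103817 (iv0 F516463)) (tt N120948 (iv2 F523638)) (tt N121529 (iv3 F526873)) (tt N98421 F516462) (tt N120114 (iv5 F519121)) (tt N98420 (iv6 D222860)) (tt N120955 (iv7 F523680)))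
theorem Q119603 : ∀ i, i < 119603 → P i := stepQ 119602 Q119602 (allL N119602 (tt N111802 F516468) (tt N100198 F516469) (tt N109802 F516464) (tt N98426 F516465) (tt N109859 F516466) (tt N98423 (iv5 D222861)) (tt N120957 (iv6 F523696)) (tt N99109 F516467))
theorem Q119604 : ∀ i, i < 119604 → P i := stepQ 119603 Q119603 (allL N119603 (tt N120201 (iv1 F519562)) (tt N121575 (iv0 F527112)) (tt N121467 (iv2 F526533)) (tt N121437 (iv3 F526367)) (tt N118587 F516470) (tt N98424 (iv5 D222862)) (tt N116261 F516471) (tt N121846 (iv7 F528669)))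
theorem Q119605 : ∀ i, i < 119605 → P i := stepQ 119604 Q119604 (allL N119604 (tt N121232 F525276) (tt N121568 F527080) (tt N121569 (iv2 F527081)) (tt N114682 F516472) (tt N121472 (iv4 F526567)) (tt N98427 (iv5 D222863)) (tt N121322 (iv6 F525756)) (tt N121555 (iv7 F527021)))
theorem Q119606 : ∀ i, i < 119606 → P i := stepQ 119605 Q119605 (allL N119605 (tt N120375 (iv1 F520452)) (tt N121566 (iv0 F527067)) (tt N120444 (iv2 F520813)) (tt N110026 F516473) (tt N118623 F516474) (tt N98429 (iv5 D222864)) (tt N112940 F516475) (tt N110182 F516476))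
theorem Q119607 : ∀ i, i < 119607 → P i := stepQ 119606 Q119606 (allL N119606 (tt N122372 F531710) (tt N117628 F516480) (tt N106201 F516477) (tt N98431 F516478) (tt N121109 (iv4 F524557)) (tt N98430 (iv5 D222865)) (tt N122300 (iv6 F531276)) (tt N106202 F516479))
theorem Q119608 : ∀ i, i < 119608 → P i := stepQ 119607 Q119607 (allL N119607 (tt N121561 (iv1 F527047)) (tt N98431 (iv0 D222866)) (tt N110174 (iv2 F516484)) (tt N101285 F516485) (tt N119310 F516482) (tt N101388 F516481) (tt N101283 F516483) (tt N121499 (iv7 F526709)))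
theorem Q119609 : ∀ i, i < 119609 → P i := stepQ 119608 Q119608 (allL N119608 (tt N114535 F516490) (tt N113096 (iv0 F516491)) (tt N114678 F516486) (tt N98432 (iv3 D222867)) (tt N98434 F516487) (tt N122435 (iv5 F532084)) (tt N110057 F516488) (tt N114830 F516489))
theorem Q119610 : ∀ i, i < 119610 → P i := stepQ 119609 Q119609 (allL N119609 (tt N121923 F529087) (tt N122274 (iv0 F531112)) (tt N111202 F516492) (tt N98435 F516493) (tt N114893 F516495) (tt N98434 (iv5 D222868)) (tt N110409 F516494) (tt N121842 (iv7 F528642)))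
theorem Q119611 : ∀ i, i < 119611 → P i := stepQ 119610 Q119610 (allL N119610 (tt N116193 F516500) (tt N116520 (iv0 F516501)) (tt N100271 F516496) (tt N110409 F516497) (tt N100479 F516498) (tt N111194 F516499) (tt N98435 (iv6 D222869)) (tt N116534 (iv7 F516502)))
theorem Q119612 : ∀ i, i < 119612 → P i := stepQ 119611 Q119611 (allL N119611 (tt N112910 F516508) (tt N104180 (iv0 F516509)) (tt N113106 F516503) (tt N98664 F516504) (tt N105222 F516505) (tt N111759 F516506) (tt N98445 (iv6 D222870)) (tt N113107 F516507))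
theorem Q119613 : ∀ i, i < 119613 → P i := stepQ 119612 Q119612 (allL N119612 (tt N120866 F523166) (tt N104528 F516515) (tt N106159 F516510) (tt N116873 F516511) (tt N98452 (iv4 D222871)) (tt N109390 F516514) (tt N98719 F516512) (tt N116872 F516513))
theorem Q119614 : ∀ i, i < 119614 → P i := stepQ 119613 Q119613 (allL N119613 (tt N104528 F516519) (tt N120866 (iv0 F523165)) (tt N116872 F516516) (tt N111226 F516520) (tt N98453 (iv4 D222872)) (tt N116871 F516517) (tt N120895 (iv6 F523338)) (tt N106159 F516518))
theorem Q119615 : ∀ i, i < 119615 → P i := stepQ 119614 Q119614 (allL N119614 (tt N98997 F516524) (tt N106288 F516525) (tt N98455 F516521) (tt N121578 (iv3 F527127)) (tt N121290 (iv4 F525586)) (tt N98454 (iv5 D222873)) (tt N117140 F516522) (tt N106286 F516523))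
theorem Q119616 : ∀ i, i < 119616 → P i := stepQ 119615 Q119615 (allL N119615 (tt N121225 (iv1 F525235)) (tt N121292 F525597) (tt N121290 (iv2 F525588)) (tt N109947 F516526) (tt N98455 (iv4 D222874)) (tt N121388 (iv5 F526090)) (tt N117295 (iv6 F516528)) (tt N121289 F525584))
theorem Q119617 : ∀ i, i < 119617 → P i := stepQ 119616 Q119616 (allL N119616 (tt N117141 F516533) (tt N116858 (iv0 F516534)) (tt N117140 F516529) (tt N98456 F516530) (tt N117295 F516531) (tt N122300 (iv5 F531275)) (tt N98455 (iv6 D222875)) (tt N113438 F516532))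
theorem Q119618 : ∀ i, i < 119618 → P i := stepQ 119617 Q119617 (allL N119617 (tt N119552 F516540) (tt N106433 F516541) (tt N112365 F516535) (tt N108869 F516536) (tt N98463 (iv4 D222876)) (tt N115736 F516537) (tt N110410 F516538) (tt N112364 F516539))
theorem Q119619 : ∀ i, i < 119619 → P i := stepQ 119618 Q119618 (allL N119618 (tt N98470 (iv1 F516546)) (tt N98468 (iv0 D222877)) (tt N121925 (iv2 F529096)) (tt N114253 F516544) (tt N111234 F516543) (tt N119545 F516542) (tt N114254 F516545) (tt N111233 F516547))
theorem Q119620 : ∀ i, i < 119620 → P i := stepQ 119619 Q119619 (allL N119619 (tt N98482 (iv1 D222878)) (tt N98484 F516549) (tt N98489 F516554) (tt N108806 F516555) (tt N115093 F516552) (tt N100766 F516551) (tt N100171 (iv6 F516553)) (tt N98488 F516550))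
theorem Q119621 : ∀ i, i < 119621 → P i := stepQ 119620 Q119620 (allL N119620 (tt N116736 F516560) (tt N106001 (iv0 F516561)) (tt N121260 (iv2 F525430)) (tt N98486 (iv3 D222879)) (tt N107639 F516556) (tt N100248 F516557) (tt N100210 F516558) (tt N107635 F516559))
theorem Q119622 : ∀ i, i < 119622 → P i := stepQ 119621 Q119621 (allL N119621 (tt N121152 (iv1 F524806)) (tt N98500 (iv0 D222880)) (tt N120062 (iv2 F518843)) (tt N106571 F516563) (tt N122056 (iv4 F529893)) (tt N106568 F516562) (tt N120058 (iv6 F518820)) (tt N106567 (iv7 F516564)))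
theorem Q119623 : ∀ i, i < 119623 → P i := stepQ 119622 Q119622 (allL N119622 (tt N120062 F518848) (tt N106567 F516567) (tt N98500 (iv2 D222881)) (tt N121260 (iv3 F525431)) (tt N98535 F516565) (tt N121275 (iv5 F525510)) (tt N111147 F516566) (tt N121152 (iv7 F524807)))
theorem Q119624 : ∀ i, i < 119624 → P i := stepQ 119623 Q119623 (allL N119623 (tt N109184 F516572) (tt N109188 (iv0 F516573)) (tt N121030 (iv2 F524107)) (tt N98508 (iv3 D222882)) (tt N118040 F516568) (tt N114369 F516569) (tt N116276 F516570) (tt N118334 F516571))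
theorem Q119625 : ∀ i, i < 119625 → P i := stepQ 119624 Q119624 (allL N119624 (tt N98509 (iv1 D222883)) (tt N98522 F516574) (tt N119642 (iv2 F516663)) (tt N120841 (iv3 F523021)) (tt N111212 F516577) (tt N111251 F516576) (tt N119499 (iv6 F516578)) (tt N111250 F516575))
theorem Q119626 : ∀ i, i < 119626 → P i := stepQ 119625 Q119625 (allL N119625 (tt N119642 (iv1 F516667)) (tt N111250 (iv0 F516584)) (tt N98522 F516579) (tt N117693 F516580) (tt N98512 F516581) (tt N117692 F516582) (tt N119587 F516583) (tt N98509 (iv7 D222884)))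
theorem Q119627 : ∀ i, i < 119627 → P i := stepQ 119626 Q119626 (allL N119626 (tt N109670 (iv1 F516586)) (tt N98515 (iv0 D222885)) (tt N119654 F516739) (tt N120077 (iv3 F518922)) (tt N113982 F516585) (tt N120074 (iv5 F518910)) (tt N120361 F520374) (tt N119653 F516734))
theorem Q119628 : ∀ i, i < 119628 → P i := stepQ 119627 Q119627 (allL N119627 (tt N121958 F529301) (tt N108422 F516591) (tt N120355 (iv2 F520343)) (tt N105334 F516587) (tt N98515 (iv4 D222886)) (tt N106547 F516590) (tt N114643 F516588) (tt N106546 F516589))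
theorem Q119629 : ∀ i, i < 119629 → P i := stepQ 119628 Q119628 (allL N119628 (tt N120078 (iv1 F518932)) (tt N119557 F516597) (tt N114490 F516592) (tt N107317 F516593) (tt N108812 F516596) (tt N98516 (iv5 D222887)) (tt N114290 F516594) (tt N118453 F516595))
theorem Q119630 : ∀ i, i < 119630 → P i := stepQ 119629 Q119629 (allL N119629 (tt N104058 F516602) (tt N98566 F516603) (tt N106543 F516598) (tt N109660 F516599) (tt N106540 (iv4 F516604)) (tt N98517 (iv5 D222888)) (tt N106539 F516600) (tt N111259 F516601))
theorem Q119631 : ∀ i, i < 119631 → P i := stepQ 119630 Q119630 (allL N119630 (tt N122635 (iv1 F533306)) (tt N122240 (iv0 F530957)) (tt N119199 F516605) (tt N120239 (iv3 F519754)) (tt N100556 F516607) (tt N98523 (iv5 D222889)) (tt N108894 F516606) (tt N120239 (iv7 F519756)))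
theorem Q119632 : ∀ i, i < 119632 → P i := stepQ 119631 Q119631 (allL N119631 (tt N103598 F516612) (tt N119658 F516761) (tt N98531 (iv2 D222890)) (tt N116888 F516608) (tt N114800 F516609) (tt N104726 F516610) (tt N119538 F516611) (tt N119659 (iv7 F516765)))
theorem Q119633 : ∀ i, i < 119633 → P i := stepQ 119632 Q119632 (allL N119632 (tt N98534 (iv1 F516617)) (tt N98533 (iv0 D222891)) (tt N98537 (iv2 F516615)) (tt N106133 F516613) (tt N121152 (iv4 F524809)) (tt N105745 F516614) (tt N121624 (iv6 F527400)) (tt N98535 F516616))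
theorem Q119634 : ∀ i, i < 119634 → P i := stepQ 119633 Q119633 (allL N119633 (tt N98537 F516623) (tt N98535 (iv0 F516622)) (tt N98533 (iv2 D222892)) (tt N118442 F516618) (tt N121222 (iv4 F525217)) (tt N116258 F516619) (tt N116884 F516620) (tt N98534 (iv7 F516621)))
theorem Q119635 : ∀ i, i < 119635 → P i := stepQ 119634 Q119634 (allL N119634 (tt N121218 (iv1 F525196)) (tt N106479 (iv0 F516628)) (tt N121222 F525218) (tt N115082 F516624) (tt N98533 (iv4 D222893)) (tt N106472 (iv5 F516626)) (tt N118011 F516625) (tt N115080 F516627))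
theorem Q119636 : ∀ i, i < 119636 → P i := stepQ 119635 Q119635 (allL N119635 (tt N98535 (iv1 F516634)) (tt N98537 F516635) (tt N98534 F516629) (tt N103498 F516630) (tt N115080 F516631) (tt N104714 F516632) (tt N103632 F516633) (tt N98533 (iv7 D222894)))
theorem Q119637 : ∀ i, i < 119637 → P i := stepQ 119636 Q119636 (allL N119636 (tt N106479 F516639) (tt N121218 (iv0 F525197)) (tt N115080 F516636) (tt N121296 (iv3 F525610)) (tt N98534 (iv4 D222895)) (tt N102752 F516638) (tt N115079 F516637) (tt N121222 (iv7 F525215)))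
theorem Q119638 : ∀ i, i < 119638 → P i := stepQ 119637 Q119637 (allL N119637 (tt N120747 (iv1 F522494)) (tt N103495 (iv0 F516644)) (tt N98536 F516640) (tt N119663 (iv3 F516785)) (tt N106977 F516643) (tt N98535 (iv5 D222896)) (tt N105129 F516641) (tt N105745 F516642))
theorem Q119639 : ∀ i, i < 119639 → P i := stepQ 119638 Q119638 (allL N119638 (tt N119474 (iv1 F516650)) (tt N119139 (iv0 F516649)) (tt N121624 (iv2 F527397)) (tt N98538 F516645) (tt N114342 F516646) (tt N109421 F516647) (tt N98537 (iv6 D222897)) (tt N98691 F516648))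
theorem Q119640 : ∀ i, i < 119640 → P i := stepQ 119639 Q119639 (allL N119639 (tt N121316 F525723) (tt N122106 (iv0 F530205)) (tt N121609 (iv2 F527315)) (tt N98557 (iv3 D222898)) (tt N98561 F516651) (tt N115563 F516652) (tt N121608 (iv6 F527314)) (tt N122054 (iv7 F529883)))
theorem Q119641 : ∀ i, i < 119641 → P i := stepQ 119640 Q119640 (allL N119640 (tt N118659 (iv1 F516657)) (tt N119043 F516656) (tt N98561 (iv2 D222899)) (tt N104486 F516653) (tt N121609 (iv4 F527317)) (tt N103597 F516654) (tt N109177 F516655) (tt N120869 (iv7 F523183)))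
theorem Q119642 : ∀ i, i < 119642 → P i := stepQ 119641 Q119641 (allL N119641 (tt N119656 (iv1 F516750)) (tt N109447 (iv0 F516662)) (tt N120868 F523176) (tt N109179 F516658) (tt N98564 F516659) (tt N103491 F516660) (tt N119571 F516661) (tt N98562 (iv7 D222900)))
theorem Q119643 : ∀ i, i < 119643 → P i := stepQ 119642 Q119642 (allL N119642 (tt N98602 F516666) (tt N119625 F516667) (tt N119624 F516663) (tt N120916 (iv3 F523454)) (tt N98563 (iv4 D222901)) (tt N109431 F516664) (tt N121772 (iv6 F528229)) (tt N109430 F516665))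
theorem Q119644 : ∀ i, i < 119644 → P i := stepQ 119643 Q119643 (allL N119643 (tt N98568 (iv1 D222902)) (tt N104358 F516668) (tt N119414 F516673) (tt N120539 F521338) (tt N119504 F516671) (tt N102941 F516670) (tt N119413 (iv6 F516672)) (tt N119504 F516669))
theorem Q119645 : ∀ i, i < 119645 → P i := stepQ 119644 Q119644 (allL N119644 (tt N114433 F516679) (tt N114452 F516680) (tt N115402 F516674) (tt N113333 F516675) (tt N98568 (iv4 D222903)) (tt N104394 F516676) (tt N110314 F516677) (tt N115401 F516678))
theorem Q119646 : ∀ i, i < 119646 → P i := stepQ 119645 Q119645 (allL N119645 (tt N120539 (iv1 F521335)) (tt N104310 (iv0 F516685)) (tt N109915 F516681) (tt N98570 (iv3 D222904)) (tt N109913 F516682) (tt N104417 F516683) (tt N104559 F516684) (tt N120492 (iv7 F521061)))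
theorem Q119647 : ∀ i, i < 119647 → P i := stepQ 119646 Q119646 (allL N119646 (tt N119389 F516691) (tt N115256 F516692) (tt N98581 F516686) (tt N112359 F516687) (tt N98575 (iv4 D222905)) (tt N119399 F516690) (tt N112880 F516688) (tt N115239 F516689))
theorem Q119648 : ∀ i, i < 119648 → P i := stepQ 119647 Q119647 (allL N119647 (tt N119391 F516695) (tt N115318 F516696) (tt N119399 F516693) (tt N121405 (iv3 F526172)) (tt N102151 F516694) (tt N98581 (iv5 D222906)) (tt N120789 (iv6 F522726)) (tt N119398 F516697))
theorem Q119649 : ∀ i, i < 119649 → P i := stepQ 119648 Q119648 (allL N119648 (tt N115256 (iv1 F516703)) (tt N119389 F516704) (tt N115239 F516698) (tt N106736 F516699) (tt N98582 F516700) (tt N119398 F516701) (tt N104999 F516702) (tt N98581 (iv7 D222907)))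
theorem Q119650 : ∀ i, i < 119650 → P i := stepQ 119649 Q119649 (allL N119649 (tt N122104 (iv1 F530193)) (tt N120994 (iv0 F523915)) (tt N121753 (iv2 F528113)) (tt N107094 F516705) (tt N118263 F516707) (tt N98587 (iv5 D222908)) (tt N118262 F516706) (tt N122501 (iv7 F532507)))
theorem Q119651 : ∀ i, i < 119651 → P i := stepQ 119650 Q119650 (allL N119650 (tt N103191 (iv1 F516711)) (tt N116899 F516712) (tt N119571 F516708) (tt N106091 F516709) (tt N98588 F516710) (tt N122501 (iv5 F532506)) (tt N120868 (iv6 F523180)) (tt N98587 (iv7 D222909)))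
theorem Q119652 : ∀ i, i < 119652 → P i := stepQ 119651 Q119651 (allL N119651 (tt N104998 (iv1 F516716)) (tt N98592 (iv0 D222910)) (tt N117625 F516718) (tt N108583 (iv3 F516717)) (tt N115701 F516714) (tt N117623 F516713) (tt N108641 F516715) (tt N112440 F516719))
theorem Q119653 : ∀ i, i < 119653 → P i := stepQ 119652 Q119652 (allL N119652 (tt N98592 (iv1 D222911)) (tt N104998 F516720) (tt N112440 F516726) (tt N116012 (iv3 F516724)) (tt N104913 F516723) (tt N116011 F516722) (tt N103958 (iv6 F516725)) (tt N117625 F516721))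
theorem Q119654 : ∀ i, i < 119654 → P i := stepQ 119653 Q119653 (allL N119653 (tt N100951 (iv1 F516730)) (tt N98594 (iv0 D222912)) (tt N105238 F516732) (tt N99874 F516733) (tt N105234 F516728) (tt N99873 F516727) (tt N106864 (iv6 F516731)) (tt N119626 (iv7 F516734)))
theorem Q119655 : ∀ i, i < 119655 → P i := stepQ 119654 Q119654 (allL N119654 (tt N98594 (iv1 D222913)) (tt N100951 F516735) (tt N119626 (iv2 F516739)) (tt N100981 F516740) (tt N105239 F516738) (tt N109730 F516737) (tt N122132 (iv6 F530352)) (tt N105238 F516736))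
theorem Q119656 : ∀ i, i < 119656 → P i := stepQ 119655 Q119655 (allL N119655 (tt N120484 F521014) (tt N120482 (iv0 F521000)) (tt N120107 (iv2 F519081)) (tt N98601 (iv3 D222914)) (tt N106252 F516741) (tt N120638 F521896) (tt N106250 F516742) (tt N119578 F516743))
theorem Q119657 : ∀ i, i < 119657 → P i := stepQ 119656 Q119656 (allL N119656 (tt N111211 F516749) (tt N119641 F516750) (tt N104717 F516744) (tt N103666 F516745) (tt N98605 (iv4 D222915)) (tt N104716 F516746) (tt N119505 F516747) (tt N103662 F516748))
theorem Q119658 : ∀ i, i < 119658 → P i := stepQ 119657 Q119657 (allL N119657 (tt N114442 F516756) (tt N114583 F516757) (tt N114312 F516751) (tt N98686 F516752) (tt N114573 F516753) (tt N98617 (iv5 D222916)) (tt N117768 F516754) (tt N114577 F516755))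
theorem Q119659 : ∀ i, i < 119659 → P i := stepQ 119658 Q119658 (allL N119658 (tt N119631 (iv1 F516761)) (tt N98618 (iv0 D222917)) (tt N114419 (iv2 F516760)) (tt N108885 F516759) (tt N121039 (iv4 F524161)) (tt N104655 F516758) (tt N98677 (iv6 F516763)) (tt N104654 F516762))
theorem Q119660 : ∀ i, i < 119660 → P i := stepQ 119659 Q119659 (allL N119659 (tt N114419 (iv1 F516769)) (tt N104654 F516766) (tt N98618 (iv2 D222918)) (tt N117767 F516764) (tt N108146 F516767) (tt N120926 (iv5 F523516)) (tt N117766 (iv6 F516768)) (tt N119631 F516765))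
theorem Q119661 : ∀ i, i < 119661 → P i := stepQ 119660 Q119660 (allL N119660 (tt N121319 F525743) (tt N119515 F516773) (tt N108146 F516770) (tt N111217 F516771) (tt N98618 (iv4 D222919)) (tt N122105 (iv5 F530194)) (tt N114591 F516774) (tt N114313 F516772))
theorem Q119662 : ∀ i, i < 119662 → P i := stepQ 119661 Q119661 (allL N119661 (tt N120630 (iv1 F521853)) (tt N120632 (iv0 F521863)) (tt N117766 F516775) (tt N98620 F516776) (tt N114591 F516777) (tt N102479 (iv5 F516779)) (tt N98618 (iv6 D222920)) (tt N114582 F516778))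
theorem Q119663 : ∀ i, i < 119663 → P i := stepQ 119662 Q119662 (allL N119662 (tt N120928 F523536) (tt N121255 F525404) (tt N120665 (iv2 F522042)) (tt N98740 F516780) (tt N114443 F516783) (tt N98621 (iv5 D222921)) (tt N98739 F516781) (tt N117765 F516782))
theorem Q119664 : ∀ i, i < 119664 → P i := stepQ 119663 Q119663 (allL N119663 (tt N119526 (iv1 F516789)) (tt N114416 (iv0 F516788)) (tt N98623 F516784) (tt N119637 F516785) (tt N120836 (iv4 F522997)) (tt N98622 (iv5 D222922)) (tt N109420 F516787) (tt N119527 F516786))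
theorem Q119665 : ∀ i, i < 119665 → P i := stepQ 119664 Q119664 (allL N119664 (tt N98623 (iv1 D222923)) (tt N119527 F516793) (tt N114416 (iv2 F516795)) (tt N119676 (iv3 F516861)) (tt N122407 (iv4 F531917)) (tt N120482 (iv5 F521002)) (tt N115940 F516796) (tt N119526 F516794))
theorem Q119666 : ∀ i, i < 119666 → P i := stepQ 119665 Q119665 (allL N119665 (tt N120860 (iv1 F523128)) (tt N104475 F516800) (tt N120836 (iv2 F522993)) (tt N104437 F516797) (tt N98623 (iv4 D222924)) (tt N113808 (iv5 F516801)) (tt N102540 F516798) (tt N104450 F516799))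
theorem Q119667 : ∀ i, i < 119667 → P i := stepQ 119666 Q119666 (allL N119666 (tt N103600 F516806) (tt N104605 (iv0 F516807)) (tt N104603 F516802) (tt N98624 (iv3 D222925)) (tt N101756 F516803) (tt N103664 F516804) (tt N120873 F523209) (tt N104602 F516805))
theorem Q119668 : ∀ i, i < 119668 → P i := stepQ 119667 Q119667 (allL N119667 (tt N119411 (iv1 F516810)) (tt N98626 (iv0 D222926)) (tt N119536 (iv2 F516811)) (tt N120821 F522913) (tt N102232 F516809) (tt N118000 F516808) (tt N120969 (iv6 F523770)) (tt N119537 (iv7 F516812)))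
theorem Q119669 : ∀ i, i < 119669 → P i := stepQ 119668 Q119668 (allL N119668 (tt N98626 (iv1 D222927)) (tt N119411 F516813) (tt N119537 F516818) (tt N104581 (iv3 F516817)) (tt N102231 F516816) (tt N118002 F516815) (tt N104579 F516819) (tt N119536 F516814))
theorem Q119670 : ∀ i, i < 119670 → P i := stepQ 119669 Q119669 (allL N119669 (tt N98629 (iv1 D222928)) (tt N104690 F516820) (tt N104692 F516824) (tt N103656 (iv3 F516823)) (tt N120258 (iv4 F519858)) (tt N103651 F516822) (tt N103653 F516825) (tt N104685 F516821))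
theorem Q119671 : ∀ i, i < 119671 → P i := stepQ 119670 Q119670 (allL N119670 (tt N120499 (iv1 F521104)) (tt N120575 (iv0 F521538)) (tt N119570 F516826) (tt N114829 F516827) (tt N118608 F516829) (tt N98630 (iv5 D222929)) (tt N119570 F516828) (tt N122326 (iv7 F531438)))
theorem Q119672 : ∀ i, i < 119672 → P i := stepQ 119671 Q119671 (allL N119671 (tt N98632 (iv1 D222930)) (tt N106144 F516830) (tt N115018 F516836) (tt N118627 (iv3 F516834)) (tt N103194 F516832) (tt N103291 F516833) (tt N98645 (iv6 F516835)) (tt N115017 F516831))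
theorem Q119673 : ∀ i, i < 119673 → P i := stepQ 119672 Q119672 (allL N119672 (tt N103260 F516842) (tt N103258 F516843) (tt N103393 F516837) (tt N98634 F516838) (tt N103359 F516839) (tt N98632 (iv5 D222931)) (tt N118994 F516840) (tt N103392 F516841))
theorem Q119674 : ∀ i, i < 119674 → P i := stepQ 119673 Q119673 (allL N119673 (tt N119573 F516848) (tt N119574 (iv0 F516849)) (tt N116370 F516844) (tt N104447 F516845) (tt N98664 F516846) (tt N122682 (iv5 F533578)) (tt N98662 (iv6 D222932)) (tt N104443 F516847))
theorem Q119675 : ∀ i, i < 119675 → P i := stepQ 119674 Q119674 (allL N119674 (tt N121348 (iv1 F525900)) (tt N116910 (iv0 F516850)) (tt N120828 (iv2 F522955)) (tt N98668 (iv3 D222933)) (tt N121218 (iv4 F525195)) (tt N120636 F521885) (tt N120682 (iv6 F522119)) (tt N120893 (iv7 F523328)))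
theorem Q119676 : ∀ i, i < 119676 → P i := stepQ 119675 Q119675 (allL N119675 (tt N114447 F516855) (tt N119524 F516856) (tt N121824 (iv2 F528534)) (tt N104623 F516851) (tt N109425 F516852) (tt N98669 (iv5 D222934)) (tt N119575 F516853) (tt N104620 F516854))
theorem Q119677 : ∀ i, i < 119677 → P i := stepQ 119676 Q119676 (allL N119676 (tt N103494 F516859) (tt N103490 F516860) (tt N103491 F516857) (tt N119664 F516861) (tt N98673 (iv4 D222935)) (tt N120868 (iv5 F523174)) (tt N122112 (iv6 F530241)) (tt N103492 F516858))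
theorem Q119678 : ∀ i, i < 119678 → P i := stepQ 119677 Q119677 (allL N119677 (tt N100776 F516866) (tt N100775 (iv0 F516867)) (tt N114445 F516862) (tt N98750 F516863) (tt N122112 (iv4 F530240)) (tt N98749 F516864) (tt N98673 (iv6 D222936)) (tt N109438 F516865))
theorem Q119679 : ∀ i, i < 119679 → P i := stepQ 119678 Q119678 (allL N119678 (tt N104704 F516871) (tt N103721 F516872) (tt N98690 F516868) (tt N107611 F516869) (tt N98687 (iv4 D222937)) (tt N121780 (iv5 F528270)) (tt N107610 F516873) (tt N111147 F516870))
theorem Q119680 : ∀ i, i < 119680 → P i := stepQ 119679 Q119679 (allL N119679 (tt N119139 F516878) (tt N119474 (iv0 F516879)) (tt N98691 F516874) (tt N107606 F516875) (tt N107610 F516876) (tt N109420 F516877) (tt N98687 (iv6 D222938)) (tt N121624 (iv7 F527401)))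
theorem Q119681 : ∀ i, i < 119681 → P i := stepQ 119680 Q119680 (allL N119680 (tt N109392 F516883) (tt N118670 F516882) (tt N121780 (iv2 F528272)) (tt N100212 F516880) (tt N122007 (iv4 F529600)) (tt N98690 (iv5 D222939)) (tt N122432 F532068) (tt N111148 F516881))
theorem Q119682 : ∀ i, i < 119682 → P i := stepQ 119681 Q119681 (allL N119681 (tt N121003 (iv1 F523968)) (tt N121771 (iv0 F528224)) (tt N119533 F516884) (tt N116277 F516885) (tt N102230 F516888) (tt N98692 (iv5 D222940)) (tt N104364 F516886) (tt N119535 F516887))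
theorem Q119683 : ∀ i, i < 119683 → P i := stepQ 119682 Q119682 (allL N119682 (tt N121771 (iv1 F528225)) (tt N121003 (iv0 F523967)) (tt N119535 F516889) (tt N119468 F516890) (tt N102228 F516891) (tt N98693 (iv5 D222941)) (tt N117943 F516893) (tt N119533 F516892))
theorem Q119684 : ∀ i, i < 119684 → P i := stepQ 119683 Q119683 (allL N119683 (tt N103743 F516898) (tt N103670 F516899) (tt N117969 F516894) (tt N98710 (iv3 D222942)) (tt N117966 F516895) (tt N121051 (iv5 F524241)) (tt N117965 F516896) (tt N105122 F516897))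
theorem Q119685 : ∀ i, i < 119685 → P i := stepQ 119684 Q119684 (allL N119684 (tt N105220 F516904) (tt N103786 (iv0 F516905)) (tt N116272 F516900) (tt N98717 F516901) (tt N119519 F516902) (tt N116226 F516903) (tt N98716 (iv6 D222943)) (tt N120752 (iv7 F522524)))
theorem Q119686 : ∀ i, i < 119686 → P i := stepQ 119685 Q119685 (allL N119685 (tt N120862 F523147) (tt N104513 (iv0 F516910)) (tt N105544 F516906) (tt N98718 (iv3 D222944)) (tt N105543 F516907) (tt N104500 F516908) (tt N121348 (iv6 F525897)) (tt N106158 F516909))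
theorem Q119687 : ∀ i, i < 119687 → P i := stepQ 119686 Q119686 (allL N119686 (tt N105897 F516916) (tt N105906 F516917) (tt N105905 F516911) (tt N113625 F516912) (tt N114070 F516913) (tt N98723 (iv5 D222945)) (tt N109701 F516914) (tt N105904 F516915))
theorem Q119688 : ∀ i, i < 119688 → P i := stepQ 119687 Q119687 (allL N119687 (tt N110729 (iv1 F516922)) (tt N118301 (iv0 F516921)) (tt N122173 (iv2 F530577)) (tt N98731 (iv3 D222946)) (tt N112304 F516918) (tt N121709 (iv5 F527886)) (tt N119254 F516919) (tt N105326 F516920))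
theorem Q119689 : ∀ i, i < 119689 → P i := stepQ 119688 Q119688 (allL N119688 (tt N106245 F516927) (tt N119987 (iv0 F518406)) (tt N105696 F516923) (tt N105388 F516924) (tt N119034 F516925) (tt N98734 (iv5 D222947)) (tt N120176 (iv6 F519443)) (tt N105507 F516926))
theorem Q119690 : ∀ i, i < 119690 → P i := stepQ 119689 Q119689 (allL N119689 (tt N109849 F516933) (tt N109264 (iv0 F516934)) (tt N109851 F516928) (tt N109266 F516929) (tt N98753 F516930) (tt N107585 F516931) (tt N98751 (iv6 D222948)) (tt N109291 F516932))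
theorem Q119691 : ∀ i, i < 119691 → P i := stepQ 119690 Q119690 (allL N119690 (tt N101634 F516938) (tt N106471 (iv0 F516939)) (tt N118232 F516935) (tt N98776 F516936) (tt N105147 F516937) (tt N121992 (iv5 F529504)) (tt N98775 (iv6 D222949)) (tt N119787 (iv7 F517417)))
theorem Q119692 : ∀ i, i < 119692 → P i := stepQ 119691 Q119691 (allL N119691 (tt N98776 (iv1 D222950)) (tt N98915 F516940) (tt N98871 F516943) (tt N99009 F516944) (tt N118477 F516945) (tt N120418 (iv5 F520675)) (tt N103214 (iv6 F516942)) (tt N98913 F516941))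
theorem Q119693 : ∀ i, i < 119693 → P i := stepQ 119692 Q119692 (allL N119692 (tt N100402 (iv1 F516951)) (tt N98777 (iv0 D222951)) (tt N100404 (iv2 F516950)) (tt N110736 F516948) (tt N100356 F516947) (tt N110736 F516946) (tt N110570 F516949) (tt N99133 F516952))
theorem Q119694 : ∀ i, i < 119694 → P i := stepQ 119693 Q119693 (allL N119693 (tt N112805 F516957) (tt N119906 (iv0 F517968)) (tt N106964 F516953) (tt N100353 F516954) (tt N98786 (iv4 D222952)) (tt N119721 (iv5 F517093)) (tt N110581 F516955) (tt N118521 F516956))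
theorem Q119695 : ∀ i, i < 119695 → P i := stepQ 119694 Q119694 (allL N119694 (tt N113444 (iv1 F516961)) (tt N98787 (iv0 D222953)) (tt N110670 (iv2 F516960)) (tt N99135 F516959) (tt N122316 (iv4 F531371)) (tt N110605 F516958) (tt N121803 (iv6 F528416)) (tt N110668 F516962))
theorem Q119696 : ∀ i, i < 119696 → P i := stepQ 119695 Q119695 (allL N119695 (tt N121436 (iv1 F526365)) (tt N116675 F516968) (tt N99169 F516963) (tt N116606 F516964) (tt N98795 (iv4 D222954)) (tt N108349 F516965) (tt N110804 F516966) (tt N99174 F516967))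
theorem Q119697 : ∀ i, i < 119697 → P i := stepQ 119696 Q119696 (allL N119696 (tt N99193 F516972) (tt N99195 (iv0 F516974)) (tt N99194 F516969) (tt N98796 (iv3 D222955)) (tt N99056 F516973) (tt N118265 F516970) (tt N119934 F518116) (tt N99165 F516971))
theorem Q119698 : ∀ i, i < 119698 → P i := stepQ 119697 Q119697 (allL N119697 (tt N119735 F517167) (tt N99276 (iv0 F516976)) (tt N99166 F516975) (tt N119934 (iv3 F518118)) (tt N122429 (iv4 F532049)) (tt N121994 (iv5 F529518)) (tt N98796 (iv6 D222956)) (tt N121540 (iv7 F526930)))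
theorem Q119699 : ∀ i, i < 119699 → P i := stepQ 119698 Q119698 (allL N119698 (tt N121455 (iv1 F526476)) (tt N122569 (iv0 F532901)) (tt N98804 F516977) (tt N99176 F516978) (tt N116106 F516981) (tt N98801 (iv5 D222957)) (tt N98809 F516979) (tt N99183 F516980))
theorem Q119700 : ∀ i, i < 119700 → P i := stepQ 119699 Q119699 (allL N119699 (tt N99211 F516984) (tt N99205 (iv0 F516986)) (tt N99208 F516985) (tt N98802 (iv3 D222958)) (tt N107348 F516982) (tt N121971 (iv5 F529376)) (tt N119716 (iv6 F517069)) (tt N99209 F516983))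
theorem Q119701 : ∀ i, i < 119701 → P i := stepQ 119700 Q119700 (allL N119700 (tt N106635 F516990) (tt N108244 F516988) (tt N121453 (iv2 F526461)) (tt N121971 (iv3 F529378)) (tt N109502 F516987) (tt N98802 (iv5 D222959)) (tt N109501 F516989) (tt N122003 (iv7 F529578)))
theorem Q119702 : ∀ i, i < 119702 → P i := stepQ 119701 Q119701 (allL N119701 (tt N117002 (iv1 F516995)) (tt N116018 (iv0 F516994)) (tt N101532 F516996) (tt N98803 (iv3 D222960)) (tt N100917 F516991) (tt N122577 (iv5 F532943)) (tt N100916 F516992) (tt N117001 F516993))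
theorem Q119703 : ∀ i, i < 119703 → P i := stepQ 119702 Q119702 (allL N119702 (tt N108244 F516999) (tt N106635 F516997) (tt N122003 (iv2 F529574)) (tt N122577 (iv3 F532944)) (tt N117167 F516998) (tt N98803 (iv5 D222961)) (tt N117165 F517000) (tt N121453 (iv7 F526463)))
theorem Q119704 : ∀ i, i < 119704 → P i := stepQ 119703 Q119703 (allL N119703 (tt N99183 F517005) (tt N98804 (iv0 D222962)) (tt N121455 (iv2 F526471)) (tt N110808 F517002) (tt N113338 F517003) (tt N110798 F517001) (tt N110808 F517004) (tt N122569 (iv7 F532900)))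
theorem Q119705 : ∀ i, i < 119705 → P i := stepQ 119704 Q119704 (allL N119704 (tt N98804 (iv1 D222963)) (tt N99183 F517006) (tt N122569 (iv2 F532896)) (tt N122564 (iv3 F532873)) (tt N99402 F517008) (tt N110797 F517007) (tt N121626 (iv6 F527412)) (tt N121455 (iv7 F526473)))
theorem Q119706 : ∀ i, i < 119706 → P i := stepQ 119705 Q119705 (allL N119705 (tt N122569 (iv1 F532902)) (tt N121455 (iv0 F526475)) (tt N99183 F517009) (tt N98809 F517010) (tt N116109 F517011) (tt N98805 F517012) (tt N99176 F517013) (tt N98804 (iv7 D222964)))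
theorem Q119707 : ∀ i, i < 119707 → P i := stepQ 119706 Q119706 (allL N119706 (tt N99176 (iv1 F517017)) (tt N98808 (iv0 D222965)) (tt N99190 (iv2 F517016)) (tt N121804 (iv3 F528422)) (tt N99952 F517015) (tt N100411 F517014) (tt N121384 (iv6 F526067)) (tt N99189 F517018))
theorem Q119708 : ∀ i, i < 119708 → P i := stepQ 119707 Q119707 (allL N119707 (tt N116578 F517024) (tt N120343 (iv0 F520290)) (tt N119298 F517019) (tt N107287 F517020) (tt N108188 F517023) (tt N98828 (iv5 D222966)) (tt N118755 F517021) (tt N119297 F517022))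
theorem Q119709 : ∀ i, i < 119709 → P i := stepQ 119708 Q119708 (allL N119708 (tt N120343 F520291) (tt N116578 F517030) (tt N119297 F517025) (tt N111367 F517026) (tt N108187 F517027) (tt N98829 (iv5 D222967)) (tt N108469 F517028) (tt N119298 F517029))
theorem Q119710 : ∀ i, i < 119710 → P i := stepQ 119709 Q119709 (allL N119709 (tt N99225 (iv1 F517035)) (tt N99215 (iv0 F517034)) (tt N99222 F517031) (tt N98834 (iv3 D222968)) (tt N121308 (iv4 F525677)) (tt N122009 (iv5 F529611)) (tt N118265 F517032) (tt N99223 F517033))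
theorem Q119711 : ∀ i, i < 119711 → P i := stepQ 119710 Q119710 (allL N119710 (tt N119737 (iv1 F517177)) (tt N110001 F517038) (tt N99244 F517036) (tt N122009 (iv3 F529612)) (tt N121119 (iv4 F524605)) (tt N98834 (iv5 D222969)) (tt N121994 F529521) (tt N99245 F517037))
theorem Q119712 : ∀ i, i < 119712 → P i := stepQ 119711 Q119711 (allL N119711 (tt N110001 F517043) (tt N119737 (iv0 F517176)) (tt N99245 F517039) (tt N112528 F517040) (tt N121876 (iv4 F528852)) (tt N98835 (iv5 D222970)) (tt N112559 F517041) (tt N99244 F517042))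
theorem Q119713 : ∀ i, i < 119713 → P i := stepQ 119712 Q119712 (allL N119712 (tt N99250 (iv1 F517048)) (tt N98836 (iv0 D222971)) (tt N99247 (iv2 F517045)) (tt N109996 (iv3 F517046)) (tt N121176 (iv4 F524952)) (tt N110621 F517044) (tt N120342 (iv6 F520282)) (tt N99248 (iv7 F517047)))
theorem Q119714 : ∀ i, i < 119714 → P i := stepQ 119713 Q119713 (allL N119713 (tt N98836 (iv1 D222972)) (tt N99250 F517049) (tt N99248 F517054) (tt N101312 (iv3 F517052)) (tt N110749 F517055) (tt N110620 F517051) (tt N110748 (iv6 F517053)) (tt N99247 F517050))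
theorem Q119715 : ∀ i, i < 119715 → P i := stepQ 119714 Q119714 (allL N119714 (tt N119793 (iv1 F517446)) (tt N110742 F517058) (tt N99249 F517056) (tt N122299 (iv3 F531270)) (tt N98836 (iv4 D222973)) (tt N121870 (iv5 F528814)) (tt N102668 F517057) (tt N119806 (iv7 F517495)))
theorem Q119716 : ∀ i, i < 119716 → P i := stepQ 119715 Q119715 (allL N119715 (tt N99248 (iv1 F517061)) (tt N99247 F517062) (tt N99250 F517059) (tt N120461 F520905) (tt N119806 (iv4 F517497)) (tt N98837 F517060) (tt N119741 F517191) (tt N98836 (iv7 D222974)))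
theorem Q119717 : ∀ i, i < 119717 → P i := stepQ 119716 Q119716 (allL N119716 (tt N98841 (iv1 F517066)) (tt N98840 (iv0 D222975)) (tt N99266 (iv2 F517065)) (tt N116573 (iv3 F517068)) (tt N110585 F517064) (tt N110826 F517063) (tt N119699 F517069) (tt N99267 F517067))
theorem Q119718 : ∀ i, i < 119718 → P i := stepQ 119717 Q119717 (allL N119717 (tt N121968 F529365) (tt N113335 (iv0 F517073)) (tt N99268 F517070) (tt N107527 F517071) (tt N117854 F517072) (tt N120338 F520259) (tt N98840 (iv6 D222976)) (tt N120958 (iv7 F523703)))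
theorem Q119719 : ∀ i, i < 119719 → P i := stepQ 119718 Q119718 (allL N119718 (tt N118596 (iv1 F517080)) (tt N98845 (iv0 D222977)) (tt N107555 (iv2 F517076)) (tt N107893 F517075) (tt N98913 F517074) (tt N121505 (iv5 F526738)) (tt N107892 F517077) (tt N118477 F517078))
theorem Q119720 : ∀ i, i < 119720 → P i := stepQ 119719 Q119719 (allL N119719 (tt N118568 F517083) (tt N106682 F517084) (tt N118566 F517082) (tt N122163 (iv3 F530522)) (tt N122380 (iv4 F531753)) (tt N98845 (iv5 D222978)) (tt N122526 (iv6 F532652)) (tt N118567 (iv7 F517085)))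
theorem Q119721 : ∀ i, i < 119721 → P i := stepQ 119720 Q119720 (allL N119720 (tt N118477 (iv1 F517089)) (tt N107555 F517090) (tt N118596 F517086) (tt N121431 (iv3 F526331)) (tt N119914 F518012) (tt N118567 F517087) (tt N110652 F517088) (tt N98845 (iv7 D222979)))
theorem Q119722 : ∀ i, i < 119722 → P i := stepQ 119721 Q119721 (allL N119721 (tt N107370 F517094) (tt N107372 (iv0 F517095)) (tt N118495 F517091) (tt N98847 F517092) (tt N121477 (iv4 F526590)) (tt N119693 F517093) (tt N98846 (iv6 D222980)) (tt N118496 (iv7 F517096)))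
theorem Q119723 : ∀ i, i < 119723 → P i := stepQ 119722 Q119722 (allL N119722 (tt N117834 F517102) (tt N121315 (iv0 F525716)) (tt N98851 F517097) (tt N118851 F517098) (tt N110131 F517099) (tt N98848 (iv5 D222981)) (tt N110131 F517100) (tt N110130 F517101))
theorem Q119724 : ∀ i, i < 119724 → P i := stepQ 119723 Q119723 (allL N119723 (tt N106456 F517107) (tt N118580 F517108) (tt N118578 F517103) (tt N120151 F519321) (tt N109583 F517106) (tt N98849 (iv5 D222982)) (tt N109582 F517104) (tt N118577 F517105))
theorem Q119725 : ∀ i, i < 119725 → P i := stepQ 119724 Q119724 (allL N119724 (tt N118580 F517112) (tt N106456 F517113) (tt N118577 F517109) (tt N113280 F517110) (tt N120732 (iv4 F522407)) (tt N98850 (iv5 D222983)) (tt N121734 (iv6 F528027)) (tt N118578 F517111))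
theorem Q119726 : ∀ i, i < 119726 → P i := stepQ 119725 Q119725 (allL N119725 (tt N117851 F517118) (tt N107892 (iv0 F517120)) (tt N117853 F517114) (tt N113281 F517115) (tt N109991 F517116) (tt N117847 F517119) (tt N98850 (iv6 D222984)) (tt N117846 F517117))
theorem Q119727 : ∀ i, i < 119727 → P i := stepQ 119726 Q119726 (allL N119726 (tt N106655 F517126) (tt N109985 F517125) (tt N109835 F517121) (tt N120263 (iv3 F519887)) (tt N111197 F517124) (tt N98856 (iv5 D222985)) (tt N101310 F517122) (tt N109833 F517123))
theorem Q119728 : ∀ i, i < 119728 → P i := stepQ 119727 Q119727 (allL N119727 (tt N122171 F530568) (tt N111379 (iv0 F517130)) (tt N98859 F517127) (tt N107522 F517128) (tt N99485 F517129) (tt N121852 (iv5 F528706)) (tt N98857 (iv6 D222986)) (tt N122172 (iv7 F530574)))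
theorem Q119729 : ∀ i, i < 119729 → P i := stepQ 119728 Q119728 (allL N119728 (tt N98862 (iv1 F517134)) (tt N98858 (iv0 D222987)) (tt N98860 (iv2 F517135)) (tt N119293 F517132) (tt N106523 F517131) (tt N120421 (iv5 F520691)) (tt N101608 F517133) (tt N98861 (iv7 F517136)))
theorem Q119730 : ∀ i, i < 119730 → P i := stepQ 119729 Q119729 (allL N119729 (tt N98858 (iv1 D222988)) (tt N98862 F517137) (tt N98861 F517142) (tt N101461 (iv3 F517140)) (tt N111362 F517139) (tt N101460 (iv5 F517143)) (tt N107786 (iv6 F517141)) (tt N98860 F517138))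
theorem Q119731 : ∀ i, i < 119731 → P i := stepQ 119730 Q119730 (allL N119730 (tt N122172 (iv1 F530575)) (tt N98859 (iv0 D222989)) (tt N122171 F530569) (tt N121385 F526075) (tt N111382 F517144) (tt N122296 (iv5 F531252)) (tt N122677 (iv6 F533547)) (tt N111379 (iv7 F517145)))
theorem Q119732 : ∀ i, i < 119732 → P i := stepQ 119731 Q119731 (allL N119731 (tt N98859 (iv1 D222990)) (tt N122172 F530576) (tt N111379 F517149) (tt N118756 (iv3 F517146)) (tt N101601 (iv4 F517147)) (tt N121454 (iv5 F526467)) (tt N101637 (iv6 F517148)) (tt N122171 (iv7 F530564)))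
theorem Q119733 : ∀ i, i < 119733 → P i := stepQ 119732 Q119732 (allL N119732 (tt N121868 (iv1 F528807)) (tt N106924 F517152) (tt N120421 (iv2 F520689)) (tt N100908 F517150) (tt N122584 (iv4 F532989)) (tt N98860 (iv5 D222991)) (tt N121454 (iv6 F526468)) (tt N101460 F517151))
theorem Q119734 : ∀ i, i < 119734 → P i := stepQ 119733 Q119733 (allL N119733 (tt N105468 F517156) (tt N111368 F517158) (tt N111362 F517153) (tt N106519 F517159) (tt N98861 (iv4 D222992)) (tt N118629 F517157) (tt N100604 F517154) (tt N106523 F517155))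
theorem Q119735 : ∀ i, i < 119735 → P i := stepQ 119734 Q119734 (allL N119734 (tt N106924 F517162) (tt N121868 (iv0 F528806)) (tt N101460 F517160) (tt N101355 F517161) (tt N122587 (iv4 F533009)) (tt N98861 (iv5 D222993)) (tt N121837 (iv6 F528615)) (tt N120421 (iv7 F520692)))
theorem Q119736 : ∀ i, i < 119736 → P i := stepQ 119735 Q119735 (allL N119735 (tt N114617 F517166) (tt N119697 (iv0 F517167)) (tt N119872 (iv2 F517803)) (tt N98863 (iv3 D222994)) (tt N113304 F517163) (tt N121386 (iv5 F526078)) (tt N99237 F517164) (tt N107538 F517165))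
theorem Q119737 : ∀ i, i < 119737 → P i := stepQ 119736 Q119736 (allL N119736 (tt N119928 (iv1 F518080)) (tt N116628 F517172) (tt N107537 F517168) (tt N121386 (iv3 F526080)) (tt N101306 F517169) (tt N98863 (iv5 D222995)) (tt N110827 F517170) (tt N107539 F517171))
theorem Q119738 : ∀ i, i < 119738 → P i := stepQ 119737 Q119737 (allL N119737 (tt N119711 F517176) (tt N119710 F517177) (tt N119924 F518066) (tt N98868 (iv3 D222996)) (tt N113321 F517173) (tt N110622 F517174) (tt N122201 (iv6 F530738)) (tt N107552 F517175))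
theorem Q119739 : ∀ i, i < 119739 → P i := stepQ 119738 Q119738 (allL N119738 (tt N119820 F517540) (tt N119923 (iv0 F518062)) (tt N98878 F517178) (tt N121981 (iv3 F529439)) (tt N122307 (iv4 F531317)) (tt N98873 (iv5 D222997)) (tt N119905 (iv6 F517958)) (tt N121585 (iv7 F527171)))
theorem Q119740 : ∀ i, i < 119740 → P i := stepQ 119739 Q119739 (allL N119739 (tt N112600 F517181) (tt N110984 F517182) (tt N112672 F517179) (tt N121096 (iv3 F524494)) (tt N121097 (iv4 F524496)) (tt N98876 (iv5 D222998)) (tt N121542 (iv6 F526945)) (tt N106634 F517180))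
theorem Q119741 : ∀ i, i < 119741 → P i := stepQ 119740 Q119740 (allL N119740 (tt N110984 F517188) (tt N112600 F517189) (tt N106634 F517183) (tt N110017 F517184) (tt N106675 F517187) (tt N98877 (iv5 D222999)) (tt N106030 F517185) (tt N112672 F517186))
theorem Q119742 : ∀ i, i < 119742 → P i := stepQ 119741 Q119741 (allL N119741 (tt N98878 (iv1 D223000)) (tt N121585 F527170) (tt N119923 (iv2 F518058)) (tt N120337 (iv3 F520255)) (tt N122690 D225949) (tt N100456 F517190) (tt N119715 (iv6 F517191)) (tt N119820 (iv7 F517538)))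
theorem Q119743 : ∀ i, i < 119743 → P i := stepQ 119742 Q119742 (allL N119742 (tt N110019 F517196) (tt N100445 F517197) (tt N107666 F517192) (tt N115122 F517193) (tt N114896 F517194) (tt N98879 (iv5 D223001)) (tt N117238 (iv6 F517198)) (tt N110020 F517195))
theorem Q119744 : ∀ i, i < 119744 → P i := stepQ 119743 Q119743 (allL N119743 (tt N110621 F517203) (tt N110620 (iv0 F517204)) (tt N110622 F517199) (tt N110758 F517200) (tt N100418 F517201) (tt N119924 (iv5 F518064)) (tt N98879 (iv6 D223002)) (tt N110618 F517202))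
theorem Q119745 : ∀ i, i < 119745 → P i := stepQ 119744 Q119744 (allL N119744 (tt N98890 (iv1 F517208)) (tt N98889 F517209) (tt N98892 F517205) (tt N112524 F517206) (tt N120036 (iv4 F518688)) (tt N112523 F517207) (tt N121707 (iv6 F527875)) (tt N98886 (iv7 D223003)))
theorem Q119746 : ∀ i, i < 119746 → P i := stepQ 119745 Q119745 (allL N119745 (tt N119855 (iv1 F517719)) (tt N98888 (iv0 D223004)) (tt N105323 (iv2 F517211)) (tt N122173 (iv3 F530578)) (tt N121680 (iv4 F527704)) (tt N120336 (iv5 F520246)) (tt N119261 F517210) (tt N119852 (iv7 F517701)))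
theorem Q119747 : ∀ i, i < 119747 → P i := stepQ 119746 Q119746 (allL N119746 (tt N119787 (iv1 F517418)) (tt N118232 (iv0 F517215)) (tt N101634 F517216) (tt N98889 (iv3 D223005)) (tt N101607 F517212) (tt N121875 (iv5 F528848)) (tt N101606 F517213) (tt N106471 F517214))
theorem Q119748 : ∀ i, i < 119748 → P i := stepQ 119747 Q119747 (allL N119747 (tt N118303 F517218) (tt N119866 F517772) (tt N119865 (iv2 F517766)) (tt N98890 (iv3 D223006)) (tt N121475 (iv4 F526579)) (tt N110391 F517217) (tt N119757 (iv6 F517265)) (tt N119864 F517764))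
theorem Q119749 : ∀ i, i < 119749 → P i := stepQ 119748 Q119748 (allL N119748 (tt N112523 (iv1 F517223)) (tt N98891 (iv0 D223007)) (tt N112584 (iv2 F517221)) (tt N121425 (iv3 F526292)) (tt N105212 F517220) (tt N110716 F517219) (tt N117240 (iv6 F517224)) (tt N112585 F517222))
theorem Q119750 : ∀ i, i < 119750 → P i := stepQ 119749 Q119749 (allL N119749 (tt N112585 (iv1 F517229)) (tt N112584 F517230) (tt N112523 F517225) (tt N98896 F517226) (tt N116099 F517227) (tt N98892 F517228) (tt N120101 (iv6 F519047)) (tt N98891 (iv7 D223008)))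
theorem Q119751 : ∀ i, i < 119751 → P i := stepQ 119750 Q119750 (allL N119750 (tt N120725 (iv1 F522375)) (tt N119791 (iv0 F517434)) (tt N119859 (iv2 F517737)) (tt N110537 F517231) (tt N121770 (iv4 F528214)) (tt N98893 (iv5 D223009)) (tt N107566 F517232) (tt N119783 (iv7 F517397)))
theorem Q119752 : ∀ i, i < 119752 → P i := stepQ 119751 Q119751 (allL N119751 (tt N98894 (iv1 D223010)) (tt N119860 F517747) (tt N118759 F517236) (tt N119948 (iv3 F518192)) (tt N109208 (iv4 F517235)) (tt N112185 F517234) (tt N122542 F532751) (tt N109207 F517233))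
theorem Q119753 : ∀ i, i < 119753 → P i := stepQ 119752 Q119752 (allL N119752 (tt N109953 F517241) (tt N122305 F531309) (tt N110721 F517237) (tt N120101 F519049) (tt N116098 F517238) (tt N116523 F517239) (tt N98896 (iv6 D223011)) (tt N119111 F517240))
theorem Q119754 : ∀ i, i < 119754 → P i := stepQ 119753 Q119753 (allL N119753 (tt N99084 F517246) (tt N98926 F517247) (tt N107561 F517242) (tt N98899 F517243) (tt N116675 F517245) (tt N98898 (iv5 D223012)) (tt N100948 (iv6 F517248)) (tt N112680 F517244))
theorem Q119755 : ∀ i, i < 119755 → P i := stepQ 119754 Q119754 (allL N119754 (tt N120213 (iv1 F519632)) (tt N120212 (iv0 F519626)) (tt N111360 F517249) (tt N98992 F517250) (tt N98903 F517251) (tt N101353 F517252) (tt N98902 (iv6 D223013)) (tt N111208 F517253))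
theorem Q119756 : ∀ i, i < 119756 → P i := stepQ 119755 Q119755 (allL N119755 (tt N98903 (iv1 D223014)) (tt N121227 F525245) (tt N117437 F517257) (tt N100462 (iv3 F517256)) (tt N111196 (iv4 F517255)) (tt N113391 F517259) (tt N117284 F517258) (tt N116622 F517254))
theorem Q119757 : ∀ i, i < 119757 → P i := stepQ 119756 Q119756 (allL N119756 (tt N120419 F520683) (tt N121377 (iv0 F526034)) (tt N119778 (iv2 F517368)) (tt N98905 F517260) (tt N107338 F517262) (tt N98903 (iv5 D223015)) (tt N98904 F517261) (tt N121117 (iv7 F524594)))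
theorem Q119758 : ∀ i, i < 119758 → P i := stepQ 119757 Q119757 (allL N119757 (tt N98926 F517267) (tt N99084 F517268) (tt N112680 F517263) (tt N99231 F517264) (tt N121436 (iv4 F526362)) (tt N98906 (iv5 D223016)) (tt N119747 F517265) (tt N107561 F517266))
theorem Q119759 : ∀ i, i < 119759 → P i := stepQ 119758 Q119758 (allL N119758 (tt N121695 F527799) (tt N122207 (iv0 F530779)) (tt N119861 (iv2 F517749)) (tt N98912 F517269) (tt N108079 F517270) (tt N119786 (iv5 F517412)) (tt N98907 (iv6 D223017)) (tt N100465 F517271))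
theorem Q119760 : ∀ i, i < 119760 → P i := stepQ 119759 Q119759 (allL N119759 (tt N112937 (iv1 F517278)) (tt N108969 (iv0 F517277)) (tt N113736 F517272) (tt N98911 F517273) (tt N114878 F517274) (tt N112959 F517275) (tt N98909 (iv6 D223018)) (tt N114877 F517276))
theorem Q119761 : ∀ i, i < 119761 → P i := stepQ 119760 Q119760 (allL N119760 (tt N106564 F517284) (tt N117829 (iv0 F517285)) (tt N117808 F517280) (tt N117844 F517281) (tt N118928 F517282) (tt N122544 (iv5 F532755)) (tt N98910 (iv6 D223019)) (tt N117827 F517283))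
theorem Q119762 : ∀ i, i < 119762 → P i := stepQ 119761 Q119761 (allL N119761 (tt N118776 F517288) (tt N119948 (iv0 F518194)) (tt N119853 (iv2 F517705)) (tt N119786 (iv3 F517410)) (tt N121999 (iv4 F529549)) (tt N98912 (iv5 D223020)) (tt N98914 F517286) (tt N100467 F517287))
theorem Q119763 : ∀ i, i < 119763 → P i := stepQ 119762 Q119762 (allL N119762 (tt N110733 F517291) (tt N110735 F517292) (tt N107557 F517289) (tt N101351 F517290) (tt N121541 (iv4 F526937)) (tt N98913 (iv5 D223021)) (tt N119810 F517506) (tt N120418 (iv7 F520676)))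
theorem Q119764 : ∀ i, i < 119764 → P i := stepQ 119763 Q119763 (allL N119763 (tt N98938 F517297) (tt N118989 (iv0 F517299)) (tt N107558 F517293) (tt N101623 F517294) (tt N107892 F517295) (tt N101622 F517298) (tt N98913 (iv6 D223022)) (tt N118601 F517296))
theorem Q119765 : ∀ i, i < 119765 → P i := stepQ 119764 Q119764 (allL N119764 (tt N122205 (iv1 F530767)) (tt N110784 (iv0 F517302)) (tt N121993 (iv2 F529510)) (tt N100467 F517300) (tt N98914 (iv4 D223023)) (tt N100465 (iv5 F517301)) (tt N121999 F529551) (tt N119786 F517413))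
theorem Q119766 : ∀ i, i < 119766 → P i := stepQ 119765 Q119765 (allL N119765 (tt N117024 (iv1 F517304)) (tt N98918 (iv0 D223024)) (tt N121349 F525905) (tt N112669 (iv3 F517305)) (tt N105814 (iv4 F517306)) (tt N121457 (iv5 F526482)) (tt N106166 F517303) (tt N116544 F517307))
theorem Q119767 : ∀ i, i < 119767 → P i := stepQ 119766 Q119766 (allL N119766 (tt N98918 (iv1 D223025)) (tt N117024 F517309) (tt N116544 F517312) (tt N116469 (iv3 F517310)) (tt N101616 F517313) (tt N122196 (iv5 F530712)) (tt N101615 (iv6 F517311)) (tt N121349 (iv7 F525907)))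
theorem Q119768 : ∀ i, i < 119768 → P i := stepQ 119767 Q119767 (allL N119767 (tt N106644 F517318) (tt N106469 (iv0 F517319)) (tt N109965 F517314) (tt N98922 (iv3 D223026)) (tt N116511 F517315) (tt N120494 (iv5 F521071)) (tt N114028 F517316) (tt N98935 F517317))
theorem Q119769 : ∀ i, i < 119769 → P i := stepQ 119768 Q119768 (allL N119768 (tt N98942 F517323) (tt N98924 (iv0 D223027)) (tt N98939 (iv2 F517322)) (tt N121174 (iv3 F524941)) (tt N116432 F517321) (tt N106662 F517320) (tt N121173 F524939) (tt N98940 (iv7 F517324)))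
theorem Q119770 : ∀ i, i < 119770 → P i := stepQ 119769 Q119769 (allL N119769 (tt N98924 (iv1 D223028)) (tt N98942 F517325) (tt N98940 F517330) (tt N99078 (iv3 F517327)) (tt N111336 (iv4 F517328)) (tt N99075 (iv5 F517329)) (tt N108538 F517331) (tt N98939 F517326))
theorem Q119771 : ∀ i, i < 119771 → P i := stepQ 119770 Q119770 (allL N119770 (tt N98940 (iv1 F517336)) (tt N98939 F517337) (tt N98942 F517333) (tt N120229 F519714) (tt N117336 F517334) (tt N98925 F517335) (tt N112664 (iv6 F517338)) (tt N98924 (iv7 D223029)))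
theorem Q119772 : ∀ i, i < 119772 → P i := stepQ 119771 Q119771 (allL N119771 (tt N112566 (iv1 F517342)) (tt N98931 (iv0 D223030)) (tt N109956 (iv2 F517343)) (tt N121939 F529187) (tt N116093 F517340) (tt N99963 F517339) (tt N110614 F517341) (tt N109957 (iv7 F517344)))
theorem Q119773 : ∀ i, i < 119773 → P i := stepQ 119772 Q119772 (allL N119772 (tt N98931 (iv1 D223031)) (tt N112566 F517345) (tt N109957 (iv2 F517349)) (tt N112569 (iv3 F517348)) (tt N122599 (iv4 F533084)) (tt N99964 F517347) (tt N122600 (iv6 F533093)) (tt N109956 F517346))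
theorem Q119774 : ∀ i, i < 119774 → P i := stepQ 119773 Q119773 (allL N119773 (tt N106578 F517352) (tt N101438 F517353) (tt N121387 (iv2 F526083)) (tt N100181 F517354) (tt N98934 (iv4 D223032)) (tt N100180 F517351) (tt N111148 (iv6 F517355)) (tt N100242 F517350))
theorem Q119775 : ∀ i, i < 119775 → P i := stepQ 119774 Q119774 (allL N119774 (tt N122008 (iv1 F529609)) (tt N121592 (iv0 F527214)) (tt N121388 (iv2 F526089)) (tt N121355 F525940) (tt N111148 F517356) (tt N121290 (iv5 F525589)) (tt N98934 (iv6 D223033)) (tt N122007 (iv7 F529604)))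
theorem Q119776 : ∀ i, i < 119776 → P i := stepQ 119775 Q119775 (allL N119775 (tt N117820 F517358) (tt N110586 F517359) (tt N119839 (iv2 F517630)) (tt N120467 (iv3 F520930)) (tt N98938 F517357) (tt N122560 (iv5 F532852)) (tt N98936 (iv6 D223034)) (tt N121973 (iv7 F529394)))
theorem Q119777 : ∀ i, i < 119777 → P i := stepQ 119776 Q119776 (allL N119776 (tt N101438 F517363) (tt N106578 F517364) (tt N100242 F517360) (tt N106613 F517361) (tt N98937 (iv4 D223035)) (tt N100241 F517362) (tt N122414 (iv6 F531964)) (tt N121387 (iv7 F526086)))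
theorem Q119778 : ∀ i, i < 119778 → P i := stepQ 119777 Q119777 (allL N119777 (tt N117257 F517367) (tt N122310 F531341) (tt N121173 (iv2 F524935)) (tt N120230 (iv3 F519717)) (tt N118769 F517365) (tt N109952 F517366) (tt N98939 (iv6 D223036)) (tt N122309 (iv7 F531328)))
theorem Q119779 : ∀ i, i < 119779 → P i := stepQ 119778 Q119778 (allL N119778 (tt N120434 F520767) (tt N122603 (iv0 F533115)) (tt N119756 F517368) (tt N98940 (iv3 D223037)) (tt N106645 (iv4 F517370)) (tt N106664 F517369) (tt N118758 F517371) (tt N121174 (iv7 F524943)))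
theorem Q119780 : ∀ i, i < 119780 → P i := stepQ 119779 Q119779 (allL N119779 (tt N120187 (iv1 F519497)) (tt N117219 F517375) (tt N111336 F517372) (tt N116436 F517373) (tt N98940 (iv4 D223038)) (tt N111335 (iv5 F517376)) (tt N121095 (iv6 F524490)) (tt N116432 F517374))
theorem Q119781 : ∀ i, i < 119781 → P i := stepQ 119780 Q119780 (allL N119780 (tt N121549 (iv1 F526984)) (tt N113518 (iv0 F517380)) (tt N108538 F517377) (tt N118758 F517378) (tt N121095 (iv4 F524489)) (tt N108535 F517379) (tt N98940 (iv6 D223039)) (tt N121489 (iv7 F526653)))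
theorem Q119782 : ∀ i, i < 119782 → P i := stepQ 119781 Q119781 (allL N119781 (tt N98941 (iv1 D223040)) (tt N117336 F517382) (tt N117797 F517386) (tt N113376 (iv3 F517385)) (tt N109994 F517383) (tt N117795 F517384) (tt N113489 F517387) (tt N121285 (iv7 F525564)))
theorem Q119783 : ∀ i, i < 119783 → P i := stepQ 119782 Q119782 (allL N119782 (tt N120189 (iv1 F519509)) (tt N119072 (iv0 F517392)) (tt N120190 (iv2 F519513)) (tt N98941 (iv3 D223041)) (tt N98974 F517388) (tt N111192 F517389) (tt N113539 F517390) (tt N117386 F517391))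
theorem Q119784 : ∀ i, i < 119784 → P i := stepQ 119783 Q119783 (allL N119783 (tt N120389 (iv1 F520534)) (tt N110522 (iv0 F517398)) (tt N112664 F517393) (tt N98977 F517394) (tt N117384 F517395) (tt N99080 F517396) (tt N98942 (iv6 D223042)) (tt N119750 F517397))
theorem Q119785 : ∀ i, i < 119785 → P i := stepQ 119784 Q119784 (allL N119784 (tt N106689 F517404) (tt N119260 F517405) (tt N110833 F517399) (tt N107859 F517400) (tt N107862 F517401) (tt N98944 (iv5 D223043)) (tt N106679 F517402) (tt N119261 F517403))
theorem Q119786 : ∀ i, i < 119786 → P i := stepQ 119785 Q119785 (allL N119785 (tt N113321 F517408) (tt N121881 (iv0 F528880)) (tt N117370 F517406) (tt N120227 (iv3 F519700)) (tt N98947 (iv4 D223044)) (tt N117369 F517407) (tt N110738 (iv6 F517409)) (tt N120226 (iv7 F519697)))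
theorem Q119787 : ∀ i, i < 119787 → P i := stepQ 119786 Q119786 (allL N119786 (tt N121587 F527184) (tt N122006 F529597) (tt N121390 (iv2 F526097)) (tt N119761 F517410) (tt N110738 F517411) (tt N119758 F517412) (tt N98947 (iv6 D223045)) (tt N119764 (iv7 F517413)))
theorem Q119788 : ∀ i, i < 119788 → P i := stepQ 119787 Q119787 (allL N119787 (tt N120532 (iv1 F521299)) (tt N119746 F517418) (tt N98948 (iv2 D223046)) (tt N110693 F517414) (tt N111368 F517415) (tt N117371 (iv5 F517419)) (tt N110690 F517416) (tt N119690 F517417))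
theorem Q119789 : ∀ i, i < 119789 → P i := stepQ 119788 Q119788 (allL N119788 (tt N119883 (iv1 F517859)) (tt N119882 (iv0 F517856)) (tt N117371 F517420) (tt N98950 F517421) (tt N117004 F517423) (tt N98948 (iv5 D223047)) (tt N112544 F517422) (tt N121805 (iv7 F528429)))
theorem Q119790 : ∀ i, i < 119790 → P i := stepQ 119789 Q119789 (allL N119789 (tt N121881 F528881) (tt N113321 F517427) (tt N120226 (iv2 F519694)) (tt N112549 F517424) (tt N98950 (iv4 D223048)) (tt N109973 F517425) (tt N120100 (iv6 F519042)) (tt N117370 F517426))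
theorem Q119791 : ∀ i, i < 119791 → P i := stepQ 119790 Q119790 (allL N119790 (tt N121391 F526107) (tt N110747 (iv0 F517429)) (tt N120227 (iv2 F519699)) (tt N112544 F517428) (tt N120100 (iv4 F519044)) (tt N112543 F517430) (tt N98950 (iv6 D223049)) (tt N121392 (iv7 F526109)))
theorem Q119792 : ∀ i, i < 119792 → P i := stepQ 119791 Q119791 (allL N119791 (tt N119750 F517434) (tt N112664 F517435) (tt N120389 (iv2 F520529)) (tt N112545 F517431) (tt N109096 F517433) (tt N98951 (iv5 D223050)) (tt N112543 F517432) (tt N110522 (iv7 F517436)))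
theorem Q119793 : ∀ i, i < 119793 → P i := stepQ 119792 Q119792 (allL N119792 (tt N112185 (iv1 F517442)) (tt N112184 F517443) (tt N102708 F517437) (tt N106572 F517438) (tt N102639 F517439) (tt N110522 F517440) (tt N102638 F517441) (tt N98951 (iv7 D223051)))
theorem Q119794 : ∀ i, i < 119794 → P i := stepQ 119793 Q119793 (allL N119793 (tt N117254 F517445) (tt N119714 F517446) (tt N119929 F518085) (tt N122691 D225950) (tt N98952 (iv4 D223052)) (tt N121959 (iv5 F529302)) (tt N121991 (iv6 F529498)) (tt N98968 F517444))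
theorem Q119795 : ∀ i, i < 119795 → P i := stepQ 119794 Q119794 (allL N119794 (tt N109977 F517449) (tt N119880 F517848) (tt N117292 F517447) (tt N98953 (iv3 D223053)) (tt N122576 (iv4 F532940)) (tt N116502 F517448) (tt N121995 (iv6 F529525)) (tt N122637 (iv7 F533317)))
theorem Q119796 : ∀ i, i < 119796 → P i := stepQ 119795 Q119795 (allL N119795 (tt N120469 F520945) (tt N98954 (iv0 D223054)) (tt N121176 (iv2 F524951)) (tt N101298 (iv3 F517451)) (tt N99247 F517450) (tt N121882 (iv5 F528885)) (tt N120339 (iv6 F520265)) (tt N110749 (iv7 F517452)))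
theorem Q119797 : ∀ i, i < 119797 → P i := stepQ 119796 Q119796 (allL N119796 (tt N101298 (iv1 F517456)) (tt N100455 (iv0 F517455)) (tt N117385 F517453) (tt N122297 (iv3 F531257)) (tt N114018 F517454) (tt N98954 (iv5 D223055)) (tt N121855 (iv6 F528723)) (tt N117383 (iv7 F517457)))
theorem Q119798 : ∀ i, i < 119798 → P i := stepQ 119797 Q119797 (allL N119797 (tt N110749 (iv1 F517461)) (tt N121176 (iv0 F524955)) (tt N120469 (iv2 F520941)) (tt N113403 F517458) (tt N98955 F517459) (tt N117383 F517460) (tt N120470 (iv6 F520950)) (tt N98954 (iv7 D223056)))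
theorem Q119799 : ∀ i, i < 119799 → P i := stepQ 119798 Q119798 (allL N119798 (tt N117435 F517467) (tt N117438 F517468) (tt N98957 F517462) (tt N109946 F517463) (tt N98964 F517464) (tt N98956 (iv5 D223057)) (tt N98963 F517465) (tt N98964 F517466))
theorem Q119800 : ∀ i, i < 119800 → P i := stepQ 119799 Q119799 (allL N119799 (tt N98969 F517473) (tt N109975 F517474) (tt N109825 F517469) (tt N109966 F517470) (tt N112573 F517472) (tt N98959 (iv5 D223058)) (tt N119832 (iv6 F517597)) (tt N109974 F517471))
theorem Q119801 : ∀ i, i < 119801 → P i := stepQ 119800 Q119800 (allL N119800 (tt N109944 F517479) (tt N100285 F517480) (tt N98961 F517475) (tt N98964 F517476) (tt N121381 (iv4 F526050)) (tt N98960 (iv5 D223059)) (tt N98961 F517477) (tt N109946 F517478))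
theorem Q119802 : ∀ i, i < 119802 → P i := stepQ 119801 Q119801 (allL N119801 (tt N98961 (iv1 D223060)) (tt N109946 F517481) (tt N100285 F517485) (tt N100472 (iv3 F517484)) (tt N119884 (iv4 F517861)) (tt N100284 F517483) (tt N119883 F517860) (tt N109944 F517482))
theorem Q119803 : ∀ i, i < 119803 → P i := stepQ 119802 Q119802 (allL N119802 (tt N121382 (iv1 F526057)) (tt N121242 (iv0 F525324)) (tt N121381 F526052) (tt N122692 D225951) (tt N98961 (iv4 D223061)) (tt N112575 F517486) (tt N121381 F526051) (tt N121380 F526048))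
theorem Q119804 : ∀ i, i < 119804 → P i := stepQ 119803 Q119803 (allL N119803 (tt N121356 F525946) (tt N121356 (iv0 F525945)) (tt N121358 (iv2 F525948)) (tt N98963 (iv3 D223062)) (tt N122692 (iv4 F533639)) (tt N121237 (iv5 F525303)) (tt N109946 F517488) (tt N121358 (iv7 F525951)))
theorem Q119805 : ∀ i, i < 119805 → P i := stepQ 119804 Q119804 (allL N119804 (tt N117439 (iv1 F517492)) (tt N117440 F517491) (tt N98966 (iv2 D223063)) (tt N109975 F517489) (tt N121856 (iv4 F528729)) (tt N106659 F517490) (tt N122199 (iv6 F530731)) (tt N121856 (iv7 F528731)))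
theorem Q119806 : ∀ i, i < 119806 → P i := stepQ 119805 Q119805 (allL N119805 (tt N121294 F525604) (tt N122690 (iv0 F533633)) (tt N122199 (iv2 F530729)) (tt N98968 F517493) (tt N107626 F517494) (tt N121980 (iv5 F529434)) (tt N98966 (iv6 D223064)) (tt N122691 (iv7 F533637)))
theorem Q119807 : ∀ i, i < 119807 → P i := stepQ 119806 Q119806 (allL N119806 (tt N98968 (iv1 D223065)) (tt N119929 F518086) (tt N117254 (iv2 F517498)) (tt N122310 (iv3 F531335)) (tt N119715 F517497) (tt N117367 F517496) (tt N122690 (iv6 F533632)) (tt N119714 F517495))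
theorem Q119808 : ∀ i, i < 119808 → P i := stepQ 119807 Q119807 (allL N119807 (tt N122578 (iv1 F532949)) (tt N106626 (iv0 F517500)) (tt N121513 (iv2 F526784)) (tt N122591 (iv3 F533035)) (tt N98969 (iv4 D223066)) (tt N108012 F517499) (tt N119833 (iv6 F517599)) (tt N121857 (iv7 F528736)))
theorem Q119809 : ∀ i, i < 119809 → P i := stepQ 119808 Q119808 (allL N119808 (tt N122308 F531327) (tt N122308 (iv0 F531326)) (tt N121995 (iv2 F529523)) (tt N98970 (iv3 D223067)) (tt N122591 (iv4 F533036)) (tt N106621 F517501) (tt N117292 F517502) (tt N121995 (iv7 F529526)))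
theorem Q119810 : ∀ i, i < 119810 → P i := stepQ 119809 Q119809 (allL N119809 (tt N121991 (iv1 F529501)) (tt N98971 (iv0 D223068)) (tt N121996 F529532) (tt N121549 (iv3 F526980)) (tt N112619 F517503) (tt N120225 (iv5 F519690)) (tt N117439 F517504) (tt N121548 (iv7 F526977)))
theorem Q119811 : ∀ i, i < 119811 → P i := stepQ 119810 Q119810 (allL N119810 (tt N98971 (iv1 D223069)) (tt N121991 (iv0 F529500)) (tt N121548 (iv2 F526974)) (tt N113383 (iv3 F517505)) (tt N112620 F517507) (tt N120224 (iv5 F519684)) (tt N119762 (iv6 F517506)) (tt N121996 (iv7 F529534)))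
theorem Q119812 : ∀ i, i < 119812 → P i := stepQ 119811 Q119811 (allL N119811 (tt N121548 (iv1 F526979)) (tt N121996 F529533) (tt N121991 (iv2 F529496)) (tt N110684 F517508) (tt N106688 F517509) (tt N110682 F517510) (tt N119929 (iv6 F518084)) (tt N98971 (iv7 D223070)))
theorem Q119813 : ∀ i, i < 119813 → P i := stepQ 119812 Q119812 (allL N119812 (tt N98974 F517512) (tt N121855 (iv0 F528725)) (tt N121326 (iv2 F525774)) (tt N98972 (iv3 D223071)) (tt N121122 (iv4 F524623)) (tt N106628 F517511) (tt N119918 F518034) (tt N121354 (iv7 F525934)))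
theorem Q119814 : ∀ i, i < 119814 → P i := stepQ 119813 Q119813 (allL N119813 (tt N121855 (iv1 F528726)) (tt N98974 (iv0 D223072)) (tt N121354 (iv2 F525930)) (tt N101433 F517515) (tt N110394 F517513) (tt N117165 F517514) (tt N101434 (iv6 F517516)) (tt N121326 (iv7 F525777)))
theorem Q119815 : ∀ i, i < 119815 → P i := stepQ 119814 Q119814 (allL N119814 (tt N121354 (iv1 F525936)) (tt N121326 (iv0 F525779)) (tt N98974 (iv2 D223073)) (tt N121988 F529480) (tt N120190 F519515) (tt N121383 (iv5 F526059)) (tt N113402 F517517) (tt N121855 (iv7 F528724)))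
theorem Q119816 : ∀ i, i < 119816 → P i := stepQ 119815 Q119815 (allL N119815 (tt N121326 (iv1 F525780)) (tt N121354 (iv0 F525935)) (tt N121855 (iv2 F528721)) (tt N98976 F517518) (tt N117386 F517519) (tt N106292 F517520) (tt N117385 (iv6 F517521)) (tt N98974 (iv7 D223074)))
theorem Q119817 : ∀ i, i < 119817 → P i := stepQ 119816 Q119816 (allL N119816 (tt N121944 (iv1 F529220)) (tt N113392 (iv0 F517524)) (tt N122588 (iv2 F533020)) (tt N117385 F517522) (tt N98977 F517523) (tt N120256 (iv5 F519849)) (tt N98976 (iv6 D223075)) (tt N120470 (iv7 F520948)))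
theorem Q119818 : ∀ i, i < 119818 → P i := stepQ 119817 Q119817 (allL N119817 (tt N120217 (iv1 F519655)) (tt N98977 (iv0 D223076)) (tt N121853 (iv2 F528710)) (tt N121991 (iv3 F529502)) (tt N122691 (iv4 F533634)) (tt N107627 F517525) (tt N122691 (iv6 F533636)) (tt N107626 (iv7 F517526)))
theorem Q119819 : ∀ i, i < 119819 → P i := stepQ 119818 Q119818 (allL N119818 (tt N98977 (iv1 D223077)) (tt N120217 (iv0 F519654)) (tt N107626 F517529) (tt N110686 (iv3 F517528)) (tt N122199 (iv4 F530732)) (tt N107622 F517527) (tt N121856 (iv6 F528730)) (tt N121853 (iv7 F528711)))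
theorem Q119820 : ∀ i, i < 119820 → P i := stepQ 119819 Q119819 (allL N119819 (tt N110744 F517533) (tt N110741 F517534) (tt N106348 F517530) (tt N121985 F529464) (tt N98978 (iv4 D223078)) (tt N105980 F517531) (tt N122693 D225952) (tt N102668 F517532))
theorem Q119821 : ∀ i, i < 119821 → P i := stepQ 119820 Q119820 (allL N119820 (tt N110706 F517539) (tt N119738 (iv0 F517540)) (tt N107662 F517535) (tt N110236 F517536) (tt N122693 (iv4 F533644)) (tt N107941 F517537) (tt N98978 (iv6 D223079)) (tt N119741 F517538))
theorem Q119822 : ∀ i, i < 119822 → P i := stepQ 119821 Q119821 (allL N119821 (tt N109985 F517543) (tt N106655 F517544) (tt N109833 F517541) (tt N121368 (iv3 F525994)) (tt N119825 (iv4 F517564)) (tt N98979 (iv5 D223080)) (tt N113351 F517545) (tt N109835 F517542))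
theorem Q119823 : ∀ i, i < 119823 → P i := stepQ 119822 Q119822 (allL N119822 (tt N106608 F517550) (tt N106616 F517551) (tt N107667 F517546) (tt N118777 F517547) (tt N98981 (iv4 D223081)) (tt N106620 F517548) (tt N118776 (iv6 F517552)) (tt N107664 F517549))
theorem Q119824 : ∀ i, i < 119824 → P i := stepQ 119823 Q119823 (allL N119823 (tt N112559 F517557) (tt N121943 (iv0 F529214)) (tt N107668 F517553) (tt N118774 F517554) (tt N118776 F517555) (tt N107551 F517556) (tt N98981 (iv6 D223082)) (tt N121883 (iv7 F528892)))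
theorem Q119825 : ∀ i, i < 119825 → P i := stepQ 119824 Q119824 (allL N119824 (tt N121631 (iv1 F527439)) (tt N107423 (iv0 F517561)) (tt N121484 (iv2 F526629)) (tt N98982 (iv3 D223083)) (tt N109819 F517558) (tt N121242 (iv5 F525321)) (tt N117492 F517559) (tt N107669 F517560))
theorem Q119826 : ∀ i, i < 119826 → P i := stepQ 119825 Q119825 (allL N119825 (tt N106645 F517568) (tt N105301 F517567) (tt N117376 F517562) (tt N98987 F517563) (tt N119821 F517564) (tt N98986 (iv5 D223084)) (tt N112547 F517565) (tt N106295 F517566))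
theorem Q119827 : ∀ i, i < 119827 → P i := stepQ 119826 Q119826 (allL N119826 (tt N106291 (iv1 F517572)) (tt N98989 (iv0 D223085)) (tt N106290 (iv2 F517571)) (tt N120212 (iv3 F519623)) (tt N117542 F517569) (tt N110015 F517570) (tt N106253 (iv6 F517574)) (tt N106225 F517573))
theorem Q119828 : ∀ i, i < 119828 → P i := stepQ 119827 Q119827 (allL N119827 (tt N106290 (iv1 F517580)) (tt N106225 F517579) (tt N98989 (iv2 D223086)) (tt N106289 F517575) (tt N116874 F517576) (tt N106617 F517577) (tt N116972 (iv6 F517581)) (tt N106291 F517578))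
theorem Q119829 : ∀ i, i < 119829 → P i := stepQ 119828 Q119828 (allL N119828 (tt N106827 F517587) (tt N116974 F517588) (tt N116972 F517582) (tt N98990 F517583) (tt N119081 F517584) (tt N106211 F517585) (tt N98989 (iv6 D223087)) (tt N106065 F517586))
theorem Q119830 : ∀ i, i < 119830 → P i := stepQ 119829 Q119829 (allL N119829 (tt N122694 D225953) (tt N121626 (iv0 F527414)) (tt N121854 (iv2 F528714)) (tt N98996 (iv3 D223088)) (tt N106288 F517590) (tt N121987 (iv5 F529470)) (tt N121383 (iv6 F526063)) (tt N106287 F517591))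
theorem Q119831 : ∀ i, i < 119831 → P i := stepQ 119830 Q119830 (allL N119830 (tt N121626 (iv1 F527415)) (tt N122694 F533654) (tt N106287 F517592) (tt N121383 F526061) (tt N98997 F517593) (tt N121988 (iv5 F529479)) (tt N98996 (iv6 D223089)) (tt N121854 (iv7 F528717)))
theorem Q119832 : ∀ i, i < 119832 → P i := stepQ 119831 Q119831 (allL N119831 (tt N99003 (iv1 D223090)) (tt N119863 F517759) (tt N119862 (iv2 F517755)) (tt N116544 (iv3 F517595)) (tt N119972 (iv4 F518329)) (tt N121587 (iv5 F527183)) (tt N116542 F517596) (tt N112669 F517594))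
theorem Q119833 : ∀ i, i < 119833 → P i := stepQ 119832 Q119832 (allL N119832 (tt N121976 (iv1 F529416)) (tt N99005 (iv0 D223091)) (tt N121709 (iv2 F527884)) (tt N120336 F520249) (tt N121806 (iv4 F528433)) (tt N122173 (iv5 F530579)) (tt N119799 F517597) (tt N121922 (iv7 F529079)))
theorem Q119834 : ∀ i, i < 119834 → P i := stepQ 119833 Q119833 (allL N119833 (tt N120497 (iv1 F521092)) (tt N122573 (iv0 F532925)) (tt N117021 F517598) (tt N122592 (iv3 F533040)) (tt N99005 (iv4 D223092)) (tt N117020 F517600) (tt N119807 F517599) (tt N121979 (iv7 F529430)))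
theorem Q119835 : ∀ i, i < 119835 → P i := stepQ 119834 Q119834 (allL N119834 (tt N99965 F517605) (tt N109961 F517606) (tt N109959 F517601) (tt N99010 F517602) (tt N122010 (iv4 F529618)) (tt N99006 (iv5 D223093)) (tt N107199 F517603) (tt N109958 F517604))
theorem Q119836 : ∀ i, i < 119836 → P i := stepQ 119835 Q119835 (allL N119835 (tt N99026 (iv1 F517612)) (tt N99013 (iv0 D223094)) (tt N99023 (iv2 F517611)) (tt N99288 F517609) (tt N99613 F517608) (tt N99023 F517607) (tt N110674 F517610) (tt N99024 F517613))
theorem Q119837 : ∀ i, i < 119837 → P i := stepQ 119836 Q119836 (allL N119836 (tt N99015 (iv1 D223095)) (tt N99034 F517614) (tt N99032 (iv2 F517618)) (tt N122045 (iv3 F529823)) (tt N108183 F517617) (tt N99124 F517616) (tt N99120 (iv6 F517619)) (tt N99031 F517615))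
theorem Q119838 : ∀ i, i < 119838 → P i := stepQ 119837 Q119837 (allL N119837 (tt N99032 (iv1 F517625)) (tt N99031 F517626) (tt N99034 F517620) (tt N100402 F517621) (tt N112629 F517622) (tt N99016 F517623) (tt N112663 F517624) (tt N99015 (iv7 D223096)))
theorem Q119839 : ∀ i, i < 119839 → P i := stepQ 119838 Q119838 (allL N119838 (tt N122206 (iv1 F530774)) (tt N119849 (iv0 F517686)) (tt N121967 (iv2 F529352)) (tt N99031 (iv3 D223097)) (tt N119257 F517627) (tt N112691 F517628) (tt N112682 F517629) (tt N122045 (iv7 F529826)))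
theorem Q119840 : ∀ i, i < 119840 → P i := stepQ 119839 Q119839 (allL N119839 (tt N119097 F517635) (tt N119938 (iv0 F518137)) (tt N119775 F517630) (tt N118322 F517631) (tt N99037 (iv4 D223098)) (tt N118321 F517634) (tt N108816 F517632) (tt N118494 F517633))
theorem Q119841 : ∀ i, i < 119841 → P i := stepQ 119840 Q119840 (allL N119840 (tt N99042 (iv1 D223099)) (tt N110678 F517636) (tt N112678 F517641) (tt N108534 (iv3 F517639)) (tt N110803 F517638) (tt N119848 (iv5 F517681)) (tt N99089 (iv6 F517640)) (tt N112679 F517637))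
theorem Q119842 : ∀ i, i < 119842 → P i := stepQ 119841 Q119841 (allL N119841 (tt N107724 F517646) (tt N117918 F517647) (tt N117892 F517642) (tt N102254 F517643) (tt N120614 (iv4 F521763)) (tt N99053 (iv5 D223100)) (tt N109000 F517644) (tt N99734 F517645))
theorem Q119843 : ∀ i, i < 119843 → P i := stepQ 119842 Q119842 (allL N119842 (tt N99054 (iv1 D223101)) (tt N99057 F517648) (tt N99056 (iv2 F517653)) (tt N106117 (iv3 F517652)) (tt N99194 F517651) (tt N99673 F517650) (tt N122181 (iv6 F530632)) (tt N99055 F517649))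
theorem Q119844 : ∀ i, i < 119844 → P i := stepQ 119843 Q119843 (allL N119843 (tt N105052 F517658) (tt N108028 (iv0 F517659)) (tt N117791 F517654) (tt N99056 (iv3 D223102)) (tt N107071 F517655) (tt N108573 F517656) (tt N118493 F517660) (tt N113277 F517657))
theorem Q119845 : ∀ i, i < 119845 → P i := stepQ 119844 Q119844 (allL N119844 (tt N121123 F524633) (tt N121186 (iv0 F525019)) (tt N122181 (iv2 F530629)) (tt N118493 F517661) (tt N119934 F518115) (tt N118492 F517662) (tt N99056 (iv6 D223103)) (tt N121314 (iv7 F525711)))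
theorem Q119846 : ∀ i, i < 119846 → P i := stepQ 119845 Q119845 (allL N119845 (tt N119281 F517668) (tt N117706 (iv0 F517669)) (tt N119463 F517663) (tt N99059 (iv3 D223104)) (tt N103474 F517664) (tt N117944 F517665) (tt N102517 F517666) (tt N119455 F517667))
theorem Q119847 : ∀ i, i < 119847 → P i := stepQ 119846 Q119846 (allL N119846 (tt N99582 F517673) (tt N106660 (iv0 F517674)) (tt N119850 (iv2 F517688)) (tt N111537 F517670) (tt N117539 F517671) (tt N113518 F517672) (tt N99061 (iv6 D223105)) (tt N122602 (iv7 F533107)))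
theorem Q119848 : ∀ i, i < 119848 → P i := stepQ 119847 Q119847 (allL N119847 (tt N99092 F517678) (tt N110920 (iv0 F517679)) (tt N112684 F517675) (tt N99062 (iv3 D223106)) (tt N121620 (iv4 F527373)) (tt N99291 F517676) (tt N121706 (iv6 F527867)) (tt N112685 F517677))
theorem Q119849 : ∀ i, i < 119849 → P i := stepQ 119848 Q119848 (allL N119848 (tt N121967 F529358) (tt N122045 (iv0 F529827)) (tt N119849 (iv2 F517682)) (tt N121706 (iv3 F527865)) (tt N112119 F517680) (tt N119840 F517681) (tt N99062 (iv6 D223107)) (tt N122206 (iv7 F530772)))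
theorem Q119850 : ∀ i, i < 119850 → P i := stepQ 119849 Q119849 (allL N119849 (tt N119838 F517686) (tt N117294 (iv0 F517687)) (tt N119848 F517682) (tt N101629 F517683) (tt N117151 F517684) (tt N112678 F517685) (tt N99063 (iv6 D223108)) (tt N121473 (iv7 F526571)))
theorem Q119851 : ∀ i, i < 119851 → P i := stepQ 119850 Q119850 (allL N119850 (tt N118302 F517691) (tt N118763 (iv0 F517692)) (tt N119846 F517688) (tt N122207 (iv3 F530776)) (tt N117119 F517689) (tt N107559 F517690) (tt N99064 (iv6 D223109)) (tt N120015 (iv7 F518568)))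
theorem Q119852 : ∀ i, i < 119852 → P i := stepQ 119851 Q119851 (allL N119851 (tt N108337 F517698) (tt N117783 F517699) (tt N106961 F517693) (tt N99068 F517694) (tt N115931 F517695) (tt N99067 (iv5 D223110)) (tt N115930 F517696) (tt N117782 F517697))
theorem Q119853 : ∀ i, i < 119853 → P i := stepQ 119852 Q119852 (allL N119852 (tt N99077 (iv1 F517704)) (tt N106663 (iv0 F517703)) (tt N99286 F517700) (tt N120531 (iv3 F521290)) (tt N121186 (iv4 F525017)) (tt N110234 F517702) (tt N99070 (iv6 D223111)) (tt N119745 F517701))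
theorem Q119854 : ∀ i, i < 119854 → P i := stepQ 119853 Q119853 (allL N119853 (tt N109933 F517707) (tt N112670 F517708) (tt N119761 F517705) (tt N121977 (iv3 F529418)) (tt N121392 (iv4 F526111)) (tt N99073 (iv5 D223112)) (tt N110737 F517706) (tt N120100 (iv7 F519043)))
theorem Q119855 : ∀ i, i < 119855 → P i := stepQ 119854 Q119854 (allL N119854 (tt N117854 F517713) (tt N121634 F527457) (tt N118325 F517709) (tt N120120 (iv3 F519155)) (tt N99077 F517710) (tt N111616 F517711) (tt N99076 (iv6 D223113)) (tt N118541 F517712))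
theorem Q119856 : ∀ i, i < 119856 → P i := stepQ 119855 Q119855 (allL N119855 (tt N99286 (iv1 F517718)) (tt N119745 F517719) (tt N106663 F517714) (tt N120528 F521274) (tt N118541 F517715) (tt N116191 F517716) (tt N106662 F517717) (tt N99077 (iv7 D223114)))
theorem Q119857 : ∀ i, i < 119857 → P i := stepQ 119856 Q119856 (allL N119856 (tt N109967 (iv1 F517723)) (tt N99078 (iv0 D223115)) (tt N109608 (iv2 F517722)) (tt N109974 (iv3 F517725)) (tt N113191 F517721) (tt N109606 F517720) (tt N121940 (iv6 F529194)) (tt N109966 F517724))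
theorem Q119858 : ∀ i, i < 119858 → P i := stepQ 119857 Q119857 (allL N119857 (tt N120528 (iv1 F521271)) (tt N99079 (iv0 D223116)) (tt N108460 (iv2 F517729)) (tt N122602 (iv3 F533104)) (tt N107291 F517727) (tt N113386 F517726) (tt N107290 F517728) (tt N111537 F517730))
theorem Q119859 : ∀ i, i < 119859 → P i := stepQ 119858 Q119858 (allL N119858 (tt N111537 (iv1 F517735)) (tt N108460 F517736) (tt N120528 (iv2 F521276)) (tt N99083 F517731) (tt N101646 F517732) (tt N113457 F517733) (tt N110565 F517734) (tt N99079 (iv7 D223117)))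
theorem Q119860 : ∀ i, i < 119860 → P i := stepQ 119859 Q119859 (allL N119859 (tt N110522 F517742) (tt N120389 (iv0 F520533)) (tt N119750 F517737) (tt N112568 F517738) (tt N113542 F517739) (tt N99081 (iv5 D223118)) (tt N112566 F517740) (tt N112664 F517741))
theorem Q119861 : ∀ i, i < 119861 → P i := stepQ 119860 Q119860 (allL N119860 (tt N119751 (iv1 F517747)) (tt N107336 F517748) (tt N116535 F517743) (tt N113457 F517744) (tt N113458 F517745) (tt N99083 F517746) (tt N121118 (iv6 F524599)) (tt N99082 (iv7 D223119)))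
theorem Q119862 : ∀ i, i < 119862 → P i := stepQ 119861 Q119861 (allL N119861 (tt N120225 (iv1 F519689)) (tt N120224 F519688) (tt N119758 F517749) (tt N121124 (iv3 F524635)) (tt N115123 F517750) (tt N121390 (iv5 F526099)) (tt N99085 (iv6 D223120)) (tt N120220 (iv7 F519670)))
theorem Q119863 : ∀ i, i < 119863 → P i := stepQ 119862 Q119862 (allL N119862 (tt N99090 (iv1 D223121)) (tt N110682 F517751) (tt N119831 F517755) (tt N108537 (iv3 F517753)) (tt N122586 (iv4 F533003)) (tt N110784 (iv5 F517754)) (tt N121422 (iv6 F526273)) (tt N112677 F517752))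
theorem Q119864 : ∀ i, i < 119864 → P i := stepQ 119863 Q119863 (allL N119863 (tt N119831 (iv1 F517759)) (tt N112677 F517760) (tt N110682 F517756) (tt N107627 F517757) (tt N105135 F517758) (tt N121991 (iv5 F529497)) (tt N121550 (iv6 F526988)) (tt N99090 (iv7 D223122)))
theorem Q119865 : ∀ i, i < 119865 → P i := stepQ 119864 Q119864 (allL N119864 (tt N121550 F526991) (tt N99091 (iv0 D223123)) (tt N120530 (iv2 F521283)) (tt N99289 (iv3 F517763)) (tt N116676 F517761) (tt N121937 (iv5 F529173)) (tt N99285 F517762) (tt N119747 (iv7 F517764)))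
theorem Q119866 : ∀ i, i < 119866 → P i := stepQ 119865 Q119865 (allL N119865 (tt N99091 (iv1 D223124)) (tt N121550 (iv0 F526990)) (tt N119747 F517766) (tt N120532 (iv3 F521295)) (tt N107412 F517767) (tt N121940 (iv5 F529193)) (tt N112680 (iv6 F517765)) (tt N120530 (iv7 F521286)))
theorem Q119867 : ∀ i, i < 119867 → P i := stepQ 119866 Q119866 (allL N119866 (tt N119747 (iv1 F517772)) (tt N120530 (iv0 F521287)) (tt N121550 (iv2 F526985)) (tt N110685 F517768) (tt N107332 F517769) (tt N100482 F517770) (tt N110682 F517771) (tt N99091 (iv7 D223125)))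
theorem Q119868 : ∀ i, i < 119868 → P i := stepQ 119867 Q119867 (allL N119867 (tt N99097 (iv1 D223126)) (tt N108089 F517773) (tt N108088 F517778) (tt N100413 (iv3 F517775)) (tt N119965 (iv4 F518294)) (tt N110739 (iv5 F517777)) (tt N100412 (iv6 F517776)) (tt N108087 F517774))
theorem Q119869 : ∀ i, i < 119869 → P i := stepQ 119868 Q119868 (allL N119868 (tt N108088 (iv1 F517783)) (tt N108087 F517784) (tt N108089 F517779) (tt N107754 F517780) (tt N119098 F517781) (tt N121488 (iv5 F526645)) (tt N112594 F517782) (tt N99097 (iv7 D223127)))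
theorem Q119870 : ∀ i, i < 119870 → P i := stepQ 119869 Q119869 (allL N119869 (tt N99194 F517790) (tt N99165 (iv0 F517791)) (tt N99195 F517785) (tt N99098 (iv3 D223128)) (tt N108082 F517786) (tt N99171 F517787) (tt N99211 F517788) (tt N99193 F517789))
theorem Q119871 : ∀ i, i < 119871 → P i := stepQ 119870 Q119870 (allL N119870 (tt N121533 (iv1 F526901)) (tt N99221 (iv0 F517797)) (tt N112599 F517792) (tt N99103 F517793) (tt N108694 F517794) (tt N110782 F517795) (tt N99100 (iv6 D223129)) (tt N110819 F517796))
theorem Q119872 : ∀ i, i < 119872 → P i := stepQ 119871 Q119871 (allL N119871 (tt N116676 F517801) (tt N107412 (iv0 F517802)) (tt N107294 F517798) (tt N122292 (iv3 F531229)) (tt N99103 F517799) (tt N109886 F517800) (tt N99102 (iv6 D223130)) (tt N121544 (iv7 F526956)))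
theorem Q119873 : ∀ i, i < 119873 → P i := stepQ 119872 Q119872 (allL N119872 (tt N121540 (iv1 F526929)) (tt N99166 (iv0 F517808)) (tt N119735 F517803) (tt N99104 (iv3 D223131)) (tt N101118 F517804) (tt N109984 F517805) (tt N101117 F517806) (tt N99276 F517807))
theorem Q119874 : ∀ i, i < 119874 → P i := stepQ 119873 Q119873 (allL N119873 (tt N109807 F517813) (tt N109808 F517814) (tt N109860 F517809) (tt N107404 F517810) (tt N99109 F517811) (tt N119113 F517812) (tt N99108 (iv6 D223132)) (tt N109859 (iv7 F517815)))
theorem Q119875 : ∀ i, i < 119875 → P i := stepQ 119874 Q119874 (allL N119874 (tt N106925 F517820) (tt N106923 F517821) (tt N99123 F517816) (tt N99139 F517817) (tt N121875 (iv4 F528847)) (tt N99113 (iv5 D223133)) (tt N99138 F517818) (tt N99125 F517819))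
theorem Q119876 : ∀ i, i < 119876 → P i := stepQ 119875 Q119875 (allL N119875 (tt N106923 F517824) (tt N106925 F517825) (tt N99125 F517822) (tt N121372 (iv3 F526011)) (tt N121873 (iv4 F528835)) (tt N99114 (iv5 D223134)) (tt N121872 F528833) (tt N99123 F517823))
theorem Q119877 : ∀ i, i < 119877 → P i := stepQ 119876 Q119876 (allL N119876 (tt N115922 F517831) (tt N118153 F517830) (tt N117049 F517826) (tt N121594 (iv3 F527221)) (tt N108180 F517829) (tt N99119 (iv5 D223135)) (tt N108179 F517827) (tt N108206 F517828))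
theorem Q119878 : ∀ i, i < 119878 → P i := stepQ 119877 Q119877 (allL N119877 (tt N121974 (iv1 F529403)) (tt N109934 F517835) (tt N99138 F517832) (tt N109505 F517833) (tt N121922 (iv4 F529076)) (tt N99120 (iv5 D223136)) (tt N99123 F517834) (tt N121806 (iv7 F528436)))
theorem Q119879 : ∀ i, i < 119879 → P i := stepQ 119878 Q119878 (allL N119878 (tt N109507 F517840) (tt N109935 (iv0 F517839)) (tt N121353 (iv2 F525924)) (tt N99123 F517836) (tt N110387 F517837) (tt N99122 (iv5 D223137)) (tt N109505 F517838) (tt N121372 (iv7 F526008)))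
theorem Q119880 : ∀ i, i < 119880 → P i := stepQ 119879 Q119879 (allL N119879 (tt N99125 (iv1 F517843)) (tt N99123 (iv0 D223138)) (tt N106925 (iv2 F517842)) (tt N106926 (iv3 F517845)) (tt N121868 (iv4 F528804)) (tt N106915 F517841) (tt N121366 (iv6 F525985)) (tt N106923 F517844))
theorem Q119881 : ∀ i, i < 119881 → P i := stepQ 119880 Q119880 (allL N119880 (tt N119794 (iv1 F517848)) (tt N121398 (iv0 F526134)) (tt N121875 (iv2 F528845)) (tt N110388 F517846) (tt N99123 (iv4 D223139)) (tt N101634 F517847) (tt N121922 (iv6 F529078)) (tt N121873 F528837))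
theorem Q119882 : ∀ i, i < 119882 → P i := stepQ 119881 Q119881 (allL N119881 (tt N113339 F517852) (tt N99144 (iv0 F517851)) (tt N121803 F528417) (tt N99127 (iv3 D223140)) (tt N113424 F517850) (tt N121424 (iv5 F526287)) (tt N110670 F517849) (tt N121423 (iv7 F526283)))
theorem Q119883 : ∀ i, i < 119883 → P i := stepQ 119882 Q119882 (allL N119882 (tt N119788 F517856) (tt N121992 (iv0 F529509)) (tt N121425 (iv2 F526291)) (tt N113425 F517853) (tt N99127 (iv4 D223141)) (tt N117284 F517855) (tt N113390 F517854) (tt N120197 (iv7 F519540)))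
theorem Q119884 : ∀ i, i < 119884 → P i := stepQ 119883 Q119883 (allL N119883 (tt N121992 F529508) (tt N119788 F517859) (tt N120197 (iv2 F519536)) (tt N112585 F517857) (tt N99128 (iv4 D223142)) (tt N117285 F517858) (tt N119801 (iv6 F517860)) (tt N121425 (iv7 F526295)))
theorem Q119885 : ∀ i, i < 119885 → P i := stepQ 119884 Q119884 (allL N119884 (tt N106347 F519741) (tt N121861 F528763) (tt N120196 (iv2 F519533)) (tt N120236 (iv3 F519747)) (tt N119801 F517861) (tt N120234 (iv5 F519739)) (tt N99128 (iv6 D223143)) (tt N121859 (iv7 F528751)))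
theorem Q119886 : ∀ i, i < 119886 → P i := stepQ 119885 Q119885 (allL N119885 (tt N99132 (iv1 F517865)) (tt N99130 (iv0 D223144)) (tt N99931 F517868) (tt N107061 (iv3 F517866)) (tt N100365 F517863) (tt N100366 F517862) (tt N101132 F517864) (tt N99932 F517867))
theorem Q119887 : ∀ i, i < 119887 → P i := stepQ 119886 Q119886 (allL N119886 (tt N99130 (iv1 D223145)) (tt N99132 F517869) (tt N99932 (iv2 F517873)) (tt N121974 (iv3 F529398)) (tt N100367 F517872) (tt N100364 F517871) (tt N121975 F529409) (tt N99931 F517870))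
theorem Q119888 : ∀ i, i < 119888 → P i := stepQ 119887 Q119887 (allL N119887 (tt N121379 F526045) (tt N121364 (iv0 F525979)) (tt N121957 (iv2 F529289)) (tt N121859 (iv3 F528748)) (tt N120208 (iv4 F519600)) (tt N120231 (iv5 F519724)) (tt N99134 (iv6 D223146)) (tt N120236 (iv7 F519749)))
theorem Q119889 : ∀ i, i < 119889 → P i := stepQ 119888 Q119888 (allL N119888 (tt N121806 F528438) (tt N99138 (iv0 D223147)) (tt N121974 (iv2 F529397)) (tt N106084 F517875) (tt N119291 (iv4 F517877)) (tt N106909 F517874) (tt N121365 (iv6 F525982)) (tt N109934 (iv7 F517876)))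
theorem Q119890 : ∀ i, i < 119890 → P i := stepQ 119889 Q119889 (allL N119889 (tt N99138 (iv1 D223148)) (tt N121806 (iv0 F528437)) (tt N109934 F517881) (tt N99931 (iv3 F517879)) (tt N122170 (iv4 F530560)) (tt N100435 F517878) (tt N109506 (iv6 F517880)) (tt N121974 (iv7 F529401)))
theorem Q119891 : ∀ i, i < 119891 → P i := stepQ 119890 Q119890 (allL N119890 (tt N106927 F517885) (tt N117161 (iv0 F517886)) (tt N117163 F517882) (tt N99141 F517883) (tt N116863 F517884) (tt N121362 (iv5 F525967)) (tt N99140 (iv6 D223149)) (tt N117162 (iv7 F517887)))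
theorem Q119892 : ∀ i, i < 119892 → P i := stepQ 119891 Q119891 (allL N119891 (tt N121278 (iv1 F525533)) (tt N99141 (iv0 D223150)) (tt N109508 (iv2 F517890)) (tt N121874 (iv3 F528840)) (tt N109482 F517888) (tt N122008 (iv5 F529607)) (tt N109481 F517889) (tt N121975 (iv7 F529405)))
theorem Q119893 : ∀ i, i < 119893 → P i := stepQ 119892 Q119892 (allL N119892 (tt N99141 (iv1 D223151)) (tt N121278 (iv0 F525532)) (tt N121975 (iv2 F529410)) (tt N102675 (iv3 F517893)) (tt N100438 F517892) (tt N121592 (iv5 F527211)) (tt N99932 (iv6 F517894)) (tt N109508 F517891))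
theorem Q119894 : ∀ i, i < 119894 → P i := stepQ 119893 Q119893 (allL N119893 (tt N121975 (iv1 F529404)) (tt N109508 (iv0 F517898)) (tt N121278 (iv2 F525528)) (tt N117162 F517895) (tt N116898 F517896) (tt N121865 (iv5 F528787)) (tt N99594 F517897) (tt N99141 (iv7 D223152)))
theorem Q119895 : ∀ i, i < 119895 → P i := stepQ 119894 Q119894 (allL N119894 (tt N99144 (iv1 D223153)) (tt N113339 F517899) (tt N121423 (iv2 F526277)) (tt N99596 (iv3 F517902)) (tt N107608 F517901) (tt N116944 F517900) (tt N121279 (iv6 F525534)) (tt N121803 (iv7 F528419)))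
theorem Q119896 : ∀ i, i < 119896 → P i := stepQ 119895 Q119895 (allL N119895 (tt N106632 (iv1 F517906)) (tt N106630 F517907) (tt N106629 F517903) (tt N122539 (iv3 F532730)) (tt N106342 F517904) (tt N121869 (iv5 F528810)) (tt N99213 F517905) (tt N99149 (iv7 D223154)))
theorem Q119897 : ∀ i, i < 119897 → P i := stepQ 119896 Q119896 (allL N119896 (tt N106800 F517913) (tt N110296 (iv0 F517914)) (tt N119021 F517908) (tt N99154 F517909) (tt N117890 F517910) (tt N102755 F517911) (tt N99152 (iv6 D223155)) (tt N109224 F517912))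
theorem Q119898 : ∀ i, i < 119898 → P i := stepQ 119897 Q119897 (allL N119897 (tt N99167 (iv1 D223156)) (tt N114798 F517915) (tt N120003 F518500) (tt N112531 (iv3 F517918)) (tt N103161 F517917) (tt N105655 F517920) (tt N112530 (iv6 F517919)) (tt N118216 F517916))
theorem Q119899 : ∀ i, i < 119899 → P i := stepQ 119898 Q119898 (allL N119898 (tt N110564 (iv1 F517925)) (tt N99168 (iv0 D223157)) (tt N102667 (iv2 F517924)) (tt N113522 (iv3 F517927)) (tt N114261 F517922) (tt N102666 F517921) (tt N113521 F517923) (tt N116947 F517926))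
theorem Q119900 : ∀ i, i < 119900 → P i := stepQ 119899 Q119899 (allL N119899 (tt N99169 (iv1 D223158)) (tt N99174 F517928) (tt N116675 F517933) (tt N119210 (iv3 F517931)) (tt N107561 F517929) (tt N113821 F517930) (tt N116665 (iv6 F517932)) (tt N121436 (iv7 F526363)))
theorem Q119901 : ∀ i, i < 119901 → P i := stepQ 119900 Q119900 (allL N119900 (tt N102642 F517939) (tt N102711 F517940) (tt N102716 F517934) (tt N117964 F517935) (tt N99173 (iv4 D223159)) (tt N103792 F517938) (tt N103793 F517936) (tt N102717 F517937))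
theorem Q119902 : ∀ i, i < 119902 → P i := stepQ 119901 Q119901 (allL N119901 (tt N108351 F517945) (tt N104633 F517946) (tt N108350 F517941) (tt N120829 (iv3 F522960)) (tt N105121 F517942) (tt N99174 (iv5 D223160)) (tt N105120 F517943) (tt N108349 F517944))
theorem Q119903 : ∀ i, i < 119903 → P i := stepQ 119902 Q119902 (allL N119902 (tt N122576 (iv1 F532942)) (tt N122695 D225954) (tt N122584 (iv2 F532988)) (tt N99185 F517947) (tt N120421 (iv4 F520690)) (tt N99184 (iv5 D223161)) (tt N122013 (iv6 F529634)) (tt N122587 (iv7 F533012)))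
theorem Q119904 : ∀ i, i < 119904 → P i := stepQ 119903 Q119903 (allL N119903 (tt N120533 (iv1 F521305)) (tt N121610 (iv0 F527324)) (tt N121603 (iv2 F527277)) (tt N99186 F517948) (tt N112175 F517949) (tt N119932 (iv5 F518102)) (tt N99184 (iv6 D223162)) (tt N120422 (iv7 F520697)))
theorem Q119905 : ∀ i, i < 119905 → P i := stepQ 119904 Q119904 (allL N119904 (tt N99209 F517955) (tt N99208 (iv0 F517956)) (tt N99211 F517950) (tt N99202 F517951) (tt N118846 F517952) (tt N117139 F517953) (tt N99195 (iv6 D223163)) (tt N99205 F517954))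
theorem Q119906 : ∀ i, i < 119906 → P i := stepQ 119905 Q119905 (allL N119905 (tt N109831 F517961) (tt N109980 F517962) (tt N109981 F517957) (tt N120004 (iv3 F518503)) (tt N117458 F517960) (tt N99201 (iv5 D223164)) (tt N119738 F517958) (tt N109982 F517959))
theorem Q119907 : ∀ i, i < 119907 → P i := stepQ 119906 Q119906 (allL N119906 (tt N119693 F517968) (tt N117290 F517969) (tt N99207 F517963) (tt N106125 F517964) (tt N99205 F517965) (tt N116651 F517966) (tt N99204 (iv6 D223165)) (tt N118846 F517967))
theorem Q119908 : ∀ i, i < 119908 → P i := stepQ 119907 Q119907 (allL N119907 (tt N99205 (iv1 D223166)) (tt N99211 F517970) (tt N99209 F517975) (tt N101532 (iv3 F517974)) (tt N117894 F517972) (tt N106627 F517973) (tt N101531 F517976) (tt N99208 F517971))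
theorem Q119909 : ∀ i, i < 119909 → P i := stepQ 119908 Q119908 (allL N119908 (tt N116653 F517980) (tt N116633 (iv0 F517981)) (tt N116651 F517977) (tt N100070 F517978) (tt N119953 (iv4 F518224)) (tt N99207 (iv5 D223167)) (tt N119952 (iv6 F518221)) (tt N116652 F517979))
theorem Q119910 : ∀ i, i < 119910 → P i := stepQ 119909 Q119909 (allL N119909 (tt N116018 F517985) (tt N117002 (iv0 F517986)) (tt N117001 F517982) (tt N99208 (iv3 D223168)) (tt N101533 F517983) (tt N122013 (iv5 F529633)) (tt N119932 (iv6 F518103)) (tt N101532 F517984))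
theorem Q119911 : ∀ i, i < 119911 → P i := stepQ 119910 Q119910 (allL N119910 (tt N117139 (iv1 F517989)) (tt N99210 (iv0 D223169)) (tt N110808 (iv2 F517990)) (tt N122696 D225955) (tt N113203 F517988) (tt N110647 F517987) (tt N121455 (iv6 F526472)) (tt N110807 (iv7 F517991)))
theorem Q119912 : ∀ i, i < 119912 → P i := stepQ 119911 Q119911 (allL N119911 (tt N99210 (iv1 D223170)) (tt N117139 F517992) (tt N110807 (iv2 F517996)) (tt N122569 (iv3 F532897)) (tt N113204 F517995) (tt N110646 F517994) (tt N122694 (iv6 F533652)) (tt N110808 F517993))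
theorem Q119913 : ∀ i, i < 119913 → P i := stepQ 119912 Q119912 (allL N119912 (tt N113438 F518001) (tt N117140 F518002) (tt N117141 F517997) (tt N112332 F517998) (tt N99210 (iv4 D223171)) (tt N121414 (iv5 F526229)) (tt N112331 F517999) (tt N116858 F518000))
theorem Q119914 : ∀ i, i < 119914 → P i := stepQ 119913 Q119913 (allL N119913 (tt N99215 (iv1 D223172)) (tt N99225 F518003) (tt N99223 F518008) (tt N113437 (iv3 F518006)) (tt N122398 (iv4 F531861)) (tt N113432 F518005) (tt N110815 F518009) (tt N99222 F518004))
theorem Q119915 : ∀ i, i < 119915 → P i := stepQ 119914 Q119914 (allL N119914 (tt N99221 (iv1 D223173)) (tt N121533 (iv0 F526900)) (tt N110819 F518014) (tt N112493 (iv3 F518013)) (tt N119720 (iv4 F518012)) (tt N110783 F518011) (tt N110238 F518015) (tt N112599 F518010))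
theorem Q119916 : ∀ i, i < 119916 → P i := stepQ 119915 Q119915 (allL N119915 (tt N110819 (iv1 F518018)) (tt N112599 F518019) (tt N121533 (iv2 F526895)) (tt N99225 F518016) (tt N121573 (iv4 F527103)) (tt N120340 (iv5 F520269)) (tt N99275 F518017) (tt N99221 (iv7 D223174)))
theorem Q119917 : ∀ i, i < 119917 → P i := stepQ 119916 Q119916 (allL N119916 (tt N110777 F518023) (tt N121537 F526921) (tt N113432 F518020) (tt N99245 F518021) (tt N113440 F518022) (tt N99223 (iv5 D223175)) (tt N110007 (iv6 F518024)) (tt N122009 (iv7 F529616)))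
theorem Q119918 : ∀ i, i < 119918 → P i := stepQ 119917 Q119917 (allL N119917 (tt N110818 (iv1 F518030)) (tt N110814 (iv0 F518029)) (tt N110815 F518025) (tt N99246 F518026) (tt N103094 F518027) (tt N121546 (iv5 F526965)) (tt N99223 (iv6 D223176)) (tt N110816 F518028))
theorem Q119919 : ∀ i, i < 119919 → P i := stepQ 119918 Q119918 (allL N119918 (tt N99224 (iv1 D223177)) (tt N109998 F518031) (tt N109997 (iv2 F518036)) (tt N99248 F518035) (tt N105312 (iv4 F518037)) (tt N110787 F518033) (tt N119812 (iv6 F518034)) (tt N109996 F518032))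
theorem Q119920 : ∀ i, i < 119920 → P i := stepQ 119919 Q119919 (allL N119919 (tt N117380 F518040) (tt N107017 (iv0 F518041)) (tt N109889 F518038) (tt N122286 (iv3 F531188)) (tt N99224 (iv4 D223178)) (tt N122357 (iv5 F531614)) (tt N109812 F518039) (tt N116521 F518042))
theorem Q119921 : ∀ i, i < 119921 → P i := stepQ 119920 Q119920 (allL N119920 (tt N109997 (iv1 F518047)) (tt N109996 F518048) (tt N109998 F518043) (tt N120340 (iv3 F520268)) (tt N116521 F518044) (tt N99225 F518045) (tt N99278 F518046) (tt N99224 (iv7 D223179)))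
theorem Q119922 : ∀ i, i < 119922 → P i := stepQ 119921 Q119921 (allL N119921 (tt N121062 (iv1 F524310)) (tt N121435 F526358) (tt N118910 F518049) (tt N121436 (iv3 F526361)) (tt N99230 (iv4 D223180)) (tt N117145 F518050) (tt N122582 (iv6 F532979)) (tt N119210 F518051))
theorem Q119923 : ∀ i, i < 119923 → P i := stepQ 119922 Q119922 (allL N119922 (tt N99237 (iv1 D223181)) (tt N99238 F518052) (tt N110763 F518056) (tt N99267 F518057) (tt N116382 F518054) (tt N121531 (iv5 F526883)) (tt N110757 (iv6 F518055)) (tt N116573 F518053))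
theorem Q119924 : ∀ i, i < 119924 → P i := stepQ 119923 Q119923 (allL N119923 (tt N119738 F518062) (tt N110706 F518063) (tt N119741 F518058) (tt N113523 F518059) (tt N122550 (iv4 F532793)) (tt N99241 (iv5 D223182)) (tt N99250 F518060) (tt N107662 F518061))
theorem Q119925 : ∀ i, i < 119925 → P i := stepQ 119924 Q119924 (allL N119924 (tt N99245 (iv1 F518067)) (tt N99244 (iv0 D223183)) (tt N119737 (iv2 F518066)) (tt N110003 F518065) (tt N121960 (iv4 F529311)) (tt N119743 F518064) (tt N121961 (iv6 F529318)) (tt N110001 F518068))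
theorem Q119926 : ∀ i, i < 119926 → P i := stepQ 119925 Q119925 (allL N119925 (tt N122201 (iv1 F530742)) (tt N121838 (iv0 F528621)) (tt N121119 F524607) (tt N121882 (iv3 F528883)) (tt N99244 (iv4 D223184)) (tt N101298 F518069) (tt N121588 F527189) (tt N121876 (iv7 F528854)))
theorem Q119927 : ∀ i, i < 119927 → P i := stepQ 119926 Q119926 (allL N119926 (tt N121838 F528622) (tt N122201 (iv0 F530741)) (tt N121876 (iv2 F528851)) (tt N105662 F518070) (tt N99245 (iv4 D223185)) (tt N100455 F518071) (tt N100458 (iv6 F518072)) (tt N121119 (iv7 F524604)))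
theorem Q119928 : ∀ i, i < 119928 → P i := stepQ 119927 Q119927 (allL N119927 (tt N121883 (iv1 F528894)) (tt N107668 (iv0 F518076)) (tt N112559 F518073) (tt N110007 F518074) (tt N100458 F518075) (tt N120542 (iv5 F521355)) (tt N99245 (iv6 D223186)) (tt N121943 (iv7 F529213)))
theorem Q119929 : ∀ i, i < 119929 → P i := stepQ 119928 Q119928 (allL N119928 (tt N113349 F518079) (tt N119736 F518080) (tt N112187 F518077) (tt N121546 F526966) (tt N109206 F518078) (tt N99246 (iv5 D223187)) (tt N120542 (iv6 F521353)) (tt N120719 (iv7 F522334)))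
theorem Q119930 : ∀ i, i < 119930 → P i := stepQ 119929 Q119929 (allL N119929 (tt N119806 (iv1 F518086)) (tt N99249 (iv0 D223188)) (tt N119793 (iv2 F518085)) (tt N112556 F518083) (tt N118236 F518082) (tt N112555 F518081) (tt N119811 F518084) (tt N110742 F518087))
theorem Q119931 : ∀ i, i < 119931 → P i := stepQ 119930 Q119930 (allL N119930 (tt N99259 (iv1 F518093)) (tt N99252 (iv0 D223189)) (tt N99257 (iv2 F518092)) (tt N110809 F518090) (tt N116667 F518089) (tt N110809 F518088) (tt N110798 F518091) (tt N99258 F518094))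
theorem Q119932 : ∀ i, i < 119932 → P i := stepQ 119931 Q119931 (allL N119931 (tt N113820 F518099) (tt N103748 F518100) (tt N102718 F518095) (tt N120750 (iv3 F522508)) (tt N99255 (iv4 D223190)) (tt N102711 F518096) (tt N118997 F518097) (tt N113044 F518098))
theorem Q119933 : ∀ i, i < 119933 → P i := stepQ 119932 Q119932 (allL N119932 (tt N119297 F518104) (tt N119298 (iv0 F518106)) (tt N116578 F518101) (tt N99266 (iv3 D223191)) (tt N116586 F518105) (tt N119903 F518102) (tt N119909 F518103) (tt N120343 (iv7 F520289)))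
theorem Q119934 : ∀ i, i < 119934 → P i := stepQ 119933 Q119933 (allL N119933 (tt N119259 F518112) (tt N107862 F518113) (tt N110587 F518107) (tt N116591 F518108) (tt N99267 (iv4 D223192)) (tt N100119 F518109) (tt N106681 F518110) (tt N110585 F518111))
theorem Q119935 : ∀ i, i < 119935 → P i := stepQ 119934 Q119934 (allL N119934 (tt N99268 (iv1 D223193)) (tt N120958 (iv0 F523704)) (tt N113335 F518117) (tt N119697 F518118) (tt N119844 (iv4 F518115)) (tt N110820 F518114) (tt N119696 (iv6 F518116)) (tt N121968 (iv7 F529363)))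
theorem Q119936 : ∀ i, i < 119936 → P i := stepQ 119935 Q119935 (allL N119935 (tt N113335 (iv1 F518121)) (tt N121968 (iv0 F529364)) (tt N120958 (iv2 F523699)) (tt N100456 F518119) (tt N121634 (iv4 F527454)) (tt N120337 (iv5 F520250)) (tt N105893 F518120) (tt N99268 (iv7 D223194)))
theorem Q119937 : ∀ i, i < 119937 → P i := stepQ 119936 Q119936 (allL N119936 (tt N110805 (iv1 F518125)) (tt N99270 (iv0 D223195)) (tt N121531 F526887) (tt N120436 (iv3 F520776)) (tt N111110 F518123) (tt N110763 F518122) (tt N110788 F518124) (tt N116579 (iv7 F518126)))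
theorem Q119938 : ∀ i, i < 119938 → P i := stepQ 119937 Q119937 (allL N119937 (tt N99270 (iv1 D223196)) (tt N110805 F518127) (tt N116579 F518132) (tt N110826 (iv3 F518130)) (tt N111111 F518129) (tt N116573 F518128) (tt N116506 (iv6 F518131)) (tt N121531 (iv7 F526889)))
theorem Q119939 : ∀ i, i < 119939 → P i := stepQ 119938 Q119938 (allL N119938 (tt N119839 F518137) (tt N121973 (iv0 F529395)) (tt N110586 F518133) (tt N116597 F518134) (tt N99275 (iv4 D223197)) (tt N116596 F518136) (tt N121573 (iv6 F527104)) (tt N117820 F518135))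
theorem Q119940 : ∀ i, i < 119940 → P i := stepQ 119939 Q119939 (allL N119939 (tt N106658 F518141) (tt N121488 (iv0 F526648)) (tt N121541 (iv2 F526935)) (tt N99278 F518138) (tt N107557 F518140) (tt N99276 (iv5 D223198)) (tt N120340 F520271) (tt N109984 F518139))
theorem Q119941 : ∀ i, i < 119941 → P i := stepQ 119940 Q119940 (allL N119940 (tt N107529 (iv1 F518146)) (tt N107522 F518147) (tt N107527 F518142) (tt N100457 F518143) (tt N119258 F518144) (tt N121584 (iv5 F527163)) (tt N110805 F518145) (tt N99279 (iv7 D223199)))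
theorem Q119942 : ∀ i, i < 119942 → P i := stepQ 119941 Q119941 (allL N119941 (tt N99285 (iv1 D223200)) (tt N100948 F518148) (tt N120529 (iv2 F521281)) (tt N111364 (iv3 F518152)) (tt N106051 F518151) (tt N110671 F518150) (tt N121424 (iv6 F526288)) (tt N106779 F518149))
theorem Q119943 : ∀ i, i < 119943 → P i := stepQ 119942 Q119942 (allL N119942 (tt N109971 F518157) (tt N110692 F518158) (tt N110234 F518153) (tt N99290 F518154) (tt N100904 F518156) (tt N99286 (iv5 D223201)) (tt N121937 (iv6 F529171)) (tt N109969 F518155))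
theorem Q119944 : ∀ i, i < 119944 → P i := stepQ 119943 Q119943 (allL N119943 (tt N109978 F518164) (tt N101087 F518163) (tt N109979 F518159) (tt N121937 (iv3 F529170)) (tt N113190 F518162) (tt N99289 (iv5 D223202)) (tt N99290 F518160) (tt N109826 F518161))
theorem Q119945 : ∀ i, i < 119945 → P i := stepQ 119944 Q119944 (allL N119944 (tt N99297 (iv1 F518169)) (tt N99294 (iv0 D223203)) (tt N99295 (iv2 F518168)) (tt N112636 (iv3 F518171)) (tt N118373 F518166) (tt N115784 F518165) (tt N116678 F518167) (tt N99296 F518170))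
theorem Q119946 : ∀ i, i < 119946 → P i := stepQ 119945 Q119945 (allL N119945 (tt N120549 (iv1 F521396)) (tt N107799 (iv0 F518177)) (tt N99321 F518172) (tt N107812 F518173) (tt N117774 F518174) (tt N111857 F518175) (tt N99320 (iv6 D223204)) (tt N112640 F518176))
theorem Q119947 : ∀ i, i < 119947 → P i := stepQ 119946 Q119946 (allL N119946 (tt N107799 (iv1 F518183)) (tt N120549 (iv0 F521395)) (tt N112640 F518178) (tt N99323 F518179) (tt N117845 F518180) (tt N111093 F518181) (tt N107163 F518182) (tt N99321 (iv7 D223205)))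
theorem Q119948 : ∀ i, i < 119948 → P i := stepQ 119947 Q119947 (allL N119947 (tt N108162 F518189) (tt N109624 F518190) (tt N107568 F518184) (tt N116090 F518185) (tt N111833 F518186) (tt N99322 (iv5 D223206)) (tt N116975 F518187) (tt N107818 F518188))
theorem Q119949 : ∀ i, i < 119949 → P i := stepQ 119948 Q119948 (allL N119948 (tt N119761 F518194) (tt N120100 (iv0 F519045)) (tt N112670 F518191) (tt N119751 F518192) (tt N120466 (iv4 F520925)) (tt N99342 (iv5 D223207)) (tt N122006 (iv6 F529596)) (tt N109933 F518193))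
theorem Q119950 : ∀ i, i < 119950 → P i := stepQ 119949 Q119949 (allL N119949 (tt N117187 F518200) (tt N108437 F518201) (tt N108425 F518195) (tt N116969 F518196) (tt N108385 F518197) (tt N99357 (iv5 D223208)) (tt N108347 F518198) (tt N108424 F518199))
theorem Q119951 : ∀ i, i < 119951 → P i := stepQ 119950 Q119950 (allL N119950 (tt N99532 (iv1 F518207)) (tt N99502 F518208) (tt N99531 F518202) (tt N107001 F518203) (tt N107355 F518204) (tt N118669 F518205) (tt N105055 F518206) (tt N99365 (iv7 D223209)))
theorem Q119952 : ∀ i, i < 119952 → P i := stepQ 119951 Q119951 (allL N119951 (tt N119104 (iv1 F518214)) (tt N106752 (iv0 F518215)) (tt N108056 F518209) (tt N99369 (iv3 D223210)) (tt N108408 F518212) (tt N117093 F518210) (tt N108407 (iv6 F518213)) (tt N110322 F518211))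
theorem Q119953 : ∀ i, i < 119953 → P i := stepQ 119952 Q119952 (allL N119952 (tt N112803 F518219) (tt N117890 F518220) (tt N108045 F518216) (tt N120137 (iv3 F519260)) (tt N99369 (iv4 D223211)) (tt N108988 F518217) (tt N119908 F518221) (tt N118483 F518218))
theorem Q119954 : ∀ i, i < 119954 → P i := stepQ 119953 Q119953 (allL N119953 (tt N108029 F518226) (tt N108032 (iv0 F518227)) (tt N108030 F518222) (tt N108407 F518223) (tt N119908 F518224) (tt N120133 (iv5 F519237)) (tt N99369 (iv6 D223212)) (tt N101184 F518225))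
theorem Q119955 : ∀ i, i < 119955 → P i := stepQ 119954 Q119954 (allL N119954 (tt N114653 F518232) (tt N114649 (iv0 F518234)) (tt N99377 F518228) (tt N107361 F518229) (tt N116468 F518230) (tt N113946 F518233) (tt N99374 (iv6 D223213)) (tt N114652 F518231))
theorem Q119956 : ∀ i, i < 119956 → P i := stepQ 119955 Q119955 (allL N119955 (tt N113896 F518239) (tt N121345 (iv0 F525881)) (tt N99380 F518235) (tt N107363 F518236) (tt N116176 F518238) (tt N99375 (iv5 D223214)) (tt N113946 F518237) (tt N122020 (iv7 F529676)))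
theorem Q119957 : ∀ i, i < 119957 → P i := stepQ 119956 Q119956 (allL N119956 (tt N117194 F518244) (tt N117193 (iv0 F518245)) (tt N116468 F518240) (tt N116339 F518241) (tt N99377 F518242) (tt N113297 F518243) (tt N99376 (iv6 D223215)) (tt N117190 F518246))
theorem Q119958 : ∀ i, i < 119958 → P i := stepQ 119957 Q119957 (allL N119957 (tt N114649 (iv1 F518252)) (tt N114653 F518253) (tt N114652 F518247) (tt N99384 F518248) (tt N117190 F518249) (tt N113945 F518250) (tt N101430 F518251) (tt N99377 (iv7 D223216)))
theorem Q119959 : ∀ i, i < 119959 → P i := stepQ 119958 Q119958 (allL N119958 (tt N122022 (iv1 F529692)) (tt N99430 (iv0 F518259)) (tt N108846 (iv2 F518258)) (tt N99378 (iv3 D223217)) (tt N108841 F518257) (tt N116156 F518254) (tt N107106 F518255) (tt N108848 F518256))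
theorem Q119960 : ∀ i, i < 119960 → P i := stepQ 119959 Q119959 (allL N119959 (tt N110975 F518265) (tt N104885 F518264) (tt N120028 (iv2 F518640)) (tt N115592 F518260) (tt N99378 (iv4 D223218)) (tt N115545 F518263) (tt N104872 F518261) (tt N116806 F518262))
theorem Q119961 : ∀ i, i < 119961 → P i := stepQ 119960 Q119960 (allL N119960 (tt N104885 F518270) (tt N110975 F518271) (tt N116806 F518266) (tt N104893 F518267) (tt N99379 (iv4 D223219)) (tt N115546 F518268) (tt N115067 F518269) (tt N120028 (iv7 F518642)))
theorem Q119962 : ∀ i, i < 119962 → P i := stepQ 119961 Q119961 (allL N119961 (tt N114610 F518276) (tt N114612 F518277) (tt N116176 F518272) (tt N100988 F518278) (tt N99380 (iv4 D223220)) (tt N101487 F518275) (tt N100986 F518273) (tt N116768 F518274))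
theorem Q119963 : ∀ i, i < 119963 → P i := stepQ 119962 Q119962 (allL N119962 (tt N121625 (iv1 F527410)) (tt N120415 (iv0 F520663)) (tt N107381 F518279) (tt N100987 F518280) (tt N99383 (iv4 D223221)) (tt N122253 (iv5 F531024)) (tt N99388 F518281) (tt N120416 (iv7 F520665)))
theorem Q119964 : ∀ i, i < 119964 → P i := stepQ 119963 Q119963 (allL N119963 (tt N107380 (iv1 F518286)) (tt N107379 F518287) (tt N107382 F518282) (tt N113945 F518283) (tt N120416 (iv4 F520664)) (tt N99384 F518284) (tt N117264 F518285) (tt N99383 (iv7 D223222)))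
theorem Q119965 : ∀ i, i < 119965 → P i := stepQ 119964 Q119964 (allL N119964 (tt N99385 (iv1 D223223)) (tt N105134 (iv0 F518292)) (tt N105135 F518290) (tt N122022 (iv3 F529687)) (tt N110682 (iv4 F518289)) (tt N122243 (iv5 F530969)) (tt N107332 F518291) (tt N105136 F518288))
theorem Q119966 : ∀ i, i < 119966 → P i := stepQ 119965 Q119965 (allL N119965 (tt N105136 (iv1 F518298)) (tt N105135 F518297) (tt N99385 (iv2 D223224)) (tt N107383 F518293) (tt N119867 F518294) (tt N121928 (iv5 F529115)) (tt N115062 F518295) (tt N105134 F518296))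
theorem Q119967 : ∀ i, i < 119967 → P i := stepQ 119966 Q119966 (allL N119966 (tt N116939 F518302) (tt N116157 F518303) (tt N121928 (iv2 F529113)) (tt N99386 F518299) (tt N118568 F518301) (tt N99385 (iv5 D223225)) (tt N121954 (iv6 F529274)) (tt N105137 F518300))
theorem Q119968 : ∀ i, i < 119968 → P i := stepQ 119967 Q119967 (allL N119967 (tt N110875 F518307) (tt N110873 F518308) (tt N107384 F518304) (tt N120331 F520225) (tt N99386 (iv4 D223226)) (tt N105189 F518305) (tt N112782 F518309) (tt N105140 F518306))
theorem Q119969 : ∀ i, i < 119969 → P i := stepQ 119968 Q119968 (allL N119968 (tt N107633 F518314) (tt N122243 F530974) (tt N115125 F518311) (tt N99387 (iv3 D223227)) (tt N122646 (iv4 F533367)) (tt N115124 F518312) (tt N121231 (iv6 F525267)) (tt N107386 F518313))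
theorem Q119970 : ∀ i, i < 119970 → P i := stepQ 119969 Q119969 (allL N119969 (tt N107381 F518317) (tt N120416 (iv0 F520666)) (tt N120415 (iv2 F520659)) (tt N99388 (iv3 D223228)) (tt N100988 F518315) (tt N122517 (iv5 F532598)) (tt N100987 F518316) (tt N121625 (iv7 F527408)))
theorem Q119971 : ∀ i, i < 119971 → P i := stepQ 119970 Q119970 (allL N119970 (tt N105194 F518321) (tt N105193 F518322) (tt N105197 F518318) (tt N122517 (iv3 F532599)) (tt N105076 F518319) (tt N99388 (iv5 D223229)) (tt N121500 (iv6 F526714)) (tt N105075 F518320))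
theorem Q119972 : ∀ i, i < 119972 → P i := stepQ 119971 Q119971 (allL N119971 (tt N100967 F518327) (tt N108411 (iv0 F518328)) (tt N99395 F518323) (tt N107431 F518324) (tt N113613 F518326) (tt N99392 (iv5 D223230)) (tt N113612 F518325) (tt N122016 (iv7 F529655)))
theorem Q119973 : ∀ i, i < 119973 → P i := stepQ 119972 Q119972 (allL N119972 (tt N108086 F518332) (tt N119098 F518333) (tt N122586 (iv2 F533001)) (tt N99394 (iv3 D223231)) (tt N119831 F518329) (tt N122652 (iv5 F533408)) (tt N116393 F518330) (tt N110802 F518331))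
theorem Q119974 : ∀ i, i < 119974 → P i := stepQ 119973 Q119973 (allL N119973 (tt N116550 F518335) (tt N121344 F525875) (tt N121270 (iv2 F525490)) (tt N122652 (iv3 F533406)) (tt N121267 (iv4 F525474)) (tt N99394 (iv5 D223232)) (tt N114537 F518334) (tt N121333 (iv7 F525826)))
theorem Q119975 : ∀ i, i < 119975 → P i := stepQ 119974 Q119974 (allL N119974 (tt N122016 (iv1 F529656)) (tt N99395 (iv0 D223233)) (tt N100967 (iv2 F518339)) (tt N122276 (iv3 F531122)) (tt N108412 F518336) (tt N101104 F518337) (tt N100841 F518338) (tt N108411 (iv7 F518340)))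
theorem Q119976 : ∀ i, i < 119976 → P i := stepQ 119975 Q119975 (allL N119975 (tt N99395 (iv1 D223234)) (tt N122016 (iv0 F529657)) (tt N108411 F518345) (tt N122430 (iv3 F532053)) (tt N108381 F518343) (tt N108402 F518342) (tt N106494 (iv6 F518344)) (tt N100967 F518341))
theorem Q119977 : ∀ i, i < 119977 → P i := stepQ 119976 Q119976 (allL N119976 (tt N105246 F518349) (tt N105245 F518350) (tt N105249 F518346) (tt N120317 (iv3 F520165)) (tt N104333 F518347) (tt N99397 (iv5 D223235)) (tt N121625 (iv6 F527407)) (tt N104332 F518348))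
theorem Q119978 : ∀ i, i < 119978 → P i := stepQ 119977 Q119977 (allL N119977 (tt N110357 F518355) (tt N99953 F518354) (tt N99402 F518351) (tt N107399 F518352) (tt N122569 (iv4 F532898)) (tt N99399 (iv5 D223236)) (tt N106343 F518353) (tt N113338 F518356))
theorem Q119979 : ∀ i, i < 119979 → P i := stepQ 119978 Q119978 (allL N119978 (tt N99401 (iv1 F518362)) (tt N99400 F518363) (tt N99403 F518357) (tt N107400 F518358) (tt N118372 F518359) (tt N113338 F518360) (tt N107432 F518361) (tt N99399 (iv7 D223237)))
theorem Q119980 : ∀ i, i < 119980 → P i := stepQ 119979 Q119979 (allL N119979 (tt N116801 F518366) (tt N122292 (iv0 F531232)) (tt N113344 F518364) (tt N99400 (iv3 D223238)) (tt N122614 (iv4 F533178)) (tt N121373 (iv5 F526014)) (tt N116389 F518365) (tt N121442 (iv7 F526400)))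
theorem Q119981 : ∀ i, i < 119981 → P i := stepQ 119980 Q119980 (allL N119980 (tt N113406 F518368) (tt N121852 F528709) (tt N122202 (iv2 F530743)) (tt N99404 (iv3 D223239)) (tt N122564 (iv4 F532874)) (tt N118268 F518367) (tt N121630 (iv6 F527434)) (tt N121456 (iv7 F526478)))
theorem Q119982 : ∀ i, i < 119982 → P i := stepQ 119981 Q119981 (allL N119981 (tt N114394 F518372) (tt N117055 F518373) (tt N107476 F518369) (tt N109710 F518370) (tt N99407 (iv4 D223240)) (tt N120372 (iv5 F520433)) (tt N121623 (iv6 F527394)) (tt N113460 F518371))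
theorem Q119983 : ∀ i, i < 119983 → P i := stepQ 119982 Q119982 (allL N119982 (tt N107408 F518378) (tt N122582 F532980) (tt N99410 F518374) (tt N107451 F518375) (tt N108735 F518376) (tt N110246 F518379) (tt N99409 (iv6 D223241)) (tt N109316 F518377))
theorem Q119984 : ∀ i, i < 119984 → P i := stepQ 119983 Q119983 (allL N119983 (tt N99410 (iv1 D223242)) (tt N109316 F518380) (tt N122582 (iv2 F532975)) (tt N107398 (iv3 F518384)) (tt N99688 F518383) (tt N110374 F518382) (tt N118910 (iv6 F518385)) (tt N107408 F518381))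
theorem Q119985 : ∀ i, i < 119985 → P i := stepQ 119984 Q119984 (allL N119984 (tt N122582 (iv1 F532981)) (tt N107408 (iv0 F518391)) (tt N109316 F518386) (tt N99412 F518387) (tt N108738 F518388) (tt N110367 F518389) (tt N107468 F518390) (tt N99410 (iv7 D223243)))
theorem Q119986 : ∀ i, i < 119986 → P i := stepQ 119985 Q119985 (allL N119985 (tt N118821 F518395) (tt N103844 (iv0 F518396)) (tt N120437 F520783) (tt N99418 (iv3 D223244)) (tt N120874 (iv4 F523213)) (tt N105058 F518392) (tt N105059 F518393) (tt N107484 F518394))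
theorem Q119987 : ∀ i, i < 119987 → P i := stepQ 119986 Q119986 (allL N119986 (tt N109702 F518401) (tt N109768 (iv0 F518402)) (tt N109766 F518397) (tt N99419 (iv3 D223245)) (tt N114532 F518398) (tt N107402 F518399) (tt N121133 (iv6 F524692)) (tt N107486 F518400))
theorem Q119988 : ∀ i, i < 119988 → P i := stepQ 119987 Q119987 (allL N119987 (tt N119688 F518406) (tt N107655 (iv0 F518407)) (tt N106183 F518403) (tt N121133 (iv3 F524690)) (tt N99537 F518404) (tt N106858 F518405) (tt N99419 (iv6 D223246)) (tt N120277 (iv7 F519979)))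
theorem Q119989 : ∀ i, i < 119989 → P i := stepQ 119988 Q119988 (allL N119988 (tt N106098 (iv1 F518413)) (tt N99425 (iv0 D223247)) (tt N107109 (iv2 F518412)) (tt N106047 F518410) (tt N116032 F518409) (tt N106038 F518408) (tt N107320 F518411) (tt N106037 F518414))
theorem Q119990 : ∀ i, i < 119990 → P i := stepQ 119989 Q119989 (allL N119989 (tt N108846 F518419) (tt N108848 F518420) (tt N99430 F518415) (tt N105136 F518416) (tt N118389 F518417) (tt N113021 F518418) (tt N99429 (iv6 D223248)) (tt N122022 (iv7 F529691)))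
theorem Q119991 : ∀ i, i < 119991 → P i := stepQ 119990 Q119990 (allL N119990 (tt N99430 (iv1 D223249)) (tt N122022 F529693) (tt N108848 F518426) (tt N114934 (iv3 F518424)) (tt N108842 F518423) (tt N116155 F518422) (tt N106776 (iv6 F518425)) (tt N108846 F518421))
theorem Q119992 : ∀ i, i < 119992 → P i := stepQ 119991 Q119991 (allL N119991 (tt N121693 (iv1 F527787)) (tt N111835 (iv0 F518429)) (tt N107638 F518427) (tt N121019 (iv3 F524047)) (tt N122284 (iv4 F531175)) (tt N99431 (iv5 D223250)) (tt N99433 F518428) (tt N121261 (iv7 F525440)))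
theorem Q119993 : ∀ i, i < 119993 → P i := stepQ 119992 Q119992 (allL N119992 (tt N116857 F518434) (tt N113430 (iv0 F518435)) (tt N107025 F518430) (tt N99441 (iv3 D223251)) (tt N99904 F518431) (tt N121924 (iv5 F529089)) (tt N99903 F518432) (tt N107616 F518433))
theorem Q119994 : ∀ i, i < 119994 → P i := stepQ 119993 Q119993 (allL N119993 (tt N107620 (iv1 F518440)) (tt N107619 F518441) (tt N107621 F518436) (tt N113420 F518437) (tt N121200 (iv4 F525101)) (tt N99443 F518438) (tt N117244 F518439) (tt N99442 (iv7 D223252)))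
theorem Q119995 : ∀ i, i < 119995 → P i := stepQ 119994 Q119994 (allL N119994 (tt N109387 F518447) (tt N109363 F518448) (tt N99974 F518442) (tt N99445 F518443) (tt N100171 F518444) (tt N99444 (iv5 D223253)) (tt N115093 F518445) (tt N100206 F518446))
theorem Q119996 : ∀ i, i < 119996 → P i := stepQ 119995 Q119995 (allL N119995 (tt N121277 (iv1 F525526)) (tt N116291 (iv0 F518454)) (tt N99455 F518449) (tt N115093 F518450) (tt N107489 F518451) (tt N99904 F518452) (tt N99445 (iv6 D223254)) (tt N115095 F518453))
theorem Q119997 : ∀ i, i < 119997 → P i := stepQ 119996 Q119996 (allL N119996 (tt N105213 F518460) (tt N105218 F518461) (tt N105217 F518455) (tt N99453 F518456) (tt N108254 F518457) (tt N113310 F518458) (tt N99451 (iv6 D223255)) (tt N105216 F518459))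
theorem Q119998 : ∀ i, i < 119998 → P i := stepQ 119997 Q119997 (allL N119997 (tt N99455 (iv1 D223256)) (tt N115095 F518462) (tt N116291 F518464) (tt N113873 F518465) (tt N101483 F518466) (tt N121213 (iv5 F525162)) (tt N113870 (iv6 F518463)) (tt N121277 (iv7 F525524)))
theorem Q119999 : ∀ i, i < 119999 → P i := stepQ 119998 Q119998 (allL N119998 (tt N116291 (iv1 F518472)) (tt N121277 (iv0 F525525)) (tt N115095 F518467) (tt N99986 F518468) (tt N116304 F518469) (tt N108401 F518470) (tt N107659 F518471) (tt N99455 (iv7 D223257)))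
theorem Q120000 : ∀ i, i < 120000 → P i := stepQ 119999 Q119999 (allL N119999 (tt N100266 (iv1 F518478)) (tt N99462 (iv0 D223258)) (tt N108464 (iv2 F518477)) (tt N102757 F518475) (tt N108398 F518474) (tt N106273 F518473) (tt N114033 F518476) (tt N106907 F518479))
theorem Q120001 : ∀ i, i < 120001 → P i := stepQ 120000 Q120000 (allL N120000 (tt N108153 F518484) (tt N108137 F518485) (tt N108133 F518480) (tt N99467 F518481) (tt N117857 F518482) (tt N121949 (iv5 F529242)) (tt N99466 (iv6 D223259)) (tt N108152 F518483))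
theorem Q120002 : ∀ i, i < 120002 → P i := stepQ 120001 Q120001 (allL N120001 (tt N108110 F518489) (tt N108197 F518490) (tt N108125 F518486) (tt N121949 F529245) (tt N122114 (iv4 F530255)) (tt N99467 (iv5 D223260)) (tt N119516 F518487) (tt N108189 F518488))
theorem Q120003 : ∀ i, i < 120003 → P i := stepQ 120002 Q120002 (allL N120002 (tt N108995 (iv1 F518496)) (tt N99469 (iv0 D223261)) (tt N117862 (iv2 F518495)) (tt N105446 F518493) (tt N117608 F518492) (tt N111609 F518491) (tt N117607 F518494) (tt N108128 F518497))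
theorem Q120004 : ∀ i, i < 120004 → P i := stepQ 120003 Q120003 (allL N120003 (tt N99476 (iv1 D223262)) (tt N100512 F518498) (tt N119897 (iv2 F518500)) (tt N100451 (iv3 F518501)) (tt N120161 (iv4 F519356)) (tt N121120 (iv5 F524611)) (tt N120435 F520773) (tt N110636 F518499))
theorem Q120005 : ∀ i, i < 120005 → P i := stepQ 120004 Q120004 (allL N120004 (tt N101462 F518507) (tt N113407 F518506) (tt N113408 F518502) (tt N119905 F518503) (tt N101456 F518504) (tt N99476 (iv5 D223263)) (tt N121981 (iv6 F529440)) (tt N113393 F518505))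
theorem Q120006 : ∀ i, i < 120006 → P i := stepQ 120005 Q120005 (allL N120005 (tt N111612 F518513) (tt N119303 F518514) (tt N99492 F518508) (tt N118349 F518509) (tt N99863 F518510) (tt N99491 (iv5 D223264)) (tt N110047 F518511) (tt N110490 F518512))
theorem Q120007 : ∀ i, i < 120007 → P i := stepQ 120006 Q120006 (allL N120006 (tt N99492 (iv1 D223265)) (tt N110490 F518515) (tt N119303 F518521) (tt N101928 (iv3 F518519)) (tt N117366 F518518) (tt N105150 F518517) (tt N101927 (iv6 F518520)) (tt N111612 F518516))
theorem Q120008 : ∀ i, i < 120008 → P i := stepQ 120007 Q120007 (allL N120007 (tt N100998 F518527) (tt N100439 (iv0 F518528)) (tt N113231 F518522) (tt N99517 F518523) (tt N116211 F518524) (tt N99884 F518525) (tt N99516 (iv6 D223266)) (tt N113224 F518526))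
theorem Q120009 : ∀ i, i < 120009 → P i := stepQ 120008 Q120008 (allL N120008 (tt N99520 (iv1 F518534)) (tt N99518 (iv0 D223267)) (tt N108169 (iv2 F518533)) (tt N103178 F518531) (tt N119089 F518530) (tt N105363 F518529) (tt N102318 F518532) (tt N108123 F518535))
theorem Q120010 : ∀ i, i < 120010 → P i := stepQ 120009 Q120009 (allL N120009 (tt N110033 (iv1 F518542)) (tt N118668 F518541) (tt N99524 (iv2 D223268)) (tt N106485 F518536) (tt N103121 F518537) (tt N119338 F518538) (tt N113320 F518539) (tt N118667 F518540))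
theorem Q120011 : ∀ i, i < 120011 → P i := stepQ 120010 Q120010 (allL N120010 (tt N109220 (iv1 F518547)) (tt N99527 (iv0 D223269)) (tt N115068 (iv2 F518546)) (tt N119076 F518545) (tt N112923 F518544) (tt N107134 F518543) (tt N122441 F532123) (tt N116813 F518548))
theorem Q120012 : ∀ i, i < 120012 → P i := stepQ 120011 Q120011 (allL N120011 (tt N109795 F518551) (tt N119018 (iv0 F518552)) (tt N121183 (iv2 F525000)) (tt N99529 (iv3 D223270)) (tt N121955 (iv4 F529278)) (tt N105063 F518549) (tt N119112 F518550) (tt N121182 F524993))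
theorem Q120013 : ∀ i, i < 120013 → P i := stepQ 120012 Q120012 (allL N120012 (tt N99549 (iv1 F518558)) (tt N99546 (iv0 D223271)) (tt N108077 (iv2 F518557)) (tt N109773 F518555) (tt N109404 F518554) (tt N107143 F518553) (tt N113309 F518556) (tt N108063 F518559))
theorem Q120014 : ∀ i, i < 120014 → P i := stepQ 120013 Q120013 (allL N120013 (tt N121183 (iv1 F524994)) (tt N121182 F524990) (tt N119018 F518560) (tt N99549 F518561) (tt N120431 (iv4 F520747)) (tt N99548 (iv5 D223272)) (tt N121185 (iv6 F525012)) (tt N109795 F518562))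
theorem Q120015 : ∀ i, i < 120015 → P i := stepQ 120014 Q120014 (allL N120014 (tt N120174 (iv1 F519435)) (tt N107986 (iv0 F518565)) (tt N120173 F519431) (tt N121185 (iv3 F525009)) (tt N107978 F518563) (tt N121941 (iv5 F529200)) (tt N99549 (iv6 D223273)) (tt N116727 F518564))
theorem Q120016 : ∀ i, i < 120016 → P i := stepQ 120015 Q120015 (allL N120015 (tt N106660 (iv1 F518567)) (tt N99582 (iv0 D223274)) (tt N122602 (iv2 F533103)) (tt N120225 F519691) (tt N117540 F518566) (tt N121549 (iv5 F526981)) (tt N122206 (iv6 F530771)) (tt N119850 F518568))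
theorem Q120017 : ∀ i, i < 120017 → P i := stepQ 120016 Q120016 (allL N120016 (tt N109260 F518573) (tt N109261 F518574) (tt N112675 F518569) (tt N99586 F518570) (tt N118986 F518571) (tt N99585 (iv5 D223275)) (tt N117081 F518572) (tt N120070 (iv7 F518887)))
theorem Q120018 : ∀ i, i < 120018 → P i := stepQ 120017 Q120017 (allL N120017 (tt N118153 F518581) (tt N115922 F518580) (tt N108206 F518575) (tt N99590 F518576) (tt N108115 F518579) (tt N99588 (iv5 D223276)) (tt N107132 F518577) (tt N117049 F518578))
theorem Q120019 : ∀ i, i < 120019 → P i := stepQ 120018 Q120018 (allL N120018 (tt N117468 F518587) (tt N115887 F518588) (tt N117051 F518582) (tt N107132 F518583) (tt N115884 F518584) (tt N99589 (iv5 D223277)) (tt N99590 F518585) (tt N108114 F518586))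
theorem Q120020 : ∀ i, i < 120020 → P i := stepQ 120019 Q120019 (allL N120019 (tt N109935 F518592) (tt N109507 F518591) (tt N121372 (iv2 F526007)) (tt N99594 F518589) (tt N117230 F518590) (tt N99593 (iv5 D223278)) (tt N117162 (iv6 F518593)) (tt N121353 (iv7 F525928)))
theorem Q120021 : ∀ i, i < 120021 → P i := stepQ 120020 Q120020 (allL N120020 (tt N121364 (iv1 F525980)) (tt N121379 (iv0 F526044)) (tt N120236 (iv2 F519746)) (tt N121279 (iv3 F525536)) (tt N106592 F518594) (tt N117929 F518595) (tt N99596 (iv6 D223279)) (tt N121957 (iv7 F529293)))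
theorem Q120022 : ∀ i, i < 120022 → P i := stepQ 120021 Q120021 (allL N120021 (tt N100806 F518601) (tt N105707 (iv0 F518602)) (tt N101039 F518596) (tt N109234 F518597) (tt N109069 F518598) (tt N100669 F518599) (tt N99597 (iv6 D223280)) (tt N101036 F518600))
theorem Q120023 : ∀ i, i < 120023 → P i := stepQ 120022 Q120022 (allL N120022 (tt N99614 (iv1 D223281)) (tt N107684 F518603) (tt N108467 F518608) (tt N117852 (iv3 F518607)) (tt N107676 F518606) (tt N108467 F518605) (tt N121969 F529370) (tt N108468 F518604))
theorem Q120024 : ∀ i, i < 120024 → P i := stepQ 120023 Q120023 (allL N120023 (tt N99619 (iv1 D223282)) (tt N112641 F518609) (tt N115011 F518615) (tt N108974 (iv3 F518613)) (tt N119054 F518611) (tt N111230 F518612) (tt N119053 (iv6 F518614)) (tt N115009 F518610))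
theorem Q120025 : ∀ i, i < 120025 → P i := stepQ 120024 Q120024 (allL N120024 (tt N119228 F518620) (tt N118637 F518621) (tt N118293 F518616) (tt N99621 F518617) (tt N112378 F518618) (tt N99619 (iv5 D223283)) (tt N119206 F518619) (tt N122053 (iv7 F529879)))
theorem Q120026 : ∀ i, i < 120026 → P i := stepQ 120025 Q120025 (allL N120025 (tt N108976 (iv1 F518627)) (tt N99620 (iv0 D223284)) (tt N108973 (iv2 F518626)) (tt N115009 F518624) (tt N117561 F518623) (tt N101340 F518622) (tt N117504 F518625) (tt N108974 F518628))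
theorem Q120027 : ∀ i, i < 120027 → P i := stepQ 120026 Q120026 (allL N120026 (tt N117506 F518634) (tt N117580 F518635) (tt N108975 F518629) (tt N119206 F518630) (tt N118714 F518631) (tt N99620 (iv5 D223285)) (tt N99621 F518632) (tt N117579 F518633))
theorem Q120028 : ∀ i, i < 120028 → P i := stepQ 120027 Q120027 (allL N120027 (tt N121066 (iv1 F524328)) (tt N108520 F518639) (tt N99645 F518636) (tt N108545 F518637) (tt N122098 (iv4 F530150)) (tt N99642 (iv5 D223286)) (tt N118982 F518638) (tt N121065 (iv7 F524325)))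
theorem Q120029 : ∀ i, i < 120029 → P i := stepQ 120028 Q120028 (allL N120028 (tt N120779 F522665) (tt N99720 (iv0 F518644)) (tt N119959 F518640) (tt N99643 (iv3 D223287)) (tt N110858 F518643) (tt N122477 (iv5 F532355)) (tt N103965 F518641) (tt N119960 F518642))
theorem Q120030 : ∀ i, i < 120030 → P i := stepQ 120029 Q120029 (allL N120029 (tt N107171 F518651) (tt N107901 F518650) (tt N107762 F518645) (tt N118702 F518646) (tt N99643 (iv4 D223288)) (tt N112637 F518649) (tt N103966 F518647) (tt N107903 F518648))
theorem Q120031 : ∀ i, i < 120031 → P i := stepQ 120030 Q120030 (allL N120030 (tt N115858 F518657) (tt N114869 F518656) (tt N115856 F518652) (tt N122477 (iv3 F532357)) (tt N117464 F518653) (tt N99643 (iv5 D223289)) (tt N119355 F518654) (tt N115857 F518655))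
theorem Q120032 : ∀ i, i < 120032 → P i := stepQ 120031 Q120031 (allL N120031 (tt N121065 (iv1 F524327)) (tt N99645 (iv0 D223290)) (tt N121066 (iv2 F524333)) (tt N112093 (iv3 F518661)) (tt N108624 F518659) (tt N108933 F518658) (tt N108569 F518660) (tt N108520 (iv7 F518662)))
theorem Q120033 : ∀ i, i < 120033 → P i := stepQ 120032 Q120032 (allL N120032 (tt N99645 (iv1 D223291)) (tt N121065 (iv0 F524326)) (tt N108520 F518666) (tt N122495 (iv3 F532475)) (tt N118858 F518664) (tt N108482 F518663) (tt N99667 (iv6 F518665)) (tt N121066 (iv7 F524329)))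
theorem Q120034 : ∀ i, i < 120034 → P i := stepQ 120033 Q120033 (allL N120033 (tt N99646 (iv1 D223292)) (tt N108567 F518667) (tt N108565 F518672) (tt N115548 (iv3 F518670)) (tt N108593 F518669) (tt N103225 (iv5 F518671)) (tt N115509 (iv6 F518673)) (tt N108564 F518668))
theorem Q120035 : ∀ i, i < 120035 → P i := stepQ 120034 Q120034 (allL N120034 (tt N115502 F518679) (tt N122098 (iv0 F530153)) (tt N108503 F518674) (tt N114111 F518675) (tt N115960 F518676) (tt N108494 F518677) (tt N99649 (iv6 D223293)) (tt N108505 F518678))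
theorem Q120036 : ∀ i, i < 120036 → P i := stepQ 120035 Q120035 (allL N120035 (tt N99661 (iv1 F518685)) (tt N99655 (iv0 D223294)) (tt N99658 (iv2 F518683)) (tt N99726 F518681) (tt N107530 F518680) (tt N122496 (iv5 F532483)) (tt N108652 F518682) (tt N99659 F518684))
theorem Q120037 : ∀ i, i < 120037 → P i := stepQ 120036 Q120036 (allL N120036 (tt N99659 (iv1 F518690)) (tt N99658 F518691) (tt N99661 F518686) (tt N108497 F518687) (tt N119744 F518688) (tt N122494 (iv5 F532470)) (tt N108546 F518689) (tt N99655 (iv7 D223295)))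
theorem Q120038 : ∀ i, i < 120038 → P i := stepQ 120037 Q120037 (allL N120037 (tt N116050 F518694) (tt N115970 F518695) (tt N120946 (iv2 F523626)) (tt N99664 F518692) (tt N122241 (iv4 F530961)) (tt N99657 (iv5 D223296)) (tt N99660 F518693) (tt N122483 (iv7 F532398)))
theorem Q120039 : ∀ i, i < 120039 → P i := stepQ 120038 Q120038 (allL N120038 (tt N119341 F518699) (tt N118617 F518700) (tt N122496 (iv2 F532481)) (tt N118872 F518696) (tt N122697 D225956) (tt N99658 (iv5 D223297)) (tt N108558 F518697) (tt N118870 F518698))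
theorem Q120040 : ∀ i, i < 120040 → P i := stepQ 120039 Q120039 (allL N120039 (tt N118617 F518705) (tt N119341 F518704) (tt N118870 F518701) (tt N108742 F518702) (tt N122470 (iv4 F532310)) (tt N99659 (iv5 D223298)) (tt N118869 F518703) (tt N122496 (iv7 F532485)))
theorem Q120041 : ∀ i, i < 120041 → P i := stepQ 120040 Q120040 (allL N120040 (tt N122387 F531799) (tt N121036 (iv0 F524145)) (tt N122685 (iv2 F533596)) (tt N105861 F518706) (tt N99660 (iv4 D223299)) (tt N122418 (iv5 F531990)) (tt N122241 (iv6 F530963)) (tt N120938 F523582))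
theorem Q120042 : ∀ i, i < 120042 → P i := stepQ 120041 Q120041 (allL N120041 (tt N106870 F518710) (tt N112437 (iv0 F518711)) (tt N121402 (iv2 F526162)) (tt N99663 (iv3 D223300)) (tt N122447 (iv4 F532161)) (tt N115560 F518707) (tt N115283 F518708) (tt N108509 F518709))
theorem Q120043 : ∀ i, i < 120043 → P i := stepQ 120042 Q120042 (allL N120042 (tt N108516 (iv1 F518717)) (tt N99664 (iv0 D223301)) (tt N108513 (iv2 F518714)) (tt N115567 (iv3 F518716)) (tt N120046 (iv4 F518741)) (tt N116074 F518712) (tt N111771 F518713) (tt N108514 F518715))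
theorem Q120044 : ∀ i, i < 120044 → P i := stepQ 120043 Q120043 (allL N120043 (tt N108514 (iv1 F518722)) (tt N108513 F518723) (tt N108516 F518718) (tt N122483 F532401) (tt N115498 F518719) (tt N99665 F518720) (tt N115497 F518721) (tt N99664 (iv7 D223302)))
theorem Q120045 : ∀ i, i < 120045 → P i := stepQ 120044 Q120044 (allL N120044 (tt N118877 F518728) (tt N115891 F518729) (tt N115936 F518724) (tt N114156 F518725) (tt N99677 (iv4 D223303)) (tt N101588 F518727) (tt N115811 F518726) (tt N122029 (iv7 F529735)))
theorem Q120046 : ∀ i, i < 120046 → P i := stepQ 120045 Q120045 (allL N120045 (tt N108596 F518735) (tt N115646 F518736) (tt N108616 F518730) (tt N114122 F518731) (tt N119355 F518734) (tt N99678 (iv5 D223304)) (tt N117464 F518732) (tt N108617 F518733))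
theorem Q120047 : ∀ i, i < 120047 → P i := stepQ 120046 Q120046 (allL N120046 (tt N115646 F518742) (tt N108596 F518743) (tt N108617 F518737) (tt N115703 F518738) (tt N120042 F518741) (tt N99679 (iv5 D223305)) (tt N111303 F518739) (tt N108616 F518740))
theorem Q120048 : ∀ i, i < 120048 → P i := stepQ 120047 Q120047 (allL N120047 (tt N108621 (iv1 F518748)) (tt N99680 (iv0 D223306)) (tt N108618 F518750) (tt N115708 F518746) (tt N108510 F518745) (tt N117682 F518744) (tt N119443 F518747) (tt N108619 (iv7 F518749)))
theorem Q120049 : ∀ i, i < 120049 → P i := stepQ 120048 Q120048 (allL N120048 (tt N99680 (iv1 D223307)) (tt N108621 F518751) (tt N108619 F518756) (tt N120514 (iv3 F521192)) (tt N108512 F518754) (tt N108642 F518753) (tt N117623 (iv6 F518755)) (tt N108618 F518752))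
theorem Q120050 : ∀ i, i < 120050 → P i := stepQ 120049 Q120049 (allL N120049 (tt N99693 (iv1 D223308)) (tt N108597 F518757) (tt N108595 F518762) (tt N113568 (iv3 F518759)) (tt N119327 F518763) (tt N108639 (iv5 F518761)) (tt N114179 (iv6 F518760)) (tt N108594 F518758))
theorem Q120051 : ∀ i, i < 120051 → P i := stepQ 120050 Q120050 (allL N120050 (tt N108617 (iv1 F518769)) (tt N108616 F518768) (tt N108596 F518764) (tt N115817 F518765) (tt N99693 (iv4 D223309)) (tt N108644 F518767) (tt N99695 F518766) (tt N115646 (iv7 F518770)))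
theorem Q120052 : ∀ i, i < 120052 → P i := stepQ 120051 Q120051 (allL N120051 (tt N108595 (iv1 F518776)) (tt N108594 F518777) (tt N108597 F518771) (tt N114838 F518772) (tt N115646 F518773) (tt N99694 F518774) (tt N115645 F518775) (tt N99693 (iv7 D223310)))
theorem Q120053 : ∀ i, i < 120053 → P i := stepQ 120052 Q120052 (allL N120052 (tt N112093 F518783) (tt N112253 (iv0 F518784)) (tt N112252 F518778) (tt N99723 F518779) (tt N108204 F518782) (tt N99720 (iv5 D223311)) (tt N118729 F518780) (tt N112251 F518781))
theorem Q120054 : ∀ i, i < 120054 → P i := stepQ 120053 Q120053 (allL N120053 (tt N108290 F518790) (tt N115963 F518791) (tt N108750 F518785) (tt N118838 F518786) (tt N111703 F518787) (tt N99721 (iv5 D223312)) (tt N101585 F518788) (tt N108752 F518789))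
theorem Q120055 : ∀ i, i < 120055 → P i := stepQ 120054 Q120054 (allL N120054 (tt N99723 (iv1 D223313)) (tt N108756 F518792) (tt N108754 F518797) (tt N108558 F518798) (tt N115672 F518795) (tt N100504 F518794) (tt N118872 (iv6 F518796)) (tt N108753 F518793))
theorem Q120056 : ∀ i, i < 120056 → P i := stepQ 120055 Q120055 (allL N120055 (tt N117892 (iv1 F518803)) (tt N99734 (iv0 D223314)) (tt N117918 (iv2 F518802)) (tt N107725 F518801) (tt N116617 F518800) (tt N107892 F518799) (tt N119181 (iv6 F518805)) (tt N107724 F518804))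
theorem Q120057 : ∀ i, i < 120057 → P i := stepQ 120056 Q120056 (allL N120056 (tt N116781 F518810) (tt N119589 F518811) (tt N108798 F518806) (tt N105921 F518807) (tt N99742 (iv4 D223315)) (tt N121232 (iv5 F525272)) (tt N110981 F518808) (tt N105919 F518809))
theorem Q120058 : ∀ i, i < 120058 → P i := stepQ 120057 Q120057 (allL N120057 (tt N99761 (iv1 D223316)) (tt N109122 F518812) (tt N109120 F518816) (tt N105970 (iv3 F518815)) (tt N120625 (iv4 F521823)) (tt N105965 F518814) (tt N105967 F518817) (tt N109119 F518813))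
theorem Q120059 : ∀ i, i < 120059 → P i := stepQ 120058 Q120058 (allL N120058 (tt N99780 (iv1 F518823)) (tt N99767 (iv0 D223317)) (tt N99777 (iv2 F518821)) (tt N117231 F518819) (tt N111226 F518818) (tt N122215 (iv5 F530825)) (tt N119621 F518820) (tt N99778 F518822))
theorem Q120060 : ∀ i, i < 120060 → P i := stepQ 120059 Q120059 (allL N120059 (tt N99778 (iv1 F518828)) (tt N99777 F518829) (tt N99780 F518824) (tt N114287 F518825) (tt N109175 F518826) (tt N122443 (iv5 F532135)) (tt N109137 F518827) (tt N99767 (iv7 D223318)))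
theorem Q120061 : ∀ i, i < 120061 → P i := stepQ 120060 Q120060 (allL N120060 (tt N109208 (iv1 F518834)) (tt N99771 (iv0 D223319)) (tt N99949 (iv2 F518833)) (tt N110292 F518832) (tt N107543 F518831) (tt N99948 F518830) (tt N110358 (iv6 F518836)) (tt N107542 F518835))
theorem Q120062 : ∀ i, i < 120062 → P i := stepQ 120061 Q120061 (allL N120061 (tt N105058 F518842) (tt N119594 F518841) (tt N109216 F518837) (tt N120432 (iv3 F520753)) (tt N100330 F518840) (tt N99776 (iv5 D223320)) (tt N99980 F518838) (tt N100327 F518839))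
theorem Q120063 : ∀ i, i < 120063 → P i := stepQ 120062 Q120062 (allL N120062 (tt N107260 F518847) (tt N119622 (iv0 F518848)) (tt N119621 F518843) (tt N105547 F518844) (tt N116910 F518845) (tt N121346 (iv5 F525886)) (tt N99777 (iv6 D223321)) (tt N105545 F518846))
theorem Q120064 : ∀ i, i < 120064 → P i := stepQ 120063 Q120063 (allL N120063 (tt N122443 (iv1 F532138)) (tt N99779 (iv0 D223322)) (tt N121197 (iv2 F525079)) (tt N120260 (iv3 F519868)) (tt N113502 F518849) (tt N120258 (iv5 F519859)) (tt N105679 F518850) (tt N120257 F519855))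
theorem Q120065 : ∀ i, i < 120065 → P i := stepQ 120064 Q120064 (allL N120064 (tt N99779 (iv1 D223323)) (tt N122443 F532137) (tt N120257 (iv2 F519850)) (tt N122136 (iv3 F530372)) (tt N113503 F518852) (tt N104689 F518851) (tt N104205 (iv6 F518853)) (tt N121197 (iv7 F525082)))
theorem Q120066 : ∀ i, i < 120066 → P i := stepQ 120065 Q120065 (allL N120065 (tt N120089 (iv1 F518989)) (tt N120087 (iv0 F518980)) (tt N122317 (iv2 F531377)) (tt N113384 F518854) (tt N112996 F518855) (tt N113382 F518856) (tt N99782 (iv6 D223324)) (tt N120129 (iv7 F519214)))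
theorem Q120067 : ∀ i, i < 120067 → P i := stepQ 120066 Q120066 (allL N120066 (tt N108031 F518862) (tt N116809 (iv0 F518863)) (tt N107371 F518857) (tt N107640 F518858) (tt N113861 F518859) (tt N107113 F518860) (tt N99784 (iv6 D223325)) (tt N107373 F518861))
theorem Q120068 : ∀ i, i < 120068 → P i := stepQ 120067 Q120067 (allL N120067 (tt N116571 F518869) (tt N116570 F518870) (tt N116566 F518864) (tt N99787 F518865) (tt N110712 F518866) (tt N99786 (iv5 D223326)) (tt N116555 F518867) (tt N116569 F518868))
theorem Q120069 : ∀ i, i < 120069 → P i := stepQ 120068 Q120068 (allL N120068 (tt N99824 (iv1 D223327)) (tt N99935 F518872) (tt N99942 F518877) (tt N116452 (iv3 F518875)) (tt N122511 (iv4 F532567)) (tt N109093 F518874) (tt N116156 (iv6 F518876)) (tt N99941 F518873))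
theorem Q120070 : ∀ i, i < 120070 → P i := stepQ 120069 Q120069 (allL N120069 (tt N99942 (iv1 F518882)) (tt N99941 F518883) (tt N99935 F518878) (tt N118570 F518879) (tt N112973 F518880) (tt N99825 F518881) (tt N120134 F519243) (tt N99824 (iv7 D223328)))
theorem Q120071 : ∀ i, i < 120071 → P i := stepQ 120070 Q120070 (allL N120070 (tt N119556 F518888) (tt N120802 (iv0 F522802)) (tt N117366 F518884) (tt N99837 F518885) (tt N119303 F518886) (tt N99836 (iv5 D223329)) (tt N120563 (iv6 F521472)) (tt N120016 F518887))
theorem Q120072 : ∀ i, i < 120072 → P i := stepQ 120071 Q120071 (allL N120071 (tt N108985 F518894) (tt N110993 F518895) (tt N109283 F518889) (tt N118985 F518890) (tt N99843 (iv4 D223330)) (tt N109259 F518891) (tt N116960 F518892) (tt N109284 F518893))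
theorem Q120073 : ∀ i, i < 120073 → P i := stepQ 120072 Q120072 (allL N120072 (tt N109312 F518901) (tt N121257 (iv0 F525414)) (tt N103118 F518896) (tt N119542 F518897) (tt N118667 F518898) (tt N99844 (iv5 D223331)) (tt N105975 F518899) (tt N103121 F518900))
theorem Q120074 : ∀ i, i < 120074 → P i := stepQ 120073 Q120073 (allL N120073 (tt N112975 F518905) (tt N110145 F518906) (tt N99874 F518902) (tt N100980 F518903) (tt N122267 (iv4 F531072)) (tt N99852 (iv5 D223332)) (tt N106066 F518904) (tt N121103 (iv7 F524526)))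
theorem Q120075 : ∀ i, i < 120075 → P i := stepQ 120074 Q120074 (allL N120074 (tt N109719 (iv1 F518912)) (tt N109729 F518913) (tt N109730 F518907) (tt N99875 F518908) (tt N109370 F518909) (tt N119626 F518910) (tt N99946 F518911) (tt N99873 (iv7 D223333)))
theorem Q120076 : ∀ i, i < 120076 → P i := stepQ 120075 Q120075 (allL N120075 (tt N121103 (iv1 F524528)) (tt N99874 (iv0 D223334)) (tt N112975 (iv2 F518917)) (tt N110064 F518918) (tt N112974 F518915) (tt N100573 F518914) (tt N119566 F518916) (tt N110145 F518919))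
theorem Q120077 : ∀ i, i < 120077 → P i := stepQ 120076 Q120076 (allL N120076 (tt N120090 (iv1 F518992)) (tt N120091 (iv0 F518996)) (tt N122267 (iv2 F531076)) (tt N122360 (iv3 F531628)) (tt N99874 (iv4 D223335)) (tt N110794 F518921) (tt N106214 F518920) (tt N122527 (iv7 F532657)))
theorem Q120078 : ∀ i, i < 120078 → P i := stepQ 120077 Q120077 (allL N120077 (tt N110145 (iv1 F518925)) (tt N112975 F518926) (tt N121103 (iv2 F524523)) (tt N119626 F518922) (tt N122527 (iv4 F532654)) (tt N99875 F518923) (tt N113024 F518924) (tt N99874 (iv7 D223336)))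
theorem Q120079 : ∀ i, i < 120079 → P i := stepQ 120078 Q120078 (allL N120078 (tt N121767 (iv1 F528197)) (tt N119628 F518932) (tt N100194 F518927) (tt N99883 F518928) (tt N100200 F518929) (tt N99882 (iv5 D223337)) (tt N113076 F518930) (tt N100192 F518931))
theorem Q120080 : ∀ i, i < 120080 → P i := stepQ 120079 Q120079 (allL N120079 (tt N99911 (iv1 D223338)) (tt N99923 F518933) (tt N99921 F518939) (tt N110372 (iv3 F518937)) (tt N115406 F518936) (tt N108068 F518935) (tt N117396 (iv6 F518938)) (tt N99920 F518934))
theorem Q120081 : ∀ i, i < 120081 → P i := stepQ 120080 Q120080 (allL N120080 (tt N99921 (iv1 F518945)) (tt N99920 F518946) (tt N99923 F518940) (tt N101297 F518941) (tt N113414 F518942) (tt N99912 F518943) (tt N113414 F518944) (tt N99911 (iv7 D223339)))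
theorem Q120082 : ∀ i, i < 120082 → P i := stepQ 120081 Q120081 (allL N120081 (tt N100240 F518950) (tt N100239 (iv0 F518951)) (tt N100180 F518947) (tt N99915 (iv3 D223340)) (tt N108823 F518948) (tt N121387 (iv5 F526085)) (tt N121275 F525515) (tt N100241 F518949))
theorem Q120083 : ∀ i, i < 120083 → P i := stepQ 120082 Q120082 (allL N120082 (tt N106018 F518955) (tt N106609 F518956) (tt N100247 F518952) (tt N121387 (iv3 F526084)) (tt N116838 F518953) (tt N99915 (iv5 D223341)) (tt N122698 D225957) (tt N106613 F518954))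
theorem Q120084 : ∀ i, i < 120084 → P i := stepQ 120083 Q120083 (allL N120083 (tt N116894 F518962) (tt N117395 F518963) (tt N117396 F518957) (tt N110521 F518958) (tt N116715 F518959) (tt N109938 F518960) (tt N99921 (iv6 D223342)) (tt N116714 F518961))
theorem Q120085 : ∀ i, i < 120085 → P i := stepQ 120084 Q120084 (allL N120084 (tt N99922 (iv1 D223343)) (tt N113414 F518964) (tt N122283 (iv2 F531166)) (tt N122599 (iv3 F533085)) (tt N111342 F518967) (tt N109761 F518966) (tt N122318 (iv6 F531384)) (tt N111341 F518965))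
theorem Q120086 : ∀ i, i < 120086 → P i := stepQ 120085 Q120085 (allL N120085 (tt N122283 (iv1 F531172)) (tt N111341 (iv0 F518973)) (tt N113414 F518968) (tt N99934 F518969) (tt N99923 F518970) (tt N100964 F518971) (tt N99923 F518972) (tt N99922 (iv7 D223344)))
theorem Q120087 : ∀ i, i < 120087 → P i := stepQ 120086 Q120086 (allL N120086 (tt N110097 F518977) (tt N120135 F519250) (tt N120134 (iv2 F519244)) (tt N100964 F518974) (tt N122320 (iv4 F531398)) (tt N99934 (iv5 D223345)) (tt N99935 F518975) (tt N117177 F518976))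
theorem Q120088 : ∀ i, i < 120088 → P i := stepQ 120087 Q120087 (allL N120087 (tt N120065 F518980) (tt N121825 (iv0 F528545)) (tt N122371 (iv2 F531697)) (tt N116820 F518978) (tt N99937 (iv4 D223346)) (tt N122010 (iv5 F529617)) (tt N114063 (iv6 F518981)) (tt N116819 F518979))
theorem Q120089 : ∀ i, i < 120089 → P i := stepQ 120088 Q120088 (allL N120088 (tt N106202 F518985) (tt N106201 (iv0 F518986)) (tt N122372 (iv2 F531704)) (tt N116824 F518982) (tt N114063 F518983) (tt N121258 (iv5 F525420)) (tt N99937 (iv6 D223347)) (tt N117628 F518984))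
theorem Q120090 : ∀ i, i < 120090 → P i := stepQ 120089 Q120089 (allL N120089 (tt N121825 (iv1 F528546)) (tt N120065 F518989) (tt N116819 F518987) (tt N116814 F518990) (tt N99940 (iv4 D223348)) (tt N120463 (iv5 F520914)) (tt N105335 F518988) (tt N122371 (iv7 F531700)))
theorem Q120091 : ∀ i, i < 120091 → P i := stepQ 120090 Q120090 (allL N120090 (tt N121498 F526705) (tt N120076 F518992) (tt N122604 (iv2 F533117)) (tt N109761 F518991) (tt N99941 (iv4 D223349)) (tt N122599 (iv5 F533083)) (tt N122556 (iv6 F532830)) (tt N122511 F532570))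
theorem Q120092 : ∀ i, i < 120092 → P i := stepQ 120091 Q120091 (allL N120091 (tt N120076 F518996) (tt N121498 (iv0 F526704)) (tt N122511 (iv2 F532565)) (tt N112886 F518993) (tt N99942 (iv4 D223350)) (tt N116093 F518995) (tt N112885 F518994) (tt N122604 (iv7 F533121)))
theorem Q120093 : ∀ i, i < 120093 → P i := stepQ 120092 Q120092 (allL N120092 (tt N113341 F519002) (tt N113340 (iv0 F519003)) (tt N110358 F518997) (tt N99953 F518998) (tt N113405 F518999) (tt N119011 F519000) (tt N99949 (iv6 D223351)) (tt N113274 F519001))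
theorem Q120094 : ∀ i, i < 120094 → P i := stepQ 120093 Q120093 (allL N120093 (tt N106350 F519007) (tt N120195 F519531) (tt N120165 (iv2 F519378)) (tt N101319 F519004) (tt N121384 (iv4 F526065)) (tt N105636 F519005) (tt N99952 (iv6 D223352)) (tt N105638 F519006))
theorem Q120095 : ∀ i, i < 120095 → P i := stepQ 120094 Q120094 (allL N120094 (tt N121021 (iv1 F524065)) (tt N121020 (iv0 F524057)) (tt N110172 F519008) (tt N112999 F519009) (tt N113011 F519010) (tt N119029 F519011) (tt N99958 (iv6 D223353)) (tt N120483 (iv7 F521006)))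
theorem Q120096 : ∀ i, i < 120096 → P i := stepQ 120095 Q120095 (allL N120095 (tt N113009 F519017) (tt N113008 F519018) (tt N110166 F519012) (tt N100051 F519013) (tt N99961 (iv4 D223354)) (tt N113202 F519014) (tt N100049 F519015) (tt N113010 F519016))
theorem Q120097 : ∀ i, i < 120097 → P i := stepQ 120096 Q120096 (allL N120096 (tt N113524 F519023) (tt N109995 F519024) (tt N109663 F519019) (tt N120472 (iv3 F520956)) (tt N113210 F519020) (tt N99962 (iv5 D223355)) (tt N110617 F519021) (tt N109963 F519022))
theorem Q120098 : ∀ i, i < 120098 → P i := stepQ 120097 Q120097 (allL N120097 (tt N109961 (iv1 F519027)) (tt N99965 (iv0 D223356)) (tt N109958 (iv2 F519026)) (tt N120198 (iv3 F519546)) (tt N120463 (iv4 F520913)) (tt N107565 F519025) (tt N120462 F520910) (tt N109959 F519028))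
theorem Q120099 : ∀ i, i < 120099 → P i := stepQ 120098 Q120098 (allL N120098 (tt N119111 F519032) (tt N110721 (iv0 F519033)) (tt N109953 F519029) (tt N121960 (iv3 F529310)) (tt N113340 F519030) (tt N99971 F519031) (tt N99965 (iv6 D223357)) (tt N122305 (iv7 F531307)))
theorem Q120100 : ∀ i, i < 120100 → P i := stepQ 120099 Q120099 (allL N120099 (tt N105326 F519039) (tt N122173 (iv0 F530582)) (tt N110729 F519034) (tt N99969 F519035) (tt N103165 F519036) (tt N110688 F519037) (tt N99968 (iv6 D223358)) (tt N118301 F519038))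
theorem Q120101 : ∀ i, i < 120101 → P i := stepQ 120100 Q120100 (allL N120100 (tt N119948 F519045) (tt N118776 F519046) (tt N100467 F519040) (tt N110688 F519041) (tt N119790 F519044) (tt N99969 (iv5 D223359)) (tt N119789 F519042) (tt N119853 F519043))
theorem Q120102 : ∀ i, i < 120102 → P i := stepQ 120101 Q120101 (allL N120101 (tt N109954 F519051) (tt N99971 (iv0 D223360)) (tt N109951 (iv2 F519048)) (tt N119752 (iv3 F519049)) (tt N121844 (iv4 F528653)) (tt N122309 (iv5 F531329)) (tt N119749 F519047) (tt N109952 (iv7 F519050)))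
theorem Q120103 : ∀ i, i < 120103 → P i := stepQ 120102 Q120102 (allL N120102 (tt N99971 (iv1 D223361)) (tt N109954 F519052) (tt N109952 (iv2 F519057)) (tt N105661 (iv3 F519054)) (tt N116192 (iv4 F519055)) (tt N121173 (iv5 F524936)) (tt N116191 F519056) (tt N109951 F519053))
theorem Q120104 : ∀ i, i < 120104 → P i := stepQ 120103 Q120103 (allL N120103 (tt N109952 (iv1 F519061)) (tt N109951 F519062) (tt N109954 F519058) (tt N121920 (iv3 F529063)) (tt N113194 F519059) (tt N122305 (iv5 F531305)) (tt N100483 F519060) (tt N99971 (iv7 D223362)))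
theorem Q120105 : ∀ i, i < 120105 → P i := stepQ 120104 Q120104 (allL N120104 (tt N99986 F519067) (tt N99975 (iv0 D223363)) (tt N99983 (iv2 F519065)) (tt N113846 F519064) (tt N120883 (iv4 F523270)) (tt N117097 F519063) (tt N121028 (iv6 F524098)) (tt N99984 (iv7 F519066)))
theorem Q120106 : ∀ i, i < 120106 → P i := stepQ 120105 Q120105 (allL N120105 (tt N99975 (iv1 D223364)) (tt N99986 F519068) (tt N99984 F519073) (tt N100632 (iv3 F519070)) (tt N120886 (iv4 F523287)) (tt N118511 (iv5 F519071)) (tt N113411 (iv6 F519072)) (tt N99983 F519069))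
theorem Q120107 : ∀ i, i < 120107 → P i := stepQ 120106 Q120106 (allL N120106 (tt N99984 (iv1 F519079)) (tt N99983 F519080) (tt N99986 F519074) (tt N109756 F519075) (tt N104592 F519076) (tt N116446 F519077) (tt N100609 F519078) (tt N99975 (iv7 D223365)))
theorem Q120108 : ∀ i, i < 120108 → P i := stepQ 120107 Q120107 (allL N120107 (tt N120870 F523192) (tt N107088 F519085) (tt N119655 F519081) (tt N99982 F519082) (tt N116880 F519083) (tt N120928 (iv5 F523533)) (tt N99981 (iv6 D223366)) (tt N116877 F519084))
theorem Q120109 : ∀ i, i < 120109 → P i := stepQ 120108 Q120108 (allL N120108 (tt N103843 F519088) (tt N119511 F519090) (tt N120883 (iv2 F523269)) (tt N109184 F519086) (tt N99983 (iv4 D223367)) (tt N109183 F519089) (tt N103503 F519087) (tt N120886 (iv7 F523291)))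
theorem Q120110 : ∀ i, i < 120110 → P i := stepQ 120109 Q120109 (allL N120109 (tt N119511 F519093) (tt N103843 F519094) (tt N120886 F523288) (tt N103857 F519091) (tt N99984 (iv4 D223368)) (tt N121413 (iv5 F526222)) (tt N113535 F519092) (tt N120883 (iv7 F523273)))
theorem Q120111 : ∀ i, i < 120111 → P i := stepQ 120110 Q120110 (allL N120110 (tt N109206 F519100) (tt N109205 F519101) (tt N117384 F519095) (tt N113718 F519096) (tt N112664 F519099) (tt N99990 (iv5 D223369)) (tt N117336 F519097) (tt N113542 F519098))
theorem Q120112 : ∀ i, i < 120112 → P i := stepQ 120111 Q120111 (allL N120111 (tt N117743 F519106) (tt N106896 F519107) (tt N109368 F519102) (tt N113159 F519103) (tt N99994 (iv4 D223370)) (tt N113342 F519104) (tt N121331 F525813) (tt N114954 F519105))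
theorem Q120113 : ∀ i, i < 120113 → P i := stepQ 120112 Q120112 (allL N120112 (tt N101631 (iv1 F519112)) (tt N99999 (iv0 D223371)) (tt N108394 (iv2 F519113)) (tt N106433 F519109) (tt N109320 F519108) (tt N119549 F519110) (tt N106432 F519111) (tt N108395 (iv7 F519114)))
theorem Q120114 : ∀ i, i < 120114 → P i := stepQ 120113 Q120113 (allL N120113 (tt N99999 (iv1 D223372)) (tt N101631 F519115) (tt N108395 (iv2 F519120)) (tt N106476 (iv3 F519118)) (tt N117234 F519117) (tt N121161 (iv5 F524864)) (tt N114036 F519119) (tt N108394 F519116))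
theorem Q120115 : ∀ i, i < 120115 → P i := stepQ 120114 Q120114 (allL N120114 (tt N109110 (iv1 F519124)) (tt N100009 (iv0 D223373)) (tt N109114 (iv2 F519125)) (tt N121925 (iv3 F529097)) (tt N118647 F519122) (tt N119601 F519121) (tt N100812 F519123) (tt N109113 (iv7 F519126)))
theorem Q120116 : ∀ i, i < 120116 → P i := stepQ 120115 Q120115 (allL N120115 (tt N100009 (iv1 D223374)) (tt N109110 F519127) (tt N109113 F519133) (tt N105094 (iv3 F519130)) (tt N113032 F519129) (tt N116780 (iv5 F519132)) (tt N105092 (iv6 F519131)) (tt N109114 F519128))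
theorem Q120117 : ∀ i, i < 120117 → P i := stepQ 120116 Q120116 (allL N120116 (tt N110119 F519136) (tt N110120 F519137) (tt N122654 (iv2 F533415)) (tt N100032 F519134) (tt N122226 (iv4 F530883)) (tt N100031 (iv5 D223375)) (tt N121311 (iv6 F525695)) (tt N109577 F519135))
theorem Q120118 : ∀ i, i < 120118 → P i := stepQ 120117 Q120117 (allL N120117 (tt N121684 F527732) (tt N108436 F519142) (tt N100059 F519138) (tt N106836 F519139) (tt N100089 F519141) (tt N100036 (iv5 D223376)) (tt N106835 F519140) (tt N100087 (iv7 F519143)))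
theorem Q120119 : ∀ i, i < 120119 → P i := stepQ 120118 Q120118 (allL N120118 (tt N100057 (iv1 F519148)) (tt N100056 F519149) (tt N100060 F519144) (tt N117099 F519145) (tt N100037 F519146) (tt N100087 F519147) (tt N121825 (iv6 F528544)) (tt N100036 (iv7 D223377)))
theorem Q120120 : ∀ i, i < 120120 → P i := stepQ 120119 Q120119 (allL N120119 (tt N108436 F519152) (tt N121684 (iv0 F527731)) (tt N100087 F519150) (tt N120524 F521249) (tt N100041 (iv4 D223378)) (tt N100060 F519151) (tt N120167 F519393) (tt N100059 F519153))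
theorem Q120121 : ∀ i, i < 120121 → P i := stepQ 120120 Q120120 (allL N120120 (tt N100086 (iv1 F519159)) (tt N100085 F519160) (tt N100089 F519154) (tt N119854 F519155) (tt N100059 F519156) (tt N100042 F519157) (tt N108342 F519158) (tt N100041 (iv7 D223379)))
theorem Q120122 : ∀ i, i < 120122 → P i := stepQ 120121 Q120121 (allL N120121 (tt N100106 (iv1 F519165)) (tt N100043 (iv0 D223380)) (tt N100105 (iv2 F519164)) (tt N108710 F519163) (tt N106638 F519162) (tt N118579 F519161) (tt N108709 (iv6 F519167)) (tt N100104 F519166))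
theorem Q120123 : ∀ i, i < 120123 → P i := stepQ 120122 Q120122 (allL N120122 (tt N100114 (iv1 F519172)) (tt N100048 (iv0 D223381)) (tt N100112 (iv2 F519170)) (tt N121734 (iv3 F528026)) (tt N121315 (iv4 F525717)) (tt N117831 F519168) (tt N113280 F519169) (tt N100113 F519171))
theorem Q120124 : ∀ i, i < 120124 → P i := stepQ 120123 Q120123 (allL N120123 (tt N100113 (iv1 F519177)) (tt N100112 F519178) (tt N100114 F519173) (tt N120145 (iv3 F519283)) (tt N108818 F519174) (tt N117873 F519175) (tt N110579 F519176) (tt N100048 (iv7 D223382)))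
theorem Q120125 : ∀ i, i < 120125 → P i := stepQ 120124 Q120124 (allL N120124 (tt N100050 (iv1 D223383)) (tt N100052 F519179) (tt N120131 (iv2 F519223)) (tt N113828 (iv3 F519181)) (tt N110095 F519180) (tt N102751 F519182) (tt N121250 (iv6 F525371)) (tt N120130 (iv7 F519219)))
theorem Q120126 : ∀ i, i < 120126 → P i := stepQ 120125 Q120125 (allL N120125 (tt N110170 F519187) (tt N110169 (iv0 F519188)) (tt N106506 F519183) (tt N100050 (iv3 D223384)) (tt N113974 F519184) (tt N117603 F519189) (tt N110173 F519185) (tt N110073 F519186))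
theorem Q120127 : ∀ i, i < 120127 → P i := stepQ 120126 Q120126 (allL N120126 (tt N110114 F519195) (tt N110102 F519196) (tt N117321 F519190) (tt N117603 F519191) (tt N100086 F519192) (tt N100050 (iv5 D223385)) (tt N117315 F519193) (tt N111000 F519194))
theorem Q120128 : ∀ i, i < 120128 → P i := stepQ 120127 Q120127 (allL N120127 (tt N113024 (iv1 F519202)) (tt N107376 F519203) (tt N112898 F519197) (tt N113010 F519198) (tt N110171 F519199) (tt N113205 F519200) (tt N106497 F519201) (tt N100051 (iv7 D223386)))
theorem Q120129 : ∀ i, i < 120129 → P i := stepQ 120128 Q120128 (allL N120128 (tt N112757 F519210) (tt N106035 F519211) (tt N107569 F519205) (tt N106181 F519206) (tt N100079 F519207) (tt N100057 (iv5 D223387)) (tt N106180 F519208) (tt N106550 F519209))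
theorem Q120130 : ∀ i, i < 120130 → P i := stepQ 120129 Q120129 (allL N120129 (tt N122371 (iv1 F531702)) (tt N116819 (iv0 F519215)) (tt N121825 (iv2 F528541)) (tt N100890 F519212) (tt N100061 F519213) (tt N121536 (iv5 F526916)) (tt N100060 (iv6 D223388)) (tt N120065 F519214))
theorem Q120131 : ∀ i, i < 120131 → P i := stepQ 120130 Q120130 (allL N120130 (tt N112754 F519221) (tt N112755 F519222) (tt N117058 F519216) (tt N113066 F519217) (tt N100063 (iv4 D223389)) (tt N117185 F519220) (tt N114697 F519218) (tt N120124 F519219))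
theorem Q120132 : ∀ i, i < 120132 → P i := stepQ 120131 Q120131 (allL N120131 (tt N112755 F519227) (tt N112754 F519228) (tt N120124 F519223) (tt N122351 (iv3 F531574)) (tt N100064 (iv4 D223390)) (tt N106978 F519226) (tt N106980 F519224) (tt N117058 F519225))
theorem Q120133 : ∀ i, i < 120133 → P i := stepQ 120132 Q120132 (allL N120132 (tt N108424 F519232) (tt N108425 (iv0 F519233)) (tt N117187 (iv2 F519234)) (tt N100065 (iv3 D223391)) (tt N109555 F519229) (tt N108090 F519230) (tt N121689 (iv6 F527760)) (tt N108437 F519231))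
theorem Q120134 : ∀ i, i < 120134 → P i := stepQ 120133 Q120133 (allL N120133 (tt N107363 F519239) (tt N107377 F519240) (tt N107375 F519235) (tt N121689 (iv3 F527758)) (tt N100066 F519236) (tt N119953 F519237) (tt N100065 (iv6 D223392)) (tt N107374 F519238))
theorem Q120135 : ∀ i, i < 120135 → P i := stepQ 120134 Q120134 (allL N120134 (tt N100066 (iv1 D223393)) (tt N121414 (iv0 F526231)) (tt N120086 F519244) (tt N112946 F519245) (tt N121913 (iv4 F529029)) (tt N106624 F519242) (tt N120069 (iv6 F519243)) (tt N106213 F519241))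
theorem Q120136 : ∀ i, i < 120136 → P i := stepQ 120135 Q120135 (allL N120135 (tt N120086 (iv1 F519250)) (tt N106213 F519251) (tt N121414 (iv2 F526226)) (tt N116822 F519246) (tt N107374 F519247) (tt N117141 F519248) (tt N106557 F519249) (tt N100066 (iv7 D223394)))
theorem Q120137 : ∀ i, i < 120137 → P i := stepQ 120136 Q120136 (allL N120136 (tt N110107 F519256) (tt N110106 F519257) (tt N108326 F519252) (tt N117184 F519253) (tt N117185 F519254) (tt N100069 (iv5 D223395)) (tt N119316 F519258) (tt N117925 F519255))
theorem Q120138 : ∀ i, i < 120138 → P i := stepQ 120137 Q120137 (allL N120137 (tt N106318 F519263) (tt N106070 (iv0 F519264)) (tt N106957 F519259) (tt N119952 F519260) (tt N106833 F519261) (tt N108038 F519262) (tt N100070 (iv6 D223396)) (tt N106958 F519265))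
theorem Q120139 : ∀ i, i < 120139 → P i := stepQ 120138 Q120138 (allL N120138 (tt N121905 F528989) (tt N120735 (iv0 F522425)) (tt N122622 (iv2 F533226)) (tt N100094 F519266) (tt N117775 F519267) (tt N122262 (iv5 F531050)) (tt N100092 (iv6 D223397)) (tt N121735 (iv7 F528032)))
theorem Q120140 : ∀ i, i < 120140 → P i := stepQ 120139 Q120139 (allL N120139 (tt N122548 (iv1 F532782)) (tt N108581 F519271) (tt N122623 (iv2 F533229)) (tt N100095 F519268) (tt N117174 F519270) (tt N100093 (iv5 D223398)) (tt N122262 (iv6 F531049)) (tt N119368 F519269))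
theorem Q120141 : ∀ i, i < 120141 → P i := stepQ 120140 Q120140 (allL N120140 (tt N121908 (iv1 F529003)) (tt N100094 (iv0 D223399)) (tt N121906 F528992) (tt N121888 (iv3 F528918)) (tt N108769 F519273) (tt N112961 F519272) (tt N108768 F519274) (tt N121888 (iv7 F528920)))
theorem Q120142 : ∀ i, i < 120142 → P i := stepQ 120141 Q120141 (allL N120141 (tt N100094 (iv1 D223400)) (tt N121908 F529002) (tt N121888 (iv2 F528917)) (tt N121900 (iv3 F528969)) (tt N109586 F519275) (tt N122699 D225958) (tt N121898 (iv6 F528966)) (tt N121906 (iv7 F528993)))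
theorem Q120143 : ∀ i, i < 120143 → P i := stepQ 120142 Q120142 (allL N120142 (tt N122700 D225959) (tt N118572 (iv0 F519277)) (tt N121907 (iv2 F528995)) (tt N122262 F531051) (tt N122436 (iv4 F532093)) (tt N100094 (iv5 D223401)) (tt N100095 F519276) (tt N122701 D225960))
theorem Q120144 : ∀ i, i < 120144 → P i := stepQ 120143 Q120143 (allL N120143 (tt N121888 (iv1 F528922)) (tt N121906 F528994) (tt N121908 (iv2 F528998)) (tt N121735 (iv3 F528031)) (tt N120152 (iv4 F519325)) (tt N122701 (iv5 F533698)) (tt N109587 F519278) (tt N100094 (iv7 D223402)))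
theorem Q120145 : ∀ i, i < 120145 → P i := stepQ 120144 Q120144 (allL N120144 (tt N121569 (iv1 F527085)) (tt N121555 (iv0 F527023)) (tt N121568 F527078) (tt N105920 F519279) (tt N100095 (iv4 D223403)) (tt N105919 F519280) (tt N122436 (iv6 F532091)) (tt N121232 (iv7 F525274)))
theorem Q120146 : ∀ i, i < 120146 → P i := stepQ 120145 Q120145 (allL N120145 (tt N110579 (iv1 F519284)) (tt N100097 (iv0 D223404)) (tt N110577 (iv2 F519285)) (tt N120123 F519283) (tt N108828 F519282) (tt N102746 F519281) (tt N120147 (iv6 F519297)) (tt N110578 (iv7 F519286)))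
theorem Q120147 : ∀ i, i < 120147 → P i := stepQ 120146 Q120146 (allL N120146 (tt N100097 (iv1 D223405)) (tt N110579 F519287) (tt N110578 F519293) (tt N117839 (iv3 F519290)) (tt N108827 F519289) (tt N102745 (iv5 F519291)) (tt N108826 (iv6 F519292)) (tt N110577 F519288))
theorem Q120148 : ∀ i, i < 120148 → P i := stepQ 120147 Q120147 (allL N120147 (tt N117450 F519299) (tt N117452 F519300) (tt N100100 F519294) (tt N110579 F519295) (tt N107496 F519296) (tt N100099 (iv5 D223406)) (tt N120145 F519297) (tt N110576 F519298))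
theorem Q120149 : ∀ i, i < 120149 → P i := stepQ 120148 Q120148 (allL N120148 (tt N117456 F519305) (tt N100110 F519306) (tt N121810 (iv2 F528456)) (tt N109573 F519301) (tt N118580 F519304) (tt N100104 (iv5 D223407)) (tt N109572 F519302) (tt N118579 F519303))
theorem Q120150 : ∀ i, i < 120150 → P i := stepQ 120149 Q120149 (allL N120149 (tt N100110 F519309) (tt N117456 F519310) (tt N118579 F519307) (tt N121310 (iv3 F525688)) (tt N106456 F519308) (tt N100105 (iv5 D223408)) (tt N106455 (iv6 F519311)) (tt N121810 (iv7 F528452)))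
theorem Q120151 : ∀ i, i < 120151 → P i := stepQ 120150 Q120150 (allL N120150 (tt N110580 F519317) (tt N116199 F519318) (tt N108709 F519312) (tt N118680 F519313) (tt N110999 F519314) (tt N110513 F519315) (tt N100105 (iv6 D223409)) (tt N116197 F519316))
theorem Q120152 : ∀ i, i < 120152 → P i := stepQ 120151 Q120151 (allL N120151 (tt N100109 (iv1 D223410)) (tt N121811 F528462) (tt N116684 F519323) (tt N119723 (iv3 F519321)) (tt N120156 F519338) (tt N116683 F519320) (tt N109579 (iv6 F519322)) (tt N108762 F519319))
theorem Q120153 : ∀ i, i < 120153 → P i := stepQ 120152 Q120152 (allL N120152 (tt N116684 (iv1 F519327)) (tt N108762 F519328) (tt N121811 (iv2 F528458)) (tt N108761 F519324) (tt N120143 F519325) (tt N110461 F519326) (tt N121817 (iv6 F528492)) (tt N100109 (iv7 D223411)))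
theorem Q120154 : ∀ i, i < 120154 → P i := stepQ 120153 Q120153 (allL N120153 (tt N121810 (iv1 F528451)) (tt N118579 F519332) (tt N100110 (iv2 D223412)) (tt N116686 F519329) (tt N120733 (iv4 F522412)) (tt N108823 F519330) (tt N121741 F528052) (tt N117456 F519331))
theorem Q120155 : ∀ i, i < 120155 → P i := stepQ 120154 Q120154 (allL N120154 (tt N118581 F519335) (tt N121742 F528056) (tt N121741 (iv2 F528053)) (tt N100111 F519333) (tt N118548 F519334) (tt N122261 (iv5 F531046)) (tt N100110 (iv6 D223413)) (tt N121740 F528050))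
theorem Q120156 : ∀ i, i < 120156 → P i := stepQ 120155 Q120155 (allL N120155 (tt N121817 (iv1 F528494)) (tt N100111 (iv0 D223414)) (tt N121736 (iv2 F528034)) (tt N122551 (iv3 F532796)) (tt N116843 F519336) (tt N122702 D225961) (tt N117838 F519337) (tt N121816 (iv7 F528484)))
theorem Q120157 : ∀ i, i < 120157 → P i := stepQ 120156 Q120156 (allL N120156 (tt N100111 (iv1 D223415)) (tt N121817 F528493) (tt N121816 (iv2 F528487)) (tt N109585 F519340) (tt N120151 (iv4 F519338)) (tt N122554 (iv5 F532816)) (tt N109584 (iv6 F519339)) (tt N121736 (iv7 F528036)))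
theorem Q120158 : ∀ i, i < 120158 → P i := stepQ 120157 Q120157 (allL N120157 (tt N122703 D225962) (tt N118536 (iv0 F519342)) (tt N121567 (iv2 F527071)) (tt N122261 (iv3 F531048)) (tt N122442 (iv4 F532129)) (tt N100111 (iv5 D223416)) (tt N108825 F519341) (tt N122704 D225963))
theorem Q120159 : ∀ i, i < 120159 → P i := stepQ 120158 Q120158 (allL N120158 (tt N121816 (iv1 F528483)) (tt N121736 F528038) (tt N121817 (iv2 F528489)) (tt N121740 (iv3 F528051)) (tt N118540 F519343) (tt N122704 (iv5 F533715)) (tt N121811 (iv6 F528461)) (tt N100111 (iv7 D223417)))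
theorem Q120160 : ∀ i, i < 120160 → P i := stepQ 120159 Q120159 (allL N120159 (tt N109572 F519347) (tt N121307 (iv0 F525672)) (tt N117775 F519344) (tt N100113 (iv3 D223418)) (tt N122622 (iv4 F533227)) (tt N110084 F519345) (tt N118546 F519346) (tt N121734 (iv7 F528028)))
theorem Q120161 : ∀ i, i < 120161 → P i := stepQ 120160 Q120160 (allL N120160 (tt N121632 (iv1 F527445)) (tt N108990 (iv0 F519352)) (tt N117075 F519348) (tt N100115 (iv3 D223419)) (tt N110529 F519349) (tt N106966 F519350) (tt N121032 (iv6 F524123)) (tt N110582 F519351))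
theorem Q120162 : ∀ i, i < 120162 → P i := stepQ 120161 Q120161 (allL N120161 (tt N100129 (iv1 D223420)) (tt N103163 F519353) (tt N103161 F519358) (tt N117542 (iv3 F519357)) (tt N120003 F519356) (tt N107732 F519355) (tt N120378 (iv6 F520465)) (tt N103162 F519354))
theorem Q120163 : ∀ i, i < 120163 → P i := stepQ 120162 Q120162 (allL N120162 (tt N103172 (iv1 F519363)) (tt N100130 (iv0 D223421)) (tt N103171 (iv2 F519362)) (tt N117547 F519361) (tt N113226 F519360) (tt N118750 F519359) (tt N120441 (iv6 F520800)) (tt N103170 F519364))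
theorem Q120164 : ∀ i, i < 120164 → P i := stepQ 120163 Q120163 (allL N120163 (tt N110193 (iv1 F519369)) (tt N100132 (iv0 D223422)) (tt N110192 (iv2 F519368)) (tt N105375 F519366) (tt N110041 F519365) (tt N120413 (iv5 F520648)) (tt N110197 F519367) (tt N105372 F519370))
theorem Q120165 : ∀ i, i < 120165 → P i := stepQ 120164 Q120164 (allL N120164 (tt N114308 F519376) (tt N114594 (iv0 F519377)) (tt N109680 F519371) (tt N109726 F519372) (tt N118445 F519373) (tt N109725 F519374) (tt N100163 (iv6 D223423)) (tt N109716 F519375))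
theorem Q120166 : ∀ i, i < 120166 → P i := stepQ 120165 Q120165 (allL N120165 (tt N106648 F519383) (tt N121166 F524897) (tt N120093 F519378) (tt N100174 F519379) (tt N106652 F519380) (tt N100173 (iv5 D223424)) (tt N100428 F519381) (tt N100274 F519382))
theorem Q120167 : ∀ i, i < 120167 → P i := stepQ 120166 Q120166 (allL N120166 (tt N113084 F519388) (tt N107998 (iv0 F519389)) (tt N100245 F519384) (tt N122364 (iv3 F531653)) (tt N100179 F519385) (tt N116441 F519386) (tt N100178 (iv6 D223425)) (tt N119227 F519387))
theorem Q120168 : ∀ i, i < 120168 → P i := stepQ 120167 Q120167 (allL N120167 (tt N100180 (iv1 D223426)) (tt N100241 F519390) (tt N100239 F519394) (tt N122052 (iv3 F529868)) (tt N102735 F519392) (tt N120187 (iv5 F519499)) (tt N120119 (iv6 F519393)) (tt N100240 F519391))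
theorem Q120169 : ∀ i, i < 120169 → P i := stepQ 120168 Q120168 (allL N120168 (tt N116520 F519398) (tt N116193 (iv0 F519399)) (tt N116534 F519395) (tt N100187 (iv3 D223427)) (tt N121355 (iv4 F525939)) (tt N109635 F519396) (tt N121956 (iv6 F529285)) (tt N100271 F519397))
theorem Q120170 : ∀ i, i < 120170 → P i := stepQ 120169 Q120169 (allL N120169 (tt N109711 (iv1 F519403)) (tt N100191 (iv0 D223428)) (tt N108415 (iv2 F519404)) (tt N101274 F519402) (tt N113605 F519401) (tt N108414 F519400) (tt N110176 (iv6 F519405)) (tt N109709 (iv7 F519406)))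
theorem Q120171 : ∀ i, i < 120171 → P i := stepQ 120170 Q120170 (allL N120170 (tt N100191 (iv1 D223429)) (tt N109711 F519407) (tt N109709 F519412) (tt N108384 (iv3 F519410)) (tt N113964 F519409) (tt N108383 (iv5 F519411)) (tt N121131 (iv6 F524677)) (tt N108415 F519408))
theorem Q120172 : ∀ i, i < 120172 → P i := stepQ 120171 Q120171 (allL N120171 (tt N120356 (iv1 F520348)) (tt N117725 F519417) (tt N109710 F519413) (tt N114063 F519414) (tt N100191 (iv4 D223430)) (tt N106545 F519416) (tt N116820 F519415) (tt N121889 (iv7 F528927)))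
theorem Q120173 : ∀ i, i < 120173 → P i := stepQ 120172 Q120172 (allL N120172 (tt N100245 F519423) (tt N119227 (iv0 F519424)) (tt N107998 F519418) (tt N107775 F519419) (tt N100214 F519420) (tt N107995 F519421) (tt N100192 (iv6 D223431)) (tt N113084 F519422))
theorem Q120174 : ∀ i, i < 120174 → P i := stepQ 120173 Q120173 (allL N120173 (tt N100210 (iv1 D223432)) (tt N107611 (iv0 F519430)) (tt N120014 (iv2 F519431)) (tt N114775 (iv3 F519428)) (tt N107456 (iv4 F519427)) (tt N117229 F519426) (tt N108370 F519429) (tt N117059 F519425))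
theorem Q120175 : ∀ i, i < 120175 → P i := stepQ 120174 Q120174 (allL N120174 (tt N117059 (iv1 F519436)) (tt N120014 F519435) (tt N100210 (iv2 D223433)) (tt N111147 F519432) (tt N107615 F519433) (tt N122698 (iv5 F533679)) (tt N121260 (iv6 F525432)) (tt N107611 F519434))
theorem Q120176 : ∀ i, i < 120176 → P i := stepQ 120175 Q120175 (allL N120175 (tt N120233 F519736) (tt N121635 (iv0 F527464)) (tt N122698 (iv2 F533676)) (tt N100211 F519437) (tt N113461 F519440) (tt N100210 (iv5 D223434)) (tt N100247 F519438) (tt N111203 F519439))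
theorem Q120177 : ∀ i, i < 120177 → P i := stepQ 120176 Q120176 (allL N120176 (tt N116722 (iv1 F519445)) (tt N100216 (iv0 D223435)) (tt N116742 (iv2 F519444)) (tt N110491 F519442) (tt N114886 F519441) (tt N120233 (iv5 F519734)) (tt N119688 F519443) (tt N107657 F519446))
theorem Q120178 : ∀ i, i < 120178 → P i := stepQ 120177 Q120177 (allL N120177 (tt N116742 (iv1 F519452)) (tt N107657 F519451) (tt N100216 (iv2 D223436)) (tt N109391 F519447) (tt N116895 F519448) (tt N121946 (iv5 F529230)) (tt N114498 F519449) (tt N116722 F519450))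
theorem Q120179 : ∀ i, i < 120179 → P i := stepQ 120178 Q120178 (allL N120178 (tt N120889 (iv1 F523310)) (tt N113409 F519455) (tt N121779 (iv2 F528268)) (tt N100220 F519453) (tt N121865 (iv4 F528786)) (tt N100219 (iv5 D223437)) (tt N121864 (iv6 F528784)) (tt N113174 F519454))
theorem Q120180 : ∀ i, i < 120180 → P i := stepQ 120179 Q120179 (allL N120179 (tt N116528 F519460) (tt N114261 (iv0 F519461)) (tt N116529 F519456) (tt N100223 F519457) (tt N100471 F519458) (tt N100222 (iv5 D223438)) (tt N116526 (iv6 F519462)) (tt N116518 F519459))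
theorem Q120181 : ∀ i, i < 120181 → P i := stepQ 120180 Q120180 (allL N120180 (tt N117374 F519467) (tt N120274 (iv0 F519962)) (tt N121822 (iv2 F528527)) (tt N116526 F519463) (tt N100256 F519464) (tt N116709 F519465) (tt N100223 (iv6 D223439)) (tt N113169 F519466))
theorem Q120182 : ∀ i, i < 120182 → P i := stepQ 120181 Q120181 (allL N120181 (tt N121171 (iv1 F524924)) (tt N121170 F524920) (tt N120424 (iv2 F520706)) (tt N101504 F519468) (tt N100224 (iv4 D223440)) (tt N110636 F519469) (tt N101503 F519470) (tt N121120 (iv7 F524612)))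
theorem Q120183 : ∀ i, i < 120183 → P i := stepQ 120182 Q120182 (allL N120182 (tt N120183 (iv1 F519481)) (tt N106864 F519476) (tt N106493 F519471) (tt N113730 F519472) (tt N100368 F519473) (tt N100230 (iv5 D223441)) (tt N112883 F519474) (tt N106491 F519475))
theorem Q120184 : ∀ i, i < 120184 → P i := stepQ 120183 Q120183 (allL N120183 (tt N112736 F519480) (tt N120182 F519481) (tt N108429 F519477) (tt N120292 (iv3 F520065)) (tt N108387 F519478) (tt N100238 (iv5 D223442)) (tt N120301 (iv6 F520106)) (tt N108433 F519479))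
theorem Q120185 : ∀ i, i < 120185 → P i := stepQ 120184 Q120184 (allL N120184 (tt N111336 F519486) (tt N116432 F519487) (tt N117219 F519482) (tt N101308 F519483) (tt N110827 F519484) (tt N100240 (iv5 D223443)) (tt N101306 F519485) (tt N120187 (iv7 F519498)))
theorem Q120186 : ∀ i, i < 120186 → P i := stepQ 120185 Q120185 (allL N120185 (tt N116794 F519491) (tt N115045 F519492) (tt N122414 (iv2 F531962)) (tt N100243 F519488) (tt N100477 F519489) (tt N114404 F519490) (tt N100242 (iv6 D223444)) (tt N122432 (iv7 F532064)))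
theorem Q120187 : ∀ i, i < 120187 → P i := stepQ 120186 Q120186 (allL N120186 (tt N121190 (iv1 F525040)) (tt N100244 (iv0 D223445)) (tt N121191 (iv2 F525046)) (tt N111177 F519495) (tt N110550 F519494) (tt N113528 F519493) (tt N121189 (iv6 F525037)) (tt N109778 (iv7 F519496)))
theorem Q120188 : ∀ i, i < 120188 → P i := stepQ 120187 Q120187 (allL N120187 (tt N100252 (iv1 D223446)) (tt N119779 F519497) (tt N106584 F519501) (tt N120420 (iv3 F520685)) (tt N109992 (iv4 F519500)) (tt N120167 F519499) (tt N121536 (iv6 F526914)) (tt N120184 F519498))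
theorem Q120189 : ∀ i, i < 120189 → P i := stepQ 120188 Q120188 (allL N120188 (tt N121931 F529139) (tt N106596 (iv0 F519505)) (tt N121726 (iv2 F527978)) (tt N100260 F519502) (tt N107459 F519503) (tt N106536 F519504) (tt N100259 (iv6 D223447)) (tt N121766 (iv7 F528188)))
theorem Q120190 : ∀ i, i < 120190 → P i := stepQ 120189 Q120189 (allL N120189 (tt N122050 (iv1 F529860)) (tt N119782 F519509) (tt N100263 F519506) (tt N117083 F519507) (tt N121361 (iv4 F525962)) (tt N100262 (iv5 D223448)) (tt N121934 (iv6 F529154)) (tt N117276 F519508))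
theorem Q120191 : ∀ i, i < 120191 → P i := stepQ 120190 Q120190 (allL N120190 (tt N100263 (iv1 D223449)) (tt N117276 F519510) (tt N119782 F519513) (tt N116118 (iv3 F519512)) (tt N119814 (iv4 F519515)) (tt N117475 F519511) (tt N116117 F519514) (tt N122050 (iv7 F529858)))
theorem Q120192 : ∀ i, i < 120192 → P i := stepQ 120191 Q120191 (allL N120191 (tt N121239 (iv1 F525314)) (tt N121360 (iv0 F525960)) (tt N121361 F525963) (tt N121865 (iv3 F528785)) (tt N100263 (iv4 D223450)) (tt N117162 F519516) (tt N112689 (iv6 F519517)) (tt N121362 (iv7 F525966)))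
theorem Q120193 : ∀ i, i < 120193 → P i := stepQ 120192 Q120192 (allL N120192 (tt N120477 F520980) (tt N120476 (iv0 F520976)) (tt N121934 (iv2 F529152)) (tt N100265 F519518) (tt N112689 F519519) (tt N121474 (iv5 F526572)) (tt N100263 (iv6 D223451)) (tt N121509 (iv7 F526764)))
theorem Q120194 : ∀ i, i < 120194 → P i := stepQ 120193 Q120193 (allL N120193 (tt N100265 (iv1 D223452)) (tt N113170 F519520) (tt N112565 F519524) (tt N109502 (iv3 F519522)) (tt N120274 (iv4 F519960)) (tt N118455 F519521) (tt N101093 (iv6 F519523)) (tt N121452 (iv7 F526457)))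
theorem Q120195 : ∀ i, i < 120195 → P i := stepQ 120194 Q120194 (allL N120194 (tt N100272 (iv1 D223453)) (tt N111207 F519525) (tt N111206 (iv2 F519529)) (tt N121224 F525229) (tt N111205 F519528) (tt N113229 F519527) (tt N121506 (iv6 F526742)) (tt N111205 F519526))
theorem Q120196 : ∀ i, i < 120196 → P i := stepQ 120195 Q120195 (allL N120195 (tt N120093 (iv1 F519531)) (tt N100274 (iv0 D223454)) (tt N121166 F524896) (tt N121929 F529125) (tt N122705 D225964) (tt N118625 F519530) (tt N121226 (iv6 F525239)) (tt N106648 F519532))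
theorem Q120197 : ∀ i, i < 120197 → P i := stepQ 120196 Q120196 (allL N120196 (tt N121291 F525594) (tt N121293 F525601) (tt N119884 F519533) (tt N121289 F525583) (tt N100285 (iv4 D223455)) (tt N121628 (iv5 F527425)) (tt N106919 (iv6 F519535)) (tt N109947 F519534))
theorem Q120198 : ∀ i, i < 120198 → P i := stepQ 120197 Q120197 (allL N120197 (tt N121805 (iv1 F528431)) (tt N117371 (iv0 F519541)) (tt N119883 F519536) (tt N100286 F519537) (tt N106919 F519538) (tt N105983 F519539) (tt N100285 (iv6 D223456)) (tt N119882 F519540))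
theorem Q120199 : ∀ i, i < 120199 → P i := stepQ 120198 Q120198 (allL N120198 (tt N100286 (iv1 D223457)) (tt N100483 F519542) (tt N100482 F519545) (tt N120097 F519546) (tt N116533 (iv4 F519544)) (tt N121550 (iv5 F526987)) (tt N121959 (iv6 F529305)) (tt N100481 F519543))
theorem Q120200 : ∀ i, i < 120200 → P i := stepQ 120199 Q120199 (allL N120199 (tt N101041 F519551) (tt N109865 F519552) (tt N101388 F519547) (tt N101255 F519548) (tt N100287 (iv4 D223458)) (tt N110174 F519549) (tt N120910 (iv6 F523414)) (tt N121745 (iv7 F528073)))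
theorem Q120201 : ∀ i, i < 120201 → P i := stepQ 120200 Q120200 (allL N120200 (tt N109865 F519556) (tt N101041 F519557) (tt N121745 F528071) (tt N101063 F519553) (tt N100288 (iv4 D223459)) (tt N121499 (iv5 F526707)) (tt N105225 F519554) (tt N101388 F519555))
theorem Q120202 : ∀ i, i < 120202 → P i := stepQ 120201 Q120201 (allL N120201 (tt N119600 F519561) (tt N119603 F519562) (tt N109882 F519558) (tt N117179 F519559) (tt N107602 F519560) (tt N100290 (iv5 D223460)) (tt N122319 (iv6 F531392)) (tt N121273 (iv7 F525506)))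
theorem Q120203 : ∀ i, i < 120203 → P i := stepQ 120202 Q120202 (allL N120202 (tt N113209 F519567) (tt N121863 F528779) (tt N109879 F519563) (tt N110922 F519564) (tt N109838 F519565) (tt N122319 (iv5 F531391)) (tt N100291 (iv6 D223461)) (tt N113445 F519566))
theorem Q120204 : ∀ i, i < 120204 → P i := stepQ 120203 Q120203 (allL N120203 (tt N104838 F519574) (tt N113621 (iv0 F519575)) (tt N113622 F519569) (tt N113632 F519570) (tt N119272 F519571) (tt N109884 F519572) (tt N100295 (iv6 D223462)) (tt N113618 F519573))
theorem Q120205 : ∀ i, i < 120205 → P i := stepQ 120204 Q120204 (allL N120204 (tt N106967 (iv1 F519579)) (tt N100353 (iv0 D223463)) (tt N108305 (iv2 F519578)) (tt N108692 (iv3 F519581)) (tt N102661 F519576) (tt N121123 (iv5 F524629)) (tt N107575 F519577) (tt N102659 F519580))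
theorem Q120206 : ∀ i, i < 120206 → P i := stepQ 120205 Q120205 (allL N120205 (tt N118310 F519585) (tt N120724 (iv0 F522366)) (tt N110421 F519582) (tt N120495 (iv3 F521077)) (tt N100372 F519583) (tt N117410 F519584) (tt N100371 (iv6 D223464)) (tt N120902 (iv7 F523381)))
theorem Q120207 : ∀ i, i < 120207 → P i := stepQ 120206 Q120206 (allL N120206 (tt N117467 F519591) (tt N117465 (iv0 F519592)) (tt N109305 F519586) (tt N103013 F519587) (tt N110894 F519588) (tt N109304 F519589) (tt N100387 (iv6 D223465)) (tt N117466 F519590))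
theorem Q120208 : ∀ i, i < 120208 → P i := stepQ 120207 Q120207 (allL N120207 (tt N117015 F519597) (tt N120534 F521310) (tt N117483 F519593) (tt N100411 (iv3 D223466)) (tt N117498 F519594) (tt N121804 (iv5 F528420)) (tt N110555 F519595) (tt N118170 F519596))
theorem Q120209 : ∀ i, i < 120209 → P i := stepQ 120208 Q120208 (allL N120208 (tt N106293 F519602) (tt N117206 (iv0 F519603)) (tt N110515 F519598) (tt N109899 F519599) (tt N119887 F519600) (tt N110213 F519601) (tt N100424 (iv6 D223467)) (tt N121235 (iv7 F525294)))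
theorem Q120210 : ∀ i, i < 120210 → P i := stepQ 120209 Q120209 (allL N120209 (tt N101944 F519607) (tt N101952 F519608) (tt N106355 F519604) (tt N105963 F519609) (tt N100440 (iv4 D223468)) (tt N120563 (iv5 F521471)) (tt N119476 F519605) (tt N106325 F519606))
theorem Q120211 : ∀ i, i < 120211 → P i := stepQ 120210 Q120210 (allL N120210 (tt N101952 F519615) (tt N101944 F519616) (tt N106325 F519610) (tt N107313 F519611) (tt N100441 (iv4 D223469)) (tt N117170 F519614) (tt N104178 F519612) (tt N106355 F519613))
theorem Q120212 : ∀ i, i < 120212 → P i := stepQ 120211 Q120211 (allL N120211 (tt N107536 F519620) (tt N107525 F519621) (tt N107534 F519617) (tt N121589 (iv3 F527193)) (tt N122285 (iv4 F531181)) (tt N100450 (iv5 D223470)) (tt N110009 F519618) (tt N107535 F519619))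
theorem Q120213 : ∀ i, i < 120213 → P i := stepQ 120212 Q120212 (allL N120212 (tt N119754 F519626) (tt N122052 F529874) (tt N113466 F519622) (tt N119826 F519623) (tt N100451 (iv4 D223471)) (tt N101444 F519625) (tt N121153 (iv6 F524816)) (tt N110637 F519624))
theorem Q120214 : ∀ i, i < 120214 → P i := stepQ 120213 Q120213 (allL N120213 (tt N122052 (iv1 F529873)) (tt N119754 F519632) (tt N110637 F519627) (tt N110362 F519628) (tt N100452 (iv4 D223472)) (tt N101445 F519629) (tt N101411 F519630) (tt N113466 F519631))
theorem Q120215 : ∀ i, i < 120215 → P i := stepQ 120214 Q120214 (allL N120214 (tt N113423 (iv1 F519637)) (tt N100454 (iv0 D223473)) (tt N101644 (iv2 F519638)) (tt N111379 F519635) (tt N101610 F519634) (tt N117373 F519633) (tt N101609 F519636) (tt N121385 (iv7 F526072)))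
theorem Q120216 : ∀ i, i < 120216 → P i := stepQ 120215 Q120215 (allL N120215 (tt N100454 (iv1 D223474)) (tt N113423 F519639) (tt N121385 (iv2 F526077)) (tt N118755 (iv3 F519643)) (tt N101647 (iv4 F519642)) (tt N117375 F519641) (tt N107287 (iv6 F519644)) (tt N101644 F519640))
theorem Q120217 : ∀ i, i < 120217 → P i := stepQ 120216 Q120216 (allL N120216 (tt N100455 (iv1 D223475)) (tt N101298 F519645) (tt N117383 (iv2 F519648)) (tt N120470 (iv3 F520947)) (tt N114257 F519647) (tt N120469 (iv5 F520946)) (tt N113403 (iv6 F519649)) (tt N117385 F519646))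
theorem Q120218 : ∀ i, i < 120218 → P i := stepQ 120217 Q120217 (allL N120217 (tt N119818 F519654) (tt N119817 F519655) (tt N110537 F519650) (tt N101451 F519651) (tt N122306 (iv4 F531311)) (tt N100460 (iv5 D223476)) (tt N101449 F519652) (tt N118240 F519653))
theorem Q120219 : ∀ i, i < 120219 → P i := stepQ 120218 Q120218 (allL N120218 (tt N122023 (iv1 F529694)) (tt N100477 F519661) (tt N116625 F519656) (tt N113391 F519657) (tt N114633 F519658) (tt N100462 (iv5 D223477)) (tt N113389 F519659) (tt N116623 F519660))
theorem Q120220 : ∀ i, i < 120220 → P i := stepQ 120219 Q120219 (allL N120219 (tt N116516 F519665) (tt N107560 F519666) (tt N100464 F519662) (tt N110728 F519663) (tt N120954 (iv4 F523676)) (tt N100463 (iv5 D223478)) (tt N121075 (iv6 F524381)) (tt N116936 F519664))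
theorem Q120221 : ∀ i, i < 120221 → P i := stepQ 120220 Q120220 (allL N120220 (tt N122207 F530780) (tt N121695 (iv0 F527798)) (tt N100465 F519667) (tt N110729 F519668) (tt N115117 F519669) (tt N121993 F529515) (tt N100463 (iv6 D223479)) (tt N119861 F519670))
theorem Q120222 : ∀ i, i < 120222 → P i := stepQ 120221 Q120221 (allL N120221 (tt N116936 (iv1 F519674)) (tt N100464 (iv0 D223480)) (tt N116516 (iv2 F519673)) (tt N121377 (iv3 F526030)) (tt N114635 F519672) (tt N114401 F519671) (tt N121708 (iv6 F527880)) (tt N107560 F519675))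
theorem Q120223 : ∀ i, i < 120223 → P i := stepQ 120222 Q120222 (allL N120222 (tt N116949 F519678) (tt N112623 F519679) (tt N120954 (iv2 F523672)) (tt N110363 F519676) (tt N100464 (iv4 D223481)) (tt N101359 F519677) (tt N101166 F519680) (tt N121778 (iv7 F528265)))
theorem Q120224 : ∀ i, i < 120224 → P i := stepQ 120223 Q120223 (allL N120223 (tt N122198 (iv1 F530722)) (tt N122197 F530719) (tt N121075 (iv2 F524379)) (tt N100466 F519681) (tt N101166 F519682) (tt N121999 F529552) (tt N100464 (iv6 D223482)) (tt N101165 (iv7 F519683)))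
theorem Q120225 : ∀ i, i < 120225 → P i := stepQ 120224 Q120224 (allL N120224 (tt N119861 (iv1 F519688)) (tt N100465 (iv0 D223483)) (tt N122207 (iv2 F530775)) (tt N101624 F519686) (tt N114618 F519685) (tt N119810 F519684) (tt N101622 F519687) (tt N121695 (iv7 F527797)))
theorem Q120226 : ∀ i, i < 120226 → P i := stepQ 120225 Q120225 (allL N120225 (tt N100465 (iv1 D223484)) (tt N119861 F519689) (tt N121695 (iv2 F527795)) (tt N120015 (iv3 F519691)) (tt N114619 (iv4 F519692)) (tt N119809 F519690) (tt N116577 (iv6 F519693)) (tt N122207 (iv7 F530778)))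
theorem Q120227 : ∀ i, i < 120227 → P i := stepQ 120226 Q120226 (allL N120226 (tt N117249 F519698) (tt N121960 (iv0 F529314)) (tt N119789 F519694) (tt N121999 F529550) (tt N118234 F519695) (tt N100466 (iv5 D223485)) (tt N100467 F519696) (tt N119785 F519697))
theorem Q120228 : ∀ i, i < 120228 → P i := stepQ 120227 Q120227 (allL N120227 (tt N121097 F524499) (tt N106675 F519703) (tt N119790 F519699) (tt N119785 F519700) (tt N100467 (iv4 D223486)) (tt N101165 F519702) (tt N118234 F519701) (tt N121999 (iv7 F529548)))
theorem Q120229 : ∀ i, i < 120229 → P i := stepQ 120228 Q120228 (allL N120228 (tt N101455 F519708) (tt N113410 F519709) (tt N100470 F519704) (tt N116936 F519705) (tt N105652 F519706) (tt N100469 (iv5 D223487)) (tt N121350 (iv6 F525911)) (tt N110728 F519707))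
theorem Q120230 : ∀ i, i < 120230 → P i := stepQ 120229 Q120229 (allL N120229 (tt N100470 (iv1 D223488)) (tt N110728 F519710) (tt N113410 F519716) (tt N119770 (iv3 F519714)) (tt N101457 F519713) (tt N110206 F519712) (tt N107202 (iv6 F519715)) (tt N101455 F519711))
theorem Q120231 : ∀ i, i < 120231 → P i := stepQ 120230 Q120230 (allL N120230 (tt N113412 (iv1 F519721)) (tt N113415 F519722) (tt N121116 F524589) (tt N119777 F519717) (tt N116526 F519718) (tt N119111 F519719) (tt N100471 (iv6 D223489)) (tt N116523 F519720))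
theorem Q120232 : ∀ i, i < 120232 → P i := stepQ 120231 Q120231 (allL N120231 (tt N117164 F519726) (tt N121236 (iv0 F525300)) (tt N121355 (iv2 F525942)) (tt N121629 (iv3 F527429)) (tt N116534 F519723) (tt N119887 F519724) (tt N100474 (iv6 D223490)) (tt N100479 F519725))
theorem Q120233 : ∀ i, i < 120233 → P i := stepQ 120232 Q120232 (allL N120232 (tt N100475 (iv1 D223491)) (tt N109899 F519727) (tt N109900 F519731) (tt N118643 F519732) (tt N110019 F519729) (tt N121184 (iv5 F525003)) (tt N110015 (iv6 F519730)) (tt N109820 F519728))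
theorem Q120234 : ∀ i, i < 120234 → P i := stepQ 120233 Q120233 (allL N120233 (tt N121576 (iv1 F527118)) (tt N120175 (iv0 F519736)) (tt N121352 (iv2 F525919)) (tt N100475 (iv3 D223492)) (tt N100480 F519733) (tt N120176 F519734) (tt N117733 F519735) (tt N121583 (iv7 F527158)))
theorem Q120235 : ∀ i, i < 120235 → P i := stepQ 120234 Q120234 (allL N120234 (tt N121586 F527177) (tt N107329 (iv0 F519740)) (tt N121628 (iv2 F527422)) (tt N100479 F519737) (tt N107421 F519738) (tt N119884 F519739) (tt N100478 (iv6 D223493)) (tt N121629 (iv7 F527431)))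
theorem Q120236 : ∀ i, i < 120236 → P i := stepQ 120235 Q120235 (allL N120235 (tt N121355 (iv1 F525937)) (tt N100479 (iv0 D223494)) (tt N121236 (iv2 F525297)) (tt N117164 F519744) (tt N110014 F519742) (tt N117161 F519743) (tt N120335 (iv6 F520239)) (tt N117164 (iv7 F519745)))
theorem Q120237 : ∀ i, i < 120237 → P i := stepQ 120236 Q120236 (allL N120236 (tt N122705 (iv1 F533725)) (tt N121295 (iv0 F525607)) (tt N120020 F519746) (tt N119884 F519747) (tt N121235 (iv4 F525292)) (tt N100479 (iv5 D223495)) (tt N109924 F519748) (tt N119887 F519749))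
theorem Q120238 : ∀ i, i < 120238 → P i := stepQ 120237 Q120237 (allL N120237 (tt N121578 (iv1 F527131)) (tt N100480 (iv0 D223496)) (tt N121577 F527122) (tt N122421 (iv3 F532005)) (tt N121169 F524916) (tt N109894 F519750) (tt N121576 (iv6 F527116)) (tt N121359 F525957))
theorem Q120239 : ∀ i, i < 120239 → P i := stepQ 120238 Q120238 (allL N120238 (tt N100480 (iv1 D223497)) (tt N121578 F527130) (tt N121359 (iv2 F525952)) (tt N107271 (iv3 F519751)) (tt N122450 (iv4 F532183)) (tt N107269 (iv5 F519752)) (tt N107270 (iv6 F519753)) (tt N121577 (iv7 F527124)))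
theorem Q120240 : ∀ i, i < 120240 → P i := stepQ 120239 Q120239 (allL N120239 (tt N122628 F533263) (tt N122281 (iv0 F531157)) (tt N121666 (iv2 F527627)) (tt N119630 F519754) (tt N100537 (iv4 D223498)) (tt N119569 F519755) (tt N121665 (iv6 F527624)) (tt N119630 F519756))
theorem Q120241 : ∀ i, i < 120241 → P i := stepQ 120240 Q120240 (allL N120240 (tt N100640 (iv1 F519762)) (tt N101513 F519763) (tt N101512 F519757) (tt N115783 F519758) (tt N118781 F519759) (tt N106302 F519760) (tt N117559 F519761) (tt N100545 (iv7 D223499)))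
theorem Q120242 : ∀ i, i < 120242 → P i := stepQ 120241 Q120241 (allL N120241 (tt N113665 F519766) (tt N113663 F519767) (tt N120504 (iv2 F521134)) (tt N115819 F519764) (tt N100550 (iv4 D223500)) (tt N114856 F519765) (tt N122486 (iv6 F532417)) (tt N120502 (iv7 F521122)))
theorem Q120243 : ∀ i, i < 120243 → P i := stepQ 120242 Q120242 (allL N120242 (tt N116561 F519771) (tt N116559 F519772) (tt N118530 F519768) (tt N121720 (iv3 F527940)) (tt N100558 (iv4 D223501)) (tt N120554 (iv5 F521423)) (tt N107205 F519769) (tt N112026 F519770))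
theorem Q120244 : ∀ i, i < 120244 → P i := stepQ 120243 Q120243 (allL N120243 (tt N100994 (iv1 F519776)) (tt N100576 (iv0 D223502)) (tt N100990 F519779) (tt N100880 (iv3 F519777)) (tt N100586 F519774) (tt N100856 F519773) (tt N100879 F519775) (tt N100991 F519778))
theorem Q120245 : ∀ i, i < 120245 → P i := stepQ 120244 Q120244 (allL N120244 (tt N100576 (iv1 D223503)) (tt N100994 F519780) (tt N100991 F519785) (tt N120311 (iv3 F520152)) (tt N100587 F519783) (tt N100854 F519782) (tt N105075 (iv6 F519784)) (tt N100990 F519781))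
theorem Q120246 : ∀ i, i < 120246 → P i := stepQ 120245 Q120245 (allL N120245 (tt N100878 (iv1 F519788)) (tt N100578 (iv0 D223504)) (tt N100876 F519790) (tt N106486 (iv3 F519789)) (tt N122015 (iv4 F529646)) (tt N105815 F519786) (tt N104331 F519787) (tt N100877 (iv7 F519791)))
theorem Q120247 : ∀ i, i < 120247 → P i := stepQ 120246 Q120246 (allL N120246 (tt N100578 (iv1 D223505)) (tt N100878 F519792) (tt N100877 (iv2 F519797)) (tt N105819 (iv3 F519794)) (tt N122145 (iv4 F530420)) (tt N105816 (iv5 F519796)) (tt N112771 (iv6 F519795)) (tt N100876 F519793))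
theorem Q120248 : ∀ i, i < 120248 → P i := stepQ 120247 Q120247 (allL N120247 (tt N100885 (iv1 F519800)) (tt N100579 (iv0 D223506)) (tt N100884 (iv2 F519799)) (tt N110871 F519798) (tt N120293 (iv4 F520072)) (tt N120974 (iv5 F523801)) (tt N120446 F520825) (tt N100883 F519801))
theorem Q120249 : ∀ i, i < 120249 → P i := stepQ 120248 Q120248 (allL N120248 (tt N100884 (iv1 F519806)) (tt N100883 F519805) (tt N100579 (iv2 D223507)) (tt N100997 F519802) (tt N120535 (iv4 F521313)) (tt N111915 F519803) (tt N120289 (iv6 F520047)) (tt N100885 F519804))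
theorem Q120250 : ∀ i, i < 120250 → P i := stepQ 120249 Q120249 (allL N120249 (tt N122529 (iv1 F532671)) (tt N118464 F519811) (tt N110180 F519807) (tt N118297 F519808) (tt N100580 (iv4 D223508)) (tt N117774 F519810) (tt N122616 (iv6 F533193)) (tt N100896 F519809))
theorem Q120251 : ∀ i, i < 120251 → P i := stepQ 120250 Q120250 (allL N120250 (tt N112947 F519815) (tt N112946 F519816) (tt N110181 F519812) (tt N100581 F519813) (tt N122616 (iv4 F533192)) (tt N113195 F519814) (tt N100580 (iv6 D223509)) (tt N112948 F519817))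
theorem Q120252 : ∀ i, i < 120252 → P i := stepQ 120251 Q120251 (allL N120251 (tt N121104 (iv1 F524534)) (tt N105247 F519821) (tt N101280 F519818) (tt N122230 (iv3 F530898)) (tt N100585 (iv4 D223510)) (tt N100858 F519819) (tt N122212 (iv6 F530806)) (tt N101279 F519820))
theorem Q120253 : ∀ i, i < 120253 → P i := stepQ 120252 Q120252 (allL N120252 (tt N111955 F519825) (tt N100626 (iv0 F519826)) (tt N101281 F519822) (tt N122662 (iv3 F533457)) (tt N122212 (iv4 F530805)) (tt N105459 F519823) (tt N100585 (iv6 D223511)) (tt N111954 F519824))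
theorem Q120254 : ∀ i, i < 120254 → P i := stepQ 120253 Q120253 (allL N120253 (tt N101027 F519831) (tt N112926 (iv0 F519833)) (tt N110333 F519827) (tt N100587 (iv3 D223512)) (tt N117805 F519832) (tt N100811 F519828) (tt N105072 F519829) (tt N101283 F519830))
theorem Q120255 : ∀ i, i < 120255 → P i := stepQ 120254 Q120254 (allL N120254 (tt N113174 F519838) (tt N121779 (iv0 F528269)) (tt N120889 (iv2 F523307)) (tt N100621 F519834) (tt N113527 F519837) (tt N100613 (iv5 D223513)) (tt N100616 F519835) (tt N113409 F519836))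
theorem Q120256 : ∀ i, i < 120256 → P i := stepQ 120255 Q120255 (allL N120255 (tt N116717 F519844) (tt N116728 (iv0 F519845)) (tt N109771 F519839) (tt N100615 (iv3 D223514)) (tt N114953 F519840) (tt N112552 F519841) (tt N114961 F519842) (tt N116716 F519843))
theorem Q120257 : ∀ i, i < 120257 → P i := stepQ 120256 Q120256 (allL N120256 (tt N120542 (iv1 F521357)) (tt N120953 (iv0 F523670)) (tt N121800 F528397) (tt N118238 F519846) (tt N100616 (iv4 D223515)) (tt N119816 F519849) (tt N113527 F519847) (tt N101447 F519848))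
theorem Q120258 : ∀ i, i < 120258 → P i := stepQ 120257 Q120257 (allL N120257 (tt N114732 F519854) (tt N116757 F519853) (tt N120064 F519850) (tt N100626 F519851) (tt N120950 (iv4 F523655)) (tt N100623 (iv5 D223516)) (tt N100886 F519852) (tt N120063 (iv7 F519855)))
theorem Q120259 : ∀ i, i < 120259 → P i := stepQ 120258 Q120258 (allL N120258 (tt N114477 (iv1 F519861)) (tt N116720 F519862) (tt N116748 F519856) (tt N100627 F519857) (tt N119669 F519858) (tt N120063 F519859) (tt N118821 F519860) (tt N100623 (iv7 D223517)))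
theorem Q120260 : ∀ i, i < 120260 → P i := stepQ 120259 Q120259 (allL N120259 (tt N112778 F519865) (tt N112780 F519866) (tt N111953 F519863) (tt N120951 (iv3 F523658)) (tt N100626 (iv4 D223518)) (tt N121897 (iv5 F528961)) (tt N100887 F519864) (tt N122706 D225965))
theorem Q120261 : ∀ i, i < 120261 → P i := stepQ 120260 Q120260 (allL N120260 (tt N111954 (iv1 F519871)) (tt N101281 F519872) (tt N111955 F519867) (tt N120063 F519868) (tt N122706 (iv4 F533728)) (tt N100627 F519869) (tt N111950 F519870) (tt N100626 (iv7 D223519)))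
theorem Q120262 : ∀ i, i < 120262 → P i := stepQ 120261 Q120261 (allL N120261 (tt N105621 F519878) (tt N113240 (iv0 F519879)) (tt N113242 F519873) (tt N100629 (iv3 D223520)) (tt N117762 F519874) (tt N115024 F519875) (tt N118687 F519876) (tt N113241 F519877))
theorem Q120263 : ∀ i, i < 120263 → P i := stepQ 120262 Q120262 (allL N120262 (tt N112540 F519884) (tt N116308 (iv0 F519885)) (tt N116307 F519880) (tt N100634 (iv3 D223521)) (tt N107458 F519881) (tt N117210 F519882) (tt N121059 (iv6 F524289)) (tt N107455 F519883))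
theorem Q120264 : ∀ i, i < 120264 → P i := stepQ 120263 Q120263 (allL N120263 (tt N113393 F519891) (tt N113408 F519892) (tt N101462 F519886) (tt N119726 F519887) (tt N100635 (iv4 D223522)) (tt N117491 F519890) (tt N100637 F519888) (tt N113407 F519889))
theorem Q120265 : ∀ i, i < 120265 → P i := stepQ 120264 Q120264 (allL N120264 (tt N104976 (iv1 F519898)) (tt N100663 (iv0 D223523)) (tt N104974 (iv2 F519897)) (tt N101096 F519895) (tt N105681 F519894) (tt N104971 F519893) (tt N105680 F519896) (tt N104975 F519899))
theorem Q120266 : ∀ i, i < 120266 → P i := stepQ 120265 Q120265 (allL N120265 (tt N118698 F519905) (tt N103337 F519906) (tt N105874 F519900) (tt N112821 F519901) (tt N100713 (iv4 D223524)) (tt N104280 F519902) (tt N102131 F519903) (tt N111618 F519904))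
theorem Q120267 : ∀ i, i < 120267 → P i := stepQ 120266 Q120266 (allL N120266 (tt N103234 F519911) (tt N103334 (iv0 F519913)) (tt N100716 F519907) (tt N100720 F519908) (tt N103413 F519909) (tt N116073 F519912) (tt N100715 (iv6 D223525)) (tt N103341 F519910))
theorem Q120268 : ∀ i, i < 120268 → P i := stepQ 120267 Q120267 (allL N120267 (tt N114237 F519918) (tt N103382 F519919) (tt N116073 F519914) (tt N100717 F519915) (tt N109567 F519916) (tt N100716 (iv5 D223526)) (tt N120791 (iv6 F522738)) (tt N103228 F519917))
theorem Q120269 : ∀ i, i < 120269 → P i := stepQ 120268 Q120268 (allL N120268 (tt N111739 F519924) (tt N111736 F519925) (tt N100729 F519920) (tt N122417 (iv3 F531983)) (tt N100717 (iv4 D223527)) (tt N112401 F519923) (tt N115253 F519921) (tt N111074 F519922))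
theorem Q120270 : ∀ i, i < 120270 → P i := stepQ 120269 Q120269 (allL N120269 (tt N111892 F519931) (tt N111894 (iv0 F519932)) (tt N100722 F519926) (tt N108564 F519927) (tt N111513 F519928) (tt N112410 F519929) (tt N100719 (iv6 D223528)) (tt N115548 F519930))
theorem Q120271 : ∀ i, i < 120271 → P i := stepQ 120270 Q120270 (allL N120270 (tt N115458 (iv1 F519938)) (tt N122099 F530160) (tt N119351 F519933) (tt N112411 F519934) (tt N115254 F519935) (tt N100727 F519936) (tt N109764 F519937) (tt N100726 (iv7 D223529)))
theorem Q120272 : ∀ i, i < 120272 → P i := stepQ 120271 Q120271 (allL N120271 (tt N100729 (iv1 D223530)) (tt N111074 F519939) (tt N111736 F519943) (tt N115027 (iv3 F519942)) (tt N111715 F519941) (tt N120272 (iv5 F519947)) (tt N115251 F519944) (tt N111739 F519940))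
theorem Q120273 : ∀ i, i < 120273 → P i := stepQ 120272 Q120272 (allL N120272 (tt N119256 F519950) (tt N119264 F519951) (tt N111734 F519945) (tt N118061 F519946) (tt N100731 (iv4 D223531)) (tt N120271 F519947) (tt N114848 F519948) (tt N111733 F519949))
theorem Q120274 : ∀ i, i < 120274 → P i := stepQ 120273 Q120273 (allL N120273 (tt N118175 F519956) (tt N102312 F519957) (tt N118290 F519952) (tt N121313 (iv3 F525702)) (tt N100750 (iv4 D223532)) (tt N107844 F519953) (tt N100753 F519954) (tt N118291 F519955))
theorem Q120275 : ∀ i, i < 120275 → P i := stepQ 120274 Q120274 (allL N120274 (tt N120180 F519962) (tt N116094 (iv0 F519963)) (tt N117398 F519958) (tt N113216 F519959) (tt N120193 F519960) (tt N120361 F520373) (tt N100761 (iv6 D223533)) (tt N109637 F519961))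
theorem Q120276 : ∀ i, i < 120276 → P i := stepQ 120275 Q120275 (allL N120275 (tt N117953 F519968) (tt N114448 F519969) (tt N117746 F519964) (tt N103869 F519965) (tt N100775 (iv4 D223534)) (tt N117937 F519967) (tt N103868 F519966) (tt N120837 (iv7 F523003)))
theorem Q120277 : ∀ i, i < 120277 → P i := stepQ 120276 Q120276 (allL N120276 (tt N114448 F519973) (tt N117953 F519974) (tt N120837 (iv2 F522999)) (tt N122707 D225966) (tt N100776 (iv4 D223535)) (tt N117938 F519970) (tt N109445 F519971) (tt N117746 F519972))
theorem Q120278 : ∀ i, i < 120278 → P i := stepQ 120277 Q120277 (allL N120277 (tt N105507 F519980) (tt N105696 F519981) (tt N106245 F519975) (tt N114938 F519976) (tt N106244 F519977) (tt N100789 (iv5 D223536)) (tt N108371 F519978) (tt N119987 F519979))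
theorem Q120279 : ∀ i, i < 120279 → P i := stepQ 120278 Q120278 (allL N120278 (tt N106938 (iv1 F519987)) (tt N100794 (iv0 D223537)) (tt N107098 (iv2 F519986)) (tt N116660 F519984) (tt N106934 F519983) (tt N111995 F519982) (tt N106933 F519985) (tt N111829 F519988))
theorem Q120280 : ∀ i, i < 120280 → P i := stepQ 120279 Q120279 (allL N120279 (tt N112926 F519993) (tt N101027 F519994) (tt N101283 F519989) (tt N101227 F519990) (tt N107556 F519991) (tt N100810 (iv5 D223538)) (tt N110174 (iv6 F519995)) (tt N110333 F519992))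
theorem Q120281 : ∀ i, i < 120281 → P i := stepQ 120280 Q120280 (allL N120280 (tt N100823 (iv1 D223539)) (tt N101002 F519996) (tt N101003 F520002) (tt N112108 (iv3 F519999)) (tt N108346 (iv4 F520000)) (tt N104156 F519998) (tt N113180 (iv6 F520001)) (tt N101004 F519997))
theorem Q120282 : ∀ i, i < 120282 → P i := stepQ 120281 Q120281 (allL N120281 (tt N111433 F520007) (tt N103050 (iv0 F520008)) (tt N112008 F520003) (tt N100827 (iv3 D223540)) (tt N118363 F520004) (tt N120767 (iv5 F522602)) (tt N108676 F520005) (tt N112004 F520006))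
theorem Q120283 : ∀ i, i < 120283 → P i := stepQ 120282 Q120282 (allL N120282 (tt N122606 (iv1 F533136)) (tt N106414 F520011) (tt N122671 (iv2 F533514)) (tt N112018 F520009) (tt N100833 (iv4 D223541)) (tt N122406 (iv5 F531912)) (tt N118654 F520012) (tt N112018 F520010))
theorem Q120284 : ∀ i, i < 120284 → P i := stepQ 120283 Q120283 (allL N120283 (tt N103650 F520018) (tt N112541 F520019) (tt N118657 F520013) (tt N100834 F520014) (tt N118654 F520015) (tt N101380 F520016) (tt N100833 (iv6 D223542)) (tt N118655 F520017))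
theorem Q120285 : ∀ i, i < 120285 → P i := stepQ 120284 Q120284 (allL N120284 (tt N101420 (iv1 F520023)) (tt N100837 (iv0 D223543)) (tt N101421 (iv2 F520024)) (tt N105703 F520021) (tt N120412 (iv4 F520643)) (tt N101418 F520020) (tt N116782 F520022) (tt N101417 (iv7 F520025)))
theorem Q120286 : ∀ i, i < 120286 → P i := stepQ 120285 Q120285 (allL N120285 (tt N100837 (iv1 D223544)) (tt N101420 F520026) (tt N101417 F520030) (tt N114999 (iv3 F520029)) (tt N120413 (iv4 F520649)) (tt N101416 F520028) (tt N120782 F522682) (tt N101421 F520027))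
theorem Q120287 : ∀ i, i < 120287 → P i := stepQ 120286 Q120286 (allL N120286 (tt N116746 F520035) (tt N121831 F528583) (tt N100961 F520031) (tt N113979 F520032) (tt N100838 (iv4 D223545)) (tt N117243 F520034) (tt N121261 F525443) (tt N100958 F520033))
theorem Q120288 : ∀ i, i < 120288 → P i := stepQ 120287 Q120287 (allL N120287 (tt N121694 F527794) (tt N122132 F530355) (tt N100962 F520036) (tt N113208 F520037) (tt N121261 (iv4 F525439)) (tt N113206 F520038) (tt N100838 (iv6 D223546)) (tt N122284 (iv7 F531177)))
theorem Q120289 : ∀ i, i < 120289 → P i := stepQ 120288 Q120288 (allL N120288 (tt N121831 (iv1 F528584)) (tt N116746 F520043) (tt N100958 F520039) (tt N113360 F520044) (tt N100839 (iv4 D223547)) (tt N117244 F520040) (tt N107646 F520041) (tt N100961 F520042))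
theorem Q120290 : ∀ i, i < 120290 → P i := stepQ 120289 Q120289 (allL N120289 (tt N100997 (iv1 F520048)) (tt N100843 (iv0 D223548)) (tt N100996 (iv2 F520049)) (tt N120304 (iv3 F520116)) (tt N113387 F520046) (tt N112790 F520045) (tt N120248 F520047) (tt N100995 (iv7 F520050)))
theorem Q120291 : ∀ i, i < 120291 → P i := stepQ 120290 Q120290 (allL N120290 (tt N100843 (iv1 D223549)) (tt N100997 F520051) (tt N100995 F520055) (tt N116137 (iv3 F520053)) (tt N113384 (iv4 F520054)) (tt N112791 F520056) (tt N120300 (iv6 F520102)) (tt N100996 F520052))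
theorem Q120292 : ∀ i, i < 120292 → P i := stepQ 120291 Q120291 (allL N120291 (tt N108712 F520062) (tt N108711 F520063) (tt N108713 F520057) (tt N107206 F520058) (tt N100849 (iv4 D223550)) (tt N108451 F520059) (tt N107204 F520060) (tt N108689 F520061))
theorem Q120293 : ∀ i, i < 120293 → P i := stepQ 120292 Q120292 (allL N120292 (tt N114043 (iv1 F520069)) (tt N100855 (iv0 D223551)) (tt N114041 (iv2 F520067)) (tt N120183 F520065) (tt N120321 (iv4 F520185)) (tt N108461 F520064) (tt N100865 F520066) (tt N114042 F520068))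
theorem Q120294 : ∀ i, i < 120294 → P i := stepQ 120293 Q120293 (allL N120293 (tt N114042 (iv1 F520075)) (tt N114041 F520076) (tt N114043 F520070) (tt N116297 F520071) (tt N120247 F520072) (tt N105814 F520073) (tt N107444 F520074) (tt N100855 (iv7 D223552)))
theorem Q120295 : ∀ i, i < 120295 → P i := stepQ 120294 Q120294 (allL N120294 (tt N122135 (iv1 F530370)) (tt N101390 (iv0 F520080)) (tt N116179 F520077) (tt N110876 F520078) (tt N100857 F520079) (tt N120333 (iv5 F520230)) (tt N100856 (iv6 D223553)) (tt N120319 (iv7 F520175)))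
theorem Q120296 : ∀ i, i < 120296 → P i := stepQ 120295 Q120295 (allL N120295 (tt N111959 F520084) (tt N100888 (iv0 F520085)) (tt N111958 F520081) (tt N100858 (iv3 D223554)) (tt N116180 F520082) (tt N122230 (iv5 F530897)) (tt N122213 (iv6 F530813)) (tt N111957 F520083))
theorem Q120297 : ∀ i, i < 120297 → P i := stepQ 120296 Q120296 (allL N120296 (tt N122229 (iv1 F530895)) (tt N121100 F524514) (tt N112776 F520086) (tt N122213 (iv3 F530811)) (tt N100859 F520087) (tt N122673 (iv5 F533527)) (tt N100858 (iv6 D223555)) (tt N112772 F520088))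
theorem Q120298 : ∀ i, i < 120298 → P i := stepQ 120297 Q120297 (allL N120297 (tt N112739 (iv1 F520091)) (tt N100859 (iv0 D223556)) (tt N112771 (iv2 F520090)) (tt N122223 (iv3 F530869)) (tt N122224 (iv4 F530870)) (tt N102319 F520089) (tt N100877 (iv6 F520093)) (tt N105244 F520092))
theorem Q120299 : ∀ i, i < 120299 → P i := stepQ 120298 Q120298 (allL N120298 (tt N121085 F524442) (tt N120315 (iv0 F520161)) (tt N122134 (iv2 F530364)) (tt N100860 (iv3 D223557)) (tt N122295 (iv4 F531247)) (tt N101390 F520094) (tt N122134 (iv6 F530366)) (tt N116182 F520095))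
theorem Q120300 : ∀ i, i < 120300 → P i := stepQ 120299 Q120299 (allL N120299 (tt N121633 F527451) (tt N122018 (iv0 F529666)) (tt N112971 F520096) (tt N122134 (iv3 F530365)) (tt N112970 F520097) (tt N120305 (iv5 F520124)) (tt N100860 (iv6 D223558)) (tt N122589 (iv7 F533024)))
theorem Q120301 : ∀ i, i < 120301 → P i := stepQ 120300 Q120300 (allL N120300 (tt N110867 (iv1 F520103)) (tt N116183 F520104) (tt N100868 F520098) (tt N100863 F520099) (tt N101278 F520100) (tt N101288 F520101) (tt N120290 F520102) (tt N100861 (iv7 D223559)))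
theorem Q120302 : ∀ i, i < 120302 → P i := stepQ 120301 Q120301 (allL N120301 (tt N122284 (iv1 F531179)) (tt N100962 (iv0 F520107)) (tt N121694 (iv2 F527788)) (tt N100865 (iv3 D223560)) (tt N121622 (iv4 F527390)) (tt N117374 F520105) (tt N120183 F520106) (tt N122132 (iv7 F530353)))
theorem Q120303 : ∀ i, i < 120303 → P i := stepQ 120302 Q120302 (allL N120302 (tt N122232 (iv1 F530913)) (tt N100889 F520110) (tt N107391 F520108) (tt N120415 (iv3 F520660)) (tt N100865 (iv4 D223561)) (tt N100882 F520109) (tt N120321 (iv6 F520184)) (tt N122133 (iv7 F530361)))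
theorem Q120304 : ∀ i, i < 120304 → P i := stepQ 120303 Q120303 (allL N120303 (tt N100889 F520114) (tt N122232 F530912) (tt N122133 (iv2 F530357)) (tt N105196 F520111) (tt N100866 (iv4 D223562)) (tt N105195 F520112) (tt N121104 (iv6 F524531)) (tt N107391 F520113))
theorem Q120305 : ∀ i, i < 120305 → P i := stepQ 120304 Q120304 (allL N120304 (tt N105186 (iv1 F520120)) (tt N105187 F520121) (tt N100992 F520115) (tt N120289 F520116) (tt N100870 F520117) (tt N116551 F520118) (tt N100997 F520119) (tt N100869 (iv7 D223563)))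
theorem Q120306 : ∀ i, i < 120306 → P i := stepQ 120305 Q120305 (allL N120305 (tt N105195 F520125) (tt N100882 F520126) (tt N122015 (iv2 F529645)) (tt N111948 F520122) (tt N100876 (iv4 D223564)) (tt N120299 F520124) (tt N105194 F520123) (tt N122145 (iv7 F530419)))
theorem Q120307 : ∀ i, i < 120307 → P i := stepQ 120306 Q120306 (allL N120306 (tt N100965 F520131) (tt N106494 F520132) (tt N106218 F520127) (tt N100877 (iv3 D223565)) (tt N100983 (iv4 F520129)) (tt N106217 F520130) (tt N122223 (iv6 F530865)) (tt N106486 F520128))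
theorem Q120308 : ∀ i, i < 120308 → P i := stepQ 120307 Q120307 (allL N120307 (tt N100882 F520135) (tt N105195 F520136) (tt N122145 (iv2 F530422)) (tt N100984 F520133) (tt N100877 (iv4 D223566)) (tt N117260 F520134) (tt N122224 (iv6 F530872)) (tt N122015 (iv7 F529649)))
theorem Q120309 : ∀ i, i < 120309 → P i := stepQ 120308 Q120308 (allL N120308 (tt N101616 F520141) (tt N105814 (iv0 F520142)) (tt N105816 F520137) (tt N106217 F520138) (tt N121205 (iv4 F525121)) (tt N100877 (iv5 D223567)) (tt N101635 F520139) (tt N105815 F520140))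
theorem Q120310 : ∀ i, i < 120310 → P i := stepQ 120309 Q120309 (allL N120309 (tt N100879 (iv1 D223568)) (tt N121500 (iv0 F526716)) (tt N116178 F520146) (tt N111965 (iv3 F520145)) (tt N107446 F520144) (tt N120312 (iv5 F520154)) (tt N121633 (iv6 F527448)) (tt N107445 F520143))
theorem Q120311 : ∀ i, i < 120311 → P i := stepQ 120310 Q120310 (allL N120310 (tt N107445 (iv1 F520150)) (tt N116178 F520149) (tt N100879 (iv2 D223569)) (tt N122142 (iv3 F530404)) (tt N101285 F520147) (tt N120332 (iv5 F520227)) (tt N100990 F520148) (tt N121500 (iv7 F526715)))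
theorem Q120312 : ∀ i, i < 120312 → P i := stepQ 120311 Q120311 (allL N120311 (tt N122142 (iv1 F530408)) (tt N100881 (iv0 D223570)) (tt N121517 (iv2 F526810)) (tt N120244 F520152) (tt N122612 (iv4 F533169)) (tt N108003 F520151) (tt N121085 (iv6 F524441)) (tt N120370 (iv7 F520420)))
theorem Q120313 : ∀ i, i < 120313 → P i := stepQ 120312 Q120312 (allL N120312 (tt N100881 (iv1 D223571)) (tt N122142 (iv0 F530407)) (tt N120370 (iv2 F520417)) (tt N107387 (iv3 F520153)) (tt N121618 (iv4 F527362)) (tt N120309 F520154) (tt N111960 F520155) (tt N121517 (iv7 F526812)))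
theorem Q120314 : ∀ i, i < 120314 → P i := stepQ 120313 Q120313 (allL N120313 (tt N121517 (iv1 F526814)) (tt N120370 F520422) (tt N100881 (iv2 D223572)) (tt N121500 F526718) (tt N122666 (iv4 F533485)) (tt N120320 (iv5 F520178)) (tt N122517 F532601) (tt N122142 (iv7 F530406)))
theorem Q120315 : ∀ i, i < 120315 → P i := stepQ 120314 Q120314 (allL N120314 (tt N122638 (iv1 F533324)) (tt N122245 (iv0 F530986)) (tt N122666 (iv2 F533483)) (tt N112795 F520156) (tt N100881 (iv4 D223573)) (tt N118327 F520157) (tt N118558 (iv6 F520158)) (tt N122144 (iv7 F530416)))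
theorem Q120316 : ∀ i, i < 120316 → P i := stepQ 120315 Q120315 (allL N120315 (tt N120298 F520161) (tt N122519 F532614) (tt N122517 (iv2 F532602)) (tt N100882 F520159) (tt N118558 F520160) (tt N120415 (iv5 F520662)) (tt N100881 (iv6 D223574)) (tt N122518 (iv7 F532604)))
theorem Q120317 : ∀ i, i < 120317 → P i := stepQ 120316 Q120316 (allL N120316 (tt N122145 (iv1 F530418)) (tt N122015 F529651) (tt N105195 F520162) (tt N122518 F532606) (tt N112797 F520163) (tt N122133 (iv5 F530359)) (tt N107447 F520164) (tt N100882 (iv7 D223575)))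
theorem Q120318 : ∀ i, i < 120318 → P i := stepQ 120317 Q120317 (allL N120317 (tt N117377 (iv1 F520169)) (tt N112743 F520168) (tt N121102 (iv2 F524518)) (tt N119976 F520165) (tt N110885 F520167) (tt N100883 (iv5 D223576)) (tt N110884 F520166) (tt N120974 (iv7 F523803)))
theorem Q120319 : ∀ i, i < 120319 → P i := stepQ 120318 Q120318 (allL N120318 (tt N112743 F520172) (tt N117377 F520171) (tt N120974 (iv2 F523799)) (tt N120367 (iv3 F520406)) (tt N112972 F520170) (tt N100884 (iv5 D223577)) (tt N121503 (iv6 F526729)) (tt N121102 (iv7 F524522)))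
theorem Q120320 : ∀ i, i < 120320 → P i := stepQ 120319 Q120319 (allL N120319 (tt N111948 (iv1 F520176)) (tt N120447 F520829) (tt N120446 F520824) (tt N119099 F520173) (tt N101489 F520174) (tt N122708 D225967) (tt N100884 (iv6 D223578)) (tt N120294 F520175))
theorem Q120321 : ∀ i, i < 120321 → P i := stepQ 120320 Q120320 (allL N120320 (tt N111958 (iv1 F520182)) (tt N111957 F520181) (tt N100888 (iv2 D223579)) (tt N122231 (iv3 F530903)) (tt N111949 F520177) (tt N120313 F520178) (tt N112952 F520179) (tt N111959 F520180))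
theorem Q120322 : ∀ i, i < 120322 → P i := stepQ 120321 Q120321 (allL N120321 (tt N122143 F530412) (tt N114000 (iv0 F520186)) (tt N121501 (iv2 F526719)) (tt N101286 F520183) (tt N120292 F520185) (tt N100889 (iv5 D223580)) (tt N120302 F520184) (tt N120369 (iv7 F520415)))
theorem Q120323 : ∀ i, i < 120323 → P i := stepQ 120322 Q120322 (allL N120322 (tt N118464 F520191) (tt N122529 (iv0 F532670)) (tt N100896 F520187) (tt N118623 F520188) (tt N100892 (iv4 D223581)) (tt N117845 F520189) (tt N122538 (iv6 F532724)) (tt N110180 F520190))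
theorem Q120324 : ∀ i, i < 120324 → P i := stepQ 120323 Q120323 (allL N120323 (tt N116558 F520192) (tt N116556 F520193) (tt N121181 (iv2 F524983)) (tt N122684 (iv3 F533591)) (tt N100895 (iv4 D223582)) (tt N121471 (iv5 F526560)) (tt N122704 (iv6 F533716)) (tt N120376 (iv7 F520455)))
theorem Q120325 : ∀ i, i < 120325 → P i := stepQ 120324 Q120324 (allL N120324 (tt N122662 F533462) (tt N122630 (iv0 F533275)) (tt N116724 F520194) (tt N116752 F520195) (tt N122704 (iv4 F533714)) (tt N115341 F520196) (tt N100895 (iv6 D223583)) (tt N122442 (iv7 F532128)))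
theorem Q120326 : ∀ i, i < 120326 → P i := stepQ 120325 Q120325 (allL N120325 (tt N110180 (iv1 F520199)) (tt N100896 (iv0 D223584)) (tt N118464 (iv2 F520198)) (tt N118507 (iv3 F520200)) (tt N120555 (iv4 F521429)) (tt N118461 F520197) (tt N118619 (iv6 F520201)) (tt N122529 (iv7 F532669)))
theorem Q120327 : ∀ i, i < 120327 → P i := stepQ 120326 Q120326 (allL N120326 (tt N122709 D225968) (tt N122254 (iv0 F531028)) (tt N122710 D225969) (tt N100896 (iv3 D223585)) (tt N100899 F520202) (tt N118298 F520203) (tt N118554 (iv6 F520205)) (tt N118297 F520204))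
theorem Q120328 : ∀ i, i < 120328 → P i := stepQ 120327 Q120327 (allL N120327 (tt N121563 (iv1 F527058)) (tt N116263 (iv0 F520209)) (tt N122538 (iv2 F532722)) (tt N118554 F520206) (tt N100897 F520207) (tt N106983 F520208) (tt N100896 (iv6 D223586)) (tt N122711 D225970))
theorem Q120329 : ∀ i, i < 120329 → P i := stepQ 120328 Q120328 (allL N120328 (tt N112949 F520212) (tt N100897 (iv0 D223587)) (tt N121081 (iv2 F524418)) (tt N117725 F520211) (tt N122613 (iv4 F533175)) (tt N117723 F520210) (tt N121090 (iv6 F524465)) (tt N112933 (iv7 F520213)))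
theorem Q120330 : ∀ i, i < 120330 → P i := stepQ 120329 Q120329 (allL N120329 (tt N100897 (iv1 D223588)) (tt N112949 F520214) (tt N112933 F520218) (tt N117627 (iv3 F520215)) (tt N122621 (iv4 F533222)) (tt N105570 (iv5 F520216)) (tt N112892 (iv6 F520217)) (tt N121081 (iv7 F524421)))
theorem Q120331 : ∀ i, i < 120331 → P i := stepQ 120330 Q120330 (allL N120330 (tt N112933 (iv1 F520223)) (tt N121081 (iv0 F524422)) (tt N112949 F520219) (tt N100901 F520220) (tt N122711 (iv4 F533760)) (tt N105452 F520221) (tt N112948 F520222) (tt N100897 (iv7 D223589)))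
theorem Q120332 : ∀ i, i < 120332 → P i := stepQ 120331 Q120331 (allL N120331 (tt N100899 (iv1 D223590)) (tt N122231 F530908) (tt N122230 F530900) (tt N119967 (iv3 F520225)) (tt N122657 (iv4 F533433)) (tt N111958 F520224) (tt N122227 (iv6 F530886)) (tt N120489 (iv7 F521039)))
theorem Q120333 : ∀ i, i < 120333 → P i := stepQ 120332 Q120332 (allL N120332 (tt N120489 (iv1 F521042)) (tt N122230 F530901) (tt N100899 (iv2 D223591)) (tt N111959 F520226) (tt N122710 (iv4 F533752)) (tt N120310 F520227) (tt N122516 (iv6 F532596)) (tt N122231 (iv7 F530906)))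
theorem Q120334 : ∀ i, i < 120334 → P i := stepQ 120333 Q120333 (allL N120333 (tt N121502 (iv1 F526726)) (tt N122154 (iv0 F530467)) (tt N122516 (iv2 F532594)) (tt N100900 F520228) (tt N118554 F520229) (tt N120294 F520230) (tt N100899 (iv6 D223592)) (tt N122708 (iv7 F533742)))
theorem Q120335 : ∀ i, i < 120335 → P i := stepQ 120334 Q120334 (allL N120334 (tt N100940 (iv1 F520234)) (tt N111962 F520235) (tt N111963 F520231) (tt N122708 (iv3 F533740)) (tt N100901 F520232) (tt N119099 F520233) (tt N122232 (iv6 F530911)) (tt N100900 (iv7 D223593)))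
theorem Q120336 : ∀ i, i < 120336 → P i := stepQ 120335 Q120335 (allL N120335 (tt N110696 F520241) (tt N110695 F520242) (tt N110231 F520236) (tt N108541 F520237) (tt N100903 (iv4 D223594)) (tt N108540 F520238) (tt N120235 F520239) (tt N110233 F520240))
theorem Q120337 : ∀ i, i < 120337 → P i := stepQ 120336 Q120336 (allL N120336 (tt N110692 F520247) (tt N109971 F520248) (tt N109969 F520243) (tt N119832 (iv3 F520249)) (tt N100905 (iv4 D223595)) (tt N119745 F520246) (tt N109966 F520244) (tt N110234 F520245))
theorem Q120338 : ∀ i, i < 120338 → P i := stepQ 120337 Q120337 (allL N120337 (tt N109986 (iv1 F520252)) (tt N100906 (iv0 D223596)) (tt N110235 (iv2 F520253)) (tt N119741 F520255) (tt N116188 F520251) (tt N119935 F520250) (tt N120461 (iv6 F520908)) (tt N110236 (iv7 F520254)))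
theorem Q120339 : ∀ i, i < 120339 → P i := stepQ 120338 Q120338 (allL N120338 (tt N100906 (iv1 D223597)) (tt N109986 F520256) (tt N110236 F520261) (tt N116950 F520262) (tt N105736 F520258) (tt N119717 (iv5 F520259)) (tt N116947 (iv6 F520260)) (tt N110235 F520257))
theorem Q120340 : ∀ i, i < 120340 → P i := stepQ 120339 Q120339 (allL N120339 (tt N121541 (iv1 F526940)) (tt N109984 (iv0 F520267)) (tt N121488 (iv2 F526643)) (tt N100906 (iv3 D223598)) (tt N100909 F520263) (tt N108089 F520264) (tt N119795 F520265) (tt N106658 F520266))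
theorem Q120341 : ∀ i, i < 120341 → P i := stepQ 120340 Q120340 (allL N120340 (tt N110780 (iv1 F520270)) (tt N100909 (iv0 D223599)) (tt N112620 (iv2 F520273)) (tt N119920 F520268) (tt N121548 (iv4 F526976)) (tt N119915 F520269) (tt N119939 (iv6 F520271)) (tt N112619 (iv7 F520272)))
theorem Q120342 : ∀ i, i < 120342 → P i := stepQ 120341 Q120341 (allL N120341 (tt N100909 (iv1 D223600)) (tt N110780 (iv0 F520279)) (tt N112619 F520277) (tt N107533 F520278) (tt N121996 (iv4 F529530)) (tt N107532 F520275) (tt N117489 (iv6 F520276)) (tt N112620 F520274))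
theorem Q120343 : ∀ i, i < 120343 → P i := stepQ 120342 Q120342 (allL N120342 (tt N112620 (iv1 F520285)) (tt N112619 F520284) (tt N100909 (iv2 D223601)) (tt N101465 F520280) (tt N121488 (iv4 F526644)) (tt N110628 F520281) (tt N119712 F520282) (tt N110780 F520283))
theorem Q120344 : ∀ i, i < 120344 → P i := stepQ 120343 Q120343 (allL N120343 (tt N119707 F520290) (tt N119708 (iv0 F520291)) (tt N101466 F520286) (tt N110781 F520287) (tt N101497 F520288) (tt N120422 (iv5 F520696)) (tt N100910 (iv6 D223602)) (tt N119932 F520289))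
theorem Q120345 : ∀ i, i < 120345 → P i := stepQ 120344 Q120344 (allL N120344 (tt N121058 (iv1 F524285)) (tt N112239 F520294) (tt N122065 (iv2 F529950)) (tt N116010 F520292) (tt N100920 (iv4 D223603)) (tt N115291 F520293) (tt N112461 F520295) (tt N122063 (iv7 F529939)))
theorem Q120346 : ∀ i, i < 120346 → P i := stepQ 120345 Q120345 (allL N120345 (tt N111048 F520300) (tt N118218 F520301) (tt N118728 F520296) (tt N118221 F520297) (tt N112461 F520298) (tt N119118 F520299) (tt N100920 (iv6 D223604)) (tt N118727 (iv7 F520302)))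
theorem Q120347 : ∀ i, i < 120347 → P i := stepQ 120346 Q120346 (allL N120346 (tt N118218 F520307) (tt N111048 F520308) (tt N118727 F520303) (tt N100923 F520304) (tt N112459 F520305) (tt N100921 (iv5 D223605)) (tt N122075 (iv6 F530012)) (tt N118728 F520306))
theorem Q120348 : ∀ i, i < 120348 → P i := stepQ 120347 Q120347 (allL N120347 (tt N119195 F520311) (tt N115039 (iv0 F520312)) (tt N122064 (iv2 F529945)) (tt N122075 (iv3 F530010)) (tt N111033 F520309) (tt N114568 F520310) (tt N100923 (iv6 D223606)) (tt N122075 (iv7 F530013)))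
theorem Q120349 : ∀ i, i < 120349 → P i := stepQ 120348 Q120348 (allL N120348 (tt N120517 F521212) (tt N120516 F521203) (tt N100928 F520313) (tt N116119 F520314) (tt N100925 (iv4 D223607)) (tt N106870 F520315) (tt N117115 (iv6 F520316)) (tt N120518 (iv7 F521217)))
theorem Q120350 : ∀ i, i < 120350 → P i := stepQ 120349 Q120349 (allL N120349 (tt N115074 F520321) (tt N115069 (iv0 F520322)) (tt N100929 F520317) (tt N101580 F520318) (tt N117115 F520319) (tt N117611 F520320) (tt N100925 (iv6 D223608)) (tt N122457 (iv7 F532232)))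
theorem Q120351 : ∀ i, i < 120351 → P i := stepQ 120350 Q120350 (allL N120350 (tt N118844 F520324) (tt N122448 (iv0 F532171)) (tt N120521 (iv2 F521230)) (tt N120757 (iv3 F522551)) (tt N100926 (iv4 D223609)) (tt N115165 F520323) (tt N120756 (iv6 F522547)) (tt N120519 (iv7 F521221)))
theorem Q120352 : ∀ i, i < 120352 → P i := stepQ 120351 Q120351 (allL N120351 (tt N108224 (iv1 F520330)) (tt N115544 (iv0 F520329)) (tt N120520 (iv2 F521225)) (tt N115542 F520325) (tt N117199 F520326) (tt N116918 F520327) (tt N100927 (iv6 D223610)) (tt N116917 F520328))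
theorem Q120353 : ∀ i, i < 120353 → P i := stepQ 120352 Q120352 (allL N120352 (tt N120518 (iv1 F521218)) (tt N100928 (iv0 D223611)) (tt N120517 (iv2 F521210)) (tt N108513 (iv3 F520333)) (tt N122040 (iv4 F529795)) (tt N115143 F520331) (tt N112279 F520332) (tt N120516 F521205))
theorem Q120354 : ∀ i, i < 120354 → P i := stepQ 120353 Q120353 (allL N120353 (tt N100928 (iv1 D223612)) (tt N120518 F521219) (tt N120516 F521204) (tt N115593 F520337) (tt N118132 F520335) (tt N115142 F520334) (tt N115545 (iv6 F520336)) (tt N120517 (iv7 F521206)))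
theorem Q120355 : ∀ i, i < 120355 → P i := stepQ 120354 Q120354 (allL N120354 (tt N107377 (iv1 F520342)) (tt N107363 (iv0 F520341)) (tt N107374 F520338) (tt N107643 F520339) (tt N121414 (iv4 F526228)) (tt N120393 (iv5 F520544)) (tt N100938 (iv6 D223613)) (tt N107375 F520340))
theorem Q120356 : ∀ i, i < 120356 → P i := stepQ 120355 Q120355 (allL N120355 (tt N121336 (iv1 F525839)) (tt N121335 F525837) (tt N119627 F520343) (tt N121082 (iv3 F524425)) (tt N100951 (iv4 D223614)) (tt N121128 (iv5 F524660)) (tt N116744 F520344) (tt N121332 (iv7 F525820)))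
theorem Q120357 : ∀ i, i < 120357 → P i := stepQ 120356 Q120356 (allL N120356 (tt N121334 (iv1 F525833)) (tt N120171 F520348) (tt N121826 (iv2 F528547)) (tt N105332 F520345) (tt N100953 (iv4 D223615)) (tt N105331 F520346) (tt N113959 (iv6 F520349)) (tt N116159 F520347))
theorem Q120358 : ∀ i, i < 120358 → P i := stepQ 120357 Q120357 (allL N120357 (tt N113612 F520354) (tt N113774 F520355) (tt N114056 F520350) (tt N112920 F520351) (tt N113959 F520352) (tt N122059 (iv5 F529914)) (tt N100953 (iv6 D223616)) (tt N114057 F520353))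
theorem Q120359 : ∀ i, i < 120359 → P i := stepQ 120358 Q120358 (allL N120358 (tt N100961 (iv1 F520359)) (tt N100958 (iv0 D223617)) (tt N121831 (iv2 F528579)) (tt N113171 (iv3 F520361)) (tt N101252 F520357) (tt N113167 F520356) (tt N113168 F520358) (tt N116746 F520360))
theorem Q120360 : ∀ i, i < 120360 → P i := stepQ 120359 Q120359 (allL N120359 (tt N117213 F520366) (tt N117212 F520367) (tt N117244 F520362) (tt N122316 (iv3 F531370)) (tt N113455 F520363) (tt N100958 (iv5 D223618)) (tt N107621 F520364) (tt N117243 F520365))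
theorem Q120361 : ∀ i, i < 120361 → P i := stepQ 120360 Q120360 (allL N120360 (tt N111835 F520372) (tt N121693 F527786) (tt N121261 (iv2 F525437)) (tt N119590 F520368) (tt N100962 F520369) (tt N107639 F520370) (tt N100961 (iv6 D223619)) (tt N107638 F520371))
theorem Q120362 : ∀ i, i < 120362 → P i := stepQ 120361 Q120361 (allL N120361 (tt N100962 (iv1 D223620)) (tt N122284 (iv0 F531178)) (tt N122132 (iv2 F530350)) (tt N113024 F520375) (tt N121621 (iv4 F527378)) (tt N120274 (iv5 F520373)) (tt N119626 (iv6 F520374)) (tt N121694 (iv7 F527792)))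
theorem Q120363 : ∀ i, i < 120363 → P i := stepQ 120362 Q120362 (allL N120362 (tt N122132 F530356) (tt N121694 (iv0 F527793)) (tt N122284 (iv2 F531173)) (tt N122528 (iv3 F532659)) (tt N107638 F520376) (tt N116101 F520377) (tt N107645 F520378) (tt N100962 (iv7 D223621)))
theorem Q120364 : ∀ i, i < 120364 → P i := stepQ 120363 Q120363 (allL N120363 (tt N108410 (iv1 F520383)) (tt N108409 F520384) (tt N108412 F520379) (tt N121271 (iv3 F525496)) (tt N100967 F520380) (tt N108382 F520381) (tt N100966 (iv6 D223622)) (tt N108381 F520382))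
theorem Q120365 : ∀ i, i < 120365 → P i := stepQ 120364 Q120364 (allL N120364 (tt N116297 (iv1 F520390)) (tt N113613 (iv0 F520389)) (tt N116295 F520385) (tt N122051 (iv3 F529862)) (tt N116815 F520386) (tt N113300 F520387) (tt N100969 (iv6 D223623)) (tt N116296 F520388))
theorem Q120366 : ∀ i, i < 120366 → P i := stepQ 120365 Q120365 (allL N120365 (tt N110249 F520394) (tt N110376 F520395) (tt N110374 F520391) (tt N122209 (iv3 F530789)) (tt N100970 (iv4 D223624)) (tt N122582 (iv5 F532978)) (tt N101085 F520392) (tt N110375 F520393))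
theorem Q120367 : ∀ i, i < 120367 → P i := stepQ 120366 Q120366 (allL N120366 (tt N101307 (iv1 F520400)) (tt N101304 F520401) (tt N112569 F520396) (tt N121938 (iv3 F529178)) (tt N100975 F520397) (tt N110610 F520398) (tt N112574 F520399) (tt N100974 (iv7 D223625)))
theorem Q120368 : ∀ i, i < 120368 → P i := stepQ 120367 Q120367 (allL N120367 (tt N101280 F520404) (tt N101279 F520405) (tt N105247 F520402) (tt N120318 F520406) (tt N100980 (iv4 D223626)) (tt N112953 F520403) (tt N122379 F531750) (tt N121104 (iv7 F524532)))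
theorem Q120369 : ∀ i, i < 120369 → P i := stepQ 120368 Q120368 (allL N120368 (tt N101279 F520410) (tt N101280 F520411) (tt N121104 (iv2 F524529)) (tt N105249 F520407) (tt N100981 (iv4 D223627)) (tt N107448 F520408) (tt N122133 (iv6 F530360)) (tt N105247 F520409))
theorem Q120370 : ∀ i, i < 120370 → P i := stepQ 120369 Q120369 (allL N120369 (tt N122155 F530473) (tt N111961 (iv0 F520416)) (tt N122379 (iv2 F531751)) (tt N100989 (iv3 D223628)) (tt N114042 F520412) (tt N113999 F520413) (tt N105247 F520414) (tt N120321 F520415))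
theorem Q120371 : ∀ i, i < 120371 → P i := stepQ 120370 Q120370 (allL N120370 (tt N120313 (iv1 F520422)) (tt N111960 (iv0 F520421)) (tt N120312 F520417) (tt N100990 (iv3 D223629)) (tt N119309 F520418) (tt N116178 F520419) (tt N122142 F530409) (tt N120311 F520420))
theorem Q120372 : ∀ i, i < 120372 → P i := stepQ 120371 Q120371 (allL N120371 (tt N112792 F520428) (tt N101493 (iv0 F520429)) (tt N112791 F520423) (tt N110873 F520424) (tt N108462 F520427) (tt N100995 (iv5 D223630)) (tt N108463 F520425) (tt N112790 F520426))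
theorem Q120373 : ∀ i, i < 120373 → P i := stepQ 120372 Q120372 (allL N120372 (tt N106889 F520434) (tt N108348 F520435) (tt N108346 F520430) (tt N121331 F525812) (tt N101003 (iv4 D223631)) (tt N119981 F520433) (tt N113159 F520431) (tt N108345 F520432))
theorem Q120374 : ∀ i, i < 120374 → P i := stepQ 120373 Q120373 (allL N120373 (tt N113784 F520439) (tt N103773 F520440) (tt N109187 F520436) (tt N121413 F526224) (tt N101014 (iv4 D223632)) (tt N103857 F520437) (tt N116245 F520441) (tt N116210 F520438))
theorem Q120375 : ∀ i, i < 120375 → P i := stepQ 120374 Q120374 (allL N120374 (tt N122162 F530516) (tt N119202 (iv0 F520446)) (tt N122452 (iv2 F532194)) (tt N113160 F520442) (tt N116245 F520443) (tt N116103 F520444) (tt N101014 (iv6 D223633)) (tt N114391 F520445))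
theorem Q120376 : ∀ i, i < 120376 → P i := stepQ 120375 Q120375 (allL N120375 (tt N115050 F520451) (tt N119605 F520452) (tt N118588 F520447) (tt N113963 F520448) (tt N107251 F520450) (tt N101041 (iv5 D223634)) (tt N101042 F520449) (tt N121264 (iv7 F525456)))
theorem Q120377 : ∀ i, i < 120377 → P i := stepQ 120376 Q120376 (allL N120376 (tt N122163 (iv1 F530521)) (tt N122530 (iv0 F532677)) (tt N118585 F520453) (tt N119371 (iv3 F520457)) (tt N101042 (iv4 D223635)) (tt N107249 F520456) (tt N107251 F520454) (tt N120323 F520455))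
theorem Q120378 : ∀ i, i < 120378 → P i := stepQ 120377 Q120377 (allL N120377 (tt N113117 F520461) (tt N104174 (iv0 F520462)) (tt N120449 (iv2 F520838)) (tt N109049 F520458) (tt N121302 (iv4 F525640)) (tt N104140 F520459) (tt N101047 (iv6 D223636)) (tt N109080 F520460))
theorem Q120379 : ∀ i, i < 120379 → P i := stepQ 120378 Q120378 (allL N120378 (tt N117520 F520467) (tt N119165 F520468) (tt N101324 F520463) (tt N117306 F520464) (tt N120435 (iv4 F520771)) (tt N101051 (iv5 D223637)) (tt N120161 F520465) (tt N101332 F520466))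
theorem Q120380 : ∀ i, i < 120380 → P i := stepQ 120379 Q120379 (allL N120379 (tt N113088 F520473) (tt N121167 (iv0 F524902)) (tt N121047 (iv2 F524213)) (tt N119115 F520469) (tt N101059 F520470) (tt N115085 F520471) (tt N101058 (iv6 D223638)) (tt N119175 F520472))
theorem Q120381 : ∀ i, i < 120381 → P i := stepQ 120380 Q120380 (allL N120380 (tt N118246 F520479) (tt N118241 (iv0 F520480)) (tt N118245 F520474) (tt N101062 F520475) (tt N104768 F520476) (tt N111546 F520477) (tt N101061 (iv6 D223639)) (tt N104767 F520478))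
theorem Q120382 : ∀ i, i < 120382 → P i := stepQ 120381 Q120381 (allL N120381 (tt N107876 F520485) (tt N117584 F520486) (tt N101385 F520481) (tt N111546 F520482) (tt N122644 (iv4 F533353)) (tt N101062 (iv5 D223640)) (tt N117564 F520483) (tt N119271 F520484))
theorem Q120383 : ∀ i, i < 120383 → P i := stepQ 120382 Q120382 (allL N120382 (tt N114685 (iv1 F520491)) (tt N101076 (iv0 D223641)) (tt N107049 (iv2 F520492)) (tt N114714 F520489) (tt N111288 F520488) (tt N114057 F520487) (tt N107011 F520490) (tt N122059 (iv7 F529915)))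
theorem Q120384 : ∀ i, i < 120384 → P i := stepQ 120383 Q120383 (allL N120383 (tt N101076 (iv1 D223642)) (tt N114685 F520493) (tt N122059 (iv2 F529912)) (tt N119589 (iv3 F520497)) (tt N109402 F520496) (tt N114056 F520495) (tt N122057 F529903) (tt N107049 F520494))
theorem Q120385 : ∀ i, i < 120385 → P i := stepQ 120384 Q120384 (allL N120384 (tt N109979 (iv1 F520503)) (tt N109826 F520502) (tt N101087 (iv2 D223643)) (tt N110614 F520498) (tt N116097 F520499) (tt N110613 F520500) (tt N121939 F529188) (tt N109978 F520501))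
theorem Q120386 : ∀ i, i < 120386 → P i := stepQ 120385 Q120385 (allL N120385 (tt N109686 F520508) (tt N113296 F520509) (tt N113295 F520504) (tt N101104 F520505) (tt N112118 F520506) (tt N122276 (iv5 F531124)) (tt N101102 (iv6 D223644)) (tt N113294 F520507))
theorem Q120387 : ∀ i, i < 120387 → P i := stepQ 120386 Q120386 (allL N120386 (tt N121353 F525929) (tt N121372 (iv0 F526010)) (tt N109935 F520510) (tt N101132 (iv3 D223645)) (tt N107062 F520511) (tt N112671 F520512) (tt N107061 F520513) (tt N109507 F520514))
theorem Q120388 : ∀ i, i < 120388 → P i := stepQ 120387 Q120387 (allL N120387 (tt N104605 F520520) (tt N103600 F520521) (tt N104602 F520515) (tt N104652 F520516) (tt N101134 (iv4 D223646)) (tt N103663 F520517) (tt N116249 F520518) (tt N104603 F520519))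
theorem Q120389 : ∀ i, i < 120389 → P i := stepQ 120388 Q120388 (allL N120388 (tt N110941 F520527) (tt N116846 F520528) (tt N118273 F520522) (tt N101149 F520523) (tt N107682 F520524) (tt N101148 (iv5 D223647)) (tt N118140 F520525) (tt N101658 F520526))
theorem Q120390 : ∀ i, i < 120390 → P i := stepQ 120389 Q120389 (allL N120389 (tt N119859 F520533) (tt N119783 F520534) (tt N119791 F520529) (tt N116189 F520530) (tt N101162 (iv4 D223648)) (tt N118235 F520531) (tt N101165 F520532) (tt N120725 (iv7 F522373)))
theorem Q120391 : ∀ i, i < 120391 → P i := stepQ 120390 Q120390 (allL N120390 (tt N120953 (iv1 F523671)) (tt N120542 (iv0 F521356)) (tt N101447 F520535) (tt N113353 F520536) (tt N101164 (iv4 D223649)) (tt N122306 (iv5 F531310)) (tt N122312 (iv6 F531350)) (tt N121800 (iv7 F528395)))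
theorem Q120392 : ∀ i, i < 120392 → P i := stepQ 120391 Q120391 (allL N120391 (tt N122536 F532714) (tt N121936 (iv0 F529167)) (tt N101448 F520537) (tt N116807 F520538) (tt N122312 (iv4 F531352)) (tt N107208 F520539) (tt N101164 (iv6 D223650)) (tt N119110 (iv7 F520540)))
theorem Q120393 : ∀ i, i < 120393 → P i := stepQ 120392 Q120392 (allL N120392 (tt N101165 (iv1 D223651)) (tt N121075 (iv0 F524383)) (tt N122198 (iv2 F530728)) (tt N122693 (iv3 F533643)) (tt N109499 F520541) (tt N122693 (iv5 F533645)) (tt N121985 F529466) (tt N122197 F530721))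
theorem Q120394 : ∀ i, i < 120394 → P i := stepQ 120393 Q120393 (allL N120393 (tt N108032 F520546) (tt N108029 (iv0 F520547)) (tt N101184 F520542) (tt N108080 F520543) (tt N121963 (iv4 F529330)) (tt N120354 F520544) (tt N101169 (iv6 D223652)) (tt N108030 F520545))
theorem Q120395 : ∀ i, i < 120395 → P i := stepQ 120394 Q120394 (allL N120394 (tt N117314 F520553) (tt N117319 F520554) (tt N117094 F520548) (tt N101183 (iv3 D223653)) (tt N117092 F520549) (tt N117869 F520550) (tt N110113 F520551) (tt N117091 F520552))
theorem Q120396 : ∀ i, i < 120396 → P i := stepQ 120395 Q120395 (allL N120395 (tt N121849 (iv1 F528684)) (tt N118746 (iv0 F520559)) (tt N121850 (iv2 F528690)) (tt N117863 F520555) (tt N118416 F520556) (tt N118324 F520557) (tt N101192 (iv6 D223654)) (tt N118284 F520558))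
theorem Q120397 : ∀ i, i < 120397 → P i := stepQ 120396 Q120396 (allL N120396 (tt N101194 (iv1 D223655)) (tt N105524 F520560) (tt N105522 F520565) (tt N101804 (iv3 F520563)) (tt N121032 (iv4 F524121)) (tt N109090 F520562) (tt N110529 (iv6 F520564)) (tt N105523 F520561))
theorem Q120398 : ∀ i, i < 120398 → P i := stepQ 120397 Q120397 (allL N120397 (tt N114373 (iv1 F520570)) (tt N101204 (iv0 D223656)) (tt N118338 (iv2 F520569)) (tt N104171 (iv3 F520572)) (tt N118043 F520567) (tt N104165 F520566) (tt N109901 F520568) (tt N104164 F520571))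
theorem Q120399 : ∀ i, i < 120399 → P i := stepQ 120398 Q120398 (allL N120398 (tt N122219 F530850) (tt N121168 (iv0 F524909)) (tt N112367 F520573) (tt N107821 F520574) (tt N101204 (iv4 D223657)) (tt N110076 F520575) (tt N118820 F520576) (tt N107834 F520577))
theorem Q120400 : ∀ i, i < 120400 → P i := stepQ 120399 Q120399 (allL N120399 (tt N113146 F520583) (tt N113145 F520584) (tt N108323 F520578) (tt N103297 F520579) (tt N101758 F520580) (tt N101205 (iv5 D223658)) (tt N103926 F520581) (tt N110280 F520582))
theorem Q120401 : ∀ i, i < 120401 → P i := stepQ 120400 Q120400 (allL N120400 (tt N106153 F520587) (tt N106152 F520588) (tt N121823 (iv2 F528528)) (tt N101221 F520585) (tt N120978 (iv4 F523828)) (tt N101220 (iv5 D223659)) (tt N122669 (iv6 F533507)) (tt N101796 F520586))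
theorem Q120402 : ∀ i, i < 120402 → P i := stepQ 120401 Q120401 (allL N120401 (tt N117619 F520591) (tt N117618 (iv0 F520592)) (tt N101268 F520589) (tt N122669 (iv3 F533506)) (tt N101798 F520590) (tt N122505 (iv5 F532528)) (tt N101221 (iv6 D223660)) (tt N119117 F520593))
theorem Q120403 : ∀ i, i < 120403 → P i := stepQ 120402 Q120402 (allL N120402 (tt N122276 F531127) (tt N122167 (iv0 F530542)) (tt N107467 F520594) (tt N101229 (iv3 D223661)) (tt N122278 (iv4 F531133)) (tt N107463 F520595) (tt N110991 F520596) (tt N112994 F520597))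
theorem Q120404 : ∀ i, i < 120404 → P i := stepQ 120403 Q120403 (allL N120403 (tt N101240 (iv1 D223662)) (tt N101244 F520598) (tt N107833 F520603) (tt N118820 (iv3 F520601)) (tt N120546 (iv4 F521372)) (tt N108150 F520600) (tt N107821 (iv6 F520602)) (tt N118693 F520599))
theorem Q120405 : ∀ i, i < 120405 → P i := stepQ 120404 Q120404 (allL N120404 (tt N107264 (iv1 F520607)) (tt N101243 (iv0 D223663)) (tt N109402 (iv2 F520606)) (tt N108420 F520605) (tt N122059 (iv4 F529913)) (tt N108416 F520604) (tt N122058 (iv6 F529911)) (tt N111288 F520608))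
theorem Q120406 : ∀ i, i < 120406 → P i := stepQ 120405 Q120405 (allL N120405 (tt N120409 (iv1 F520629)) (tt N116926 F520614) (tt N111295 F520609) (tt N114772 F520610) (tt N101243 (iv4 D223664)) (tt N113777 F520611) (tt N114771 F520612) (tt N111289 F520613))
theorem Q120407 : ∀ i, i < 120407 → P i := stepQ 120406 Q120406 (allL N120406 (tt N103166 (iv1 F520619)) (tt N115935 (iv0 F520620)) (tt N101247 (iv2 D223665)) (tt N117718 F520615) (tt N101341 F520616) (tt N122395 (iv5 F531841)) (tt N101262 F520617) (tt N117716 (iv7 F520618)))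
theorem Q120408 : ∀ i, i < 120408 → P i := stepQ 120407 Q120407 (allL N120407 (tt N115935 (iv1 F520625)) (tt N103166 F520626) (tt N117716 F520621) (tt N101249 F520622) (tt N101342 F520623) (tt N122396 (iv5 F531846)) (tt N117720 F520624) (tt N101247 (iv7 D223666)))
theorem Q120409 : ∀ i, i < 120409 → P i := stepQ 120408 Q120408 (allL N120408 (tt N122478 F532368) (tt N122482 (iv0 F532395)) (tt N122505 (iv2 F532527)) (tt N122151 (iv3 F530446)) (tt N113570 F520627) (tt N101268 F520628) (tt N101248 (iv6 D223667)) (tt N122151 (iv7 F530448)))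
theorem Q120410 : ∀ i, i < 120410 → P i := stepQ 120409 Q120409 (allL N120409 (tt N101251 (iv1 D223668)) (tt N120405 F520629) (tt N122058 (iv2 F529905)) (tt N104060 (iv3 F520630)) (tt N122057 (iv4 F529901)) (tt N110176 (iv5 F520632)) (tt N109402 (iv6 F520631)) (tt N121195 (iv7 F525070)))
theorem Q120411 : ∀ i, i < 120411 → P i := stepQ 120410 Q120410 (allL N120410 (tt N120456 (iv1 F520887)) (tt N120455 (iv0 F520879)) (tt N101263 F520633) (tt N121823 (iv3 F528529)) (tt N101260 (iv4 D223669)) (tt N101262 F520636) (tt N119117 F520634) (tt N101797 F520635))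
theorem Q120412 : ∀ i, i < 120412 → P i := stepQ 120411 Q120411 (allL N120411 (tt N120455 (iv1 F520880)) (tt N120456 (iv0 F520886)) (tt N101797 F520637) (tt N101269 F520638) (tt N101261 (iv4 D223670)) (tt N101264 F520639) (tt N101269 F520640) (tt N101263 F520641))
theorem Q120413 : ∀ i, i < 120413 → P i := stepQ 120412 Q120412 (allL N120412 (tt N101797 (iv1 F520645)) (tt N101263 (iv0 D223671)) (tt N120456 (iv2 F520881)) (tt N101402 F520644) (tt N120284 F520643) (tt N119162 F520642) (tt N110481 (iv6 F520646)) (tt N120455 (iv7 F520877)))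
theorem Q120414 : ∀ i, i < 120414 → P i := stepQ 120413 Q120413 (allL N120413 (tt N101263 (iv1 D223672)) (tt N101797 F520647) (tt N120455 (iv2 F520874)) (tt N101405 (iv3 F520650)) (tt N120285 F520649) (tt N120163 F520648) (tt N110485 (iv6 F520651)) (tt N120456 (iv7 F520885)))
theorem Q120415 : ∀ i, i < 120415 → P i := stepQ 120414 Q120414 (allL N120414 (tt N119117 (iv1 F520657)) (tt N101268 (iv0 D223673)) (tt N117619 (iv2 F520656)) (tt N113874 F520654) (tt N110890 F520653) (tt N115908 F520652) (tt N118682 F520655) (tt N117618 F520658))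
theorem Q120416 : ∀ i, i < 120416 → P i := stepQ 120415 Q120415 (allL N120415 (tt N119962 F520663) (tt N121503 F526730) (tt N119969 F520659) (tt N120302 F520660) (tt N108002 F520661) (tt N120315 F520662) (tt N101286 (iv6 D223674)) (tt N120488 (iv7 F521033)))
theorem Q120417 : ∀ i, i < 120417 → P i := stepQ 120416 Q120416 (allL N120416 (tt N119969 F520666) (tt N120488 (iv0 F521034)) (tt N121503 (iv2 F526727)) (tt N101287 (iv3 D223675)) (tt N119963 F520664) (tt N122154 (iv5 F530466)) (tt N120974 (iv6 F523802)) (tt N119962 F520665))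
theorem Q120418 : ∀ i, i < 120418 → P i := stepQ 120417 Q120417 (allL N120417 (tt N117372 F520671) (tt N112545 (iv0 F520672)) (tt N113383 F520667) (tt N113518 F520668) (tt N101305 F520669) (tt N111537 F520670) (tt N101304 (iv6 D223676)) (tt N113386 (iv7 F520673)))
theorem Q120419 : ∀ i, i < 120419 → P i := stepQ 120418 Q120418 (allL N120418 (tt N106688 F520677) (tt N106685 (iv0 F520678)) (tt N113514 F520674) (tt N101307 (iv3 D223677)) (tt N121386 (iv4 F526079)) (tt N119691 F520675) (tt N117440 F520679) (tt N119762 F520676))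
theorem Q120420 : ∀ i, i < 120420 → P i := stepQ 120419 Q120419 (allL N120419 (tt N121174 F524944) (tt N119756 (iv0 F520683)) (tt N120434 (iv2 F520763)) (tt N117440 F520680) (tt N101308 F520681) (tt N106469 F520682) (tt N101307 (iv6 D223678)) (tt N122603 (iv7 F533114)))
theorem Q120421 : ∀ i, i < 120421 → P i := stepQ 120420 Q120420 (allL N120420 (tt N118765 (iv1 F520687)) (tt N105666 F520688) (tt N113388 F520684) (tt N120187 F520685) (tt N122603 (iv4 F533112)) (tt N122052 (iv5 F529870)) (tt N113192 F520686) (tt N101308 (iv7 D223679)))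
theorem Q120422 : ∀ i, i < 120422 → P i := stepQ 120421 Q120421 (allL N120421 (tt N110723 F520693) (tt N120472 F520958) (tt N119732 F520689) (tt N101309 (iv3 D223680)) (tt N119902 F520690) (tt N119728 F520691) (tt N122067 (iv6 F529964)) (tt N119734 F520692))
theorem Q120423 : ∀ i, i < 120423 → P i := stepQ 120422 Q120422 (allL N120422 (tt N122677 F533550) (tt N111367 (iv0 F520698)) (tt N120436 (iv2 F520775)) (tt N110825 F520694) (tt N107852 F520695) (tt N120343 F520696) (tt N101311 (iv6 D223681)) (tt N119903 F520697))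
theorem Q120424 : ∀ i, i < 120424 → P i := stepQ 120423 Q120423 (allL N120423 (tt N101316 (iv1 D223682)) (tt N106233 F520699) (tt N107258 F520704) (tt N105573 (iv3 F520703)) (tt N114277 F520702) (tt N106230 F520701) (tt N114276 F520705) (tt N107255 F520700))
theorem Q120425 : ∀ i, i < 120425 → P i := stepQ 120424 Q120424 (allL N120424 (tt N118270 F520710) (tt N117492 (iv0 F520711)) (tt N120181 F520706) (tt N122204 (iv3 F530756)) (tt N101319 F520707) (tt N118216 F520708) (tt N101318 (iv6 D223683)) (tt N105655 F520709))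
theorem Q120426 : ∀ i, i < 120426 → P i := stepQ 120425 Q120425 (allL N120425 (tt N119114 F520716) (tt N101382 (iv0 F520717)) (tt N119177 F520712) (tt N101321 (iv3 D223684)) (tt N105513 F520713) (tt N121760 (iv5 F528150)) (tt N114747 F520714) (tt N119033 F520715))
theorem Q120427 : ∀ i, i < 120427 → P i := stepQ 120426 Q120426 (allL N120426 (tt N118138 F520722) (tt N101659 F520723) (tt N112481 F520718) (tt N121760 (iv3 F528148)) (tt N110685 F520719) (tt N101321 (iv5 D223685)) (tt N110683 F520720) (tt N118226 F520721))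
theorem Q120428 : ∀ i, i < 120428 → P i := stepQ 120427 Q120427 (allL N120427 (tt N101332 (iv1 F520727)) (tt N101324 (iv0 D223686)) (tt N117520 (iv2 F520726)) (tt N121818 (iv3 F528496)) (tt N110726 F520725) (tt N101333 F520724) (tt N121619 (iv6 F527366)) (tt N119165 F520728))
theorem Q120429 : ∀ i, i < 120429 → P i := stepQ 120428 Q120428 (allL N120428 (tt N101371 F520733) (tt N101379 F520734) (tt N101377 F520729) (tt N121258 (iv3 F525418)) (tt N114712 F520730) (tt N116824 F520731) (tt N101328 (iv6 D223687)) (tt N101376 F520732))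
theorem Q120430 : ∀ i, i < 120430 → P i := stepQ 120429 Q120429 (allL N120429 (tt N105738 (iv1 F520738)) (tt N101331 (iv0 D223688)) (tt N118404 (iv2 F520739)) (tt N101384 F520736) (tt N122365 (iv4 F531661)) (tt N118402 F520735) (tt N119033 F520737) (tt N120487 (iv7 F521029)))
theorem Q120431 : ∀ i, i < 120431 → P i := stepQ 120430 Q120430 (allL N120430 (tt N101331 (iv1 D223689)) (tt N105738 F520740) (tt N120487 (iv2 F521026)) (tt N118407 (iv3 F520743)) (tt N106255 F520742) (tt N118405 (iv5 F520744)) (tt N114727 F520745) (tt N118404 F520741))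
theorem Q120432 : ∀ i, i < 120432 → P i := stepQ 120431 Q120431 (allL N120431 (tt N119185 F520750) (tt N119188 (iv0 F520751)) (tt N119187 F520746) (tt N101333 (iv3 D223690)) (tt N120013 F520747) (tt N121818 (iv5 F528498)) (tt N110486 F520748) (tt N119186 F520749))
theorem Q120433 : ∀ i, i < 120433 → P i := stepQ 120432 Q120432 (allL N120432 (tt N105037 F520756) (tt N113851 (iv0 F520757)) (tt N101338 F520752) (tt N120061 F520753) (tt N121682 (iv4 F527715)) (tt N113853 F520754) (tt N101335 (iv6 D223691)) (tt N113852 F520755))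
theorem Q120434 : ∀ i, i < 120434 → P i := stepQ 120433 Q120433 (allL N120433 (tt N112577 F520761) (tt N112575 F520762) (tt N112621 F520758) (tt N121326 (iv3 F525775)) (tt N101345 (iv4 D223692)) (tt N122578 (iv5 F532951)) (tt N101346 F520759) (tt N101433 F520760))
theorem Q120435 : ∀ i, i < 120435 → P i := stepQ 120434 Q120434 (allL N120434 (tt N121117 F524595) (tt N119778 (iv0 F520767)) (tt N120419 F520763) (tt N107560 F520764) (tt N101353 F520765) (tt N116619 F520766) (tt N101352 (iv6 D223693)) (tt N121377 (iv7 F526033)))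
theorem Q120436 : ∀ i, i < 120436 → P i := stepQ 120435 Q120435 (allL N120435 (tt N101357 (iv1 D223694)) (tt N112647 F520768) (tt N112530 (iv2 F520772)) (tt N112610 (iv3 F520774)) (tt N120378 F520771) (tt N105297 F520770) (tt N120003 (iv6 F520773)) (tt N112648 F520769))
theorem Q120437 : ∀ i, i < 120437 → P i := stepQ 120436 Q120436 (allL N120436 (tt N121610 (iv1 F527323)) (tt N120533 (iv0 F521304)) (tt N120422 F520775) (tt N119936 F520776) (tt N119085 F520777) (tt N101466 F520778) (tt N101357 (iv6 D223695)) (tt N121603 (iv7 F527280)))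
theorem Q120438 : ∀ i, i < 120438 → P i := stepQ 120437 Q120437 (allL N120437 (tt N120917 (iv1 F523465)) (tt N101364 (iv0 D223696)) (tt N119985 (iv2 F520783)) (tt N114936 F520781) (tt N104719 F520780) (tt N107365 F520779) (tt N104718 F520782) (tt N118626 F520784))
theorem Q120439 : ∀ i, i < 120439 → P i := stepQ 120438 Q120438 (allL N120438 (tt N101378 (iv1 D223697)) (tt N121196 (iv0 F525077)) (tt N121018 (iv2 F524039)) (tt N113609 (iv3 F520788)) (tt N113920 F520787) (tt N114653 F520786) (tt N113954 (iv6 F520789)) (tt N113606 F520785))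
theorem Q120440 : ∀ i, i < 120440 → P i := stepQ 120439 Q120439 (allL N120439 (tt N121018 (iv1 F524045)) (tt N113606 (iv0 F520793)) (tt N121196 (iv2 F525073)) (tt N101391 F520790) (tt N117299 F520791) (tt N101379 F520792) (tt N122138 (iv6 F530386)) (tt N101378 (iv7 D223698)))
theorem Q120441 : ∀ i, i < 120441 → P i := stepQ 120440 Q120440 (allL N120440 (tt N119177 (iv1 F520797)) (tt N119033 F520798) (tt N101382 F520794) (tt N118245 F520795) (tt N121132 (iv4 F524684)) (tt N120780 (iv5 F522669)) (tt N101381 (iv6 D223699)) (tt N119114 F520796))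
theorem Q120442 : ∀ i, i < 120442 → P i := stepQ 120441 Q120441 (allL N120441 (tt N121818 F528501) (tt N108317 (iv0 F520803)) (tt N120780 (iv2 F522666)) (tt N101385 F520799) (tt N119014 F520802) (tt N101382 (iv5 D223700)) (tt N120162 F520800) (tt N119012 F520801))
theorem Q120443 : ∀ i, i < 120443 → P i := stepQ 120442 Q120442 (allL N120442 (tt N107871 F520805) (tt N118327 F520806) (tt N122644 (iv2 F533352)) (tt N121461 F526502) (tt N101385 (iv4 D223701)) (tt N122641 (iv5 F533335)) (tt N109575 F520804) (tt N122648 (iv7 F533382)))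
theorem Q120444 : ∀ i, i < 120444 → P i := stepQ 120443 Q120443 (allL N120443 (tt N117584 (iv1 F520811)) (tt N107876 F520812) (tt N119271 F520807) (tt N119012 F520808) (tt N122648 (iv4 F533381)) (tt N101386 F520809) (tt N112812 F520810) (tt N101385 (iv7 D223702)))
theorem Q120445 : ∀ i, i < 120445 → P i := stepQ 120444 Q120444 (allL N120444 (tt N118588 (iv1 F520816)) (tt N121264 F525458) (tt N119605 F520813) (tt N101389 (iv3 D223703)) (tt N121571 (iv4 F527091)) (tt N107378 F520814) (tt N121230 (iv6 F525262)) (tt N115050 F520815))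
theorem Q120446 : ∀ i, i < 120446 → P i := stepQ 120445 Q120445 (allL N120445 (tt N114002 F520820) (tt N114001 (iv0 F520821)) (tt N114003 F520817) (tt N121230 (iv3 F525261)) (tt N122143 (iv4 F530411)) (tt N117018 F520818) (tt N101389 (iv6 D223704)) (tt N112036 F520819))
theorem Q120447 : ∀ i, i < 120447 → P i := stepQ 120446 Q120446 (allL N120446 (tt N101390 (iv1 D223705)) (tt N122135 F530369) (tt N120319 (iv2 F520824)) (tt N122018 (iv3 F529664)) (tt N107444 F520823) (tt N122658 (iv5 F533438)) (tt N120247 (iv6 F520825)) (tt N116179 F520822))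
theorem Q120448 : ∀ i, i < 120448 → P i := stepQ 120447 Q120447 (allL N120447 (tt N120319 (iv1 F520829)) (tt N116179 F520830) (tt N122135 (iv2 F530367)) (tt N116183 F520826) (tt N101391 F520827) (tt N116182 F520828) (tt N122141 (iv6 F530400)) (tt N101390 (iv7 D223706)))
theorem Q120449 : ∀ i, i < 120449 → P i := stepQ 120448 Q120448 (allL N120448 (tt N114336 (iv1 F520837)) (tt N101392 (iv0 D223707)) (tt N106419 (iv2 F520835)) (tt N115040 F520833) (tt N106418 F520832) (tt N105224 F520831) (tt N105670 F520834) (tt N109891 F520836))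
theorem Q120450 : ∀ i, i < 120450 → P i := stepQ 120449 Q120449 (allL N120449 (tt N109858 F520842) (tt N105888 F520843) (tt N120377 F520838) (tt N113694 F520839) (tt N116401 F520841) (tt N101392 (iv5 D223708)) (tt N104919 F520840) (tt N114598 F520844))
theorem Q120451 : ∀ i, i < 120451 → P i := stepQ 120450 Q120450 (allL N120450 (tt N109891 (iv1 F520850)) (tt N106419 F520851) (tt N114336 F520845) (tt N114602 F520846) (tt N101394 F520847) (tt N114598 F520848) (tt N106392 F520849) (tt N101392 (iv7 D223709)))
theorem Q120452 : ∀ i, i < 120452 → P i := stepQ 120451 Q120451 (allL N120451 (tt N101395 (iv1 D223710)) (tt N105630 F520852) (tt N116147 F520857) (tt N101407 (iv3 F520856)) (tt N105733 F520855) (tt N103591 F520854) (tt N113643 F520858) (tt N101404 F520853))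
theorem Q120453 : ∀ i, i < 120453 → P i := stepQ 120452 Q120452 (allL N120452 (tt N116148 (iv1 F520862)) (tt N101396 (iv0 D223711)) (tt N114568 (iv2 F520861)) (tt N122634 (iv3 F533296)) (tt N113878 F520859) (tt N122064 (iv5 F529947)) (tt N119190 F520860) (tt N114570 F520863))
theorem Q120454 : ∀ i, i < 120454 → P i := stepQ 120453 Q120453 (allL N120453 (tt N105557 F520869) (tt N105399 F520870) (tt N105563 F520864) (tt N101413 (iv3 D223712)) (tt N114672 F520865) (tt N113240 F520866) (tt N118190 F520867) (tt N105562 F520868))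
theorem Q120455 : ∀ i, i < 120455 → P i := stepQ 120454 Q120454 (allL N120454 (tt N120984 (iv1 F523864)) (tt N120978 (iv0 F523829)) (tt N120853 (iv2 F523091)) (tt N104580 F520871) (tt N101414 (iv4 D223713)) (tt N104579 F520872) (tt N117471 F520873) (tt N120899 (iv7 F523361)))
theorem Q120456 : ∀ i, i < 120456 → P i := stepQ 120455 Q120455 (allL N120455 (tt N120410 F520879) (tt N120411 F520880) (tt N120413 F520874) (tt N105561 F520875) (tt N101417 (iv4 D223714)) (tt N110192 F520878) (tt N117553 F520876) (tt N120412 F520877))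
theorem Q120457 : ∀ i, i < 120457 → P i := stepQ 120456 Q120456 (allL N120456 (tt N120411 F520886) (tt N120410 F520887) (tt N120412 F520881) (tt N105374 F520882) (tt N101421 (iv4 D223715)) (tt N105372 F520883) (tt N103087 F520884) (tt N120413 F520885))
theorem Q120458 : ∀ i, i < 120458 → P i := stepQ 120457 Q120457 (allL N120457 (tt N113976 F520892) (tt N116737 F520893) (tt N114491 F520888) (tt N122454 (iv3 F532209)) (tt N101430 (iv4 D223716)) (tt N114696 F520891) (tt N117190 F520889) (tt N107324 F520890))
theorem Q120459 : ∀ i, i < 120459 → P i := stepQ 120458 Q120458 (allL N120458 (tt N121629 (iv1 F527433)) (tt N121628 (iv0 F527426)) (tt N121586 F527179) (tt N122008 (iv3 F529605)) (tt N101431 (iv4 D223717)) (tt N121874 (iv5 F528839)) (tt N122196 (iv6 F530714)) (tt N107329 F520894))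
theorem Q120460 : ∀ i, i < 120460 → P i := stepQ 120459 Q120459 (allL N120459 (tt N112621 (iv1 F520897)) (tt N101433 (iv0 D223718)) (tt N112575 (iv2 F520896)) (tt N112577 F520900) (tt N112522 F520895) (tt N121381 (iv5 F526049)) (tt N113398 (iv6 F520899)) (tt N112577 F520898))
theorem Q120461 : ∀ i, i < 120461 → P i := stepQ 120460 Q120460 (allL N120460 (tt N121513 (iv1 F526790)) (tt N121857 (iv0 F528737)) (tt N106626 F520901) (tt N117165 F520902) (tt N122562 (iv4 F532866)) (tt N101433 (iv5 D223719)) (tt N122577 (iv6 F532945)) (tt N122578 (iv7 F532950)))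
theorem Q120462 : ∀ i, i < 120462 → P i := stepQ 120461 Q120461 (allL N120461 (tt N101434 (iv1 D223720)) (tt N101465 F520903) (tt N101463 F520907) (tt N119715 (iv3 F520905)) (tt N122208 (iv4 F530783)) (tt N107545 (iv5 F520906)) (tt N120337 F520908) (tt N101464 F520904))
theorem Q120463 : ∀ i, i < 120463 → P i := stepQ 120462 Q120462 (allL N120462 (tt N113748 F520909) (tt N121389 (iv0 F526095)) (tt N121866 (iv2 F528791)) (tt N121959 (iv3 F529304)) (tt N101435 (iv4 D223721)) (tt N122691 (iv5 F533635)) (tt N120097 (iv6 F520910)) (tt N121980 (iv7 F529435)))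
theorem Q120464 : ∀ i, i < 120464 → P i := stepQ 120463 Q120463 (allL N120463 (tt N110794 (iv1 F520915)) (tt N122285 (iv0 F531185)) (tt N117245 F520911) (tt N110364 F520912) (tt N120097 F520913) (tt N120089 F520914) (tt N101435 (iv6 D223722)) (tt N121867 (iv7 F528799)))
theorem Q120465 : ∀ i, i < 120465 → P i := stepQ 120464 Q120464 (allL N120464 (tt N105164 F520918) (tt N116195 F520919) (tt N116103 F520916) (tt N113343 F520917) (tt N121460 (iv4 F526498)) (tt N122452 (iv5 F532197)) (tt N101436 (iv6 D223723)) (tt N116194 F520920))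
theorem Q120466 : ∀ i, i < 120466 → P i := stepQ 120465 Q120465 (allL N120465 (tt N121119 F524606) (tt N121876 (iv0 F528855)) (tt N121838 (iv2 F528618)) (tt N101437 (iv3 D223724)) (tt N101441 F520921) (tt N117239 F520923) (tt N117494 F520922) (tt N122201 (iv7 F530739)))
theorem Q120467 : ∀ i, i < 120467 → P i := stepQ 120466 Q120466 (allL N120466 (tt N121943 (iv1 F529215)) (tt N112559 (iv0 F520928)) (tt N121883 (iv2 F528888)) (tt N117239 F520924) (tt N119948 F520925) (tt N101437 (iv5 D223725)) (tt N110785 F520926) (tt N107668 F520927))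
theorem Q120468 : ∀ i, i < 120468 → P i := stepQ 120467 Q120467 (allL N120467 (tt N110053 F520934) (tt N118605 F520935) (tt N117072 F520929) (tt N119775 F520930) (tt N101439 (iv4 D223726)) (tt N117069 F520931) (tt N117830 F520932) (tt N111363 F520933))
theorem Q120469 : ∀ i, i < 120469 → P i := stepQ 120468 Q120468 (allL N120468 (tt N110650 F520939) (tt N110821 F520940) (tt N110356 F520936) (tt N112598 F520937) (tt N101440 (iv4 D223727)) (tt N121968 (iv5 F529362)) (tt N121839 F528627) (tt N110820 F520938))
theorem Q120470 : ∀ i, i < 120470 → P i := stepQ 120469 Q120469 (allL N120469 (tt N106657 F520944) (tt N119795 (iv0 F520945)) (tt N119797 F520941) (tt N101447 (iv3 D223728)) (tt N101449 F520942) (tt N120216 F520946) (tt N122306 F531313) (tt N118238 F520943))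
theorem Q120471 : ∀ i, i < 120471 → P i := stepQ 120470 Q120470 (allL N120470 (tt N122307 (iv1 F531321)) (tt N117252 (iv0 F520951)) (tt N122306 (iv2 F531314)) (tt N120216 F520947) (tt N110537 F520949) (tt N101447 (iv5 D223729)) (tt N119797 F520950) (tt N119816 F520948))
theorem Q120472 : ∀ i, i < 120472 → P i := stepQ 120471 Q120471 (allL N120471 (tt N121942 (iv1 F529208)) (tt N113431 (iv0 F520954)) (tt N122312 (iv2 F531348)) (tt N122306 F531312) (tt N101448 F520952) (tt N113353 F520953) (tt N101447 (iv6 D223730)) (tt N122311 (iv7 F531344)))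
theorem Q120473 : ∀ i, i < 120473 → P i := stepQ 120472 Q120472 (allL N120472 (tt N120421 (iv1 F520958)) (tt N101460 (iv0 D223731)) (tt N106924 (iv2 F520957)) (tt N120096 F520956) (tt N106923 F520959) (tt N112611 F520955) (tt N106924 (iv6 F520960)) (tt N121868 (iv7 F528805)))
theorem Q120474 : ∀ i, i < 120474 → P i := stepQ 120473 Q120473 (allL N120473 (tt N122695 (iv1 F533656)) (tt N122576 (iv0 F532941)) (tt N122587 (iv2 F533008)) (tt N109503 F520961) (tt N101460 (iv4 D223732)) (tt N118351 F520962) (tt N122578 F532954) (tt N122584 (iv7 F532992)))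
theorem Q120475 : ∀ i, i < 120475 → P i := stepQ 120474 Q120474 (allL N120474 (tt N121878 F528865) (tt N116627 (iv0 F520965)) (tt N121837 (iv2 F528613)) (tt N101462 F520963) (tt N122578 (iv4 F532952)) (tt N107787 F520964) (tt N101460 (iv6 D223733)) (tt N122562 (iv7 F532867)))
theorem Q120476 : ∀ i, i < 120476 → P i := stepQ 120475 Q120475 (allL N120475 (tt N113408 (iv1 F520970)) (tt N113393 F520971) (tt N113407 F520966) (tt N122562 (iv3 F532865)) (tt N112550 F520967) (tt N117490 F520968) (tt N119090 F520969) (tt N101462 (iv7 D223734)))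
theorem Q120477 : ∀ i, i < 120477 → P i := stepQ 120476 Q120476 (allL N120476 (tt N120192 F520976) (tt N122209 (iv0 F530793)) (tt N122208 (iv2 F530781)) (tt N114717 F520972) (tt N101463 (iv4 D223735)) (tt N110762 F520975) (tt N116383 F520973) (tt N117214 F520974))
theorem Q120478 : ∀ i, i < 120478 → P i := stepQ 120477 Q120477 (allL N120477 (tt N122209 (iv1 F530794)) (tt N120192 (iv0 F520980)) (tt N117214 F520977) (tt N113530 (iv3 F520981)) (tt N101464 (iv4 D223736)) (tt N110759 F520978) (tt N113528 F520979) (tt N122208 (iv7 F530785)))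
theorem Q120479 : ∀ i, i < 120479 → P i := stepQ 120478 Q120478 (allL N120478 (tt N112029 F520987) (tt N108804 F520988) (tt N116761 F520982) (tt N107257 F520983) (tt N101472 (iv4 D223737)) (tt N104033 F520984) (tt N104312 F520985) (tt N116515 F520986))
theorem Q120480 : ∀ i, i < 120480 → P i := stepQ 120479 Q120479 (allL N120479 (tt N101479 (iv1 F520993)) (tt N101478 F520994) (tt N101481 F520989) (tt N114685 F520990) (tt N120914 (iv4 F523441)) (tt N114684 F520991) (tt N105969 F520992) (tt N101474 (iv7 D223738)))
theorem Q120481 : ∀ i, i < 120481 → P i := stepQ 120480 Q120480 (allL N120480 (tt N120914 F523445) (tt N101477 (iv0 D223739)) (tt N120819 (iv2 F522900)) (tt N120831 (iv3 F522971)) (tt N121819 (iv4 F528503)) (tt N120624 (iv5 F522134)) (tt N122289 F531213) (tt N120921 (iv7 F523484)))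
theorem Q120482 : ∀ i, i < 120482 → P i := stepQ 120481 Q120481 (allL N120481 (tt N101477 (iv1 D223740)) (tt N120914 (iv0 F523444)) (tt N120921 (iv2 F523489)) (tt N104612 (iv3 F520997)) (tt N121258 (iv4 F525419)) (tt N104611 F520996) (tt N103699 (iv6 F520995)) (tt N120819 (iv7 F522902)))
theorem Q120483 : ∀ i, i < 120483 → P i := stepQ 120482 Q120482 (allL N120482 (tt N119655 F521000) (tt N116877 (iv0 F521001)) (tt N107088 F520998) (tt N120868 F523179) (tt N101478 (iv4 D223741)) (tt N119664 F521002) (tt N106091 F520999) (tt N120870 (iv7 F523189)))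
theorem Q120484 : ∀ i, i < 120484 → P i := stepQ 120483 Q120483 (allL N120483 (tt N106396 F521008) (tt N106398 F521007) (tt N107089 F521003) (tt N106500 F521004) (tt N121887 (iv4 F528912)) (tt N101478 (iv5 D223742)) (tt N105272 F521005) (tt N120094 F521006))
theorem Q120485 : ∀ i, i < 120485 → P i := stepQ 120484 Q120484 (allL N120484 (tt N116877 F521013) (tt N119655 (iv0 F521014)) (tt N120870 (iv2 F523186)) (tt N109177 F521009) (tt N101479 (iv4 D223743)) (tt N109176 F521012) (tt N104486 F521010) (tt N107088 F521011))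
theorem Q120486 : ∀ i, i < 120486 → P i := stepQ 120485 Q120485 (allL N120485 (tt N116730 (iv1 F521020)) (tt N101483 (iv0 D223744)) (tt N115099 (iv2 F521019)) (tt N101786 F521017) (tt N105648 F521016) (tt N113025 F521015) (tt N105647 F521018) (tt N101781 F521021))
theorem Q120487 : ∀ i, i < 120487 → P i := stepQ 120486 Q120486 (allL N120486 (tt N112890 F521024) (tt N107472 (iv0 F521025)) (tt N121621 F527381) (tt N101485 F521022) (tt N122132 (iv4 F530354)) (tt N101483 (iv5 D223745)) (tt N105239 F521023) (tt N121622 (iv7 F527385)))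
theorem Q120488 : ∀ i, i < 120488 → P i := stepQ 120487 Q120487 (allL N120487 (tt N116366 F521030) (tt N116367 (iv0 F521031)) (tt N120430 F521026) (tt N101484 (iv3 D223746)) (tt N113873 F521027) (tt N121328 (iv5 F525788)) (tt N113872 F521028) (tt N120429 F521029))
theorem Q120489 : ∀ i, i < 120489 → P i := stepQ 120488 Q120488 (allL N120488 (tt N120416 F521034) (tt N107381 F521035) (tt N121625 (iv2 F527404)) (tt N122133 (iv3 F530358)) (tt N101485 (iv4 D223747)) (tt N122518 (iv5 F532605)) (tt N105249 F521032) (tt N120415 F521033))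
theorem Q120490 : ∀ i, i < 120490 → P i := stepQ 120489 Q120489 (allL N120489 (tt N112788 F521041) (tt N120332 F521042) (tt N118559 F521036) (tt N105140 F521037) (tt N118551 F521040) (tt N101490 (iv5 D223748)) (tt N118559 F521038) (tt N120331 F521039))
theorem Q120491 : ∀ i, i < 120491 → P i := stepQ 120490 Q120490 (allL N120490 (tt N112791 (iv1 F521049)) (tt N112790 F521048) (tt N101493 (iv2 D223749)) (tt N117377 F521043) (tt N105192 F521044) (tt N117377 F521045) (tt N105191 F521046) (tt N112792 F521047))
theorem Q120492 : ∀ i, i < 120492 → P i := stepQ 120491 Q120491 (allL N120491 (tt N102331 F521055) (tt N102336 F521056) (tt N102334 F521050) (tt N101500 F521051) (tt N114965 F521052) (tt N101499 (iv5 D223750)) (tt N113147 F521053) (tt N101690 F521054))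
theorem Q120493 : ∀ i, i < 120493 → P i := stepQ 120492 Q120492 (allL N120492 (tt N120970 F523780) (tt N103326 (iv0 F521062)) (tt N101719 F521057) (tt N113147 F521058) (tt N101706 F521059) (tt N102295 F521060) (tt N101500 (iv6 D223751)) (tt N119645 F521061))
theorem Q120494 : ∀ i, i < 120494 → P i := stepQ 120493 Q120493 (allL N120493 (tt N117251 F521067) (tt N112579 F521068) (tt N112615 F521063) (tt N110567 F521069) (tt N101505 (iv4 D223752)) (tt N106582 F521066) (tt N118231 F521064) (tt N112618 F521065))
theorem Q120495 : ∀ i, i < 120495 → P i := stepQ 120494 Q120494 (allL N120494 (tt N112579 F521073) (tt N117251 F521074) (tt N112618 F521070) (tt N106667 F521075) (tt N101506 (iv4 D223753)) (tt N119767 F521071) (tt N121485 F526635) (tt N112615 F521072))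
theorem Q120496 : ∀ i, i < 120496 → P i := stepQ 120495 Q120495 (allL N120495 (tt N115348 F521081) (tt N110995 F521082) (tt N112535 F521076) (tt N120205 F521077) (tt N118926 F521078) (tt N101507 (iv5 D223754)) (tt N107753 F521079) (tt N112533 F521080))
theorem Q120497 : ∀ i, i < 120497 → P i := stepQ 120496 Q120496 (allL N120496 (tt N117787 (iv1 F521088)) (tt N106120 (iv0 F521089)) (tt N117612 F521083) (tt N117894 F521084) (tt N101530 F521085) (tt N118497 F521086) (tt N101529 (iv6 D223755)) (tt N117609 (iv7 F521087)))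
theorem Q120498 : ∀ i, i < 120498 → P i := stepQ 120497 Q120497 (allL N120497 (tt N121970 (iv1 F529375)) (tt N119833 F521092) (tt N122577 F532946) (tt N106627 F521090) (tt N122296 (iv4 F531251)) (tt N101532 (iv5 D223756)) (tt N106626 F521091) (tt N122013 (iv7 F529635)))
theorem Q120499 : ∀ i, i < 120499 → P i := stepQ 120498 Q120498 (allL N120498 (tt N101535 (iv1 D223757)) (tt N101963 F521093) (tt N111434 F521098) (tt N111436 (iv3 F521096)) (tt N119588 F521099) (tt N111349 F521095) (tt N111434 (iv6 F521097)) (tt N118178 F521094))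
theorem Q120500 : ∀ i, i < 120500 → P i := stepQ 120499 Q120499 (allL N120499 (tt N122426 (iv1 F532036)) (tt N119670 F521104) (tt N118741 F521100) (tt N118179 F521101) (tt N101535 (iv4 D223758)) (tt N119585 F521103) (tt N118186 (iv6 F521105)) (tt N118179 F521102))
theorem Q120501 : ∀ i, i < 120501 → P i := stepQ 120500 Q120500 (allL N120500 (tt N118183 F521111) (tt N119516 (iv0 F521112)) (tt N108200 F521106) (tt N101536 F521107) (tt N118186 F521108) (tt N112827 F521109) (tt N101535 (iv6 D223759)) (tt N108174 F521110))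
theorem Q120502 : ∀ i, i < 120502 → P i := stepQ 120501 Q120501 (allL N120501 (tt N105874 F521118) (tt N111618 (iv0 F521119)) (tt N103337 F521113) (tt N101538 (iv3 D223760)) (tt N111477 F521114) (tt N118050 F521115) (tt N103233 F521116) (tt N118698 F521117))
theorem Q120503 : ∀ i, i < 120503 → P i := stepQ 120502 Q120502 (allL N120502 (tt N112459 F521124) (tt N112461 F521125) (tt N108610 F521120) (tt N115467 F521121) (tt N101547 (iv4 D223761)) (tt N108602 F521123) (tt N108603 (iv6 F521126)) (tt N120241 F521122))
theorem Q120504 : ∀ i, i < 120504 → P i := stepQ 120503 Q120503 (allL N120503 (tt N112303 F521131) (tt N108097 (iv0 F521132)) (tt N108615 F521127) (tt N115680 F521128) (tt N108603 F521129) (tt N112828 F521130) (tt N101547 (iv6 D223762)) (tt N118824 (iv7 F521133)))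
theorem Q120505 : ∀ i, i < 120505 → P i := stepQ 120504 Q120504 (allL N120504 (tt N112461 F521138) (tt N112459 F521139) (tt N120241 F521134) (tt N108621 F521135) (tt N101548 (iv4 D223763)) (tt N108611 F521136) (tt N122087 (iv6 F530080)) (tt N108610 F521137))
theorem Q120506 : ∀ i, i < 120506 → P i := stepQ 120505 Q120505 (allL N120505 (tt N114924 F521143) (tt N114984 (iv0 F521144)) (tt N101558 F521140) (tt N115599 F521141) (tt N122041 (iv4 F529798)) (tt N122366 (iv5 F531668)) (tt N101556 (iv6 D223764)) (tt N115031 F521142))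
theorem Q120507 : ∀ i, i < 120507 → P i := stepQ 120506 Q120506 (allL N120506 (tt N112414 (iv1 F521148)) (tt N101557 (iv0 D223765)) (tt N121071 (iv2 F524360)) (tt N113679 F521147) (tt N118218 F521146) (tt N113677 F521145) (tt N111900 (iv6 F521149)) (tt N118729 (iv7 F521150)))
theorem Q120508 : ∀ i, i < 120508 → P i := stepQ 120507 Q120507 (allL N120507 (tt N101557 (iv1 D223766)) (tt N112414 F521151) (tt N118729 F521156) (tt N111894 (iv3 F521154)) (tt N111048 F521153) (tt N113561 F521152) (tt N112252 (iv6 F521155)) (tt N121071 (iv7 F524364)))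
theorem Q120509 : ∀ i, i < 120509 → P i := stepQ 120508 Q120508 (allL N120508 (tt N112009 F521160) (tt N111494 (iv0 F521161)) (tt N122041 (iv2 F529797)) (tt N111056 F521157) (tt N101558 F521158) (tt N111631 F521159) (tt N101557 (iv6 D223767)) (tt N122126 (iv7 F530323)))
theorem Q120510 : ∀ i, i < 120510 → P i := stepQ 120509 Q120509 (allL N120509 (tt N118607 F521166) (tt N118606 F521167) (tt N115944 F521162) (tt N101561 F521163) (tt N122689 (iv4 F533624)) (tt N101560 (iv5 D223768)) (tt N115943 F521164) (tt N108892 F521165))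
theorem Q120511 : ∀ i, i < 120511 → P i := stepQ 120510 Q120510 (allL N120510 (tt N115925 F521172) (tt N119191 (iv0 F521173)) (tt N101575 F521168) (tt N115908 F521169) (tt N121723 (iv4 F527958)) (tt N113874 F521170) (tt N101571 (iv6 D223769)) (tt N101579 F521171))
theorem Q120512 : ∀ i, i < 120512 → P i := stepQ 120511 Q120511 (allL N120511 (tt N118728 F521177) (tt N118727 F521179) (tt N118218 F521174) (tt N101572 (iv3 D223770)) (tt N121071 (iv4 F524362)) (tt N104127 F521175) (tt N118253 (iv6 F521178)) (tt N111048 F521176))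
theorem Q120513 : ∀ i, i < 120513 → P i := stepQ 120512 Q120512 (allL N120512 (tt N121677 F527688) (tt N108177 (iv0 F521184)) (tt N118732 F521180) (tt N118253 F521181) (tt N118936 F521182) (tt N118252 F521183) (tt N101572 (iv6 D223771)) (tt N122474 (iv7 F532338)))
theorem Q120514 : ∀ i, i < 120514 → P i := stepQ 120513 Q120513 (allL N120513 (tt N113676 F521189) (tt N108275 (iv0 F521190)) (tt N121723 (iv2 F527957)) (tt N119224 F521185) (tt N101575 F521186) (tt N114271 F521187) (tt N101574 (iv6 D223772)) (tt N119192 F521188))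
theorem Q120515 : ∀ i, i < 120515 → P i := stepQ 120514 Q120514 (allL N120514 (tt N108275 F521195) (tt N113676 F521196) (tt N119192 F521191) (tt N120048 F521192) (tt N101579 F521193) (tt N114270 F521194) (tt N101578 (iv6 D223773)) (tt N121723 (iv7 F527960)))
theorem Q120516 : ∀ i, i < 120516 → P i := stepQ 120515 Q120515 (allL N120515 (tt N101581 (iv1 D223774)) (tt N101583 F521197) (tt N120558 (iv2 F521447)) (tt N114855 (iv3 F521200)) (tt N111013 F521199) (tt N112848 F521198) (tt N122579 (iv6 F532959)) (tt N120557 (iv7 F521443)))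
theorem Q120517 : ∀ i, i < 120517 → P i := stepQ 120516 Q120516 (allL N120516 (tt N120348 (iv1 F521203)) (tt N101587 (iv0 D223775)) (tt N120353 (iv2 F521204)) (tt N119355 F521202) (tt N122107 (iv4 F530208)) (tt N115297 F521201) (tt N122477 (iv6 F532358)) (tt N120352 (iv7 F521205)))
theorem Q120518 : ∀ i, i < 120518 → P i := stepQ 120517 Q120517 (allL N120517 (tt N101587 (iv1 D223776)) (tt N120348 (iv0 F521212)) (tt N120352 F521210) (tt N115773 F521211) (tt N119197 F521208) (tt N115296 F521207) (tt N115879 (iv6 F521209)) (tt N120353 F521206))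
theorem Q120519 : ∀ i, i < 120519 → P i := stepQ 120518 Q120518 (allL N120518 (tt N120353 (iv1 F521219)) (tt N120352 F521218) (tt N101587 (iv2 D223777)) (tt N115228 F521213) (tt N101597 F521214) (tt N115227 F521215) (tt N111575 F521216) (tt N120348 F521217))
theorem Q120520 : ∀ i, i < 120520 → P i := stepQ 120519 Q120519 (allL N120519 (tt N121178 F524968) (tt N122027 (iv0 F529723)) (tt N119364 F521220) (tt N116058 F521223) (tt N101595 (iv4 D223778)) (tt N115294 F521222) (tt N108613 (iv6 F521224)) (tt N120350 F521221))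
theorem Q120521 : ∀ i, i < 120521 → P i := stepQ 120520 Q120520 (allL N120520 (tt N121259 (iv1 F525429)) (tt N114527 (iv0 F521229)) (tt N120351 F521225) (tt N121199 (iv3 F525093)) (tt N108613 F521226) (tt N116767 F521227) (tt N101595 (iv6 D223779)) (tt N116766 F521228))
theorem Q120522 : ∀ i, i < 120522 → P i := stepQ 120521 Q120521 (allL N120521 (tt N122027 (iv1 F529724)) (tt N121178 (iv0 F524967)) (tt N120350 F521230) (tt N122194 (iv3 F530700)) (tt N101596 (iv4 D223780)) (tt N115293 F521231) (tt N121107 (iv6 F524547)) (tt N119364 F521232))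
theorem Q120523 : ∀ i, i < 120523 → P i := stepQ 120522 Q120522 (allL N120522 (tt N118188 (iv1 F521238)) (tt N118251 F521239) (tt N118257 F521233) (tt N101602 F521234) (tt N111574 F521235) (tt N116589 F521236) (tt N116590 F521237) (tt N101598 (iv7 D223781)))
theorem Q120524 : ∀ i, i < 120524 → P i := stepQ 120523 Q120523 (allL N120523 (tt N111381 (iv1 F521244)) (tt N111380 F521245) (tt N111382 F521240) (tt N116589 F521241) (tt N122171 (iv4 F530565)) (tt N101602 F521242) (tt N116587 F521243) (tt N101601 (iv7 D223782)))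
theorem Q120525 : ∀ i, i < 120525 → P i := stepQ 120524 Q120524 (allL N120524 (tt N101610 (iv1 D223783)) (tt N101647 F521246) (tt N101646 F521250) (tt N120119 (iv3 F521249)) (tt N120528 (iv4 F521273)) (tt N114001 F521248) (tt N122052 (iv6 F529871)) (tt N101645 F521247))
theorem Q120526 : ∀ i, i < 120526 → P i := stepQ 120525 Q120525 (allL N120525 (tt N105816 (iv1 F521255)) (tt N105815 F521256) (tt N105814 F521251) (tt N113724 F521252) (tt N121349 (iv4 F525902)) (tt N114043 F521253) (tt N104461 F521254) (tt N101616 (iv7 D223784)))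
theorem Q120527 : ∀ i, i < 120527 → P i := stepQ 120526 Q120526 (allL N120526 (tt N116484 F521262) (tt N116395 (iv0 F521263)) (tt N101620 F521257) (tt N112350 F521258) (tt N107957 F521259) (tt N110143 F521260) (tt N101618 (iv6 D223785)) (tt N117325 F521261))
theorem Q120528 : ∀ i, i < 120528 → P i := stepQ 120527 Q120527 (allL N120527 (tt N110754 F521269) (tt N107944 (iv0 F521270)) (tt N117087 F521264) (tt N101619 (iv3 D223786)) (tt N101622 F521265) (tt N117086 F521266) (tt N114618 F521267) (tt N107958 F521268))
theorem Q120529 : ∀ i, i < 120529 → P i := stepQ 120528 Q120528 (allL N120528 (tt N101624 (iv1 D223787)) (tt N119857 F521271) (tt N119858 F521276) (tt N119855 (iv3 F521274)) (tt N120524 F521273) (tt N112589 (iv5 F521275)) (tt N121227 F525247) (tt N112588 F521272))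
theorem Q120530 : ∀ i, i < 120530 → P i := stepQ 120529 Q120529 (allL N120529 (tt N101632 (iv1 D223788)) (tt N110832 F521277) (tt N119941 F521281) (tt N109931 (iv3 F521280)) (tt N121243 (iv4 F525326)) (tt N118989 F521279) (tt N109930 F521282) (tt N109964 F521278))
theorem Q120531 : ∀ i, i < 120531 → P i := stepQ 120530 Q120530 (allL N120530 (tt N119866 F521287) (tt N118303 (iv0 F521288)) (tt N119864 F521283) (tt N101634 F521284) (tt N121474 (iv4 F526573)) (tt N110388 F521285) (tt N101632 (iv6 D223789)) (tt N119865 F521286))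
theorem Q120532 : ∀ i, i < 120532 → P i := stepQ 120531 Q120531 (allL N120531 (tt N118301 F521292) (tt N110729 (iv0 F521293)) (tt N105326 F521289) (tt N119852 F521290) (tt N101664 F521291) (tt N121922 (iv5 F529077)) (tt N101633 (iv6 D223790)) (tt N122173 (iv7 F530581)))
theorem Q120533 : ∀ i, i < 120533 → P i := stepQ 120532 Q120532 (allL N120532 (tt N118232 (iv1 F521298)) (tt N119787 F521299) (tt N106471 F521294) (tt N119865 F521295) (tt N101636 F521296) (tt N121873 (iv5 F528836)) (tt N108393 F521297) (tt N101634 (iv7 D223791)))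
theorem Q120534 : ∀ i, i < 120534 → P i := stepQ 120533 Q120533 (allL N120533 (tt N120436 F521304) (tt N119903 F521305) (tt N111367 F521300) (tt N101654 F521301) (tt N101662 F521302) (tt N107789 F521303) (tt N101639 (iv6 D223792)) (tt N122677 (iv7 F533548)))
theorem Q120535 : ∀ i, i < 120535 → P i := stepQ 120534 Q120534 (allL N120534 (tt N120207 (iv1 F521310)) (tt N101642 (iv0 D223793)) (tt N116545 (iv2 F521309)) (tt N118600 F521307) (tt N118969 F521306) (tt N122695 (iv5 F533658)) (tt N118599 F521308) (tt N122575 (iv7 F532935)))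
theorem Q120536 : ∀ i, i < 120536 → P i := stepQ 120535 Q120535 (allL N120535 (tt N114003 F521317) (tt N112036 F521316) (tt N114001 F521311) (tt N113952 F521312) (tt N120248 F521313) (tt N101646 (iv5 D223794)) (tt N113387 F521314) (tt N114002 F521315))
theorem Q120537 : ∀ i, i < 120537 → P i := stepQ 120536 Q120536 (allL N120536 (tt N107874 F521322) (tt N116492 (iv0 F521323)) (tt N116605 F521318) (tt N101662 F521319) (tt N101653 F521320) (tt N116604 F521321) (tt N101652 (iv6 D223795)) (tt N122561 (iv7 F532861)))
theorem Q120538 : ∀ i, i < 120538 → P i := stepQ 120537 Q120537 (allL N120537 (tt N101658 (iv1 D223796)) (tt N118273 F521324) (tt N110941 F521330) (tt N101684 (iv3 F521328)) (tt N116847 F521327) (tt N101663 F521326) (tt N110940 (iv6 F521329)) (tt N116846 F521325))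
theorem Q120539 : ∀ i, i < 120539 → P i := stepQ 120538 Q120538 (allL N120538 (tt N108313 (iv1 F521334)) (tt N121619 F527369) (tt N116587 F521331) (tt N122561 (iv3 F532857)) (tt N122677 (iv4 F533545)) (tt N116586 F521332) (tt N111382 F521333) (tt N101662 (iv7 D223797)))
theorem Q120540 : ∀ i, i < 120540 → P i := stepQ 120539 Q120539 (allL N120539 (tt N101719 (iv1 D223798)) (tt N119645 F521335) (tt N103326 F521340) (tt N119643 (iv3 F521338)) (tt N103624 F521337) (tt N119431 F521336) (tt N103325 (iv6 F521339)) (tt N120970 (iv7 F523778)))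
theorem Q120541 : ∀ i, i < 120541 → P i := stepQ 120540 Q120540 (allL N120540 (tt N122085 (iv1 F530071)) (tt N115559 (iv0 F521346)) (tt N112223 F521341) (tt N108896 F521342) (tt N101724 F521343) (tt N114925 F521344) (tt N101723 (iv6 D223799)) (tt N115034 F521345))
theorem Q120542 : ∀ i, i < 120542 → P i := stepQ 120541 Q120541 (allL N120541 (tt N122473 (iv1 F532333)) (tt N108204 (iv0 F521351)) (tt N112213 F521347) (tt N118392 F521348) (tt N101729 F521349) (tt N114611 F521350) (tt N101728 (iv6 D223800)) (tt N122423 (iv7 F532019)))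
theorem Q120543 : ∀ i, i < 120543 → P i := stepQ 120542 Q120542 (allL N120542 (tt N120390 F521356) (tt N120256 F521357) (tt N109500 F521352) (tt N121884 (iv3 F528896)) (tt N101738 (iv4 D223801)) (tt N119927 F521355) (tt N119928 F521353) (tt N110398 F521354))
theorem Q120544 : ∀ i, i < 120544 → P i := stepQ 120543 Q120543 (allL N120543 (tt N122280 F531152) (tt N122291 (iv0 F531226)) (tt N101767 F521358) (tt N116301 F521359) (tt N112356 F521360) (tt N116303 F521361) (tt N101765 (iv6 D223802)) (tt N115101 F521362))
theorem Q120545 : ∀ i, i < 120545 → P i := stepQ 120544 Q120544 (allL N120544 (tt N101767 (iv1 D223803)) (tt N115101 F521363) (tt N122291 (iv2 F531222)) (tt N109863 (iv3 F521365)) (tt N121792 (iv4 F528344)) (tt N116375 F521364) (tt N109888 F521366) (tt N122280 (iv7 F531150)))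
theorem Q120546 : ∀ i, i < 120546 → P i := stepQ 120545 Q120545 (allL N120545 (tt N122291 F531227) (tt N122280 (iv0 F531151)) (tt N115101 F521367) (tt N101768 F521368) (tt N112355 F521369) (tt N121792 (iv5 F528345)) (tt N115097 F521370) (tt N101767 (iv7 D223804)))
theorem Q120547 : ∀ i, i < 120547 → P i := stepQ 120546 Q120546 (allL N120546 (tt N103118 F521375) (tt N103121 (iv0 F521376)) (tt N121257 (iv2 F525410)) (tt N109124 F521371) (tt N120403 F521372) (tt N109123 F521373) (tt N101785 (iv6 D223805)) (tt N109312 F521374))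
theorem Q120548 : ∀ i, i < 120548 → P i := stepQ 120547 Q120547 (allL N120547 (tt N117764 F521382) (tt N116412 F521383) (tt N118646 F521377) (tt N101843 F521378) (tt N103717 F521381) (tt N101826 (iv5 D223806)) (tt N105606 F521379) (tt N109496 F521380))
theorem Q120549 : ∀ i, i < 120549 → P i := stepQ 120548 Q120548 (allL N120548 (tt N101828 (iv1 D223807)) (tt N101835 F521384) (tt N118664 F521390) (tt N101845 (iv3 F521388)) (tt N103840 F521387) (tt N118425 F521386) (tt N118692 (iv6 F521389)) (tt N112747 F521385))
theorem Q120550 : ∀ i, i < 120550 → P i := stepQ 120549 Q120549 (allL N120549 (tt N119946 F521395) (tt N119945 F521396) (tt N101880 F521391) (tt N120724 (iv3 F522368)) (tt N117865 F521392) (tt N101866 (iv5 D223808)) (tt N117864 F521393) (tt N101876 F521394))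
theorem Q120551 : ∀ i, i < 120551 → P i := stepQ 120550 Q120550 (allL N120550 (tt N111093 F521401) (tt N111857 F521403) (tt N111813 F521397) (tt N115440 F521398) (tt N101869 (iv4 D223809)) (tt N110462 F521402) (tt N109280 F521399) (tt N111711 F521400))
theorem Q120552 : ∀ i, i < 120552 → P i := stepQ 120551 Q120551 (allL N120551 (tt N110462 F521408) (tt N121136 (iv0 F524714)) (tt N109339 F521404) (tt N112643 F521405) (tt N118462 F521406) (tt N101874 (iv5 D223810)) (tt N116995 F521409) (tt N112644 F521407))
theorem Q120553 : ∀ i, i < 120553 → P i := stepQ 120552 Q120552 (allL N120552 (tt N120902 F523383) (tt N110421 F521414) (tt N118310 F521410) (tt N101876 F521411) (tt N119541 F521412) (tt N101875 (iv5 D223811)) (tt N118309 F521413) (tt N120724 (iv7 F522365)))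
theorem Q120554 : ∀ i, i < 120554 → P i := stepQ 120553 Q120553 (allL N120553 (tt N118699 F521420) (tt N121431 (iv0 F526334)) (tt N117800 F521415) (tt N107578 F521416) (tt N101876 (iv4 D223812)) (tt N113306 F521419) (tt N107576 F521417) (tt N117865 F521418))
theorem Q120555 : ∀ i, i < 120555 → P i := stepQ 120554 Q120554 (allL N120554 (tt N121431 F526336) (tt N118699 F521426) (tt N117865 F521421) (tt N108587 F521422) (tt N101880 (iv4 D223813)) (tt N120242 F521423) (tt N117780 F521424) (tt N117800 F521425))
theorem Q120556 : ∀ i, i < 120556 → P i := stepQ 120555 Q120555 (allL N120555 (tt N112069 F521431) (tt N116327 F521432) (tt N112110 F521427) (tt N106854 F521428) (tt N120325 F521429) (tt N101882 (iv5 D223814)) (tt N121232 (iv6 F525273)) (tt N116324 F521430))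
theorem Q120557 : ∀ i, i < 120557 → P i := stepQ 120556 Q120556 (allL N120556 (tt N102224 F521438) (tt N118992 F521439) (tt N119381 F521433) (tt N102205 F521434) (tt N119402 F521435) (tt N101889 (iv5 D223815)) (tt N102203 F521436) (tt N106747 F521437))
theorem Q120558 : ∀ i, i < 120558 → P i := stepQ 120557 Q120557 (allL N120557 (tt N111405 F521445) (tt N110953 F521446) (tt N108585 F521440) (tt N114837 F521441) (tt N101891 (iv4 D223816)) (tt N108576 F521444) (tt N108577 F521442) (tt N120515 F521443))
theorem Q120559 : ∀ i, i < 120559 → P i := stepQ 120558 Q120558 (allL N120558 (tt N110953 F521450) (tt N111405 F521451) (tt N120515 F521447) (tt N108597 F521452) (tt N101893 (iv4 D223817)) (tt N108586 F521448) (tt N122394 (iv6 F531833)) (tt N108585 F521449))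
theorem Q120560 : ∀ i, i < 120560 → P i := stepQ 120559 Q120559 (allL N120559 (tt N121652 (iv1 F527550)) (tt N121651 F527548) (tt N121645 (iv2 F527512)) (tt N116996 F521453) (tt N122394 (iv4 F531835)) (tt N116995 F521454) (tt N101893 (iv6 D223818)) (tt N121649 (iv7 F527536)))
theorem Q120561 : ∀ i, i < 120561 → P i := stepQ 120560 Q120560 (allL N120560 (tt N111702 F521459) (tt N122077 F530027) (tt N111481 F521455) (tt N121639 (iv3 F527480)) (tt N111479 F521456) (tt N101894 (iv5 D223819)) (tt N115582 F521457) (tt N115989 F521458))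
theorem Q120562 : ∀ i, i < 120562 → P i := stepQ 120561 Q120561 (allL N120561 (tt N101896 (iv1 D223820)) (tt N122071 (iv0 F529990)) (tt N111878 F521463) (tt N122062 F529935) (tt N111877 F521461) (tt N111449 F521460) (tt N118384 (iv6 F521462)) (tt N122072 (iv7 F529993)))
theorem Q120563 : ∀ i, i < 120563 → P i := stepQ 120562 Q120562 (allL N120562 (tt N115340 (iv1 F521467)) (tt N115598 F521468) (tt N113762 F521464) (tt N121670 (iv3 F527643)) (tt N113619 F521465) (tt N113761 F521466) (tt N122071 (iv6 F529988)) (tt N101906 (iv7 D223821)))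
theorem Q120564 : ∀ i, i < 120564 → P i := stepQ 120563 Q120563 (allL N120563 (tt N103347 F521474) (tt N103348 (iv0 F521475)) (tt N114029 F521469) (tt N101910 (iv3 D223822)) (tt N118977 F521470) (tt N120209 F521471) (tt N120070 F521472) (tt N117272 F521473))
theorem Q120565 : ∀ i, i < 120565 → P i := stepQ 120564 Q120564 (allL N120564 (tt N106501 F521481) (tt N102751 (iv0 F521482)) (tt N101912 F521476) (tt N106499 F521477) (tt N108240 F521478) (tt N116163 F521479) (tt N101911 (iv6 D223823)) (tt N106502 F521480))
theorem Q120566 : ∀ i, i < 120566 → P i := stepQ 120565 Q120565 (allL N120565 (tt N105499 F521488) (tt N106530 F521489) (tt N106528 F521483) (tt N105467 F521484) (tt N117523 F521487) (tt N101916 (iv5 D223824)) (tt N114755 F521485) (tt N106527 F521486))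
theorem Q120567 : ∀ i, i < 120567 → P i := stepQ 120566 Q120566 (allL N120566 (tt N108732 (iv1 F521491)) (tt N101931 (iv0 D223825)) (tt N118180 (iv2 F521492)) (tt N122697 (iv3 F533671)) (tt N102854 F521490) (tt N120799 (iv5 F522780)) (tt N122113 (iv6 F530248)) (tt N118182 (iv7 F521493)))
theorem Q120568 : ∀ i, i < 120568 → P i := stepQ 120567 Q120567 (allL N120567 (tt N101931 (iv1 D223826)) (tt N108732 F521494) (tt N118182 (iv2 F521498)) (tt N115640 (iv3 F521497)) (tt N108655 F521496) (tt N120798 (iv5 F522777)) (tt N121808 (iv6 F528445)) (tt N118180 F521495))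
theorem Q120569 : ∀ i, i < 120569 → P i := stepQ 120568 Q120568 (allL N120568 (tt N122580 F532968) (tt N121027 (iv0 F524094)) (tt N120762 (iv2 F522576)) (tt N101931 (iv3 D223827)) (tt N120764 (iv4 F522585)) (tt N102609 F521499) (tt N122487 (iv6 F532423)) (tt N120672 F522075))
theorem Q120570 : ∀ i, i < 120570 → P i := stepQ 120569 Q120569 (allL N120569 (tt N101953 (iv1 F521504)) (tt N101932 (iv0 D223828)) (tt N101954 (iv2 F521503)) (tt N103001 F521501) (tt N120783 (iv4 F522685)) (tt N110503 F521500) (tt N101949 F521502) (tt N101950 F521505))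
theorem Q120571 : ∀ i, i < 120571 → P i := stepQ 120570 Q120570 (allL N120570 (tt N122648 F533384) (tt N122644 (iv0 F533357)) (tt N107871 F521506) (tt N119181 F521507) (tt N101934 (iv4 D223829)) (tt N122144 (iv5 F530417)) (tt N107725 F521508) (tt N118327 F521509))
theorem Q120572 : ∀ i, i < 120572 → P i := stepQ 120571 Q120571 (allL N120571 (tt N101958 F521515) (tt N112704 F521516) (tt N107891 F521510) (tt N103275 F521511) (tt N111714 F521512) (tt N101939 (iv5 D223830)) (tt N107890 F521513) (tt N112293 F521514))
theorem Q120573 : ∀ i, i < 120573 → P i := stepQ 120572 Q120572 (allL N120572 (tt N112296 (iv1 F521521)) (tt N122169 F530556) (tt N102995 F521517) (tt N101949 F521518) (tt N103015 F521519) (tt N121757 (iv5 F528135)) (tt N103001 F521520) (tt N101940 (iv7 D223831)))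
theorem Q120574 : ∀ i, i < 120574 → P i := stepQ 120573 Q120573 (allL N120573 (tt N106371 F521526) (tt N106367 F521527) (tt N106354 F521522) (tt N105959 F521523) (tt N114597 F521524) (tt N101942 (iv5 D223832)) (tt N121768 (iv6 F528200)) (tt N106316 F521525))
theorem Q120575 : ∀ i, i < 120575 → P i := stepQ 120574 Q120574 (allL N120574 (tt N108873 F521531) (tt N108870 F521532) (tt N118190 F521528) (tt N116337 F521529) (tt N114673 F521530) (tt N101947 (iv5 D223833)) (tt N105563 F521533) (tt N121953 (iv7 F529270)))
theorem Q120576 : ∀ i, i < 120576 → P i := stepQ 120575 Q120575 (allL N120575 (tt N119670 F521538) (tt N122426 (iv0 F532035)) (tt N118179 F521534) (tt N122629 (iv3 F533265)) (tt N101963 (iv4 D223834)) (tt N119586 F521535) (tt N108853 F521536) (tt N118741 F521537))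
theorem Q120577 : ∀ i, i < 120577 → P i := stepQ 120576 Q120576 (allL N120576 (tt N119392 F521542) (tt N119392 (iv0 F521543)) (tt N102074 F521539) (tt N101969 (iv3 D223835)) (tt N119394 F521540) (tt N120989 (iv5 F523883)) (tt N118992 F521544) (tt N102074 F521541))
theorem Q120578 : ∀ i, i < 120578 → P i := stepQ 120577 Q120577 (allL N120577 (tt N116064 F521548) (tt N109733 F521549) (tt N102072 F521545) (tt N120989 (iv3 F523884)) (tt N111777 F521547) (tt N101969 (iv5 D223836)) (tt N104280 F521550) (tt N102075 F521546))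
theorem Q120579 : ∀ i, i < 120579 → P i := stepQ 120578 Q120578 (allL N120578 (tt N117689 F521556) (tt N103310 F521557) (tt N102073 F521551) (tt N118992 F521552) (tt N102105 F521553) (tt N102131 F521554) (tt N101969 (iv6 D223837)) (tt N102226 F521555))
theorem Q120580 : ∀ i, i < 120580 → P i := stepQ 120579 Q120579 (allL N120579 (tt N109733 F521563) (tt N116064 F521564) (tt N102075 F521558) (tt N102072 F521559) (tt N108797 F521560) (tt N101970 (iv5 D223838)) (tt N105875 F521561) (tt N102072 F521562))
theorem Q120581 : ∀ i, i < 120581 → P i := stepQ 120580 Q120580 (allL N120580 (tt N102097 F521570) (tt N102238 (iv0 F521571)) (tt N101977 F521565) (tt N102095 F521566) (tt N102243 F521567) (tt N102091 F521568) (tt N101975 (iv6 D223839)) (tt N111663 F521569))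
theorem Q120582 : ∀ i, i < 120582 → P i := stepQ 120581 Q120581 (allL N120581 (tt N102386 F521577) (tt N102389 F521578) (tt N102129 F521572) (tt N102004 F521573) (tt N102147 F521574) (tt N117972 F521575) (tt N101987 (iv6 D223840)) (tt N102123 F521576))
theorem Q120583 : ∀ i, i < 120583 → P i := stepQ 120582 Q120582 (allL N120582 (tt N102037 F521581) (tt N120596 (iv0 F521658)) (tt N120597 F521665) (tt N120588 (iv3 F521610)) (tt N101994 (iv4 D223841)) (tt N117740 F521580) (tt N102127 F521579) (tt N120598 (iv7 F521668)))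
theorem Q120584 : ∀ i, i < 120584 → P i := stepQ 120583 Q120583 (allL N120583 (tt N104907 F521586) (tt N104906 (iv0 F521587)) (tt N103342 F521582) (tt N120962 (iv3 F523728)) (tt N111239 F521583) (tt N111677 F521584) (tt N101997 (iv6 D223842)) (tt N104908 F521585))
theorem Q120585 : ∀ i, i < 120585 → P i := stepQ 120584 Q120584 (allL N120584 (tt N103472 F521593) (tt N111246 F521594) (tt N115832 F521588) (tt N102557 F521589) (tt N102005 (iv4 D223843)) (tt N103850 F521590) (tt N111238 F521591) (tt N115831 F521592))
theorem Q120586 : ∀ i, i < 120586 → P i := stepQ 120585 Q120585 (allL N120585 (tt N102014 (iv1 D223844)) (tt N102234 F521595) (tt N102233 (iv2 F521599)) (tt N121233 (iv3 F525278)) (tt N102154 F521598) (tt N114430 F521597) (tt N102153 (iv6 F521600)) (tt N102154 F521596))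
theorem Q120587 : ∀ i, i < 120587 → P i := stepQ 120586 Q120586 (allL N120586 (tt N110891 F521605) (tt N110890 F521606) (tt N102018 F521601) (tt N114511 F521602) (tt N119214 F521607) (tt N102016 (iv5 D223845)) (tt N114510 F521603) (tt N110888 F521604))
theorem Q120588 : ∀ i, i < 120588 → P i := stepQ 120587 Q120587 (allL N120587 (tt N120596 (iv1 F521659)) (tt N102037 (iv0 D223846)) (tt N120598 F521671) (tt N122488 (iv3 F532427)) (tt N102128 F521609) (tt N115260 F521608) (tt N121404 (iv6 F526170)) (tt N120597 F521666))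
theorem Q120589 : ∀ i, i < 120589 → P i := stepQ 120588 Q120588 (allL N120588 (tt N122488 (iv1 F532432)) (tt N122540 (iv0 F532737)) (tt N122521 (iv2 F532617)) (tt N120582 F521610) (tt N102038 F521611) (tt N106703 F521612) (tt N102037 (iv6 D223847)) (tt N122596 (iv7 F533067)))
theorem Q120590 : ∀ i, i < 120590 → P i := stepQ 120589 Q120589 (allL N120589 (tt N102038 (iv1 D223848)) (tt N106743 F521613) (tt N106064 (iv2 F521618)) (tt N117986 (iv3 F521617)) (tt N106875 F521616) (tt N106063 F521615) (tt N122507 (iv6 F532543)) (tt N106888 F521614))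
theorem Q120591 : ∀ i, i < 120591 → P i := stepQ 120590 Q120590 (allL N120590 (tt N119425 (iv1 F521623)) (tt N102040 (iv0 D223849)) (tt N118313 (iv2 F521622)) (tt N102347 F521620) (tt N120750 (iv4 F522509)) (tt N119412 F521619) (tt N102345 F521621) (tt N113045 F521624))
theorem Q120592 : ∀ i, i < 120592 → P i := stepQ 120591 Q120591 (allL N120591 (tt N115909 F521629) (tt N112409 F521630) (tt N102067 F521625) (tt N112402 F521626) (tt N102054 (iv4 D223850)) (tt N122479 (iv5 F532371)) (tt N102823 F521627) (tt N114239 F521628))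
theorem Q120593 : ∀ i, i < 120593 → P i := stepQ 120592 Q120592 (allL N120592 (tt N102225 (iv1 F521636)) (tt N102069 (iv0 D223851)) (tt N119412 (iv2 F521635)) (tt N103309 F521633) (tt N102100 F521632) (tt N118313 F521631) (tt N103310 F521634) (tt N117687 F521637))
theorem Q120594 : ∀ i, i < 120594 → P i := stepQ 120593 Q120593 (allL N120593 (tt N119394 F521642) (tt N119394 (iv0 F521644)) (tt N119394 F521638) (tt N119385 F521639) (tt N102074 (iv4 D223852)) (tt N115322 (iv5 F521643)) (tt N119393 F521640) (tt N119394 F521641))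
theorem Q120595 : ∀ i, i < 120595 → P i := stepQ 120594 Q120594 (allL N120594 (tt N116048 (iv1 F521647)) (tt N116048 (iv0 F521646)) (tt N120989 F523888) (tt N102075 F521645) (tt N122462 (iv4 F532261)) (tt N102074 (iv5 D223853)) (tt N120977 F523823) (tt N120989 F523889))
theorem Q120596 : ∀ i, i < 120596 → P i := stepQ 120595 Q120595 (allL N120595 (tt N102389 F521653) (tt N102386 (iv0 F521654)) (tt N102123 F521648) (tt N116215 F521649) (tt N104314 F521650) (tt N116214 F521651) (tt N102121 (iv6 D223854)) (tt N102129 F521652))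
theorem Q120597 : ∀ i, i < 120597 → P i := stepQ 120596 Q120596 (allL N120596 (tt N120582 F521658) (tt N120587 F521659) (tt N102127 F521655) (tt N122597 (iv3 F533073)) (tt N102126 (iv4 D223855)) (tt N117419 F521656) (tt N120597 (iv6 F521663)) (tt N117427 F521657))
theorem Q120598 : ∀ i, i < 120598 → P i := stepQ 120597 Q120597 (allL N120597 (tt N117427 (iv1 F521664)) (tt N102127 (iv0 D223856)) (tt N120582 (iv2 F521665)) (tt N117354 F521662) (tt N118074 F521661) (tt N117353 F521660) (tt N120596 F521663) (tt N120587 (iv7 F521666)))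
theorem Q120599 : ∀ i, i < 120599 → P i := stepQ 120598 Q120598 (allL N120598 (tt N102127 (iv1 D223857)) (tt N117427 F521667) (tt N120587 (iv2 F521671)) (tt N122596 F533070) (tt N119374 F521670) (tt N119405 F521669) (tt N122596 F533071) (tt N120582 F521668))
theorem Q120600 : ∀ i, i < 120600 → P i := stepQ 120599 Q120599 (allL N120599 (tt N117156 (iv1 F521678)) (tt N117552 F521677) (tt N102139 (iv2 D223858)) (tt N107926 F521672) (tt N117527 F521673) (tt N114197 F521674) (tt N114199 F521675) (tt N118342 F521676))
theorem Q120601 : ∀ i, i < 120601 → P i := stepQ 120600 Q120600 (allL N120600 (tt N118049 (iv1 F521682)) (tt N102190 (iv0 D223859)) (tt N119384 (iv2 F521683)) (tt N106064 F521685) (tt N104414 F521680) (tt N102651 F521679) (tt N104414 F521681) (tt N102829 (iv7 F521684)))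
theorem Q120602 : ∀ i, i < 120602 → P i := stepQ 120601 Q120601 (allL N120601 (tt N102190 (iv1 D223860)) (tt N118049 F521686) (tt N102829 F521691) (tt N117987 (iv3 F521689)) (tt N120787 (iv4 F522712)) (tt N102821 F521688) (tt N117987 (iv6 F521690)) (tt N119384 F521687))
theorem Q120603 : ∀ i, i < 120603 → P i := stepQ 120602 Q120602 (allL N120602 (tt N103308 F521697) (tt N102198 (iv0 F521698)) (tt N102202 F521692) (tt N106013 F521693) (tt N102420 F521694) (tt N102663 F521695) (tt N102195 (iv6 D223861)) (tt N102844 F521696))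
theorem Q120604 : ∀ i, i < 120604 → P i := stepQ 120603 Q120603 (allL N120603 (tt N102198 (iv1 D223862)) (tt N103308 F521699) (tt N102844 F521705) (tt N119380 (iv3 F521703)) (tt N116083 F521702) (tt N102842 F521701) (tt N119121 (iv6 F521704)) (tt N102202 F521700))
theorem Q120605 : ∀ i, i < 120605 → P i := stepQ 120604 Q120604 (allL N120604 (tt N120789 (iv1 F522729)) (tt N121234 (iv0 F525289)) (tt N119408 F521706) (tt N115318 F521707) (tt N102203 (iv4 D223863)) (tt N106874 F521710) (tt N119402 F521708) (tt N119400 F521709))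
theorem Q120606 : ∀ i, i < 120606 → P i := stepQ 120605 Q120605 (allL N120605 (tt N119449 F521716) (tt N111243 F521717) (tt N103331 F521711) (tt N102824 F521712) (tt N104591 F521713) (tt N102207 (iv5 D223864)) (tt N103329 F521714) (tt N104432 F521715))
theorem Q120607 : ∀ i, i < 120607 → P i := stepQ 120606 Q120606 (allL N120606 (tt N110316 F521721) (tt N105113 (iv0 F521723)) (tt N120621 F521807) (tt N102247 (iv3 D223865)) (tt N113144 F521722) (tt N102299 F521718) (tt N104283 F521719) (tt N116289 F521720))
theorem Q120608 : ∀ i, i < 120608 → P i := stepQ 120607 Q120607 (allL N120607 (tt N108045 F521729) (tt N118483 F521730) (tt N117890 F521724) (tt N102271 F521725) (tt N119021 F521726) (tt N102270 (iv5 D223866)) (tt N105051 F521727) (tt N112803 F521728))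
theorem Q120609 : ∀ i, i < 120609 → P i := stepQ 120608 Q120608 (allL N120608 (tt N120786 (iv1 F522709)) (tt N121247 (iv0 F525354)) (tt N119454 F521731) (tt N102296 (iv3 D223867)) (tt N102298 F521732) (tt N115196 F521733) (tt N115197 (iv6 F521735)) (tt N119388 F521734))
theorem Q120610 : ∀ i, i < 120610 → P i := stepQ 120609 Q120609 (allL N120609 (tt N121247 (iv1 F525355)) (tt N120786 (iv0 F522708)) (tt N119388 F521736) (tt N115197 F521737) (tt N102297 F521738) (tt N115195 F521739) (tt N102296 (iv6 D223868)) (tt N119454 F521740))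
theorem Q120611 : ∀ i, i < 120611 → P i := stepQ 120610 Q120610 (allL N120610 (tt N122254 F531029) (tt N122709 F533749) (tt N118297 F521741) (tt N108970 F521742) (tt N122231 (iv4 F530904)) (tt N102307 (iv5 D223869)) (tt N122640 (iv6 F533331)) (tt N122710 (iv7 F533755)))
theorem Q120612 : ∀ i, i < 120612 → P i := stepQ 120611 Q120611 (allL N120611 (tt N118296 (iv1 F521747)) (tt N118295 F521748) (tt N118298 F521743) (tt N107598 F521744) (tt N102309 F521745) (tt N122710 (iv5 F533753)) (tt N118175 F521746) (tt N102307 (iv7 D223870)))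
theorem Q120613 : ∀ i, i < 120613 → P i := stepQ 120612 Q120612 (allL N120612 (tt N108964 (iv1 F521754)) (tt N108845 F521755) (tt N108966 F521749) (tt N102315 F521750) (tt N112642 F521751) (tt N118725 F521752) (tt N112641 F521753) (tt N102310 (iv7 D223871)))
theorem Q120614 : ∀ i, i < 120614 → P i := stepQ 120613 Q120613 (allL N120613 (tt N110123 F521760) (tt N110122 F521761) (tt N110126 F521756) (tt N118539 F521757) (tt N122712 D225971) (tt N102317 (iv5 D223872)) (tt N118856 F521758) (tt N110121 F521759))
theorem Q120615 : ∀ i, i < 120615 → P i := stepQ 120614 Q120614 (allL N120614 (tt N116381 F521767) (tt N116604 (iv0 F521768)) (tt N116603 F521762) (tt N102322 (iv3 D223873)) (tt N119841 F521763) (tt N118411 F521764) (tt N111992 F521765) (tt N107678 F521766))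
theorem Q120616 : ∀ i, i < 120616 → P i := stepQ 120615 Q120615 (allL N120615 (tt N115753 F521773) (tt N120807 F522836) (tt N104306 F521769) (tt N103613 F521770) (tt N103615 F521771) (tt N118122 F521772) (tt N102382 (iv6 D223874)) (tt N120806 (iv7 F522828)))
theorem Q120617 : ∀ i, i < 120617 → P i := stepQ 120616 Q120616 (allL N120616 (tt N119420 (iv1 F521778)) (tt N102383 (iv0 D223875)) (tt N116242 (iv2 F521775)) (tt N104747 F521779) (tt N102897 F521774) (tt N122384 (iv5 F531776)) (tt N104746 (iv6 F521776)) (tt N119418 (iv7 F521777)))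
theorem Q120618 : ∀ i, i < 120618 → P i := stepQ 120617 Q120617 (allL N120617 (tt N102383 (iv1 D223876)) (tt N119420 F521780) (tt N119418 (iv2 F521783)) (tt N116247 (iv3 F521784)) (tt N102898 F521782) (tt N122471 (iv5 F532316)) (tt N120814 (iv6 F522871)) (tt N116242 F521781))
theorem Q120619 : ∀ i, i < 120619 → P i := stepQ 120618 Q120618 (allL N120618 (tt N122386 F531792) (tt N120810 (iv0 F522849)) (tt N119419 F521785) (tt N108193 F521786) (tt N108195 F521787) (tt N102383 (iv5 D223877)) (tt N122670 (iv6 F533510)) (tt N119518 (iv7 F521788)))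
theorem Q120620 : ∀ i, i < 120620 → P i := stepQ 120619 Q120619 (allL N120619 (tt N119418 (iv1 F521794)) (tt N116242 F521795) (tt N119420 F521789) (tt N114356 F521790) (tt N102384 F521791) (tt N119518 F521792) (tt N114354 F521793) (tt N102383 (iv7 D223878)))
theorem Q120621 : ∀ i, i < 120621 → P i := stepQ 120620 Q120620 (allL N120620 (tt N104275 F521801) (tt N104278 (iv0 F521802)) (tt N104277 F521796) (tt N102412 (iv3 D223879)) (tt N102943 F521797) (tt N117691 F521798) (tt N102941 F521799) (tt N104276 F521800))
theorem Q120622 : ∀ i, i < 120622 → P i := stepQ 120621 Q120621 (allL N120621 (tt N106890 (iv1 F521808)) (tt N102416 (iv0 D223880)) (tt N120606 (iv2 F521807)) (tt N103573 F521805) (tt N110285 F521804) (tt N113041 F521803) (tt N103571 F521806) (tt N113050 F521809))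
theorem Q120623 : ∀ i, i < 120623 → P i := stepQ 120622 Q120622 (allL N120622 (tt N109597 F521812) (tt N117762 F521813) (tt N118164 F521810) (tt N121050 (iv3 F524234)) (tt N118162 F521811) (tt N102428 (iv5 D223881)) (tt N118161 F521814) (tt N120681 (iv7 F522114)))
theorem Q120624 : ∀ i, i < 120624 → P i := stepQ 120623 Q120623 (allL N120623 (tt N122407 F531921) (tt N114357 (iv0 F521820)) (tt N103797 F521815) (tt N119492 F521816) (tt N102429 F521817) (tt N103796 F521818) (tt N102428 (iv6 D223882)) (tt N109442 F521819))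
theorem Q120625 : ∀ i, i < 120625 → P i := stepQ 120624 Q120624 (allL N120624 (tt N120684 (iv1 F522133)) (tt N102429 (iv0 D223883)) (tt N103500 (iv2 F521822)) (tt N103528 F521821) (tt N120998 (iv4 F523936)) (tt N120480 F522134) (tt N121023 F524074) (tt N120683 (iv7 F522124)))
theorem Q120626 : ∀ i, i < 120626 → P i := stepQ 120625 Q120625 (allL N120625 (tt N109151 F521824) (tt N122363 (iv0 F531650)) (tt N120682 (iv2 F522117)) (tt N120830 (iv3 F522966)) (tt N120057 F521823) (tt N102431 (iv5 D223884)) (tt N120828 (iv6 F522957)) (tt N120891 F523320))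
theorem Q120627 : ∀ i, i < 120627 → P i := stepQ 120626 Q120626 (allL N120626 (tt N103515 (iv1 F521828)) (tt N103647 F521829) (tt N103652 F521825) (tt N109158 F521826) (tt N109440 F521827) (tt N120891 (iv5 F523318)) (tt N120684 (iv6 F522131)) (tt N102431 (iv7 D223885)))
theorem Q120628 : ∀ i, i < 120628 → P i := stepQ 120627 Q120627 (allL N120627 (tt N107014 F521834) (tt N105857 (iv0 F521835)) (tt N103768 F521830) (tt N111258 F521831) (tt N105397 F521832) (tt N122387 (iv5 F531797)) (tt N102434 (iv6 D223886)) (tt N117935 F521833))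
theorem Q120629 : ∀ i, i < 120629 → P i := stepQ 120628 Q120628 (allL N120628 (tt N102439 (iv1 D223887)) (tt N103549 F521836) (tt N103548 F521841) (tt N116240 F521842) (tt N116235 F521839) (tt N102935 F521838) (tt N103696 (iv6 F521840)) (tt N103518 F521837))
theorem Q120630 : ∀ i, i < 120630 → P i := stepQ 120629 Q120629 (allL N120629 (tt N104363 F521846) (tt N104361 (iv0 F521847)) (tt N120982 (iv2 F523846)) (tt N102440 F521843) (tt N103298 F521844) (tt N118184 F521845) (tt N102439 (iv6 D223888)) (tt N120936 (iv7 F523567)))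
theorem Q120631 : ∀ i, i < 120631 → P i := stepQ 120630 Q120630 (allL N120630 (tt N117773 F521852) (tt N119661 F521853) (tt N118654 F521848) (tt N118124 F521849) (tt N118657 F521851) (tt N102443 (iv5 D223889)) (tt N122671 (iv6 F533516)) (tt N118656 F521850))
theorem Q120632 : ∀ i, i < 120632 → P i := stepQ 120631 Q120631 (allL N120631 (tt N103823 (iv1 F521856)) (tt N102444 (iv0 D223890)) (tt N102522 (iv2 F521855)) (tt N103769 (iv3 F521857)) (tt N120687 (iv4 F522151)) (tt N115445 F521854) (tt N122713 D225972) (tt N120687 (iv7 F522149)))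
theorem Q120633 : ∀ i, i < 120633 → P i := stepQ 120632 Q120632 (allL N120632 (tt N119661 F521863) (tt N117773 F521864) (tt N118656 F521858) (tt N105125 F521859) (tt N118655 F521860) (tt N102445 (iv5 D223891)) (tt N105125 F521861) (tt N118654 F521862))
theorem Q120634 : ∀ i, i < 120634 → P i := stepQ 120633 Q120633 (allL N120633 (tt N103542 F521870) (tt N121793 (iv0 F528353)) (tt N102450 F521865) (tt N103771 F521866) (tt N116224 F521867) (tt N104630 F521868) (tt N102446 (iv6 D223892)) (tt N104629 F521869))
theorem Q120635 : ∀ i, i < 120635 → P i := stepQ 120634 Q120634 (allL N120634 (tt N102454 (iv1 F521874)) (tt N102447 (iv0 D223893)) (tt N102451 (iv2 F521875)) (tt N103538 F521872) (tt N120928 (iv4 F523532)) (tt N104642 F521871) (tt N102562 F521873) (tt N102452 (iv7 F521876)))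
theorem Q120636 : ∀ i, i < 120636 → P i := stepQ 120635 Q120635 (allL N120635 (tt N102447 (iv1 D223894)) (tt N102454 F521877) (tt N102452 (iv2 F521880)) (tt N104382 (iv3 F521879)) (tt N121255 (iv4 F525400)) (tt N120992 (iv5 F523901)) (tt N120919 (iv6 F523478)) (tt N102451 F521878))
theorem Q120637 : ∀ i, i < 120637 → P i := stepQ 120636 Q120636 (allL N120636 (tt N121413 (iv1 F526220)) (tt N109183 (iv0 F521884)) (tt N103524 F521881) (tt N111236 F521882) (tt N105386 F521883) (tt N119674 (iv5 F521885)) (tt N102448 (iv6 D223895)) (tt N121092 (iv7 F524477)))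
theorem Q120638 : ∀ i, i < 120638 → P i := stepQ 120637 Q120637 (allL N120637 (tt N104628 F521891) (tt N104627 F521892) (tt N104630 F521886) (tt N102456 F521887) (tt N118742 F521888) (tt N102450 (iv5 D223896)) (tt N102453 F521889) (tt N104624 F521890))
theorem Q120639 : ∀ i, i < 120639 → P i := stepQ 120638 Q120638 (allL N120638 (tt N117765 F521895) (tt N120665 (iv0 F522047)) (tt N120928 (iv2 F523530)) (tt N118128 F521893) (tt N102451 (iv4 D223897)) (tt N119655 (iv5 F521896)) (tt N104541 F521894) (tt N121255 (iv7 F525405)))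
theorem Q120640 : ∀ i, i < 120640 → P i := stepQ 120639 Q120639 (allL N120639 (tt N114386 F521901) (tt N114389 F521900) (tt N104642 F521897) (tt N103486 F521898) (tt N106073 F521902) (tt N102451 (iv5 D223898)) (tt N102548 F521899) (tt N120992 (iv7 F523903)))
theorem Q120641 : ∀ i, i < 120641 → P i := stepQ 120640 Q120640 (allL N120640 (tt N103534 (iv1 F521907)) (tt N103541 (iv0 F521908)) (tt N103539 F521903) (tt N102452 (iv3 D223899)) (tt N105266 F521905) (tt N103645 F521909) (tt N107070 (iv6 F521906)) (tt N103538 F521904))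
theorem Q120642 : ∀ i, i < 120642 → P i := stepQ 120641 Q120641 (allL N120641 (tt N120665 F522048) (tt N117765 F521910) (tt N121255 F525403) (tt N120900 (iv3 F523365)) (tt N102452 (iv4 D223900)) (tt N116877 (iv5 F521911)) (tt N109025 F521912) (tt N120928 (iv7 F523534)))
theorem Q120643 : ∀ i, i < 120643 → P i := stepQ 120642 Q120642 (allL N120642 (tt N114389 F521916) (tt N114386 F521915) (tt N120992 (iv2 F523900)) (tt N103645 F521913) (tt N106981 (iv4 F521918)) (tt N102452 (iv5 D223901)) (tt N103643 F521917) (tt N104642 F521914))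
theorem Q120644 : ∀ i, i < 120644 → P i := stepQ 120643 Q120643 (allL N120643 (tt N102790 (iv1 F521922)) (tt N122713 (iv0 F533776)) (tt N120919 (iv2 F523472)) (tt N107070 F521919) (tt N109025 F521920) (tt N120915 (iv5 F523449)) (tt N102452 (iv6 D223902)) (tt N104543 F521921))
theorem Q120645 : ∀ i, i < 120645 → P i := stepQ 120644 Q120644 (allL N120644 (tt N116272 F521928) (tt N120752 (iv0 F522525)) (tt N103786 F521923) (tt N119009 F521924) (tt N105214 F521925) (tt N104638 F521926) (tt N102462 (iv6 D223903)) (tt N105220 F521927))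
theorem Q120646 : ∀ i, i < 120646 → P i := stepQ 120645 Q120645 (allL N120645 (tt N114357 F521933) (tt N122407 (iv0 F531920)) (tt N109442 F521929) (tt N102466 F521930) (tt N120684 (iv4 F522129)) (tt N102465 (iv5 D223904)) (tt N109440 F521931) (tt N103797 F521932))
theorem Q120647 : ∀ i, i < 120647 → P i := stepQ 120646 Q120646 (allL N120646 (tt N114360 F521939) (tt N114358 F521940) (tt N119492 F521934) (tt N102468 F521935) (tt N113786 F521938) (tt N102467 (iv5 D223905)) (tt N105122 F521936) (tt N103790 F521937))
theorem Q120648 : ∀ i, i < 120648 → P i := stepQ 120647 Q120647 (allL N120647 (tt N116008 F521943) (tt N105944 (iv0 F521944)) (tt N120692 (iv2 F522178)) (tt N102472 F521941) (tt N103823 F521942) (tt N114097 (iv5 F521945)) (tt N102470 (iv6 D223906)) (tt N120686 (iv7 F522144)))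
theorem Q120649 : ∀ i, i < 120649 → P i := stepQ 120648 Q120648 (allL N120648 (tt N107012 F521950) (tt N107018 (iv0 F521951)) (tt N107016 F521946) (tt N106081 F521947) (tt N102472 F521948) (tt N122004 (iv5 F529584)) (tt N102471 (iv6 D223907)) (tt N107015 F521949))
theorem Q120650 : ∀ i, i < 120650 → P i := stepQ 120649 Q120649 (allL N120649 (tt N104365 (iv1 F521955)) (tt N102472 (iv0 D223908)) (tt N102515 (iv2 F521954)) (tt N119456 F521956) (tt N105211 F521952) (tt N122714 D225973) (tt N106517 F521953) (tt N120693 (iv7 F522186)))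
theorem Q120651 : ∀ i, i < 120651 → P i := stepQ 120650 Q120650 (allL N120650 (tt N120707 F522259) (tt N120708 F522263) (tt N118387 F521957) (tt N114097 F521958) (tt N122492 (iv4 F532456)) (tt N102472 (iv5 D223909)) (tt N114097 F521959) (tt N122405 (iv7 F531906)))
theorem Q120652 : ∀ i, i < 120652 → P i := stepQ 120651 Q120651 (allL N120651 (tt N102534 F521964) (tt N102532 F521965) (tt N102479 F521960) (tt N104583 F521961) (tt N102475 (iv4 D223910)) (tt N117766 F521962) (tt N120658 (iv6 F522006)) (tt N109419 F521963))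
theorem Q120653 : ∀ i, i < 120653 → P i := stepQ 120652 Q120652 (allL N120652 (tt N104537 F521970) (tt N104538 F521971) (tt N120658 (iv2 F522002)) (tt N104465 F521966) (tt N102480 F521967) (tt N103883 F521968) (tt N102479 (iv6 D223911)) (tt N102592 F521969))
theorem Q120654 : ∀ i, i < 120654 → P i := stepQ 120653 Q120653 (allL N120653 (tt N102600 F521976) (tt N102508 (iv0 F521977)) (tt N104750 F521972) (tt N102481 (iv3 D223912)) (tt N104533 F521973) (tt N103679 F521974) (tt N102567 F521978) (tt N103678 F521975))
theorem Q120655 : ∀ i, i < 120655 → P i := stepQ 120654 Q120654 (allL N120654 (tt N105202 F521983) (tt N103871 F521984) (tt N105206 F521979) (tt N102567 F521980) (tt N107044 F521981) (tt N102566 F521982) (tt N102481 (iv6 D223913)) (tt N104751 (iv7 F521985)))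
theorem Q120656 : ∀ i, i < 120656 → P i := stepQ 120655 Q120655 (allL N120655 (tt N102487 (iv1 D223914)) (tt N103402 F521986) (tt N102517 F521990) (tt N120693 F522188) (tt N103397 F521988) (tt N121731 (iv5 F528014)) (tt N119463 (iv6 F521989)) (tt N119456 F521987))
theorem Q120657 : ∀ i, i < 120657 → P i := stepQ 120656 Q120656 (allL N120656 (tt N120705 (iv1 F522250)) (tt N120744 (iv0 F522476)) (tt N120691 (iv2 F522172)) (tt N102514 F521991) (tt N117202 F521994) (tt N102487 (iv5 D223915)) (tt N102506 F521992) (tt N119522 F521993))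
theorem Q120658 : ∀ i, i < 120658 → P i := stepQ 120657 Q120657 (allL N120657 (tt N102491 (iv1 F522000)) (tt N102488 (iv0 D223916)) (tt N102489 (iv2 F521999)) (tt N102512 F521997) (tt N103458 F521996) (tt N113139 F521995) (tt N117706 F521998) (tt N102490 F522001))
theorem Q120659 : ∀ i, i < 120659 → P i := stepQ 120658 Q120658 (allL N120658 (tt N103611 (iv1 F522007)) (tt N103616 F522008) (tt N120652 F522002) (tt N109165 F522003) (tt N102493 F522004) (tt N113131 F522005) (tt N120651 F522006) (tt N102492 (iv7 D223917)))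
theorem Q120660 : ∀ i, i < 120660 → P i := stepQ 120659 Q120659 (allL N120659 (tt N115613 F522012) (tt N120995 F523920) (tt N102506 F522009) (tt N120694 (iv3 F522192)) (tt N108191 F522010) (tt N102494 (iv5 D223918)) (tt N120691 (iv6 F522175)) (tt N117203 F522011))
theorem Q120661 : ∀ i, i < 120661 → P i := stepQ 120660 Q120660 (allL N120660 (tt N114358 F522018) (tt N114360 F522019) (tt N103790 F522013) (tt N109442 F522014) (tt N102903 F522015) (tt N102496 (iv5 D223919)) (tt N109441 F522016) (tt N119492 F522017))
theorem Q120662 : ∀ i, i < 120662 → P i := stepQ 120661 Q120661 (allL N120661 (tt N118164 F522025) (tt N120681 (iv0 F522115)) (tt N117762 F522020) (tt N102618 F522021) (tt N113242 F522022) (tt N102499 (iv5 D223920)) (tt N103512 F522023) (tt N109597 F522024))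
theorem Q120663 : ∀ i, i < 120663 → P i := stepQ 120662 Q120662 (allL N120662 (tt N105751 (iv1 F522029)) (tt N105750 F522030) (tt N103667 F522026) (tt N120849 (iv3 F523067)) (tt N118093 F522027) (tt N119435 F522028) (tt N121194 (iv6 F525063)) (tt N102501 (iv7 D223921)))
theorem Q120664 : ∀ i, i < 120664 → P i := stepQ 120663 Q120663 (allL N120663 (tt N117048 F522035) (tt N117047 F522036) (tt N115917 F522031) (tt N105943 F522032) (tt N115916 F522033) (tt N102505 (iv5 D223922)) (tt N122534 (iv6 F532698)) (tt N117042 F522034))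
theorem Q120665 : ∀ i, i < 120665 → P i := stepQ 120664 Q120664 (allL N120664 (tt N117203 (iv1 F522040)) (tt N102506 (iv0 D223923)) (tt N115613 (iv2 F522039)) (tt N120701 (iv3 F522232)) (tt N108234 F522038) (tt N114361 F522037) (tt N118261 F522041) (tt N120995 (iv7 F523921)))
theorem Q120666 : ∀ i, i < 120666 → P i := stepQ 120665 Q120665 (allL N120665 (tt N120638 F522047) (tt N120641 (iv0 F522048)) (tt N119662 F522042) (tt N104440 F522043) (tt N102508 F522044) (tt N106135 F522045) (tt N102507 (iv6 D223924)) (tt N106134 F522046))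
theorem Q120667 : ∀ i, i < 120667 → P i := stepQ 120666 Q120666 (allL N120666 (tt N102508 (iv1 D223925)) (tt N102600 F522049) (tt N103678 F522053) (tt N114364 (iv3 F522052)) (tt N104532 F522051) (tt N103674 F522054) (tt N119473 F522055) (tt N104750 F522050))
theorem Q120668 : ∀ i, i < 120668 → P i := stepQ 120667 Q120667 (allL N120667 (tt N103678 (iv1 F522061)) (tt N104750 F522062) (tt N102600 F522056) (tt N102511 F522057) (tt N106134 F522058) (tt N102594 F522059) (tt N106136 F522060) (tt N102508 (iv7 D223926)))
theorem Q120669 : ∀ i, i < 120669 → P i := stepQ 120668 Q120668 (allL N120668 (tt N102514 (iv1 D223927)) (tt N120700 (iv0 F522228)) (tt N114099 (iv2 F522065)) (tt N120995 (iv3 F523918)) (tt N114101 F522064) (tt N109180 F522063) (tt N122189 (iv6 F530674)) (tt N120701 (iv7 F522235)))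
theorem Q120670 : ∀ i, i < 120670 → P i := stepQ 120669 Q120669 (allL N120669 (tt N122484 F532407) (tt N122358 (iv0 F531621)) (tt N122714 (iv2 F533778)) (tt N102516 F522066) (tt N122089 (iv4 F530090)) (tt N102515 (iv5 D223928)) (tt N106415 F522067) (tt N120704 (iv7 F522243)))
theorem Q120671 : ∀ i, i < 120671 → P i := stepQ 120670 Q120670 (allL N120670 (tt N122535 F532707) (tt N122467 (iv0 F532294)) (tt N120703 (iv2 F522239)) (tt N106415 F522068) (tt N122090 (iv4 F530095)) (tt N106414 F522069) (tt N102516 (iv6 D223929)) (tt N122510 (iv7 F532562)))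
theorem Q120672 : ∀ i, i < 120672 → P i := stepQ 120671 Q120671 (allL N120671 (tt N122686 (iv1 F533608)) (tt N122608 (iv0 F533149)) (tt N121731 (iv2 F528012)) (tt N102518 F522070) (tt N118260 F522072) (tt N102517 (iv5 D223930)) (tt N118259 F522071) (tt N120702 (iv7 F522238)))
theorem Q120673 : ∀ i, i < 120673 → P i := stepQ 120672 Q120672 (allL N120672 (tt N121716 (iv1 F527928)) (tt N120843 (iv0 F523036)) (tt N120697 (iv2 F522208)) (tt N118259 F522073) (tt N122476 (iv4 F532349)) (tt N103633 F522074) (tt N102518 (iv6 D223931)) (tt N120568 (iv7 F522075)))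
theorem Q120674 : ∀ i, i < 120674 → P i := stepQ 120673 Q120673 (allL N120673 (tt N122405 F531907) (tt N118387 (iv0 F522079)) (tt N120707 (iv2 F522257)) (tt N102519 (iv3 D223932)) (tt N114130 F522081) (tt N121004 (iv5 F523972)) (tt N102519 (iv6 F522083)) (tt N120708 (iv7 F522261)))
theorem Q120675 : ∀ i, i < 120675 → P i := stepQ 120674 Q120674 (allL N120674 (tt N104678 F522077) (tt N104740 F522078) (tt N120706 (iv2 F522251)) (tt N114131 F522080) (tt N102519 (iv4 D223933)) (tt N115682 F522076) (tt N114130 (iv6 F522082)) (tt N120709 (iv7 F522269)))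
theorem Q120676 : ∀ i, i < 120676 → P i := stepQ 120675 Q120675 (allL N120675 (tt N104740 F522086) (tt N104678 F522087) (tt N120709 (iv2 F522265)) (tt N114113 F522088) (tt N102520 (iv4 D223934)) (tt N114112 F522084) (tt N114243 F522085) (tt N120706 (iv7 F522253)))
theorem Q120677 : ∀ i, i < 120677 → P i := stepQ 120676 Q120676 (allL N120676 (tt N102521 (iv1 D223935)) (tt N103640 F522089) (tt N120711 (iv2 F522284)) (tt N115497 (iv3 F522092)) (tt N103766 F522090) (tt N116024 F522091) (tt N122483 F532402) (tt N120710 (iv7 F522278)))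
theorem Q120678 : ∀ i, i < 120678 → P i := stepQ 120677 Q120677 (allL N120677 (tt N120919 (iv1 F523477)) (tt N104543 (iv0 F522094)) (tt N122713 (iv2 F533771)) (tt N102524 F522093) (tt N120713 (iv4 F522293)) (tt N118747 F522095) (tt N102522 (iv6 D223936)) (tt N102790 (iv7 F522096)))
theorem Q120679 : ∀ i, i < 120679 → P i := stepQ 120678 Q120678 (allL N120678 (tt N122532 (iv1 F532691)) (tt N122568 (iv0 F532894)) (tt N103944 F522097) (tt N122238 (iv3 F530944)) (tt N121714 (iv4 F527915)) (tt N118748 F522098) (tt N102523 (iv6 D223937)) (tt N121713 (iv7 F527911)))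
theorem Q120680 : ∀ i, i < 120680 → P i := stepQ 120679 Q120679 (allL N120679 (tt N115448 F522101) (tt N104539 F522102) (tt N121045 F524204) (tt N102525 (iv3 D223938)) (tt N120715 (iv4 F522305)) (tt N115852 F522099) (tt N104475 F522100) (tt N120715 (iv7 F522307)))
theorem Q120681 : ∀ i, i < 120681 → P i := stepQ 120680 Q120680 (allL N120680 (tt N119010 F522108) (tt N119009 (iv0 F522109)) (tt N119496 F522103) (tt N104676 F522104) (tt N102530 F522105) (tt N119489 F522106) (tt N102529 (iv6 D223939)) (tt N119478 F522107))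
theorem Q120682 : ∀ i, i < 120682 → P i := stepQ 120681 Q120681 (allL N120681 (tt N120661 F522115) (tt N111188 F522116) (tt N118658 F522110) (tt N118126 F522111) (tt N117305 F522112) (tt N102532 (iv5 D223940)) (tt N117304 F522113) (tt N120622 F522114))
theorem Q120683 : ∀ i, i < 120683 → P i := stepQ 120682 Q120682 (allL N120682 (tt N119470 F522122) (tt N118747 F522121) (tt N120625 F522117) (tt N117951 F522118) (tt N109120 F522120) (tt N102533 (iv5 D223941)) (tt N119674 F522119) (tt N120865 (iv7 F523158)))
theorem Q120684 : ∀ i, i < 120684 → P i := stepQ 120683 Q120683 (allL N120683 (tt N102535 (iv1 D223942)) (tt N104527 F522123) (tt N104611 F522126) (tt N104621 (iv3 F522125)) (tt N120860 (iv4 F523129)) (tt N120921 (iv5 F523485)) (tt N120860 (iv6 F523132)) (tt N120624 F522124))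
theorem Q120685 : ∀ i, i < 120685 → P i := stepQ 120684 Q120684 (allL N120684 (tt N104611 (iv1 F522132)) (tt N120624 F522133) (tt N104527 F522127) (tt N113133 F522128) (tt N120645 F522129) (tt N104457 F522130) (tt N120626 F522131) (tt N102535 (iv7 D223943)))
theorem Q120686 : ∀ i, i < 120686 → P i := stepQ 120685 Q120685 (allL N120685 (tt N120713 F522297) (tt N119471 F522139) (tt N104743 F522135) (tt N102546 F522136) (tt N104752 F522140) (tt N102545 (iv5 D223944)) (tt N104545 F522137) (tt N104503 F522138))
theorem Q120687 : ∀ i, i < 120687 → P i := stepQ 120686 Q120686 (allL N120686 (tt N115671 F522145) (tt N105862 (iv0 F522147)) (tt N118080 F522141) (tt N117750 F522142) (tt N102553 F522143) (tt N114171 F522146) (tt N102552 (iv6 D223945)) (tt N120647 F522144))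
theorem Q120688 : ∀ i, i < 120688 → P i := stepQ 120687 Q120687 (allL N120687 (tt N102553 (iv1 D223946)) (tt N104662 F522148) (tt N102629 F522153) (tt N104682 (iv3 F522152)) (tt N120631 F522151) (tt N115510 F522150) (tt N121008 F523991) (tt N120631 F522149))
theorem Q120689 : ∀ i, i < 120689 → P i := stepQ 120688 Q120688 (allL N120688 (tt N119471 F522158) (tt N120713 (iv0 F522296)) (tt N104503 F522154) (tt N117930 F522155) (tt N119473 F522159) (tt N102559 (iv5 D223947)) (tt N104532 F522156) (tt N104743 F522157))
theorem Q120690 : ∀ i, i < 120690 → P i := stepQ 120689 Q120689 (allL N120689 (tt N122713 F533777) (tt N102790 (iv0 F522164)) (tt N104543 F522160) (tt N117946 F522161) (tt N109024 F522162) (tt N104706 F522163) (tt N102565 (iv6 D223948)) (tt N120919 (iv7 F523475)))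
theorem Q120691 : ∀ i, i < 120691 → P i := stepQ 120690 Q120690 (allL N120690 (tt N102605 (iv1 F522170)) (tt N102566 (iv0 D223949)) (tt N102607 (iv2 F522169)) (tt N116255 F522167) (tt N106089 F522166) (tt N105747 F522165) (tt N102601 F522168) (tt N102602 F522171))
theorem Q120692 : ∀ i, i < 120692 → P i := stepQ 120691 Q120691 (allL N120691 (tt N119486 (iv1 F522177)) (tt N119459 F522176) (tt N120656 F522172) (tt N104753 F522173) (tt N119480 F522174) (tt N102571 (iv5 D223950)) (tt N120659 F522175) (tt N120811 (iv7 F522853)))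
theorem Q120693 : ∀ i, i < 120693 → P i := stepQ 120692 Q120692 (allL N120692 (tt N105862 F522183) (tt N115671 (iv0 F522184)) (tt N120647 F522178) (tt N108862 F522179) (tt N104662 F522180) (tt N108861 F522181) (tt N102582 (iv6 D223951)) (tt N118080 F522182))
theorem Q120694 : ∀ i, i < 120694 → P i := stepQ 120693 Q120693 (allL N120693 (tt N102583 (iv1 D223952)) (tt N117750 F522185) (tt N102624 F522189) (tt N120655 (iv3 F522188)) (tt N105555 F522187) (tt N122503 (iv5 F532519)) (tt N113044 F522190) (tt N120649 F522186))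
theorem Q120695 : ∀ i, i < 120695 → P i := stepQ 120694 Q120694 (allL N120694 (tt N114174 F522195) (tt N120854 F523100) (tt N102611 F522191) (tt N120659 F522192) (tt N108556 F522194) (tt N102593 (iv5 D223953)) (tt N104753 F522193) (tt N120852 (iv7 F523088)))
theorem Q120696 : ∀ i, i < 120696 → P i := stepQ 120695 Q120695 (allL N120695 (tt N121265 (iv1 F525464)) (tt N121250 (iv0 F525373)) (tt N105267 F522196) (tt N110155 F522197) (tt N106402 F522200) (tt N102597 (iv5 D223954)) (tt N110154 F522198) (tt N106401 F522199))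
theorem Q120697 : ∀ i, i < 120697 → P i := stepQ 120696 Q120696 (allL N120696 (tt N103871 F522205) (tt N105202 F522206) (tt N104751 F522201) (tt N118129 F522202) (tt N105256 F522207) (tt N102605 (iv5 D223955)) (tt N106989 F522203) (tt N105206 F522204))
theorem Q120698 : ∀ i, i < 120698 → P i := stepQ 120697 Q120697 (allL N120697 (tt N121027 F524095) (tt N122580 (iv0 F532967)) (tt N120672 F522208) (tt N115637 F522209) (tt N115525 F522211) (tt N102610 (iv5 D223956)) (tt N102625 F522210) (tt N120762 (iv7 F522579)))
theorem Q120699 : ∀ i, i < 120699 → P i := stepQ 120698 Q120698 (allL N120698 (tt N102611 (iv1 D223957)) (tt N120852 (iv0 F523089)) (tt N120854 F523099) (tt N116025 F522214) (tt N114177 F522215) (tt N116249 (iv5 F522213)) (tt N120857 F523115) (tt N114174 F522212))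
theorem Q120700 : ∀ i, i < 120700 → P i := stepQ 120699 Q120699 (allL N120699 (tt N115853 (iv1 F522222)) (tt N119348 F522220) (tt N108556 F522216) (tt N118837 F522221) (tt N102611 (iv4 D223958)) (tt N108544 F522219) (tt N109530 F522217) (tt N108554 F522218))
theorem Q120701 : ∀ i, i < 120701 → P i := stepQ 120700 Q120700 (allL N120700 (tt N120668 F522228) (tt N114172 F522229) (tt N117948 F522223) (tt N104729 F522224) (tt N118902 F522225) (tt N102620 (iv5 D223959)) (tt N118901 F522226) (tt N102621 F522227))
theorem Q120702 : ∀ i, i < 120702 → P i := stepQ 120701 Q120701 (allL N120701 (tt N117948 (iv1 F522234)) (tt N102621 (iv0 D223960)) (tt N114172 (iv2 F522233)) (tt N120664 F522232) (tt N111852 F522231) (tt N118020 F522230) (tt N116000 F522236) (tt N120668 F522235))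
theorem Q120703 : ∀ i, i < 120703 → P i := stepQ 120702 Q120702 (allL N120702 (tt N121808 F528447) (tt N122581 F532974) (tt N122687 (iv2 F533609)) (tt N102623 F522237) (tt N122500 (iv4 F532498)) (tt N102622 (iv5 D223961)) (tt N122636 (iv6 F533310)) (tt N120671 F522238))
theorem Q120704 : ∀ i, i < 120704 → P i := stepQ 120703 Q120703 (allL N120703 (tt N122186 (iv1 F530661)) (tt N122149 (iv0 F530444)) (tt N120670 F522239) (tt N122636 (iv3 F533307)) (tt N122183 (iv4 F530645)) (tt N118800 F522240) (tt N102623 (iv6 D223962)) (tt N122487 (iv7 F532424)))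
theorem Q120705 : ∀ i, i < 120705 → P i := stepQ 120704 Q120704 (allL N120704 (tt N122470 F532313) (tt N122697 (iv0 F533675)) (tt N122503 (iv2 F532516)) (tt N102625 F522241) (tt N115638 F522244) (tt N102624 (iv5 D223963)) (tt N115637 F522242) (tt N120669 F522243))
theorem Q120706 : ∀ i, i < 120706 → P i := stepQ 120705 Q120705 (allL N120705 (tt N120811 (iv1 F522855)) (tt N120656 F522250) (tt N119486 F522248) (tt N102626 (iv3 D223964)) (tt N117717 (iv4 F522247)) (tt N119460 F522245) (tt N119486 F522249) (tt N119459 F522246))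
theorem Q120707 : ∀ i, i < 120707 → P i := stepQ 120706 Q120706 (allL N120706 (tt N103834 F522255) (tt N103767 F522256) (tt N120674 F522251) (tt N114196 F522252) (tt N102626 (iv4 D223965)) (tt N114195 F522254) (tt N122388 (iv6 F531803)) (tt N120675 F522253))
theorem Q120708 : ∀ i, i < 120708 → P i := stepQ 120707 Q120707 (allL N120707 (tt N119343 F523052) (tt N120650 (iv0 F522259)) (tt N120673 F522257) (tt N119486 F522258) (tt N122388 (iv4 F531801)) (tt N120879 (iv5 F523246)) (tt N102626 (iv6 D223966)) (tt N122468 (iv7 F532299)))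
theorem Q120709 : ∀ i, i < 120709 → P i := stepQ 120708 Q120708 (allL N120708 (tt N120650 (iv1 F522263)) (tt N119343 F522264) (tt N122468 (iv2 F532295)) (tt N102627 (iv3 D223967)) (tt N114212 (iv4 F522262)) (tt N120818 (iv5 F522898)) (tt N113758 F522260) (tt N120673 F522261))
theorem Q120710 : ∀ i, i < 120710 → P i := stepQ 120709 Q120709 (allL N120709 (tt N103767 F522270) (tt N103834 F522271) (tt N120675 F522265) (tt N114213 F522266) (tt N102627 (iv4 D223968)) (tt N116021 F522267) (tt N116356 F522268) (tt N120674 F522269))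
theorem Q120711 : ∀ i, i < 120711 → P i := stepQ 120710 Q120710 (allL N120710 (tt N104448 (iv1 F522274)) (tt N102628 (iv0 D223969)) (tt N115854 F522276) (tt N115864 F522277) (tt N103947 F522272) (tt N115863 (iv5 F522275)) (tt N119339 F522273) (tt N120676 F522278))
theorem Q120712 : ∀ i, i < 120712 → P i := stepQ 120711 Q120711 (allL N120711 (tt N102628 (iv1 D223970)) (tt N104448 F522279) (tt N120676 F522284) (tt N114137 (iv3 F522283)) (tt N104677 F522281) (tt N103943 F522282) (tt N121064 (iv6 F524317)) (tt N115854 F522280))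
theorem Q120713 : ∀ i, i < 120713 → P i := stepQ 120712 Q120712 (allL N120712 (tt N118899 F522290) (tt N118898 F522291) (tt N118882 F522285) (tt N102628 (iv3 D223971)) (tt N118837 F522286) (tt N118925 F522287) (tt N118905 F522288) (tt N118842 F522289))
theorem Q120714 : ∀ i, i < 120714 → P i := stepQ 120713 Q120713 (allL N120713 (tt N120688 F522296) (tt N120685 (iv0 F522297)) (tt N121008 (iv2 F523992)) (tt N102631 F522292) (tt N120677 F522293) (tt N105939 F522294) (tt N102629 (iv6 D223972)) (tt N109152 F522295))
theorem Q120715 : ∀ i, i < 120715 → P i := stepQ 120714 Q120714 (allL N120714 (tt N115804 F522304) (tt N116246 (iv0 F522302)) (tt N104816 F522298) (tt N105938 F522299) (tt N108560 F522300) (tt N105937 F522301) (tt N102630 (iv6 D223973)) (tt N108559 (iv7 F522303)))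
theorem Q120716 : ∀ i, i < 120716 → P i := stepQ 120715 Q120715 (allL N120715 (tt N104747 F522308) (tt N115805 F522309) (tt N121023 (iv2 F524075)) (tt N102632 (iv3 D223974)) (tt N120679 F522305) (tt N121034 (iv5 F524133)) (tt N103500 F522306) (tt N120679 F522307))
theorem Q120717 : ∀ i, i < 120717 → P i := stepQ 120716 Q120716 (allL N120716 (tt N102717 F522315) (tt N102716 F522316) (tt N102642 F522310) (tt N117973 F522311) (tt N102641 (iv4 D223975)) (tt N113044 F522312) (tt N103931 F522313) (tt N102711 F522314))
theorem Q120718 : ∀ i, i < 120718 → P i := stepQ 120717 Q120717 (allL N120717 (tt N102658 (iv1 F522322)) (tt N102655 (iv0 D223976)) (tt N106963 (iv2 F522321)) (tt N118481 F522319) (tt N116985 F522318) (tt N102705 F522317) (tt N108697 F522320) (tt N118489 F522323))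
theorem Q120719 : ∀ i, i < 120719 → P i := stepQ 120718 Q120718 (allL N120718 (tt N106953 F522329) (tt N106952 F522330) (tt N104736 F522324) (tt N107043 F522325) (tt N109398 F522326) (tt N102662 (iv5 D223977)) (tt N113556 F522327) (tt N105270 F522328))
theorem Q120720 : ∀ i, i < 120720 → P i := stepQ 120719 Q120719 (allL N120719 (tt N107537 F522335) (tt N107539 F522336) (tt N116628 F522331) (tt N121880 (iv3 F528872)) (tt N114637 F522332) (tt N102665 (iv5 D223978)) (tt N114636 F522333) (tt N119928 F522334))
theorem Q120721 : ∀ i, i < 120721 → P i := stepQ 120720 Q120720 (allL N120720 (tt N114037 F522340) (tt N114032 (iv0 F522341)) (tt N114035 F522337) (tt N102672 F522338) (tt N121492 (iv4 F526670)) (tt N122377 (iv5 F531734)) (tt N102671 (iv6 D223979)) (tt N114036 F522339))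
theorem Q120722 : ∀ i, i < 120722 → P i := stepQ 120721 Q120721 (allL N120721 (tt N106506 F522346) (tt N110073 F522347) (tt N110169 F522342) (tt N122377 (iv3 F531732)) (tt N105179 F522343) (tt N102672 (iv5 D223980)) (tt N114970 F522344) (tt N110170 F522345))
theorem Q120723 : ∀ i, i < 120723 → P i := stepQ 120722 Q120722 (allL N120722 (tt N117782 F522353) (tt N106961 F522354) (tt N108337 F522348) (tt N118034 F522349) (tt N106763 F522350) (tt N102677 (iv5 D223981)) (tt N108997 F522351) (tt N117783 F522352))
theorem Q120724 : ∀ i, i < 120724 → P i := stepQ 120723 Q120723 (allL N120723 (tt N114877 F522360) (tt N113736 F522361) (tt N112937 F522355) (tt N118795 F522356) (tt N102682 (iv4 D223982)) (tt N112927 F522357) (tt N110589 F522358) (tt N108969 F522359))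
theorem Q120725 : ∀ i, i < 120725 → P i := stepQ 120724 Q120724 (allL N120724 (tt N120205 F522366) (tt N107696 F522367) (tt N107796 F522362) (tt N120549 F522368) (tt N102693 (iv4 D223983)) (tt N115424 F522363) (tt N118458 F522364) (tt N120552 F522365))
theorem Q120726 : ∀ i, i < 120726 → P i := stepQ 120725 Q120725 (allL N120725 (tt N112664 F522374) (tt N119750 F522375) (tt N110522 F522369) (tt N109971 F522370) (tt N109209 F522371) (tt N102708 (iv5 D223984)) (tt N109970 F522372) (tt N120389 F522373))
theorem Q120727 : ∀ i, i < 120727 → P i := stepQ 120726 Q120726 (allL N120726 (tt N103776 (iv1 F522379)) (tt N102723 (iv0 D223985)) (tt N102792 (iv2 F522378)) (tt N122713 (iv3 F533772)) (tt N102860 F522377) (tt N116886 F522376) (tt N103769 F522380) (tt N120741 (iv7 F522458)))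
theorem Q120728 : ∀ i, i < 120728 → P i := stepQ 120727 Q120727 (allL N120727 (tt N110653 F522385) (tt N118598 (iv0 F522386)) (tt N118597 F522381) (tt N110667 F522382) (tt N102728 F522383) (tt N121314 (iv5 F525710)) (tt N102727 (iv6 D223986)) (tt N118492 F522384))
theorem Q120729 : ∀ i, i < 120729 → P i := stepQ 120728 Q120728 (allL N120728 (tt N116647 F522390) (tt N121743 (iv0 F528061)) (tt N121750 (iv2 F528095)) (tt N102731 F522387) (tt N121740 (iv4 F528048)) (tt N102730 (iv5 D223987)) (tt N116386 F522388) (tt N118548 F522389))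
theorem Q120730 : ∀ i, i < 120730 → P i := stepQ 120729 Q120729 (allL N120729 (tt N121750 F528098) (tt N118548 (iv0 F522395)) (tt N121743 (iv2 F528057)) (tt N116386 F522391) (tt N118549 F522392) (tt N116385 F522393) (tt N102731 (iv6 D223988)) (tt N116647 F522394))
theorem Q120731 : ∀ i, i < 120731 → P i := stepQ 120730 Q120730 (allL N120730 (tt N102736 (iv1 F522399)) (tt N102735 (iv0 D223989)) (tt N102739 (iv2 F522398)) (tt N110456 F522397) (tt N106322 F522396) (tt N121815 (iv5 F528479)) (tt N118508 (iv6 F522401)) (tt N102737 F522400))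
theorem Q120732 : ∀ i, i < 120732 → P i := stepQ 120731 Q120731 (allL N120731 (tt N102738 (iv1 D223990)) (tt N121815 F528481) (tt N117832 F522405) (tt N118547 (iv3 F522404)) (tt N120734 (iv4 F522419)) (tt N106577 F522403) (tt N122553 (iv6 F532809)) (tt N117833 F522402))
theorem Q120733 : ∀ i, i < 120733 → P i := stepQ 120732 Q120732 (allL N120732 (tt N117832 (iv1 F522409)) (tt N117833 F522410) (tt N121815 (iv2 F528476)) (tt N102742 F522406) (tt N119724 F522407) (tt N102739 F522408) (tt N122715 D225974) (tt N102738 (iv7 D223991)))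
theorem Q120734 : ∀ i, i < 120734 → P i := stepQ 120733 Q120733 (allL N120733 (tt N110128 (iv1 F522416)) (tt N102741 (iv0 D223992)) (tt N118542 (iv2 F522414)) (tt N118545 F522413) (tt N120153 F522412) (tt N108816 F522411) (tt N121947 (iv6 F529235)) (tt N118543 F522415))
theorem Q120735 : ∀ i, i < 120735 → P i := stepQ 120734 Q120734 (allL N120734 (tt N118543 (iv1 F522421)) (tt N118542 F522422) (tt N110128 F522417) (tt N117835 F522418) (tt N120731 F522419) (tt N102747 F522420) (tt N122716 D225975) (tt N102741 (iv7 D223993)))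
theorem Q120736 : ∀ i, i < 120736 → P i := stepQ 120735 Q120735 (allL N120735 (tt N120138 F522425) (tt N122715 (iv0 F533790)) (tt N118549 F522423) (tt N122715 (iv3 F533786)) (tt N121743 (iv4 F528059)) (tt N118536 F522424) (tt N102742 (iv6 D223994)) (tt N122716 (iv7 F533796)))
theorem Q120737 : ∀ i, i < 120737 → P i := stepQ 120736 Q120736 (allL N120736 (tt N108699 F522431) (tt N117899 F522432) (tt N117900 F522426) (tt N107858 F522427) (tt N102755 (iv4 D223995)) (tt N117871 F522428) (tt N112799 F522429) (tt N117893 F522430))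
theorem Q120738 : ∀ i, i < 120738 → P i := stepQ 120737 Q120737 (allL N120737 (tt N104543 F522436) (tt N120919 (iv0 F523476)) (tt N102790 (iv2 D223996)) (tt N120741 (iv3 F522455)) (tt N119471 F522433) (tt N119470 F522434) (tt N119471 F522435) (tt N122713 (iv7 F533775)))
theorem Q120739 : ∀ i, i < 120739 → P i := stepQ 120738 Q120738 (allL N120738 (tt N122095 F530134) (tt N117842 (iv0 F522441)) (tt N121491 (iv2 F526661)) (tt N102810 F522437) (tt N107137 F522438) (tt N108699 F522439) (tt N102809 (iv6 D223997)) (tt N107497 F522440))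
theorem Q120740 : ∀ i, i < 120740 → P i := stepQ 120739 Q120739 (allL N120739 (tt N121650 (iv1 F527544)) (tt N122585 (iv0 F532999)) (tt N102813 F522442) (tt N116539 F522443) (tt N110962 F522446) (tt N102812 (iv5 D223998)) (tt N116540 F522444) (tt N117032 F522445))
theorem Q120741 : ∀ i, i < 120741 → P i := stepQ 120740 Q120740 (allL N120740 (tt N110277 F522452) (tt N110335 (iv0 F522453)) (tt N104430 F522447) (tt N103333 F522448) (tt N102827 F522449) (tt N104389 F522450) (tt N102826 (iv6 D223999)) (tt N103129 F522451))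
theorem Q120742 : ∀ i, i < 120742 → P i := stepQ 120741 Q120741 (allL N120741 (tt N103862 F522459) (tt N103864 F522460) (tt N102839 F522454) (tt N120737 F522455) (tt N102838 (iv4 D224000)) (tt N119071 F522456) (tt N109433 F522457) (tt N120726 F522458))
theorem Q120743 : ∀ i, i < 120743 → P i := stepQ 120742 Q120742 (allL N120742 (tt N122092 (iv1 F530113)) (tt N115665 F522465) (tt N122480 (iv2 F532382)) (tt N102854 F522461) (tt N118872 F522464) (tt N102853 (iv5 D224001)) (tt N115672 F522462) (tt N118181 F522463))
theorem Q120744 : ∀ i, i < 120744 → P i := stepQ 120743 Q120743 (allL N120743 (tt N104489 F522470) (tt N104644 F522471) (tt N106561 F522466) (tt N105998 F522467) (tt N104504 F522468) (tt N102856 (iv5 D224002)) (tt N105163 F522472) (tt N106537 F522469))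
theorem Q120745 : ∀ i, i < 120745 → P i := stepQ 120744 Q120744 (allL N120744 (tt N120656 F522476) (tt N120811 (iv0 F522854)) (tt N119459 F522473) (tt N122468 (iv3 F532296)) (tt N119487 F522474) (tt N102899 (iv5 D224003)) (tt N122508 (iv6 F532548)) (tt N119486 F522475))
theorem Q120746 : ∀ i, i < 120746 → P i := stepQ 120745 Q120745 (allL N120745 (tt N118021 (iv1 F522480)) (tt N119458 F522481) (tt N119460 F522477) (tt N120879 (iv3 F523244)) (tt N102900 F522478) (tt N119486 F522479) (tt N120816 F522886) (tt N102899 (iv7 D224004)))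
theorem Q120747 : ∀ i, i < 120747 → P i := stepQ 120746 Q120746 (allL N120746 (tt N102918 F522485) (tt N103747 F522486) (tt N113759 F522482) (tt N102908 F522483) (tt N106984 F522484) (tt N102907 (iv5 D224005)) (tt N113534 F522487) (tt N108882 (iv7 F522488)))
theorem Q120748 : ∀ i, i < 120748 → P i := stepQ 120747 Q120747 (allL N120747 (tt N105493 (iv1 F522493)) (tt N119637 F522494) (tt N104607 F522489) (tt N102909 F522490) (tt N105501 F522491) (tt N108882 F522492) (tt N104474 (iv6 F522495)) (tt N102907 (iv7 D224006)))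
theorem Q120749 : ∀ i, i < 120749 → P i := stepQ 120748 Q120748 (allL N120748 (tt N122427 F532040) (tt N122427 (iv0 F532039)) (tt N116341 F522496) (tt N113534 F522497) (tt N108883 F522498) (tt N122508 (iv5 F532547)) (tt N102908 (iv6 D224007)) (tt N116341 F522499))
theorem Q120750 : ∀ i, i < 120750 → P i := stepQ 120749 Q120749 (allL N120749 (tt N103815 (iv1 F522505)) (tt N102910 (iv0 D224008)) (tt N119469 (iv2 F522504)) (tt N119533 F522502) (tt N104808 F522501) (tt N106424 F522500) (tt N103801 F522503) (tt N119468 F522506))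
theorem Q120751 : ∀ i, i < 120751 → P i := stepQ 120750 Q120750 (allL N120750 (tt N117706 F522512) (tt N119281 (iv0 F522513)) (tt N119455 F522507) (tt N119931 F522508) (tt N120590 F522509) (tt N117943 F522510) (tt N102915 (iv6 D224009)) (tt N119463 F522511))
theorem Q120752 : ∀ i, i < 120752 → P i := stepQ 120751 Q120751 (allL N120751 (tt N103747 (iv1 F522519)) (tt N102918 (iv0 D224010)) (tt N108882 (iv2 F522518)) (tt N104608 F522516) (tt N113760 F522515) (tt N104607 F522514) (tt N104608 F522517) (tt N113759 F522520))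
theorem Q120753 : ∀ i, i < 120753 → P i := stepQ 120752 Q120752 (allL N120752 (tt N120644 F522525) (tt N103849 (iv0 F522526)) (tt N107046 F522521) (tt N102921 (iv3 D224011)) (tt N107045 F522522) (tt N122354 (iv5 F531593)) (tt N114370 F522523) (tt N119684 F522524))
theorem Q120754 : ∀ i, i < 120754 → P i := stepQ 120753 Q120753 (allL N120753 (tt N119457 F522531) (tt N104379 (iv0 F522532)) (tt N119440 F522527) (tt N111797 F522528) (tt N102926 F522529) (tt N121668 (iv5 F527639)) (tt N102925 (iv6 D224012)) (tt N111795 F522530))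
theorem Q120755 : ∀ i, i < 120755 → P i := stepQ 120754 Q120754 (allL N120754 (tt N115344 F522538) (tt N115337 (iv0 F522539)) (tt N102943 F522533) (tt N111223 F522534) (tt N104277 F522535) (tt N111222 F522536) (tt N102940 (iv6 D224013)) (tt N115343 F522537))
theorem Q120756 : ∀ i, i < 120756 → P i := stepQ 120755 Q120755 (allL N120755 (tt N118889 F522544) (tt N121445 (iv0 F526421)) (tt N106423 F522540) (tt N122510 (iv3 F532559)) (tt N102972 (iv4 D224014)) (tt N103637 F522543) (tt N102977 F522541) (tt N106415 F522542))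
theorem Q120757 : ∀ i, i < 120757 → P i := stepQ 120756 Q120756 (allL N120756 (tt N115628 F522548) (tt N113659 F522549) (tt N121107 (iv2 F524545)) (tt N102974 F522545) (tt N108212 F522546) (tt N102973 (iv5 D224015)) (tt N120350 F522547) (tt N122093 (iv7 F530115)))
theorem Q120758 : ∀ i, i < 120758 → P i := stepQ 120757 Q120757 (allL N120757 (tt N114243 F522555) (tt N116052 (iv0 F522556)) (tt N115728 F522550) (tt N120350 F522551) (tt N112904 F522552) (tt N113565 F522553) (tt N102974 (iv6 D224016)) (tt N116058 F522554))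
theorem Q120759 : ∀ i, i < 120759 → P i := stepQ 120758 Q120758 (allL N120758 (tt N120907 (iv1 F523400)) (tt N104813 F522559) (tt N120924 (iv2 F523503)) (tt N122607 (iv3 F533138)) (tt N102976 (iv4 D224017)) (tt N103553 F522557) (tt N103554 (iv6 F522560)) (tt N109547 F522558))
theorem Q120760 : ∀ i, i < 120760 → P i := stepQ 120759 Q120759 (allL N120759 (tt N114195 F522563) (tt N116021 F522564) (tt N120929 (iv2 F523537)) (tt N122083 (iv3 F530056)) (tt N103554 F522561) (tt N120929 (iv5 F523538)) (tt N102976 (iv6 D224018)) (tt N114166 F522562))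
theorem Q120761 : ∀ i, i < 120761 → P i := stepQ 120760 Q120760 (allL N120760 (tt N116001 (iv1 F522567)) (tt N102977 (iv0 D224019)) (tt N109543 (iv2 F522569)) (tt N117679 (iv3 F522568)) (tt N104225 F522566) (tt N111911 F522565) (tt N115442 (iv6 F522570)) (tt N120845 (iv7 F523049)))
theorem Q120762 : ∀ i, i < 120762 → P i := stepQ 120761 Q120761 (allL N120761 (tt N102977 (iv1 D224020)) (tt N116001 F522571) (tt N120845 (iv2 F523045)) (tt N122686 (iv3 F533604)) (tt N109544 F522574) (tt N104223 F522573) (tt N118990 (iv6 F522575)) (tt N109543 F522572))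
theorem Q120763 : ∀ i, i < 120763 → P i := stepQ 120762 Q120762 (allL N120762 (tt N120843 (iv1 F523037)) (tt N121716 (iv0 F527927)) (tt N120568 F522576) (tt N102977 (iv3 D224021)) (tt N102982 F522577) (tt N103634 F522578) (tt N122510 (iv6 F532561)) (tt N120697 F522579))
theorem Q120764 : ∀ i, i < 120764 → P i := stepQ 120763 Q120763 (allL N120763 (tt N102982 (iv1 D224022)) (tt N122476 F532354) (tt N122475 F532345) (tt N115595 (iv3 F522582)) (tt N115804 F522581) (tt N117539 (iv5 F522583)) (tt N122079 (iv6 F530035)) (tt N117678 F522580))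
theorem Q120765 : ∀ i, i < 120765 → P i := stepQ 120764 Q120764 (allL N120764 (tt N117678 F522588) (tt N122475 F532346) (tt N102982 (iv2 D224023)) (tt N108487 F522584) (tt N120568 F522585) (tt N108486 F522586) (tt N115707 F522587) (tt N122476 (iv7 F532352)))
theorem Q120766 : ∀ i, i < 120766 → P i := stepQ 120765 Q120765 (allL N120765 (tt N111901 F522591) (tt N120942 F523607) (tt N120943 (iv2 F523608)) (tt N102985 F522589) (tt N122400 (iv4 F531873)) (tt N112415 F522590) (tt N102984 (iv6 D224024)) (tt N120941 (iv7 F523599)))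
theorem Q120767 : ∀ i, i < 120767 → P i := stepQ 120766 Q120766 (allL N120766 (tt N115496 F522597) (tt N111780 F522598) (tt N103006 F522592) (tt N115517 F522593) (tt N103882 F522594) (tt N103005 (iv5 D224025)) (tt N116050 F522595) (tt N103010 F522596))
theorem Q120768 : ∀ i, i < 120768 → P i := stepQ 120767 Q120767 (allL N120767 (tt N110935 F522604) (tt N110934 (iv0 F522605)) (tt N107902 F522599) (tt N118150 F522600) (tt N103021 F522601) (tt N120281 F522602) (tt N103020 (iv6 D224026)) (tt N113116 F522603))
theorem Q120769 : ∀ i, i < 120769 → P i := stepQ 120768 Q120768 (allL N120768 (tt N113086 (iv1 F522612)) (tt N107695 F522611) (tt N103022 (iv2 D224027)) (tt N107804 F522606) (tt N107778 F522607) (tt N105353 F522608) (tt N119073 F522609) (tt N119562 F522610))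
theorem Q120770 : ∀ i, i < 120770 → P i := stepQ 120769 Q120769 (allL N120769 (tt N109150 F522617) (tt N118143 (iv0 F522618)) (tt N120830 (iv2 F522965)) (tt N103025 (iv3 D224028)) (tt N103026 F522613) (tt N103774 F522614) (tt N104622 F522615) (tt N116914 F522616))
theorem Q120771 : ∀ i, i < 120771 → P i := stepQ 120770 Q120770 (allL N120770 (tt N115042 (iv1 F522624)) (tt N107921 F522625) (tt N117993 F522619) (tt N117066 F522620) (tt N105539 F522621) (tt N117713 F522622) (tt N105538 F522623) (tt N103034 (iv7 D224029)))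
theorem Q120772 : ∀ i, i < 120772 → P i := stepQ 120771 Q120771 (allL N120771 (tt N104443 F522630) (tt N116370 F522631) (tt N119573 F522626) (tt N118800 F522627) (tt N103046 (iv4 D224030)) (tt N122636 (iv5 F533309)) (tt N109169 F522628) (tt N119574 F522629))
theorem Q120773 : ∀ i, i < 120773 → P i := stepQ 120772 Q120772 (allL N120772 (tt N108906 F522635) (tt N108906 (iv0 F522636)) (tt N115019 F522632) (tt N103067 F522633) (tt N122427 (iv4 F532038)) (tt N122497 (iv5 F532489)) (tt N103066 (iv6 D224031)) (tt N115019 F522634))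
theorem Q120774 : ∀ i, i < 120774 → P i := stepQ 120773 Q120773 (allL N120773 (tt N103071 (iv1 D224032)) (tt N121244 (iv0 F525337)) (tt N121407 F526188) (tt N110254 (iv3 F522638)) (tt N110256 F522637) (tt N114728 (iv5 F522639)) (tt N110863 (iv6 F522640)) (tt N121408 (iv7 F526191)))
theorem Q120775 : ∀ i, i < 120775 → P i := stepQ 120774 Q120774 (allL N120774 (tt N121647 F527527) (tt N121330 (iv0 F525807)) (tt N109615 F522641) (tt N115541 F522642) (tt N114150 F522643) (tt N110844 F522644) (tt N103076 (iv6 D224033)) (tt N122068 (iv7 F529971)))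
theorem Q120776 : ∀ i, i < 120776 → P i := stepQ 120775 Q120775 (allL N120775 (tt N121184 (iv1 F525001)) (tt N109867 F522649) (tt N121185 (iv2 F525008)) (tt N119074 F522645) (tt N103082 (iv4 D224034)) (tt N113191 F522646) (tt N119018 F522647) (tt N109793 F522648))
theorem Q120777 : ∀ i, i < 120777 → P i := stepQ 120776 Q120776 (allL N120776 (tt N122505 (iv1 F532532)) (tt N122151 (iv0 F530450)) (tt N122482 (iv2 F532390)) (tt N122070 (iv3 F529981)) (tt N115774 F522651) (tt N103089 (iv5 D224035)) (tt N114198 F522650) (tt N122478 (iv7 F532366)))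
theorem Q120778 : ∀ i, i < 120778 → P i := stepQ 120777 Q120777 (allL N120777 (tt N122151 (iv1 F530451)) (tt N122505 (iv0 F532531)) (tt N122478 (iv2 F532362)) (tt N105262 F522652) (tt N115773 F522653) (tt N103090 (iv5 D224036)) (tt N108911 F522654) (tt N122482 (iv7 F532394)))
theorem Q120779 : ∀ i, i < 120779 → P i := stepQ 120778 Q120778 (allL N120778 (tt N119018 F522658) (tt N109795 (iv0 F522659)) (tt N121182 F524991) (tt N103107 (iv3 D224037)) (tt N115010 F522655) (tt N115062 F522656) (tt N119581 F522657) (tt N121183 (iv7 F524995)))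
theorem Q120780 : ∀ i, i < 120780 → P i := stepQ 120779 Q120779 (allL N120779 (tt N116806 F522664) (tt N120028 (iv0 F522665)) (tt N110975 F522660) (tt N103135 (iv3 D224038)) (tt N117195 F522661) (tt N115523 F522662) (tt N121700 (iv6 F527828)) (tt N104885 F522663))
theorem Q120781 : ∀ i, i < 120781 → P i := stepQ 120780 Q120780 (allL N120780 (tt N110194 F522671) (tt N121681 (iv0 F527712)) (tt N120441 F522666) (tt N118030 F522667) (tt N107191 F522668) (tt N120440 F522669) (tt N103171 (iv6 D224039)) (tt N118026 F522670))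
theorem Q120782 : ∀ i, i < 120782 → P i := stepQ 120781 Q120781 (allL N120781 (tt N114529 (iv1 F522675)) (tt N103178 (iv0 D224040)) (tt N114558 (iv2 F522676)) (tt N106309 F522673) (tt N110484 F522672) (tt N121411 (iv5 F526209)) (tt N114500 F522674) (tt N106532 (iv7 F522677)))
theorem Q120783 : ∀ i, i < 120783 → P i := stepQ 120782 Q120782 (allL N120782 (tt N103178 (iv1 D224041)) (tt N114529 F522678) (tt N106532 F522683) (tt N108096 (iv3 F522681)) (tt N110485 F522680) (tt N121820 (iv5 F528510)) (tt N120285 (iv6 F522682)) (tt N114558 F522679))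
theorem Q120784 : ∀ i, i < 120784 → P i := stepQ 120783 Q120783 (allL N120783 (tt N111193 F522689) (tt N111192 (iv0 F522690)) (tt N109635 F522684) (tt N103187 (iv3 D224042)) (tt N120569 F522685) (tt N116534 F522686) (tt N117302 F522687) (tt N111194 F522688))
theorem Q120785 : ∀ i, i < 120785 → P i := stepQ 120784 Q120784 (allL N120784 (tt N122636 (iv1 F533312)) (tt N118610 F522696) (tt N119588 F522691) (tt N116372 F522692) (tt N111434 F522695) (tt N103191 (iv5 D224043)) (tt N119588 F522693) (tt N119142 F522694))
theorem Q120786 : ∀ i, i < 120786 → P i := stepQ 120785 Q120785 (allL N120785 (tt N106874 F522701) (tt N106873 F522702) (tt N103196 F522697) (tt N120988 (iv3 F523881)) (tt N103195 (iv4 D224044)) (tt N106894 F522698) (tt N119264 F522699) (tt N106867 F522700))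
theorem Q120787 : ∀ i, i < 120787 → P i := stepQ 120786 Q120786 (allL N120786 (tt N120609 F522708) (tt N120608 F522709) (tt N106894 F522703) (tt N106875 F522704) (tt N106888 F522707) (tt N103196 (iv5 D224045)) (tt N106894 F522705) (tt N106875 F522706))
theorem Q120788 : ∀ i, i < 120788 → P i := stepQ 120787 Q120787 (allL N120787 (tt N119461 F522715) (tt N118906 F522716) (tt N116049 F522710) (tt N118115 F522711) (tt N120601 F522712) (tt N103201 (iv5 D224046)) (tt N117992 F522713) (tt N118115 F522714))
theorem Q120789 : ∀ i, i < 120789 → P i := stepQ 120788 Q120788 (allL N120788 (tt N108547 F522722) (tt N119000 (iv0 F522723)) (tt N119004 F522717) (tt N103202 (iv3 D224047)) (tt N112715 F522718) (tt N115760 F522719) (tt N118979 F522720) (tt N106879 F522721))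
theorem Q120790 : ∀ i, i < 120790 → P i := stepQ 120789 Q120789 (allL N120789 (tt N121405 F526177) (tt N120604 F522729) (tt N106746 F522724) (tt N106709 F522725) (tt N106740 F522728) (tt N103206 (iv5 D224048)) (tt N119647 F522726) (tt N106709 F522727))
theorem Q120791 : ∀ i, i < 120791 → P i := stepQ 120790 Q120790 (allL N120790 (tt N103207 (iv1 D224049)) (tt N120795 F522765) (tt N120794 (iv2 F522759)) (tt N103991 (iv3 F522733)) (tt N108648 F522732) (tt N117660 F522731) (tt N103990 (iv6 F522734)) (tt N106720 F522730))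
theorem Q120792 : ∀ i, i < 120792 → P i := stepQ 120791 Q120791 (allL N120791 (tt N120794 (iv1 F522754)) (tt N106720 (iv0 F522739)) (tt N120795 (iv2 F522760)) (tt N111644 F522735) (tt N119356 F522736) (tt N111641 F522737) (tt N120267 F522738) (tt N103207 (iv7 D224050)))
theorem Q120793 : ∀ i, i < 120793 → P i := stepQ 120792 Q120792 (allL N120792 (tt N116046 F522745) (tt N116053 F522746) (tt N115732 F522740) (tt N106885 F522741) (tt N106704 F522742) (tt N103211 (iv5 D224051)) (tt N107228 F522743) (tt N115807 F522744))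
theorem Q120794 : ∀ i, i < 120794 → P i := stepQ 120793 Q120793 (allL N120793 (tt N108500 F522752) (tt N108493 (iv0 F522753)) (tt N108498 F522747) (tt N112447 F522748) (tt N108780 F522749) (tt N115509 F522750) (tt N103224 (iv6 D224052)) (tt N108499 F522751))
theorem Q120795 : ∀ i, i < 120795 → P i := stepQ 120794 Q120794 (allL N120794 (tt N103225 (iv1 D224053)) (tt N120791 F522754) (tt N120790 F522759) (tt N115380 (iv3 F522757)) (tt N121698 (iv4 F527814)) (tt N115498 F522756) (tt N115499 (iv6 F522758)) (tt N116076 F522755))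
theorem Q120796 : ∀ i, i < 120796 → P i := stepQ 120795 Q120795 (allL N120795 (tt N120790 (iv1 F522765)) (tt N116076 F522766) (tt N120791 F522760) (tt N112410 F522761) (tt N116074 F522762) (tt N108564 F522763) (tt N116073 F522764) (tt N103225 (iv7 D224054)))
theorem Q120797 : ∀ i, i < 120797 → P i := stepQ 120796 Q120796 (allL N120796 (tt N103703 F522771) (tt N120999 F523945) (tt N103643 F522767) (tt N103291 (iv3 D224055)) (tt N106975 F522768) (tt N118627 F522769) (tt N120992 (iv6 F523902)) (tt N104640 F522770))
theorem Q120798 : ∀ i, i < 120798 → P i := stepQ 120797 Q120797 (allL N120797 (tt N104361 F522775) (tt N104363 F522776) (tt N120936 (iv2 F523563)) (tt N116243 F522772) (tt N103297 (iv4 D224056)) (tt N118185 F522773) (tt N116241 F522774) (tt N120982 (iv7 F523850)))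
theorem Q120799 : ∀ i, i < 120799 → P i := stepQ 120798 Q120798 (allL N120798 (tt N103818 F522778) (tt N118081 F522779) (tt N120980 (iv2 F523838)) (tt N120851 (iv3 F523080)) (tt N103301 (iv4 D224057)) (tt N120567 F522777) (tt N120850 (iv6 F523079)) (tt N120979 (iv7 F523834)))
theorem Q120800 : ∀ i, i < 120800 → P i := stepQ 120799 Q120799 (allL N120799 (tt N118081 F522782) (tt N103818 F522783) (tt N120979 (iv2 F523831)) (tt N121193 (iv3 F525054)) (tt N103303 (iv4 D224058)) (tt N120566 F522780) (tt N115413 F522781) (tt N120980 (iv7 F523842)))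
theorem Q120801 : ∀ i, i < 120801 → P i := stepQ 120800 Q120800 (allL N120800 (tt N104379 F522788) (tt N119457 (iv0 F522789)) (tt N111795 F522784) (tt N103314 (iv3 D224059)) (tt N117738 F522785) (tt N121660 (iv5 F527602)) (tt N117931 F522786) (tt N119440 F522787))
theorem Q120802 : ∀ i, i < 120802 → P i := stepQ 120801 Q120801 (allL N120801 (tt N104339 (iv1 F522795)) (tt N104349 F522796) (tt N104348 F522790) (tt N105934 F522791) (tt N106012 F522792) (tt N103318 F522793) (tt N106011 F522794) (tt N103317 (iv7 D224060)))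
theorem Q120803 : ∀ i, i < 120803 → P i := stepQ 120802 Q120802 (allL N120802 (tt N120070 F522802) (tt N112675 F522803) (tt N109260 F522797) (tt N106798 F522798) (tt N103345 (iv4 D224061)) (tt N109228 F522799) (tt N108872 F522800) (tt N109261 F522801))
theorem Q120804 : ∀ i, i < 120804 → P i := stepQ 120803 Q120803 (allL N120803 (tt N106354 F522808) (tt N106316 F522809) (tt N106367 F522804) (tt N106375 F522805) (tt N113331 F522806) (tt N103347 (iv5 D224062)) (tt N109881 F522810) (tt N106371 F522807))
theorem Q120805 : ∀ i, i < 120805 → P i := stepQ 120804 Q120804 (allL N120804 (tt N118040 F522815) (tt N118333 F522816) (tt N117271 F522811) (tt N107822 F522812) (tt N114417 F522814) (tt N103349 (iv5 D224063)) (tt N121444 (iv6 F526412)) (tt N107831 F522813))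
theorem Q120806 : ∀ i, i < 120806 → P i := stepQ 120805 Q120805 (allL N120805 (tt N116292 F522822) (tt N105902 (iv0 F522823)) (tt N105871 F522817) (tt N117715 F522818) (tt N103358 F522819) (tt N112438 F522820) (tt N103357 (iv6 D224064)) (tt N115702 F522821))
theorem Q120807 : ∀ i, i < 120807 → P i := stepQ 120806 Q120806 (allL N120806 (tt N115748 F522830) (tt N119448 F522829) (tt N103386 F522824) (tt N115430 F522825) (tt N105754 F522826) (tt N103385 (iv5 D224065)) (tt N103456 F522827) (tt N120615 F522828))
theorem Q120808 : ∀ i, i < 120808 → P i := stepQ 120807 Q120807 (allL N120807 (tt N120615 (iv1 F522836)) (tt N103386 (iv0 D224066)) (tt N115748 (iv2 F522835)) (tt N118045 F522833) (tt N105761 F522832) (tt N118044 F522831) (tt N111243 F522834) (tt N119448 F522837))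
theorem Q120809 : ∀ i, i < 120809 → P i := stepQ 120808 Q120808 (allL N120808 (tt N116274 F522843) (tt N113807 (iv0 F522844)) (tt N106145 F522838) (tt N119496 F522839) (tt N105870 F522840) (tt N116232 F522841) (tt N103392 (iv6 D224067)) (tt N116273 F522842))
theorem Q120810 : ∀ i, i < 120810 → P i := stepQ 120809 Q120809 (allL N120809 (tt N105937 (iv1 F522848)) (tt N120833 (iv0 F522984)) (tt N120835 (iv2 F522988)) (tt N103395 F522845) (tt N105596 F522846) (tt N122408 (iv5 F531926)) (tt N103394 (iv6 D224068)) (tt N104626 F522847))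
theorem Q120811 : ∀ i, i < 120811 → P i := stepQ 120810 Q120810 (allL N120810 (tt N120618 F522849) (tt N121659 (iv0 F527598)) (tt N122403 F531897) (tt N122408 (iv3 F531923)) (tt N121199 (iv4 F525096)) (tt N103395 (iv5 D224069)) (tt N122281 (iv6 F531154)) (tt N120983 (iv7 F523854)))
theorem Q120812 : ∀ i, i < 120812 → P i := stepQ 120811 Q120811 (allL N120811 (tt N120744 F522854) (tt N120705 F522855) (tt N119522 F522850) (tt N103882 F522851) (tt N119517 F522852) (tt N103402 (iv5 D224070)) (tt N122104 (iv6 F530192)) (tt N120691 F522853))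
theorem Q120813 : ∀ i, i < 120813 → P i := stepQ 120812 Q120812 (allL N120812 (tt N103440 (iv1 D224071)) (tt N103443 F522856) (tt N110314 F522862) (tt N103476 (iv3 F522860)) (tt N104269 F522859) (tt N104310 F522858) (tt N115402 (iv6 F522861)) (tt N110315 F522857))
theorem Q120814 : ∀ i, i < 120814 → P i := stepQ 120813 Q120813 (allL N120813 (tt N119446 F522868) (tt N122688 (iv0 F533620)) (tt N115836 F522863) (tt N103852 F522864) (tt N103462 (iv4 D224072)) (tt N109446 F522867) (tt N104536 F522865) (tt N115835 F522866))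
theorem Q120815 : ∀ i, i < 120815 → P i := stepQ 120814 Q120814 (allL N120814 (tt N122688 (iv1 F533621)) (tt N119446 F522873) (tt N115835 F522869) (tt N122355 (iv3 F531599)) (tt N103466 (iv4 D224073)) (tt N109445 F522870) (tt N120617 F522871) (tt N115836 F522872))
theorem Q120816 : ∀ i, i < 120816 → P i := stepQ 120815 Q120815 (allL N120815 (tt N106132 F522879) (tt N106128 F522880) (tt N103560 F522874) (tt N109157 F522875) (tt N103469 (iv4 D224074)) (tt N103559 F522876) (tt N116231 F522877) (tt N106130 F522878))
theorem Q120817 : ∀ i, i < 120817 → P i := stepQ 120816 Q120816 (allL N120816 (tt N103477 (iv1 D224075)) (tt N103479 F522881) (tt N103684 F522887) (tt N103685 (iv3 F522885)) (tt N104435 F522884) (tt N103684 F522883) (tt N120745 (iv6 F522886)) (tt N119520 F522882))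
theorem Q120818 : ∀ i, i < 120818 → P i := stepQ 120817 Q120817 (allL N120817 (tt N103492 (iv1 F522893)) (tt N103491 F522894) (tt N103494 F522888) (tt N116889 F522889) (tt N111235 F522890) (tt N111173 F522891) (tt N103740 F522892) (tt N103490 (iv7 D224076)))
theorem Q120819 : ∀ i, i < 120819 → P i := stepQ 120818 Q120818 (allL N120818 (tt N121025 F524083) (tt N113797 (iv0 F522899)) (tt N115404 F522895) (tt N103496 F522896) (tt N105669 F522897) (tt N120708 F522898) (tt N103495 (iv6 D224077)) (tt N121004 (iv7 F523973)))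
theorem Q120820 : ∀ i, i < 120820 → P i := stepQ 120819 Q120819 (allL N120819 (tt N103863 F522905) (tt N103856 F522904) (tt N120480 F522900) (tt N103501 F522901) (tt N116878 F522903) (tt N103500 (iv5 D224078)) (tt N116903 F522906) (tt N120481 F522902))
theorem Q120821 : ∀ i, i < 120821 → P i := stepQ 120820 Q120820 (allL N120820 (tt N118663 F522910) (tt N120841 (iv0 F523024)) (tt N120897 F523349) (tt N103503 F522907) (tt N118661 F522909) (tt N103502 (iv5 D224079)) (tt N109184 F522908) (tt N120898 (iv7 F523352)))
theorem Q120822 : ∀ i, i < 120822 → P i := stepQ 120821 Q120821 (allL N120821 (tt N103505 (iv1 D224080)) (tt N103509 F522911) (tt N103507 F522915) (tt N119667 (iv3 F522913)) (tt N121926 (iv4 F529104)) (tt N118163 F522916) (tt N119279 (iv6 F522914)) (tt N103506 F522912))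
theorem Q120823 : ∀ i, i < 120823 → P i := stepQ 120822 Q120822 (allL N120822 (tt N107068 F522923) (tt N118144 F522922) (tt N103508 F522917) (tt N119184 F522918) (tt N105357 F522919) (tt N103505 (iv5 D224081)) (tt N104654 F522920) (tt N116887 F522921))
theorem Q120824 : ∀ i, i < 120824 → P i := stepQ 120823 Q120823 (allL N120823 (tt N103507 (iv1 F522929)) (tt N103506 F522930) (tt N103509 F522924) (tt N103740 F522925) (tt N106999 F522926) (tt N116887 F522927) (tt N116889 F522928) (tt N103505 (iv7 D224082)))
theorem Q120825 : ∀ i, i < 120825 → P i := stepQ 120824 Q120824 (allL N120824 (tt N113134 F522935) (tt N115797 F522936) (tt N108034 F522931) (tt N113144 F522932) (tt N103506 (iv4 D224083)) (tt N116280 F522933) (tt N103671 F522934) (tt N121926 (iv7 F529107)))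
theorem Q120826 : ∀ i, i < 120826 → P i := stepQ 120825 Q120825 (allL N120825 (tt N113788 F522942) (tt N104746 F522943) (tt N116239 F522937) (tt N103518 F522938) (tt N115753 F522939) (tt N104745 F522940) (tt N103517 (iv6 D224084)) (tt N116240 F522941))
theorem Q120827 : ∀ i, i < 120827 → P i := stepQ 120826 Q120826 (allL N120826 (tt N104712 (iv1 F522949)) (tt N103519 (iv0 D224085)) (tt N113753 (iv2 F522948)) (tt N105734 F522946) (tt N104609 F522945) (tt N107356 F522944) (tt N105732 F522947) (tt N106140 F522950))
theorem Q120828 : ∀ i, i < 120828 → P i := stepQ 120827 Q120827 (allL N120827 (tt N103524 (iv1 D224086)) (tt N121092 (iv0 F524478)) (tt N109183 F522954) (tt N116210 (iv3 F522952)) (tt N114437 (iv4 F522951)) (tt N120883 (iv5 F523271)) (tt N103687 (iv6 F522953)) (tt N121413 (iv7 F526221)))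
theorem Q120829 : ∀ i, i < 120829 → P i := stepQ 120828 Q120828 (allL N120828 (tt N121151 F524805) (tt N122056 (iv0 F529896)) (tt N119674 F522955) (tt N103529 F522956) (tt N105967 F522958) (tt N103524 (iv5 D224087)) (tt N120625 F522957) (tt N121318 (iv7 F525734)))
theorem Q120830 : ∀ i, i < 120830 → P i := stepQ 120829 Q120829 (allL N120829 (tt N108034 F522964) (tt N121926 (iv0 F529108)) (tt N115797 F522959) (tt N119901 F522960) (tt N103527 F522961) (tt N107072 F522962) (tt N103526 (iv6 D224088)) (tt N113134 F522963))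
theorem Q120831 : ∀ i, i < 120831 → P i := stepQ 120830 Q120830 (allL N120830 (tt N118700 F522969) (tt N118701 F522970) (tt N120769 F522965) (tt N120625 F522966) (tt N108132 F522967) (tt N103527 (iv5 D224089)) (tt N103529 F522968) (tt N120894 (iv7 F523333)))
theorem Q120832 : ∀ i, i < 120832 → P i := stepQ 120831 Q120831 (allL N120831 (tt N120841 (iv1 F523025)) (tt N118663 F522973) (tt N120898 (iv2 F523356)) (tt N120480 F522971) (tt N118660 F522972) (tt N103528 (iv5 D224090)) (tt N122035 (iv6 F529766)) (tt N120897 F523350))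
theorem Q120833 : ∀ i, i < 120833 → P i := stepQ 120832 Q120832 (allL N120832 (tt N108146 F522978) (tt N114313 F522979) (tt N119515 F522974) (tt N105972 F522975) (tt N103529 (iv4 D224091)) (tt N118914 F522976) (tt N108132 F522977) (tt N121319 (iv7 F525741)))
theorem Q120834 : ∀ i, i < 120834 → P i := stepQ 120833 Q120833 (allL N120833 (tt N120809 F522984) (tt N103535 (iv0 D224092)) (tt N105855 (iv2 F522983)) (tt N107014 F522981) (tt N105162 F522980) (tt N121057 (iv5 F524275)) (tt N107013 F522982) (tt N120884 (iv7 F523279)))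
theorem Q120835 : ∀ i, i < 120835 → P i := stepQ 120834 Q120834 (allL N120834 (tt N122493 F532466) (tt N121211 (iv0 F525155)) (tt N121029 (iv2 F524103)) (tt N114169 F522985) (tt N114176 F522987) (tt N103535 (iv5 D224093)) (tt N103770 F522986) (tt N122390 (iv7 F531815)))
theorem Q120836 : ∀ i, i < 120836 → P i := stepQ 120835 Q120835 (allL N120835 (tt N120884 F523281) (tt N105855 (iv0 F522992)) (tt N120809 F522988) (tt N103823 F522989) (tt N106081 F522990) (tt N122390 (iv5 F531814)) (tt N103822 F522991) (tt N103535 (iv7 D224094)))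
theorem Q120837 : ∀ i, i < 120837 → P i := stepQ 120836 Q120836 (allL N120836 (tt N103686 F522998) (tt N120998 F523939) (tt N119665 F522993) (tt N104642 F522994) (tt N119663 F522997) (tt N103538 (iv5 D224095)) (tt N104641 F522995) (tt N103645 F522996))
theorem Q120838 : ∀ i, i < 120838 → P i := stepQ 120837 Q120837 (allL N120837 (tt N114356 F523004) (tt N118017 F523005) (tt N120276 F522999) (tt N103546 F523000) (tt N109563 F523001) (tt N117045 F523002) (tt N103544 (iv6 D224096)) (tt N120275 F523003))
theorem Q120839 : ∀ i, i < 120839 → P i := stepQ 120838 Q120838 (allL N120838 (tt N106150 F523010) (tt N119501 F523011) (tt N103550 F523006) (tt N103779 F523007) (tt N105922 F523008) (tt N103549 (iv5 D224097)) (tt N111245 F523009) (tt N120922 (iv7 F523494)))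
theorem Q120840 : ∀ i, i < 120840 → P i := stepQ 120839 Q120839 (allL N120839 (tt N120922 (iv1 F523495)) (tt N103550 (iv0 D224098)) (tt N106150 (iv2 F523015)) (tt N119489 F523014) (tt N104912 F523013) (tt N104676 F523012) (tt N119488 F523016) (tt N119501 F523017))
theorem Q120841 : ∀ i, i < 120841 → P i := stepQ 120840 Q120840 (allL N120840 (tt N122418 F531992) (tt N121005 (iv0 F523976)) (tt N122242 (iv2 F530964)) (tt N103553 F523018) (tt N113036 F523019) (tt N122607 (iv5 F533140)) (tt N103551 (iv6 D224099)) (tt N122130 (iv7 F530346)))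
theorem Q120842 : ∀ i, i < 120842 → P i := stepQ 120841 Q120841 (allL N120841 (tt N120820 F523024) (tt N120831 F523025) (tt N103739 F523020) (tt N119624 F523021) (tt N122106 (iv4 F530204)) (tt N103556 (iv5 D224100)) (tt N103658 F523022) (tt N104696 F523023))
theorem Q120843 : ∀ i, i < 120843 → P i := stepQ 120842 Q120842 (allL N120842 (tt N116230 F523031) (tt N113796 (iv0 F523032)) (tt N116229 F523026) (tt N103561 (iv3 D224101)) (tt N104282 F523027) (tt N117760 F523028) (tt N103743 F523029) (tt N116228 F523030))
theorem Q120844 : ∀ i, i < 120844 → P i := stepQ 120843 Q120843 (allL N120843 (tt N120672 F523036) (tt N120762 F523037) (tt N122580 (iv2 F532963)) (tt N103567 F523033) (tt N108557 F523035) (tt N103564 (iv5 D224102)) (tt N117656 F523034) (tt N121027 (iv7 F524092)))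
theorem Q120845 : ∀ i, i < 120845 → P i := stepQ 120844 Q120844 (allL N120844 (tt N103617 (iv1 F523042)) (tt N103565 (iv0 D224103)) (tt N111099 (iv2 F523041)) (tt N104370 (iv3 F523044)) (tt N111097 F523039) (tt N115660 F523038) (tt N103596 F523040) (tt N111098 F523043))
theorem Q120846 : ∀ i, i < 120846 → P i := stepQ 120845 Q120845 (allL N120845 (tt N115663 F523050) (tt N115637 F523051) (tt N120761 F523045) (tt N117656 F523046) (tt N118956 F523047) (tt N103565 (iv5 D224104)) (tt N103567 F523048) (tt N120760 F523049))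
theorem Q120847 : ∀ i, i < 120847 → P i := stepQ 120846 Q120846 (allL N120846 (tt N104815 F523055) (tt N116024 F523056) (tt N120930 (iv2 F523547)) (tt N118957 F523053) (tt N103567 (iv4 D224105)) (tt N120930 (iv5 F523543)) (tt N118956 F523054) (tt N120931 (iv7 F523549)))
theorem Q120848 : ∀ i, i < 120848 → P i := stepQ 120847 Q120847 (allL N120847 (tt N103710 F523061) (tt N103706 F523062) (tt N103707 F523057) (tt N103580 F523058) (tt N109185 F523059) (tt N103579 (iv5 D224106)) (tt N117958 F523063) (tt N103708 F523060))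
theorem Q120849 : ∀ i, i < 120849 → P i := stepQ 120848 Q120848 (allL N120848 (tt N122242 F530968) (tt N122130 (iv0 F530347)) (tt N121005 (iv2 F523974)) (tt N117958 F523064) (tt N113799 F523065) (tt N120938 (iv5 F523580)) (tt N103580 (iv6 D224107)) (tt N122418 (iv7 F531991)))
theorem Q120850 : ∀ i, i < 120850 → P i := stepQ 120849 Q120849 (allL N120849 (tt N105496 F523071) (tt N105495 F523072) (tt N104488 F523066) (tt N120662 F523067) (tt N105506 F523068) (tt N103594 (iv5 D224108)) (tt N113054 F523069) (tt N105494 F523070))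
theorem Q120851 : ∀ i, i < 120851 → P i := stepQ 120850 Q120850 (allL N120850 (tt N116229 F523077) (tt N116228 F523078) (tt N113796 F523073) (tt N103616 F523074) (tt N113803 F523075) (tt N103615 (iv5 D224109)) (tt N120798 F523079) (tt N116230 F523076))
theorem Q120852 : ∀ i, i < 120852 → P i := stepQ 120851 Q120851 (allL N120851 (tt N114100 F523084) (tt N115614 (iv0 F523085)) (tt N121022 (iv2 F524066)) (tt N120798 F523080) (tt N104747 F523081) (tt N115640 F523082) (tt N103616 (iv6 D224110)) (tt N119277 F523083))
theorem Q120853 : ∀ i, i < 120853 → P i := stepQ 120852 Q120852 (allL N120852 (tt N120698 F523089) (tt N115615 F523090) (tt N103635 F523086) (tt N117203 F523087) (tt N120939 (iv4 F523587)) (tt N103630 (iv5 D224111)) (tt N122353 (iv6 F531590)) (tt N120694 F523088))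
theorem Q120854 : ∀ i, i < 120854 → P i := stepQ 120853 Q120853 (allL N120853 (tt N118125 F523095) (tt N118124 (iv0 F523096)) (tt N120454 F523091) (tt N103631 (iv3 D224112)) (tt N106155 F523092) (tt N103670 F523093) (tt N121604 (iv6 F527285)) (tt N117769 F523094))
theorem Q120855 : ∀ i, i < 120855 → P i := stepQ 120854 Q120854 (allL N120854 (tt N120694 (iv1 F523100)) (tt N103635 (iv0 D224113)) (tt N120698 (iv2 F523099)) (tt N118262 F523098) (tt N115618 F523097) (tt N120911 (iv5 F523420)) (tt N107094 (iv6 F523102)) (tt N115615 F523101))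
theorem Q120856 : ∀ i, i < 120856 → P i := stepQ 120855 Q120855 (allL N120855 (tt N121445 (iv1 F526422)) (tt N118889 F523106) (tt N106415 F523103) (tt N122664 (iv3 F533471)) (tt N114835 F523104) (tt N103636 (iv5 D224114)) (tt N122714 (iv6 F533781)) (tt N106423 F523105))
theorem Q120857 : ∀ i, i < 120857 → P i := stepQ 120856 Q120856 (allL N120856 (tt N112018 F523110) (tt N122671 (iv0 F533518)) (tt N122606 (iv2 F533130)) (tt N103637 (iv3 D224115)) (tt N107806 F523107) (tt N122510 (iv5 F532560)) (tt N107805 F523108) (tt N106414 F523109))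
theorem Q120858 : ∀ i, i < 120858 → P i := stepQ 120857 Q120857 (allL N120857 (tt N103638 (iv1 D224116)) (tt N120997 F523933) (tt N107094 (iv2 F523114)) (tt N122410 (iv3 F531935)) (tt N111650 F523113) (tt N105275 F523112) (tt N120698 (iv6 F523115)) (tt N107087 F523111))
theorem Q120859 : ∀ i, i < 120859 → P i := stepQ 120858 Q120858 (allL N120858 (tt N104093 F523121) (tt N104482 F523122) (tt N106975 F523116) (tt N105744 F523117) (tt N103643 (iv4 D224117)) (tt N105601 F523118) (tt N106981 F523119) (tt N106075 F523120))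
theorem Q120860 : ∀ i, i < 120860 → P i := stepQ 120859 Q120859 (allL N120859 (tt N118142 F523126) (tt N109159 (iv0 F523127)) (tt N119563 F523123) (tt N120915 F523450) (tt N114554 F523124) (tt N107070 F523125) (tt N103644 (iv6 D224118)) (tt N120918 (iv7 F523469)))
theorem Q120861 : ∀ i, i < 120861 → P i := stepQ 120860 Q120860 (allL N120860 (tt N103645 (iv1 D224119)) (tt N119665 F523128) (tt N103686 (iv2 F523133)) (tt N103715 (iv3 F523130)) (tt N120683 F523129) (tt N114386 (iv5 F523131)) (tt N120683 F523132) (tt N120998 (iv7 F523940)))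
theorem Q120862 : ∀ i, i < 120862 → P i := stepQ 120861 Q120861 (allL N120861 (tt N114591 F523139) (tt N114588 F523140) (tt N105606 F523134) (tt N118055 F523135) (tt N103648 (iv4 D224120)) (tt N114920 F523138) (tt N118646 F523136) (tt N114589 F523137))
theorem Q120863 : ∀ i, i < 120863 → P i := stepQ 120862 Q120862 (allL N120862 (tt N105457 (iv1 F523146)) (tt N119685 (iv0 F523147)) (tt N115334 F523141) (tt N103649 (iv3 D224121)) (tt N105602 F523144) (tt N103822 F523142) (tt N113755 (iv6 F523145)) (tt N103718 F523143))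
theorem Q120864 : ∀ i, i < 120864 → P i := stepQ 120863 Q120863 (allL N120863 (tt N114588 F523151) (tt N114591 F523152) (tt N114589 F523148) (tt N105607 F523149) (tt N103649 (iv4 D224122)) (tt N121129 (iv5 F524666)) (tt N121605 F527295) (tt N105606 F523150))
theorem Q120865 : ∀ i, i < 120865 → P i := stepQ 120864 Q120864 (allL N120864 (tt N121012 F524010) (tt N118748 (iv0 F523155)) (tt N121000 (iv2 F523947)) (tt N113755 F523153) (tt N121605 F527294) (tt N122391 (iv5 F531820)) (tt N103649 (iv6 D224123)) (tt N116152 F523154))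
theorem Q120866 : ∀ i, i < 120866 → P i := stepQ 120865 Q120865 (allL N120865 (tt N122363 F531651) (tt N109151 F523159) (tt N120891 (iv2 F523316)) (tt N119559 F523156) (tt N113113 F523157) (tt N103652 (iv5 D224124)) (tt N120888 (iv6 F523303)) (tt N120682 F523158))
theorem Q120867 : ∀ i, i < 120867 → P i := stepQ 120866 Q120866 (allL N120866 (tt N119613 F523165) (tt N119612 (iv0 F523166)) (tt N108006 F523160) (tt N103654 (iv3 D224125)) (tt N108005 F523161) (tt N116912 F523162) (tt N106847 F523163) (tt N103730 F523164))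
theorem Q120868 : ∀ i, i < 120868 → P i := stepQ 120867 Q120867 (allL N120867 (tt N116790 F523172) (tt N116891 (iv0 F523173)) (tt N103732 F523167) (tt N108879 F523168) (tt N113224 F523169) (tt N113784 F523170) (tt N103655 (iv6 D224126)) (tt N116211 F523171))
theorem Q120869 : ∀ i, i < 120869 → P i := stepQ 120868 Q120868 (allL N120868 (tt N104717 (iv1 F523177)) (tt N103662 (iv0 D224127)) (tt N119641 (iv2 F523176)) (tt N120482 (iv3 F523179)) (tt N105677 F523175) (tt N119676 F523174) (tt N119650 F523180) (tt N111211 F523178))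
theorem Q120870 : ∀ i, i < 120870 → P i := stepQ 120869 Q120869 (allL N120869 (tt N104733 F523184) (tt N104735 (iv0 F523185)) (tt N111215 F523181) (tt N103663 (iv3 D224128)) (tt N122502 (iv4 F532511)) (tt N104652 F523182) (tt N121112 (iv6 F524569)) (tt N119640 F523183))
theorem Q120871 : ∀ i, i < 120871 → P i := stepQ 120870 Q120870 (allL N120870 (tt N119578 F523190) (tt N120107 (iv0 F523192)) (tt N120484 F523186) (tt N111211 F523187) (tt N119029 F523188) (tt N119526 (iv5 F523191)) (tt N103664 (iv6 D224129)) (tt N120482 F523189))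
theorem Q120872 : ∀ i, i < 120872 → P i := stepQ 120871 Q120871 (allL N120871 (tt N109164 F523197) (tt N119144 (iv0 F523198)) (tt N103675 F523193) (tt N121002 (iv3 F523956)) (tt N118626 F523194) (tt N119473 F523195) (tt N103673 (iv6 D224130)) (tt N104719 F523196))
theorem Q120873 : ∀ i, i < 120873 → P i := stepQ 120872 Q120872 (allL N120872 (tt N103679 (iv1 F523201)) (tt N103674 (iv0 D224131)) (tt N103676 F523203) (tt N103751 F523200) (tt N106496 F523199) (tt N122407 (iv5 F531918)) (tt N121026 (iv6 F524089)) (tt N103677 (iv7 F523202)))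
theorem Q120874 : ∀ i, i < 120874 → P i := stepQ 120873 Q120873 (allL N120873 (tt N103674 (iv1 D224132)) (tt N103679 F523204) (tt N103677 F523210) (tt N114358 (iv3 F523207)) (tt N114969 (iv4 F523208)) (tt N114357 F523206) (tt N119666 (iv6 F523209)) (tt N103676 F523205))
theorem Q120875 : ∀ i, i < 120875 → P i := stepQ 120874 Q120874 (allL N120874 (tt N119144 (iv1 F523216)) (tt N109164 F523217) (tt N104719 F523211) (tt N103683 F523212) (tt N119985 F523213) (tt N104752 F523214) (tt N104672 F523215) (tt N103675 (iv7 D224133)))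
theorem Q120876 : ∀ i, i < 120876 → P i := stepQ 120875 Q120875 (allL N120875 (tt N103790 (iv1 F523224)) (tt N119492 (iv0 F523222)) (tt N114360 F523218) (tt N103676 (iv3 D224134)) (tt N104374 F523219) (tt N109437 F523223) (tt N104373 F523220) (tt N114358 F523221))
theorem Q120877 : ∀ i, i < 120877 → P i := stepQ 120876 Q120876 (allL N120876 (tt N109442 F523229) (tt N103797 F523230) (tt N122407 (iv2 F531915)) (tt N109437 F523225) (tt N114416 F523228) (tt N103676 (iv5 D224135)) (tt N115614 F523226) (tt N114357 F523227))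
theorem Q120878 : ∀ i, i < 120878 → P i := stepQ 120877 Q120877 (allL N120877 (tt N103797 F523235) (tt N109442 F523236) (tt N114357 F523231) (tt N109178 F523232) (tt N119526 F523233) (tt N103677 (iv5 D224136)) (tt N109176 F523234) (tt N122407 (iv7 F531919)))
theorem Q120879 : ∀ i, i < 120879 → P i := stepQ 120878 Q120878 (allL N120878 (tt N106517 (iv1 F523242)) (tt N106512 F523243) (tt N106989 F523237) (tt N104752 F523238) (tt N106071 F523239) (tt N103683 F523240) (tt N104751 F523241) (tt N103682 (iv7 D224137)))
theorem Q120880 : ∀ i, i < 120880 → P i := stepQ 120879 Q120879 (allL N120879 (tt N113797 F523248) (tt N121025 (iv0 F524082)) (tt N121004 (iv2 F523969)) (tt N120745 F523244) (tt N110312 F523245) (tt N120707 F523246) (tt N103685 (iv6 D224138)) (tt N115404 F523247))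
theorem Q120881 : ∀ i, i < 120881 → P i := stepQ 120880 Q120880 (allL N120880 (tt N120992 F523905) (tt N104642 (iv0 F523254)) (tt N114386 F523249) (tt N103687 F523250) (tt N114384 F523253) (tt N103686 (iv5 D224139)) (tt N116210 F523251) (tt N114389 F523252))
theorem Q120882 : ∀ i, i < 120882 → P i := stepQ 120881 Q120881 (allL N120881 (tt N113807 F523260) (tt N116274 F523261) (tt N116273 F523255) (tt N106151 F523256) (tt N116284 F523259) (tt N103688 (iv5 D224140)) (tt N118993 F523257) (tt N106145 F523258))
theorem Q120883 : ∀ i, i < 120883 → P i := stepQ 120882 Q120882 (allL N120882 (tt N115020 F523267) (tt N108905 F523268) (tt N106148 F523262) (tt N114982 F523263) (tt N103693 (iv4 D224141)) (tt N118053 F523264) (tt N118204 F523265) (tt N106143 F523266))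
theorem Q120884 : ∀ i, i < 120884 → P i := stepQ 120883 Q120883 (allL N120883 (tt N103712 F523274) (tt N120916 F523458) (tt N120108 F523269) (tt N103699 (iv3 D224142)) (tt N120104 F523270) (tt N120827 F523271) (tt N104612 F523272) (tt N120109 F523273))
theorem Q120885 : ∀ i, i < 120885 → P i := stepQ 120884 Q120884 (allL N120884 (tt N104626 F523280) (tt N120835 (iv0 F523281)) (tt N105937 F523276) (tt N120905 F523389) (tt N105530 F523277) (tt N104816 F523278) (tt N103702 (iv6 D224143)) (tt N120833 F523279))
theorem Q120886 : ∀ i, i < 120886 → P i := stepQ 120885 Q120885 (allL N120885 (tt N104642 F523286) (tt N120992 (iv0 F523904)) (tt N114389 F523282) (tt N103707 (iv3 D224144)) (tt N114388 F523283) (tt N120998 (iv5 F523935)) (tt N116244 F523284) (tt N114386 F523285))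
theorem Q120887 : ∀ i, i < 120887 → P i := stepQ 120886 Q120886 (allL N120886 (tt N120916 (iv1 F523459)) (tt N103712 (iv0 D224145)) (tt N120109 (iv2 F523288)) (tt N114375 F523289) (tt N120105 F523287) (tt N114374 (iv5 F523292)) (tt N114828 F523290) (tt N120108 F523291))
theorem Q120888 : ∀ i, i < 120888 → P i := stepQ 120887 Q120887 (allL N120887 (tt N114950 F523297) (tt N116260 (iv0 F523299)) (tt N109428 F523293) (tt N104686 F523294) (tt N105071 F523298) (tt N103712 (iv5 D224146)) (tt N103713 F523295) (tt N104693 F523296))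
theorem Q120889 : ∀ i, i < 120889 → P i := stepQ 120888 Q120888 (allL N120888 (tt N103725 (iv1 F523305)) (tt N103716 (iv0 D224147)) (tt N103722 (iv2 F523304)) (tt N111168 F523302) (tt N116334 F523301) (tt N104528 F523300) (tt N120865 F523303) (tt N103723 F523306))
theorem Q120890 : ∀ i, i < 120890 → P i := stepQ 120889 Q120889 (allL N120889 (tt N121789 (iv1 F528329)) (tt N120178 F523310) (tt N120254 F523307) (tt N114715 F523308) (tt N121988 (iv4 F529478)) (tt N103721 (iv5 D224148)) (tt N117132 F523309) (tt N121781 (iv7 F528275)))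
theorem Q120891 : ∀ i, i < 120891 → P i := stepQ 120890 Q120890 (allL N120890 (tt N116336 F523313) (tt N116333 F523314) (tt N116334 F523311) (tt N121320 (iv3 F525745)) (tt N103722 (iv4 D224149)) (tt N122413 (iv5 F531957)) (tt N109119 (iv6 F523315)) (tt N116335 F523312))
theorem Q120892 : ∀ i, i < 120892 → P i := stepQ 120891 Q120891 (allL N120891 (tt N118747 (iv1 F523321)) (tt N119470 (iv0 F523319)) (tt N120865 F523316) (tt N120894 (iv3 F523330)) (tt N109119 F523317) (tt N120626 F523318) (tt N103722 (iv6 D224150)) (tt N120625 (iv7 F523320)))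
theorem Q120893 : ∀ i, i < 120893 → P i := stepQ 120892 Q120892 (allL N120892 (tt N116333 F523325) (tt N116336 F523326) (tt N116335 F523322) (tt N114578 F523323) (tt N103723 (iv4 D224151)) (tt N121945 (iv5 F529223)) (tt N121317 (iv6 F525726)) (tt N116334 F523324))
theorem Q120894 : ∀ i, i < 120894 → P i := stepQ 120893 Q120893 (allL N120893 (tt N122056 F529897) (tt N121151 (iv0 F524803)) (tt N121318 (iv2 F525731)) (tt N111170 F523327) (tt N121317 (iv4 F525729)) (tt N121092 (iv5 F524476)) (tt N103723 (iv6 D224152)) (tt N119674 F523328))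
theorem Q120895 : ∀ i, i < 120895 → P i := stepQ 120894 Q120894 (allL N120894 (tt N118143 F523334) (tt N109150 (iv0 F523335)) (tt N116914 F523329) (tt N120891 F523330) (tt N107804 F523331) (tt N109158 F523332) (tt N103731 (iv6 D224153)) (tt N120830 F523333))
theorem Q120896 : ∀ i, i < 120896 → P i := stepQ 120895 Q120895 (allL N120895 (tt N116211 (iv1 F523340)) (tt N103732 (iv0 D224154)) (tt N116790 (iv2 F523339)) (tt N122056 (iv3 F529892)) (tt N108784 F523337) (tt N116218 F523336) (tt N119613 F523338) (tt N116891 F523341))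
theorem Q120897 : ∀ i, i < 120897 → P i := stepQ 120896 Q120896 (allL N120896 (tt N121609 F527319) (tt N122054 (iv0 F529884)) (tt N122106 (iv2 F530200)) (tt N118921 F523342) (tt N103739 F523343) (tt N112856 F523344) (tt N103738 (iv6 D224155)) (tt N121316 (iv7 F525722)))
theorem Q120898 : ∀ i, i < 120898 → P i := stepQ 120897 Q120897 (allL N120897 (tt N104696 (iv1 F523348)) (tt N103739 (iv0 D224156)) (tt N120820 (iv2 F523349)) (tt N120921 F523487) (tt N118673 F523346) (tt N104621 F523345) (tt N114410 F523347) (tt N120831 (iv7 F523350)))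
theorem Q120899 : ∀ i, i < 120899 → P i := stepQ 120898 Q120898 (allL N120898 (tt N103739 (iv1 D224157)) (tt N104696 F523351) (tt N120831 F523356) (tt N104573 (iv3 F523354)) (tt N118640 F523353) (tt N104111 (iv5 F523355)) (tt N122325 (iv6 F531432)) (tt N120820 F523352))
theorem Q120900 : ∀ i, i < 120900 → P i := stepQ 120899 Q120899 (allL N120899 (tt N118124 F523362) (tt N118125 F523363) (tt N117769 F523357) (tt N103744 F523358) (tt N106154 F523359) (tt N103743 (iv5 D224158)) (tt N118438 F523360) (tt N120454 F523361))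
theorem Q120901 : ∀ i, i < 120901 → P i := stepQ 120900 Q120900 (allL N120900 (tt N116258 F523369) (tt N104714 F523368) (tt N116259 F523364) (tt N120641 F523365) (tt N114951 F523370) (tt N103747 (iv5 D224159)) (tt N103748 F523366) (tt N116253 F523367))
theorem Q120902 : ∀ i, i < 120902 → P i := stepQ 120901 Q120901 (allL N120901 (tt N103810 F523375) (tt N103814 F523376) (tt N114359 F523371) (tt N122407 (iv3 F531916)) (tt N104053 F523372) (tt N103751 (iv5 D224160)) (tt N117959 F523373) (tt N109178 F523374))
theorem Q120903 : ∀ i, i < 120903 → P i := stepQ 120902 Q120902 (allL N120902 (tt N107796 F523382) (tt N120552 (iv0 F523383)) (tt N107696 F523377) (tt N112533 F523378) (tt N103760 F523379) (tt N112532 F523380) (tt N103759 (iv6 D224161)) (tt N120205 F523381))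
theorem Q120904 : ∀ i, i < 120904 → P i := stepQ 120903 Q120903 (allL N120903 (tt N121036 F524146) (tt N122387 (iv0 F531798)) (tt N120938 (iv2 F523577)) (tt N122493 (iv3 F532462)) (tt N122494 (iv4 F532469)) (tt N121005 (iv5 F523975)) (tt N103765 (iv6 D224162)) (tt N122685 (iv7 F533600)))
theorem Q120905 : ∀ i, i < 120905 → P i := stepQ 120904 Q120904 (allL N120904 (tt N115333 (iv1 F523386)) (tt N116153 (iv0 F523385)) (tt N121035 (iv2 F524138)) (tt N122131 (iv3 F530348)) (tt N122483 (iv4 F532400)) (tt N113536 F523384) (tt N103766 (iv6 D224163)) (tt N122241 (iv7 F530959)))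
theorem Q120906 : ∀ i, i < 120906 → P i := stepQ 120905 Q120905 (allL N120905 (tt N103768 (iv1 D224164)) (tt N117935 F523387) (tt N105857 F523392) (tt N120884 (iv3 F523389)) (tt N107018 (iv4 F523390)) (tt N121052 (iv5 F524248)) (tt N107037 (iv6 F523391)) (tt N107014 F523388))
theorem Q120907 : ∀ i, i < 120907 → P i := stepQ 120906 Q120906 (allL N120906 (tt N120938 F523581) (tt N122685 (iv0 F533601)) (tt N122387 (iv2 F531794)) (tt N103770 F523393) (tt N114170 F523395) (tt N103768 (iv5 D224165)) (tt N114169 F523394) (tt N121036 (iv7 F524143)))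
theorem Q120908 : ∀ i, i < 120908 → P i := stepQ 120907 Q120907 (allL N120907 (tt N115443 F523399) (tt N120758 F523400) (tt N103940 F523396) (tt N115445 F523397) (tt N109542 F523398) (tt N103769 (iv5 D224166)) (tt N121014 (iv6 F524020)) (tt N121037 (iv7 F524150)))
theorem Q120909 : ∀ i, i < 120909 → P i := stepQ 120908 Q120908 (allL N120908 (tt N103838 (iv1 F523403)) (tt N103770 (iv0 D224167)) (tt N120937 (iv2 F523570)) (tt N115508 (iv3 F523404)) (tt N111780 F523401) (tt N120923 (iv5 F523500)) (tt N105860 F523402) (tt N121038 (iv7 F524157)))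
theorem Q120910 : ∀ i, i < 120910 → P i := stepQ 120909 Q120909 (allL N120909 (tt N116260 (iv1 F523410)) (tt N114950 (iv0 F523409)) (tt N104693 F523405) (tt N109431 F523406) (tt N105070 F523407) (tt N120916 (iv5 F523456)) (tt N103781 (iv6 D224168)) (tt N109428 F523408))
theorem Q120911 : ∀ i, i < 120911 → P i := stepQ 120910 Q120910 (allL N120910 (tt N106175 F523416) (tt N105853 F523417) (tt N105060 F523411) (tt N114808 F523412) (tt N105885 F523413) (tt N103811 (iv5 D224169)) (tt N120199 F523414) (tt N117590 F523415))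
theorem Q120912 : ∀ i, i < 120912 → P i := stepQ 120911 Q120911 (allL N120911 (tt N117956 F523423) (tt N104553 (iv0 F523424)) (tt N116249 F523418) (tt N103818 (iv3 D224170)) (tt N110276 F523419) (tt N120854 F523420) (tt N104602 F523421) (tt N116248 F523422))
theorem Q120913 : ∀ i, i < 120913 → P i := stepQ 120912 Q120912 (allL N120912 (tt N119432 F523430) (tt N118955 (iv0 F523431)) (tt N119373 F523425) (tt N103820 (iv3 D224171)) (tt N113919 F523426) (tt N104114 F523427) (tt N112159 F523428) (tt N118991 F523429))
theorem Q120914 : ∀ i, i < 120914 → P i := stepQ 120913 Q120913 (allL N120913 (tt N113242 F523437) (tt N113241 F523438) (tt N113240 F523432) (tt N105613 F523433) (tt N103827 (iv4 D224172)) (tt N105563 F523434) (tt N118333 F523435) (tt N105621 F523436))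
theorem Q120915 : ∀ i, i < 120915 → P i := stepQ 120914 Q120914 (allL N120914 (tt N120481 F523444) (tt N120480 (iv0 F523445)) (tt N103863 F523439) (tt N103860 F523440) (tt N120479 F523441) (tt N104533 F523442) (tt N103828 (iv6 D224173)) (tt N103856 F523443))
theorem Q120916 : ∀ i, i < 120916 → P i := stepQ 120915 Q120915 (allL N120915 (tt N103839 (iv1 D224174)) (tt N103848 F523446) (tt N103846 F523452) (tt N120859 (iv3 F523450)) (tt N105618 F523448) (tt N120643 F523449) (tt N105617 (iv6 F523451)) (tt N103845 F523447))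
theorem Q120917 : ∀ i, i < 120917 → P i := stepQ 120916 Q120916 (allL N120916 (tt N120883 (iv1 F523458)) (tt N120886 F523459) (tt N119511 F523453) (tt N119642 F523454) (tt N109200 F523455) (tt N120909 F523456) (tt N109144 F523457) (tt N103843 (iv7 D224175)))
theorem Q120918 : ∀ i, i < 120918 → P i := stepQ 120917 Q120917 (allL N120917 (tt N107484 (iv1 F523464)) (tt N120437 F523465) (tt N118821 F523460) (tt N121140 (iv3 F524733)) (tt N103848 F523461) (tt N105010 F523462) (tt N116748 F523463) (tt N103844 (iv7 D224176)))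
theorem Q120919 : ∀ i, i < 120919 → P i := stepQ 120918 Q120918 (allL N120918 (tt N116911 F523470) (tt N109389 (iv0 F523471)) (tt N116276 F523466) (tt N103845 (iv3 D224177)) (tt N107801 F523467) (tt N109147 F523468) (tt N121030 (iv6 F524110)) (tt N120859 F523469))
theorem Q120920 : ∀ i, i < 120920 → P i := stepQ 120919 Q120919 (allL N120919 (tt N120737 F523476) (tt N120677 F523477) (tt N120643 F523472) (tt N117974 F523473) (tt N117975 F523474) (tt N103846 (iv5 D224178)) (tt N120635 F523478) (tt N120689 F523475))
theorem Q120921 : ∀ i, i < 120921 → P i := stepQ 120920 Q120920 (allL N120920 (tt N122354 (iv1 F531591)) (tt N119495 (iv0 F523482)) (tt N122355 (iv2 F531598)) (tt N103851 (iv3 D224179)) (tt N113138 F523479) (tt N119205 F523480) (tt N122490 (iv6 F532443)) (tt N113135 F523481))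
theorem Q120922 : ∀ i, i < 120922 → P i := stepQ 120921 Q120921 (allL N120921 (tt N103856 (iv1 D224180)) (tt N103863 F523483) (tt N120481 F523489) (tt N120897 (iv3 F523487)) (tt N116879 F523486) (tt N120683 F523485) (tt N103858 (iv6 F523488)) (tt N120480 F523484))
theorem Q120923 : ∀ i, i < 120923 → P i := stepQ 120922 Q120922 (allL N120922 (tt N119506 (iv1 F523496)) (tt N120839 F523495) (tt N103868 (iv2 D224181)) (tt N112916 F523490) (tt N117352 F523491) (tt N115799 F523492) (tt N117746 F523493) (tt N120838 F523494))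
theorem Q120924 : ∀ i, i < 120924 → P i := stepQ 120923 Q120923 (allL N120923 (tt N103869 (iv1 D224182)) (tt N111912 F523497) (tt N103946 F523502) (tt N121045 (iv3 F524202)) (tt N103948 F523499) (tt N120908 F523500) (tt N104508 (iv6 F523501)) (tt N111910 F523498))
theorem Q120925 : ∀ i, i < 120925 → P i := stepQ 120924 Q120924 (allL N120924 (tt N103940 F523508) (tt N121037 (iv0 F524151)) (tt N120758 F523503) (tt N117937 F523504) (tt N115444 F523505) (tt N103869 (iv5 D224183)) (tt N103941 F523506) (tt N115443 F523507))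
theorem Q120926 : ∀ i, i < 120926 → P i := stepQ 120925 Q120925 (allL N120925 (tt N105206 (iv1 F523515)) (tt N104751 F523514) (tt N103871 (iv2 D224184)) (tt N116282 F523509) (tt N105215 F523510) (tt N104483 F523511) (tt N117684 F523512) (tt N105202 F523513))
theorem Q120927 : ∀ i, i < 120927 → P i := stepQ 120926 Q120926 (allL N120926 (tt N104731 (iv1 F523521)) (tt N103877 (iv0 D224185)) (tt N104732 (iv2 F523520)) (tt N104722 F523518) (tt N107095 F523517) (tt N119659 F523516) (tt N113131 F523519) (tt N104726 F523522))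
theorem Q120928 : ∀ i, i < 120928 → P i := stepQ 120927 Q120927 (allL N120927 (tt N114441 F523528) (tt N116749 (iv0 F523529)) (tt N114687 F523523) (tt N114312 F523524) (tt N114686 F523525) (tt N114311 F523526) (tt N103879 (iv6 D224186)) (tt N114581 F523527))
theorem Q120929 : ∀ i, i < 120929 → P i := stepQ 120928 Q120928 (allL N120928 (tt N106134 F523535) (tt N119662 (iv0 F523536)) (tt N120638 F523530) (tt N116253 F523531) (tt N120634 F523532) (tt N120107 F523533) (tt N103884 (iv6 D224187)) (tt N120641 F523534))
theorem Q120930 : ∀ i, i < 120930 → P i := stepQ 120929 Q120929 (allL N120929 (tt N115682 F523541) (tt N114112 F523542) (tt N120759 F523537) (tt N122642 (iv3 F533340)) (tt N103941 (iv4 D224188)) (tt N120759 F523538) (tt N115444 F523539) (tt N114091 F523540))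
theorem Q120931 : ∀ i, i < 120931 → P i := stepQ 120930 Q120930 (allL N120930 (tt N115863 (iv1 F523545)) (tt N103943 (iv0 D224189)) (tt N120846 F523547) (tt N122383 (iv3 F531770)) (tt N118990 F523544) (tt N120846 F523543) (tt N109544 (iv6 F523546)) (tt N121053 (iv7 F524253)))
theorem Q120932 : ∀ i, i < 120932 → P i := stepQ 120931 Q120931 (allL N120931 (tt N103943 (iv1 D224190)) (tt N115863 F523548) (tt N121053 F524251) (tt N115891 (iv3 F523551)) (tt N104556 F523550) (tt N121053 (iv5 F524249)) (tt N114089 F523552) (tt N120846 F523549))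
theorem Q120933 : ∀ i, i < 120933 → P i := stepQ 120932 Q120932 (allL N120932 (tt N112425 (iv1 F523557)) (tt N118890 (iv0 F523556)) (tt N121714 (iv2 F527913)) (tt N104988 F523553) (tt N103944 F523554) (tt N104987 F523555) (tt N103943 (iv6 D224191)) (tt N121710 (iv7 F527894)))
theorem Q120934 : ∀ i, i < 120934 → P i := stepQ 120933 Q120933 (allL N120933 (tt N121713 F527912) (tt N103944 (iv0 D224192)) (tt N122532 (iv2 F532685)) (tt N119570 (iv3 F523559)) (tt N122187 (iv4 F530666)) (tt N119568 F523558) (tt N114829 (iv6 F523560)) (tt N122568 (iv7 F532893)))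
theorem Q120935 : ∀ i, i < 120935 → P i := stepQ 120934 Q120934 (allL N120934 (tt N103944 (iv1 D224193)) (tt N121713 (iv0 F527909)) (tt N122568 (iv2 F532889)) (tt N122323 (iv3 F531418)) (tt N111823 F523561) (tt N122288 (iv5 F531204)) (tt N111822 (iv6 F523562)) (tt N122532 (iv7 F532688)))
theorem Q120936 : ∀ i, i < 120936 → P i := stepQ 120935 Q120935 (allL N120935 (tt N122568 (iv1 F532895)) (tt N122532 (iv0 F532690)) (tt N121713 (iv2 F527906)) (tt N121013 (iv3 F524013)) (tt N121710 (iv4 F527895)) (tt N121012 F524011) (tt N121057 (iv6 F524276)) (tt N103944 (iv7 D224194)))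
theorem Q120937 : ∀ i, i < 120937 → P i := stepQ 120936 Q120936 (allL N120936 (tt N118076 F523568) (tt N118078 (iv0 F523569)) (tt N120797 F523563) (tt N103945 (iv3 D224195)) (tt N104304 F523564) (tt N118614 F523565) (tt N104303 F523566) (tt N120629 F523567))
theorem Q120938 : ∀ i, i < 120938 → P i := stepQ 120937 Q120937 (allL N120937 (tt N104683 F523575) (tt N104742 F523576) (tt N120908 F523570) (tt N103947 F523571) (tt N109539 F523574) (tt N103946 (iv5 D224196)) (tt N105940 F523572) (tt N111913 F523573))
theorem Q120939 : ∀ i, i < 120939 → P i := stepQ 120938 Q120938 (allL N120938 (tt N122627 (iv1 F533258)) (tt N120906 (iv0 F523581)) (tt N120903 F523577) (tt N105940 F523578) (tt N119339 F523579) (tt N120848 F523580) (tt N103947 (iv6 D224197)) (tt N120040 (iv7 F523582)))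
theorem Q120940 : ∀ i, i < 120940 → P i := stepQ 120939 Q120939 (allL N120939 (tt N119348 F523588) (tt N115853 (iv0 F523589)) (tt N108554 F523583) (tt N108750 F523584) (tt N120852 F523587) (tt N103974 (iv5 D224198)) (tt N115624 F523585) (tt N108556 F523586))
theorem Q120941 : ∀ i, i < 120941 → P i := stepQ 120940 Q120940 (allL N120940 (tt N108539 F523594) (tt N108535 (iv0 F523595)) (tt N108536 F523590) (tt N112677 F523591) (tt N108612 F523592) (tt N122542 (iv5 F532748)) (tt N103976 (iv6 D224199)) (tt N108537 F523593))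
theorem Q120942 : ∀ i, i < 120942 → P i := stepQ 120941 Q120941 (allL N120941 (tt N114859 F523601) (tt N114861 F523602) (tt N104036 F523596) (tt N115357 F523597) (tt N115578 F523600) (tt N104034 (iv5 D224200)) (tt N111502 F523598) (tt N120765 F523599))
theorem Q120943 : ∀ i, i < 120943 → P i := stepQ 120942 Q120942 (allL N120942 (tt N120765 (iv1 F523607)) (tt N104036 (iv0 D224201)) (tt N114859 (iv2 F523605)) (tt N122479 F532373) (tt N122339 (iv4 F531509)) (tt N112402 F523603) (tt N117577 F523604) (tt N114861 F523606))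
theorem Q120944 : ∀ i, i < 120944 → P i := stepQ 120943 Q120943 (allL N120943 (tt N114861 (iv1 F523613)) (tt N114859 F523614) (tt N120765 F523608) (tt N104045 F523609) (tt N114149 F523610) (tt N104037 F523611) (tt N113918 F523612) (tt N104036 (iv7 D224202)))
theorem Q120945 : ∀ i, i < 120945 → P i := stepQ 120944 Q120944 (allL N120944 (tt N116057 F523617) (tt N116055 F523618) (tt N122469 (iv2 F532302)) (tt N104039 F523615) (tt N122362 (iv4 F531641)) (tt N104038 (iv5 D224203)) (tt N111310 F523616) (tt N121063 (iv7 F524313)))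
theorem Q120946 : ∀ i, i < 120946 → P i := stepQ 120945 Q120945 (allL N120945 (tt N104039 (iv1 D224204)) (tt N104041 F523619) (tt N115509 F523624) (tt N111624 F523625) (tt N111484 F523622) (tt N108498 F523621) (tt N108565 (iv6 F523623)) (tt N111622 F523620))
theorem Q120947 : ∀ i, i < 120947 → P i := stepQ 120946 Q120946 (allL N120946 (tt N118903 F523629) (tt N115624 F523630) (tt N120037 F523626) (tt N104042 (iv3 D224205)) (tt N122324 (iv4 F531426)) (tt N115726 F523627) (tt N119342 F523628) (tt N121064 (iv7 F524318)))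
theorem Q120948 : ∀ i, i < 120948 → P i := stepQ 120947 Q120947 (allL N120947 (tt N115848 F523635) (tt N115847 F523636) (tt N115849 F523631) (tt N111819 (iv3 F523637)) (tt N104042 (iv4 D224206)) (tt N111818 F523632) (tt N115858 F523633) (tt N114868 F523634))
theorem Q120949 : ∀ i, i < 120949 → P i := stepQ 120948 Q120948 (allL N120948 (tt N119476 F523642) (tt N104170 F523643) (tt N119601 F523638) (tt N122057 F529902) (tt N104055 (iv4 D224207)) (tt N109114 F523641) (tt N119589 F523639) (tt N116780 F523640))
theorem Q120950 : ∀ i, i < 120950 → P i := stepQ 120949 Q120949 (allL N120949 (tt N105674 F523649) (tt N105676 F523650) (tt N106394 F523644) (tt N107309 F523645) (tt N104057 (iv4 D224208)) (tt N117176 F523646) (tt N107304 F523647) (tt N106393 F523648))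
theorem Q120951 : ∀ i, i < 120951 → P i := stepQ 120950 Q120950 (allL N120950 (tt N113073 F523656) (tt N113504 F523657) (tt N113503 F523651) (tt N104102 F523652) (tt N120257 F523655) (tt N104098 (iv5 D224209)) (tt N104099 F523653) (tt N113502 F523654))
theorem Q120952 : ∀ i, i < 120952 → P i := stepQ 120951 Q120951 (allL N120951 (tt N117261 F523661) (tt N121918 (iv0 F529054)) (tt N121101 (iv2 F524515)) (tt N120259 F523658) (tt N104102 (iv4 D224210)) (tt N118855 F523660) (tt N104106 F523659) (tt N122220 (iv7 F530852)))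
theorem Q120953 : ∀ i, i < 120953 → P i := stepQ 120952 Q120952 (allL N120952 (tt N108883 F523665) (tt N108883 (iv0 F523666)) (tt N121060 (iv2 F524292)) (tt N104130 (iv3 D224211)) (tt N116905 F523662) (tt N108199 F523663) (tt N107224 F523664) (tt N121060 (iv7 F524294)))
theorem Q120954 : ∀ i, i < 120954 → P i := stepQ 120953 Q120953 (allL N120953 (tt N120256 F523670) (tt N120390 F523671) (tt N110398 F523667) (tt N122195 (iv3 F530706)) (tt N104135 (iv4 D224212)) (tt N121593 (iv5 F527216)) (tt N114616 F523668) (tt N109500 F523669))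
theorem Q120955 : ∀ i, i < 120955 → P i := stepQ 120954 Q120954 (allL N120954 (tt N114623 F523677) (tt N114406 F523678) (tt N120222 F523672) (tt N116714 F523673) (tt N120219 F523676) (tt N104138 (iv5 D224213)) (tt N105005 F523674) (tt N110521 F523675))
theorem Q120956 : ∀ i, i < 120956 → P i := stepQ 120955 Q120955 (allL N120955 (tt N104170 (iv1 D224214)) (tt N119476 F523679) (tt N116780 (iv2 F523685)) (tt N114713 (iv3 F523683)) (tt N105852 F523682) (tt N109113 F523681) (tt N109890 F523684) (tt N119601 F523680))
theorem Q120957 : ∀ i, i < 120957 → P i := stepQ 120956 Q120956 (allL N120956 (tt N116780 (iv1 F523691)) (tt N119601 F523692) (tt N119476 F523686) (tt N115555 F523687) (tt N104171 F523688) (tt N115554 F523689) (tt N106355 F523690) (tt N104170 (iv7 D224215)))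
theorem Q120958 : ∀ i, i < 120958 → P i := stepQ 120957 Q120957 (allL N120957 (tt N113107 (iv1 F523697)) (tt N113106 F523698) (tt N112910 F523693) (tt N113112 F523694) (tt N121298 (iv4 F525616)) (tt N119584 F523695) (tt N119602 F523696) (tt N104180 (iv7 D224216)))
theorem Q120959 : ∀ i, i < 120959 → P i := stepQ 120958 Q120958 (allL N120958 (tt N119934 F523704) (tt N110767 (iv0 F523705)) (tt N119935 F523699) (tt N110830 F523700) (tt N117788 F523701) (tt N110235 F523702) (tt N104183 (iv6 D224217)) (tt N119717 F523703))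
theorem Q120960 : ∀ i, i < 120960 → P i := stepQ 120959 Q120959 (allL N120959 (tt N104229 (iv1 D224218)) (tt N105917 F523706) (tt N116778 F523711) (tt N105971 (iv3 F523710)) (tt N105800 F523709) (tt N109119 F523708) (tt N106331 F523712) (tt N105965 F523707))
theorem Q120961 : ∀ i, i < 120961 → P i := stepQ 120960 Q120960 (allL N120960 (tt N106958 F523718) (tt N106957 F523719) (tt N106318 F523713) (tt N108251 F523714) (tt N104244 (iv4 D224219)) (tt N111530 F523715) (tt N105958 F523716) (tt N106070 F523717))
theorem Q120962 : ∀ i, i < 120962 → P i := stepQ 120961 Q120961 (allL N120961 (tt N115028 F523725) (tt N107788 (iv0 F523726)) (tt N107706 F523720) (tt N104246 (iv3 D224220)) (tt N117103 F523721) (tt N108840 F523722) (tt N109284 F523723) (tt N116614 F523724))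
theorem Q120963 : ∀ i, i < 120963 → P i := stepQ 120962 Q120962 (allL N120962 (tt N104277 (iv1 F523732)) (tt N104276 F523733) (tt N104278 F523727) (tt N120583 F523728) (tt N114964 F523729) (tt N118781 F523730) (tt N118315 F523731) (tt N104275 (iv7 D224221)))
theorem Q120964 : ∀ i, i < 120964 → P i := stepQ 120963 Q120963 (allL N120963 (tt N104289 (iv1 F523736)) (tt N104287 (iv0 D224222)) (tt N120975 F523810) (tt N112401 F523735) (tt N104293 F523734) (tt N122417 (iv5 F531981)) (tt N104292 (iv6 F523737)) (tt N104405 (iv7 F523738)))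
theorem Q120965 : ∀ i, i < 120965 → P i := stepQ 120964 Q120964 (allL N120964 (tt N104287 (iv1 D224223)) (tt N104289 F523739) (tt N104405 (iv2 F523742)) (tt N122463 F532268) (tt N104403 F523741) (tt N119365 F523740) (tt N116071 (iv6 F523743)) (tt N120975 (iv7 F523806)))
theorem Q120966 : ∀ i, i < 120966 → P i := stepQ 120965 Q120965 (allL N120965 (tt N115212 F523749) (tt N115419 F523750) (tt N104298 F523744) (tt N118059 F523745) (tt N105291 F523746) (tt N104290 (iv5 D224224)) (tt N118966 F523747) (tt N113933 F523748))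
theorem Q120967 : ∀ i, i < 120967 → P i := stepQ 120966 Q120966 (allL N120966 (tt N104292 (iv1 D224225)) (tt N104295 F523751) (tt N118116 (iv2 F523754)) (tt N122282 (iv3 F531160)) (tt N111669 F523753) (tt N122282 (iv5 F531161)) (tt N118116 (iv6 F523755)) (tt N116047 F523752))
theorem Q120968 : ∀ i, i < 120968 → P i := stepQ 120967 Q120967 (allL N120967 (tt N122463 (iv1 F532264)) (tt N120987 (iv0 F523879)) (tt N114365 F523756) (tt N119349 F523757) (tt N113930 F523758) (tt N104295 (iv5 D224226)) (tt N114866 F523759) (tt N117433 F523760))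
theorem Q120969 : ∀ i, i < 120969 → P i := stepQ 120968 Q120968 (allL N120968 (tt N122342 (iv1 F531533)) (tt N104345 F523766) (tt N117422 F523761) (tt N114515 F523762) (tt N116089 F523763) (tt N104297 (iv5 D224227)) (tt N112057 F523764) (tt N115267 F523765))
theorem Q120970 : ∀ i, i < 120970 → P i := stepQ 120969 Q120969 (allL N120969 (tt N113796 F523772) (tt N116230 F523773) (tt N116228 F523767) (tt N119279 F523768) (tt N104301 (iv4 D224228)) (tt N117755 F523769) (tt N119667 F523770) (tt N116229 F523771))
theorem Q120971 : ∀ i, i < 120971 → P i := stepQ 120970 Q120970 (allL N120970 (tt N109915 F523779) (tt N120492 (iv0 F523780)) (tt N104310 F523774) (tt N119504 F523775) (tt N104600 F523776) (tt N110314 F523777) (tt N104309 (iv6 D224229)) (tt N120539 F523778))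
theorem Q120972 : ∀ i, i < 120972 → P i := stepQ 120971 Q120971 (allL N120971 (tt N107018 F523785) (tt N107012 (iv0 F523786)) (tt N107015 F523781) (tt N104323 F523782) (tt N104365 F523783) (tt N122180 (iv5 F530622)) (tt N104321 (iv6 D224230)) (tt N107016 F523784))
theorem Q120973 : ∀ i, i < 120973 → P i := stepQ 120972 Q120972 (allL N120972 (tt N113207 F523790) (tt N105303 F523791) (tt N105252 F523787) (tt N122180 (iv3 F530624)) (tt N122178 (iv4 F530609)) (tt N104323 (iv5 D224231)) (tt N113721 F523788) (tt N114267 F523789))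
theorem Q120974 : ∀ i, i < 120974 → P i := stepQ 120973 Q120973 (allL N120973 (tt N114048 F523797) (tt N116663 F523798) (tt N107043 F523792) (tt N104330 F523793) (tt N108456 F523796) (tt N104329 (iv5 D224232)) (tt N108403 F523794) (tt N105198 F523795))
theorem Q120975 : ∀ i, i < 120975 → P i := stepQ 120974 Q120974 (allL N120974 (tt N122214 (iv1 F530821)) (tt N111956 (iv0 F523804)) (tt N120318 F523799) (tt N104332 (iv3 D224233)) (tt N117264 F523800) (tt N120247 F523801) (tt N120416 F523802) (tt N120317 F523803))
theorem Q120976 : ∀ i, i < 120976 → P i := stepQ 120975 Q120975 (allL N120975 (tt N104340 (iv1 D224234)) (tt N104341 F523805) (tt N120963 (iv2 F523810)) (tt N119365 (iv3 F523808)) (tt N118069 F523807) (tt N122463 (iv5 F532266)) (tt N118068 F523809) (tt N120964 F523806))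
theorem Q120977 : ∀ i, i < 120977 → P i := stepQ 120976 Q120976 (allL N120976 (tt N112508 (iv1 F523815)) (tt N104342 (iv0 D224235)) (tt N115320 (iv2 F523816)) (tt N104352 F523813) (tt N115174 F523812) (tt N105337 F523811) (tt N115320 F523814) (tt N115321 (iv7 F523817)))
theorem Q120978 : ∀ i, i < 120978 → P i := stepQ 120977 Q120977 (allL N120977 (tt N104342 (iv1 D224236)) (tt N112508 F523818) (tt N115321 F523824) (tt N115826 (iv3 F523822)) (tt N115173 F523821) (tt N111907 F523820) (tt N120594 (iv6 F523823)) (tt N115320 F523819))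
theorem Q120979 : ∀ i, i < 120979 → P i := stepQ 120978 Q120978 (allL N120978 (tt N120454 F523829) (tt N117769 F523830) (tt N118124 F523825) (tt N105126 F523826) (tt N120400 F523828) (tt N104357 (iv5 D224237)) (tt N122533 (iv6 F532694)) (tt N118125 F523827))
theorem Q120980 : ∀ i, i < 120980 → P i := stepQ 120979 Q120979 (allL N120979 (tt N104373 F523836) (tt N104370 F523837) (tt N120799 F523831) (tt N119277 F523832) (tt N104359 (iv4 D224238)) (tt N118180 F523835) (tt N115794 F523833) (tt N120798 F523834))
theorem Q120981 : ∀ i, i < 120981 → P i := stepQ 120980 Q120980 (allL N120980 (tt N104370 F523843) (tt N104373 F523844) (tt N120798 F523838) (tt N113797 F523839) (tt N104360 (iv4 D224239)) (tt N118182 F523840) (tt N113796 F523841) (tt N120799 F523842))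
theorem Q120982 : ∀ i, i < 120982 → P i := stepQ 120981 Q120981 (allL N120981 (tt N122531 F532683) (tt N122531 F532684) (tt N121754 (iv2 F528116)) (tt N122341 (iv3 F531522)) (tt N118388 F523845) (tt N122533 (iv5 F532692)) (tt N104366 (iv6 D224240)) (tt N121754 (iv7 F528118)))
theorem Q120983 : ∀ i, i < 120983 → P i := stepQ 120982 Q120982 (allL N120982 (tt N118078 F523851) (tt N118076 F523852) (tt N120629 F523846) (tt N109798 F523847) (tt N104369 (iv4 D224241)) (tt N118612 F523848) (tt N115799 F523849) (tt N120797 F523850))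
theorem Q120984 : ∀ i, i < 120984 → P i := stepQ 120983 Q120983 (allL N120983 (tt N119518 F523856) (tt N119419 F523857) (tt N122386 (iv2 F531788)) (tt N121029 (iv3 F524104)) (tt N119485 F523855) (tt N104379 (iv5 D224242)) (tt N117934 F523853) (tt N120810 F523854))
theorem Q120985 : ∀ i, i < 120985 → P i := stepQ 120984 Q120984 (allL N120984 (tt N117769 F523863) (tt N120454 F523864) (tt N118125 F523858) (tt N118656 F523859) (tt N109655 F523860) (tt N104380 (iv5 D224243)) (tt N118125 F523861) (tt N118124 F523862))
theorem Q120986 : ∀ i, i < 120986 → P i := stepQ 120985 Q120985 (allL N120985 (tt N122683 F533589) (tt N122683 (iv0 F533588)) (tt N121758 (iv2 F528140)) (tt N104520 F523865) (tt N118189 F523866) (tt N104517 F523867) (tt N104385 (iv6 D224244)) (tt N121758 (iv7 F528144)))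
theorem Q120987 : ∀ i, i < 120987 → P i := stepQ 120986 Q120986 (allL N120986 (tt N104388 (iv1 F523873)) (tt N104387 (iv0 D224245)) (tt N105610 (iv2 F523872)) (tt N105616 F523870) (tt N108231 F523869) (tt N113149 F523868) (tt N108142 F523871) (tt N105624 F523874))
theorem Q120988 : ∀ i, i < 120988 → P i := stepQ 120987 Q120987 (allL N120987 (tt N120967 F523879) (tt N115198 F523880) (tt N119365 F523875) (tt N111074 F523876) (tt N115781 F523878) (tt N104405 (iv5 D224246)) (tt N115193 F523877) (tt N122417 (iv7 F531985)))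
theorem Q120989 : ∀ i, i < 120989 → P i := stepQ 120988 Q120988 (allL N120988 (tt N121403 F526167) (tt N121403 (iv0 F526166)) (tt N121415 (iv2 F526233)) (tt N120785 F523881) (tt N104413 F523882) (tt N121417 (iv5 F526244)) (tt N104412 (iv6 D224247)) (tt N121415 (iv7 F526235)))
theorem Q120990 : ∀ i, i < 120990 → P i := stepQ 120989 Q120989 (allL N120989 (tt N104413 (iv1 F523887)) (tt N104413 (iv0 D224248)) (tt N120594 (iv2 F523888)) (tt N120577 F523884) (tt N115322 F523885) (tt N120576 F523883) (tt N115321 F523886) (tt N120594 (iv7 F523889)))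
theorem Q120991 : ∀ i, i < 120991 → P i := stepQ 120990 Q120990 (allL N120990 (tt N118071 F523892) (tt N118071 (iv0 F523893)) (tt N122507 (iv2 F532541)) (tt N104414 F523890) (tt N122717 D225976) (tt N104413 (iv5 D224249)) (tt N106064 F523891) (tt N122507 (iv7 F532544)))
theorem Q120992 : ∀ i, i < 120992 → P i := stepQ 120991 Q120991 (allL N120991 (tt N116084 (iv1 F523898)) (tt N104420 (iv0 D224250)) (tt N122509 (iv2 F532557)) (tt N104422 F523896) (tt N118908 F523895) (tt N116044 F523894) (tt N119462 F523897) (tt N116043 F523899))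
theorem Q120993 : ∀ i, i < 120993 → P i := stepQ 120992 Q120992 (allL N120992 (tt N120885 F523904) (tt N120880 (iv0 F523905)) (tt N120642 F523900) (tt N104436 (iv3 D224251)) (tt N121251 (iv4 F525378)) (tt N120635 F523901) (tt N120796 F523902) (tt N120639 F523903))
theorem Q120994 : ∀ i, i < 120994 → P i := stepQ 120993 Q120993 (allL N120993 (tt N119574 F523910) (tt N119573 (iv0 F523911)) (tt N104443 F523906) (tt N113765 F523907) (tt N114763 F523908) (tt N122234 (iv5 F530923)) (tt N104441 (iv6 D224252)) (tt N116370 F523909))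
theorem Q120995 : ∀ i, i < 120995 → P i := stepQ 120994 Q120994 (allL N120994 (tt N119649 F523915) (tt N122689 (iv0 F533627)) (tt N122234 (iv2 F530920)) (tt N104446 F523912) (tt N118177 F523914) (tt N104443 (iv5 D224253)) (tt N104445 F523913) (tt N122682 (iv7 F533580)))
theorem Q120996 : ∀ i, i < 120996 → P i := stepQ 120995 Q120995 (allL N120995 (tt N120659 (iv1 F523920)) (tt N104445 (iv0 D224254)) (tt N115939 (iv2 F523919)) (tt N120668 F523918) (tt N115943 F523917) (tt N117954 F523916) (tt N122689 (iv6 F533625)) (tt N120664 F523921))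
theorem Q120997 : ∀ i, i < 120997 → P i := stepQ 120996 Q120996 (allL N120996 (tt N105344 F523925) (tt N111819 F523926) (tt N118840 F523922) (tt N118894 F523927) (tt N104446 (iv4 D224255)) (tt N118948 F523923) (tt N104448 F523924) (tt N118900 (iv7 F523928)))
theorem Q120998 : ∀ i, i < 120998 → P i := stepQ 120997 Q120997 (allL N120997 (tt N120857 (iv1 F523933)) (tt N115941 F523934) (tt N118901 F523929) (tt N122682 (iv3 F533577)) (tt N118900 F523930) (tt N104447 F523931) (tt N117948 F523932) (tt N104446 (iv7 D224256)))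
theorem Q120999 : ∀ i, i < 120999 → P i := stepQ 120998 Q120998 (allL N120998 (tt N120836 (iv1 F523939)) (tt N104450 (iv0 D224257)) (tt N104475 (iv2 F523938)) (tt N104508 F523937) (tt N120624 F523936) (tt N120885 F523935) (tt N121045 (iv6 F524203)) (tt N120860 F523940))
theorem Q121000 : ∀ i, i < 121000 → P i := stepQ 120999 Q120999 (allL N120999 (tt N120796 (iv1 F523945)) (tt N104451 (iv0 D224258)) (tt N104500 (iv2 F523944)) (tt N104505 F523943) (tt N104478 F523942) (tt N105544 F523941) (tt N122354 F531596) (tt N105453 F523946))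
theorem Q121001 : ∀ i, i < 121001 → P i := stepQ 121000 Q121000 (allL N121000 (tt N118802 F523948) (tt N106407 (iv0 F523949)) (tt N120864 F523947) (tt N122049 (iv3 F529850)) (tt N121657 (iv4 F527584)) (tt N122404 (iv5 F531900)) (tt N104453 (iv6 D224259)) (tt N122513 (iv7 F532579)))
theorem Q121002 : ∀ i, i < 121002 → P i := stepQ 121001 Q121001 (allL N121001 (tt N121039 (iv1 F524158)) (tt N105358 (iv0 F523954)) (tt N121040 (iv2 F524165)) (tt N106199 F523950) (tt N104456 F523951) (tt N115955 F523953) (tt N104455 (iv6 D224260)) (tt N116777 F523952))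
theorem Q121003 : ∀ i, i < 121003 → P i := stepQ 121002 Q121002 (allL N121002 (tt N118000 F523960) (tt N118002 (iv0 F523961)) (tt N104467 F523955) (tt N120871 F523956) (tt N111154 F523957) (tt N117980 F523958) (tt N104466 (iv6 D224261)) (tt N119528 F523959))
theorem Q121004 : ∀ i, i < 121004 → P i := stepQ 121003 Q121003 (allL N121003 (tt N119682 F523967) (tt N119681 F523968) (tt N117980 F523962) (tt N104469 F523963) (tt N116214 F523966) (tt N104467 (iv5 D224262)) (tt N104468 F523964) (tt N117979 F523965))
theorem Q121005 : ∀ i, i < 121005 → P i := stepQ 121004 Q121004 (allL N121004 (tt N122356 F531610) (tt N121193 (iv0 F525057)) (tt N120879 F523969) (tt N104472 F523970) (tt N105315 F523971) (tt N120673 F523972) (tt N104471 (iv6 D224263)) (tt N120818 F523973))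
theorem Q121006 : ∀ i, i < 121006 → P i := stepQ 121005 Q121005 (allL N121005 (tt N120840 F523976) (tt N122707 (iv0 F533737)) (tt N120848 F523974) (tt N122420 (iv3 F532000)) (tt N122168 (iv4 F530546)) (tt N120903 F523975) (tt N104476 (iv6 D224264)) (tt N122359 (iv7 F531624)))
theorem Q121007 : ∀ i, i < 121007 → P i := stepQ 121006 Q121006 (allL N121006 (tt N115836 F523980) (tt N115835 F523981) (tt N122688 (iv2 F533615)) (tt N104495 F523977) (tt N113048 F523978) (tt N121206 (iv5 F525129)) (tt N104492 (iv6 D224265)) (tt N119446 F523979))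
theorem Q121008 : ∀ i, i < 121008 → P i := stepQ 121007 Q121007 (allL N121007 (tt N113135 F523985) (tt N122355 F531603) (tt N122354 (iv2 F531597)) (tt N104501 F523982) (tt N105455 F523983) (tt N107046 F523986) (tt N104500 (iv6 D224266)) (tt N119495 F523984))
theorem Q121009 : ∀ i, i < 121009 → P i := stepQ 121008 Q121008 (allL N121008 (tt N104503 (iv1 D224267)) (tt N104743 F523987) (tt N120713 F523992) (tt N111249 (iv3 F523990)) (tt N122713 (iv4 F533773)) (tt N105859 F523989) (tt N120687 (iv6 F523991)) (tt N119471 F523988))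
theorem Q121010 : ∀ i, i < 121010 → P i := stepQ 121009 Q121009 (allL N121009 (tt N107512 (iv1 F523998)) (tt N106156 F523997) (tt N104511 (iv2 D224268)) (tt N118062 F523993) (tt N105438 F523994) (tt N104679 F523995) (tt N122513 (iv6 F532578)) (tt N105210 F523996))
theorem Q121011 : ∀ i, i < 121011 → P i := stepQ 121010 Q121010 (allL N121010 (tt N122668 F533503) (tt N122668 (iv0 F533502)) (tt N104517 F523999) (tt N104521 F524000) (tt N119130 F524001) (tt N121758 (iv5 F528143)) (tt N104515 (iv6 D224269)) (tt N104517 F524002))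
theorem Q121012 : ∀ i, i < 121012 → P i := stepQ 121011 Q121011 (allL N121011 (tt N104517 (iv1 F524005)) (tt N104517 (iv0 D224270)) (tt N122668 (iv2 F533497)) (tt N119586 F524003) (tt N122634 (iv4 F533297)) (tt N122629 (iv5 F533267)) (tt N119211 F524004) (tt N122668 (iv7 F533501)))
theorem Q121013 : ∀ i, i < 121013 → P i := stepQ 121012 Q121012 (allL N121012 (tt N122513 (iv1 F532580)) (tt N120864 (iv0 F524010)) (tt N118802 F524006) (tt N104518 (iv3 D224271)) (tt N112861 F524007) (tt N120935 (iv5 F524011)) (tt N118143 F524008) (tt N106407 F524009))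
theorem Q121014 : ∀ i, i < 121014 → P i := stepQ 121013 Q121013 (allL N121013 (tt N114836 F524016) (tt N116907 F524017) (tt N106405 F524012) (tt N120935 F524013) (tt N118958 F524015) (tt N104518 (iv5 D224272)) (tt N121434 (iv6 F526351)) (tt N106408 F524014))
theorem Q121015 : ∀ i, i < 121015 → P i := stepQ 121014 Q121014 (allL N121014 (tt N116907 F524022) (tt N114836 F524023) (tt N106408 F524018) (tt N122362 (iv3 F531640)) (tt N118952 F524019) (tt N104519 (iv5 D224273)) (tt N120907 F524020) (tt N106405 F524021))
theorem Q121016 : ∀ i, i < 121016 → P i := stepQ 121015 Q121015 (allL N121015 (tt N106403 (iv1 F524027)) (tt N104520 (iv0 D224274)) (tt N106410 (iv2 F524025)) (tt N122718 D225977) (tt N105344 F524024) (tt N122289 (iv5 F531210)) (tt N122061 (iv6 F529927)) (tt N106411 (iv7 F524026)))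
theorem Q121017 : ∀ i, i < 121017 → P i := stepQ 121016 Q121016 (allL N121016 (tt N104520 (iv1 D224275)) (tt N106403 F524028) (tt N106411 (iv2 F524032)) (tt N122324 (iv3 F531424)) (tt N111819 F524031) (tt N105342 F524030) (tt N122523 (iv6 F532632)) (tt N106410 F524029))
theorem Q121018 : ∀ i, i < 121018 → P i := stepQ 121017 Q121017 (allL N121017 (tt N106411 (iv1 F524037)) (tt N106410 F524038) (tt N106403 F524033) (tt N121758 (iv3 F528141)) (tt N107080 F524034) (tt N104521 F524035) (tt N105942 F524036) (tt N104520 (iv7 D224276)))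
theorem Q121019 : ∀ i, i < 121019 → P i := stepQ 121018 Q121018 (allL N121018 (tt N106510 F524044) (tt N120439 F524045) (tt N120438 F524039) (tt N104524 F524040) (tt N113935 F524041) (tt N104522 (iv5 D224277)) (tt N105946 F524042) (tt N117188 F524043))
theorem Q121020 : ∀ i, i < 121020 → P i := stepQ 121019 Q121019 (allL N121019 (tt N117628 F524051) (tt N122372 (iv0 F531709)) (tt N106202 F524046) (tt N119991 F524047) (tt N113555 F524050) (tt N104523 (iv5 D224278)) (tt N113554 F524048) (tt N106201 F524049))
theorem Q121021 : ∀ i, i < 121021 → P i := stepQ 121020 Q121020 (allL N121020 (tt N120094 F524057) (tt N107089 F524058) (tt N106396 F524052) (tt N107446 F524053) (tt N111964 F524056) (tt N104526 (iv5 D224279)) (tt N112977 F524054) (tt N106398 F524055))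
theorem Q121022 : ∀ i, i < 121022 → P i := stepQ 121021 Q121021 (allL N121021 (tt N107089 F524064) (tt N120094 F524065) (tt N106398 F524059) (tt N113612 F524060) (tt N113614 F524061) (tt N104530 (iv5 D224280)) (tt N107431 F524062) (tt N106396 F524063))
theorem Q121023 : ∀ i, i < 121023 → P i := stepQ 121022 Q121022 (allL N121022 (tt N115940 F524070) (tt N114173 (iv0 F524071)) (tt N120851 F524066) (tt N122356 (iv3 F531606)) (tt N104539 F524067) (tt N115442 F524068) (tt N104538 (iv6 D224281)) (tt N104554 F524069))
theorem Q121024 : ∀ i, i < 121024 → P i := stepQ 121023 Q121023 (allL N121023 (tt N104539 (iv1 D224282)) (tt N115448 F524072) (tt N120715 F524075) (tt N111910 (iv3 F524073)) (tt N121045 (iv4 F524201)) (tt N122061 (iv5 F529926)) (tt N120624 (iv6 F524074)) (tt N121045 (iv7 F524206)))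
theorem Q121025 : ∀ i, i < 121025 → P i := stepQ 121024 Q121024 (allL N121024 (tt N116249 F524079) (tt N116248 (iv0 F524080)) (tt N104553 F524076) (tt N111793 F524077) (tt N122419 (iv4 F531994)) (tt N121716 (iv5 F527926)) (tt N104551 (iv6 D224283)) (tt N117956 F524078))
theorem Q121026 : ∀ i, i < 121026 → P i := stepQ 121025 Q121025 (allL N121025 (tt N120879 F524082) (tt N120818 (iv0 F524083)) (tt N121193 (iv2 F525053)) (tt N104554 F524081) (tt N122357 (iv4 F531613)) (tt N122484 (iv5 F532404)) (tt N104552 (iv6 D224284)) (tt N122356 (iv7 F531608)))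
theorem Q121027 : ∀ i, i < 121027 → P i := stepQ 121026 Q121026 (allL N121026 (tt N104553 (iv1 D224285)) (tt N117956 F524084) (tt N116248 F524088) (tt N109917 (iv3 F524086)) (tt N109918 (iv4 F524087)) (tt N114174 (iv5 F524090)) (tt N120872 F524089) (tt N116249 F524085))
theorem Q121028 : ∀ i, i < 121028 → P i := stepQ 121027 Q121027 (allL N121027 (tt N120568 F524094) (tt N120697 (iv0 F524095)) (tt N121716 (iv2 F527925)) (tt N104556 F524091) (tt N118879 F524093) (tt N104553 (iv5 D224286)) (tt N122484 (iv6 F532405)) (tt N120843 F524092))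
theorem Q121029 : ∀ i, i < 121029 → P i := stepQ 121028 Q121028 (allL N121028 (tt N104723 F524100) (tt N104718 F524101) (tt N105516 F524096) (tt N114712 F524102) (tt N104612 (iv4 D224287)) (tt N107136 F524097) (tt N120104 F524098) (tt N114710 F524099))
theorem Q121030 : ∀ i, i < 121030 → P i := stepQ 121029 Q121029 (allL N121029 (tt N121067 (iv1 F524337)) (tt N122523 (iv0 F532634)) (tt N120834 F524103) (tt N120983 F524104) (tt N115617 F524106) (tt N104626 (iv5 D224288)) (tt N104742 F524105) (tt N122408 (iv7 F531925)))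
theorem Q121031 : ∀ i, i < 121031 → P i := stepQ 121030 Q121030 (allL N121030 (tt N114410 F524112) (tt N114375 F524113) (tt N119623 F524107) (tt N104669 F524108) (tt N116988 F524109) (tt N104636 (iv5 D224289)) (tt N120918 F524110) (tt N104708 F524111))
theorem Q121032 : ∀ i, i < 121032 → P i := stepQ 121031 Q121031 (allL N121031 (tt N121347 (iv1 F525894)) (tt N107591 (iv0 F524119)) (tt N118848 F524114) (tt N117801 F524115) (tt N106974 F524116) (tt N119311 F524117) (tt N104647 (iv6 D224290)) (tt N119316 F524118))
theorem Q121033 : ∀ i, i < 121033 → P i := stepQ 121032 Q121032 (allL N121032 (tt N118475 F524125) (tt N118472 (iv0 F524126)) (tt N118473 F524120) (tt N104648 (iv3 D224291)) (tt N120396 F524121) (tt N117840 F524122) (tt N120160 F524123) (tt N118474 F524124))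
theorem Q121034 : ∀ i, i < 121034 → P i := stepQ 121033 Q121033 (allL N121033 (tt N121040 (iv1 F524171)) (tt N116777 F524131) (tt N105358 F524127) (tt N115935 F524128) (tt N104654 (iv4 D224292)) (tt N115932 F524129) (tt N105357 F524130) (tt N121039 (iv7 F524159)))
theorem Q121035 : ∀ i, i < 121035 → P i := stepQ 121034 Q121034 (allL N121034 (tt N114093 F524135) (tt N114095 F524136) (tt N122061 (iv2 F529924)) (tt N104677 (iv3 D224293)) (tt N114867 F524132) (tt N120715 F524133) (tt N106410 (iv6 F524137)) (tt N115852 F524134))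
theorem Q121036 : ∀ i, i < 121036 → P i := stepQ 121035 Q121035 (allL N121035 (tt N122352 (iv1 F531583)) (tt N112904 (iv0 F524141)) (tt N120904 F524138) (tt N106410 F524139) (tt N121064 (iv4 F524315)) (tt N114709 F524140) (tt N104677 (iv6 D224294)) (tt N122324 (iv7 F531425)))
theorem Q121037 : ∀ i, i < 121037 → P i := stepQ 121036 Q121036 (allL N121036 (tt N120040 F524145) (tt N120903 (iv0 F524146)) (tt N122627 (iv2 F533254)) (tt N104683 F524142) (tt N119359 F524144) (tt N104680 (iv5 D224295)) (tt N122514 (iv6 F532584)) (tt N120906 F524143))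
theorem Q121038 : ∀ i, i < 121038 → P i := stepQ 121037 Q121037 (allL N121037 (tt N120924 F524151) (tt N109547 F524152) (tt N104813 F524147) (tt N115510 F524148) (tt N111770 F524149) (tt N104682 (iv5 D224296)) (tt N121203 (iv6 F525117)) (tt N120907 F524150))
theorem Q121039 : ∀ i, i < 121039 → P i := stepQ 121038 Q121038 (allL N121038 (tt N104742 (iv1 F524156)) (tt N104683 (iv0 D224297)) (tt N111913 (iv2 F524155)) (tt N122061 (iv3 F529925)) (tt N109540 F524154) (tt N111910 F524153) (tt N122718 (iv6 F533809)) (tt N120908 F524157))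
theorem Q121040 : ∀ i, i < 121040 → P i := stepQ 121039 Q121039 (allL N121039 (tt N104698 (iv1 D224298)) (tt N121001 F524158) (tt N115985 F524164) (tt N110035 (iv3 F524162)) (tt N119658 F524161) (tt N115972 F524160) (tt N110034 (iv6 F524163)) (tt N121033 F524159))
theorem Q121041 : ∀ i, i < 121041 → P i := stepQ 121040 Q121040 (allL N121040 (tt N115985 (iv1 F524170)) (tt N121033 F524171) (tt N121001 F524165) (tt N112542 F524166) (tt N104699 F524167) (tt N118920 F524168) (tt N112541 F524169) (tt N104698 (iv7 D224299)))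
theorem Q121042 : ∀ i, i < 121042 → P i := stepQ 121041 Q121041 (allL N121041 (tt N107144 F524177) (tt N107147 (iv0 F524178)) (tt N108371 F524172) (tt N104723 (iv3 D224300)) (tt N106246 F524173) (tt N108363 F524174) (tt N106245 F524175) (tt N108362 F524176))
theorem Q121043 : ∀ i, i < 121043 → P i := stepQ 121042 Q121042 (allL N121042 (tt N116342 F524184) (tt N113758 F524185) (tt N116355 F524179) (tt N118901 F524180) (tt N118903 F524183) (tt N104727 (iv5 D224301)) (tt N104729 F524181) (tt N116354 F524182))
theorem Q121044 : ∀ i, i < 121044 → P i := stepQ 121043 Q121043 (allL N121043 (tt N106811 F524191) (tt N111783 F524192) (tt N115979 F524186) (tt N110973 F524187) (tt N118919 F524188) (tt N104734 (iv5 D224302)) (tt N110957 F524189) (tt N115978 F524190))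
theorem Q121045 : ∀ i, i < 121045 → P i := stepQ 121044 Q121044 (allL N121044 (tt N111511 F524198) (tt N111509 (iv0 F524199)) (tt N111987 F524193) (tt N104740 (iv3 D224303)) (tt N117676 F524194) (tt N112232 F524195) (tt N117676 F524196) (tt N111052 F524197))
theorem Q121046 : ∀ i, i < 121046 → P i := stepQ 121045 Q121045 (allL N121045 (tt N115805 (iv1 F524205)) (tt N104747 (iv0 D224304)) (tt N120679 (iv2 F524204)) (tt N120923 F524202) (tt N121023 F524201) (tt N115508 F524200) (tt N120998 F524203) (tt N121023 F524206))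
theorem Q121047 : ∀ i, i < 121047 → P i := stepQ 121046 Q121046 (allL N121046 (tt N107045 F524211) (tt N105093 F524212) (tt N105256 F524207) (tt N106072 F524208) (tt N104751 (iv4 D224305)) (tt N121768 (iv5 F528199)) (tt N106071 F524209) (tt N107044 F524210))
theorem Q121048 : ∀ i, i < 121048 → P i := stepQ 121047 Q121047 (allL N121047 (tt N116303 F524218) (tt N121792 (iv0 F528348)) (tt N120379 F524213) (tt N105419 F524214) (tt N104770 F524215) (tt N113249 F524216) (tt N104769 (iv6 D224306)) (tt N117348 F524217))
theorem Q121049 : ∀ i, i < 121049 → P i := stepQ 121048 Q121048 (allL N121048 (tt N115385 F524223) (tt N115384 F524225) (tt N115240 F524219) (tt N104776 (iv3 D224307)) (tt N105691 F524220) (tt N116088 (iv5 F524224)) (tt N106738 F524221) (tt N115237 F524222))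
theorem Q121050 : ∀ i, i < 121050 → P i := stepQ 121049 Q121049 (allL N121049 (tt N116087 F524230) (tt N116086 F524231) (tt N111655 F524226) (tt N116088 F524227) (tt N111654 F524228) (tt N104776 (iv5 D224308)) (tt N121403 (iv6 F526165)) (tt N115238 F524229))
theorem Q121051 : ∀ i, i < 121051 → P i := stepQ 121050 Q121050 (allL N121050 (tt N117768 (iv1 F524236)) (tt N104790 (iv0 D224309)) (tt N118127 (iv2 F524237)) (tt N120622 F524234) (tt N119161 F524233) (tt N118092 F524232) (tt N119160 F524235) (tt N118126 (iv7 F524238)))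
theorem Q121052 : ∀ i, i < 121052 → P i := stepQ 121051 Q121051 (allL N121051 (tt N104790 (iv1 D224310)) (tt N117768 F524239) (tt N118126 F524245) (tt N105203 (iv3 F524243)) (tt N113315 F524242) (tt N119683 F524241) (tt N118249 (iv6 F524244)) (tt N118127 F524240))
theorem Q121053 : ∀ i, i < 121053 → P i := stepQ 121052 Q121052 (allL N121052 (tt N122607 F533143) (tt N122583 (iv0 F532986)) (tt N121203 (iv2 F525115)) (tt N104816 F524246) (tt N119341 F524247) (tt N120905 F524248) (tt N104813 (iv6 D224311)) (tt N121434 (iv7 F526352)))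
theorem Q121054 : ∀ i, i < 121054 → P i := stepQ 121053 Q121053 (allL N121053 (tt N116024 (iv1 F524252)) (tt N104815 (iv0 D224312)) (tt N120931 (iv2 F524251)) (tt N115532 F524255) (tt N119278 F524250) (tt N120931 F524249) (tt N114164 (iv6 F524254)) (tt N120930 F524253))
theorem Q121055 : ∀ i, i < 121055 → P i := stepQ 121054 Q121054 (allL N121054 (tt N108558 F524259) (tt N108557 (iv0 F524260)) (tt N108560 F524256) (tt N121065 (iv3 F524322)) (tt N104816 F524257) (tt N108546 F524258) (tt N104815 (iv6 D224313)) (tt N108545 F524261))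
theorem Q121056 : ∀ i, i < 121056 → P i := stepQ 121055 Q121055 (allL N121055 (tt N108559 (iv1 F524272)) (tt N104816 (iv0 D224314)) (tt N115804 F524264) (tt N122471 (iv3 F532314)) (tt N122475 (iv4 F532342)) (tt N116247 F524262) (tt N122583 (iv6 F532984)) (tt N116246 (iv7 F524263)))
theorem Q121057 : ∀ i, i < 121057 → P i := stepQ 121056 Q121056 (allL N121056 (tt N104816 (iv1 D224315)) (tt N108559 F524265) (tt N116246 F524271) (tt N114165 (iv3 F524268)) (tt N117678 F524267) (tt N116237 (iv5 F524270)) (tt N117677 (iv6 F524269)) (tt N115804 F524266))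
theorem Q121058 : ∀ i, i < 121058 → P i := stepQ 121057 Q121057 (allL N121057 (tt N116246 (iv1 F524277)) (tt N115804 F524278) (tt N108559 F524273) (tt N121434 (iv3 F526350)) (tt N108545 F524274) (tt N120833 F524275) (tt N120935 F524276) (tt N104816 (iv7 D224316)))
theorem Q121059 : ∀ i, i < 121059 → P i := stepQ 121058 Q121058 (allL N121058 (tt N114852 F524284) (tt N120344 F524285) (tt N115656 F524279) (tt N104836 F524280) (tt N115562 F524283) (tt N104835 (iv5 D224317)) (tt N113833 F524281) (tt N111568 F524282))
theorem Q121060 : ∀ i, i < 121060 → P i := stepQ 121059 Q121059 (allL N121059 (tt N121161 (iv1 F524867)) (tt N119549 (iv0 F524291)) (tt N117312 F524286) (tt N104845 (iv3 D224318)) (tt N107973 F524287) (tt N116477 F524288) (tt N120262 F524289) (tt N107970 F524290))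
theorem Q121061 : ∀ i, i < 121061 → P i := stepQ 121060 Q121060 (allL N121060 (tt N118195 F524295) (tt N118195 (iv0 F524296)) (tt N120952 F524292) (tt N104857 (iv3 D224319)) (tt N122047 (iv4 F529838)) (tt N121667 (iv5 F527633)) (tt N115758 F524293) (tt N120952 F524294))
theorem Q121062 : ∀ i, i < 121062 → P i := stepQ 121061 Q121061 (allL N121061 (tt N105310 F524302) (tt N105313 F524303) (tt N113398 F524297) (tt N113399 F524298) (tt N104859 (iv4 D224320)) (tt N113398 F524299) (tt N112575 F524300) (tt N113401 F524301))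
theorem Q121063 : ∀ i, i < 121063 → P i := stepQ 121062 Q121062 (allL N121062 (tt N107032 F524309) (tt N119921 F524310) (tt N110864 F524304) (tt N113292 F524305) (tt N104875 F524306) (tt N115801 F524307) (tt N104873 (iv6 D224321)) (tt N113291 F524308))
theorem Q121064 : ∀ i, i < 121064 → P i := stepQ 121063 Q121063 (allL N121063 (tt N118891 F524314) (tt N122073 (iv0 F530003)) (tt N121717 (iv2 F527929)) (tt N104888 F524311) (tt N121210 (iv4 F525149)) (tt N104887 (iv5 D224322)) (tt N112652 F524312) (tt N120944 F524313))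
theorem Q121065 : ∀ i, i < 121065 → P i := stepQ 121064 Q121064 (allL N121064 (tt N115970 F524319) (tt N116050 (iv0 F524320)) (tt N122483 (iv2 F532403)) (tt N104891 (iv3 D224323)) (tt N121035 F524315) (tt N115839 F524316) (tt N120711 F524317) (tt N120946 F524318))
theorem Q121066 : ∀ i, i < 121066 → P i := stepQ 121065 Q121065 (allL N121065 (tt N120032 F524326) (tt N120031 F524327) (tt N104895 F524321) (tt N121054 F524322) (tt N119328 F524323) (tt N104894 (iv5 D224324)) (tt N115648 F524324) (tt N120027 F524325))
theorem Q121067 : ∀ i, i < 121067 → P i := stepQ 121066 Q121066 (allL N121066 (tt N104895 (iv1 D224325)) (tt N120027 F524328) (tt N120031 F524333) (tt N115913 (iv3 F524331)) (tt N117128 F524330) (tt N117562 F524334) (tt N115865 (iv6 F524332)) (tt N120032 F524329))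
theorem Q121068 : ∀ i, i < 121068 → P i := stepQ 121067 Q121067 (allL N121067 (tt N122390 F531816) (tt N121029 F524337) (tt N122493 (iv2 F532461)) (tt N105860 F524335) (tt N104900 (iv4 D224326)) (tt N116244 (iv5 F524338)) (tt N115508 F524336) (tt N121211 (iv7 F525154)))
theorem Q121069 : ∀ i, i < 121069 → P i := stepQ 121068 Q121068 (allL N121068 (tt N111456 F524344) (tt N111978 (iv0 F524345)) (tt N106810 F524339) (tt N104903 (iv3 D224327)) (tt N111506 F524340) (tt N106807 F524341) (tt N111781 F524342) (tt N111899 F524343))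
theorem Q121070 : ∀ i, i < 121070 → P i := stepQ 121069 Q121069 (allL N121069 (tt N108097 F524351) (tt N112303 F524352) (tt N118824 F524346) (tt N118873 F524347) (tt N104905 (iv4 D224328)) (tt N116769 F524348) (tt N115666 F524349) (tt N108615 F524350))
theorem Q121071 : ∀ i, i < 121071 → P i := stepQ 121070 Q121070 (allL N121070 (tt N113713 F524358) (tt N105291 (iv0 F524359)) (tt N111765 F524353) (tt N111801 F524354) (tt N115201 F524355) (tt N111799 F524356) (tt N104915 (iv6 D224329)) (tt N111798 F524357))
theorem Q121072 : ∀ i, i < 121072 → P i := stepQ 121071 Q121071 (allL N121071 (tt N111086 F524365) (tt N111083 F524366) (tt N120506 F524360) (tt N111498 F524361) (tt N120511 F524362) (tt N104984 (iv5 D224330)) (tt N114159 F524363) (tt N120507 F524364))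
theorem Q121073 : ∀ i, i < 121073 → P i := stepQ 121072 Q121072 (allL N121072 (tt N104988 (iv1 D224331)) (tt N104990 F524367) (tt N122631 (iv2 F533277)) (tt N111083 (iv3 F524370)) (tt N122412 (iv4 F531950)) (tt N111082 F524369) (tt N122110 (iv6 F530229)) (tt N119347 F524368))
theorem Q121074 : ∀ i, i < 121074 → P i := stepQ 121073 Q121073 (allL N121073 (tt N112455 F524373) (tt N121712 (iv0 F527905)) (tt N122185 (iv2 F530654)) (tt N104991 (iv3 D224332)) (tt N121212 (iv4 F525159)) (tt N111754 F524371) (tt N111755 F524372) (tt N121807 (iv7 F528441)))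
theorem Q121075 : ∀ i, i < 121075 → P i := stepQ 121074 Q121074 (allL N121074 (tt N105000 (iv1 D224333)) (tt N115236 F524374) (tt N115455 F524378) (tt N108609 (iv3 F524376)) (tt N122464 (iv4 F532272)) (tt N122082 (iv5 F530054)) (tt N114705 (iv6 F524377)) (tt N119357 F524375))
theorem Q121076 : ∀ i, i < 121076 → P i := stepQ 121075 Q121075 (allL N121075 (tt N120392 F524383) (tt N116602 F524384) (tt N120223 F524379) (tt N112517 F524380) (tt N105005 (iv4 D224334)) (tt N121392 (iv5 F526110)) (tt N120219 F524381) (tt N112543 F524382))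
theorem Q121077 : ∀ i, i < 121077 → P i := stepQ 121076 Q121076 (allL N121076 (tt N111191 (iv1 F524391)) (tt N109364 F524390) (tt N105006 (iv2 D224335)) (tt N113623 F524385) (tt N105416 F524386) (tt N109724 F524387) (tt N108372 F524388) (tt N105421 F524389))
theorem Q121078 : ∀ i, i < 121078 → P i := stepQ 121077 Q121077 (allL N121077 (tt N118628 F524397) (tt N110307 F524398) (tt N105508 F524392) (tt N105700 F524393) (tt N105044 (iv4 D224336)) (tt N108076 F524394) (tt N105389 F524395) (tt N119155 F524396))
theorem Q121079 : ∀ i, i < 121079 → P i := stepQ 121078 Q121078 (allL N121078 (tt N107021 F524403) (tt N107009 F524404) (tt N107020 F524399) (tt N106036 F524400) (tt N121441 (iv4 F526392)) (tt N105053 (iv5 D224337)) (tt N112066 F524401) (tt N107019 F524402))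
theorem Q121080 : ∀ i, i < 121080 → P i := stepQ 121079 Q121079 (allL N121079 (tt N105063 (iv1 D224338)) (tt N115062 F524405) (tt N107146 (iv2 F524408)) (tt N106053 (iv3 F524409)) (tt N121424 (iv4 F526286)) (tt N105514 F524407) (tt N106051 (iv6 F524410)) (tt N115119 F524406))
theorem Q121081 : ∀ i, i < 121081 → P i := stepQ 121080 Q121080 (allL N121080 (tt N105502 F524417) (tt N118515 F524416) (tt N105072 F524411) (tt N105172 F524412) (tt N119311 F524415) (tt N105069 (iv5 D224339)) (tt N110333 F524413) (tt N117685 F524414))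
theorem Q121082 : ∀ i, i < 121082 → P i := stepQ 121081 Q121081 (allL N121081 (tt N120330 F524422) (tt N117686 (iv0 F524423)) (tt N120328 F524418) (tt N105333 F524419) (tt N122544 (iv4 F532754)) (tt N105071 (iv5 D224340)) (tt N116157 F524420) (tt N120329 F524421))
theorem Q121083 : ∀ i, i < 121083 → P i := stepQ 121082 Q121082 (allL N121082 (tt N117685 (iv1 F524429)) (tt N105072 (iv0 D224341)) (tt N105502 (iv2 F524426)) (tt N120355 F524425) (tt N118516 (iv4 F524428)) (tt N105386 F524424) (tt N112963 (iv6 F524430)) (tt N118515 F524427))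
theorem Q121084 : ∀ i, i < 121084 → P i := stepQ 121083 Q121083 (allL N121083 (tt N121748 (iv1 F528087)) (tt N122678 (iv0 F533556)) (tt N119311 F524431) (tt N118557 (iv3 F524434)) (tt N105072 (iv4 D224342)) (tt N118848 F524433) (tt N117805 F524432) (tt N122667 (iv7 F533494)))
theorem Q121085 : ∀ i, i < 121085 → P i := stepQ 121084 Q121084 (allL N121084 (tt N118515 (iv1 F524438)) (tt N105502 F524439) (tt N117685 F524435) (tt N105076 F524436) (tt N122667 (iv4 F533492)) (tt N105073 F524437) (tt N121499 (iv6 F526708)) (tt N105072 (iv7 D224343)))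
theorem Q121086 : ∀ i, i < 121086 → P i := stepQ 121085 Q121085 (allL N121085 (tt N122519 (iv1 F532613)) (tt N120298 (iv0 F524442)) (tt N122518 (iv2 F532608)) (tt N105075 (iv3 D224344)) (tt N118557 F524440) (tt N121625 (iv5 F527406)) (tt N120311 F524441) (tt N122517 (iv7 F532603)))
theorem Q121087 : ∀ i, i < 121087 → P i := stepQ 121086 Q121086 (allL N121086 (tt N116663 F524448) (tt N114048 F524449) (tt N105198 F524443) (tt N105270 F524444) (tt N116568 F524445) (tt N105090 (iv5 D224345)) (tt N112998 F524446) (tt N107043 F524447))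
theorem Q121088 : ∀ i, i < 121088 → P i := stepQ 121087 Q121087 (allL N121087 (tt N106414 F524452) (tt N122606 (iv0 F533135)) (tt N112018 F524450) (tt N122533 (iv3 F532693)) (tt N112017 F524451) (tt N122341 (iv5 F531525)) (tt N105126 (iv6 D224346)) (tt N122671 (iv7 F533517)))
theorem Q121089 : ∀ i, i < 121089 → P i := stepQ 121088 Q121088 (allL N121088 (tt N115125 F524456) (tt N107386 (iv0 F524457)) (tt N122243 F530973) (tt N107646 F524453) (tt N121989 (iv4 F529486)) (tt N105135 (iv5 D224347)) (tt N113360 F524454) (tt N107633 F524455))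
theorem Q121090 : ∀ i, i < 121090 → P i := stepQ 121089 Q121089 (allL N121089 (tt N107386 F524461) (tt N115125 F524462) (tt N107633 F524458) (tt N113021 F524459) (tt N121990 (iv4 F529493)) (tt N105136 (iv5 D224348)) (tt N119598 F524460) (tt N122243 (iv7 F530975)))
theorem Q121091 : ∀ i, i < 121091 → P i := stepQ 121090 Q121090 (allL N121090 (tt N121928 F529118) (tt N105137 (iv0 D224349)) (tt N116157 (iv2 F524466)) (tt N108081 F524463) (tt N122620 (iv4 F533215)) (tt N108079 F524464) (tt N120328 F524465) (tt N116939 F524467))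
theorem Q121092 : ∀ i, i < 121092 → P i := stepQ 121091 Q121091 (allL N121091 (tt N107371 F524472) (tt N107373 F524473) (tt N116809 F524468) (tt N105139 (iv3 D224350)) (tt N121515 (iv4 F526799)) (tt N108032 F524469) (tt N113996 F524470) (tt N108031 F524471))
theorem Q121093 : ∀ i, i < 121093 → P i := stepQ 121092 Q121092 (allL N121092 (tt N120827 F524478) (tt N114374 F524479) (tt N106848 F524474) (tt N121824 (iv3 F528535)) (tt N105146 F524475) (tt N120893 F524476) (tt N105145 (iv6 D224351)) (tt N120636 F524477))
theorem Q121094 : ∀ i, i < 121094 → P i := stepQ 121093 Q121093 (allL N121093 (tt N108116 F524485) (tt N108220 F524486) (tt N108221 F524480) (tt N108236 F524481) (tt N110957 F524482) (tt N105156 (iv5 D224352)) (tt N118919 F524483) (tt N108222 F524484))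
theorem Q121095 : ∀ i, i < 121095 → P i := stepQ 121094 Q121094 (allL N121094 (tt N121545 (iv1 F526964)) (tt N121175 (iv0 F524949)) (tt N121149 (iv2 F524791)) (tt N107027 F524487) (tt N116522 F524488) (tt N105162 (iv5 D224353)) (tt N121936 (iv6 F529165)) (tt N121148 (iv7 F524787)))
theorem Q121096 : ∀ i, i < 121096 → P i := stepQ 121095 Q121095 (allL N121095 (tt N121175 (iv1 F524950)) (tt N121545 (iv0 F526963)) (tt N121148 (iv2 F524784)) (tt N121726 (iv3 F527979)) (tt N119780 F524489) (tt N105163 (iv5 D224354)) (tt N119779 F524490) (tt N121149 (iv7 F524793)))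
theorem Q121097 : ∀ i, i < 121097 → P i := stepQ 121096 Q121096 (allL N121096 (tt N107528 F524495) (tt N121802 F528411) (tt N110817 F524491) (tt N119739 F524494) (tt N105164 (iv4 D224355)) (tt N110814 F524493) (tt N107541 F524492) (tt N121150 (iv7 F524799)))
theorem Q121098 : ∀ i, i < 121098 → P i := stepQ 121097 Q121097 (allL N121097 (tt N121392 (iv1 F526108)) (tt N120227 (iv0 F524499)) (tt N121391 (iv2 F526102)) (tt N105166 (iv3 D224356)) (tt N119739 F524496) (tt N121799 (iv5 F528391)) (tt N110740 F524497) (tt N110747 F524498))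
theorem Q121099 : ∀ i, i < 121099 → P i := stepQ 121098 Q121098 (allL N121098 (tt N108383 F524504) (tt N108414 (iv0 F524505)) (tt N108413 F524500) (tt N105175 (iv3 D224357)) (tt N109065 F524501) (tt N121829 (iv5 F528569)) (tt N109066 F524502) (tt N108396 F524503))
theorem Q121100 : ∀ i, i < 121100 → P i := stepQ 121099 Q121099 (allL N121099 (tt N122332 F531468) (tt N122556 (iv0 F532828)) (tt N114701 F524506) (tt N105190 F524507) (tt N112753 F524508) (tt N105458 F524509) (tt N105188 (iv6 D224358)) (tt N112752 F524510))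
theorem Q121101 : ∀ i, i < 121101 → P i := stepQ 121100 Q121100 (allL N121100 (tt N120296 (iv1 F524514)) (tt N122211 (iv0 F530804)) (tt N121105 (iv2 F524536)) (tt N112785 F524511) (tt N105190 F524512) (tt N122719 D225978) (tt N105189 (iv6 D224359)) (tt N112783 F524513))
theorem Q121102 : ∀ i, i < 121102 → P i := stepQ 121101 Q121101 (allL N121101 (tt N116184 F524517) (tt N122590 (iv0 F533033)) (tt N120951 F524515) (tt N122019 (iv3 F529669)) (tt N105244 F524516) (tt N122672 (iv5 F533523)) (tt N105193 (iv6 D224360)) (tt N122224 (iv7 F530873)))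
theorem Q121103 : ∀ i, i < 121103 → P i := stepQ 121102 Q121102 (allL N121102 (tt N111956 F524521) (tt N122214 F530822) (tt N120317 F524518) (tt N121104 (iv3 F524535)) (tt N107392 F524519) (tt N114040 F524520) (tt N105196 (iv6 D224361)) (tt N120318 F524522))
theorem Q121104 : ∀ i, i < 121104 → P i := stepQ 121103 Q121103 (allL N121103 (tt N113488 F524527) (tt N120075 F524528) (tt N120077 F524523) (tt N105242 F524524) (tt N121498 (iv4 F526703)) (tt N105241 (iv5 D224362)) (tt N113483 F524525) (tt N120073 F524526))
theorem Q121105 : ∀ i, i < 121105 → P i := stepQ 121104 Q121104 (allL N121104 (tt N117379 F524533) (tt N120251 F524534) (tt N120368 F524529) (tt N121102 F524535) (tt N105242 (iv4 D224363)) (tt N113998 F524530) (tt N120303 F524531) (tt N120367 F524532))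
theorem Q121106 : ∀ i, i < 121106 → P i := stepQ 121105 Q121105 (allL N121105 (tt N112776 F524539) (tt N112772 (iv0 F524540)) (tt N121100 F524536) (tt N112776 F524537) (tt N105552 F524538) (tt N121892 (iv5 F528938)) (tt N105245 (iv6 D224364)) (tt N122229 (iv7 F530894)))
theorem Q121107 : ∀ i, i < 121107 → P i := stepQ 121106 Q121106 (allL N121106 (tt N112971 F524544) (tt N122589 F533026) (tt N122018 (iv2 F529663)) (tt N110877 F524541) (tt N107449 F524542) (tt N114000 F524543) (tt N105248 (iv6 D224365)) (tt N121633 (iv7 F527449)))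
theorem Q121108 : ∀ i, i < 121108 → P i := stepQ 121107 Q121107 (allL N121107 (tt N122060 (iv1 F529923)) (tt N111566 F524550) (tt N120756 F524545) (tt N114016 F524546) (tt N112224 F524549) (tt N105255 (iv5 D224366)) (tt N120521 F524547) (tt N114013 F524548))
theorem Q121109 : ∀ i, i < 121109 → P i := stepQ 121108 Q121108 (allL N121108 (tt N106385 F524555) (tt N115084 F524556) (tt N121768 (iv2 F528198)) (tt N105257 F524551) (tt N114598 F524554) (tt N105256 (iv5 D224367)) (tt N106354 F524552) (tt N116401 F524553))
theorem Q121110 : ∀ i, i < 121110 → P i := stepQ 121109 Q121109 (allL N121109 (tt N121324 F525768) (tt N121887 (iv0 F528915)) (tt N121262 (iv2 F525444)) (tt N122374 F531722) (tt N119606 F524557) (tt N105266 (iv5 D224368)) (tt N122329 (iv6 F531453)) (tt N113022 F524558))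
theorem Q121111 : ∀ i, i < 121111 → P i := stepQ 121110 Q121110 (allL N121110 (tt N106401 F524562) (tt N105267 (iv0 D224369)) (tt N121265 (iv2 F525460)) (tt N112984 F524560) (tt N113962 F524559) (tt N121251 (iv5 F525379)) (tt N114400 (iv6 F524561)) (tt N121250 F525375))
theorem Q121112 : ∀ i, i < 121112 → P i := stepQ 121111 Q121111 (allL N121111 (tt N121250 (iv1 F525374)) (tt N121265 (iv0 F525463)) (tt N106401 F524563) (tt N105272 F524564) (tt N105990 F524565) (tt N105268 F524566) (tt N106500 F524567) (tt N105267 (iv7 D224370)))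
theorem Q121113 : ∀ i, i < 121113 → P i := stepQ 121112 Q121112 (allL N121112 (tt N116929 F524572) (tt N116900 (iv0 F524571)) (tt N122055 (iv2 F529886)) (tt N105275 (iv3 D224371)) (tt N117409 F524568) (tt N122410 (iv5 F531936)) (tt N120869 F524569) (tt N107086 F524570))
theorem Q121114 : ∀ i, i < 121114 → P i := stepQ 121113 Q121113 (allL N121113 (tt N109502 F524577) (tt N117167 (iv0 F524578)) (tt N107062 F524573) (tt N121933 (iv3 F529145)) (tt N109935 F524574) (tt N107077 F524575) (tt N105285 (iv6 D224372)) (tt N106643 F524576))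
theorem Q121115 : ∀ i, i < 121115 → P i := stepQ 121114 Q121114 (allL N121114 (tt N105299 (iv1 D224373)) (tt N105300 F524579) (tt N121121 (iv2 F524615)) (tt N121294 (iv3 F525602)) (tt N105664 F524581) (tt N121121 (iv5 F524616)) (tt N112571 (iv6 F524582)) (tt N117256 F524580))
theorem Q121116 : ∀ i, i < 121116 → P i := stepQ 121115 Q121115 (allL N121115 (tt N122310 (iv1 F531340)) (tt N117257 (iv0 F524585)) (tt N122309 (iv2 F531332)) (tt N105299 (iv3 D224374)) (tt N118772 F524583) (tt N109951 F524584) (tt N121489 (iv6 F526652)) (tt N121173 (iv7 F524937)))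
theorem Q121117 : ∀ i, i < 121117 → P i := stepQ 121116 Q121116 (allL N121116 (tt N113358 F524587) (tt N113356 (iv0 F524588)) (tt N120230 (iv2 F524589)) (tt N105300 (iv3 D224375)) (tt N122489 (iv4 F532434)) (tt N121118 (iv5 F524598)) (tt N109967 F524590) (tt N110700 F524586))
theorem Q121118 : ∀ i, i < 121118 → P i := stepQ 121117 Q121117 (allL N121117 (tt N122603 (iv1 F533116)) (tt N120434 (iv0 F524595)) (tt N121174 (iv2 F524940)) (tt N109967 F524591) (tt N105301 F524592) (tt N110565 F524593) (tt N105300 (iv6 D224376)) (tt N119756 F524594))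
theorem Q121119 : ∀ i, i < 121119 → P i := stepQ 121118 Q121118 (allL N121118 (tt N122305 (iv1 F531308)) (tt N109953 (iv0 F524601)) (tt N119111 F524596) (tt N105302 (iv3 D224377)) (tt N118773 F524597) (tt N121116 F524598) (tt N119860 F524599) (tt N110721 F524600))
theorem Q121120 : ∀ i, i < 121120 → P i := stepQ 121119 Q121119 (allL N121119 (tt N121961 (iv1 F529321)) (tt N120465 (iv0 F524606)) (tt N119925 (iv2 F524607)) (tt N105306 (iv3 D224378)) (tt N119710 F524605) (tt N110229 F524602) (tt N110783 F524603) (tt N119926 F524604))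
theorem Q121121 : ∀ i, i < 121121 → P i := stepQ 121120 Q121120 (allL N121120 (tt N117492 F524613) (tt N118270 (iv0 F524614)) (tt N105655 F524608) (tt N117277 F524609) (tt N105428 F524610) (tt N120003 F524611) (tt N105308 (iv6 D224379)) (tt N120181 F524612))
theorem Q121122 : ∀ i, i < 121122 → P i := stepQ 121121 Q121121 (allL N121121 (tt N105660 F524619) (tt N105658 F524620) (tt N121114 F524615) (tt N122198 F530726) (tt N105309 (iv4 D224380)) (tt N121114 F524616) (tt N112622 F524617) (tt N113397 F524618))
theorem Q121123 : ∀ i, i < 121123 → P i := stepQ 121122 Q121122 (allL N121122 (tt N106617 F524626) (tt N106025 (iv0 F524627)) (tt N106518 F524621) (tt N105314 F524622) (tt N119812 F524623) (tt N106004 F524624) (tt N105312 (iv6 D224381)) (tt N106601 F524625))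
theorem Q121124 : ∀ i, i < 121124 → P i := stepQ 121123 Q121123 (allL N121123 (tt N118574 F524632) (tt N119844 (iv0 F524633)) (tt N121680 (iv2 F527702)) (tt N105321 (iv3 D224382)) (tt N105323 F524628) (tt N120204 F524629) (tt N119259 F524630) (tt N118603 F524631))
theorem Q121125 : ∀ i, i < 121125 → P i := stepQ 121124 Q121124 (allL N121124 (tt N122173 (iv1 F530583)) (tt N105326 (iv0 D224383)) (tt N118301 (iv2 F524637)) (tt N119861 F524635) (tt N112217 F524634) (tt N110687 (iv5 F524639)) (tt N118148 F524636) (tt N110729 F524638))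
theorem Q121126 : ∀ i, i < 121126 → P i := stepQ 121125 Q121125 (allL N121125 (tt N114725 F524645) (tt N114733 F524646) (tt N114731 F524640) (tt N114643 F524641) (tt N114688 F524642) (tt N114557 F524643) (tt N105334 (iv6 D224384)) (tt N106209 F524644))
theorem Q121127 : ∀ i, i < 121127 → P i := stepQ 121126 Q121126 (allL N121126 (tt N106201 F524649) (tt N106202 (iv0 F524650)) (tt N117628 F524647) (tt N122279 F531143) (tt N114064 F524648) (tt N121819 (iv5 F528502)) (tt N105336 (iv6 D224385)) (tt N122372 (iv7 F531708)))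
theorem Q121128 : ∀ i, i < 121128 → P i := stepQ 121127 Q121127 (allL N121127 (tt N107827 F524655) (tt N118163 F524656) (tt N105377 F524651) (tt N118205 F524652) (tt N105376 (iv4 D224386)) (tt N121441 (iv5 F526391)) (tt N118206 F524653) (tt N118161 F524654))
theorem Q121129 : ∀ i, i < 121129 → P i := stepQ 121128 Q121128 (allL N121128 (tt N106545 F524662) (tt N106544 (iv0 F524663)) (tt N106547 F524657) (tt N105386 F524658) (tt N111259 F524659) (tt N120355 F524660) (tt N105385 (iv6 D224387)) (tt N106540 F524661))
theorem Q121130 : ∀ i, i < 121130 → P i := stepQ 121129 Q121129 (allL N121129 (tt N105390 (iv1 D224388)) (tt N105503 F524664) (tt N105510 F524670) (tt N109784 (iv3 F524668)) (tt N105592 F524667) (tt N120863 F524666) (tt N118912 (iv6 F524669)) (tt N105511 F524665))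
theorem Q121131 : ∀ i, i < 121131 → P i := stepQ 121130 Q121130 (allL N121130 (tt N117726 F524675) (tt N111264 (iv0 F524676)) (tt N105883 F524671) (tt N105409 F524672) (tt N105882 F524673) (tt N121335 (iv5 F525834)) (tt N105408 (iv6 D224389)) (tt N117724 F524674))
theorem Q121132 : ∀ i, i < 121132 → P i := stepQ 121131 Q121131 (allL N121131 (tt N113992 F524680) (tt N108347 F524681) (tt N121439 (iv2 F526380)) (tt N121335 (iv3 F525835)) (tt N110532 F524679) (tt N105409 (iv5 D224390)) (tt N120170 F524677) (tt N110531 F524678))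
theorem Q121133 : ∀ i, i < 121133 → P i := stepQ 121132 Q121132 (allL N121132 (tt N113645 F524687) (tt N113654 F524688) (tt N113653 F524682) (tt N105422 F524683) (tt N120440 F524684) (tt N116476 F524685) (tt N105420 (iv6 D224391)) (tt N113652 F524686))
theorem Q121134 : ∀ i, i < 121134 → P i := stepQ 121133 Q121133 (allL N121133 (tt N113856 F524694) (tt N105479 F524695) (tt N117063 F524689) (tt N119987 F524690) (tt N105423 (iv4 D224392)) (tt N105474 F524691) (tt N119986 F524692) (tt N114938 F524693))
theorem Q121135 : ∀ i, i < 121135 → P i := stepQ 121134 Q121134 (allL N121134 (tt N105432 (iv1 D224393)) (tt N114279 F524696) (tt N114471 F524702) (tt N106279 (iv3 F524700)) (tt N109901 F524699) (tt N114507 F524698) (tt N118043 (iv6 F524701)) (tt N114472 F524697))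
theorem Q121136 : ∀ i, i < 121136 → P i := stepQ 121135 Q121135 (allL N121135 (tt N118411 F524708) (tt N118408 F524709) (tt N106767 F524703) (tt N119234 F524704) (tt N106048 F524705) (tt N105434 (iv5 D224394)) (tt N106600 F524706) (tt N106511 F524707))
theorem Q121137 : ∀ i, i < 121137 → P i := stepQ 121136 Q121136 (allL N121136 (tt N120551 F524714) (tt N109623 (iv0 F524715)) (tt N118583 F524710) (tt N105437 F524711) (tt N107249 F524712) (tt N105716 F524713) (tt N105435 (iv6 D224395)) (tt N121786 (iv7 F528311)))
theorem Q121138 : ∀ i, i < 121138 → P i := stepQ 121137 Q121137 (allL N121137 (tt N112418 F524719) (tt N107806 (iv0 F524720)) (tt N113077 F524716) (tt N105440 F524717) (tt N122513 (iv4 F532577)) (tt N111036 F524718) (tt N105438 (iv6 D224396)) (tt N121657 (iv7 F527582)))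
theorem Q121139 : ∀ i, i < 121139 → P i := stepQ 121138 Q121138 (allL N121138 (tt N116734 F524724) (tt N105500 (iv0 F524725)) (tt N121158 F524845) (tt N105459 (iv3 D224397)) (tt N109352 F524721) (tt N122662 (iv5 F533459)) (tt N109464 F524722) (tt N110466 F524723))
theorem Q121140 : ∀ i, i < 121140 → P i := stepQ 121139 Q121139 (allL N121139 (tt N106326 F524731) (tt N106324 (iv0 F524732)) (tt N107257 F524726) (tt N105482 (iv3 D224398)) (tt N107255 F524727) (tt N115723 F524728) (tt N105916 F524729) (tt N114277 F524730))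
theorem Q121141 : ∀ i, i < 121141 → P i := stepQ 121140 Q121140 (allL N121140 (tt N112356 (iv1 F524739)) (tt N112355 F524738) (tt N105484 (iv2 D224399)) (tt N120917 F524733) (tt N106237 F524734) (tt N106236 F524735) (tt N114328 F524736) (tt N106235 F524737))
theorem Q121142 : ∀ i, i < 121142 → P i := stepQ 121141 Q121141 (allL N121141 (tt N121260 (iv1 F525435)) (tt N107635 (iv0 F524745)) (tt N106001 F524740) (tt N105499 F524741) (tt N107443 F524742) (tt N105999 F524743) (tt N105497 (iv6 D224400)) (tt N116736 F524744))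
theorem Q121143 : ∀ i, i < 121143 → P i := stepQ 121142 Q121142 (allL N121142 (tt N106530 (iv1 F524752)) (tt N105499 (iv0 D224401)) (tt N106527 (iv2 F524749)) (tt N114760 F524750) (tt N110558 F524747) (tt N115349 F524746) (tt N110557 F524748) (tt N106528 F524751))
theorem Q121144 : ∀ i, i < 121144 → P i := stepQ 121143 Q121143 (allL N121143 (tt N106528 (iv1 F524758)) (tt N106527 F524759) (tt N106530 F524753) (tt N116736 F524754) (tt N119189 F524755) (tt N106520 F524756) (tt N116734 F524757) (tt N105499 (iv7 D224402)))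
theorem Q121145 : ∀ i, i < 121145 → P i := stepQ 121144 Q121144 (allL N121144 (tt N112957 F524763) (tt N112964 F524764) (tt N112963 F524760) (tt N114731 F524761) (tt N122720 D225979) (tt N105500 (iv5 D224403)) (tt N105502 F524762) (tt N112962 (iv7 F524765)))
theorem Q121146 : ∀ i, i < 121146 → P i := stepQ 121145 Q121145 (allL N121145 (tt N110466 (iv1 F524771)) (tt N121158 F524846) (tt N116734 F524766) (tt N106534 F524767) (tt N115043 F524768) (tt N112962 F524769) (tt N106530 F524770) (tt N105500 (iv7 D224404)))
theorem Q121147 : ∀ i, i < 121147 → P i := stepQ 121146 Q121146 (allL N121146 (tt N118514 F524775) (tt N117828 (iv0 F524776)) (tt N118516 F524772) (tt N122529 (iv3 F532667)) (tt N105502 (iv4 D224405)) (tt N118508 F524774) (tt N122720 (iv6 F533821)) (tt N118507 F524773))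
theorem Q121148 : ∀ i, i < 121148 → P i := stepQ 121147 Q121147 (allL N121147 (tt N117000 F524781) (tt N112612 F524782) (tt N106239 F524777) (tt N107259 F524778) (tt N106687 F524783) (tt N105517 (iv5 D224406)) (tt N107138 F524779) (tt N116956 F524780))
theorem Q121149 : ∀ i, i < 121149 → P i := stepQ 121148 Q121148 (allL N121148 (tt N117134 (iv1 F524790)) (tt N117253 (iv0 F524789)) (tt N121095 F524784) (tt N111338 F524785) (tt N108538 F524788) (tt N105530 (iv5 D224407)) (tt N111336 F524786) (tt N121094 F524787))
theorem Q121150 : ∀ i, i < 121150 → P i := stepQ 121149 Q121149 (allL N121149 (tt N117253 F524794) (tt N117134 (iv0 F524795)) (tt N121094 F524791) (tt N121351 (iv3 F525915)) (tt N121489 (iv4 F526651)) (tt N105531 (iv5 D224408)) (tt N118772 F524792) (tt N121095 F524793))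
theorem Q121151 : ∀ i, i < 121151 → P i := stepQ 121150 Q121150 (allL N121150 (tt N121535 (iv1 F526912)) (tt N121532 (iv0 F526894)) (tt N121534 F526905) (tt N106634 F524796) (tt N105532 (iv4 D224409)) (tt N108555 F524797) (tt N106631 F524798) (tt N121096 F524799))
theorem Q121152 : ∀ i, i < 121152 → P i := stepQ 121151 Q121151 (allL N121151 (tt N120893 F524803) (tt N120828 (iv0 F524805)) (tt N121348 (iv2 F525895)) (tt N114371 F524800) (tt N105545 F524801) (tt N114370 F524804) (tt N105544 (iv6 D224410)) (tt N116910 F524802))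
theorem Q121153 : ∀ i, i < 121153 → P i := stepQ 121152 Q121152 (allL N121152 (tt N105545 (iv1 D224411)) (tt N119621 F524806) (tt N107260 F524811) (tt N107984 F524812) (tt N119632 F524809) (tt N107256 F524808) (tt N107982 (iv6 F524810)) (tt N119622 F524807))
theorem Q121154 : ∀ i, i < 121154 → P i := stepQ 121153 Q121153 (allL N121153 (tt N106239 F524819) (tt N116956 F524818) (tt N112612 F524813) (tt N106253 F524814) (tt N112610 F524815) (tt N105546 (iv5 D224412)) (tt N120212 F524816) (tt N117000 F524817))
theorem Q121155 : ∀ i, i < 121155 → P i := stepQ 121154 Q121154 (allL N121154 (tt N117231 F524825) (tt N105549 (iv0 D224413)) (tt N114767 (iv2 F524824)) (tt N114502 F524822) (tt N117402 F524821) (tt N117065 F524820) (tt N109214 F524823) (tt N122441 (iv7 F532119)))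
theorem Q121156 : ∀ i, i < 121156 → P i := stepQ 121155 Q121155 (allL N121155 (tt N105549 (iv1 D224414)) (tt N117231 F524826) (tt N122441 (iv2 F532124)) (tt N114768 (iv3 F524829)) (tt N117401 F524828) (tt N122137 (iv5 F530378)) (tt N115068 (iv6 F524830)) (tt N114767 F524827))
theorem Q121157 : ∀ i, i < 121157 → P i := stepQ 121156 Q121156 (allL N121156 (tt N122441 (iv1 F532118)) (tt N114767 (iv0 F524836)) (tt N117231 F524831) (tt N105553 F524832) (tt N114721 F524833) (tt N113972 F524834) (tt N106241 F524835) (tt N105549 (iv7 D224415)))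
theorem Q121158 : ∀ i, i < 121158 → P i := stepQ 121157 Q121157 (allL N121157 (tt N117263 (iv1 F524841)) (tt N116122 F524842) (tt N117262 F524837) (tt N113972 F524838) (tt N122229 (iv4 F530892)) (tt N105553 F524839) (tt N111970 F524840) (tt N105552 (iv7 D224416)))
theorem Q121159 : ∀ i, i < 121159 → P i := stepQ 121158 Q121158 (allL N121158 (tt N121145 (iv1 F524846)) (tt N105560 (iv0 D224417)) (tt N121138 (iv2 F524845)) (tt N114973 F524844) (tt N114975 F524843) (tt N121927 (iv5 F529111)) (tt N121796 (iv6 F528372)) (tt N119581 F524847))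
theorem Q121160 : ∀ i, i < 121160 → P i := stepQ 121159 Q121159 (allL N121159 (tt N113682 F524852) (tt N113650 F524853) (tt N115090 F524848) (tt N121646 (iv3 F527518)) (tt N113671 F524849) (tt N105565 (iv5 D224418)) (tt N115981 F524850) (tt N116364 F524851))
theorem Q121161 : ∀ i, i < 121161 → P i := stepQ 121160 Q121160 (allL N121160 (tt N117211 F524858) (tt N117210 (iv0 F524860)) (tt N114889 F524854) (tt N110341 F524855) (tt N107980 F524859) (tt N105574 (iv5 D224419)) (tt N105575 F524856) (tt N114890 F524857))
theorem Q121162 : ∀ i, i < 121162 → P i := stepQ 121161 Q121161 (allL N121161 (tt N107470 (iv1 F524866)) (tt N121059 F524867) (tt N116738 F524861) (tt N106304 F524862) (tt N119510 F524863) (tt N120113 F524864) (tt N114482 F524865) (tt N105580 (iv7 D224420)))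
theorem Q121163 : ∀ i, i < 121163 → P i := stepQ 121162 Q121162 (allL N121162 (tt N113451 F524872) (tt N113448 (iv0 F524873)) (tt N113449 F524868) (tt N105597 F524869) (tt N122537 (iv4 F532719)) (tt N105596 (iv5 D224421)) (tt N114892 F524870) (tt N113450 F524871))
theorem Q121164 : ∀ i, i < 121164 → P i := stepQ 121163 Q121163 (allL N121163 (tt N112332 F524878) (tt N112338 F524879) (tt N117138 F524874) (tt N113200 F524880) (tt N105597 (iv4 D224422)) (tt N116268 F524877) (tt N114895 F524875) (tt N113429 F524876))
theorem Q121165 : ∀ i, i < 121165 → P i := stepQ 121164 Q121164 (allL N121164 (tt N105618 (iv1 D224423)) (tt N116323 F524881) (tt N115138 F524886) (tt N109864 (iv3 F524885)) (tt N119144 F524884) (tt N105917 F524883) (tt N115135 F524887) (tt N116322 F524882))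
theorem Q121166 : ∀ i, i < 121166 → P i := stepQ 121165 Q121165 (allL N121165 (tt N119188 F524893) (tt N119185 (iv0 F524894)) (tt N119186 F524888) (tt N108318 F524889) (tt N105721 F524890) (tt N108317 F524891) (tt N105630 (iv6 D224424)) (tt N119187 F524892))
theorem Q121167 : ∀ i, i < 121167 → P i := stepQ 121166 Q121166 (allL N121166 (tt N120165 (iv1 F524897)) (tt N105638 (iv0 D224425)) (tt N120195 (iv2 F524896)) (tt N122413 F531959) (tt N121364 (iv4 F525978)) (tt N121320 (iv5 F525747)) (tt N106346 F524895) (tt N106350 F524898))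
theorem Q121168 : ∀ i, i < 121168 → P i := stepQ 121167 Q121167 (allL N121167 (tt N120379 F524902) (tt N117348 (iv0 F524903)) (tt N121792 (iv2 F528343)) (tt N105643 (iv3 D224426)) (tt N122291 (iv4 F531224)) (tt N115101 F524899) (tt N116741 F524900) (tt N116303 F524901))
theorem Q121169 : ∀ i, i < 121169 → P i := stepQ 121168 Q121168 (allL N121168 (tt N120398 F524909) (tt N114562 (iv0 F524910)) (tt N114542 F524904) (tt N105645 F524905) (tt N105924 F524906) (tt N112177 F524907) (tt N105644 (iv6 D224427)) (tt N112765 F524908))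
theorem Q121170 : ∀ i, i < 121170 → P i := stepQ 121169 Q121169 (allL N121169 (tt N114890 F524915) (tt N114889 (iv0 F524917)) (tt N117211 F524911) (tt N105653 (iv3 D224428)) (tt N120237 (iv4 F524916)) (tt N107455 F524912) (tt N113462 F524913) (tt N117210 F524914))
theorem Q121171 : ∀ i, i < 121171 → P i := stepQ 121170 Q121170 (allL N121170 (tt N120181 (iv1 F524920)) (tt N105655 (iv0 D224429)) (tt N117492 F524922) (tt N110556 (iv3 F524921)) (tt N118642 F524919) (tt N110555 F524918) (tt N121484 (iv6 F526631)) (tt N118270 F524923))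
theorem Q121172 : ∀ i, i < 121172 → P i := stepQ 121171 Q121171 (allL N121171 (tt N105655 (iv1 D224430)) (tt N120181 F524924) (tt N118270 F524930) (tt N106651 (iv3 F524928)) (tt N118643 F524927) (tt N117493 F524926) (tt N106650 (iv6 F524929)) (tt N117492 F524925))
theorem Q121173 : ∀ i, i < 121173 → P i := stepQ 121172 Q121172 (allL N121172 (tt N121877 (iv1 F528861)) (tt N116670 (iv0 F524934)) (tt N112562 F524931) (tt N105655 (iv3 D224431)) (tt N121382 (iv4 F526054)) (tt N112531 F524932) (tt N105663 F524933) (tt N122204 (iv7 F530758)))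
theorem Q121174 : ∀ i, i < 121174 → P i := stepQ 121173 Q121173 (allL N121173 (tt N122299 (iv1 F531272)) (tt N113395 (iv0 F524938)) (tt N119777 F524935) (tt N105658 (iv3 D224432)) (tt N122536 (iv4 F532710)) (tt N120102 F524936) (tt N119768 (iv6 F524939)) (tt N121115 F524937))
theorem Q121175 : ∀ i, i < 121175 → P i := stepQ 121174 Q121174 (allL N121174 (tt N121377 (iv1 F526035)) (tt N120419 (iv0 F524944)) (tt N121117 F524940) (tt N119768 F524941) (tt N105659 F524942) (tt N121227 (iv5 F525242)) (tt N105658 (iv6 D224433)) (tt N119778 F524943))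
theorem Q121176 : ∀ i, i < 121176 → P i := stepQ 121175 Q121175 (allL N121175 (tt N121094 F524949) (tt N121095 F524950) (tt N117134 F524945) (tt N105664 (iv3 D224434)) (tt N121584 (iv4 F527162)) (tt N119202 F524946) (tt N114623 F524947) (tt N117253 F524948))
theorem Q121177 : ∀ i, i < 121177 → P i := stepQ 121176 Q121176 (allL N121176 (tt N119797 F524955) (tt N118238 (iv0 F524956)) (tt N119795 F524951) (tt N105668 (iv3 D224435)) (tt N119712 F524952) (tt N112595 F524953) (tt N121488 (iv6 F526646)) (tt N106657 F524954))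
theorem Q121178 : ∀ i, i < 121178 → P i := stepQ 121177 Q121177 (allL N121177 (tt N110312 (iv1 F524961)) (tt N105669 (iv0 D224436)) (tt N115403 (iv2 F524960)) (tt N117743 F524958) (tt N122707 (iv4 F533733)) (tt N110353 F524957) (tt N119204 F524959) (tt N112917 F524962))
theorem Q121179 : ∀ i, i < 121179 → P i := stepQ 121178 Q121178 (allL N121178 (tt N120521 F524967) (tt N120519 (iv0 F524968)) (tt N122448 (iv2 F532166)) (tt N105692 F524963) (tt N115895 F524966) (tt N105691 (iv5 D224437)) (tt N106739 F524964) (tt N118844 F524965))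
theorem Q121180 : ∀ i, i < 121180 → P i := stepQ 121179 Q121179 (allL N121179 (tt N109784 F524974) (tt N109782 F524975) (tt N116325 F524969) (tt N117415 F524970) (tt N105705 F524971) (tt N105697 (iv5 D224438)) (tt N108874 F524972) (tt N116326 F524973))
theorem Q121181 : ∀ i, i < 121181 → P i := stepQ 121180 Q121180 (allL N121180 (tt N113318 (iv1 F524981)) (tt N114322 F524982) (tt N110213 F524976) (tt N108074 F524977) (tt N110212 F524978) (tt N110515 F524979) (tt N108073 F524980) (tt N105698 (iv7 D224439)))
theorem Q121182 : ∀ i, i < 121182 → P i := stepQ 121181 Q121181 (allL N121181 (tt N122530 (iv1 F532678)) (tt N122163 (iv0 F530520)) (tt N120323 F524983) (tt N113732 F524984) (tt N105715 (iv4 D224440)) (tt N118586 F524985) (tt N122557 (iv6 F532833)) (tt N118585 F524986))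
theorem Q121183 : ∀ i, i < 121183 → P i := stepQ 121182 Q121182 (allL N121182 (tt N120013 (iv1 F524990)) (tt N105721 (iv0 D224441)) (tt N120778 (iv2 F524991)) (tt N119089 F524989) (tt N110467 F524987) (tt N119088 F524988) (tt N110466 (iv6 F524992)) (tt N120011 (iv7 F524993)))
theorem Q121184 : ∀ i, i < 121184 → P i := stepQ 121183 Q121183 (allL N121183 (tt N105721 (iv1 D224442)) (tt N120013 F524994) (tt N120011 F525000) (tt N113327 (iv3 F524998)) (tt N118374 F524997) (tt N110796 F524996) (tt N109462 (iv6 F524999)) (tt N120778 F524995))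
theorem Q121185 : ∀ i, i < 121185 → P i := stepQ 121184 Q121184 (allL N121184 (tt N105726 (iv1 D224443)) (tt N120775 F525001) (tt N110557 F525007) (tt N118818 (iv3 F525005)) (tt N109418 F525004) (tt N120232 F525003) (tt N106527 (iv6 F525006)) (tt N110552 F525002))
theorem Q121186 : ∀ i, i < 121186 → P i := stepQ 121185 Q121185 (allL N121185 (tt N110557 (iv1 F525013)) (tt N110552 F525014) (tt N120775 F525008) (tt N120014 F525009) (tt N110486 F525010) (tt N110392 F525011) (tt N120013 F525012) (tt N105726 (iv7 D224444)))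
theorem Q121187 : ∀ i, i < 121187 → P i := stepQ 121186 Q121186 (allL N121186 (tt N119844 F525019) (tt N118574 F525020) (tt N118603 F525015) (tt N118281 F525016) (tt N119852 F525017) (tt N105730 (iv5 D224445)) (tt N117850 F525018) (tt N121680 (iv7 F527706)))
theorem Q121188 : ∀ i, i < 121188 → P i := stepQ 121187 Q121187 (allL N121187 (tt N116340 F525026) (tt N105734 (iv0 D224446)) (tt N116338 (iv2 F525024)) (tt N117190 F525022) (tt N119188 F525023) (tt N117189 F525021) (tt N122454 (iv6 F532210)) (tt N116339 (iv7 F525025)))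
theorem Q121189 : ∀ i, i < 121189 → P i := stepQ 121188 Q121188 (allL N121188 (tt N105734 (iv1 D224447)) (tt N116340 F525027) (tt N116339 F525033) (tt N116711 (iv3 F525031)) (tt N119185 (iv4 F525030)) (tt N116710 F525029) (tt N109111 (iv6 F525032)) (tt N116338 F525028))
theorem Q121190 : ∀ i, i < 121190 → P i := stepQ 121189 Q121189 (allL N121189 (tt N116339 (iv1 F525038)) (tt N116338 F525039) (tt N116340 F525034) (tt N106140 F525035) (tt N118193 F525036) (tt N122002 (iv5 F529570)) (tt N120186 F525037) (tt N105734 (iv7 D224448)))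
theorem Q121191 : ∀ i, i < 121191 → P i := stepQ 121190 Q121190 (allL N121190 (tt N105735 (iv1 D224449)) (tt N120186 F525040) (tt N110488 F525045) (tt N114646 (iv3 F525044)) (tt N107227 F525042) (tt N117208 F525043) (tt N122593 (iv6 F533048)) (tt N110487 F525041))
theorem Q121192 : ∀ i, i < 121192 → P i := stepQ 121191 Q121191 (allL N121191 (tt N110488 (iv1 F525051)) (tt N110487 F525052) (tt N120186 F525046) (tt N113752 F525047) (tt N114988 F525048) (tt N114261 F525049) (tt N116340 F525050) (tt N105735 (iv7 D224450)))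
theorem Q121193 : ∀ i, i < 121193 → P i := stepQ 121192 Q121192 (allL N121192 (tt N121755 (iv1 F528125)) (tt N105739 (iv0 D224451)) (tt N121756 F528129) (tt N118927 (iv3 F525794)) (tt N121328 (iv4 F525793)) (tt N122594 (iv5 F533052)) (tt N121321 F525795) (tt N119066 F525796))
theorem Q121194 : ∀ i, i < 121194 → P i := stepQ 121193 Q121193 (allL N121193 (tt N121004 F525057) (tt N115404 (iv0 F525058)) (tt N121025 F525053) (tt N120799 F525054) (tt N113800 F525055) (tt N122697 (iv5 F533672)) (tt N105749 (iv6 D224452)) (tt N113797 F525056))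
theorem Q121195 : ∀ i, i < 121195 → P i := stepQ 121194 Q121194 (allL N121194 (tt N105755 (iv1 F525064)) (tt N105754 F525065) (tt N105757 F525059) (tt N113054 F525060) (tt N113056 F525061) (tt N118121 F525062) (tt N120662 F525063) (tt N105753 (iv7 D224453)))
theorem Q121196 : ∀ i, i < 121196 → P i := stepQ 121195 Q121195 (allL N121195 (tt N111295 F525071) (tt N111289 (iv0 F525072)) (tt N116926 F525066) (tt N105806 (iv3 D224454)) (tt N111277 F525067) (tt N106216 F525068) (tt N116287 F525069) (tt N120409 F525070))
theorem Q121197 : ∀ i, i < 121197 → P i := stepQ 121196 Q121196 (allL N121196 (tt N120438 F525077) (tt N117188 F525078) (tt N120439 F525073) (tt N105808 F525074) (tt N114007 F525075) (tt N105807 (iv5 D224455)) (tt N122416 (iv6 F531977)) (tt N106510 F525076))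
theorem Q121198 : ∀ i, i < 121198 → P i := stepQ 121197 Q121197 (allL N121197 (tt N116757 F525083) (tt N114732 (iv0 F525084)) (tt N120063 F525079) (tt N122416 (iv3 F531975)) (tt N106219 F525080) (tt N116748 F525081) (tt N105808 (iv6 D224456)) (tt N120064 F525082))
theorem Q121199 : ∀ i, i < 121199 → P i := stepQ 121198 Q121198 (allL N121198 (tt N114036 F525090) (tt N114035 (iv0 F525091)) (tt N114037 F525085) (tt N105814 (iv3 D224457)) (tt N110862 F525086) (tt N116297 F525087) (tt N106165 F525088) (tt N114032 F525089))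
theorem Q121200 : ∀ i, i < 121200 → P i := stepQ 121199 Q121199 (allL N121199 (tt N119487 F525097) (tt N117717 F525098) (tt N119484 F525092) (tt N120520 F525093) (tt N120810 F525096) (tt N105822 (iv5 D224458)) (tt N118606 F525094) (tt N119485 F525095))
theorem Q121201 : ∀ i, i < 121201 → P i := stepQ 121200 Q121200 (allL N121200 (tt N107184 F525104) (tt N113184 F525105) (tt N117734 F525099) (tt N113441 F525100) (tt N119993 F525101) (tt N105832 (iv5 D224459)) (tt N111343 F525102) (tt N117733 F525103))
theorem Q121202 : ∀ i, i < 121202 → P i := stepQ 121201 Q121201 (allL N121201 (tt N109055 (iv1 F525111)) (tt N108778 F525112) (tt N118421 F525106) (tt N105848 F525107) (tt N111267 F525108) (tt N105847 F525109) (tt N111266 F525110) (tt N105846 (iv7 D224460)))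
theorem Q121203 : ∀ i, i < 121203 → P i := stepQ 121202 Q121202 (allL N121202 (tt N114829 F525114) (tt N122323 (iv0 F531422)) (tt N121210 (iv2 F525147)) (tt N121713 (iv3 F527910)) (tt N121717 (iv4 F527930)) (tt N115332 F525113) (tt N105856 (iv6 D224461)) (tt N122238 (iv7 F530946)))
theorem Q121204 : ∀ i, i < 121204 → P i := stepQ 121203 Q121203 (allL N121203 (tt N122120 F530290) (tt N121809 (iv0 F528449)) (tt N121052 F525115) (tt N105858 F525116) (tt N119321 F525118) (tt N105857 (iv5 D224462)) (tt N121037 F525117) (tt N121209 (iv7 F525146)))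
theorem Q121205 : ∀ i, i < 121205 → P i := stepQ 121204 Q121204 (allL N121204 (tt N122391 F531821) (tt N122721 D225980) (tt N121212 (iv2 F525157)) (tt N122241 F530962) (tt N122185 (iv4 F530657)) (tt N118803 F525119) (tt N105861 (iv6 D224463)) (tt N122131 (iv7 F530349)))
theorem Q121206 : ∀ i, i < 121206 → P i := stepQ 121205 Q121205 (allL N121205 (tt N110708 (iv1 F525125)) (tt N105891 (iv0 D224464)) (tt N110608 (iv2 F525124)) (tt N110705 F525122) (tt N120308 F525121) (tt N113352 F525120) (tt N112607 F525123) (tt N110709 F525126))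
theorem Q121207 : ∀ i, i < 121207 → P i := stepQ 121206 Q121206 (allL N121206 (tt N119009 F525132) (tt N119010 F525133) (tt N119478 F525127) (tt N116273 F525128) (tt N105907 (iv4 D224465)) (tt N121006 F525129) (tt N109429 F525130) (tt N119496 F525131))
theorem Q121208 : ∀ i, i < 121208 → P i := stepQ 121207 Q121207 (allL N121207 (tt N119589 (iv1 F525139)) (tt N116781 F525138) (tt N105919 (iv2 D224466)) (tt N116404 F525134) (tt N108799 F525135) (tt N121568 (iv5 F527074)) (tt N109809 F525136) (tt N108798 F525137))
theorem Q121209 : ∀ i, i < 121209 → P i := stepQ 121208 Q121208 (allL N121208 (tt N122322 (iv1 F531416)) (tt N121795 (iv0 F528366)) (tt N115137 F525140) (tt N122436 (iv3 F532090)) (tt N117175 F525141) (tt N115135 F525142) (tt N105920 (iv6 D224467)) (tt N121912 (iv7 F529026)))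
theorem Q121210 : ∀ i, i < 121210 → P i := stepQ 121209 Q121209 (allL N121209 (tt N122583 (iv1 F532987)) (tt N122607 (iv0 F533142)) (tt N121434 (iv2 F526349)) (tt N105936 F525143) (tt N118617 F525144) (tt N105935 (iv5 D224468)) (tt N106405 F525145) (tt N121203 F525146))
theorem Q121211 : ∀ i, i < 121211 → P i := stepQ 121210 Q121210 (allL N121210 (tt N116348 F525151) (tt N113538 F525152) (tt N121202 F525147) (tt N106405 F525148) (tt N121063 F525149) (tt N106404 F525150) (tt N105936 (iv6 D224469)) (tt N122362 (iv7 F531642)))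
theorem Q121212 : ∀ i, i < 121212 → P i := stepQ 121211 Q121211 (allL N121211 (tt N120834 F525155) (tt N122408 (iv0 F531927)) (tt N122523 (iv2 F532630)) (tt N105941 (iv3 D224470)) (tt N119348 F525153) (tt N121773 (iv5 F528235)) (tt N106411 (iv6 F525156)) (tt N121067 F525154))
theorem Q121213 : ∀ i, i < 121213 → P i := stepQ 121212 Q121212 (allL N121212 (tt N122404 F531902) (tt N122514 (iv0 F532586)) (tt N121204 F525157) (tt N106411 F525158) (tt N121073 F525159) (tt N121774 (iv5 F528242)) (tt N105941 (iv6 D224471)) (tt N122718 (iv7 F533810)))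
theorem Q121214 : ∀ i, i < 121214 → P i := stepQ 121213 Q121213 (allL N121213 (tt N106257 (iv1 F525166)) (tt N106229 F525165) (tt N105951 (iv2 D224472)) (tt N106254 F525160) (tt N107187 F525161) (tt N119997 F525162) (tt N106068 F525163) (tt N106258 F525164))
theorem Q121215 : ∀ i, i < 121215 → P i := stepQ 121214 Q121214 (allL N121214 (tt N106228 (iv1 F525171)) (tt N106253 F525170) (tt N105953 (iv2 D224473)) (tt N106258 F525167) (tt N118440 F525168) (tt N122365 (iv5 F531662)) (tt N116991 (iv6 F525172)) (tt N106254 F525169))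
theorem Q121216 : ∀ i, i < 121216 → P i := stepQ 121215 Q121215 (allL N121215 (tt N116990 F525178) (tt N106829 (iv0 F525179)) (tt N116991 F525173) (tt N105955 F525174) (tt N118417 F525175) (tt N106051 F525176) (tt N105953 (iv6 D224474)) (tt N106067 F525177))
theorem Q121217 : ∀ i, i < 121217 → P i := stepQ 121216 Q121216 (allL N121216 (tt N118923 F525185) (tt N118921 F525186) (tt N106261 F525180) (tt N118406 F525181) (tt N105954 (iv4 D224475)) (tt N115995 F525182) (tt N115105 F525183) (tt N106256 F525184))
theorem Q121218 : ∀ i, i < 121218 → P i := stepQ 121217 Q121217 (allL N121217 (tt N105991 F525190) (tt N106418 (iv0 F525191)) (tt N106314 F525187) (tt N121768 (iv3 F528204)) (tt N121769 (iv4 F528206)) (tt N106072 F525188) (tt N105959 (iv6 D224476)) (tt N106417 F525189))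
theorem Q121219 : ∀ i, i < 121219 → P i := stepQ 121218 Q121218 (allL N121218 (tt N119636 F525197) (tt N119634 F525196) (tt N105967 F525192) (tt N106300 F525193) (tt N119674 F525195) (tt N105961 (iv5 D224477)) (tt N109120 F525194) (tt N121317 (iv7 F525727)))
theorem Q121220 : ∀ i, i < 121220 → P i := stepQ 121219 Q121219 (allL N121219 (tt N107257 F525203) (tt N114277 F525204) (tt N106324 F525198) (tt N110524 F525199) (tt N105963 (iv4 D224478)) (tt N108247 F525200) (tt N109406 F525201) (tt N106326 F525202))
theorem Q121221 : ∀ i, i < 121221 → P i := stepQ 121220 Q121220 (allL N121220 (tt N107248 F525207) (tt N121746 (iv0 F528078)) (tt N121747 F528081) (tt N118550 F525205) (tt N105966 (iv4 D224479)) (tt N122711 (iv5 F533761)) (tt N121616 (iv6 F527350)) (tt N106983 F525206))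
theorem Q121222 : ∀ i, i < 121222 → P i := stepQ 121221 Q121221 (allL N121221 (tt N106474 F525212) (tt N109200 F525213) (tt N113760 F525208) (tt N108876 F525209) (tt N108882 F525214) (tt N105966 (iv5 D224480)) (tt N116345 F525210) (tt N106984 F525211))
theorem Q121223 : ∀ i, i < 121223 → P i := stepQ 121222 Q121222 (allL N121222 (tt N105967 (iv1 D224481)) (tt N121317 F525730) (tt N119634 (iv2 F525218)) (tt N122594 (iv3 F533054)) (tt N119633 F525217) (tt N118927 F525216) (tt N121794 (iv6 F528356)) (tt N119636 F525215))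
theorem Q121224 : ∀ i, i < 121224 → P i := stepQ 121223 Q121223 (allL N121223 (tt N106351 F525224) (tt N106362 (iv0 F525225)) (tt N106363 F525219) (tt N105975 (iv3 D224482)) (tt N106234 F525220) (tt N112387 F525221) (tt N119542 F525222) (tt N106301 F525223))
theorem Q121225 : ∀ i, i < 121225 → P i := stepQ 121224 Q121224 (allL N121224 (tt N105978 (iv1 D224483)) (tt N106346 F525226) (tt N106344 F525230) (tt N120194 (iv3 F525229)) (tt N122694 (iv4 F533650)) (tt N106397 F525228) (tt N113204 (iv6 F525231)) (tt N106343 F525227))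
theorem Q121226 : ∀ i, i < 121226 → P i := stepQ 121225 Q121225 (allL N121225 (tt N121279 (iv1 F525535)) (tt N119615 F525235) (tt N106345 F525232) (tt N105980 F525233) (tt N105978 (iv4 D224484)) (tt N121985 (iv5 F529462)) (tt N105980 F525234) (tt N121378 (iv7 F526038)))
theorem Q121227 : ∀ i, i < 121227 → P i := stepQ 121226 Q121226 (allL N121226 (tt N106344 (iv1 F525240)) (tt N106343 F525241) (tt N106346 F525236) (tt N110359 F525237) (tt N121378 (iv4 F526036)) (tt N105979 F525238) (tt N120195 F525239) (tt N105978 (iv7 D224485)))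
theorem Q121228 : ∀ i, i < 121228 → P i := stepQ 121227 Q121227 (allL N121227 (tt N119755 (iv1 F525245)) (tt N105986 (iv0 D224486)) (tt N110565 (iv2 F525244)) (tt N106662 F525243) (tt N122052 (iv4 F529869)) (tt N121174 F525242) (tt N120528 (iv6 F525247)) (tt N106664 F525246))
theorem Q121229 : ∀ i, i < 121229 → P i := stepQ 121228 Q121228 (allL N121228 (tt N106417 (iv1 F525254)) (tt N106314 F525253) (tt N105991 (iv2 D224487)) (tt N106413 F525248) (tt N109891 F525249) (tt N113790 F525250) (tt N119022 F525251) (tt N106418 F525252))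
theorem Q121230 : ∀ i, i < 121230 → P i := stepQ 121229 Q121229 (allL N121229 (tt N122458 F532240) (tt N112796 F525259) (tt N106009 F525255) (tt N106541 F525256) (tt N118510 F525257) (tt N106007 (iv5 D224488)) (tt N118515 F525258) (tt N122572 (iv7 F532919)))
theorem Q121231 : ∀ i, i < 121231 → P i := stepQ 121230 Q121230 (allL N121230 (tt N112939 F525264) (tt N106211 (iv0 F525265)) (tt N112940 F525260) (tt N120445 F525261) (tt N122605 (iv4 F533125)) (tt N106008 (iv5 D224489)) (tt N120444 F525262) (tt N112928 F525263))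
theorem Q121232 : ∀ i, i < 121232 → P i := stepQ 121231 Q121231 (allL N121231 (tt N122572 (iv1 F532921)) (tt N106009 (iv0 D224490)) (tt N122458 (iv2 F532235)) (tt N112797 (iv3 F525268)) (tt N119315 F525266) (tt N121248 (iv5 F525356)) (tt N119968 F525267) (tt N112796 (iv7 F525269)))
theorem Q121233 : ∀ i, i < 121233 → P i := stepQ 121232 Q121232 (allL N121232 (tt N107594 F525275) (tt N119604 (iv0 F525276)) (tt N114067 F525270) (tt N106010 (iv3 D224491)) (tt N118619 F525271) (tt N120056 F525272) (tt N120555 F525273) (tt N120144 F525274))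
theorem Q121234 : ∀ i, i < 121234 → P i := stepQ 121233 Q121233 (allL N121233 (tt N106745 F525282) (tt N106744 F525283) (tt N106013 F525277) (tt N120585 F525278) (tt N106709 F525279) (tt N106011 (iv5 D224492)) (tt N106891 F525280) (tt N106740 F525281))
theorem Q121235 : ∀ i, i < 121235 → P i := stepQ 121234 Q121234 (allL N121234 (tt N120604 F525289) (tt N121405 (iv0 F526176)) (tt N106709 F525284) (tt N119401 F525285) (tt N106013 (iv4 D224493)) (tt N106701 F525286) (tt N119400 F525287) (tt N106746 F525288))
theorem Q121236 : ∀ i, i < 121236 → P i := stepQ 121235 Q121235 (allL N121235 (tt N114776 F525295) (tt N106606 (iv0 F525296)) (tt N106592 F525290) (tt N110498 F525291) (tt N120236 F525292) (tt N110497 F525293) (tt N106015 (iv6 D224494)) (tt N120208 F525294))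
theorem Q121237 : ∀ i, i < 121237 → P i := stepQ 121236 Q121236 (allL N121236 (tt N120231 F525300) (tt N117929 F525301) (tt N120235 F525297) (tt N122722 D225981) (tt N106020 (iv4 D224495)) (tt N121427 (iv5 F526306)) (tt N110231 F525298) (tt N106604 F525299))
theorem Q121238 : ∀ i, i < 121238 → P i := stepQ 121237 Q121237 (allL N121237 (tt N122723 D225982) (tt N122723 F533843) (tt N106607 F525302) (tt N106021 (iv3 D224496)) (tt N122722 (iv4 F533834)) (tt N119803 F525303) (tt N121421 (iv6 F526266)) (tt N106607 F525304))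
theorem Q121239 : ∀ i, i < 121239 → P i := stepQ 121238 Q121238 (allL N121238 (tt N106518 (iv1 F525310)) (tt N106601 F525309) (tt N106025 (iv2 D224497)) (tt N106625 F525305) (tt N122724 D225983) (tt N106291 F525306) (tt N110228 F525307) (tt N106617 F525308))
theorem Q121240 : ∀ i, i < 121240 → P i := stepQ 121239 Q121239 (allL N121239 (tt N112570 F525313) (tt N120191 F525314) (tt N122724 (iv2 F533846)) (tt N122308 (iv3 F531323)) (tt N106025 (iv4 D224498)) (tt N121295 (iv5 F525606)) (tt N117368 F525311) (tt N106618 F525312))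
theorem Q121241 : ∀ i, i < 121241 → P i := stepQ 121240 Q121240 (allL N121240 (tt N121426 F526302) (tt N121426 (iv0 F526301)) (tt N106621 F525315) (tt N106026 (iv3 D224499)) (tt N122308 (iv4 F531324)) (tt N121995 (iv5 F529524)) (tt N116501 F525316) (tt N106621 F525317))
theorem Q121242 : ∀ i, i < 121242 → P i := stepQ 121241 Q121241 (allL N121241 (tt N121857 (iv1 F528738)) (tt N121513 (iv0 F526789)) (tt N122578 (iv2 F532955)) (tt N106028 (iv3 D224500)) (tt N121837 (iv4 F528617)) (tt N112621 F525318) (tt N122587 (iv6 F533011)) (tt N106626 F525319))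
theorem Q121243 : ∀ i, i < 121243 → P i := stepQ 121242 Q121242 (allL N121242 (tt N119802 F525324) (tt N121860 (iv0 F528758)) (tt N122725 D225984) (tt N106033 (iv3 D224501)) (tt N112613 F525320) (tt N119824 F525321) (tt N109522 F525322) (tt N106649 F525323))
theorem Q121244 : ∀ i, i < 121244 → P i := stepQ 121243 Q121243 (allL N121243 (tt N106768 (iv1 F525331)) (tt N106514 F525330) (tt N106051 (iv2 D224502)) (tt N106770 F525325) (tt N120529 F525326) (tt N116991 F525327) (tt N107146 F525328) (tt N106778 F525329))
theorem Q121245 : ∀ i, i < 121245 → P i := stepQ 121244 Q121244 (allL N121244 (tt N120773 F525337) (tt N118789 (iv0 F525338)) (tt N106774 F525332) (tt N111375 F525333) (tt N106053 F525334) (tt N118783 F525335) (tt N106052 (iv6 D224503)) (tt N116411 F525336))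
theorem Q121246 : ∀ i, i < 121246 → P i := stepQ 121245 Q121245 (allL N121245 (tt N106053 (iv1 D224504)) (tt N106777 F525339) (tt N106776 F525345) (tt N107134 (iv3 F525343)) (tt N108849 F525342) (tt N119076 F525341) (tt N108848 (iv6 F525344)) (tt N106775 F525340))
theorem Q121247 : ∀ i, i < 121247 → P i := stepQ 121246 Q121246 (allL N121246 (tt N106765 (iv1 F525348)) (tt N106059 (iv0 D224505)) (tt N106789 (iv2 F525347)) (tt N107332 (iv3 F525350)) (tt N121760 (iv4 F528149)) (tt N113424 F525346) (tt N122022 (iv6 F529690)) (tt N106790 F525349))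
theorem Q121248 : ∀ i, i < 121248 → P i := stepQ 121247 Q121247 (allL N121247 (tt N120608 F525354) (tt N120609 F525355) (tt N106875 F525351) (tt N122717 (iv3 F533800)) (tt N106064 (iv4 D224506)) (tt N106867 F525352) (tt N122717 (iv6 F533801)) (tt N106894 F525353))
theorem Q121249 : ∀ i, i < 121249 → P i := stepQ 121248 Q121248 (allL N121248 (tt N116972 (iv1 F525359)) (tt N106065 (iv0 D224507)) (tt N116974 (iv2 F525358)) (tt N119096 (iv3 F525361)) (tt N122066 (iv4 F529958)) (tt N121231 F525356) (tt N116990 F525357) (tt N106827 F525360))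
theorem Q121250 : ∀ i, i < 121250 → P i := stepQ 121249 Q121249 (allL N121249 (tt N106067 (iv1 D224508)) (tt N116991 F525362) (tt N116990 F525367) (tt N115128 (iv3 F525366)) (tt N116836 F525365) (tt N115126 F525364) (tt N116974 F525368) (tt N106829 F525363))
theorem Q121251 : ∀ i, i < 121251 → P i := stepQ 121250 Q121250 (allL N121250 (tt N120695 F525373) (tt N121111 F525374) (tt N106980 F525369) (tt N116265 F525370) (tt N106204 F525372) (tt N106073 (iv5 D224509)) (tt N120124 F525371) (tt N121110 (iv7 F525375)))
theorem Q121252 : ∀ i, i < 121252 → P i := stepQ 121251 Q121251 (allL N121251 (tt N106979 (iv1 F525381)) (tt N106951 F525382) (tt N106981 F525376) (tt N114669 F525377) (tt N120992 F525378) (tt N121110 F525379) (tt N106975 F525380) (tt N106073 (iv7 D224510)))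
theorem Q121253 : ∀ i, i < 121253 → P i := stepQ 121252 Q121252 (allL N121252 (tt N121584 F527166) (tt N107548 (iv0 F525385)) (tt N121880 (iv2 F528871)) (tt N119291 F525383) (tt N106082 (iv4 D224511)) (tt N119288 F525384) (tt N121835 (iv6 F528603)) (tt N122014 (iv7 F529641)))
theorem Q121254 : ∀ i, i < 121254 → P i := stepQ 121253 Q121253 (allL N121253 (tt N106090 (iv1 D224512)) (tt N107091 F525386) (tt N107092 F525392) (tt N109813 (iv3 F525390)) (tt N116618 F525389) (tt N113138 F525388) (tt N106329 (iv6 F525391)) (tt N107093 F525387))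
theorem Q121255 : ∀ i, i < 121255 → P i := stepQ 121254 Q121254 (allL N121254 (tt N119320 (iv1 F525397)) (tt N106104 (iv0 D224513)) (tt N118416 (iv2 F525396)) (tt N117560 F525394) (tt N121850 (iv4 F528692)) (tt N111579 F525393) (tt N108268 F525395) (tt N117669 F525398))
theorem Q121256 : ∀ i, i < 121256 → P i := stepQ 121255 Q121255 (allL N121255 (tt N119662 (iv1 F525404)) (tt N106134 (iv0 D224514)) (tt N120641 (iv2 F525403)) (tt N117976 F525401) (tt N120635 F525400) (tt N119578 F525399) (tt N117975 F525402) (tt N120638 F525405))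
theorem Q121257 : ∀ i, i < 121257 → P i := stepQ 121256 Q121256 (allL N121256 (tt N119024 F525409) (tt N121727 (iv0 F527990)) (tt N118498 F525406) (tt N122002 (iv3 F529568)) (tt N107357 F525407) (tt N106140 (iv5 D224515)) (tt N122001 (iv6 F529566)) (tt N107356 F525408))
theorem Q121258 : ∀ i, i < 121258 → P i := stepQ 121257 Q121257 (allL N121257 (tt N120072 F525414) (tt N113267 (iv0 F525416)) (tt N120546 F525410) (tt N106168 (iv3 D224516)) (tt N107833 F525415) (tt N110275 F525411) (tt N107832 F525412) (tt N110274 F525413))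
theorem Q121259 : ∀ i, i < 121259 → P i := stepQ 121258 Q121258 (allL N121258 (tt N109595 F525422) (tt N116880 (iv0 F525423)) (tt N116879 F525417) (tt N120428 F525418) (tt N120481 F525419) (tt N120088 F525420) (tt N106178 (iv6 D224517)) (tt N116878 F525421))
theorem Q121260 : ∀ i, i < 121260 → P i := stepQ 121259 Q121259 (allL N121259 (tt N116917 F525428) (tt N120520 F525429) (tt N108224 F525424) (tt N115955 F525425) (tt N115547 F525426) (tt N106199 (iv5 D224518)) (tt N122085 (iv6 F530068)) (tt N115544 F525427))
theorem Q121261 : ∀ i, i < 121261 → P i := stepQ 121260 Q121260 (allL N121260 (tt N106263 F525436) (tt N121141 F525435) (tt N119620 F525430) (tt N119622 F525431) (tt N106200 (iv4 D224519)) (tt N106257 F525434) (tt N120174 F525432) (tt N107984 F525433))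
theorem Q121262 : ∀ i, i < 121262 → P i := stepQ 121261 Q121261 (allL N121261 (tt N108419 (iv1 F525442)) (tt N116318 F525441) (tt N120360 F525437) (tt N106201 F525438) (tt N120287 F525439) (tt N106200 (iv5 D224520)) (tt N120286 (iv6 F525443)) (tt N119991 F525440))
theorem Q121263 : ∀ i, i < 121263 → P i := stepQ 121262 Q121262 (allL N121262 (tt N113011 F525449) (tt N116158 F525450) (tt N121109 F525444) (tt N113817 F525445) (tt N106201 (iv4 D224521)) (tt N113810 F525446) (tt N116659 F525447) (tt N113555 F525448))
theorem Q121264 : ∀ i, i < 121264 → P i := stepQ 121263 Q121263 (allL N121263 (tt N113778 F525454) (tt N121449 (iv0 F526440)) (tt N122333 (iv2 F531470)) (tt N106204 (iv3 D224522)) (tt N122272 (iv4 F531097)) (tt N116304 F525451) (tt N112888 F525452) (tt N116759 F525453))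
theorem Q121265 : ∀ i, i < 121265 → P i := stepQ 121264 Q121264 (allL N121264 (tt N120444 (iv1 F525458)) (tt N110182 F525459) (tt N121566 (iv2 F527064)) (tt N106205 (iv3 D224523)) (tt N108825 (iv4 F525457)) (tt N119599 F525455) (tt N122442 (iv6 F532127)) (tt N120375 F525456))
theorem Q121266 : ∀ i, i < 121266 → P i := stepQ 121265 Q121265 (allL N121265 (tt N121111 F525463) (tt N120695 F525464) (tt N121110 F525460) (tt N122349 (iv3 F531564)) (tt N106205 (iv4 D224524)) (tt N106981 F525461) (tt N122269 (iv6 F531082)) (tt N106980 F525462))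
theorem Q121267 : ∀ i, i < 121267 → P i := stepQ 121266 Q121266 (allL N121266 (tt N108347 F525468) (tt N113992 (iv0 F525469)) (tt N110531 (iv2 F525470)) (tt N106206 (iv3 D224525)) (tt N109687 F525465) (tt N112512 F525466) (tt N106216 F525467) (tt N121439 (iv7 F526384)))
theorem Q121268 : ∀ i, i < 121268 → P i := stepQ 121267 Q121267 (allL N121267 (tt N106554 F525475) (tt N106553 (iv0 F525476)) (tt N106208 F525471) (tt N122572 (iv3 F532917)) (tt N119973 F525474) (tt N106207 (iv5 D224526)) (tt N116735 F525472) (tt N106541 F525473))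
theorem Q121269 : ∀ i, i < 121269 → P i := stepQ 121268 Q121268 (allL N121268 (tt N106541 (iv1 F525480)) (tt N106208 (iv0 D224527)) (tt N106554 (iv2 F525481)) (tt N116816 F525477) (tt N112943 (iv4 F525482)) (tt N108380 F525478) (tt N112942 F525479) (tt N106553 (iv7 F525483)))
theorem Q121270 : ∀ i, i < 121270 → P i := stepQ 121269 Q121269 (allL N121269 (tt N106208 (iv1 D224528)) (tt N106541 F525484) (tt N106553 F525489) (tt N110096 (iv3 F525487)) (tt N122373 (iv4 F531713)) (tt N108379 F525486) (tt N110533 (iv6 F525488)) (tt N106554 F525485))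
theorem Q121271 : ∀ i, i < 121271 → P i := stepQ 121270 Q121270 (allL N121270 (tt N121910 (iv1 F529016)) (tt N108403 F525495) (tt N119973 F525490) (tt N114066 F525491) (tt N106208 (iv4 D224529)) (tt N110868 F525494) (tt N114492 F525492) (tt N106555 F525493))
theorem Q121272 : ∀ i, i < 121272 → P i := stepQ 121271 Q121271 (allL N121271 (tt N112940 (iv1 F525501)) (tt N112928 F525500) (tt N106211 (iv2 D224530)) (tt N120363 F525496) (tt N122624 (iv4 F533237)) (tt N116972 F525497) (tt N112947 F525498) (tt N112939 F525499))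
theorem Q121273 : ∀ i, i < 121273 → P i := stepQ 121272 Q121272 (allL N121272 (tt N121570 (iv1 F527089)) (tt N118528 F525504) (tt N122624 (iv2 F533235)) (tt N121556 (iv3 F527026)) (tt N106211 (iv4 D224531)) (tt N108580 F525503) (tt N122314 (iv6 F531364)) (tt N117815 F525502))
theorem Q121274 : ∀ i, i < 121274 → P i := stepQ 121273 Q121273 (allL N121273 (tt N121467 (iv1 F526538)) (tt N121846 F528668) (tt N121575 (iv2 F527109)) (tt N106212 (iv3 D224532)) (tt N121556 (iv4 F527029)) (tt N115051 F525505) (tt N121636 (iv6 F527467)) (tt N120201 F525506))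
theorem Q121275 : ∀ i, i < 121275 → P i := stepQ 121274 Q121274 (allL N121274 (tt N116161 F525508) (tt N116654 (iv0 F525509)) (tt N121480 (iv2 F526606)) (tt N121636 (iv3 F527466)) (tt N106213 F525507) (tt N121477 (iv5 F526591)) (tt N106212 (iv6 D224533)) (tt N121913 (iv7 F529032)))
theorem Q121276 : ∀ i, i < 121276 → P i := stepQ 121275 Q121275 (allL N121275 (tt N107259 (iv1 F525513)) (tt N106238 (iv0 D224534)) (tt N107261 (iv2 F525512)) (tt N106257 F525511) (tt N121746 (iv4 F528076)) (tt N119622 F525510) (tt N120081 (iv6 F525515)) (tt N107256 F525514))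
theorem Q121277 : ∀ i, i < 121277 → P i := stepQ 121276 Q121276 (allL N121276 (tt N117285 F525520) (tt N117284 F525521) (tt N106687 F525516) (tt N110918 F525517) (tt N106239 (iv4 D224535)) (tt N122637 (iv5 F533315)) (tt N117293 F525518) (tt N116502 F525519))
theorem Q121278 : ∀ i, i < 121278 → P i := stepQ 121277 Q121277 (allL N121277 (tt N119998 F525525) (tt N119995 F525526) (tt N106259 F525522) (tt N122365 (iv3 F531660)) (tt N119032 F525527) (tt N106258 (iv5 D224536)) (tt N107147 F525523) (tt N119997 F525524))
theorem Q121279 : ∀ i, i < 121279 → P i := stepQ 121278 Q121278 (allL N121278 (tt N119892 F525532) (tt N119891 F525533) (tt N119893 F525528) (tt N109976 F525529) (tt N106285 (iv4 D224537)) (tt N122600 (iv5 F533090)) (tt N106594 F525530) (tt N110676 F525531))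
theorem Q121280 : ∀ i, i < 121280 → P i := stepQ 121279 Q121279 (allL N121279 (tt N121292 (iv1 F525598)) (tt N121225 F525535) (tt N121289 F525582) (tt N120020 F525536) (tt N106286 (iv4 D224538)) (tt N122007 (iv5 F529599)) (tt N119894 F525534) (tt N121290 (iv7 F525585)))
theorem Q121281 : ∀ i, i < 121281 → P i := stepQ 121280 Q121280 (allL N121280 (tt N121854 (iv1 F528720)) (tt N106287 (iv0 D224539)) (tt N121626 (iv2 F527411)) (tt N122694 (iv3 F533651)) (tt N106343 F525537) (tt N121370 (iv5 F526000)) (tt N122569 (iv6 F532899)) (tt N122694 (iv7 F533655)))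
theorem Q121282 : ∀ i, i < 121282 → P i := stepQ 121281 Q121281 (allL N121281 (tt N106287 (iv1 D224540)) (tt N121854 (iv0 F528718)) (tt N122694 F533653) (tt N122726 D225985) (tt N106344 F525538) (tt N121371 F526005) (tt N110807 (iv6 F525539)) (tt N121626 (iv7 F527413)))
theorem Q121283 : ∀ i, i < 121283 → P i := stepQ 121282 Q121282 (allL N121282 (tt N106341 (iv1 F525545)) (tt N106321 (iv0 D224541)) (tt N106338 (iv2 F525544)) (tt N110016 F525542) (tt N106668 F525541) (tt N117796 F525540) (tt N113132 F525543) (tt N106339 F525546))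
theorem Q121284 : ∀ i, i < 121284 → P i := stepQ 121283 Q121283 (allL N121283 (tt N106324 (iv1 D224542)) (tt N106326 F525547) (tt N114277 F525553) (tt N116515 (iv3 F525551)) (tt N107258 F525550) (tt N119267 F525549) (tt N108835 (iv6 F525552)) (tt N107257 F525548))
theorem Q121285 : ∀ i, i < 121285 → P i := stepQ 121284 Q121284 (allL N121284 (tt N113447 (iv1 F525558)) (tt N109885 F525559) (tt N113463 F525554) (tt N106346 F525555) (tt N116392 F525556) (tt N106331 F525557) (tt N122413 F531960) (tt N106330 (iv7 D224543)))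
theorem Q121286 : ∀ i, i < 121286 → P i := stepQ 121285 Q121285 (allL N121285 (tt N106337 (iv1 F525563)) (tt N106333 (iv0 D224544)) (tt N106641 (iv2 F525562)) (tt N110401 F525561) (tt N121836 (iv4 F528610)) (tt N106640 F525560) (tt N110400 (iv6 F525565)) (tt N119781 F525564))
theorem Q121287 : ∀ i, i < 121287 → P i := stepQ 121286 Q121286 (allL N121286 (tt N106667 F525570) (tt N106666 F525571) (tt N106668 F525566) (tt N118644 F525567) (tt N106338 (iv4 D224545)) (tt N106661 F525569) (tt N121799 (iv6 F528392)) (tt N106665 F525568))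
theorem Q121288 : ∀ i, i < 121288 → P i := stepQ 121287 Q121287 (allL N121287 (tt N112562 F525576) (tt N122204 (iv0 F530759)) (tt N116670 F525572) (tt N106340 (iv3 D224546)) (tt N106347 F525573) (tt N116669 F525574) (tt N116670 F525575) (tt N121877 (iv7 F528859)))
theorem Q121289 : ∀ i, i < 121289 → P i := stepQ 121288 Q121288 (allL N121288 (tt N114892 F525579) (tt N109203 (iv0 F525580)) (tt N121945 (iv2 F529221)) (tt N106350 F525577) (tt N121371 (iv4 F526004)) (tt N116335 F525578) (tt N106341 (iv6 D224547)) (tt N122413 (iv7 F531956)))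
theorem Q121290 : ∀ i, i < 121290 → P i := stepQ 121289 Q121289 (allL N121289 (tt N121378 (iv1 F526040)) (tt N106345 (iv0 D224548)) (tt N121279 (iv2 F525582)) (tt N120196 (iv3 F525583)) (tt N119513 F525581) (tt N122727 D225986) (tt N121423 F526282) (tt N119615 (iv7 F525584)))
theorem Q121291 : ∀ i, i < 121291 → P i := stepQ 121290 Q121290 (allL N121290 (tt N106345 (iv1 D224549)) (tt N121378 (iv0 F526039)) (tt N119615 F525588) (tt N121957 (iv3 F529290)) (tt N119614 F525586) (tt N119774 F525589) (tt N110668 (iv6 F525587)) (tt N121279 F525585))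
theorem Q121292 : ∀ i, i < 121292 → P i := stepQ 121291 Q121291 (allL N121291 (tt N121859 (iv1 F528753)) (tt N120196 (iv0 F525594)) (tt N106347 F525590) (tt N106345 (iv3 D224550)) (tt N116670 F525591) (tt N112622 F525592) (tt N106347 F525593) (tt N121861 (iv7 F528764)))
theorem Q121293 : ∀ i, i < 121293 → P i := stepQ 121292 Q121292 (allL N121292 (tt N119615 (iv1 F525597)) (tt N121279 F525598) (tt N121378 F526041) (tt N121861 F528765) (tt N106346 F525595) (tt N117404 F525596) (tt N121364 (iv6 F525976)) (tt N106345 (iv7 D224551)))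
theorem Q121294 : ∀ i, i < 121294 → P i := stepQ 121293 Q121293 (allL N121293 (tt N120196 (iv1 F525601)) (tt N121859 (iv0 F528752)) (tt N121861 F528762) (tt N106349 F525599) (tt N121877 (iv4 F528858)) (tt N112624 F525600) (tt N122723 (iv6 F533842)) (tt N106347 (iv7 D224552)))
theorem Q121295 : ∀ i, i < 121295 → P i := stepQ 121294 Q121294 (allL N121294 (tt N122728 D225987) (tt N119805 (iv0 F525604)) (tt N122693 (iv2 F533642)) (tt N121114 F525602) (tt N107662 F525603) (tt N122198 (iv5 F530724)) (tt N106348 (iv6 D224553)) (tt N122550 (iv7 F532792)))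
theorem Q121296 : ∀ i, i < 121296 → P i := stepQ 121295 Q121295 (allL N121295 (tt N120236 F525607) (tt N121957 (iv0 F529294)) (tt N121379 (iv2 F526042)) (tt N122723 (iv3 F533841)) (tt N106350 F525605) (tt N121239 F525606) (tt N106349 (iv6 D224554)) (tt N121364 (iv7 F525977)))
theorem Q121297 : ∀ i, i < 121297 → P i := stepQ 121296 Q121296 (allL N121296 (tt N122593 (iv1 F533051)) (tt N106357 (iv0 D224555)) (tt N114673 (iv2 F525612)) (tt N119636 F525610) (tt N118190 F525609) (tt N119066 F525608) (tt N114672 F525611) (tt N122594 (iv7 F533058)))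
theorem Q121298 : ∀ i, i < 121298 → P i := stepQ 121297 Q121297 (allL N121297 (tt N106357 (iv1 D224556)) (tt N122593 (iv0 F533050)) (tt N122594 F533056) (tt N114675 (iv3 F525614)) (tt N121953 (iv4 F529268)) (tt N121756 (iv5 F528126)) (tt N121952 (iv6 F529266)) (tt N114673 F525613))
theorem Q121299 : ∀ i, i < 121299 → P i := stepQ 121298 Q121298 (allL N121298 (tt N121768 (iv1 F528203)) (tt N116401 (iv0 F525620)) (tt N115084 F525615) (tt N106370 (iv3 D224557)) (tt N120957 F525616) (tt N116224 F525617) (tt N109859 F525618) (tt N106385 F525619))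
theorem Q121300 : ∀ i, i < 121300 → P i := stepQ 121299 Q121299 (allL N121299 (tt N112923 (iv1 F525626)) (tt N107465 (iv0 F525625)) (tt N106377 F525621) (tt N109881 F525622) (tt N117194 F525623) (tt N122275 (iv5 F531116)) (tt N106375 (iv6 D224558)) (tt N116732 F525624))
theorem Q121301 : ∀ i, i < 121301 → P i := stepQ 121300 Q121300 (allL N121300 (tt N116732 (iv1 F525631)) (tt N106377 (iv0 D224559)) (tt N112923 (iv2 F525630)) (tt N107473 F525629) (tt N115068 F525628) (tt N112922 F525627) (tt N117401 (iv6 F525633)) (tt N107465 F525632))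
theorem Q121302 : ∀ i, i < 121302 → P i := stepQ 121301 Q121301 (allL N121301 (tt N113939 F525637) (tt N113937 F525638) (tt N122275 (iv2 F531120)) (tt N106380 F525634) (tt N114023 F525635) (tt N106377 (iv5 D224560)) (tt N122210 (iv6 F530798)) (tt N116294 F525636))
theorem Q121303 : ∀ i, i < 121303 → P i := stepQ 121302 Q121302 (allL N121302 (tt N115084 (iv1 F525644)) (tt N106385 (iv0 D224561)) (tt N116401 (iv2 F525643)) (tt N106417 F525641) (tt N120377 F525640) (tt N107044 F525639) (tt N116399 F525642) (tt N121768 (iv7 F528201)))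
theorem Q121304 : ∀ i, i < 121304 → P i := stepQ 121303 Q121303 (allL N121303 (tt N112894 F525650) (tt N112979 (iv0 F525651)) (tt N112977 F525645) (tt N114058 F525646) (tt N114065 F525647) (tt N113204 F525648) (tt N106396 (iv6 D224562)) (tt N112978 F525649))
theorem Q121305 : ∀ i, i < 121305 → P i := stepQ 121304 Q121304 (allL N121304 (tt N106408 (iv1 F525655)) (tt N106405 (iv0 D224563)) (tt N114836 (iv2 F525654)) (tt N122729 D225988) (tt N114832 F525653) (tt N116908 F525652) (tt N113538 (iv6 F525657)) (tt N116907 F525656))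
theorem Q121306 : ∀ i, i < 121306 → P i := stepQ 121305 Q121305 (allL N121305 (tt N112364 (iv1 F525663)) (tt N112365 F525664) (tt N119552 F525658) (tt N108395 F525659) (tt N106434 F525660) (tt N119550 F525661) (tt N112164 F525662) (tt N106433 (iv7 D224564)))
theorem Q121307 : ∀ i, i < 121307 → P i := stepQ 121306 Q121306 (allL N121306 (tt N122654 (iv1 F533420)) (tt N109577 F525668) (tt N110120 F525665) (tt N106437 F525666) (tt N122719 (iv4 F533816)) (tt N106436 (iv5 D224565)) (tt N121813 (iv6 F528472)) (tt N110119 F525667))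
theorem Q121308 : ∀ i, i < 121308 → P i := stepQ 121307 Q121307 (allL N121307 (tt N120159 F525672) (tt N108760 (iv0 F525673)) (tt N110458 F525669) (tt N121813 (iv3 F528471)) (tt N108771 F525670) (tt N110457 F525671) (tt N106437 (iv6 D224566)) (tt N118538 F525674))
theorem Q121309 : ∀ i, i < 121309 → P i := stepQ 121308 Q121308 (allL N121308 (tt N117118 F525680) (tt N117123 (iv0 F525681)) (tt N117121 F525675) (tt N106442 F525676) (tt N119709 F525677) (tt N116060 F525678) (tt N106440 (iv6 D224567)) (tt N117120 F525679))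
theorem Q121310 : ∀ i, i < 121310 → P i := stepQ 121309 Q121309 (allL N121309 (tt N118854 F525685) (tt N118853 F525686) (tt N106453 F525682) (tt N106456 F525683) (tt N121901 (iv4 F528971)) (tt N106452 (iv5 D224568)) (tt N106453 F525684) (tt N121737 (iv7 F528041)))
theorem Q121311 : ∀ i, i < 121311 → P i := stepQ 121310 Q121310 (allL N121310 (tt N121737 (iv1 F528042)) (tt N106453 (iv0 D224569)) (tt N118854 (iv2 F525689)) (tt N120149 F525688) (tt N122221 (iv4 F530856)) (tt N118850 F525687) (tt N110119 (iv6 F525690)) (tt N118853 (iv7 F525691)))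
theorem Q121312 : ∀ i, i < 121312 → P i := stepQ 121311 Q121311 (allL N121311 (tt N106453 (iv1 D224570)) (tt N121737 F528043) (tt N118853 (iv2 F525696)) (tt N113272 (iv3 F525694)) (tt N122222 (iv4 F530860)) (tt N113271 F525693) (tt N120116 F525695) (tt N118854 F525692))
theorem Q121313 : ∀ i, i < 121313 → P i := stepQ 121312 Q121312 (allL N121312 (tt N118578 (iv1 F525699)) (tt N118577 F525700) (tt N118580 F525697) (tt N121737 (iv3 F528039)) (tt N121810 (iv4 F528454)) (tt N106465 F525698) (tt N121742 (iv6 F528055)) (tt N106456 (iv7 D224571)))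
theorem Q121314 : ∀ i, i < 121314 → P i := stepQ 121313 Q121313 (allL N121313 (tt N107349 F525706) (tt N107343 (iv0 F525707)) (tt N107346 F525701) (tt N120273 F525702) (tt N107436 F525703) (tt N118172 F525704) (tt N106458 (iv6 D224572)) (tt N107347 F525705))
theorem Q121315 : ∀ i, i < 121315 → P i := stepQ 121314 Q121314 (allL N121314 (tt N118603 F525712) (tt N121680 (iv0 F527707)) (tt N118574 F525708) (tt N116633 F525709) (tt N121968 (iv4 F529361)) (tt N120727 F525710) (tt N106463 (iv6 D224573)) (tt N119844 F525711))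
theorem Q121316 : ∀ i, i < 121316 → P i := stepQ 121315 Q121315 (allL N121315 (tt N119722 F525716) (tt N108767 (iv0 F525718)) (tt N118575 F525713) (tt N121743 (iv3 F528058)) (tt N120122 F525717) (tt N106464 (iv5 D224574)) (tt N116061 F525714) (tt N118573 F525715))
theorem Q121317 : ∀ i, i < 121317 → P i := stepQ 121316 Q121316 (allL N121316 (tt N122502 (iv1 F532515)) (tt N119639 (iv0 F525723)) (tt N119479 F525719) (tt N106475 (iv3 D224575)) (tt N118663 F525720) (tt N122177 (iv5 F530603)) (tt N112747 F525721) (tt N120896 F525722))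
theorem Q121318 : ∀ i, i < 121318 → P i := stepQ 121317 Q121317 (allL N121317 (tt N121222 (iv1 F525730)) (tt N115080 F525728) (tt N106479 (iv2 D224576)) (tt N117602 F525724) (tt N120893 F525729) (tt N116486 F525725) (tt N120892 F525726) (tt N121218 F525727))
theorem Q121319 : ∀ i, i < 121319 → P i := stepQ 121318 Q121318 (allL N121318 (tt N116910 F525735) (tt N121348 (iv0 F525899)) (tt N120893 F525731) (tt N116913 F525736) (tt N106479 (iv4 D224577)) (tt N106848 F525732) (tt N116912 F525733) (tt N120828 F525734))
theorem Q121320 : ∀ i, i < 121320 → P i := stepQ 121319 Q121319 (allL N121319 (tt N114800 F525742) (tt N119660 (iv0 F525743)) (tt N119482 F525737) (tt N106480 (iv3 D224578)) (tt N116913 F525738) (tt N119246 F525739) (tt N114796 F525740) (tt N120832 F525741))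
theorem Q121321 : ∀ i, i < 121321 → P i := stepQ 121320 Q121320 (allL N121320 (tt N111144 (iv1 F525749)) (tt N113079 F525750) (tt N118625 F525744) (tt N120890 F525745) (tt N119073 F525746) (tt N121166 F525747) (tt N107778 F525748) (tt N106481 (iv7 D224579)))
theorem Q121322 : ∀ i, i < 121322 → P i := stepQ 121321 Q121321 (allL N121321 (tt N112370 (iv1 F525753)) (tt N106490 (iv0 D224580)) (tt N114038 (iv2 F525752)) (tt N106501 F525751) (tt N122571 (iv4 F532912)) (tt N122549 (iv5 F532786)) (tt N121192 (iv6 F525795)) (tt N117270 F525754))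
theorem Q121323 : ∀ i, i < 121323 → P i := stepQ 121322 Q121322 (allL N121322 (tt N116876 F525759) (tt N114049 F525758) (tt N122595 (iv2 F533065)) (tt N106491 F525755) (tt N122618 (iv4 F533204)) (tt N106490 (iv5 D224581)) (tt N119604 F525756) (tt N113730 F525757))
theorem Q121324 : ∀ i, i < 121324 → P i := stepQ 121323 Q121323 (allL N121323 (tt N122549 (iv1 F532784)) (tt N122277 (iv0 F531130)) (tt N122166 (iv2 F530534)) (tt N106494 (iv3 D224582)) (tt N108581 F525760) (tt N117331 F525761) (tt N122430 (iv6 F532054)) (tt N121440 (iv7 F526389)))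
theorem Q121325 : ∀ i, i < 121325 → P i := stepQ 121324 Q121324 (allL N121324 (tt N113555 F525767) (tt N121109 (iv0 F525768)) (tt N113011 F525762) (tt N106497 F525763) (tt N110172 F525766) (tt N106496 (iv5 D224583)) (tt N113010 F525764) (tt N116158 F525765))
theorem Q121326 : ∀ i, i < 121326 → P i := stepQ 121325 Q121325 (allL N121325 (tt N116759 F525773) (tt N122333 (iv0 F531475)) (tt N113778 F525769) (tt N106508 (iv3 D224584)) (tt N117221 F525770) (tt N119510 F525771) (tt N111299 F525772) (tt N121449 (iv7 F526439)))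
theorem Q121327 : ∀ i, i < 121327 → P i := stepQ 121326 Q121326 (allL N121326 (tt N119814 F525779) (tt N119815 F525780) (tt N119812 F525774) (tt N120433 F525775) (tt N106518 (iv4 D224585)) (tt N117227 F525778) (tt N109997 F525776) (tt N119813 F525777))
theorem Q121328 : ∀ i, i < 121328 → P i := stepQ 121327 Q121327 (allL N121327 (tt N118402 F525786) (tt N118405 F525787) (tt N106526 F525781) (tt N118138 F525782) (tt N106519 (iv4 D224586)) (tt N119172 F525785) (tt N118137 F525783) (tt N106524 F525784))
theorem Q121329 : ∀ i, i < 121329 → P i := stepQ 121328 Q121328 (allL N121328 (tt N106526 (iv1 F525791)) (tt N106524 (iv0 D224587)) (tt N118405 (iv2 F525790)) (tt N118796 F525789) (tt N121192 F525793) (tt N120487 F525788) (tt N122571 F532914) (tt N118402 F525792))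
theorem Q121330 : ∀ i, i < 121330 → P i := stepQ 121329 Q121329 (allL N121329 (tt N108877 F525802) (tt N108866 F525803) (tt N108874 F525797) (tt N108978 F525798) (tt N106525 (iv4 D224588)) (tt N117308 F525799) (tt N116325 F525800) (tt N108875 F525801))
theorem Q121331 : ∀ i, i < 121331 → P i := stepQ 121330 Q121330 (allL N121330 (tt N120774 F525807) (tt N111388 F525808) (tt N121820 F528513) (tt N106533 F525804) (tt N114160 F525806) (tt N106532 (iv5 D224589)) (tt N119220 F525805) (tt N121411 (iv7 F526211)))
theorem Q121332 : ∀ i, i < 121332 → P i := stepQ 121331 Q121331 (allL N121331 (tt N106540 (iv1 D224590)) (tt N106547 F525809) (tt N106545 F525814) (tt N120372 (iv3 F525812)) (tt N114372 F525811) (tt N109710 F525815) (tt N120111 (iv6 F525813)) (tt N106544 F525810))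
theorem Q121333 : ∀ i, i < 121333 → P i := stepQ 121332 Q121332 (allL N121332 (tt N108422 F525821) (tt N121958 (iv0 F529300)) (tt N106546 F525816) (tt N118515 F525817) (tt N109670 F525818) (tt N106540 (iv5 D224591)) (tt N106541 F525819) (tt N120355 F525820))
theorem Q121334 : ∀ i, i < 121334 → P i := stepQ 121333 Q121333 (allL N121333 (tt N108403 F525827) (tt N121910 (iv0 F529015)) (tt N106555 F525822) (tt N118525 F525823) (tt N106541 (iv4 D224592)) (tt N110862 F525824) (tt N109670 F525825) (tt N119973 F525826))
theorem Q121335 : ∀ i, i < 121335 → P i := stepQ 121334 Q121334 (allL N121334 (tt N117725 F525832) (tt N120356 F525833) (tt N121889 (iv2 F528923)) (tt N113460 F525828) (tt N109711 F525829) (tt N106544 (iv5 D224593)) (tt N112889 F525830) (tt N109710 F525831))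
theorem Q121336 : ∀ i, i < 121336 → P i := stepQ 121335 Q121335 (allL N121335 (tt N120355 (iv1 F525837)) (tt N106546 (iv0 D224594)) (tt N108422 (iv2 F525838)) (tt N121131 F525835) (tt N121686 (iv4 F527742)) (tt N121130 F525834) (tt N108384 F525836) (tt N121958 (iv7 F529299)))
theorem Q121337 : ∀ i, i < 121337 → P i := stepQ 121336 Q121336 (allL N121336 (tt N106546 (iv1 D224595)) (tt N120355 F525839) (tt N121958 (iv2 F529295)) (tt N114704 (iv3 F525842)) (tt N121691 (iv4 F527771)) (tt N116315 F525841) (tt N116318 F525843) (tt N108422 F525840))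
theorem Q121338 : ∀ i, i < 121338 → P i := stepQ 121337 Q121337 (allL N121337 (tt N106551 (iv1 F525848)) (tt N106548 (iv0 D224596)) (tt N112167 (iv2 F525847)) (tt N117236 F525845) (tt N114036 F525844) (tt N121690 (iv5 F527767)) (tt N117234 F525846) (tt N121492 (iv7 F526672)))
theorem Q121339 : ∀ i, i < 121339 → P i := stepQ 121338 Q121338 (allL N121338 (tt N122373 (iv1 F531717)) (tt N112943 F525851) (tt N121496 (iv2 F526689)) (tt N112712 F525849) (tt N122377 (iv4 F531733)) (tt N106548 (iv5 D224597)) (tt N109706 F525850) (tt N121579 (iv7 F527135)))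
theorem Q121340 : ∀ i, i < 121340 → P i := stepQ 121339 Q121339 (allL N121339 (tt N121581 F527149) (tt N116815 F525854) (tt N121690 (iv2 F527763)) (tt N110157 F525852) (tt N106549 (iv4 D224598)) (tt N112167 (iv5 F525855)) (tt N112965 F525856) (tt N110156 F525853))
theorem Q121341 : ∀ i, i < 121341 → P i := stepQ 121340 Q121340 (allL N121340 (tt N122333 F531476) (tt N116759 (iv0 F525861)) (tt N121449 (iv2 F526435)) (tt N111284 F525857) (tt N112965 F525858) (tt N111283 F525859) (tt N106549 (iv6 D224599)) (tt N113778 F525860))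
theorem Q121342 : ∀ i, i < 121342 → P i := stepQ 121341 Q121341 (allL N121341 (tt N112943 F525862) (tt N122373 F531716) (tt N121579 (iv2 F527132)) (tt N121494 (iv3 F526679)) (tt N122378 (iv4 F531740)) (tt N106551 (iv5 D224600)) (tt N122415 (iv6 F531970)) (tt N121496 (iv7 F526692)))
theorem Q121343 : ∀ i, i < 121343 → P i := stepQ 121342 Q121342 (allL N121342 (tt N116815 F525866) (tt N121581 (iv0 F527148)) (tt N110156 F525863) (tt N116133 F525864) (tt N106552 (iv4 D224601)) (tt N121492 (iv5 F526671)) (tt N110177 F525865) (tt N121690 (iv7 F527766)))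
theorem Q121344 : ∀ i, i < 121344 → P i := stepQ 121343 Q121343 (allL N121343 (tt N121579 (iv1 F527136)) (tt N121496 (iv0 F526694)) (tt N122373 (iv2 F531711)) (tt N112944 F525867) (tt N106553 (iv4 D224602)) (tt N113303 F525870) (tt N117055 F525868) (tt N112943 F525869))
theorem Q121345 : ∀ i, i < 121345 → P i := stepQ 121344 Q121344 (allL N121344 (tt N119973 (iv1 F525875)) (tt N106555 (iv0 D224603)) (tt N108403 (iv2 F525874)) (tt N113556 F525872) (tt N121526 (iv4 F526856)) (tt N107040 F525871) (tt N107043 F525873) (tt N121910 (iv7 F529014)))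
theorem Q121346 : ∀ i, i < 121346 → P i := stepQ 121345 Q121345 (allL N121345 (tt N119955 F525881) (tt N110883 F525882) (tt N116699 F525876) (tt N106560 F525877) (tt N117222 F525878) (tt N107284 F525879) (tt N106559 (iv6 D224604)) (tt N116134 F525880))
theorem Q121347 : ∀ i, i < 121347 → P i := stepQ 121346 Q121346 (allL N121346 (tt N106566 (iv1 F525888)) (tt N106565 F525889) (tt N106568 F525883) (tt N111368 F525884) (tt N117829 F525885) (tt N120062 F525886) (tt N112757 F525887) (tt N106562 (iv7 D224605)))
theorem Q121348 : ∀ i, i < 121348 → P i := stepQ 121347 Q121347 (allL N121347 (tt N121562 (iv1 F527050)) (tt N121031 F525894) (tt N121554 (iv2 F527012)) (tt N118768 F525890) (tt N106565 (iv4 D224606)) (tt N116263 F525893) (tt N116199 F525891) (tt N117898 F525892))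
theorem Q121349 : ∀ i, i < 121349 → P i := stepQ 121348 Q121348 (allL N121348 (tt N121318 F525899) (tt N119674 F525900) (tt N121151 F525895) (tt N116891 F525896) (tt N106567 (iv4 D224607)) (tt N116260 F525898) (tt N119685 F525897) (tt N122056 (iv7 F529895)))
theorem Q121350 : ∀ i, i < 121350 → P i := stepQ 121349 Q121349 (allL N121349 (tt N110690 (iv1 F525906)) (tt N106572 (iv0 D224608)) (tt N119765 (iv2 F525905)) (tt N108536 F525903) (tt N120525 F525902) (tt N112587 F525901) (tt N110660 F525904) (tt N119766 F525907))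
theorem Q121351 : ∀ i, i < 121351 → P i := stepQ 121350 Q121350 (allL N121350 (tt N113386 F525913) (tt N113383 F525914) (tt N117372 F525908) (tt N110522 F525909) (tt N112548 F525910) (tt N106572 (iv5 D224609)) (tt N120228 F525911) (tt N112545 F525912))
theorem Q121352 : ∀ i, i < 121352 → P i := stepQ 121351 Q121351 (allL N121351 (tt N106596 F525918) (tt N121931 (iv0 F529138)) (tt N121766 (iv2 F528184)) (tt N121149 F525915) (tt N107340 F525916) (tt N106590 (iv5 D224610)) (tt N107618 F525917) (tt N121726 (iv7 F527981)))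
theorem Q121353 : ∀ i, i < 121353 → P i := stepQ 121352 Q121352 (allL N121352 (tt N111203 (iv1 F525923)) (tt N122698 (iv0 F533681)) (tt N120233 F525919) (tt N106592 F525920) (tt N107614 F525921) (tt N116742 F525922) (tt N106591 (iv6 D224611)) (tt N121635 (iv7 F527462)))
theorem Q121354 : ∀ i, i < 121354 → P i := stepQ 121353 Q121353 (allL N121353 (tt N121375 F526024) (tt N120386 (iv0 F525929)) (tt N119878 F525924) (tt N106597 (iv3 D224612)) (tt N106637 F525925) (tt N109921 F525926) (tt N109525 F525927) (tt N120019 F525928))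
theorem Q121355 : ∀ i, i < 121355 → P i := stepQ 121354 Q121354 (allL N121354 (tt N119815 F525935) (tt N119814 F525936) (tt N119813 F525930) (tt N110752 F525931) (tt N106601 (iv4 D224613)) (tt N117226 F525932) (tt N110760 F525933) (tt N119812 F525934))
theorem Q121356 : ∀ i, i < 121356 → P i := stepQ 121355 Q121355 (allL N121355 (tt N106604 (iv1 D224614)) (tt N120235 F525937) (tt N120231 F525942) (tt N119774 (iv3 F525940)) (tt N120168 F525939) (tt N121957 (iv5 F529292)) (tt N110566 (iv6 F525941)) (tt N117929 F525938))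
theorem Q121357 : ∀ i, i < 121357 → P i := stepQ 121356 Q121356 (allL N121356 (tt N119803 F525945) (tt N119803 (iv0 F525946)) (tt N122722 (iv2 F533833)) (tt N106604 (iv3 D224615)) (tt N106607 F525943) (tt N121426 (iv5 F526299)) (tt N110689 F525944) (tt N122722 (iv7 F533837)))
theorem Q121358 : ∀ i, i < 121358 → P i := stepQ 121357 Q121357 (allL N121357 (tt N106607 (iv1 F525947)) (tt N106607 (iv0 D224616)) (tt N122723 F533844) (tt N121364 (iv3 F525975)) (tt N122563 (iv4 F532871)) (tt N121363 F525974) (tt N121861 (iv6 F528766)) (tt N122723 F533845))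
theorem Q121359 : ∀ i, i < 121359 → P i := stepQ 121358 Q121358 (allL N121358 (tt N122722 F533839) (tt N122722 (iv0 F533838)) (tt N119803 F525948) (tt N106608 F525949) (tt N122730 D225989) (tt N106607 (iv5 D224617)) (tt N106670 F525950) (tt N119803 F525951))
theorem Q121360 : ∀ i, i < 121360 → P i := stepQ 121359 Q121359 (allL N121359 (tt N107614 F525955) (tt N119591 (iv0 F525956)) (tt N120238 F525952) (tt N122414 (iv3 F531963)) (tt N117210 F525953) (tt N116893 F525954) (tt N106613 (iv6 D224618)) (tt N120237 (iv7 F525957)))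
theorem Q121361 : ∀ i, i < 121361 → P i := stepQ 121360 Q121360 (allL N121360 (tt N120191 F525960) (tt N112570 F525961) (tt N106618 F525958) (tt N122724 (iv3 F533847)) (tt N106617 (iv4 D224619)) (tt N122705 (iv5 F533721)) (tt N113358 F525959) (tt N122724 (iv7 F533850)))
theorem Q121362 : ∀ i, i < 121362 → P i := stepQ 121361 Q121361 (allL N121361 (tt N122724 (iv1 F533852)) (tt N106618 (iv0 D224620)) (tt N120191 (iv2 F525963)) (tt N112574 (iv3 F525964)) (tt N120189 F525962) (tt N121428 (iv5 F526310)) (tt N121938 (iv6 F529179)) (tt N112570 (iv7 F525965)))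
theorem Q121363 : ∀ i, i < 121363 → P i := stepQ 121362 Q121362 (allL N121362 (tt N106618 (iv1 D224621)) (tt N122724 (iv0 F533851)) (tt N112570 F525971) (tt N110718 (iv3 F525969)) (tt N119072 (iv4 F525968)) (tt N119890 F525967) (tt N109978 (iv6 F525970)) (tt N120191 F525966))
theorem Q121364 : ∀ i, i < 121364 → P i := stepQ 121363 Q121363 (allL N121363 (tt N121995 F529528) (tt N121995 (iv0 F529527)) (tt N122308 (iv2 F531322)) (tt N106618 (iv3 D224622)) (tt N106621 F525972) (tt N121357 (iv5 F525974)) (tt N117258 F525973) (tt N122308 (iv7 F531325)))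
theorem Q121365 : ∀ i, i < 121365 → P i := stepQ 121364 Q121364 (allL N121364 (tt N119887 F525979) (tt N120020 F525980) (tt N122705 (iv2 F533719)) (tt N121357 F525975) (tt N121166 F525978) (tt N106618 (iv5 D224623)) (tt N121292 F525976) (tt N121295 F525977))
theorem Q121366 : ∀ i, i < 121366 → P i := stepQ 121365 Q121365 (allL N121365 (tt N109976 F525983) (tt N112573 (iv0 F525984)) (tt N121487 (iv2 F526641)) (tt N106620 (iv3 D224624)) (tt N121886 (iv4 F528906)) (tt N118777 F525981) (tt N119888 F525982) (tt N121374 (iv7 F526016)))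
theorem Q121367 : ∀ i, i < 121367 → P i := stepQ 121366 Q121366 (allL N121366 (tt N106621 (iv1 F525986)) (tt N106621 (iv0 D224625)) (tt N121426 (iv2 F526297)) (tt N121427 (iv3 F526304)) (tt N122731 D225990) (tt N122722 (iv5 F533835)) (tt N119879 F525985) (tt N121426 (iv7 F526300)))
theorem Q121368 : ∀ i, i < 121368 → P i := stepQ 121367 Q121367 (allL N121367 (tt N113980 F525992) (tt N113979 F525993) (tt N113981 F525987) (tt N113993 F525988) (tt N107373 F525989) (tt N106623 (iv5 D224626)) (tt N116751 F525990) (tt N113861 F525991))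
theorem Q121369 : ∀ i, i < 121369 → P i := stepQ 121368 Q121368 (allL N121368 (tt N116627 (iv1 F525996)) (tt N121878 (iv0 F528864)) (tt N122562 (iv2 F532864)) (tt N119821 F525994) (tt N106626 (iv4 D224627)) (tt N116668 F525995) (tt N122296 (iv6 F531253)) (tt N121837 (iv7 F528616)))
theorem Q121370 : ∀ i, i < 121370 → P i := stepQ 121369 Q121369 (allL N121369 (tt N121998 (iv1 F529542)) (tt N121997 F529539) (tt N106631 F525997) (tt N109839 F525998) (tt N121791 (iv4 F528338)) (tt N106630 (iv5 D224628)) (tt N121534 (iv6 F526906)) (tt N110018 F525999))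
theorem Q121371 : ∀ i, i < 121371 → P i := stepQ 121370 Q121370 (allL N121370 (tt N110018 (iv1 F526001)) (tt N106631 (iv0 D224629)) (tt N121998 (iv2 F529546)) (tt N121997 (iv3 F529537)) (tt N121775 (iv4 F528247)) (tt N121280 F526000) (tt N116945 (iv6 F526002)) (tt N121997 F529541))
theorem Q121372 : ∀ i, i < 121372 → P i := stepQ 121371 Q121371 (allL N121371 (tt N106631 (iv1 D224630)) (tt N110018 F526003) (tt N121997 F529540) (tt N122732 D225991) (tt N121288 F526004) (tt N121281 (iv5 F526005)) (tt N109989 (iv6 F526006)) (tt N121998 (iv7 F529543)))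
theorem Q121373 : ∀ i, i < 121373 → P i := stepQ 121372 Q121372 (allL N121372 (tt N120386 F526010) (tt N121375 (iv0 F526022)) (tt N120019 F526007) (tt N119875 F526011) (tt N106636 (iv4 D224631)) (tt N117278 F526009) (tt N121428 (iv6 F526312)) (tt N119878 F526008))
theorem Q121374 : ∀ i, i < 121374 → P i := stepQ 121373 Q121373 (allL N121373 (tt N117405 F526015) (tt N121932 F529143) (tt N110400 F526012) (tt N106643 F526013) (tt N121879 (iv4 F528868)) (tt N119979 F526014) (tt N106641 (iv6 D224632)) (tt N121933 (iv7 F529149)))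
theorem Q121375 : ∀ i, i < 121375 → P i := stepQ 121374 Q121374 (allL N121374 (tt N121834 (iv1 F528600)) (tt N121872 (iv0 F528831)) (tt N121874 F528842) (tt N106642 (iv3 D224633)) (tt N121878 (iv4 F528862)) (tt N121586 (iv5 F527174)) (tt N116543 (iv6 F526017)) (tt N121365 F526016))
theorem Q121376 : ∀ i, i < 121376 → P i := stepQ 121375 Q121375 (allL N121375 (tt N121372 F526022) (tt N121353 (iv0 F526024)) (tt N109507 F526018) (tt N116543 F526019) (tt N106643 F526020) (tt N116542 (iv5 F526023)) (tt N106642 (iv6 D224634)) (tt N109935 F526021))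
theorem Q121377 : ∀ i, i < 121377 → P i := stepQ 121376 Q121376 (allL N121376 (tt N107062 (iv1 F526028)) (tt N106643 (iv0 D224635)) (tt N117167 (iv2 F526027)) (tt N121452 (iv3 F526455)) (tt N122003 (iv4 F529576)) (tt N119013 F526025) (tt N117159 F526026) (tt N109502 F526029))
theorem Q121378 : ∀ i, i < 121378 → P i := stepQ 121377 Q121377 (allL N121377 (tt N119756 F526034) (tt N121174 F526035) (tt N122603 (iv2 F533110)) (tt N120221 F526030) (tt N113388 F526031) (tt N106644 (iv5 D224636)) (tt N113386 F526032) (tt N120434 F526033))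
theorem Q121379 : ∀ i, i < 121379 → P i := stepQ 121378 Q121378 (allL N121378 (tt N121290 F526039) (tt N121289 F526040) (tt N121292 (iv2 F526041)) (tt N106647 (iv3 D224637)) (tt N121226 F526036) (tt N113529 F526037) (tt N122705 (iv6 F533722)) (tt N121225 F526038))
theorem Q121380 : ∀ i, i < 121380 → P i := stepQ 121379 Q121379 (allL N121379 (tt N120020 F526044) (tt N119887 (iv0 F526045)) (tt N121295 F526042) (tt N122705 (iv3 F533720)) (tt N106648 F526043) (tt N122724 (iv5 F533848)) (tt N106647 (iv6 D224638)) (tt N122705 (iv7 F533723)))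
theorem Q121381 : ∀ i, i < 121381 → P i := stepQ 121380 Q121380 (allL N121380 (tt N122725 (iv1 F533858)) (tt N106649 (iv0 D224639)) (tt N121860 (iv2 F528754)) (tt N122730 (iv3 F533883)) (tt N106670 F526046) (tt N117259 F526047) (tt N122730 (iv6 F533884)) (tt N119802 (iv7 F526048)))
theorem Q121382 : ∀ i, i < 121382 → P i := stepQ 121381 Q121381 (allL N121381 (tt N106649 (iv1 D224640)) (tt N122725 F533859) (tt N119802 (iv2 F526052)) (tt N121860 (iv3 F528755)) (tt N119800 F526050) (tt N120459 F526049) (tt N119802 (iv6 F526051)) (tt N121860 (iv7 F528757)))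
theorem Q121383 : ∀ i, i < 121383 → P i := stepQ 121382 Q121382 (allL N121382 (tt N121860 (iv1 F528759)) (tt N119802 F526057) (tt N106649 (iv2 D224641)) (tt N109824 F526053) (tt N121172 F526054) (tt N109836 F526055) (tt N109823 F526056) (tt N122725 (iv7 F533857)))
theorem Q121384 : ∀ i, i < 121384 → P i := stepQ 121383 Q121383 (allL N121383 (tt N106652 (iv1 D224642)) (tt N109824 (iv0 F526064)) (tt N109936 F526062) (tt N119830 (iv3 F526061)) (tt N114776 F526060) (tt N119814 F526059) (tt N119829 F526063) (tt N109937 F526058))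
theorem Q121385 : ∀ i, i < 121385 → P i := stepQ 121384 Q121384 (allL N121384 (tt N109937 (iv1 F526070)) (tt N109936 F526069) (tt N106652 (iv2 D224643)) (tt N122725 (iv3 F533853)) (tt N120093 F526065) (tt N109840 F526066) (tt N119706 F526067) (tt N109824 F526068))
theorem Q121386 : ∀ i, i < 121386 → P i := stepQ 121385 Q121385 (allL N121385 (tt N106656 (iv1 D224644)) (tt N112601 F526071) (tt N120215 F526077) (tt N119730 (iv3 F526075)) (tt N119096 F526073) (tt N113351 F526074) (tt N119095 (iv6 F526076)) (tt N120214 F526072))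
theorem Q121387 : ∀ i, i < 121387 → P i := stepQ 121386 Q121386 (allL N121386 (tt N121488 F526649) (tt N106658 (iv0 D224645)) (tt N109984 (iv2 F526082)) (tt N119736 F526080) (tt N120418 F526079) (tt N119735 F526078) (tt N109980 F526081) (tt N121541 (iv7 F526939)))
theorem Q121388 : ∀ i, i < 121388 → P i := stepQ 121387 Q121387 (allL N121387 (tt N117248 F526087) (tt N110005 F526088) (tt N119773 F526083) (tt N120082 F526084) (tt N106667 (iv4 D224646)) (tt N120081 F526085) (tt N121790 (iv6 F528332)) (tt N119776 F526086))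
theorem Q121389 : ∀ i, i < 121389 → P i := stepQ 121388 Q121388 (allL N121388 (tt N110786 (iv1 F526091)) (tt N121486 (iv0 F526640)) (tt N119774 F526089) (tt N121485 (iv3 F526636)) (tt N121790 (iv4 F528331)) (tt N119615 F526090) (tt N106667 (iv6 D224647)) (tt N122727 (iv7 F533865)))
theorem Q121390 : ∀ i, i < 121390 → P i := stepQ 121389 Q121389 (allL N121389 (tt N120462 F526095) (tt N112553 (iv0 F526096)) (tt N121799 (iv2 F528389)) (tt N106675 F526092) (tt N113132 F526093) (tt N121391 (iv5 F526105)) (tt N106668 (iv6 D224648)) (tt N110722 F526094))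
theorem Q121391 : ∀ i, i < 121391 → P i := stepQ 121390 Q121390 (allL N121390 (tt N110784 F526100) (tt N122205 (iv0 F530766)) (tt N119786 F526097) (tt N110687 (iv3 F526101)) (tt N106673 (iv4 D224649)) (tt N119861 F526099) (tt N118233 F526098) (tt N121993 (iv7 F529512)))
theorem Q121392 : ∀ i, i < 121392 → P i := stepQ 121391 Q121391 (allL N121391 (tt N121999 (iv1 F529547)) (tt N119790 (iv0 F526107)) (tt N121097 F526102) (tt N110722 F526103) (tt N112672 F526104) (tt N121389 F526105) (tt N106674 (iv6 D224650)) (tt N106675 F526106))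
theorem Q121393 : ∀ i, i < 121393 → P i := stepQ 121392 Q121392 (allL N121392 (tt N106675 (iv1 D224651)) (tt N121097 F526108) (tt N121999 (iv2 F529553)) (tt N121862 F528771) (tt N119853 F526111) (tt N121075 F526110) (tt N121993 (iv6 F529511)) (tt N119790 F526109))
theorem Q121394 : ∀ i, i < 121394 → P i := stepQ 121393 Q121393 (allL N121393 (tt N122646 (iv1 F533371)) (tt N121547 (iv0 F526972)) (tt N118563 F526112) (tt N116561 F526113) (tt N122515 (iv4 F532588)) (tt N106680 (iv5 D224652)) (tt N122257 F531246) (tt N118565 F526114))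
theorem Q121395 : ∀ i, i < 121395 → P i := stepQ 121394 Q121394 (allL N121394 (tt N121547 (iv1 F526973)) (tt N122646 (iv0 F533370)) (tt N118565 F526115) (tt N122314 (iv3 F531362)) (tt N121636 (iv4 F527468)) (tt N106681 (iv5 D224653)) (tt N121556 (iv6 F527027)) (tt N118563 F526116))
theorem Q121396 : ∀ i, i < 121396 → P i := stepQ 121395 Q121395 (allL N121395 (tt N106682 (iv1 D224654)) (tt N118568 F526117) (tt N118567 (iv2 F526120)) (tt N122264 (iv3 F531058)) (tt N122328 (iv4 F531448)) (tt N118596 F526119) (tt N122236 F530934) (tt N118566 F526118))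
theorem Q121397 : ∀ i, i < 121397 → P i := stepQ 121396 Q121396 (allL N121396 (tt N118567 (iv1 F526124)) (tt N118566 F526125) (tt N118568 F526121) (tt N110715 F526122) (tt N121928 (iv4 F529114)) (tt N106683 F526123) (tt N122700 (iv6 F533692)) (tt N106682 (iv7 D224655)))
theorem Q121398 : ∀ i, i < 121398 → P i := stepQ 121397 Q121397 (allL N121397 (tt N106687 (iv1 D224656)) (tt N116502 F526126) (tt N117284 F526131) (tt N110716 (iv3 F526129)) (tt N116488 F526128) (tt N121425 (iv5 F526293)) (tt N117437 (iv6 F526130)) (tt N117285 F526127))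
theorem Q121399 : ∀ i, i < 121399 → P i := stepQ 121398 Q121398 (allL N121398 (tt N119880 F526134) (tt N109977 F526135) (tt N122637 (iv2 F533313)) (tt N106688 F526132) (tt N122695 (iv4 F533659)) (tt N106687 (iv5 D224657)) (tt N122637 (iv6 F533316)) (tt N117292 F526133))
theorem Q121400 : ∀ i, i < 121400 → P i := stepQ 121399 Q121399 (allL N121399 (tt N106694 (iv1 D224658)) (tt N106698 F526136) (tt N117355 F526141) (tt N106705 (iv3 F526139)) (tt N106885 F526138) (tt N117363 (iv5 F526142)) (tt N118947 (iv6 F526140)) (tt N116509 F526137))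
theorem Q121401 : ∀ i, i < 121401 → P i := stepQ 121400 Q121400 (allL N121400 (tt N119396 F526148) (tt N119407 F526149) (tt N119404 F526143) (tt N119393 F526144) (tt N106745 F526147) (tt N106694 (iv5 D224659)) (tt N119385 F526145) (tt N119403 F526146))
theorem Q121402 : ∀ i, i < 121402 → P i := stepQ 121401 Q121401 (allL N121401 (tt N119407 F526155) (tt N119396 F526156) (tt N119403 F526150) (tt N119407 F526151) (tt N106744 F526152) (tt N106698 (iv5 D224660)) (tt N119407 F526153) (tt N119404 F526154))
theorem Q121403 : ∀ i, i < 121403 → P i := stepQ 121402 Q121402 (allL N121402 (tt N106699 (iv1 D224661)) (tt N115227 F526157) (tt N120041 F526162) (tt N112409 (iv3 F526160)) (tt N115384 F526163) (tt N115906 F526159) (tt N112408 (iv6 F526161)) (tt N119352 F526158))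
theorem Q121404 : ∀ i, i < 121404 → P i := stepQ 121403 Q121403 (allL N121403 (tt N120988 F526166) (tt N120988 (iv0 F526167)) (tt N122102 (iv2 F530176)) (tt N106701 (iv3 D224662)) (tt N122100 (iv4 F530164)) (tt N119401 F526164) (tt N121049 F526165) (tt N122102 (iv7 F530180)))
theorem Q121405 : ∀ i, i < 121405 → P i := stepQ 121404 Q121404 (allL N121404 (tt N122540 (iv1 F532738)) (tt N122488 (iv0 F532431)) (tt N122596 (iv2 F533072)) (tt N117363 F526168) (tt N106743 F526169) (tt N106705 (iv5 D224663)) (tt N120587 F526170) (tt N122521 (iv7 F532619)))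
theorem Q121406 : ∀ i, i < 121406 → P i := stepQ 121405 Q121405 (allL N121405 (tt N121234 F526176) (tt N120789 (iv0 F526177)) (tt N119400 F526171) (tt N119647 F526172) (tt N106891 F526173) (tt N106873 F526174) (tt N106709 (iv6 D224664)) (tt N119408 F526175))
theorem Q121407 : ∀ i, i < 121407 → P i := stepQ 121406 Q121406 (allL N121406 (tt N121406 F526182) (tt N121406 (iv0 F526182)) (tt N119401 F526178) (tt N106746 (iv3 D224665)) (tt N119392 F526179) (tt N122102 (iv5 F530179)) (tt N119391 F526180) (tt N119401 F526181))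
theorem Q121408 : ∀ i, i < 121408 → P i := stepQ 121407 Q121407 (allL N121407 (tt N116411 (iv1 F526187)) (tt N106774 (iv0 D224666)) (tt N120773 (iv2 F526188)) (tt N111028 F526185) (tt N107119 F526184) (tt N111027 F526183) (tt N107118 F526186) (tt N118789 (iv7 F526189)))
theorem Q121409 : ∀ i, i < 121409 → P i := stepQ 121408 Q121408 (allL N121408 (tt N106774 (iv1 D224667)) (tt N116411 F526190) (tt N118789 F526196) (tt N110937 (iv3 F526194)) (tt N107128 F526193) (tt N118828 F526192) (tt N107439 (iv6 F526195)) (tt N120773 F526191))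
theorem Q121410 : ∀ i, i < 121410 → P i := stepQ 121409 Q121409 (allL N121409 (tt N111707 F526202) (tt N122177 (iv0 F530606)) (tt N115980 F526197) (tt N114801 F526198) (tt N106811 (iv4 D224668)) (tt N114800 F526201) (tt N106814 F526199) (tt N115981 F526200))
theorem Q121411 : ∀ i, i < 121411 → P i := stepQ 121410 Q121410 (allL N121410 (tt N121653 (iv1 F527559)) (tt N122394 (iv0 F531836)) (tt N118965 F526203) (tt N114521 F526204) (tt N114123 F526205) (tt N114219 F526206) (tt N106813 (iv6 D224669)) (tt N117034 F526207))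
theorem Q121412 : ∀ i, i < 121412 → P i := stepQ 121411 Q121411 (allL N121411 (tt N122068 F529973) (tt N109615 (iv0 F526212)) (tt N121647 (iv2 F527522)) (tt N106814 (iv3 D224670)) (tt N111902 F526208) (tt N120781 F526209) (tt N114801 F526210) (tt N121330 F526211))
theorem Q121413 : ∀ i, i < 121413 → P i := stepQ 121412 Q121412 (allL N121412 (tt N106831 (iv1 F526218)) (tt N106830 (iv0 D224671)) (tt N108365 (iv2 F526217)) (tt N107693 F526215) (tt N108134 F526214) (tt N107358 F526213) (tt N114654 F526216) (tt N108364 F526219))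
theorem Q121414 : ∀ i, i < 121414 → P i := stepQ 121413 Q121413 (allL N121413 (tt N106848 (iv1 D224672)) (tt N120636 F526220) (tt N114374 F526225) (tt N120373 (iv3 F526224)) (tt N114379 F526223) (tt N120109 F526222) (tt N122359 (iv6 F531623)) (tt N120827 F526221))
theorem Q121415 : ∀ i, i < 121415 → P i := stepQ 121414 Q121414 (allL N121414 (tt N120134 F526231) (tt N117177 (iv0 F526232)) (tt N120135 F526226) (tt N114383 F526227) (tt N120354 F526228) (tt N119912 F526229) (tt N106852 (iv6 D224673)) (tt N110097 F526230))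
theorem Q121416 : ∀ i, i < 121416 → P i := stepQ 121415 Q121415 (allL N121415 (tt N122102 F530182) (tt N122102 (iv0 F530181)) (tt N120988 F526233) (tt N106867 (iv3 D224674)) (tt N116048 F526234) (tt N122717 (iv5 F533803)) (tt N116047 (iv6 F526236)) (tt N120988 F526235))
theorem Q121417 : ∀ i, i < 121417 → P i := stepQ 121416 Q121416 (allL N121416 (tt N118058 F526240) (tt N115201 (iv0 F526242)) (tt N106876 F526237) (tt N116047 F526238) (tt N106868 F526239) (tt N116047 F526241) (tt N106867 (iv6 D224675)) (tt N122282 (iv7 F531163)))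
theorem Q121418 : ∀ i, i < 121418 → P i := stepQ 121417 Q121417 (allL N121417 (tt N122717 (iv1 F533805)) (tt N122717 (iv0 F533804)) (tt N122717 (iv2 F533799)) (tt N106894 F526243) (tt N122507 (iv4 F532545)) (tt N120988 F526244) (tt N106875 (iv6 D224676)) (tt N122717 (iv7 F533802)))
theorem Q121419 : ∀ i, i < 121419 → P i := stepQ 121418 Q121418 (allL N121418 (tt N115201 (iv1 F526249)) (tt N118058 F526250) (tt N122282 (iv2 F531159)) (tt N119256 F526245) (tt N106878 F526246) (tt N118116 F526247) (tt N119256 F526248) (tt N106876 (iv7 D224677)))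
theorem Q121420 : ∀ i, i < 121420 → P i := stepQ 121419 Q121419 (allL N121419 (tt N111628 F526256) (tt N115897 (iv0 F526257)) (tt N116200 F526251) (tt N116461 F526252) (tt N112350 F526253) (tt N113824 F526254) (tt N106886 (iv6 D224678)) (tt N117106 F526255))
theorem Q121421 : ∀ i, i < 121421 → P i := stepQ 121420 Q121420 (allL N121420 (tt N121439 (iv1 F526385)) (tt N110531 F526263) (tt N108347 F526258) (tt N106892 F526259) (tt N107640 F526262) (tt N106889 (iv5 D224679)) (tt N108425 F526260) (tt N113992 F526261))
theorem Q121422 : ∀ i, i < 121422 → P i := stepQ 121421 Q121421 (allL N121421 (tt N116865 F526268) (tt N109928 F526269) (tt N106911 F526264) (tt N109513 F526265) (tt N121921 (iv4 F529070)) (tt N106910 (iv5 D224680)) (tt N121237 F526266) (tt N116859 F526267))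
theorem Q121423 : ∀ i, i < 121423 → P i := stepQ 121422 Q121422 (allL N121422 (tt N109930 F526275) (tt N106917 (iv0 F526276)) (tt N116542 F526270) (tt N106912 (iv3 D224681)) (tt N117189 F526271) (tt N109507 F526272) (tt N119862 F526273) (tt N112671 F526274))
theorem Q121424 : ∀ i, i < 121424 → P i := stepQ 121423 Q121423 (allL N121423 (tt N109514 F526280) (tt N117280 F526281) (tt N119894 F526277) (tt N106919 F526278) (tt N116108 F526279) (tt N106917 (iv5 D224682)) (tt N121289 (iv6 F526282)) (tt N119881 F526283))
theorem Q121425 : ∀ i, i < 121425 → P i := stepQ 121424 Q121424 (allL N121424 (tt N112671 (iv1 F526289)) (tt N116542 F526290) (tt N109930 F526284) (tt N106920 F526285) (tt N121079 F526286) (tt N119881 F526287) (tt N119941 F526288) (tt N106917 (iv7 D224683)))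
theorem Q121426 : ∀ i, i < 121426 → P i := stepQ 121425 Q121425 (allL N121425 (tt N117371 F526296) (tt N121805 (iv0 F528430)) (tt N119882 F526291) (tt N119748 F526292) (tt N106922 (iv4 D224684)) (tt N121397 F526293) (tt N117250 F526294) (tt N119883 F526295))
theorem Q121427 : ∀ i, i < 121427 → P i := stepQ 121426 Q121426 (allL N121426 (tt N121240 F526301) (tt N121240 (iv0 F526302)) (tt N121366 F526297) (tt N106927 F526298) (tt N121986 (iv4 F529468)) (tt N121356 F526299) (tt N106925 (iv6 D224685)) (tt N121366 F526300))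
theorem Q121428 : ∀ i, i < 121428 → P i := stepQ 121427 Q121427 (allL N121427 (tt N117163 F526308) (tt N117162 (iv0 F526309)) (tt N117161 F526303) (tt N121366 F526304) (tt N117160 F526305) (tt N121236 F526306) (tt N106926 (iv6 D224686)) (tt N106927 F526307))
theorem Q121429 : ∀ i, i < 121429 → P i := stepQ 121428 Q121428 (allL N121428 (tt N117161 (iv1 F526314)) (tt N106927 (iv0 D224687)) (tt N117162 (iv2 F526313)) (tt N121872 (iv3 F528828)) (tt N116862 F526311) (tt N121361 F526310) (tt N121372 F526312) (tt N117163 F526315))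
theorem Q121430 : ∀ i, i < 121430 → P i := stepQ 121429 Q121429 (allL N121429 (tt N117074 (iv1 F526321)) (tt N107099 F526322) (tt N117076 F526316) (tt N110583 F526317) (tt N117089 F526318) (tt N110582 F526319) (tt N118506 F526320) (tt N106966 (iv7 D224688)))
theorem Q121431 : ∀ i, i < 121431 → P i := stepQ 121430 Q121430 (allL N121430 (tt N118434 F526328) (tt N113367 (iv0 F526329)) (tt N118519 F526323) (tt N106969 F526324) (tt N112044 F526325) (tt N112934 F526326) (tt N106967 (iv6 D224689)) (tt N117077 F526327))
theorem Q121432 : ∀ i, i < 121432 → P i := stepQ 121431 Q121431 (allL N121431 (tt N120553 F526334) (tt N120554 (iv0 F526336)) (tt N119179 F526330) (tt N119720 F526331) (tt N107783 F526332) (tt N116558 F526335) (tt N106968 (iv6 D224690)) (tt N112631 F526333))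
theorem Q121433 : ∀ i, i < 121433 → P i := stepQ 121432 Q121432 (allL N121432 (tt N122613 (iv1 F533176)) (tt N122621 (iv0 F533225)) (tt N118512 F526337) (tt N112934 F526338) (tt N114045 F526341) (tt N106969 (iv5 D224691)) (tt N116558 F526339) (tt N118513 F526340))
theorem Q121434 : ∀ i, i < 121434 → P i := stepQ 121433 Q121433 (allL N121433 (tt N113180 F526346) (tt N113175 (iv0 F526348)) (tt N116186 F526342) (tt N106987 F526343) (tt N106986 F526344) (tt N113478 F526347) (tt N106985 (iv6 D224692)) (tt N106986 F526345))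
theorem Q121435 : ∀ i, i < 121435 → P i := stepQ 121434 Q121434 (allL N121434 (tt N121809 F528450) (tt N122120 (iv0 F530289)) (tt N121209 F526349) (tt N121057 F526350) (tt N122665 (iv4 F533478)) (tt N107014 (iv5 D224693)) (tt N121013 F526351) (tt N121052 F526352))
theorem Q121436 : ∀ i, i < 121436 → P i := stepQ 121435 Q121435 (allL N121435 (tt N119921 (iv1 F526358)) (tt N107032 (iv0 D224694)) (tt N113291 (iv2 F526357)) (tt N107994 F526355) (tt N111581 F526354) (tt N107993 F526353) (tt N109626 F526356) (tt N110864 F526359))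
theorem Q121437 : ∀ i, i < 121437 → P i := stepQ 121436 Q121436 (allL N121436 (tt N119086 F526364) (tt N119695 F526365) (tt N107038 F526360) (tt N119921 F526361) (tt N119757 F526362) (tt N107036 (iv5 D224695)) (tt N121475 F526580) (tt N119899 F526363))
theorem Q121438 : ∀ i, i < 121438 → P i := stepQ 121437 Q121437 (allL N121437 (tt N113774 F526371) (tt N113612 F526372) (tt N114057 F526366) (tt N119603 F526367) (tt N116938 F526370) (tt N107049 (iv5 D224696)) (tt N107050 F526368) (tt N114056 F526369))
theorem Q121439 : ∀ i, i < 121439 → P i := stepQ 121438 Q121438 (allL N121438 (tt N107481 F526377) (tt N119542 (iv0 F526378)) (tt N114713 F526373) (tt N107053 F526374) (tt N111847 F526375) (tt N111233 F526376) (tt N107051 (iv6 D224697)) (tt N119545 (iv7 F526379)))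
theorem Q121440 : ∀ i, i < 121440 → P i := stepQ 121439 Q121439 (allL N121439 (tt N121580 (iv1 F527143)) (tt N121420 F526385) (tt N121131 F526380) (tt N113961 F526381) (tt N107992 F526382) (tt N107054 (iv5 D224698)) (tt N109709 F526383) (tt N121266 F526384))
theorem Q121441 : ∀ i, i < 121441 → P i := stepQ 121440 Q121440 (allL N121440 (tt N122351 F531577) (tt N122361 (iv0 F531637)) (tt N116562 F526386) (tt N107057 F526387) (tt N118531 F526390) (tt N107056 (iv5 D224699)) (tt N116553 F526388) (tt N121323 F526389))
theorem Q121442 : ∀ i, i < 121442 → P i := stepQ 121441 Q121441 (allL N121441 (tt N107069 (iv1 F526396)) (tt N107064 (iv0 D224700)) (tt N107066 (iv2 F526395)) (tt N109125 F526393) (tt N121078 F526392) (tt N121127 F526391) (tt N113033 F526394) (tt N107067 F526397))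
theorem Q121443 : ∀ i, i < 121443 → P i := stepQ 121442 Q121442 (allL N121442 (tt N119168 F526401) (tt N122293 (iv0 F531238)) (tt N121518 (iv2 F526815)) (tt N107077 F526398) (tt N117812 F526399) (tt N121933 (iv5 F529147)) (tt N107073 (iv6 D224701)) (tt N119979 F526400))
theorem Q121444 : ∀ i, i < 121444 → P i := stepQ 121443 Q121443 (allL N121443 (tt N108912 F526407) (tt N108916 (iv0 F526408)) (tt N108914 F526402) (tt N119046 F526403) (tt N107077 F526404) (tt N119188 F526405) (tt N107076 (iv6 D224702)) (tt N108913 F526406))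
theorem Q121445 : ∀ i, i < 121445 → P i := stepQ 121444 Q121444 (allL N121444 (tt N118271 F526414) (tt N114549 (iv0 F526415)) (tt N114560 F526409) (tt N107082 (iv3 D224703)) (tt N107086 F526410) (tt N111021 F526411) (tt N120804 F526412) (tt N117409 F526413))
theorem Q121446 : ∀ i, i < 121446 → P i := stepQ 121445 Q121445 (allL N121445 (tt N120755 F526421) (tt N120855 F526422) (tt N118963 F526416) (tt N119588 F526417) (tt N118962 F526418) (tt N107085 (iv5 D224704)) (tt N116372 F526419) (tt N116901 F526420))
theorem Q121447 : ∀ i, i < 121447 → P i := stepQ 121446 Q121446 (allL N121446 (tt N107086 (iv1 D224705)) (tt N122055 (iv0 F529889)) (tt N116929 F526426) (tt N122455 (iv3 F532216)) (tt N116928 F526424) (tt N122186 (iv5 F530659)) (tt N114551 (iv6 F526425)) (tt N116900 F526423))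
theorem Q121448 : ∀ i, i < 121448 → P i := stepQ 121447 Q121447 (allL N121447 (tt N116900 (iv1 F526431)) (tt N116929 F526430) (tt N107086 (iv2 D224706)) (tt N119571 F526427) (tt N114560 F526428) (tt N122189 (iv5 F530675)) (tt N109179 F526429) (tt N122055 (iv7 F529888)))
theorem Q121449 : ∀ i, i < 121449 → P i := stepQ 121448 Q121448 (allL N121448 (tt N122406 F531914) (tt N122341 (iv0 F531526)) (tt N122189 (iv2 F530673)) (tt N107087 F526432) (tt N114102 F526434) (tt N107086 (iv5 D224707)) (tt N114099 F526433) (tt N122410 (iv7 F531938)))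
theorem Q121450 : ∀ i, i < 121450 → P i := stepQ 121449 Q121449 (allL N121449 (tt N121263 F526440) (tt N121530 (iv0 F526881)) (tt N121340 F526435) (tt N107105 (iv3 D224708)) (tt N113987 F526436) (tt N107636 F526437) (tt N108410 F526438) (tt N121325 F526439))
theorem Q121451 : ∀ i, i < 121451 → P i := stepQ 121450 Q121450 (allL N121450 (tt N112144 F526445) (tt N107307 (iv0 F526446)) (tt N118702 F526441) (tt N107152 F526442) (tt N121597 (iv4 F527241)) (tt N107735 F526443) (tt N107150 (iv6 D224709)) (tt N107765 F526444))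
theorem Q121452 : ∀ i, i < 121452 → P i := stepQ 121451 Q121451 (allL N121451 (tt N107903 (iv1 F526453)) (tt N107762 F526452) (tt N107171 (iv2 D224710)) (tt N107771 F526447) (tt N116467 F526448) (tt N118198 F526449) (tt N118340 F526450) (tt N107901 F526451))
theorem Q121453 : ∀ i, i < 121453 → P i := stepQ 121452 Q121452 (allL N121452 (tt N107413 F526458) (tt N107410 F526459) (tt N107188 F526454) (tt N121376 F526455) (tt N109637 F526460) (tt N107187 (iv5 D224711)) (tt N109636 F526456) (tt N120193 F526457))
theorem Q121454 : ∀ i, i < 121454 → P i := stepQ 121453 Q121453 (allL N121453 (tt N116860 F526465) (tt N110799 F526466) (tt N119700 F526461) (tt N122573 (iv3 F532923)) (tt N107193 (iv4 D224712)) (tt N116580 F526464) (tt N117136 F526462) (tt N119702 F526463))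
theorem Q121455 : ∀ i, i < 121455 → P i := stepQ 121454 Q121454 (allL N121454 (tt N118269 F526469) (tt N113436 F526470) (tt N122067 (iv2 F529962)) (tt N107194 (iv3 D224713)) (tt N122573 (iv4 F532924)) (tt N119731 F526467) (tt N119732 F526468) (tt N122676 (iv7 F533541)))
theorem Q121456 : ∀ i, i < 121456 → P i := stepQ 121455 Q121455 (allL N121455 (tt N119705 F526475) (tt N119698 F526476) (tt N119703 F526471) (tt N122574 (iv3 F532929)) (tt N107195 (iv4 D224714)) (tt N118478 F526474) (tt N119910 F526472) (tt N119704 F526473))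
theorem Q121457 : ∀ i, i < 121457 → P i := stepQ 121456 Q121456 (allL N121456 (tt N112609 F526479) (tt N117296 (iv0 F528412)) (tt N122313 F531358) (tt N107196 (iv3 D224715)) (tt N122574 (iv4 F532928)) (tt N119289 F526477) (tt N122313 (iv6 F531357)) (tt N119980 F526478))
theorem Q121458 : ∀ i, i < 121458 → P i := stepQ 121457 Q121457 (allL N121457 (tt N112525 F526483) (tt N112589 (iv0 F526484)) (tt N112587 F526480) (tt N122205 (iv3 F530762)) (tt N113199 F526481) (tt N119765 F526482) (tt N107198 (iv6 D224716)) (tt N112586 (iv7 F526485)))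
theorem Q121459 : ∀ i, i < 121459 → P i := stepQ 121458 Q121458 (allL N121458 (tt N110702 (iv1 F526488)) (tt N107199 (iv0 D224717)) (tt N122537 (iv2 F532715)) (tt N110784 F526489) (tt N113449 F526487) (tt N108537 F526486) (tt N110786 (iv6 F526490)) (tt N122542 (iv7 F532747)))
theorem Q121460 : ∀ i, i < 121460 → P i := stepQ 121459 Q121459 (allL N121459 (tt N107199 (iv1 D224718)) (tt N110702 F526491) (tt N122542 (iv2 F532752)) (tt N112587 (iv3 F526493)) (tt N113450 (iv4 F526492)) (tt N108536 (iv5 F526494)) (tt N118759 (iv6 F526495)) (tt N122537 (iv7 F532718)))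
theorem Q121461 : ∀ i, i < 121461 → P i := stepQ 121460 Q121460 (allL N121460 (tt N122542 (iv1 F532746)) (tt N122537 (iv0 F532720)) (tt N110702 F526496) (tt N107200 F526497) (tt N120464 F526498) (tt N118763 F526499) (tt N112553 (iv6 F526500)) (tt N107199 (iv7 D224719)))
theorem Q121462 : ∀ i, i < 121462 → P i := stepQ 121461 Q121461 (allL N121461 (tt N107204 (iv1 D224720)) (tt N108721 (iv0 F526506)) (tt N116639 F526504) (tt N120442 (iv3 F526502)) (tt N116358 (iv4 F526503)) (tt N122258 (iv5 F531040)) (tt N116357 F526505) (tt N118501 F526501))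
theorem Q121463 : ∀ i, i < 121463 → P i := stepQ 121462 Q121462 (allL N121462 (tt N118501 (iv1 F526512)) (tt N116639 F526511) (tt N107204 (iv2 D224721)) (tt N118509 F526507) (tt N107208 F526508) (tt N122661 (iv5 F533452)) (tt N108713 F526509) (tt N108721 F526510))
theorem Q121464 : ∀ i, i < 121464 → P i := stepQ 121463 Q121463 (allL N121463 (tt N112936 F526515) (tt N122616 (iv0 F533195)) (tt N122661 (iv2 F533449)) (tt N107205 F526513) (tt N122327 (iv4 F531442)) (tt N107204 (iv5 D224722)) (tt N121720 (iv6 F527941)) (tt N118527 F526514))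
theorem Q121465 : ∀ i, i < 121465 → P i := stepQ 121464 Q121464 (allL N121464 (tt N118775 F526521) (tt N117233 (iv0 F526522)) (tt N116098 F526516) (tt N109039 F526517) (tt N110721 F526520) (tt N107207 (iv5 D224723)) (tt N110720 F526518) (tt N118773 F526519))
theorem Q121466 : ∀ i, i < 121466 → P i := stepQ 121465 Q121465 (allL N121465 (tt N119308 (iv1 F526525)) (tt N107215 (iv0 D224724)) (tt N107592 (iv2 F526526)) (tt N122545 (iv3 F532759)) (tt N119590 F526524) (tt N107580 F526523) (tt N122265 (iv6 F531062)) (tt N107590 (iv7 F526527)))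
theorem Q121467 : ∀ i, i < 121467 → P i := stepQ 121466 Q121466 (allL N121466 (tt N107215 (iv1 D224725)) (tt N119308 F526528) (tt N107590 (iv2 F526531)) (tt N122247 (iv3 F530996)) (tt N119598 (iv4 F526532)) (tt N107579 F526530) (tt N121990 (iv6 F529491)) (tt N107592 F526529))
theorem Q121468 : ∀ i, i < 121468 → P i := stepQ 121467 Q121467 (allL N121467 (tt N109882 (iv1 F526539)) (tt N121273 F526538) (tt N119603 F526533) (tt N112921 F526534) (tt N107215 (iv4 D224726)) (tt N116781 F526537) (tt N113741 F526535) (tt N119600 F526536))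
theorem Q121469 : ∀ i, i < 121469 → P i := stepQ 121468 Q121468 (allL N121468 (tt N108624 F526545) (tt N118858 F526546) (tt N117462 F526540) (tt N107239 F526541) (tt N115949 F526542) (tt N107238 (iv5 D224727)) (tt N118964 F526543) (tt N115635 F526544))
theorem Q121470 : ∀ i, i < 121470 → P i := stepQ 121469 Q121469 (allL N121469 (tt N117464 F526551) (tt N115653 F526552) (tt N116023 F526553) (tt N107240 (iv3 D224728)) (tt N114182 F526547) (tt N117127 F526548) (tt N114181 F526549) (tt N117463 F526550))
theorem Q121471 : ∀ i, i < 121471 → P i := stepQ 121470 Q121470 (allL N121470 (tt N119311 F526557) (tt N122667 (iv0 F533495)) (tt N122678 (iv2 F533551)) (tt N107251 F526554) (tt N113739 F526556) (tt N107248 (iv5 D224729)) (tt N119371 F526555) (tt N121748 (iv7 F528086)))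
theorem Q121472 : ∀ i, i < 121472 → P i := stepQ 121471 Q121471 (allL N121471 (tt N118564 (iv1 F526562)) (tt N118584 F526563) (tt N118586 F526558) (tt N119252 F526559) (tt N121786 (iv4 F528307)) (tt N120323 F526560) (tt N116644 F526561) (tt N107249 (iv7 D224730)))
theorem Q121473 : ∀ i, i < 121473 → P i := stepQ 121472 Q121472 (allL N121472 (tt N107251 (iv1 D224731)) (tt N107593 F526564) (tt N107595 F526569) (tt N113364 (iv3 F526568)) (tt N119604 F526567) (tt N107582 F526566) (tt N122618 F533206) (tt N107581 F526565))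
theorem Q121474 : ∀ i, i < 121474 → P i := stepQ 121473 Q121473 (allL N121473 (tt N122045 (iv1 F529828)) (tt N121967 (iv0 F529357)) (tt N122206 (iv2 F530768)) (tt N107290 (iv3 D224732)) (tt N122042 (iv4 F529803)) (tt N116150 F526570) (tt N122602 (iv6 F533106)) (tt N119849 F526571))
theorem Q121475 : ∀ i, i < 121475 → P i := stepQ 121474 Q121474 (allL N121474 (tt N121544 (iv1 F526958)) (tt N107294 (iv0 D224733)) (tt N116676 (iv2 F526576)) (tt N107397 F526574) (tt N120530 F526573) (tt N120192 F526572) (tt N116666 F526575) (tt N107412 (iv7 F526577)))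
theorem Q121476 : ∀ i, i < 121476 → P i := stepQ 121475 Q121475 (allL N121475 (tt N107294 (iv1 D224734)) (tt N121544 (iv0 F526957)) (tt N107412 F526581) (tt N122582 (iv3 F532976)) (tt N119747 F526579) (tt N122209 (iv5 F530790)) (tt N121436 (iv6 F526580)) (tt N116676 F526578))
theorem Q121477 : ∀ i, i < 121477 → P i := stepQ 121476 Q121476 (allL N121476 (tt N107412 (iv1 F526586)) (tt N116676 F526587) (tt N121544 (iv2 F526954)) (tt N107301 F526582) (tt N112594 F526583) (tt N116416 F526584) (tt N119098 F526585) (tt N107294 (iv7 D224735)))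
theorem Q121478 : ∀ i, i < 121478 → P i := stepQ 121477 Q121477 (allL N121477 (tt N107436 F526592) (tt N116689 (iv0 F526593)) (tt N107305 F526588) (tt N108086 F526589) (tt N119721 F526590) (tt N121274 F526591) (tt N107302 (iv6 D224736)) (tt N122647 (iv7 F533376)))
theorem Q121479 : ∀ i, i < 121479 → P i := stepQ 121478 Q121478 (allL N121478 (tt N122647 (iv1 F533378)) (tt N107305 (iv0 D224737)) (tt N107436 (iv2 F526598)) (tt N110294 F526596) (tt N107346 F526594) (tt N116657 F526595) (tt N110293 F526597) (tt N116689 (iv7 F526599)))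
theorem Q121480 : ∀ i, i < 121480 → P i := stepQ 121479 Q121479 (allL N121479 (tt N107305 (iv1 D224738)) (tt N122647 (iv0 F533377)) (tt N116689 F526605) (tt N107430 (iv3 F526603)) (tt N107347 (iv4 F526602)) (tt N116164 F526601) (tt N108717 (iv6 F526604)) (tt N107436 F526600))
theorem Q121481 : ∀ i, i < 121481 → P i := stepQ 121480 Q121480 (allL N121480 (tt N110171 F526610) (tt N113023 F526611) (tt N121274 F526606) (tt N107311 F526607) (tt N117177 F526609) (tt N107305 (iv5 D224739)) (tt N117176 F526608) (tt N122320 (iv7 F531400)))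
theorem Q121482 : ∀ i, i < 121482 → P i := stepQ 121481 Q121481 (allL N121481 (tt N116689 (iv1 F526614)) (tt N107436 F526615) (tt N122647 (iv2 F533372)) (tt N107312 F526612) (tt N121497 (iv4 F526697)) (tt N122320 (iv5 F531399)) (tt N116801 F526613) (tt N107305 (iv7 D224740)))
theorem Q121483 : ∀ i, i < 121483 → P i := stepQ 121482 Q121482 (allL N121482 (tt N116768 F526620) (tt N116176 F526621) (tt N114610 F526616) (tt N117176 F526617) (tt N122276 (iv4 F531123)) (tt N107309 (iv5 D224741)) (tt N107311 F526618) (tt N114612 F526619))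
theorem Q121484 : ∀ i, i < 121484 → P i := stepQ 121483 Q121483 (allL N121483 (tt N116737 F526627) (tt N113976 (iv0 F526628)) (tt N107324 F526622) (tt N114290 F526623) (tt N107318 F526624) (tt N114691 F526625) (tt N107317 (iv6 D224742)) (tt N114491 F526626))
theorem Q121485 : ∀ i, i < 121485 → P i := stepQ 121484 Q121484 (allL N121484 (tt N121512 F526781) (tt N108012 F526633) (tt N119824 F526629) (tt N109840 F526630) (tt N107328 (iv4 D224743)) (tt N122725 (iv5 F533855)) (tt N121170 F526631) (tt N109836 F526632))
theorem Q121486 : ∀ i, i < 121486 → P i := stepQ 121485 Q121485 (allL N121485 (tt N107329 (iv1 D224744)) (tt N121586 (iv0 F527176)) (tt N121629 (iv2 F527428)) (tt N121388 F526636) (tt N107422 F526634) (tt N109947 F526637) (tt N120494 (iv6 F526635)) (tt N121628 (iv7 F527424)))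
theorem Q121487 : ∀ i, i < 121487 → P i := stepQ 121486 Q121486 (allL N121486 (tt N121388 F526640) (tt N122007 F529603) (tt N121592 (iv2 F527209)) (tt N107329 (iv3 D224745)) (tt N114269 F526638) (tt N121975 (iv5 F529407)) (tt N107336 F526639) (tt N122008 (iv7 F529608)))
theorem Q121488 : ∀ i, i < 121488 → P i := stepQ 121487 Q121487 (allL N121487 (tt N121872 (iv1 F528832)) (tt N121834 (iv0 F528599)) (tt N121365 F526641) (tt N121975 F529408) (tt N116627 F526642) (tt N107329 (iv5 D224746)) (tt N121974 (iv6 F529400)) (tt N121874 (iv7 F528844)))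
theorem Q121489 : ∀ i, i < 121489 → P i := stepQ 121488 Q121488 (allL N121488 (tt N119939 F526648) (tt N121386 (iv0 F526649)) (tt N120339 F526643) (tt N107333 (iv3 D224747)) (tt N120342 F526644) (tt N119868 F526645) (tt N121176 F526646) (tt N110753 F526647))
theorem Q121490 : ∀ i, i < 121490 → P i := stepQ 121489 Q121489 (allL N121489 (tt N107559 (iv1 F526654)) (tt N121708 F527882) (tt N116522 F526650) (tt N107341 (iv3 D224748)) (tt N121149 F526651) (tt N121707 (iv5 F527874)) (tt N121115 F526652) (tt N119780 F526653))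
theorem Q121491 : ∀ i, i < 121491 → P i := stepQ 121490 Q121490 (allL N121490 (tt N107347 (iv1 F526659)) (tt N107346 F526660) (tt N107349 F526655) (tt N118497 F526656) (tt N107364 F526657) (tt N117894 F526658) (tt N122615 (iv6 F533188)) (tt N107343 (iv7 D224749)))
theorem Q121492 : ∀ i, i < 121492 → P i := stepQ 121491 Q121491 (allL N121491 (tt N118809 F526666) (tt N117318 (iv0 F526667)) (tt N120738 F526661) (tt N107350 (iv3 D224750)) (tt N116463 F526662) (tt N117877 F526663) (tt N110677 F526664) (tt N113285 F526665))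
theorem Q121493 : ∀ i, i < 121493 → P i := stepQ 121492 Q121492 (allL N121492 (tt N107369 F526673) (tt N107641 (iv0 F526674)) (tt N119016 F526668) (tt N107694 F526669) (tt N120720 F526670) (tt N121342 F526671) (tt N107358 (iv6 D224751)) (tt N121337 F526672))
theorem Q121494 : ∀ i, i < 121494 → P i := stepQ 121493 Q121493 (allL N121493 (tt N107589 F526677) (tt N122626 (iv0 F533252)) (tt N121728 (iv2 F527992)) (tt N118699 F526675) (tt N119168 F526676) (tt N122265 (iv5 F531063)) (tt N107359 (iv6 D224752)) (tt N122559 (iv7 F532847)))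
theorem Q121495 : ∀ i, i < 121495 → P i := stepQ 121494 Q121494 (allL N121494 (tt N116809 F526682) (tt N108031 F526683) (tt N107373 F526678) (tt N121341 F526679) (tt N113981 F526680) (tt N107362 (iv5 D224753)) (tt N122443 (iv6 F532136)) (tt N107371 F526681))
theorem Q121496 : ∀ i, i < 121496 → P i := stepQ 121495 Q121495 (allL N121495 (tt N107375 (iv1 F526687)) (tt N107374 F526688) (tt N107377 F526684) (tt N122020 (iv3 F529674)) (tt N113024 F526685) (tt N107364 F526686) (tt N122527 (iv6 F532656)) (tt N107363 (iv7 D224754)))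
theorem Q121497 : ∀ i, i < 121497 → P i := stepQ 121496 Q121496 (allL N121496 (tt N121343 F526694) (tt N113955 F526695) (tt N121338 F526689) (tt N107371 F526690) (tt N113984 F526693) (tt N107369 (iv5 D224755)) (tt N109675 F526691) (tt N121341 F526692))
theorem Q121498 : ∀ i, i < 121498 → P i := stepQ 121497 Q121497 (allL N121497 (tt N107372 (iv1 F526700)) (tt N107370 (iv0 D224756)) (tt N118496 (iv2 F526699)) (tt N117605 F526698) (tt N121481 F526697) (tt N117290 F526696) (tt N122559 (iv6 F532846)) (tt N118495 F526701))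
theorem Q121499 : ∀ i, i < 121499 → P i := stepQ 121498 Q121498 (allL N121498 (tt N120091 F526704) (tt N120090 (iv0 F526705)) (tt N122527 (iv2 F532653)) (tt N107392 F526702) (tt N121103 F526703) (tt N122285 (iv5 F531182)) (tt N107377 (iv6 D224757)) (tt N122267 (iv7 F531075)))
theorem Q121500 : ∀ i, i < 121500 → P i := stepQ 121499 Q121499 (allL N121499 (tt N119590 (iv1 F526712)) (tt N119598 (iv0 F526711)) (tt N116978 F526706) (tt N107379 (iv3 D224758)) (tt N118621 F526710) (tt N120200 F526707) (tt N121084 F526708) (tt N119607 F526709))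
theorem Q121501 : ∀ i, i < 121501 → P i := stepQ 121500 Q121500 (allL N121500 (tt N120309 F526716) (tt N108003 F526717) (tt N111967 F526713) (tt N120313 (iv3 F526718)) (tt N107379 (iv4 D224759)) (tt N122231 (iv5 F530905)) (tt N119970 F526714) (tt N120310 F526715))
theorem Q121502 : ∀ i, i < 121502 → P i := stepQ 121501 Q121501 (allL N121501 (tt N111961 F526722) (tt N122155 (iv0 F530472)) (tt N120321 F526719) (tt N107381 (iv3 D224760)) (tt N114041 F526720) (tt N112789 (iv5 F526723)) (tt N107391 F526721) (tt N122379 (iv7 F531746)))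
theorem Q121503 : ∀ i, i < 121503 → P i := stepQ 121502 Q121502 (allL N121502 (tt N122658 (iv1 F533442)) (tt N120333 F526726) (tt N122253 (iv2 F531023)) (tt N112789 F526724) (tt N122638 (iv4 F533321)) (tt N107381 (iv5 D224761)) (tt N112788 F526725) (tt N122733 D225992))
theorem Q121504 : ∀ i, i < 121504 → P i := stepQ 121503 Q121503 (allL N121503 (tt N120415 (iv1 F526730)) (tt N121625 (iv0 F527409)) (tt N120416 F526727) (tt N122379 F531749) (tt N107382 F526728) (tt N122733 (iv5 F533906)) (tt N120318 F526729) (tt N107381 (iv7 D224762)))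
theorem Q121505 : ∀ i, i < 121505 → P i := stepQ 121504 Q121504 (allL N121504 (tt N112741 F526735) (tt N112785 F526736) (tt N112782 F526731) (tt N112781 F526732) (tt N107385 F526733) (tt N121814 (iv5 F528475)) (tt N107384 (iv6 D224763)) (tt N112781 F526734))
theorem Q121506 : ∀ i, i < 121506 → P i := stepQ 121505 Q121505 (allL N121505 (tt N118563 (iv1 F526740)) (tt N118565 (iv0 F526739)) (tt N121547 (iv2 F526967)) (tt N121618 (iv3 F527361)) (tt N107386 (iv4 D224764)) (tt N119718 F526738) (tt N116563 F526737) (tt N122646 (iv7 F533369)))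
theorem Q121507 : ∀ i, i < 121507 → P i := stepQ 121506 Q121506 (allL N121506 (tt N116101 F526744) (tt N113206 F526745) (tt N107416 F526741) (tt N113204 F526746) (tt N107399 (iv4 D224765)) (tt N114058 F526743) (tt N120194 F526742) (tt N113443 (iv7 F526747)))
theorem Q121508 : ∀ i, i < 121508 → P i := stepQ 121507 Q121507 (allL N121507 (tt N107415 (iv1 F526753)) (tt N107414 F526754) (tt N107417 F526748) (tt N113338 F526749) (tt N113443 F526750) (tt N107400 F526751) (tt N113443 F526752) (tt N107399 (iv7 D224766)))
theorem Q121509 : ∀ i, i < 121509 → P i := stepQ 121508 Q121508 (allL N121508 (tt N110376 F526760) (tt N110249 F526761) (tt N110375 F526755) (tt N107410 F526756) (tt N112345 F526759) (tt N107408 (iv5 D224767)) (tt N109603 F526757) (tt N110374 F526758))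
theorem Q121510 : ∀ i, i < 121510 → P i := stepQ 121509 Q121509 (allL N121509 (tt N122208 (iv1 F530787)) (tt N117214 F526765) (tt N122209 (iv2 F530788)) (tt N107413 F526762) (tt N121939 (iv4 F529186)) (tt N107412 (iv5 D224768)) (tt N116097 F526763) (tt N120192 F526764))
theorem Q121511 : ∀ i, i < 121511 → P i := stepQ 121510 Q121510 (allL N121510 (tt N112983 F526771) (tt N116177 F526770) (tt N114058 F526766) (tt N116181 F526767) (tt N113775 F526769) (tt N107416 (iv5 D224769)) (tt N113774 F526768) (tt N122017 (iv7 F529661)))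
theorem Q121512 : ∀ i, i < 121512 → P i := stepQ 121511 Q121511 (allL N121511 (tt N107457 F526776) (tt N113452 F526777) (tt N113461 F526772) (tt N107422 (iv3 D224770)) (tt N122698 (iv4 F533678)) (tt N114886 F526773) (tt N116838 F526774) (tt N113462 F526775))
theorem Q121513 : ∀ i, i < 121513 → P i := stepQ 121512 Q121512 (allL N121512 (tt N107669 F526780) (tt N121484 (iv0 F526781)) (tt N121631 (iv2 F527435)) (tt N107423 (iv3 D224771)) (tt N107424 F526778) (tt N117022 F526782) (tt N107426 F526779) (tt N107423 F526783))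
theorem Q121514 : ∀ i, i < 121514 → P i := stepQ 121513 Q121513 (allL N121513 (tt N121241 F526789) (tt N120460 F526790) (tt N119807 F526784) (tt N117022 F526785) (tt N109942 F526788) (tt N107423 (iv5 D224772)) (tt N117021 F526786) (tt N117022 F526787))
theorem Q121515 : ∀ i, i < 121515 → P i := stepQ 121514 Q121514 (allL N121514 (tt N110800 F526795) (tt N110739 (iv0 F526796)) (tt N112598 F526791) (tt N107425 (iv3 D224773)) (tt N110782 F526792) (tt N114617 F526793) (tt N121593 F527219) (tt N119103 F526794))
theorem Q121516 : ∀ i, i < 121516 → P i := stepQ 121515 Q121515 (allL N121515 (tt N112979 F526802) (tt N112894 (iv0 F526803)) (tt N112978 F526797) (tt N107449 F526798) (tt N121091 F526799) (tt N113203 F526800) (tt N107442 (iv6 D224774)) (tt N112977 F526801))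
theorem Q121517 : ∀ i, i < 121517 → P i := stepQ 121516 Q121516 (allL N121516 (tt N114060 F526808) (tt N114059 F526809) (tt N114061 F526804) (tt N107444 F526805) (tt N122017 (iv4 F529659)) (tt N107443 (iv5 D224775)) (tt N116297 F526806) (tt N113775 F526807))
theorem Q121518 : ∀ i, i < 121518 → P i := stepQ 121517 Q121517 (allL N121517 (tt N111960 F526813) (tt N120313 F526814) (tt N120311 F526810) (tt N107447 F526811) (tt N122625 (iv4 F533243)) (tt N107445 (iv5 D224776)) (tt N122518 F532610) (tt N120312 F526812))
theorem Q121519 : ∀ i, i < 121519 → P i := stepQ 121518 Q121518 (allL N121518 (tt N122292 F531233) (tt N116801 (iv0 F526820)) (tt N121442 F526815) (tt N107454 (iv3 D224777)) (tt N117843 F526816) (tt N110371 F526817) (tt N116278 F526818) (tt N113344 F526819))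
theorem Q121520 : ∀ i, i < 121520 → P i := stepQ 121519 Q121519 (allL N121519 (tt N113452 (iv1 F526826)) (tt N107457 (iv0 D224778)) (tt N113462 (iv2 F526825)) (tt N111201 F526822) (tt N111203 F526823) (tt N114887 F526821) (tt N117211 F526824) (tt N113461 F526827))
theorem Q121521 : ∀ i, i < 121521 → P i := stepQ 121520 Q121520 (allL N121520 (tt N119098 F526831) (tt N108086 (iv0 F526832)) (tt N110802 F526828) (tt N107466 (iv3 D224779)) (tt N112677 F526829) (tt N122382 (iv5 F531763)) (tt N110795 F526830) (tt N122586 (iv7 F533005)))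
theorem Q121522 : ∀ i, i < 121522 → P i := stepQ 121521 Q121521 (allL N121521 (tt N112994 F526836) (tt N107467 (iv0 D224780)) (tt N122276 (iv2 F531121)) (tt N122431 (iv3 F532059)) (tt N114610 F526834) (tt N113295 F526833) (tt N110060 F526835) (tt N122167 (iv7 F530541)))
theorem Q121523 : ∀ i, i < 121523 → P i := stepQ 121522 Q121522 (allL N121522 (tt N107467 (iv1 D224781)) (tt N112994 F526837) (tt N122167 (iv2 F530538)) (tt N108411 F526841) (tt N114612 F526839) (tt N113294 F526838) (tt N108426 (iv6 F526840)) (tt N122276 (iv7 F531125)))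
theorem Q121524 : ∀ i, i < 121524 → P i := stepQ 121523 Q121523 (allL N121523 (tt N122167 F530543) (tt N122276 (iv0 F531126)) (tt N112994 F526842) (tt N107477 F526843) (tt N122279 (iv4 F531142)) (tt N107468 F526844) (tt N112981 F526845) (tt N107467 (iv7 D224782)))
theorem Q121525 : ∀ i, i < 121525 → P i := stepQ 121524 Q121524 (allL N121524 (tt N112945 (iv1 F526849)) (tt N122119 (iv0 F530285)) (tt N121623 (iv2 F527391)) (tt N122371 (iv3 F531698)) (tt N107472 (iv4 D224783)) (tt N113183 F526847) (tt N107476 F526846) (tt N116814 (iv7 F526848)))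
theorem Q121526 : ∀ i, i < 121526 → P i := stepQ 121525 Q121525 (allL N121525 (tt N121622 (iv1 F527384)) (tt N121621 F527380) (tt N112890 F526850) (tt N112922 F526851) (tt N116814 F526852) (tt N107473 F526853) (tt N112897 F526854) (tt N107472 (iv7 D224784)))
theorem Q121527 : ∀ i, i < 121527 → P i := stepQ 121526 Q121526 (allL N121526 (tt N122378 (iv1 F531744)) (tt N122377 (iv0 F531736)) (tt N121687 (iv2 F527745)) (tt N112063 F526855) (tt N121344 F526856) (tt N117325 F526857) (tt N107475 (iv6 D224785)) (tt N110143 F526858))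
theorem Q121528 : ∀ i, i < 121528 → P i := stepQ 121527 Q121527 (allL N121527 (tt N107476 (iv1 D224786)) (tt N113460 F526859) (tt N117055 F526864) (tt N114395 (iv3 F526863)) (tt N110533 F526862) (tt N108341 F526861) (tt N122373 (iv6 F531715)) (tt N114394 F526860))
theorem Q121529 : ∀ i, i < 121529 → P i := stepQ 121528 Q121528 (allL N121528 (tt N117055 (iv1 F526870)) (tt N114394 F526871) (tt N113460 F526865) (tt N114064 F526866) (tt N107477 F526867) (tt N117054 F526868) (tt N109759 F526869) (tt N107476 (iv7 D224787)))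
theorem Q121530 : ∀ i, i < 121530 → P i := stepQ 121529 Q121529 (allL N121529 (tt N119542 (iv1 F526876)) (tt N107481 (iv0 D224788)) (tt N119545 (iv2 F526875)) (tt N119601 F526873) (tt N115737 F526872) (tt N121925 (iv5 F529099)) (tt N115098 F526874) (tt N114713 F526877))
theorem Q121531 : ∀ i, i < 121531 → P i := stepQ 121530 Q121530 (allL N121530 (tt N121449 F526881) (tt N113778 F526882) (tt N116759 F526878) (tt N121566 (iv3 F527069)) (tt N116709 F526880) (tt N107489 (iv5 D224789)) (tt N107490 F526879) (tt N122333 (iv7 F531474)))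
theorem Q121532 : ∀ i, i < 121532 → P i := stepQ 121531 Q121531 (allL N121531 (tt N116935 (iv1 F526888)) (tt N107518 (iv0 D224790)) (tt N119936 (iv2 F526887)) (tt N111534 F526885) (tt N117648 F526884) (tt N119922 F526883) (tt N110776 F526886) (tt N119937 F526889))
theorem Q121533 : ∀ i, i < 121533 → P i := stepQ 121532 Q121532 (allL N121532 (tt N121150 F526894) (tt N110817 F526893) (tt N107528 F526890) (tt N121852 (iv3 F528705)) (tt N113448 F526892) (tt N107522 (iv5 D224791)) (tt N107525 F526891) (tt N121802 (iv7 F528409)))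
theorem Q121534 : ∀ i, i < 121534 → P i := stepQ 121533 Q121533 (allL N121533 (tt N119914 F526900) (tt N119870 F526901) (tt N119915 F526895) (tt N107523 (iv3 D224792)) (tt N107599 F526896) (tt N112620 F526897) (tt N110021 F526898) (tt N107532 F526899))
theorem Q121535 : ∀ i, i < 121535 → P i := stepQ 121534 Q121534 (allL N121534 (tt N121802 F528410) (tt N107528 (iv0 D224793)) (tt N121150 (iv2 F526905)) (tt N110821 F526904) (tt N116195 F526903) (tt N110818 F526902) (tt N121369 F526906) (tt N110817 F526907))
theorem Q121536 : ∀ i, i < 121536 → P i := stepQ 121535 Q121535 (allL N121535 (tt N110817 (iv1 F526911)) (tt N121150 F526912) (tt N121802 (iv2 F528405)) (tt N107543 F526908) (tt N113451 F526909) (tt N107529 F526910) (tt N121801 (iv6 F528401)) (tt N107528 (iv7 D224794)))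
theorem Q121537 : ∀ i, i < 121537 → P i := stepQ 121536 Q121536 (allL N121536 (tt N116093 F526917) (tt N122599 F533088) (tt N117215 F526913) (tt N113192 F526918) (tt N107533 (iv4 D224795)) (tt N120129 F526916) (tt N120187 F526914) (tt N113382 F526915))
theorem Q121538 : ∀ i, i < 121538 → P i := stepQ 121537 Q121537 (allL N121537 (tt N119916 (iv1 F526921)) (tt N113336 F526922) (tt N122005 (iv2 F529588)) (tt N107534 (iv3 D224796)) (tt N122180 (iv4 F530623)) (tt N110790 F526919) (tt N122203 (iv6 F530750)) (tt N110789 F526920))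
theorem Q121539 : ∀ i, i < 121539 → P i := stepQ 121538 Q121538 (allL N121538 (tt N117245 F526924) (tt N121867 (iv0 F528800)) (tt N122285 (iv2 F531180)) (tt N122178 (iv3 F530610)) (tt N107534 (iv4 D224797)) (tt N122527 (iv5 F532655)) (tt N122369 (iv6 F531688)) (tt N110794 F526923))
theorem Q121540 : ∀ i, i < 121540 → P i := stepQ 121539 Q121539 (allL N121539 (tt N113405 F526927) (tt N107554 (iv0 F526928)) (tt N110009 F526925) (tt N122203 (iv3 F530754)) (tt N122369 (iv4 F531686)) (tt N109838 F526926) (tt N107534 (iv6 D224798)) (tt N122298 (iv7 F531263)))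
theorem Q121541 : ∀ i, i < 121541 → P i := stepQ 121540 Q121540 (allL N121540 (tt N107538 (iv1 D224799)) (tt N119872 F526929) (tt N114617 F526933) (tt N121968 (iv3 F529360)) (tt N114614 (iv4 F526931)) (tt N112598 (iv5 F526934)) (tt N110626 (iv6 F526932)) (tt N119697 F526930))
theorem Q121542 : ∀ i, i < 121542 → P i := stepQ 121541 Q121541 (allL N121541 (tt N110753 F526941) (tt N120339 F526940) (tt N119939 F526935) (tt N107539 F526936) (tt N119762 F526937) (tt N107538 (iv5 D224800)) (tt N112620 F526938) (tt N121386 F526939))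
theorem Q121543 : ∀ i, i < 121543 → P i := stepQ 121542 Q121542 (allL N121542 (tt N119103 F526947) (tt N112598 (iv0 F526948)) (tt N110800 F526942) (tt N107541 (iv3 D224801)) (tt N110740 F526943) (tt N108087 F526944) (tt N119739 F526945) (tt N110739 F526946))
theorem Q121544 : ∀ i, i < 121544 → P i := stepQ 121543 Q121543 (allL N121543 (tt N122298 (iv1 F531262)) (tt N110009 (iv0 F526953)) (tt N113405 F526949) (tt N121801 (iv3 F528400)) (tt N110358 F526950) (tt N113404 F526951) (tt N107543 (iv6 D224802)) (tt N107554 F526952))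
theorem Q121545 : ∀ i, i < 121545 → P i := stepQ 121544 Q121544 (allL N121544 (tt N121475 F526957) (tt N121474 F526958) (tt N121476 F526954) (tt N122293 (iv3 F531235)) (tt N107544 (iv4 D224803)) (tt N116532 F526955) (tt N121637 (iv6 F527471)) (tt N119871 F526956))
theorem Q121546 : ∀ i, i < 121546 → P i := stepQ 121545 Q121545 (allL N121545 (tt N121095 F526963) (tt N121094 F526964) (tt N117253 F526959) (tt N112324 F526960) (tt N107548 F526961) (tt N122162 (iv5 F530514)) (tt N107547 (iv6 D224804)) (tt N117134 F526962))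
theorem Q121547 : ∀ i, i < 121547 → P i := stepQ 121546 Q121546 (allL N121546 (tt N107548 (iv1 D224805)) (tt N121584 F527165) (tt N122014 (iv2 F529638)) (tt N119928 (iv3 F526966)) (tt N121930 (iv4 F529127)) (tt N119917 F526965) (tt N121884 (iv6 F528897)) (tt N121880 F528877))
theorem Q121548 : ∀ i, i < 121548 → P i := stepQ 121547 Q121547 (allL N121547 (tt N121393 F526972) (tt N121394 F526973) (tt N121505 F526967) (tt N107556 F526968) (tt N112919 F526971) (tt N107555 (iv5 D224806)) (tt N112918 F526969) (tt N118602 F526970))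
theorem Q121549 : ∀ i, i < 121549 → P i := stepQ 121548 Q121548 (allL N121548 (tt N110745 F526978) (tt N119811 F526979) (tt N119810 F526974) (tt N107559 F526975) (tt N120340 F526976) (tt N122207 (iv5 F530777)) (tt N107557 (iv6 D224807)) (tt N119809 F526977))
theorem Q121550 : ∀ i, i < 121550 → P i := stepQ 121549 Q121549 (allL N121549 (tt N116522 (iv1 F526983)) (tt N119780 F526984) (tt N121708 F527881) (tt N119809 F526980) (tt N122286 (iv4 F531189)) (tt N120015 F526981) (tt N116516 F526982) (tt N107559 (iv7 D224808)))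
theorem Q121551 : ∀ i, i < 121551 → P i := stepQ 121550 Q121550 (allL N121550 (tt N119865 F526990) (tt N119864 (iv0 F526991)) (tt N119866 F526985) (tt N107565 (iv3 D224809)) (tt N110393 F526986) (tt N120198 F526987) (tt N119863 F526988) (tt N118303 F526989))
theorem Q121552 : ∀ i, i < 121552 → P i := stepQ 121551 Q121551 (allL N121551 (tt N118624 F526997) (tt N118619 F526998) (tt N108970 F526992) (tt N110180 F526993) (tt N110182 F526996) (tt N107573 (iv5 D224810)) (tt N112893 F526994) (tt N118623 F526995))
theorem Q121553 : ∀ i, i < 121553 → P i := stepQ 121552 Q121552 (allL N121552 (tt N107586 (iv1 F527004)) (tt N107577 (iv0 D224811)) (tt N107588 (iv2 F527003)) (tt N117865 F527001) (tt N109850 F527000) (tt N113729 F526999) (tt N111615 F527002) (tt N107578 F527005))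
theorem Q121554 : ∀ i, i < 121554 → P i := stepQ 121553 Q121553 (allL N121553 (tt N121982 (iv1 F529450)) (tt N116940 F527011) (tt N107587 F527006) (tt N113306 F527007) (tt N113726 F527010) (tt N107578 (iv5 D224812)) (tt N107581 F527008) (tt N113729 F527009))
theorem Q121555 : ∀ i, i < 121555 → P i := stepQ 121554 Q121554 (allL N121554 (tt N119316 F527016) (tt N118848 (iv0 F527017)) (tt N121347 F527012) (tt N107579 (iv3 D224813)) (tt N116446 F527013) (tt N122247 (iv5 F530998)) (tt N116445 F527014) (tt N107591 F527015))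
theorem Q121556 : ∀ i, i < 121556 → P i := stepQ 121555 Q121555 (allL N121555 (tt N120144 F527023) (tt N114067 F527024) (tt N107594 F527018) (tt N116174 F527019) (tt N107581 (iv4 D224814)) (tt N109880 F527022) (tt N113726 F527020) (tt N119604 F527021))
theorem Q121557 : ∀ i, i < 121557 → P i := stepQ 121556 Q121556 (allL N121556 (tt N121785 (iv1 F528305)) (tt N119310 F527030) (tt N107600 F527025) (tt N121272 F527026) (tt N121273 F527029) (tt N107583 (iv5 D224815)) (tt N121394 F527027) (tt N107602 F527028))
theorem Q121558 : ∀ i, i < 121558 → P i := stepQ 121557 Q121557 (allL N121557 (tt N119310 F527034) (tt N121785 (iv0 F528304)) (tt N107602 F527031) (tt N122650 (iv3 F533393)) (tt N109882 F527032) (tt N107584 (iv5 D224816)) (tt N122302 (iv6 F531286)) (tt N107600 F527033))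
theorem Q121559 : ∀ i, i < 121559 → P i := stepQ 121558 Q121558 (allL N121558 (tt N116940 (iv1 F527039)) (tt N121982 (iv0 F529449)) (tt N113729 F527035) (tt N119314 F527036) (tt N113725 F527037) (tt N107588 F527038) (tt N122617 (iv6 F533199)) (tt N107587 (iv7 D224817)))
theorem Q121560 : ∀ i, i < 121560 → P i := stepQ 121559 Q121559 (allL N121559 (tt N122626 F533253) (tt N107589 (iv0 D224818)) (tt N122559 (iv2 F532843)) (tt N118596 F527040) (tt N122293 (iv4 F531236)) (tt N122264 (iv5 F531056)) (tt N118496 F527041) (tt N121728 (iv7 F527995)))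
theorem Q121561 : ∀ i, i < 121561 → P i := stepQ 121560 Q121560 (allL N121560 (tt N122251 F531018) (tt N122252 (iv0 F531022)) (tt N122525 (iv2 F532643)) (tt N107590 F527042) (tt N122528 (iv4 F532660)) (tt N107589 (iv5 D224819)) (tt N122649 (iv6 F533388)) (tt N122545 (iv7 F532764)))
theorem Q121562 : ∀ i, i < 121562 → P i := stepQ 121561 Q121561 (allL N121561 (tt N116978 (iv1 F527049)) (tt N119607 F527047) (tt N119598 F527043) (tt N107638 F527048) (tt N107590 (iv4 D224820)) (tt N107632 F527044) (tt N107633 F527045) (tt N119590 F527046))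
theorem Q121563 : ∀ i, i < 121563 → P i := stepQ 121562 Q121562 (allL N121562 (tt N107591 (iv1 D224821)) (tt N121347 F527050) (tt N119316 F527055) (tt N118849 (iv3 F527053)) (tt N118927 F527052) (tt N122667 (iv5 F533493)) (tt N108326 (iv6 F527054)) (tt N118848 F527051))
theorem Q121564 : ∀ i, i < 121564 → P i := stepQ 121563 Q121563 (allL N121563 (tt N122249 F531005) (tt N120327 F527058) (tt N122526 (iv2 F532649)) (tt N107592 F527056) (tt N122374 (iv4 F531721)) (tt N107591 (iv5 D224822)) (tt N118566 F527057) (tt N122247 (iv7 F530999)))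
theorem Q121565 : ∀ i, i < 121565 → P i := stepQ 121564 Q121564 (allL N121564 (tt N122679 (iv1 F533563)) (tt N118582 (iv0 F527061)) (tt N122265 (iv2 F531060)) (tt N118566 F527059) (tt N113359 F527060) (tt N121728 (iv5 F527994)) (tt N107592 (iv6 D224823)) (tt N122264 (iv7 F531055)))
theorem Q121566 : ∀ i, i < 121566 → P i := stepQ 121565 Q121565 (allL N121565 (tt N122264 (iv1 F531059)) (tt N122265 (iv0 F531065)) (tt N122679 (iv2 F533558)) (tt N107593 (iv3 D224824)) (tt N122541 (iv4 F532741)) (tt N116642 F527062) (tt N122554 (iv6 F532814)) (tt N118582 F527063))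
theorem Q121567 : ∀ i, i < 121567 → P i := stepQ 121566 Q121566 (allL N121566 (tt N119605 F527067) (tt N115050 F527068) (tt N121264 F527064) (tt N121530 F527069) (tt N107593 (iv4 D224825)) (tt N109865 F527065) (tt N119178 (iv6 F527070)) (tt N118588 F527066))
theorem Q121568 : ∀ i, i < 121568 → P i := stepQ 121567 Q121567 (allL N121567 (tt N122653 F533414) (tt N122619 (iv0 F533212)) (tt N120157 F527071) (tt N122554 (iv3 F532813)) (tt N119178 F527072) (tt N109585 F527073) (tt N107593 (iv6 D224826)) (tt N122557 (iv7 F532834)))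
theorem Q121569 : ∀ i, i < 121569 → P i := stepQ 121568 Q121568 (allL N121568 (tt N119604 (iv1 F527080)) (tt N107594 (iv0 D224827)) (tt N120144 (iv2 F527078)) (tt N113616 F527076) (tt N118624 F527075) (tt N121207 F527074) (tt N114694 F527077) (tt N114067 F527079))
theorem Q121570 : ∀ i, i < 121570 → P i := stepQ 121569 Q121569 (allL N121569 (tt N114067 (iv1 F527084)) (tt N120144 F527085) (tt N119604 F527081) (tt N122275 F531118) (tt N107595 F527082) (tt N109881 F527083) (tt N122595 F533064) (tt N107594 (iv7 D224828)))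
theorem Q121571 : ∀ i, i < 121571 → P i := stepQ 121570 Q121570 (allL N121570 (tt N117875 F527088) (tt N121272 F527089) (tt N122618 (iv2 F533207)) (tt N118569 F527086) (tt N122595 (iv4 F533062)) (tt N119367 F527087) (tt N107595 (iv6 D224829)) (tt N122617 F533201))
theorem Q121572 : ∀ i, i < 121572 → P i := stepQ 121571 Q121571 (allL N121571 (tt N118619 F527093) (tt N118624 F527094) (tt N118623 F527090) (tt N122710 (iv3 F533751)) (tt N120444 F527091) (tt N107598 (iv5 D224830)) (tt N122605 (iv6 F533126)) (tt N108970 F527092))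
theorem Q121573 : ∀ i, i < 121573 → P i := stepQ 121572 Q121572 (allL N121572 (tt N108579 (iv1 F527099)) (tt N107599 (iv0 D224831)) (tt N118485 (iv2 F527098)) (tt N117829 F527097) (tt N110693 F527096) (tt N118524 F527095) (tt N110691 (iv6 F527101)) (tt N117826 F527100))
theorem Q121574 : ∀ i, i < 121574 → P i := stepQ 121573 Q121573 (allL N121573 (tt N118485 (iv1 F527107)) (tt N117826 F527106) (tt N107599 (iv2 D224832)) (tt N117876 F527102) (tt N119915 F527103) (tt N122546 (iv5 F532767)) (tt N119938 F527104) (tt N108579 F527105))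
theorem Q121575 : ∀ i, i < 121575 → P i := stepQ 121574 Q121574 (allL N121574 (tt N121989 (iv1 F529488)) (tt N121990 (iv0 F529494)) (tt N122546 (iv2 F532765)) (tt N107600 F527108) (tt N122431 (iv4 F532060)) (tt N107599 (iv5 D224833)) (tt N122152 (iv6 F530454)) (tt N122650 (iv7 F533397)))
theorem Q121576 : ∀ i, i < 121576 → P i := stepQ 121575 Q121575 (allL N121575 (tt N119603 F527112) (tt N119600 F527113) (tt N121273 F527109) (tt N114610 F527114) (tt N107600 (iv4 D224834)) (tt N109883 F527110) (tt N122512 (iv6 F532574)) (tt N109882 F527111))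
theorem Q121577 : ∀ i, i < 121577 → P i := stepQ 121576 Q121576 (allL N121576 (tt N121635 (iv1 F527465)) (tt N120233 F527118) (tt N111203 F527115) (tt N121780 F528271) (tt N113462 F527117) (tt N107611 (iv5 D224835)) (tt N120237 F527116) (tt N122698 (iv7 F533680)))
theorem Q121578 : ∀ i, i < 121578 → P i := stepQ 121577 Q121577 (allL N121577 (tt N119591 (iv1 F527125)) (tt N107614 (iv0 D224836)) (tt N120237 (iv2 F527122)) (tt N111204 F527121) (tt N117211 F527120) (tt N116892 F527119) (tt N111203 F527123) (tt N120238 F527124))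
theorem Q121579 : ∀ i, i < 121579 → P i := stepQ 121578 Q121578 (allL N121578 (tt N120238 (iv1 F527130)) (tt N120237 F527131) (tt N119591 F527126) (tt N119614 F527127) (tt N121635 (iv4 F527463)) (tt N107615 F527128) (tt N117243 F527129) (tt N107614 (iv7 D224837)))
theorem Q121580 : ∀ i, i < 121580 → P i := stepQ 121579 Q121579 (allL N121579 (tt N113955 F527137) (tt N121343 F527136) (tt N121341 F527132) (tt N107642 F527133) (tt N121911 (iv4 F529019)) (tt N107641 (iv5 D224838)) (tt N114487 F527134) (tt N121338 F527135))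
theorem Q121581 : ∀ i, i < 121581 → P i := stepQ 121580 Q121580 (allL N121580 (tt N110531 F527142) (tt N121439 F527143) (tt N113992 F527138) (tt N117267 F527144) (tt N107642 (iv4 D224839)) (tt N108348 F527139) (tt N117266 F527140) (tt N108347 F527141))
theorem Q121582 : ∀ i, i < 121582 → P i := stepQ 121581 Q121581 (allL N121581 (tt N121342 F527148) (tt N121339 (iv0 F527149)) (tt N121689 (iv2 F527757)) (tt N107644 (iv3 D224840)) (tt N113015 F527145) (tt N113301 F527146) (tt N117187 F527147) (tt N121688 (iv7 F527754)))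
theorem Q121583 : ∀ i, i < 121583 → P i := stepQ 121582 Q121582 (allL N121582 (tt N116254 F527153) (tt N116264 (iv0 F527154)) (tt N113958 F527150) (tt N107645 (iv3 D224841)) (tt N122649 (iv4 F533387)) (tt N114379 F527151) (tt N122528 (iv6 F532662)) (tt N116262 F527152))
theorem Q121584 : ∀ i, i < 121584 → P i := stepQ 121583 Q121583 (allL N121583 (tt N122698 F533682) (tt N111203 F527159) (tt N121635 (iv2 F527459)) (tt N110568 F527155) (tt N119591 F527156) (tt N107657 (iv5 D224842)) (tt N113454 F527157) (tt N120233 F527158))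
theorem Q121585 : ∀ i, i < 121585 → P i := stepQ 121584 Q121584 (allL N121584 (tt N121546 (iv1 F527165)) (tt N121252 (iv0 F527166)) (tt N116950 F527160) (tt N107662 F527161) (tt N121175 F527162) (tt N119940 F527163) (tt N107661 (iv6 D224843)) (tt N113523 F527164))
theorem Q121586 : ∀ i, i < 121586 → P i := stepQ 121585 Q121585 (allL N121585 (tt N119741 (iv1 F527170)) (tt N107662 (iv0 D224844)) (tt N110706 (iv2 F527169)) (tt N113352 F527168) (tt N121944 (iv4 F529218)) (tt N110705 F527167) (tt N117252 (iv6 F527172)) (tt N119738 F527171))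
theorem Q121587 : ∀ i, i < 121587 → P i := stepQ 121586 Q121586 (allL N121586 (tt N121485 F527176) (tt N120234 (iv0 F527177)) (tt N120458 (iv2 F527179)) (tt N107664 (iv3 D224845)) (tt N110011 F527173) (tt N121374 F527174) (tt N112586 F527178) (tt N118777 F527175))
theorem Q121588 : ∀ i, i < 121588 → P i := stepQ 121587 Q121587 (allL N121587 (tt N121993 (iv1 F529513)) (tt N119786 (iv0 F527184)) (tt N110784 F527180) (tt N112586 F527181) (tt N107665 F527182) (tt N119831 F527183) (tt N107664 (iv6 D224846)) (tt N122205 (iv7 F530764)))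
theorem Q121589 : ∀ i, i < 121589 → P i := stepQ 121588 Q121588 (allL N121588 (tt N107665 (iv1 D224847)) (tt N110785 F527185) (tt N110783 F527190) (tt N110002 (iv3 F527191)) (tt N119103 F527187) (tt N110819 (iv5 F527188)) (tt N119925 (iv6 F527189)) (tt N110782 F527186))
theorem Q121590 : ∀ i, i < 121590 → P i := stepQ 121589 Q121589 (allL N121589 (tt N110783 (iv1 F527195)) (tt N110782 F527196) (tt N110785 F527192) (tt N120211 F527193) (tt N122205 (iv4 F530765)) (tt N110629 F527194) (tt N121883 (iv6 F528891)) (tt N107665 (iv7 D224848)))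
theorem Q121591 : ∀ i, i < 121591 → P i := stepQ 121590 Q121590 (allL N121590 (tt N117208 F527200) (tt N119593 F527201) (tt N114896 F527197) (tt N109203 F527202) (tt N107666 (iv4 D224849)) (tt N109198 F527198) (tt N109199 (iv6 F527203)) (tt N110779 F527199))
theorem Q121592 : ∀ i, i < 121592 → P i := stepQ 121591 Q121591 (allL N121591 (tt N112595 F527207) (tt N122000 (iv0 F529559)) (tt N117238 F527204) (tt N107668 F527205) (tt N109199 F527206) (tt N122201 (iv5 F530740)) (tt N107666 (iv6 D224850)) (tt N117239 (iv7 F527208)))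
theorem Q121593 : ∀ i, i < 121593 → P i := stepQ 121592 Q121592 (allL N121592 (tt N119774 F527214) (tt N122727 (iv0 F533866)) (tt N121486 F527209) (tt N107667 (iv3 D224851)) (tt N109203 F527210) (tt N119892 F527211) (tt N109207 F527212) (tt N110786 F527213))
theorem Q121594 : ∀ i, i < 121594 → P i := stepQ 121593 Q121593 (allL N121593 (tt N107668 (iv1 D224852)) (tt N121883 (iv0 F528893)) (tt N121943 (iv2 F529209)) (tt N112520 (iv3 F527218)) (tt N113419 F527217) (tt N120953 F527216) (tt N121514 (iv6 F527219)) (tt N112559 F527215))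
theorem Q121595 : ∀ i, i < 121595 → P i := stepQ 121594 Q121594 (allL N121594 (tt N108755 (iv1 F527224)) (tt N110853 F527225) (tt N108219 F527220) (tt N119876 F527221) (tt N108631 F527222) (tt N107674 F527223) (tt N121663 (iv6 F527616)) (tt N107673 (iv7 D224853)))
theorem Q121596 : ∀ i, i < 121596 → P i := stepQ 121595 Q121595 (allL N121595 (tt N118155 F527231) (tt N119064 (iv0 F527232)) (tt N119062 F527226) (tt N107685 F527227) (tt N118140 F527228) (tt N119063 F527229) (tt N107682 (iv6 D224854)) (tt N119061 F527230))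
theorem Q121597 : ∀ i, i < 121597 → P i := stepQ 121596 Q121596 (allL N121596 (tt N107706 F527238) (tt N116614 (iv0 F527239)) (tt N107788 F527233) (tt N107810 F527234) (tt N113323 F527235) (tt N109307 F527236) (tt N107691 (iv6 D224855)) (tt N115028 F527237))
theorem Q121598 : ∀ i, i < 121598 → P i := stepQ 121597 Q121597 (allL N121597 (tt N115071 (iv1 F527245)) (tt N107694 (iv0 D224856)) (tt N115072 (iv2 F527244)) (tt N108846 F527242) (tt N121450 F527241) (tt N113940 F527240) (tt N113941 F527243) (tt N114934 F527246))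
theorem Q121599 : ∀ i, i < 121599 → P i := stepQ 121598 Q121598 (allL N121598 (tt N107705 (iv1 F527252)) (tt N107698 (iv0 D224857)) (tt N107702 (iv2 F527251)) (tt N118330 F527249) (tt N114012 F527248) (tt N110077 F527247) (tt N116769 F527250) (tt N107703 F527253))
theorem Q121600 : ∀ i, i < 121600 → P i := stepQ 121599 Q121599 (allL N121599 (tt N122091 (iv1 F530106)) (tt N109307 (iv0 F527259)) (tt N119084 F527254) (tt N107711 (iv3 D224858)) (tt N108932 F527255) (tt N116414 F527256) (tt N118304 F527257) (tt N116615 F527258))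
theorem Q121601 : ∀ i, i < 121601 → P i := stepQ 121600 Q121600 (allL N121600 (tt N121821 F528520) (tt N112305 (iv0 F527264)) (tt N116616 F527260) (tt N116701 F527261) (tt N116702 F527262) (tt N121751 (iv5 F528101)) (tt N107712 (iv6 D224859)) (tt N119083 F527263))
theorem Q121602 : ∀ i, i < 121602 → P i := stepQ 121601 Q121601 (allL N121601 (tt N119263 F527269) (tt N119262 F527270) (tt N119254 F527265) (tt N119261 F527266) (tt N107719 (iv4 D224860)) (tt N110663 F527268) (tt N122173 (iv6 F530580)) (tt N107859 F527267))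
theorem Q121603 : ∀ i, i < 121603 → P i := stepQ 121602 Q121602 (allL N121602 (tt N118282 F527275) (tt N118279 (iv0 F527276)) (tt N107865 F527271) (tt N121680 (iv3 F527703)) (tt N107721 F527272) (tt N107848 F527273) (tt N107720 (iv6 D224861)) (tt N118281 F527274))
theorem Q121604 : ∀ i, i < 121604 → P i := stepQ 121603 Q121603 (allL N121603 (tt N111367 F527282) (tt N122677 (iv0 F533549)) (tt N119903 F527277) (tt N116579 F527278) (tt N107790 (iv4 D224862)) (tt N116578 F527281) (tt N117327 F527279) (tt N120436 F527280))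
theorem Q121605 : ∀ i, i < 121605 → P i := stepQ 121604 Q121604 (allL N121604 (tt N110478 F527287) (tt N115006 F527288) (tt N117471 F527283) (tt N109173 F527289) (tt N107793 (iv4 D224863)) (tt N111322 F527284) (tt N120853 F527285) (tt N115387 F527286))
theorem Q121606 : ∀ i, i < 121606 → P i := stepQ 121605 Q121605 (allL N121605 (tt N107806 (iv1 D224864)) (tt N112418 F527290) (tt N121657 (iv2 F527579)) (tt N113078 (iv3 F527293)) (tt N120864 (iv4 F527294)) (tt N117408 F527292) (tt N120863 (iv6 F527295)) (tt N113077 F527291))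
theorem Q121607 : ∀ i, i < 121607 → P i := stepQ 121606 Q121606 (allL N121606 (tt N110447 F527300) (tt N110440 (iv0 F527301)) (tt N110444 F527296) (tt N113220 F527297) (tt N118484 F527298) (tt N122103 (iv5 F530186)) (tt N107808 (iv6 D224865)) (tt N110445 F527299))
theorem Q121608 : ∀ i, i < 121608 → P i := stepQ 121607 Q121607 (allL N121607 (tt N107812 (iv1 D224866)) (tt N107815 F527302) (tt N107814 F527307) (tt N115348 (iv3 F527306)) (tt N108899 F527305) (tt N111839 F527304) (tt N122026 (iv6 F529715)) (tt N107813 F527303))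
theorem Q121609 : ∀ i, i < 121609 → P i := stepQ 121608 Q121608 (allL N121608 (tt N118333 (iv1 F527313)) (tt N118040 F527312) (tt N107831 (iv2 D224867)) (tt N112367 F527308) (tt N114414 F527309) (tt N110185 F527310) (tt N119639 F527314) (tt N117271 F527311))
theorem Q121610 : ∀ i, i < 121610 → P i := stepQ 121609 Q121609 (allL N121609 (tt N119479 F527318) (tt N120896 (iv0 F527319)) (tt N119639 F527315) (tt N107833 F527316) (tt N119640 F527317) (tt N122445 (iv5 F532148)) (tt N107831 (iv6 D224868)) (tt N122502 (iv7 F532513)))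
theorem Q121611 : ∀ i, i < 121611 → P i := stepQ 121610 Q121610 (allL N121610 (tt N119903 F527324) (tt N120436 F527323) (tt N122677 (iv2 F533544)) (tt N119298 F527320) (tt N116587 F527321) (tt N107851 (iv5 D224869)) (tt N122171 F530567) (tt N111367 F527322))
theorem Q121612 : ∀ i, i < 121612 → P i := stepQ 121611 Q121611 (allL N121611 (tt N118284 F527329) (tt N121850 F528695) (tt N121849 (iv2 F528689)) (tt N107860 (iv3 D224870)) (tt N118867 F527325) (tt N110589 F527326) (tt N118555 F527327) (tt N118746 F527328))
theorem Q121613 : ∀ i, i < 121613 → P i := stepQ 121612 Q121612 (allL N121612 (tt N116616 F527334) (tt N119083 (iv0 F527335)) (tt N112305 F527330) (tt N107866 (iv3 D224871)) (tt N115829 F527331) (tt N115668 F527332) (tt N118033 F527333) (tt N121821 (iv7 F528518)))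
theorem Q121614 : ∀ i, i < 121614 → P i := stepQ 121613 Q121613 (allL N121613 (tt N118327 (iv1 F527339)) (tt N107871 (iv0 D224872)) (tt N122648 (iv2 F533379)) (tt N112726 F527337) (tt N119271 F527336) (tt N122295 (iv5 F531248)) (tt N112725 F527338) (tt N122644 (iv7 F533356)))
theorem Q121615 : ∀ i, i < 121615 → P i := stepQ 121614 Q121614 (allL N121614 (tt N122245 F530987) (tt N122638 (iv0 F533323)) (tt N122144 (iv2 F530413)) (tt N119310 F527340) (tt N122142 (iv4 F530405)) (tt N107871 (iv5 D224873)) (tt N119309 F527341) (tt N122666 (iv7 F533487)))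
theorem Q121616 : ∀ i, i < 121616 → P i := stepQ 121615 Q121615 (allL N121615 (tt N122561 (iv1 F532862)) (tt N116605 F527347) (tt N107874 F527342) (tt N117581 F527343) (tt N116494 F527344) (tt N107873 (iv5 D224874)) (tt N117307 F527345) (tt N116492 F527346))
theorem Q121617 : ∀ i, i < 121617 → P i := stepQ 121616 Q121616 (allL N121616 (tt N117094 F527352) (tt N117091 (iv0 F527353)) (tt N117319 (iv2 F527354)) (tt N107875 (iv3 D224875)) (tt N117316 F527348) (tt N118809 F527349) (tt N121220 F527350) (tt N117314 F527351))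
theorem Q121618 : ∀ i, i < 121618 → P i := stepQ 121617 Q121617 (allL N121617 (tt N109577 F527359) (tt N122654 (iv0 F533419)) (tt N110119 F527355) (tt N113275 F527356) (tt N122734 D225993) (tt N107883 (iv5 D224876)) (tt N118854 F527357) (tt N110120 F527358))
theorem Q121619 : ∀ i, i < 121619 → P i := stepQ 121618 Q121618 (allL N121618 (tt N122643 (iv1 F533351)) (tt N122655 (iv0 F533424)) (tt N119309 F527360) (tt N121505 F527361) (tt N120312 F527362) (tt N107893 (iv5 D224877)) (tt N122144 (iv6 F530415)) (tt N122625 (iv7 F533245)))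
theorem Q121620 : ∀ i, i < 121620 → P i := stepQ 121619 Q121619 (allL N121619 (tt N120538 (iv1 F527369)) (tt N112630 F527368) (tt N107927 (iv2 D224878)) (tt N109588 F527363) (tt N119262 F527364) (tt N116830 F527365) (tt N120427 F527366) (tt N118356 F527367))
theorem Q121621 : ∀ i, i < 121621 → P i := stepQ 121620 Q121620 (allL N121620 (tt N107944 (iv1 D224879)) (tt N110754 F527370) (tt N107958 F527376) (tt N112354 (iv3 F527374)) (tt N119847 F527373) (tt N112353 F527372) (tt N112127 (iv6 F527375)) (tt N117087 F527371))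
theorem Q121622 : ∀ i, i < 121622 → P i := stepQ 121621 Q121621 (allL N121621 (tt N121525 (iv1 F527380)) (tt N107972 (iv0 D224880)) (tt N120486 (iv2 F527381)) (tt N116267 (iv3 F527382)) (tt N120361 F527378) (tt N114677 F527377) (tt N113982 F527379) (tt N108430 (iv7 F527383)))
theorem Q121623 : ∀ i, i < 121623 → P i := stepQ 121622 Q121622 (allL N121622 (tt N107972 (iv1 D224881)) (tt N121525 F527384) (tt N108430 F527389) (tt N108002 (iv3 F527387)) (tt N120301 F527390) (tt N119032 F527386) (tt N108387 (iv6 F527388)) (tt N120486 F527385))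
theorem Q121624 : ∀ i, i < 121624 → P i := stepQ 121623 Q121623 (allL N121623 (tt N117220 F527395) (tt N113006 F527396) (tt N121524 F527391) (tt N117246 F527392) (tt N107972 (iv4 D224882)) (tt N113474 F527393) (tt N119981 F527394) (tt N121830 (iv7 F528577)))
theorem Q121625 : ∀ i, i < 121625 → P i := stepQ 121624 Q121624 (allL N121624 (tt N109118 F527402) (tt N109107 F527403) (tt N119638 F527397) (tt N119065 F527398) (tt N107982 (iv4 D224883)) (tt N109161 F527399) (tt N119632 F527400) (tt N119679 F527401))
theorem Q121626 : ∀ i, i < 121626 → P i := stepQ 121625 Q121625 (allL N121625 (tt N121503 F527409) (tt N119962 F527410) (tt N120488 F527404) (tt N110884 F527405) (tt N108001 (iv4 D224884)) (tt N121085 F527406) (tt N119976 F527407) (tt N119969 F527408))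
theorem Q121627 : ∀ i, i < 121627 → P i := stepQ 121626 Q121626 (allL N121626 (tt N119829 F527414) (tt N119830 F527415) (tt N121280 F527411) (tt N122735 D225994) (tt N108007 (iv4 D224885)) (tt N121998 (iv5 F529544)) (tt N119704 F527412) (tt N121281 F527413))
theorem Q121628 : ∀ i, i < 121628 → P i := stepQ 121627 Q121627 (allL N121627 (tt N112572 F527420) (tt N112571 F527421) (tt N112574 F527416) (tt N122600 (iv3 F533092)) (tt N108009 (iv4 D224886)) (tt N109976 F527417) (tt N112569 F527418) (tt N112521 F527419))
theorem Q121629 : ∀ i, i < 121629 → P i := stepQ 121628 Q121628 (allL N121628 (tt N120458 F527426) (tt N118777 F527427) (tt N120234 F527422) (tt N122727 (iv3 F533862)) (tt N108010 (iv4 D224887)) (tt N120196 F527425) (tt N118230 F527423) (tt N121485 F527424))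
theorem Q121630 : ∀ i, i < 121630 → P i := stepQ 121629 Q121629 (allL N121629 (tt N118777 F527432) (tt N120458 F527433) (tt N121485 F527428) (tt N120231 F527429) (tt N108011 (iv4 D224888)) (tt N121859 (iv5 F528749)) (tt N112618 F527430) (tt N120234 F527431))
theorem Q121631 : ∀ i, i < 121631 → P i := stepQ 121630 Q121630 (allL N121630 (tt N122732 F533902) (tt N122732 (iv0 F533901)) (tt N122736 D225995) (tt N108012 (iv3 D224889)) (tt N122735 (iv4 F533918)) (tt N122591 (iv5 F533037)) (tt N119980 F527434) (tt N122736 F533927))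
theorem Q121632 : ∀ i, i < 121632 → P i := stepQ 121631 Q121631 (allL N121631 (tt N109836 (iv1 F527438)) (tt N119824 F527439) (tt N121512 F527435) (tt N122736 (iv3 F533924)) (tt N108013 F527436) (tt N121857 (iv5 F528735)) (tt N112590 F527437) (tt N108012 (iv7 D224890)))
theorem Q121633 : ∀ i, i < 121633 → P i := stepQ 121632 Q121632 (allL N121632 (tt N121765 (iv1 F528177)) (tt N120160 F527445) (tt N117778 F527440) (tt N117846 F527441) (tt N113283 F527442) (tt N108024 (iv5 D224891)) (tt N108025 F527443) (tt N113281 F527444))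
theorem Q121634 : ∀ i, i < 121634 → P i := stepQ 121633 Q121633 (allL N121633 (tt N117260 F527450) (tt N120299 (iv0 F527451)) (tt N122266 F531070) (tt N108033 (iv3 D224892)) (tt N112591 F527446) (tt N111961 F527447) (tt N120309 F527448) (tt N121106 F527449))
theorem Q121635 : ∀ i, i < 121635 → P i := stepQ 121634 Q121634 (allL N121634 (tt N119854 (iv1 F527457)) (tt N117908 F527458) (tt N117788 F527452) (tt N108052 F527453) (tt N119935 F527454) (tt N108044 F527455) (tt N108051 F527456) (tt N108043 (iv7 D224893)))
theorem Q121636 : ∀ i, i < 121636 → P i := stepQ 121635 Q121635 (allL N121635 (tt N120175 F527464) (tt N121576 F527465) (tt N121583 F527459) (tt N110515 F527460) (tt N121578 F527463) (tt N108074 (iv5 D224894)) (tt N108075 F527461) (tt N121352 F527462))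
theorem Q121637 : ∀ i, i < 121637 → P i := stepQ 121636 Q121636 (allL N121636 (tt N122431 (iv1 F532062)) (tt N122430 (iv0 F532057)) (tt N122512 (iv2 F532571)) (tt N121274 F527466) (tt N121394 F527468) (tt N108086 (iv5 D224895)) (tt N121273 F527467) (tt N122547 (iv7 F532776)))
theorem Q121638 : ∀ i, i < 121638 → P i := stepQ 121637 Q121637 (allL N121637 (tt N122586 F533007) (tt N110802 (iv0 F527472)) (tt N119098 F527469) (tt N122647 (iv3 F533373)) (tt N108089 F527470) (tt N122547 (iv5 F532771)) (tt N121544 F527471) (tt N108086 (iv7 D224896)))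
theorem Q121639 : ∀ i, i < 121639 → P i := stepQ 121638 Q121638 (allL N121638 (tt N108615 F527477) (tt N118824 (iv0 F527478)) (tt N108097 F527473) (tt N108135 F527474) (tt N121703 (iv4 F527847)) (tt N108092 (iv5 D224897)) (tt N108094 F527475) (tt N112303 F527476))
theorem Q121640 : ∀ i, i < 121640 → P i := stepQ 121639 Q121639 (allL N121639 (tt N119197 F527482) (tt N122107 (iv0 F530211)) (tt N115895 F527479) (tt N120560 F527480) (tt N122448 (iv4 F532168)) (tt N111067 F527481) (tt N108100 (iv6 D224898)) (tt N119127 F527483))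
theorem Q121641 : ∀ i, i < 121641 → P i := stepQ 121640 Q121640 (allL N121640 (tt N117936 F527488) (tt N117934 F527489) (tt N121752 (iv2 F528106)) (tt N119518 F527484) (tt N108107 (iv4 D224899)) (tt N114356 F527487) (tt N108893 F527485) (tt N108193 F527486))
theorem Q121642 : ∀ i, i < 121642 → P i := stepQ 121641 Q121641 (allL N121641 (tt N122423 (iv1 F532021)) (tt N112213 (iv0 F527494)) (tt N122473 (iv2 F532327)) (tt N108112 (iv3 D224900)) (tt N112251 F527490) (tt N116765 F527491) (tt N118256 F527492) (tt N108204 F527493))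
theorem Q121643 : ∀ i, i < 121643 → P i := stepQ 121642 Q121642 (allL N121642 (tt N108114 (iv1 D224901)) (tt N117051 F527495) (tt N117468 F527500) (tt N121732 (iv3 F528015)) (tt N116004 F527498) (tt N117591 F527497) (tt N118717 (iv6 F527499)) (tt N115887 F527496))
theorem Q121644 : ∀ i, i < 121644 → P i := stepQ 121643 Q121643 (allL N121643 (tt N108163 F527504) (tt N115675 F527505) (tt N121949 F529244) (tt N115673 F527501) (tt N118915 F527503) (tt N108133 (iv5 D224902)) (tt N118914 F527502) (tt N121950 (iv7 F529248)))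
theorem Q121645 : ∀ i, i < 121645 → P i := stepQ 121644 Q121644 (allL N121644 (tt N108137 (iv1 F527510)) (tt N108153 F527511) (tt N108152 F527506) (tt N117599 F527507) (tt N117855 F527508) (tt N121950 (iv5 F529249)) (tt N118306 F527509) (tt N108133 (iv7 D224903)))
theorem Q121646 : ∀ i, i < 121646 → P i := stepQ 121645 Q121645 (allL N121645 (tt N117201 F527516) (tt N122103 (iv0 F530188)) (tt N120559 F527512) (tt N108138 F527513) (tt N122579 (iv4 F532957)) (tt N108137 (iv5 D224904)) (tt N111013 F527514) (tt N108155 F527515))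
theorem Q121647 : ∀ i, i < 121647 → P i := stepQ 121646 Q121646 (allL N121646 (tt N116037 F527521) (tt N121909 (iv0 F529009)) (tt N119221 F527517) (tt N121159 F527518) (tt N122479 (iv4 F532372)) (tt N110889 F527519) (tt N108147 (iv6 D224905)) (tt N119220 F527520))
theorem Q121648 : ∀ i, i < 121648 → P i := stepQ 121647 Q121647 (allL N121647 (tt N111388 F527526) (tt N120774 (iv0 F527527)) (tt N121411 F527522) (tt N114559 F527523) (tt N114162 F527524) (tt N114558 F527525) (tt N108148 (iv6 D224906)) (tt N121820 (iv7 F528509)))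
theorem Q121649 : ∀ i, i < 121649 → P i := stepQ 121648 Q121648 (allL N121648 (tt N115675 F527531) (tt N108163 F527532) (tt N121950 (iv2 F529253)) (tt N108189 F527528) (tt N115532 F527529) (tt N108152 (iv5 D224907)) (tt N115531 F527530) (tt N121949 F529246))
theorem Q121650 : ∀ i, i < 121650 → P i := stepQ 121649 Q121649 (allL N121649 (tt N122103 F530189) (tt N117201 F527537) (tt N108155 F527533) (tt N112105 F527534) (tt N121721 (iv4 F527947)) (tt N108153 (iv5 D224908)) (tt N112104 F527535) (tt N120559 F527536))
theorem Q121651 : ∀ i, i < 121651 → P i := stepQ 121650 Q121650 (allL N121650 (tt N119266 F527542) (tt N120739 F527544) (tt N117879 F527538) (tt N117925 F527539) (tt N116465 F527543) (tt N108154 (iv5 D224909)) (tt N108572 F527540) (tt N117184 F527541))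
theorem Q121652 : ∀ i, i < 121652 → P i := stepQ 121651 Q121651 (allL N121651 (tt N120559 (iv1 F527548)) (tt N108155 (iv0 D224910)) (tt N122103 (iv2 F530183)) (tt N108192 F527547) (tt N118925 F527546) (tt N110444 F527545) (tt N122080 (iv6 F530041)) (tt N117201 (iv7 F527549)))
theorem Q121653 : ∀ i, i < 121653 → P i := stepQ 121652 Q121652 (allL N121652 (tt N108155 (iv1 D224911)) (tt N120559 F527550) (tt N117201 F527554) (tt N115898 (iv3 F527552)) (tt N112259 F527555) (tt N110445 F527551) (tt N112258 (iv6 F527553)) (tt N122103 (iv7 F530187)))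
theorem Q121654 : ∀ i, i < 121654 → P i := stepQ 121653 Q121653 (allL N121653 (tt N121674 (iv1 F527669)) (tt N121410 F527559) (tt N121721 (iv2 F527945)) (tt N111511 F527556) (tt N108155 (iv4 D224912)) (tt N114108 F527558) (tt N119240 F527557) (tt N122579 (iv7 F532962)))
theorem Q121655 : ∀ i, i < 121655 → P i := stepQ 121654 Q121654 (allL N121654 (tt N108159 (iv1 D224913)) (tt N112105 F527560) (tt N112307 F527566) (tt N108184 (iv3 F527564)) (tt N115879 F527563) (tt N116967 F527562) (tt N119197 (iv6 F527565)) (tt N112308 F527561))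
theorem Q121656 : ∀ i, i < 121656 → P i := stepQ 121655 Q121655 (allL N121655 (tt N121950 (iv1 F529247)) (tt N121949 F529243) (tt N108163 (iv2 D224914)) (tt N115678 F527567) (tt N115871 F527568) (tt N118285 F527569) (tt N115674 F527570) (tt N115675 F527571))
theorem Q121657 : ∀ i, i < 121657 → P i := stepQ 121656 Q121656 (allL N121656 (tt N108166 (iv1 D224915)) (tt N112302 F527572) (tt N119223 F527577) (tt N115667 F527578) (tt N118400 F527575) (tt N108967 F527574) (tt N119216 (iv6 F527576)) (tt N117532 F527573))
theorem Q121658 : ∀ i, i < 121658 → P i := stepQ 121657 Q121657 (allL N121657 (tt N117644 F527583) (tt N118811 (iv0 F527585)) (tt N121605 F527579) (tt N108168 (iv3 D224916)) (tt N121000 F527584) (tt N112826 F527580) (tt N114589 F527581) (tt N121137 F527582))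
theorem Q121659 : ∀ i, i < 121659 → P i := stepQ 121658 Q121658 (allL N121658 (tt N108316 F527591) (tt N108308 F527592) (tt N108315 F527586) (tt N108171 F527587) (tt N118329 F527588) (tt N108170 (iv5 D224917)) (tt N118590 F527589) (tt N108311 F527590))
theorem Q121660 : ∀ i, i < 121660 → P i := stepQ 121659 Q121659 (allL N121659 (tt N120810 F527598) (tt N122386 (iv0 F531791)) (tt N119518 F527593) (tt N108893 F527594) (tt N108173 (iv4 D224918)) (tt N119420 F527595) (tt N119518 F527596) (tt N119419 F527597))
theorem Q121661 : ∀ i, i < 121661 → P i := stepQ 121660 Q121660 (allL N121660 (tt N122471 (iv1 F532318)) (tt N122384 (iv0 F531779)) (tt N122115 (iv2 F530259)) (tt N108854 F527599) (tt N108174 (iv4 D224919)) (tt N120800 F527602) (tt N108854 F527600) (tt N118186 F527601))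
theorem Q121662 : ∀ i, i < 121662 → P i := stepQ 121661 Q121661 (allL N121661 (tt N108177 (iv1 D224920)) (tt N121677 (iv0 F527687)) (tt N122474 (iv2 F532334)) (tt N108203 (iv3 F527606)) (tt N117154 F527604) (tt N117275 F527605) (tt N108202 (iv6 F527607)) (tt N118732 F527603))
theorem Q121663 : ∀ i, i < 121663 → P i := stepQ 121662 Q121662 (allL N121662 (tt N116971 F527612) (tt N122066 F529960) (tt N117544 F527608) (tt N108178 F527609) (tt N121890 (iv4 F528931)) (tt N108177 (iv5 D224921)) (tt N117543 F527610) (tt N118344 F527611))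
theorem Q121664 : ∀ i, i < 121664 → P i := stepQ 121663 Q121663 (allL N121663 (tt N122474 F532340) (tt N118732 (iv0 F527617)) (tt N121677 (iv2 F527682)) (tt N108179 F527613) (tt N119243 F527614) (tt N118344 F527615) (tt N121594 F527616) (tt N108177 (iv7 D224922)))
theorem Q121665 : ∀ i, i < 121665 → P i := stepQ 121664 Q121664 (allL N121664 (tt N122012 (iv1 F529632)) (tt N122574 F532930) (tt N122504 (iv2 F532522)) (tt N109519 F527618) (tt N110687 F527619) (tt N108181 (iv5 D224923)) (tt N109520 F527620) (tt N122570 (iv7 F532907)))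
theorem Q121666 : ∀ i, i < 121666 → P i := stepQ 121665 Q121665 (allL N121665 (tt N117934 F527625) (tt N117936 F527626) (tt N108193 F527621) (tt N108894 F527622) (tt N108190 (iv4 D224924)) (tt N118017 F527623) (tt N120239 F527624) (tt N121752 (iv7 F528109)))
theorem Q121667 : ∀ i, i < 121667 → P i := stepQ 121666 Q121666 (allL N121666 (tt N122240 (iv1 F530958)) (tt N122635 (iv0 F533305)) (tt N120239 F527627) (tt N122670 (iv3 F533509)) (tt N108194 F527628) (tt N119587 F527629) (tt N108193 (iv6 D224925)) (tt N119199 F527630))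
theorem Q121668 : ∀ i, i < 121668 → P i := stepQ 121667 Q121667 (allL N121667 (tt N119141 F527635) (tt N119141 (iv0 F527636)) (tt N108199 F527631) (tt N108201 F527632) (tt N122629 (iv4 F533266)) (tt N121060 F527633) (tt N108197 (iv6 D224926)) (tt N108199 F527634))
theorem Q121669 : ∀ i, i < 121669 → P i := stepQ 121668 Q121668 (allL N121668 (tt N122384 F531780) (tt N122471 F532319) (tt N118186 F527637) (tt N108198 (iv3 D224927)) (tt N108200 F527638) (tt N120753 F527639) (tt N118741 (iv6 F527640)) (tt N122115 (iv7 F530263)))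
theorem Q121670 : ∀ i, i < 121670 → P i := stepQ 121669 Q121669 (allL N121669 (tt N122729 F533881) (tt N122729 (iv0 F533880)) (tt N122629 (iv2 F533264)) (tt N118741 F527641) (tt N108199 F527642) (tt N122668 (iv5 F533500)) (tt N108198 (iv6 D224928)) (tt N122629 (iv7 F533268)))
theorem Q121671 : ∀ i, i < 121671 → P i := stepQ 121670 Q121670 (allL N121670 (tt N108199 (iv1 F527646)) (tt N108199 (iv0 D224929)) (tt N119141 (iv2 F527647)) (tt N120562 F527643) (tt N122737 D225996) (tt N119137 F527644) (tt N118178 F527645) (tt N119141 (iv7 F527648)))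
theorem Q121672 : ∀ i, i < 121672 → P i := stepQ 121671 Q121671 (allL N121671 (tt N108204 (iv1 D224930)) (tt N122473 (iv0 F532331)) (tt N122423 (iv2 F532015)) (tt N114639 (iv3 F527652)) (tt N108614 F527651) (tt N114609 F527650) (tt N116692 (iv6 F527653)) (tt N112213 F527649))
theorem Q121673 : ∀ i, i < 121673 → P i := stepQ 121672 Q121672 (allL N121672 (tt N112213 F527658) (tt N122423 (iv0 F532020)) (tt N108204 (iv2 D224931)) (tt N115958 F527654) (tt N112252 F527655) (tt N111046 F527656) (tt N111048 F527657) (tt N122473 (iv7 F532330)))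
theorem Q121674 : ∀ i, i < 121674 → P i := stepQ 121673 Q121673 (allL N121673 (tt N115631 F527662) (tt N113910 F527663) (tt N122123 (iv2 F530304)) (tt N115444 F527659) (tt N108211 (iv4 D224932)) (tt N113831 F527660) (tt N122642 (iv6 F533342)) (tt N113830 F527661))
theorem Q121675 : ∀ i, i < 121675 → P i := stepQ 121674 Q121674 (allL N121674 (tt N122394 (iv1 F531837)) (tt N121653 F527669) (tt N117034 F527664) (tt N114145 F527665) (tt N108215 (iv4 D224933)) (tt N114144 F527666) (tt N111418 F527667) (tt N118965 F527668))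
theorem Q121676 : ∀ i, i < 121676 → P i := stepQ 121675 Q121675 (allL N121675 (tt N111404 F527674) (tt N111413 (iv0 F527675)) (tt N111412 F527670) (tt N108216 (iv3 D224934)) (tt N108590 F527671) (tt N122571 (iv5 F532911)) (tt N119466 F527672) (tt N111411 F527673))
theorem Q121677 : ∀ i, i < 121677 → P i := stepQ 121676 Q121676 (allL N121676 (tt N118397 F527680) (tt N111554 F527681) (tt N118398 F527676) (tt N122571 F532913) (tt N108714 F527677) (tt N108216 (iv5 D224935)) (tt N118796 F527678) (tt N118276 F527679))
theorem Q121678 : ∀ i, i < 121678 → P i := stepQ 121677 Q121677 (allL N121677 (tt N121661 F527687) (tt N120512 (iv0 F527688)) (tt N121663 F527682) (tt N119052 F527683) (tt N108588 F527684) (tt N117330 F527685) (tt N108219 (iv6 D224936)) (tt N118859 F527686))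
theorem Q121679 : ∀ i, i < 121679 → P i := stepQ 121678 Q121678 (allL N121678 (tt N115546 F527694) (tt N115545 (iv0 F527695)) (tt N115547 F527689) (tt N108223 (iv3 D224937)) (tt N108224 F527690) (tt N117112 F527691) (tt N112272 F527692) (tt N115540 F527693))
theorem Q121680 : ∀ i, i < 121680 → P i := stepQ 121679 Q121679 (allL N121679 (tt N118723 F527700) (tt N118722 (iv0 F527701)) (tt N118724 F527696) (tt N118919 F527697) (tt N122094 (iv4 F530123)) (tt N117555 F527698) (tt N108236 (iv6 D224938)) (tt N118716 F527699))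
theorem Q121681 : ∀ i, i < 121681 → P i := stepQ 121680 Q121680 (allL N121680 (tt N121314 F527707) (tt N122181 (iv0 F530634)) (tt N121123 F527702) (tt N121602 F527703) (tt N119745 F527704) (tt N108305 (iv5 D224939)) (tt N108306 F527705) (tt N121186 F527706))
theorem Q121682 : ∀ i, i < 121682 → P i := stepQ 121681 Q121681 (allL N121681 (tt N120780 F527712) (tt N119012 (iv0 F527713)) (tt N108317 F527708) (tt N119165 F527709) (tt N115061 F527710) (tt N119186 F527711) (tt N108316 (iv6 D224940)) (tt N121818 (iv7 F528499)))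
theorem Q121683 : ∀ i, i < 121683 → P i := stepQ 121682 Q121682 (allL N121682 (tt N108367 (iv1 D224941)) (tt N112909 (iv0 F527719)) (tt N119169 F527718) (tt N119227 (iv3 F527716)) (tt N120432 F527715) (tt N119226 F527714) (tt N119548 (iv6 F527717)) (tt N122364 (iv7 F531656)))
theorem Q121684 : ∀ i, i < 121684 → P i := stepQ 121683 Q121683 (allL N121683 (tt N122364 (iv1 F531658)) (tt N119169 F527725) (tt N108367 (iv2 D224942)) (tt N112911 F527720) (tt N113250 F527721) (tt N113251 F527722) (tt N113105 F527723) (tt N112909 F527724))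
theorem Q121685 : ∀ i, i < 121685 → P i := stepQ 121684 Q121684 (allL N121684 (tt N120119 F527731) (tt N120117 (iv0 F527732)) (tt N117095 F527726) (tt N108379 (iv3 D224943)) (tt N110113 F527727) (tt N110096 F527728) (tt N117092 F527729) (tt N108406 F527730))
theorem Q121686 : ∀ i, i < 121686 → P i := stepQ 121685 Q121685 (allL N121685 (tt N114032 F527737) (tt N114037 (iv0 F527738)) (tt N114036 F527733) (tt N112164 F527734) (tt N112167 F527735) (tt N122378 (iv5 F531741)) (tt N108395 (iv6 D224944)) (tt N114035 F527736))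
theorem Q121687 : ∀ i, i < 121687 → P i := stepQ 121686 Q121686 (allL N121686 (tt N108423 F527743) (tt N109675 F527744) (tt N109734 F527739) (tt N110992 F527740) (tt N121335 F527742) (tt N108396 (iv5 D224945)) (tt N111827 F527741) (tt N121829 (iv7 F528568)))
theorem Q121688 : ∀ i, i < 121688 → P i := stepQ 121687 Q121687 (allL N121687 (tt N121911 (iv1 F529017)) (tt N113984 F527750) (tt N121526 F527745) (tt N108462 F527746) (tt N108403 (iv4 D224946)) (tt N108455 F527749) (tt N108456 F527747) (tt N116726 F527748))
theorem Q121689 : ∀ i, i < 121689 → P i := stepQ 121688 Q121688 (allL N121688 (tt N121690 (iv1 F527769)) (tt N110156 F527756) (tt N116815 F527751) (tt N110534 F527752) (tt N116295 F527755) (tt N108405 (iv5 D224947)) (tt N110321 F527753) (tt N121581 F527754))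
theorem Q121690 : ∀ i, i < 121690 → P i := stepQ 121689 Q121689 (allL N121689 (tt N110156 F527762) (tt N121690 (iv0 F527768)) (tt N121581 F527757) (tt N120133 F527758) (tt N116296 F527759) (tt N108407 (iv5 D224948)) (tt N120132 F527760) (tt N116815 F527761))
theorem Q121691 : ∀ i, i < 121691 → P i := stepQ 121690 Q121690 (allL N121690 (tt N121689 F527768) (tt N121688 F527769) (tt N121339 F527763) (tt N113897 F527764) (tt N108410 (iv4 D224949)) (tt N121337 F527767) (tt N113987 F527765) (tt N121342 F527766))
theorem Q121692 : ∀ i, i < 121692 → P i := stepQ 121691 Q121691 (allL N121691 (tt N109675 F527774) (tt N108423 F527775) (tt N121829 (iv2 F528572)) (tt N113935 F527770) (tt N121336 F527771) (tt N108413 (iv5 D224950)) (tt N117220 F527772) (tt N109734 F527773))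
theorem Q121693 : ∀ i, i < 121693 → P i := stepQ 121692 Q121692 (allL N121692 (tt N116317 (iv1 F527781)) (tt N116316 F527780) (tt N109405 F527776) (tt N122058 (iv3 F529906)) (tt N112759 F527777) (tt N108419 (iv5 D224951)) (tt N108420 F527778) (tt N114664 F527779))
theorem Q121694 : ∀ i, i < 121694 → P i := stepQ 121693 Q121693 (allL N121693 (tt N120360 (iv1 F527786)) (tt N119991 F527787) (tt N116318 F527782) (tt N110175 F527783) (tt N112945 F527784) (tt N114664 F527785) (tt N121958 (iv6 F529298)) (tt N108419 (iv7 D224952)))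
theorem Q121695 : ∀ i, i < 121695 → P i := stepQ 121694 Q121694 (allL N121694 (tt N120362 F527793) (tt N120287 (iv0 F527794)) (tt N120301 F527788) (tt N113485 F527789) (tt N108430 F527790) (tt N109637 F527791) (tt N108429 (iv6 D224953)) (tt N120361 F527792))
theorem Q121696 : ∀ i, i < 121696 → P i := stepQ 121695 Q121695 (allL N121695 (tt N120220 F527798) (tt N119758 (iv0 F527799)) (tt N120225 F527795) (tt N108460 F527796) (tt N122046 (iv4 F529831)) (tt N121996 (iv5 F529529)) (tt N108459 (iv6 D224954)) (tt N120224 F527797))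
theorem Q121697 : ∀ i, i < 121697 → P i := stepQ 121696 Q121696 (allL N121696 (tt N112545 F527803) (tt N117372 F527804) (tt N113386 F527800) (tt N121996 F529535) (tt N113192 F527801) (tt N108460 (iv5 D224955)) (tt N122603 (iv6 F533113)) (tt N113383 F527802))
theorem Q121698 : ∀ i, i < 121698 → P i := stepQ 121697 Q121697 (allL N121697 (tt N117562 F527810) (tt N108476 (iv0 F527811)) (tt N117563 F527805) (tt N118868 F527806) (tt N108952 F527807) (tt N115858 F527808) (tt N108474 (iv6 D224956)) (tt N115005 F527809))
theorem Q121699 : ∀ i, i < 121699 → P i := stepQ 121698 Q121698 (allL N121698 (tt N108639 (iv1 F527817)) (tt N108647 F527818) (tt N108648 F527812) (tt N110952 F527813) (tt N120794 F527814) (tt N108620 F527815) (tt N108645 F527816) (tt N108491 (iv7 D224957)))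
theorem Q121700 : ∀ i, i < 121700 → P i := stepQ 121699 Q121699 (allL N121699 (tt N122098 F530154) (tt N115502 F527824) (tt N108505 F527819) (tt N111058 F527820) (tt N108532 F527821) (tt N108495 (iv5 D224958)) (tt N108531 F527822) (tt N108503 F527823))
theorem Q121701 : ∀ i, i < 121701 → P i := stepQ 121700 Q121700 (allL N121700 (tt N108736 (iv1 F527830)) (tt N108501 (iv0 D224959)) (tt N108738 (iv2 F527829)) (tt N108521 F527827) (tt N109316 F527826) (tt N111904 F527825) (tt N120779 F527828) (tt N108735 F527831))
theorem Q121702 : ∀ i, i < 121702 → P i := stepQ 121701 Q121701 (allL N121701 (tt N114224 F527837) (tt N114182 F527838) (tt N114179 F527832) (tt N114218 F527833) (tt N108507 (iv4 D224960)) (tt N117186 F527834) (tt N108595 F527835) (tt N114225 F527836))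
theorem Q121703 : ∀ i, i < 121703 → P i := stepQ 121702 Q121702 (allL N121702 (tt N111776 F527843) (tt N118618 (iv0 F527844)) (tt N117624 F527839) (tt N111055 F527840) (tt N117623 F527841) (tt N111629 F527842) (tt N108512 (iv6 D224961)) (tt N122125 (iv7 F530316)))
theorem Q121704 : ∀ i, i < 121704 → P i := stepQ 121703 Q121703 (allL N121703 (tt N112252 F527850) (tt N112251 F527851) (tt N112253 F527845) (tt N108520 F527846) (tt N121638 F527847) (tt N116456 F527848) (tt N108518 (iv6 D224962)) (tt N112093 F527849))
theorem Q121705 : ∀ i, i < 121705 → P i := stepQ 121704 Q121704 (allL N121704 (tt N117462 F527857) (tt N115635 (iv0 F527858)) (tt N118858 F527852) (tt N116003 F527853) (tt N108520 F527854) (tt N118311 F527855) (tt N108519 (iv6 D224963)) (tt N108624 F527856))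
theorem Q121706 : ∀ i, i < 121706 → P i := stepQ 121705 Q121705 (allL N121705 (tt N108529 (iv1 D224964)) (tt N115497 F527859) (tt N112268 F527863) (tt N122094 (iv3 F530122)) (tt N110973 F527861) (tt N114135 F527860) (tt N110972 (iv6 F527862)) (tt N122397 (iv7 F531855)))
theorem Q121707 : ∀ i, i < 121707 → P i := stepQ 121706 Q121706 (allL N121706 (tt N116934 F527870) (tt N116932 F527869) (tt N116575 F527864) (tt N119848 F527865) (tt N112127 F527866) (tt N108534 (iv5 D224965)) (tt N119847 F527867) (tt N116577 F527868))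
theorem Q121708 : ∀ i, i < 121708 → P i := stepQ 121707 Q121707 (allL N121707 (tt N108537 (iv1 F527876)) (tt N108536 F527877) (tt N108539 F527871) (tt N110698 F527872) (tt N108546 F527873) (tt N121489 F527874) (tt N119744 F527875) (tt N108535 (iv7 D224966)))
theorem Q121709 : ∀ i, i < 121709 → P i := stepQ 121708 Q121708 (allL N121708 (tt N121489 (iv1 F527882)) (tt N108538 (iv0 D224967)) (tt N121549 (iv2 F527881)) (tt N113386 F527879) (tt N113520 F527878) (tt N122602 (iv5 F533105)) (tt N120221 F527880) (tt N113518 F527883))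
theorem Q121710 : ∀ i, i < 121710 → P i := stepQ 121709 Q121709 (allL N121709 (tt N110684 F527889) (tt N110686 (iv0 F527890)) (tt N119832 F527884) (tt N108542 (iv3 D224968)) (tt N110675 F527885) (tt N119687 F527886) (tt N109825 F527887) (tt N113347 F527888))
theorem Q121711 : ∀ i, i < 121711 → P i := stepQ 121710 Q121710 (allL N121710 (tt N115381 F527896) (tt N122184 (iv0 F530652)) (tt N108551 F527891) (tt N118982 F527892) (tt N120935 F527895) (tt N108543 (iv5 D224969)) (tt N108545 F527893) (tt N120932 F527894))
theorem Q121712 : ∀ i, i < 121712 → P i := stepQ 121711 Q121711 (allL N121711 (tt N108560 (iv1 F527899)) (tt N108545 (iv0 D224970)) (tt N108557 (iv2 F527898)) (tt N108753 (iv3 F527901)) (tt N122580 (iv4 F532964)) (tt N119258 F527897) (tt N112254 (iv6 F527902)) (tt N108558 F527900))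
theorem Q121713 : ∀ i, i < 121713 → P i := stepQ 121712 Q121712 (allL N121712 (tt N121073 F527905) (tt N122192 F530694) (tt N113680 F527903) (tt N121733 (iv3 F528019)) (tt N122150 (iv4 F530445)) (tt N108550 (iv5 D224971)) (tt N119340 F527904) (tt N122191 (iv7 F530687)))
theorem Q121714 : ∀ i, i < 121714 → P i := stepQ 121713 Q121713 (allL N121713 (tt N120934 F527909) (tt N120933 (iv0 F527912)) (tt N120935 F527906) (tt N121202 F527910) (tt N108551 (iv4 D224972)) (tt N118802 F527907) (tt N108559 F527908) (tt N120678 F527911))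
theorem Q121715 : ∀ i, i < 121715 → P i := stepQ 121714 Q121714 (allL N121714 (tt N122184 (iv1 F530653)) (tt N115381 (iv0 F527918)) (tt N120932 F527913) (tt N108567 F527914) (tt N120678 F527915) (tt N108552 F527916) (tt N116024 F527917) (tt N108551 (iv7 D224973)))
theorem Q121716 : ∀ i, i < 121716 → P i := stepQ 121715 Q121715 (allL N121715 (tt N108556 (iv1 F527922)) (tt N108554 (iv0 D224974)) (tt N119348 (iv2 F527921)) (tt N115858 F527920) (tt N122523 (iv4 F532631)) (tt N118868 F527919) (tt N111819 (iv6 F527924)) (tt N115853 F527923))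
theorem Q121717 : ∀ i, i < 121717 → P i := stepQ 121716 Q121716 (allL N121716 (tt N120762 F527927) (tt N120672 F527928) (tt N121027 F527925) (tt N122113 (iv3 F530247)) (tt N108558 (iv4 D224975)) (tt N121024 F527926) (tt N122697 (iv6 F533673)) (tt N122580 (iv7 F532966)))
theorem Q121718 : ∀ i, i < 121718 → P i := stepQ 121717 Q121717 (allL N121717 (tt N116055 F527933) (tt N116057 (iv0 F527934)) (tt N121063 F527929) (tt N108566 (iv3 D224976)) (tt N121202 F527930) (tt N115623 F527931) (tt N108570 F527932) (tt N122469 (iv7 F532306)))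
theorem Q121719 : ∀ i, i < 121719 → P i := stepQ 121718 Q121718 (allL N121718 (tt N122623 (iv1 F533234)) (tt N119368 F527936) (tt N108581 F527935) (tt N122302 F531288) (tt N122166 (iv4 F530536)) (tt N108575 (iv5 D224977)) (tt N122650 (iv6 F533394)) (tt N122548 (iv7 F532783)))
theorem Q121720 : ∀ i, i < 121720 → P i := stepQ 121719 Q121719 (allL N121719 (tt N121990 (iv1 F529495)) (tt N121989 (iv0 F529487)) (tt N122650 F533395) (tt N117875 F527937) (tt N122430 (iv4 F532056)) (tt N108579 (iv5 D224978)) (tt N108581 F527938) (tt N122546 (iv7 F532768)))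
theorem Q121721 : ∀ i, i < 121721 → P i := stepQ 121720 Q121720 (allL N121720 (tt N119313 F527943) (tt N119312 F527944) (tt N119314 F527939) (tt N120242 F527940) (tt N122345 (iv4 F531547)) (tt N108587 (iv5 D224979)) (tt N121463 F527941) (tt N117803 F527942))
theorem Q121722 : ∀ i, i < 121722 → P i := stepQ 121721 Q121721 (allL N121721 (tt N117034 F527948) (tt N118965 (iv0 F527949)) (tt N121653 F527945) (tt N108600 F527946) (tt N121649 F527947) (tt N122030 (iv5 F529742)) (tt N108592 (iv6 D224980)) (tt N122394 (iv7 F531834)))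
theorem Q121723 : ∀ i, i < 121723 → P i := stepQ 121722 Q121722 (allL N121722 (tt N108616 (iv1 F527955)) (tt N108617 F527956) (tt N115646 F527950) (tt N113658 F527951) (tt N108597 F527952) (tt N113662 F527953) (tt N111292 F527954) (tt N108596 (iv7 D224981)))
theorem Q121724 : ∀ i, i < 121724 → P i := stepQ 121723 Q121723 (allL N121723 (tt N115393 F527961) (tt N108629 F527963) (tt N120513 F527957) (tt N108618 (iv3 D224982)) (tt N120510 F527958) (tt N113666 F527959) (tt N111478 (iv6 F527962)) (tt N120514 F527960))
theorem Q121725 : ∀ i, i < 121725 → P i := stepQ 121724 Q121724 (allL N121724 (tt N118964 F527969) (tt N119441 (iv0 F527970)) (tt N119443 F527964) (tt N111478 F527965) (tt N119331 F527966) (tt N111477 F527967) (tt N108618 (iv6 D224983)) (tt N119444 F527968))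
theorem Q121726 : ∀ i, i < 121726 → P i := stepQ 121725 Q121725 (allL N121725 (tt N112470 (iv1 F527976)) (tt N112466 F527977) (tt N112472 F527971) (tt N108648 F527972) (tt N115390 F527973) (tt N114857 F527974) (tt N112473 F527975) (tt N108646 (iv7 D224984)))
theorem Q121727 : ∀ i, i < 121727 → P i := stepQ 121726 Q121726 (allL N121726 (tt N117748 F527983) (tt N117747 F527984) (tt N120188 F527978) (tt N121095 F527979) (tt N108683 (iv4 D224985)) (tt N117732 F527982) (tt N116436 F527980) (tt N121351 F527981))
theorem Q121728 : ∀ i, i < 121728 → P i := stepQ 121727 Q121727 (allL N121727 (tt N121256 F527990) (tt N116380 F527991) (tt N108719 F527985) (tt N109548 F527986) (tt N108692 (iv4 D224986)) (tt N116344 F527987) (tt N116280 F527988) (tt N108720 F527989))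
theorem Q121729 : ∀ i, i < 121729 → P i := stepQ 121728 Q121728 (allL N121728 (tt N118768 (iv1 F527997)) (tt N118771 (iv0 F527996)) (tt N121493 F527992) (tt N108694 F527993) (tt N122292 (iv4 F531230)) (tt N121564 F527994) (tt N108693 (iv6 D224987)) (tt N121559 F527995))
theorem Q121730 : ∀ i, i < 121730 → P i := stepQ 121729 Q121729 (allL N121729 (tt N108698 (iv1 D224988)) (tt N108993 F527998) (tt N117866 F528004) (tt N111610 (iv3 F528002)) (tt N117781 F528001) (tt N118987 F528000) (tt N118312 (iv6 F528003)) (tt N117864 F527999))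
theorem Q121731 : ∀ i, i < 121731 → P i := stepQ 121730 Q121730 (allL N121730 (tt N117856 (iv1 F528010)) (tt N118476 F528011) (tt N118529 F528005) (tt N108713 F528006) (tt N111108 F528007) (tt N108705 F528008) (tt N118509 F528009) (tt N108704 (iv7 D224989)))
theorem Q121732 : ∀ i, i < 121732 → P i := stepQ 121731 Q121731 (allL N121731 (tt N122581 F532973) (tt N121808 (iv0 F528446)) (tt N120671 F528012) (tt N122503 (iv3 F532517)) (tt N108733 F528013) (tt N120655 F528014) (tt N108732 (iv6 D224990)) (tt N122687 (iv7 F533612)))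
theorem Q121733 : ∀ i, i < 121733 → P i := stepQ 121732 Q121732 (allL N121732 (tt N118615 (iv1 F528018)) (tt N122032 (iv0 F529754)) (tt N122500 (iv2 F532497)) (tt N121642 F528015) (tt N122687 (iv4 F533610)) (tt N119477 F528016) (tt N118611 F528017) (tt N108733 (iv7 D224991)))
theorem Q121734 : ∀ i, i < 121734 → P i := stepQ 121733 Q121733 (allL N121733 (tt N115459 F528023) (tt N115463 (iv0 F528024)) (tt N122190 (iv2 F530677)) (tt N121712 F528019) (tt N115584 F528020) (tt N112697 F528021) (tt N108744 (iv6 D224992)) (tt N115584 F528022))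
theorem Q121735 : ∀ i, i < 121735 → P i := stepQ 121734 Q121734 (allL N121734 (tt N110458 F528029) (tt N118538 F528030) (tt N108760 F528025) (tt N120122 F528026) (tt N122715 (iv4 F533787)) (tt N108759 (iv5 D224993)) (tt N119724 F528027) (tt N120159 F528028))
theorem Q121736 : ∀ i, i < 121736 → P i := stepQ 121735 Q121735 (allL N121735 (tt N118549 F528033) (tt N122716 (iv0 F533797)) (tt N122715 (iv2 F533785)) (tt N120143 F528031) (tt N108760 (iv4 D224994)) (tt N122720 (iv5 F533823)) (tt N121815 (iv6 F528480)) (tt N120138 F528032))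
theorem Q121737 : ∀ i, i < 121737 → P i := stepQ 121736 Q121736 (allL N121736 (tt N120158 (iv1 F528038)) (tt N109585 (iv0 F528037)) (tt N120155 F528034) (tt N121817 (iv3 F528490)) (tt N108762 F528035) (tt N122346 (iv5 F531553)) (tt N108761 (iv6 D224995)) (tt N120156 F528036))
theorem Q121738 : ∀ i, i < 121738 → P i := stepQ 121737 Q121737 (allL N121737 (tt N121311 (iv1 F528043)) (tt N121310 F528042) (tt N108770 (iv2 D224996)) (tt N121312 F528039) (tt N122738 D225997) (tt N112769 F528040) (tt N122739 D225998) (tt N121309 F528041))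
theorem Q121739 : ∀ i, i < 121739 → P i := stepQ 121738 Q121738 (allL N121738 (tt N110124 F528046) (tt N122712 (iv0 F533769)) (tt N122738 (iv2 F533937)) (tt N122719 (iv3 F533813)) (tt N108770 (iv4 D224997)) (tt N112785 F528045) (tt N122740 D225999) (tt N112784 F528044))
theorem Q121740 : ∀ i, i < 121740 → P i := stepQ 121739 Q121739 (allL N121739 (tt N121739 F528985) (tt N121739 (iv0 F528985)) (tt N122739 (iv2 F533943)) (tt N108771 F528047) (tt N122740 (iv4 F533948)) (tt N122659 (iv5 F533444)) (tt N108770 (iv6 D224998)) (tt N122739 (iv7 F533945)))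
theorem Q121741 : ∀ i, i < 121741 → P i := stepQ 121740 Q121740 (allL N121740 (tt N121812 (iv1 F528468)) (tt N108771 (iv0 D224999)) (tt N122551 (iv2 F532795)) (tt N120158 F528051) (tt N120728 F528048) (tt N122741 D226000) (tt N119251 F528049) (tt N120154 (iv7 F528050)))
theorem Q121742 : ∀ i, i < 121742 → P i := stepQ 121741 Q121741 (allL N121741 (tt N108771 (iv1 D225000)) (tt N121812 F528469) (tt N120154 F528053) (tt N121816 (iv3 F528488)) (tt N121947 (iv4 F529239)) (tt N122440 (iv5 F532115)) (tt N120153 (iv6 F528052)) (tt N122551 (iv7 F532798)))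
theorem Q121743 : ∀ i, i < 121743 → P i := stepQ 121742 Q121742 (allL N121742 (tt N120154 (iv1 F528056)) (tt N122551 (iv0 F532799)) (tt N121812 (iv2 F528464)) (tt N122739 (iv3 F533944)) (tt N118538 F528054) (tt N122660 (iv5 F533446)) (tt N121312 F528055) (tt N108771 (iv7 D225001)))
theorem Q121744 : ∀ i, i < 121744 → P i := stepQ 121743 Q121743 (allL N121743 (tt N120728 F528061) (tt N121947 (iv0 F529237)) (tt N120729 F528057) (tt N121315 F528058) (tt N120735 F528059) (tt N117790 F528060) (tt N108772 (iv6 D225002)) (tt N122553 (iv7 F532810)))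
theorem Q121745 : ∀ i, i < 121745 → P i := stepQ 121744 Q121744 (allL N121744 (tt N114849 F528065) (tt N114853 (iv0 F528066)) (tt N114851 F528062) (tt N108783 (iv3 D225003)) (tt N122460 (iv4 F532246)) (tt N122027 (iv5 F529721)) (tt N118393 F528063) (tt N114850 F528064))
theorem Q121746 : ∀ i, i < 121746 → P i := stepQ 121745 Q121745 (allL N121745 (tt N119599 (iv1 F528072)) (tt N108805 (iv0 D225004)) (tt N120200 (iv2 F528071)) (tt N110933 F528069) (tt N110942 F528068) (tt N116978 F528067) (tt N116514 F528070) (tt N120199 F528073))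
theorem Q121747 : ∀ i, i < 121747 → P i := stepQ 121746 Q121746 (allL N121746 (tt N121220 F528078) (tt N116485 (iv0 F528079)) (tt N108824 F528074) (tt N119109 F528075) (tt N121275 F528076) (tt N122350 (iv5 F531571)) (tt N108823 (iv6 D225005)) (tt N119106 F528077))
theorem Q121748 : ∀ i, i < 121748 → P i := stepQ 121747 Q121747 (allL N121747 (tt N119106 (iv1 F528082)) (tt N108824 (iv0 D225006)) (tt N121220 (iv2 F528081)) (tt N122250 (iv3 F531008)) (tt N116487 F528080) (tt N122249 (iv5 F531004)) (tt N117319 (iv6 F528084)) (tt N116485 F528083))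
theorem Q121749 : ∀ i, i < 121749 → P i := stepQ 121748 Q121748 (allL N121748 (tt N122609 (iv1 F533154)) (tt N121083 F528087) (tt N122350 (iv2 F531570)) (tt N108825 F528085) (tt N122349 (iv4 F531568)) (tt N108824 (iv5 D225007)) (tt N122261 F531047) (tt N121470 F528086))
theorem Q121750 : ∀ i, i < 121750 → P i := stepQ 121749 Q121749 (allL N121749 (tt N110131 (iv1 F528093)) (tt N110087 F528094) (tt N108828 F528088) (tt N108830 F528089) (tt N110577 F528090) (tt N116427 F528091) (tt N113284 F528092) (tt N108827 (iv7 D225008)))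
theorem Q121751 : ∀ i, i < 121751 → P i := stepQ 121750 Q121750 (allL N121750 (tt N122553 (iv1 F532812)) (tt N120729 (iv0 F528098)) (tt N120728 F528095) (tt N117912 F528096) (tt N122551 (iv4 F532797)) (tt N116841 F528097) (tt N108829 (iv6 D225009)) (tt N121947 (iv7 F529236)))
theorem Q121752 : ∀ i, i < 121752 → P i := stepQ 121751 Q121751 (allL N121751 (tt N118725 F528104) (tt N108965 (iv0 F528105)) (tt N115589 F528099) (tt N108850 (iv3 D225010)) (tt N116022 F528100) (tt N121600 F528101) (tt N115588 F528102) (tt N115988 F528103))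
theorem Q121753 : ∀ i, i < 121753 → P i := stepQ 121752 Q121752 (allL N121752 (tt N117040 F528110) (tt N117037 F528112) (tt N121640 F528106) (tt N108856 (iv3 D225011)) (tt N108857 F528107) (tt N114448 F528108) (tt N108856 (iv6 F528111)) (tt N121665 F528109))
theorem Q121754 : ∀ i, i < 121754 → P i := stepQ 121753 Q121753 (allL N121753 (tt N122682 (iv1 F533582)) (tt N122234 (iv0 F530924)) (tt N119649 F528113) (tt N122485 (iv3 F532409)) (tt N108892 F528114) (tt N111216 F528115) (tt N108860 (iv6 D225012)) (tt N122689 (iv7 F533626)))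
theorem Q121755 : ∀ i, i < 121755 → P i := stepQ 121754 Q121754 (allL N121754 (tt N122508 (iv1 F532550)) (tt N122508 (iv0 F532549)) (tt N120981 F528116) (tt N122193 (iv3 F530697)) (tt N108864 F528117) (tt N122632 (iv5 F533285)) (tt N108863 (iv6 D225013)) (tt N120981 F528118))
theorem Q121756 : ∀ i, i < 121756 → P i := stepQ 121755 Q121755 (allL N121755 (tt N118403 F528124) (tt N121192 F528125) (tt N108872 F528119) (tt N112364 F528120) (tt N108865 (iv4 D225014)) (tt N116360 F528121) (tt N109260 F528122) (tt N108869 F528123))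
theorem Q121757 : ∀ i, i < 121757 → P i := stepQ 121756 Q121756 (allL N121756 (tt N108872 (iv1 F528130)) (tt N108869 (iv0 D225015)) (tt N121192 (iv2 F528129)) (tt N114039 F528128) (tt N118405 F528127) (tt N121297 F528126) (tt N114038 (iv6 F528132)) (tt N118403 F528131))
theorem Q121758 : ∀ i, i < 121758 → P i := stepQ 121757 Q121757 (allL N121757 (tt N112192 F528138) (tt N119206 (iv0 F528139)) (tt N119207 F528133) (tt N108874 (iv3 D225016)) (tt N117416 F528134) (tt N120572 F528135) (tt N117415 F528136) (tt N119123 F528137))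
theorem Q121759 : ∀ i, i < 121759 → P i := stepQ 121758 Q121758 (allL N121758 (tt N122670 (iv1 F533513)) (tt N122670 (iv0 F533512)) (tt N120985 F528140) (tt N121017 F528141) (tt N108896 F528142) (tt N121010 F528143) (tt N108895 (iv6 D225017)) (tt N120985 F528144))
theorem Q121760 : ∀ i, i < 121760 → P i := stepQ 121759 Q121759 (allL N121759 (tt N108896 (iv1 F528146)) (tt N108896 (iv0 D225018)) (tt N122633 F533293) (tt N122505 F532533) (tt N122508 (iv4 F532546)) (tt N122669 (iv5 F533504)) (tt N119487 F528145) (tt N122633 F533294))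
theorem Q121761 : ∀ i, i < 121761 → P i := stepQ 121760 Q121760 (allL N121760 (tt N108914 (iv1 F528152)) (tt N108913 F528153) (tt N108916 F528147) (tt N120426 F528148) (tt N121246 F528149) (tt N120425 F528150) (tt N117617 F528151) (tt N108912 (iv7 D225019)))
theorem Q121762 : ∀ i, i < 121762 → P i := stepQ 121761 Q121761 (allL N121761 (tt N117073 (iv1 F528158)) (tt N108948 (iv0 D225020)) (tt N122116 F530269) (tt N117901 F528156) (tt N117610 F528155) (tt N119097 F528154) (tt N117609 F528157) (tt N121962 (iv7 F529324)))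
theorem Q121763 : ∀ i, i < 121763 → P i := stepQ 121762 Q121762 (allL N121762 (tt N115669 F528163) (tt N115668 F528164) (tt N115666 F528159) (tt N117532 F528160) (tt N122088 (iv4 F530086)) (tt N108964 (iv5 D225021)) (tt N118824 F528161) (tt N115667 F528162))
theorem Q121764 : ∀ i, i < 121764 → P i := stepQ 121763 Q121763 (allL N121763 (tt N108965 (iv1 D225022)) (tt N118725 F528165) (tt N115988 F528170) (tt N115590 (iv3 F528168)) (tt N122146 (iv4 F530425)) (tt N118807 F528167) (tt N118808 (iv6 F528169)) (tt N115589 F528166))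
theorem Q121765 : ∀ i, i < 121765 → P i := stepQ 121764 Q121764 (allL N121764 (tt N112935 F528176) (tt N112934 F528175) (tt N112893 F528171) (tt N122640 (iv3 F533330)) (tt N112891 F528172) (tt N108969 (iv5 D225023)) (tt N108970 F528173) (tt N112927 F528174))
theorem Q121766 : ∀ i, i < 121766 → P i := stepQ 121765 Q121765 (allL N121765 (tt N108990 (iv1 D225024)) (tt N121632 F528177) (tt N110582 F528182) (tt N116199 (iv3 F528181)) (tt N117096 F528180) (tt N117076 F528179) (tt N118768 F528183) (tt N117075 F528178))
theorem Q121767 : ∀ i, i < 121767 → P i := stepQ 121766 Q121766 (allL N121766 (tt N117747 F528189) (tt N117748 F528190) (tt N121351 F528184) (tt N113368 F528185) (tt N117730 F528186) (tt N109043 (iv5 D225025)) (tt N117731 F528187) (tt N120188 F528188))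
theorem Q121768 : ∀ i, i < 121768 → P i := stepQ 121767 Q121767 (allL N121767 (tt N119557 F528196) (tt N120078 F528197) (tt N118453 F528191) (tt N109111 F528192) (tt N109047 (iv4 D225026)) (tt N109193 F528193) (tt N116711 F528194) (tt N114490 F528195))
theorem Q121769 : ∀ i, i < 121769 → P i := stepQ 121768 Q121768 (allL N121768 (tt N113102 F528202) (tt N121298 F528203) (tt N121108 F528198) (tt N121217 F528204) (tt N109080 (iv4 D225027)) (tt N121046 F528199) (tt N120573 F528200) (tt N121302 F528201))
theorem Q121770 : ∀ i, i < 121770 → P i := stepQ 121769 Q121769 (allL N121769 (tt N113112 F528210) (tt N109643 (iv0 F528211)) (tt N113111 F528205) (tt N109081 (iv3 D225028)) (tt N121217 F528206) (tt N114335 F528207) (tt N109640 F528208) (tt N113110 F528209))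
theorem Q121771 : ∀ i, i < 121771 → P i := stepQ 121770 Q121770 (allL N121770 (tt N109205 F528217) (tt N109206 F528218) (tt N113542 F528212) (tt N114257 F528213) (tt N119750 F528214) (tt N109099 (iv5 D225029)) (tt N113212 F528215) (tt N117384 F528216))
theorem Q121772 : ∀ i, i < 121772 → P i := stepQ 121771 Q121771 (allL N121771 (tt N119681 F528224) (tt N119682 F528225) (tt N117979 F528219) (tt N109105 (iv3 D225030)) (tt N117972 F528220) (tt N119528 F528221) (tt N113140 F528222) (tt N117980 F528223))
theorem Q121773 : ∀ i, i < 121773 → P i := stepQ 121772 Q121772 (allL N121772 (tt N111155 F528231) (tt N117739 F528232) (tt N119499 F528226) (tt N109144 F528227) (tt N117721 F528228) (tt N109143 (iv5 D225031)) (tt N119642 F528229) (tt N119529 F528230))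
theorem Q121774 : ∀ i, i < 121774 → P i := stepQ 121773 Q121773 (allL N121773 (tt N116237 F528237) (tt N116247 F528238) (tt N116245 F528233) (tt N109189 F528234) (tt N122452 (iv4 F532196)) (tt N121211 F528235) (tt N109187 (iv6 D225032)) (tt N116244 F528236))
theorem Q121775 : ∀ i, i < 121775 → P i := stepQ 121774 Q121774 (allL N121774 (tt N116906 F528243) (tt N116347 (iv0 F528244)) (tt N118803 F528239) (tt N116902 F528240) (tt N112836 F528241) (tt N121212 F528242) (tt N109188 (iv6 D225033)) (tt N122035 (iv7 F529767)))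
theorem Q121776 : ∀ i, i < 121776 → P i := stepQ 121775 Q121775 (allL N121775 (tt N109203 (iv1 D225034)) (tt N114892 F528245) (tt N122413 (iv2 F531961)) (tt N113464 (iv3 F528248)) (tt N121370 F528247) (tt N116334 F528246) (tt N113463 (iv6 F528249)) (tt N121945 (iv7 F529224)))
theorem Q121777 : ∀ i, i < 121777 → P i := stepQ 121776 Q121776 (allL N121776 (tt N122413 (iv1 F531955)) (tt N121945 (iv0 F529225)) (tt N114892 F528250) (tt N110779 F528251) (tt N110786 F528252) (tt N109204 F528253) (tt N113449 (iv6 F528254)) (tt N109203 (iv7 D225035)))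
theorem Q121778 : ∀ i, i < 121778 → P i := stepQ 121777 Q121777 (allL N121777 (tt N113448 F528259) (tt N113451 (iv0 F528260)) (tt N113450 F528255) (tt N117143 F528256) (tt N122542 (iv4 F532749)) (tt N111129 F528257) (tt N109208 (iv6 D225036)) (tt N113449 F528258))
theorem Q121779 : ∀ i, i < 121779 → P i := stepQ 121778 Q121778 (allL N121778 (tt N114406 F528266) (tt N114623 F528267) (tt N110521 F528261) (tt N116787 F528262) (tt N109970 F528263) (tt N110516 F528264) (tt N109209 (iv6 D225037)) (tt N120222 F528265))
theorem Q121780 : ∀ i, i < 121780 → P i := stepQ 121779 Q121779 (allL N121779 (tt N120254 F528269) (tt N121781 (iv0 F528276)) (tt N120178 F528268) (tt N122318 (iv3 F531388)) (tt N122600 (iv4 F533091)) (tt N109211 (iv5 D225038)) (tt N122599 (iv6 F533086)) (tt N121789 (iv7 F528327)))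
theorem Q121781 : ∀ i, i < 121781 → P i := stepQ 121780 Q121780 (allL N121780 (tt N109212 (iv1 D225039)) (tt N121791 F528341) (tt N119680 F528272) (tt N121576 (iv3 F528271)) (tt N122727 (iv4 F533863)) (tt N119678 F528270) (tt N122421 (iv6 F532007)) (tt N121790 (iv7 F528334)))
theorem Q121782 : ∀ i, i < 121782 → P i := stepQ 121781 Q121781 (allL N121781 (tt N121779 F528276) (tt N113174 F528277) (tt N113409 F528273) (tt N122290 (iv3 F531216)) (tt N113526 F528278) (tt N109221 (iv5 D225040)) (tt N119110 F528274) (tt N120889 F528275))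
theorem Q121783 : ∀ i, i < 121783 → P i := stepQ 121782 Q121782 (allL N121782 (tt N119120 F528284) (tt N119138 F528285) (tt N119030 F528279) (tt N118912 F528280) (tt N109785 F528281) (tt N109238 (iv5 D225041)) (tt N109784 F528282) (tt N119143 F528283))
theorem Q121784 : ∀ i, i < 121784 → P i := stepQ 121783 Q121783 (allL N121783 (tt N113568 (iv1 F528291)) (tt N109323 (iv0 D225042)) (tt N114223 (iv2 F528290)) (tt N116356 F528288) (tt N114214 F528287) (tt N115354 F528286) (tt N114213 F528289) (tt N114214 F528292))
theorem Q121785 : ∀ i, i < 121785 → P i := stepQ 121784 Q121784 (allL N121784 (tt N115736 F528298) (tt N115735 F528299) (tt N115737 F528293) (tt N112759 F528294) (tt N119545 F528295) (tt N109330 (iv5 D225043)) (tt N116311 F528296) (tt N111847 F528297))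
theorem Q121786 : ∀ i, i < 121786 → P i := stepQ 121785 Q121785 (allL N121785 (tt N121557 F528304) (tt N121556 F528305) (tt N118621 F528300) (tt N116564 F528301) (tt N116978 F528302) (tt N109338 (iv5 D225044)) (tt N122609 (iv6 F533152)) (tt N118622 F528303))
theorem Q121787 : ∀ i, i < 121787 → P i := stepQ 121786 Q121786 (allL N121786 (tt N112644 (iv1 F528310)) (tt N109339 (iv0 D225045)) (tt N110462 (iv2 F528309)) (tt N110892 F528308) (tt N121471 F528307) (tt N111813 F528306) (tt N109349 (iv6 F528312)) (tt N121136 F528311))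
theorem Q121788 : ∀ i, i < 121788 → P i := stepQ 121787 Q121787 (allL N121787 (tt N118950 F528317) (tt N118949 (iv0 F528318)) (tt N116031 F528313) (tt N109354 F528314) (tt N109464 F528315) (tt N116028 F528316) (tt N109352 (iv6 D225046)) (tt N119133 F528319))
theorem Q121789 : ∀ i, i < 121789 → P i := stepQ 121788 Q121788 (allL N121788 (tt N119202 F528324) (tt N122162 (iv0 F530515)) (tt N114391 F528320) (tt N109368 (iv3 D225047)) (tt N116244 F528321) (tt N116194 F528322) (tt N114388 F528323) (tt N122452 (iv7 F532198)))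
theorem Q121790 : ∀ i, i < 121790 → P i := stepQ 121789 Q121789 (allL N121789 (tt N113409 F528328) (tt N120889 F528329) (tt N113174 F528325) (tt N121946 (iv3 F529228)) (tt N121966 (iv4 F529348)) (tt N109391 (iv5 D225048)) (tt N113173 F528326) (tt N121779 F528327))
theorem Q121791 : ∀ i, i < 121791 → P i := stepQ 121790 Q121790 (allL N121790 (tt N118670 (iv1 F528335)) (tt N109392 (iv0 D225049)) (tt N111148 (iv2 F528333)) (tt N122698 (iv3 F533677)) (tt N121388 F528331) (tt N111147 F528330) (tt N121387 F528332) (tt N121780 F528334))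
theorem Q121792 : ∀ i, i < 121792 → P i := stepQ 121791 Q121791 (allL N121791 (tt N121780 (iv1 F528341)) (tt N111148 F528342) (tt N118670 F528336) (tt N116196 F528337) (tt N121369 F528338) (tt N109393 F528339) (tt N116195 F528340) (tt N109392 (iv7 D225050)))
theorem Q121793 : ∀ i, i < 121793 → P i := stepQ 121792 Q121792 (allL N121792 (tt N121047 F528348) (tt N119175 (iv0 F528349)) (tt N121167 F528343) (tt N109395 (iv3 D225051)) (tt N120544 F528344) (tt N120545 F528345) (tt N114830 F528346) (tt N113088 F528347))
theorem Q121794 : ∀ i, i < 121794 → P i := stepQ 121793 Q121793 (allL N121793 (tt N120633 F528353) (tt N119507 (iv0 F528354)) (tt N119205 F528350) (tt N109445 (iv3 D225052)) (tt N119204 F528351) (tt N122355 (iv5 F531601)) (tt N122707 (iv6 F533735)) (tt N119203 F528352))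
theorem Q121795 : ∀ i, i < 121795 → P i := stepQ 121794 Q121794 (allL N121794 (tt N118012 (iv1 F528358)) (tt N109451 (iv0 D225053)) (tt N118011 (iv2 F528357)) (tt N121948 (iv3 F529240)) (tt N116884 F528355) (tt N116166 (iv5 F528360)) (tt N121222 F528356) (tt N118010 F528359))
theorem Q121796 : ∀ i, i < 121796 → P i := stepQ 121795 Q121795 (allL N121795 (tt N121208 F528366) (tt N114688 F528367) (tt N113501 F528361) (tt N110151 F528362) (tt N113073 F528365) (tt N109451 (iv5 D225054)) (tt N109452 F528363) (tt N118013 F528364))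
theorem Q121797 : ∀ i, i < 121797 → P i := stepQ 121796 Q121796 (allL N121796 (tt N113875 (iv1 F528373)) (tt N118972 F528374) (tt N109464 F528368) (tt N110332 F528369) (tt N116031 F528370) (tt N109463 F528371) (tt N121158 F528372) (tt N109462 (iv7 D225055)))
theorem Q121798 : ∀ i, i < 121798 → P i := stepQ 121797 Q121797 (allL N121797 (tt N119082 F528380) (tt N119078 (iv0 F528381)) (tt N118417 F528375) (tt N109479 (iv3 D225056)) (tt N116991 F528376) (tt N119069 F528377) (tt N118440 F528378) (tt N116989 F528379))
theorem Q121799 : ∀ i, i < 121799 → P i := stepQ 121798 Q121798 (allL N121798 (tt N112864 F528387) (tt N110006 F528388) (tt N110411 F528382) (tt N112561 F528383) (tt N109484 (iv4 D225057)) (tt N117252 F528386) (tt N112605 F528384) (tt N109510 F528385))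
theorem Q121800 : ∀ i, i < 121800 → P i := stepQ 121799 Q121799 (allL N121799 (tt N121866 F528796) (tt N121980 (iv0 F529436)) (tt N121389 F528389) (tt N118649 F528390) (tt N109498 (iv4 D225058)) (tt N121097 F528391) (tt N121286 F528392) (tt N113748 F528393))
theorem Q121801 : ∀ i, i < 121801 → P i := stepQ 121800 Q121800 (allL N121800 (tt N109500 (iv1 D225059)) (tt N110398 F528394) (tt N120256 (iv2 F528397)) (tt N113402 (iv3 F528398)) (tt N117132 F528396) (tt N122588 (iv5 F533016)) (tt N121988 (iv6 F529482)) (tt N120390 F528395))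
theorem Q121802 : ∀ i, i < 121802 → P i := stepQ 121801 Q121801 (allL N121801 (tt N110006 F528403) (tt N112864 F528404) (tt N109510 F528399) (tt N121543 F528400) (tt N109509 (iv4 D225060)) (tt N122307 (iv5 F531318)) (tt N121535 F528401) (tt N110411 F528402))
theorem Q121803 : ∀ i, i < 121803 → P i := stepQ 121802 Q121802 (allL N121802 (tt N121096 (iv1 F528411)) (tt N121534 (iv0 F528410)) (tt N121535 F528405) (tt N117296 F528406) (tt N109512 F528407) (tt N117538 F528408) (tt N109510 (iv6 D225061)) (tt N121532 F528409))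
theorem Q121804 : ∀ i, i < 121804 → P i := stepQ 121803 Q121803 (allL N121803 (tt N117280 (iv1 F528418)) (tt N109514 (iv0 D225062)) (tt N119881 (iv2 F528417)) (tt N109923 F528415) (tt N116107 F528414) (tt N109930 F528413) (tt N119694 F528416) (tt N119894 F528419))
theorem Q121805 : ∀ i, i < 121805 → P i := stepQ 121804 Q121804 (allL N121804 (tt N109520 (iv1 F528424)) (tt N109519 (iv0 D225063)) (tt N109522 (iv2 F528423)) (tt N119706 F528422) (tt N112603 F528421) (tt N120207 F528420) (tt N122725 (iv6 F533856)) (tt N109521 F528425))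
theorem Q121806 : ∀ i, i < 121806 → P i := stepQ 121805 Q121805 (allL N121805 (tt N121425 F528430) (tt N120197 F528431) (tt N121992 (iv2 F529503)) (tt N118233 F528426) (tt N109520 (iv4 D225064)) (tt N118232 F528427) (tt N110687 F528428) (tt N119788 F528429))
theorem Q121807 : ∀ i, i < 121807 → P i := stepQ 121806 Q121806 (allL N121806 (tt N119889 F528437) (tt N119888 (iv0 F528438)) (tt N110675 F528432) (tt N109526 (iv3 D225065)) (tt N119832 F528433) (tt N109927 F528434) (tt N112573 F528435) (tt N119877 F528436))
theorem Q121808 : ∀ i, i < 121808 → P i := stepQ 121807 Q121807 (allL N121807 (tt N113680 F528442) (tt N122191 (iv0 F530688)) (tt N122192 F530693) (tt N115844 F528439) (tt N122718 (iv4 F533807)) (tt N112424 F528440) (tt N109540 (iv6 D225066)) (tt N121073 F528441))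
theorem Q121809 : ∀ i, i < 121809 → P i := stepQ 121808 Q121808 (allL N121808 (tt N121731 F528446) (tt N120702 (iv0 F528447)) (tt N122608 (iv2 F533144)) (tt N109543 (iv3 D225067)) (tt N119483 F528443) (tt N119458 F528444) (tt N120567 F528445) (tt N122686 (iv7 F533607)))
theorem Q121810 : ∀ i, i < 121810 → P i := stepQ 121809 Q121809 (allL N121809 (tt N121203 F528449) (tt N121434 (iv0 F528450)) (tt N122583 (iv2 F532982)) (tt N109547 (iv3 D225068)) (tt N122079 (iv4 F530033)) (tt N122130 (iv5 F530344)) (tt N115804 F528448) (tt N122607 (iv7 F533141)))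
theorem Q121811 : ∀ i, i < 121811 → P i := stepQ 121810 Q121810 (allL N121810 (tt N109570 (iv1 D225069)) (tt N120153 F528451) (tt N120148 F528456) (tt N118853 (iv3 F528457)) (tt N121312 F528454) (tt N118852 F528453) (tt N118538 (iv6 F528455)) (tt N120149 F528452))
theorem Q121812 : ∀ i, i < 121812 → P i := stepQ 121811 Q121811 (allL N121811 (tt N120151 (iv1 F528462)) (tt N116843 F528463) (tt N120152 F528458) (tt N119251 F528459) (tt N121908 (iv4 F529000)) (tt N116644 F528460) (tt N120158 F528461) (tt N109571 (iv7 D225070)))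
theorem Q121813 : ∀ i, i < 121813 → P i := stepQ 121812 Q121812 (allL N121812 (tt N121741 (iv1 F528469)) (tt N121740 F528468) (tt N121742 F528464) (tt N118581 F528465) (tt N109572 (iv4 D225071)) (tt N122700 (iv5 F533689)) (tt N118580 F528466) (tt N118581 F528467))
theorem Q121814 : ∀ i, i < 121814 → P i := stepQ 121813 Q121813 (allL N121813 (tt N110120 F528473) (tt N110119 F528474) (tt N109577 F528470) (tt N121307 F528471) (tt N122228 (iv4 F530888)) (tt N109576 (iv5 D225072)) (tt N121306 F528472) (tt N122654 (iv7 F533418)))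
theorem Q121815 : ∀ i, i < 121815 → P i := stepQ 121814 Q121814 (allL N121814 (tt N122672 (iv1 F533524)) (tt N122675 F533536) (tt N122228 (iv2 F530887)) (tt N122226 (iv3 F530880)) (tt N109577 (iv4 D225073)) (tt N121504 F528475) (tt N121892 (iv6 F528939)) (tt N122226 (iv7 F530882)))
theorem Q121816 : ∀ i, i < 121816 → P i := stepQ 121815 Q121815 (allL N121815 (tt N120731 (iv1 F528481)) (tt N118544 F528482) (tt N120732 F528476) (tt N109587 F528477) (tt N118577 F528478) (tt N120730 F528479) (tt N121735 F528480) (tt N109583 (iv7 D225074)))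
theorem Q121817 : ∀ i, i < 121817 → P i := stepQ 121816 Q121816 (allL N121816 (tt N109585 (iv1 D225075)) (tt N120158 F528483) (tt N120156 F528487) (tt N121741 F528488) (tt N116684 F528485) (tt N122742 D226001) (tt N116686 (iv6 F528486)) (tt N120155 F528484))
theorem Q121818 : ∀ i, i < 121818 → P i := stepQ 121817 Q121817 (allL N121817 (tt N120156 (iv1 F528493)) (tt N120155 F528494) (tt N120158 F528489) (tt N121736 F528490) (tt N109587 F528491) (tt N122557 (iv5 F532832)) (tt N120152 F528492) (tt N109585 (iv7 D225076)))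
theorem Q121819 : ∀ i, i < 121819 → P i := stepQ 121818 Q121818 (allL N121818 (tt N118026 F528500) (tt N120441 (iv0 F528501)) (tt N110194 F528495) (tt N120427 F528496) (tt N109589 F528497) (tt N120431 F528498) (tt N109588 (iv6 D225077)) (tt N121681 F528499))
theorem Q121820 : ∀ i, i < 121820 → P i := stepQ 121819 Q121819 (allL N121819 (tt N116880 (iv1 F528507)) (tt N109595 (iv0 D225078)) (tt N116878 (iv2 F528506)) (tt N115751 F528504) (tt N120480 F528503) (tt N121126 F528502) (tt N115750 F528505) (tt N116879 F528508))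
theorem Q121821 : ∀ i, i < 121821 → P i := stepQ 121820 Q121820 (allL N121820 (tt N109615 (iv1 D225079)) (tt N122068 (iv0 F529972)) (tt N121330 (iv2 F528513)) (tt N118826 (iv3 F528512)) (tt N114088 F528511) (tt N120782 F528510) (tt N122506 (iv6 F532537)) (tt N121647 F528509))
theorem Q121822 : ∀ i, i < 121822 → P i := stepQ 121821 Q121821 (allL N121821 (tt N118807 F528519) (tt N121600 (iv0 F528520)) (tt N109633 F528514) (tt N118797 F528515) (tt N110452 F528516) (tt N115564 F528517) (tt N109632 (iv6 D225080)) (tt N121612 F528518))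
theorem Q121823 : ∀ i, i < 121823 → P i := stepQ 121822 Q121822 (allL N121822 (tt N109637 (iv1 D225081)) (tt N117398 F528521) (tt N120180 F528527) (tt N112985 (iv3 F528525)) (tt N110380 F528524) (tt N112983 F528523) (tt N111333 (iv6 F528526)) (tt N116094 F528522))
theorem Q121824 : ∀ i, i < 121824 → P i := stepQ 121823 Q121823 (allL N121823 (tt N114909 (iv1 F528532)) (tt N118197 F528533) (tt N120400 F528528) (tt N120410 F528529) (tt N118124 F528530) (tt N109656 F528531) (tt N122680 (iv6 F533567)) (tt N109655 (iv7 D225082)))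
theorem Q121825 : ∀ i, i < 121825 → P i := stepQ 121824 Q121824 (allL N121824 (tt N114351 F528539) (tt N117692 (iv0 F528540)) (tt N119675 F528534) (tt N121092 F528535) (tt N109660 F528536) (tt N111170 F528537) (tt N109659 (iv6 D225083)) (tt N111236 F528538))
theorem Q121826 : ∀ i, i < 121826 → P i := stepQ 121825 Q121825 (allL N121825 (tt N120087 F528545) (tt N120089 F528546) (tt N120129 F528541) (tt N117216 F528542) (tt N109668 (iv4 D225084)) (tt N117215 F528543) (tt N120118 F528544) (tt N122317 (iv7 F531381)))
theorem Q121827 : ∀ i, i < 121827 → P i := stepQ 121826 Q121826 (allL N121826 (tt N121889 F528929) (tt N109710 F528552) (tt N120356 F528547) (tt N112933 F528548) (tt N109672 (iv4 D225085)) (tt N117726 F528549) (tt N112931 F528550) (tt N117725 F528551))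
theorem Q121828 : ∀ i, i < 121828 → P i := stepQ 121827 Q121827 (allL N121827 (tt N115187 (iv1 F528558)) (tt N109691 (iv0 D225086)) (tt N115186 (iv2 F528557)) (tt N114596 F528555) (tt N113587 F528554) (tt N114518 F528553) (tt N113586 (iv6 F528556)) (tt N114977 F528559))
theorem Q121829 : ∀ i, i < 121829 → P i := stepQ 121828 Q121828 (allL N121828 (tt N115186 (iv1 F528566)) (tt N114977 F528565) (tt N109691 (iv2 D225087)) (tt N115194 F528560) (tt N109697 F528561) (tt N115189 F528562) (tt N119389 F528563) (tt N115187 F528564))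
theorem Q121830 : ∀ i, i < 121830 → P i := stepQ 121829 Q121829 (allL N121829 (tt N109706 (iv1 D225088)) (tt N109708 F528567) (tt N121691 F528572) (tt N110327 (iv3 F528570)) (tt N121958 (iv4 F529296)) (tt N121098 F528569) (tt N112945 (iv6 F528571)) (tt N121686 F528568))
theorem Q121831 : ∀ i, i < 121831 → P i := stepQ 121830 Q121830 (allL N121830 (tt N122119 F530286) (tt N112945 (iv0 F528578)) (tt N116814 F528573) (tt N112882 F528574) (tt N112890 F528575) (tt N112323 F528576) (tt N109760 (iv6 D225089)) (tt N121623 F528577))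
theorem Q121832 : ∀ i, i < 121832 → P i := stepQ 121831 Q121831 (allL N121831 (tt N120286 (iv1 F528583)) (tt N120288 F528584) (tt N120358 F528579) (tt N122511 (iv3 F532566)) (tt N109762 F528580) (tt N111341 F528581) (tt N111296 F528582) (tt N109761 (iv7 D225090)))
theorem Q121833 : ∀ i, i < 121833 → P i := stepQ 121832 Q121832 (allL N121832 (tt N122437 (iv1 F532095)) (tt N122424 (iv0 F532024)) (tt N115132 F528585) (tt N121912 (iv3 F529023)) (tt N122701 (iv4 F533697)) (tt N109783 (iv5 D225091)) (tt N116324 F528586) (tt N122436 (iv7 F532092)))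
theorem Q121834 : ∀ i, i < 121834 → P i := stepQ 121833 Q121833 (allL N121833 (tt N109808 F528592) (tt N109807 F528593) (tt N109859 F528587) (tt N115085 F528588) (tt N109802 (iv4 D225092)) (tt N119115 F528589) (tt N115084 F528590) (tt N109860 F528591))
theorem Q121835 : ∀ i, i < 121835 → P i := stepQ 121834 Q121834 (allL N121834 (tt N121487 F528599) (tt N121374 F528600) (tt N112573 F528594) (tt N110676 F528595) (tt N109825 (iv4 D225093)) (tt N112521 F528598) (tt N110675 F528596) (tt N109976 F528597))
theorem Q121836 : ∀ i, i < 121836 → P i := stepQ 121835 Q121835 (allL N121835 (tt N109992 (iv1 F528604)) (tt N109829 (iv0 D225094)) (tt N109994 (iv2 F528605)) (tt N121886 (iv3 F528905)) (tt N117797 F528602) (tt N110624 F528601) (tt N121252 F528603) (tt N109993 (iv7 F528606)))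
theorem Q121837 : ∀ i, i < 121837 → P i := stepQ 121836 Q121836 (allL N121836 (tt N109829 (iv1 D225095)) (tt N109992 F528607) (tt N109993 (iv2 F528612)) (tt N116948 (iv3 F528611)) (tt N121285 F528610) (tt N110623 F528609) (tt N121942 (iv6 F529204)) (tt N109994 F528608))
theorem Q121838 : ∀ i, i < 121838 → P i := stepQ 121837 Q121837 (allL N121837 (tt N121885 (iv1 F528903)) (tt N121886 (iv0 F528909)) (tt N120474 F528613) (tt N109835 F528614) (tt N121241 F528617) (tt N109834 (iv5 D225096)) (tt N119734 F528615) (tt N121368 F528616))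
theorem Q121839 : ∀ i, i < 121839 → P i := stepQ 121838 Q121838 (allL N121838 (tt N119925 F528621) (tt N119926 (iv0 F528622)) (tt N120465 F528618) (tt N109838 F528619) (tt N110919 F528620) (tt N122203 (iv5 F530748)) (tt N109837 (iv6 D225097)) (tt N121961 (iv7 F529319)))
theorem Q121840 : ∀ i, i < 121840 → P i := stepQ 121839 Q121839 (allL N121839 (tt N109838 (iv1 D225098)) (tt N110010 F528623) (tt N110008 (iv2 F528626)) (tt N121943 (iv3 F529210)) (tt N113195 F528625) (tt N121942 F529207) (tt N120468 (iv6 F528627)) (tt N110007 F528624))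
theorem Q121841 : ∀ i, i < 121841 → P i := stepQ 121840 Q121840 (allL N121840 (tt N110008 (iv1 F528631)) (tt N110007 F528632) (tt N110010 F528628) (tt N121961 (iv3 F529316)) (tt N113445 F528629) (tt N122298 (iv5 F531264)) (tt N110003 F528630) (tt N109838 (iv7 D225099)))
theorem Q121842 : ∀ i, i < 121842 → P i := stepQ 121841 Q121841 (allL N121841 (tt N117403 (iv1 F528636)) (tt N109870 (iv0 D225100)) (tt N117401 (iv2 F528635)) (tt N112924 F528634) (tt N122441 (iv4 F532121)) (tt N112993 F528633) (tt N112923 (iv6 F528638)) (tt N117402 F528637))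
theorem Q121843 : ∀ i, i < 121843 → P i := stepQ 121842 Q121842 (allL N121842 (tt N112993 F528643) (tt N114720 (iv0 F528644)) (tt N117209 F528639) (tt N109878 (iv3 D225101)) (tt N114265 F528640) (tt N109888 F528641) (tt N116111 F528645) (tt N119609 F528642))
theorem Q121844 : ∀ i, i < 121844 → P i := stepQ 121843 Q121843 (allL N121843 (tt N114896 F528651) (tt N110779 F528652) (tt N119593 F528646) (tt N116111 F528647) (tt N110567 F528648) (tt N110487 F528649) (tt N109878 (iv6 D225102)) (tt N117208 F528650))
theorem Q121845 : ∀ i, i < 121845 → P i := stepQ 121844 Q121844 (allL N121844 (tt N113445 F528657) (tt N109879 (iv0 D225103)) (tt N113209 (iv2 F528655)) (tt N116101 F528654) (tt N120101 F528653) (tt N122528 (iv5 F532661)) (tt N116099 F528656) (tt N121863 (iv7 F528776)))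
theorem Q121846 : ∀ i, i < 121846 → P i := stepQ 121845 Q121845 (allL N121845 (tt N121863 (iv1 F528777)) (tt N113209 (iv0 F528663)) (tt N113445 F528658) (tt N113453 F528659) (tt N110010 F528660) (tt N116175 F528661) (tt N116416 F528662) (tt N109879 (iv7 D225104)))
theorem Q121847 : ∀ i, i < 121847 → P i := stepQ 121846 Q121846 (allL N121846 (tt N121273 (iv1 F528668)) (tt N109882 (iv0 D225105)) (tt N119600 (iv2 F528667)) (tt N114056 (iv3 F528670)) (tt N119308 F528666) (tt N119589 F528665) (tt N119305 F528671) (tt N119603 F528669))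
theorem Q121848 : ∀ i, i < 121848 → P i := stepQ 121847 Q121847 (allL N121847 (tt N113274 F528675) (tt N110358 (iv0 F528676)) (tt N113341 F528672) (tt N109886 F528673) (tt N122305 (iv4 F531304)) (tt N122292 (iv5 F531231)) (tt N109885 (iv6 D225106)) (tt N113340 F528674))
theorem Q121849 : ∀ i, i < 121849 → P i := stepQ 121848 Q121848 (allL N121848 (tt N113367 F528681) (tt N118434 (iv0 F528683)) (tt N117077 F528677) (tt N110734 F528678) (tt N109907 F528679) (tt N112935 F528682) (tt N109906 (iv6 D225107)) (tt N118519 F528680))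
theorem Q121850 : ∀ i, i < 121850 → P i := stepQ 121849 Q121849 (allL N121849 (tt N109909 (iv1 D225108)) (tt N120395 F528684) (tt N121611 F528689) (tt N117319 (iv3 F528688)) (tt N117324 F528687) (tt N111601 F528686) (tt N122250 (iv6 F531009)) (tt N117317 F528685))
theorem Q121851 : ∀ i, i < 121851 → P i := stepQ 121850 Q121850 (allL N121850 (tt N121611 (iv1 F528695)) (tt N117317 F528696) (tt N120395 F528690) (tt N109910 F528691) (tt N121254 F528692) (tt N117906 F528693) (tt N117914 F528694) (tt N109909 (iv7 D225109)))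
theorem Q121852 : ∀ i, i < 121852 → P i := stepQ 121851 Q121851 (allL N121851 (tt N109911 (iv1 D225110)) (tt N112309 F528697) (tt N112503 F528703) (tt N110773 (iv3 F528701)) (tt N118324 F528700) (tt N112134 F528699) (tt N110771 (iv6 F528702)) (tt N112506 F528698))
theorem Q121853 : ∀ i, i < 121853 → P i := stepQ 121852 Q121852 (allL N121852 (tt N119980 (iv1 F528709)) (tt N122313 F531359) (tt N112609 F528704) (tt N121532 F528705) (tt N109928 (iv4 D225111)) (tt N119727 F528706) (tt N112608 F528707) (tt N117296 F528708))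
theorem Q121854 : ∀ i, i < 121854 → P i := stepQ 121853 Q121853 (allL N121853 (tt N110537 F528712) (tt N118240 F528713) (tt N119817 F528710) (tt N121976 (iv3 F529412)) (tt N122728 (iv4 F533869)) (tt N109932 (iv5 D225112)) (tt N122728 (iv6 F533871)) (tt N119818 F528711))
theorem Q121855 : ∀ i, i < 121855 → P i := stepQ 121854 Q121854 (allL N121854 (tt N121281 F528718) (tt N121280 F528720) (tt N119829 F528714) (tt N109937 F528715) (tt N116897 F528716) (tt N113526 (iv5 F528719)) (tt N109936 (iv6 D225113)) (tt N119830 F528717))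
theorem Q121856 : ∀ i, i < 121856 → P i := stepQ 121855 Q121855 (allL N121855 (tt N119812 F528725) (tt N119813 F528726) (tt N119815 F528721) (tt N113526 F528722) (tt N122050 (iv4 F529856)) (tt N109937 (iv5 D225114)) (tt N119796 F528723) (tt N119814 F528724))
theorem Q121857 : ∀ i, i < 121857 → P i := stepQ 121856 Q121856 (allL N121856 (tt N109983 F528732) (tt N117487 F528733) (tt N110743 F528727) (tt N109942 F528728) (tt N119804 F528729) (tt N109940 (iv5 D225115)) (tt N119818 F528730) (tt N119804 F528731))
theorem Q121858 : ∀ i, i < 121858 → P i := stepQ 121857 Q121857 (allL N121857 (tt N120460 F528737) (tt N121241 F528738) (tt N117022 F528734) (tt N122743 D226002) (tt N109943 (iv4 D225116)) (tt N121631 F528735) (tt N117016 (iv6 F528739)) (tt N119807 F528736))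
theorem Q121859 : ∀ i, i < 121859 → P i := stepQ 121858 Q121858 (allL N121858 (tt N113394 F528745) (tt N113396 (iv0 F528746)) (tt N112554 F528740) (tt N110742 F528741) (tt N117016 F528742) (tt N112519 F528743) (tt N109943 (iv6 D225117)) (tt N112556 F528744))
theorem Q121860 : ∀ i, i < 121860 → P i := stepQ 121859 Q121859 (allL N121859 (tt N121293 F528752) (tt N121291 F528753) (tt N109947 F528747) (tt N119887 F528748) (tt N109944 (iv4 D225118)) (tt N121629 F528749) (tt N116505 F528750) (tt N119884 F528751))
theorem Q121861 : ∀ i, i < 121861 → P i := stepQ 121860 Q121860 (allL N121860 (tt N121242 F528758) (tt N121382 F528759) (tt N121380 F528754) (tt N121381 F528755) (tt N109946 (iv4 D225119)) (tt N112577 F528756) (tt N122692 (iv6 F533641)) (tt N121381 F528757))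
theorem Q121862 : ∀ i, i < 121862 → P i := stepQ 121861 Q121861 (allL N121861 (tt N119884 (iv1 F528763)) (tt N109947 (iv0 D225120)) (tt N121293 (iv2 F528762)) (tt N121292 (iv3 F528765)) (tt N116850 F528761) (tt N112572 F528760) (tt N121357 F528766) (tt N121291 F528764))
theorem Q121863 : ∀ i, i < 121863 → P i := stepQ 121862 Q121862 (allL N121862 (tt N109948 (iv1 D225121)) (tt N117250 F528767) (tt N112549 (iv2 F528772)) (tt N121392 (iv3 F528771)) (tt N116957 F528770) (tt N112517 F528769) (tt N121978 F529425) (tt N112544 F528768))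
theorem Q121864 : ∀ i, i < 121864 → P i := stepQ 121863 Q121863 (allL N121863 (tt N120202 (iv1 F528779)) (tt N121845 F528777) (tt N116192 F528773) (tt N112516 F528774) (tt N109952 (iv4 D225122)) (tt N116557 (iv5 F528778)) (tt N112515 F528775) (tt N121844 F528776))
theorem Q121865 : ∀ i, i < 121865 → P i := stepQ 121864 Q121864 (allL N121864 (tt N117215 F528782) (tt N113382 F528783) (tt N122599 F533087) (tt N113379 F528780) (tt N109957 (iv4 D225123)) (tt N122604 (iv5 F533119)) (tt N120178 F528784) (tt N116093 F528781))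
theorem Q121866 : ∀ i, i < 121866 → P i := stepQ 121865 Q121865 (allL N121865 (tt N113531 (iv1 F528790)) (tt N113529 (iv0 F528789)) (tt N122600 F533094) (tt N120191 F528785) (tt N120178 F528786) (tt N119893 F528787) (tt N109957 (iv6 D225124)) (tt N110718 F528788))
theorem Q121867 : ∀ i, i < 121867 → P i := stepQ 121866 Q121866 (allL N121866 (tt N110722 F528795) (tt N121799 (iv0 F528796)) (tt N120462 F528791) (tt N112037 F528792) (tt N112863 F528793) (tt N122728 (iv5 F533868)) (tt N109958 (iv6 D225125)) (tt N112553 F528794))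
theorem Q121868 : ∀ i, i < 121868 → P i := stepQ 121867 Q121867 (allL N121867 (tt N121538 F528800) (tt N113428 F528801) (tt N122010 F529621) (tt N113183 F528797) (tt N109959 (iv4 D225126)) (tt N122371 (iv5 F531699)) (tt N113181 F528798) (tt N120463 F528799))
theorem Q121869 : ∀ i, i < 121869 → P i := stepQ 121868 Q121868 (allL N121868 (tt N119734 F528806) (tt N119732 F528807) (tt N110723 F528802) (tt N109963 F528803) (tt N119879 F528804) (tt N109962 (iv5 D225127)) (tt N122731 (iv6 F533891)) (tt N120472 F528805))
theorem Q121870 : ∀ i, i < 121870 → P i := stepQ 121869 Q121869 (allL N121869 (tt N113527 F528812) (tt N113526 (iv0 F528813)) (tt N113525 F528808) (tt N122731 (iv3 F533890)) (tt N113512 F528809) (tt N119895 F528810) (tt N109963 (iv6 D225128)) (tt N110724 F528811))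
theorem Q121871 : ∀ i, i < 121871 → P i := stepQ 121870 Q121870 (allL N121870 (tt N117369 (iv1 F528817)) (tt N109973 (iv0 D225129)) (tt N117368 (iv2 F528818)) (tt N113358 F528816) (tt N110228 F528815) (tt N119714 F528814) (tt N122724 (iv6 F533849)) (tt N117367 (iv7 F528819)))
theorem Q121872 : ∀ i, i < 121872 → P i := stepQ 121871 Q121871 (allL N121871 (tt N109973 (iv1 D225130)) (tt N117369 F528820) (tt N117367 F528825) (tt N117255 (iv3 F528824)) (tt N110227 F528823) (tt N117254 F528822) (tt N113356 F528826) (tt N117368 F528821))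
theorem Q121873 : ∀ i, i < 121873 → P i := stepQ 121872 Q121872 (allL N121872 (tt N121374 F528831) (tt N121487 F528832) (tt N109976 F528827) (tt N121428 F528828) (tt N109974 (iv4 D225131)) (tt N112574 F528829) (tt N119875 (iv6 F528833)) (tt N112573 F528830))
theorem Q121874 : ∀ i, i < 121874 → P i := stepQ 121873 Q121873 (allL N121873 (tt N122637 F533319) (tt N117292 (iv0 F528838)) (tt N109977 F528834) (tt N121940 (iv3 F529191)) (tt N119875 F528835) (tt N120532 F528836) (tt N109974 (iv6 D225132)) (tt N119880 (iv7 F528837)))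
theorem Q121875 : ∀ i, i < 121875 → P i := stepQ 121874 Q121874 (allL N121874 (tt N112573 (iv1 F528843)) (tt N109976 (iv0 D225133)) (tt N121374 (iv2 F528842)) (tt N119891 F528840) (tt N121885 (iv4 F528902)) (tt N120458 F528839) (tt N117291 F528841) (tt N121487 F528844))
theorem Q121876 : ∀ i, i < 121876 → P i := stepQ 121875 Q121875 (allL N121875 (tt N117292 (iv1 F528850)) (tt N122637 (iv0 F533318)) (tt N119880 F528845) (tt N109979 F528846) (tt N119874 F528847) (tt N119746 F528848) (tt N113347 F528849) (tt N109977 (iv7 D225134)))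
theorem Q121877 : ∀ i, i < 121877 → P i := stepQ 121876 Q121876 (allL N121876 (tt N120465 F528855) (tt N121961 (iv0 F529320)) (tt N119926 F528851) (tt N122000 (iv3 F529555)) (tt N119711 F528852) (tt N109987 (iv5 D225135)) (tt N110984 F528853) (tt N119925 F528854))
theorem Q121878 : ∀ i, i < 121878 → P i := stepQ 121877 Q121877 (allL N121877 (tt N112613 F528860) (tt N121172 F528861) (tt N116850 F528856) (tt N109989 F528857) (tt N121293 F528858) (tt N109988 (iv5 D225136)) (tt N122732 (iv6 F533899)) (tt N121287 F528859))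
theorem Q121879 : ∀ i, i < 121879 → P i := stepQ 121878 Q121878 (allL N121878 (tt N121368 F528864) (tt N120474 (iv0 F528865)) (tt N121885 (iv2 F528899)) (tt N109993 (iv3 D225137)) (tt N121374 F528862) (tt N110766 F528863) (tt N112558 F528866) (tt N121886 (iv7 F528908)))
theorem Q121880 : ∀ i, i < 121880 → P i := stepQ 121879 Q121879 (allL N121879 (tt N122311 (iv1 F531347)) (tt N122312 (iv0 F531353)) (tt N121942 F529206) (tt N112558 F528867) (tt N121373 F528868) (tt N110008 F528869) (tt N109993 (iv6 D225138)) (tt N113431 (iv7 F528870)))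
theorem Q121881 : ∀ i, i < 121881 → P i := stepQ 121880 Q121880 (allL N121880 (tt N116950 F528875) (tt N113523 (iv0 F528876)) (tt N121252 F528871) (tt N120719 F528872) (tt N113489 F528873) (tt N110816 F528874) (tt N109994 (iv6 D225139)) (tt N121546 (iv7 F528877)))
theorem Q121882 : ∀ i, i < 121882 → P i := stepQ 121881 Q121881 (allL N121881 (tt N119785 F528880) (tt N119789 (iv0 F528881)) (tt N117249 F528878) (tt N122305 (iv3 F531303)) (tt N110001 F528879) (tt N121920 (iv5 F529064)) (tt N110000 (iv6 D225140)) (tt N121960 (iv7 F529313)))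
theorem Q121883 : ∀ i, i < 121883 → P i := stepQ 121882 Q121882 (allL N121882 (tt N117239 F528886) (tt N117238 (iv0 F528887)) (tt N112595 F528882) (tt N119925 F528883) (tt N119101 F528884) (tt N119795 F528885) (tt N110002 (iv6 D225141)) (tt N122000 (iv7 F529558)))
theorem Q121884 : ∀ i, i < 121884 → P i := stepQ 121883 Q121883 (allL N121883 (tt N121593 F528893) (tt N119927 F528894) (tt N120466 F528888) (tt N110009 F528889) (tt N112670 F528890) (tt N110006 (iv5 D225142)) (tt N121589 F528891) (tt N119823 F528892))
theorem Q121885 : ∀ i, i < 121885 → P i := stepQ 121884 Q121884 (allL N121884 (tt N122312 (iv1 F531354)) (tt N122311 (iv0 F531346)) (tt N113431 F528895) (tt N120542 F528896) (tt N110371 F528898) (tt N110007 (iv5 D225143)) (tt N121546 F528897) (tt N121942 (iv7 F529205)))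
theorem Q121886 : ∀ i, i < 121886 → P i := stepQ 121885 Q121885 (allL N121885 (tt N122562 (iv1 F532869)) (tt N121837 F528903) (tt N121878 F528899) (tt N114616 F528900) (tt N121874 F528902) (tt N110036 (iv5 D225144)) (tt N122195 (iv6 F530708)) (tt N116627 F528901))
theorem Q121887 : ∀ i, i < 121887 → P i := stepQ 121886 Q121886 (allL N121886 (tt N121837 F528909) (tt N122562 (iv0 F532868)) (tt N116627 F528904) (tt N121835 F528905) (tt N121365 F528906) (tt N110037 (iv5 D225145)) (tt N119291 F528907) (tt N121878 F528908))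
theorem Q121888 : ∀ i, i < 121888 → P i := stepQ 121887 Q121887 (allL N121887 (tt N121109 F528915) (tt N113555 (iv0 F528916)) (tt N116158 F528910) (tt N110071 F528911) (tt N120483 F528912) (tt N114969 F528913) (tt N110068 (iv6 D225146)) (tt N113011 F528914))
theorem Q121889 : ∀ i, i < 121889 → P i := stepQ 121888 Q121888 (allL N121888 (tt N110129 F528921) (tt N120143 F528922) (tt N120141 F528917) (tt N120140 F528918) (tt N110086 (iv4 D225147)) (tt N122259 (iv5 F531043)) (tt N116638 F528919) (tt N120140 F528920))
theorem Q121890 : ∀ i, i < 121890 → P i := stepQ 121889 Q121889 (allL N121889 (tt N116159 F528928) (tt N121826 (iv0 F528929)) (tt N121334 F528923) (tt N114387 F528924) (tt N113602 F528925) (tt N114385 F528926) (tt N110091 (iv6 D225148)) (tt N120171 F528927))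
theorem Q121891 : ∀ i, i < 121891 → P i := stepQ 121890 Q121890 (allL N121890 (tt N117332 F528934) (tt N117331 (iv0 F528935)) (tt N117334 F528930) (tt N110114 (iv3 D225149)) (tt N121662 F528931) (tt N122345 (iv5 F531546)) (tt N111192 F528932) (tt N117329 F528933))
theorem Q121892 : ∀ i, i < 121892 → P i := stepQ 121891 Q121891 (allL N121891 (tt N122744 D226003) (tt N122745 D226004) (tt N122734 (iv2 F533910)) (tt N112784 F528936) (tt N110119 (iv4 D225150)) (tt N112783 F528937) (tt N122221 (iv6 F530855)) (tt N122719 (iv7 F533815)))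
theorem Q121893 : ∀ i, i < 121893 → P i := stepQ 121892 Q121892 (allL N121892 (tt N122745 (iv1 F533978)) (tt N122744 F533973) (tt N122719 (iv2 F533812)) (tt N122222 (iv3 F530859)) (tt N110120 (iv4 D225151)) (tt N121105 F528938) (tt N121814 F528939) (tt N122734 (iv7 F533914)))
theorem Q121894 : ∀ i, i < 121894 → P i := stepQ 121893 Q121893 (allL N121893 (tt N110126 (iv1 F528941)) (tt N110121 (iv0 D225152)) (tt N110122 F528944) (tt N116641 (iv3 F528942)) (tt N122140 (iv4 F530395)) (tt N116640 F528940) (tt N110122 (iv6 F528943)) (tt N110123 (iv7 F528945)))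
theorem Q121895 : ∀ i, i < 121895 → P i := stepQ 121894 Q121894 (allL N121894 (tt N110121 (iv1 D225153)) (tt N110126 F528946) (tt N110123 (iv2 F528950)) (tt N118436 (iv3 F528949)) (tt N122746 D226005) (tt N118435 F528948) (tt N122747 D226006) (tt N110122 F528947))
theorem Q121896 : ∀ i, i < 121896 → P i := stepQ 121895 Q121895 (allL N121895 (tt N112784 F528953) (tt N122738 (iv0 F533941)) (tt N110124 F528951) (tt N122748 D226007) (tt N110121 (iv4 D225154)) (tt N116184 F528952) (tt N122745 F533983) (tt N122712 (iv7 F533768)))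
theorem Q121897 : ∀ i, i < 121897 → P i := stepQ 121896 Q121896 (allL N121896 (tt N118856 F528958) (tt N118851 F528959) (tt N110125 F528954) (tt N117454 F528955) (tt N122745 (iv4 F533981)) (tt N117453 F528956) (tt N110121 (iv6 D225155)) (tt N117911 F528957))
theorem Q121898 : ∀ i, i < 121898 → P i := stepQ 121897 Q121897 (allL N121897 (tt N122221 (iv1 F530858)) (tt N122222 (iv0 F530861)) (tt N122140 (iv2 F530393)) (tt N118855 F528960) (tt N110122 (iv4 D225156)) (tt N120259 F528961) (tt N122140 (iv6 F530394)) (tt N122746 (iv7 F533988)))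
theorem Q121899 : ∀ i, i < 121899 → P i := stepQ 121898 Q121898 (allL N121898 (tt N113286 F528967) (tt N113284 F528968) (tt N116638 F528962) (tt N110123 (iv3 D225157)) (tt N117454 (iv4 F528965)) (tt N116357 F528963) (tt N120141 F528966) (tt N116641 F528964))
theorem Q121900 : ∀ i, i < 121900 → P i := stepQ 121899 Q121899 (allL N121899 (tt N122222 (iv1 F530862)) (tt N122221 (iv0 F530857)) (tt N122746 (iv2 F533985)) (tt N122745 F533982) (tt N110123 (iv4 D225158)) (tt N122141 (iv5 F530399)) (tt N122748 (iv6 F533998)) (tt N122140 F530396))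
theorem Q121901 : ∀ i, i < 121901 → P i := stepQ 121900 Q121900 (allL N121900 (tt N122747 F533995) (tt N122747 (iv0 F533994)) (tt N122747 (iv2 F533991)) (tt N120141 F528969) (tt N122748 (iv4 F533996)) (tt N122749 D226008) (tt N110123 (iv6 D225159)) (tt N122747 (iv7 F533993)))
theorem Q121902 : ∀ i, i < 121902 → P i := stepQ 121901 Q121901 (allL N121901 (tt N122712 (iv1 F533770)) (tt N110124 (iv0 D225160)) (tt N112784 (iv2 F528972)) (tt N122221 (iv3 F530854)) (tt N121309 F528971) (tt N112741 F528970) (tt N112784 (iv6 F528973)) (tt N122738 (iv7 F533940)))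
theorem Q121903 : ∀ i, i < 121903 → P i := stepQ 121902 Q121902 (allL N121902 (tt N122738 (iv1 F533942)) (tt N112784 (iv0 F528976)) (tt N122712 (iv2 F533765)) (tt N110124 (iv3 D225161)) (tt N110126 F528974) (tt N122590 (iv5 F533031)) (tt N121916 (iv6 F529046)) (tt N110124 (iv7 F528975)))
theorem Q121904 : ∀ i, i < 121904 → P i := stepQ 121903 Q121903 (allL N121903 (tt N122734 (iv1 F533916)) (tt N122719 (iv0 F533817)) (tt N122745 (iv2 F533984)) (tt N121916 (iv3 F529045)) (tt N110125 F528977) (tt N112778 F528978) (tt N110124 (iv6 D225162)) (tt N122744 (iv7 F533977)))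
theorem Q121905 : ∀ i, i < 121905 → P i := stepQ 121904 Q121904 (allL N121904 (tt N118851 (iv1 F528983)) (tt N118856 F528984) (tt N117911 F528979) (tt N110131 F528980) (tt N122744 (iv4 F533972)) (tt N117888 F528981) (tt N118851 F528982) (tt N110125 (iv7 D225163)))
theorem Q121906 : ∀ i, i < 121906 → P i := stepQ 121905 Q121905 (allL N121905 (tt N122715 F533791) (tt N120138 (iv0 F528989)) (tt N122716 (iv2 F533792)) (tt N110129 F528986) (tt N116647 F528987) (tt N122703 (iv5 F533706)) (tt N110128 (iv6 D225164)) (tt N118549 F528988))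
theorem Q121907 : ∀ i, i < 121907 → P i := stepQ 121906 Q121906 (allL N121906 (tt N120143 (iv1 F528994)) (tt N110129 (iv0 D225165)) (tt N120140 (iv2 F528992)) (tt N122747 (iv3 F533992)) (tt N118539 F528990) (tt N122255 (iv5 F531032)) (tt N118436 F528991) (tt N120141 F528993))
theorem Q121908 : ∀ i, i < 121908 → P i := stepQ 121907 Q121907 (allL N121907 (tt N122660 F533448) (tt N121984 (iv0 F529460)) (tt N120142 F528995) (tt N122703 F533711) (tt N114694 F528997) (tt N110129 (iv5 D225166)) (tt N118624 F528996) (tt N122459 (iv7 F532243)))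
theorem Q121909 : ∀ i, i < 121909 → P i := stepQ 121908 Q121908 (allL N121908 (tt N120141 (iv1 F529002)) (tt N120140 F529003) (tt N120143 F528998) (tt N118549 F528999) (tt N121811 F529000) (tt N122459 (iv5 F532241)) (tt N118540 F529001) (tt N110129 (iv7 D225167)))
theorem Q121910 : ∀ i, i < 121910 → P i := stepQ 121909 Q121909 (allL N121909 (tt N121646 F529009) (tt N122506 F532539) (tt N113572 F529004) (tt N118675 F529005) (tt N113058 F529006) (tt N110138 (iv5 D225168)) (tt N114201 F529007) (tt N113571 F529008))
theorem Q121911 : ∀ i, i < 121911 → P i := stepQ 121910 Q121910 (allL N121910 (tt N121333 F529015) (tt N121270 F529016) (tt N116550 F529010) (tt N113499 F529011) (tt N110143 F529012) (tt N116548 F529013) (tt N110142 (iv6 D225169)) (tt N121344 F529014))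
theorem Q121912 : ∀ i, i < 121912 → P i := stepQ 121911 Q121911 (allL N121911 (tt N110143 (iv1 D225170)) (tt N121687 F529017) (tt N122378 (iv2 F531738)) (tt N110170 (iv3 F529020)) (tt N121579 F529019) (tt N114036 F529018) (tt N116298 (iv6 F529021)) (tt N122377 (iv7 F531735)))
theorem Q121913 : ∀ i, i < 121913 → P i := stepQ 121912 Q121912 (allL N121912 (tt N113501 F529027) (tt N118013 F529028) (tt N114688 F529022) (tt N121832 F529023) (tt N114731 F529024) (tt N114686 F529025) (tt N110165 (iv6 D225171)) (tt N121208 F529026))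
theorem Q121914 : ∀ i, i < 121914 → P i := stepQ 121913 Q121913 (allL N121913 (tt N113023 (iv1 F529031)) (tt N110171 (iv0 D225172)) (tt N122320 (iv2 F531396)) (tt N122547 (iv3 F532773)) (tt N120134 F529029) (tt N122647 (iv5 F533374)) (tt N112973 F529030) (tt N121274 F529032))
theorem Q121915 : ∀ i, i < 121915 → P i := stepQ 121914 Q121914 (allL N121914 (tt N110176 (iv1 F529038)) (tt N110175 (iv0 D225173)) (tt N110179 (iv2 F529037)) (tt N117222 F529035) (tt N111299 F529034) (tt N111282 F529033) (tt N117221 F529036) (tt N110177 F529039))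
theorem Q121916 : ∀ i, i < 121916 → P i := stepQ 121915 Q121915 (allL N121915 (tt N122661 (iv1 F533455)) (tt N118527 (iv0 F529043)) (tt N122616 (iv2 F533191)) (tt N112893 F529040) (tt N110181 F529041) (tt N117843 F529042) (tt N110180 (iv6 D225174)) (tt N112936 (iv7 F529044)))
theorem Q121917 : ∀ i, i < 121917 → P i := stepQ 121916 Q121916 (allL N121916 (tt N122228 (iv1 F530890)) (tt N122226 (iv0 F530884)) (tt N122675 (iv2 F533533)) (tt N121903 F529045) (tt N110207 (iv4 D225175)) (tt N122224 (iv5 F530871)) (tt N121902 F529046) (tt N122672 (iv7 F533522)))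
theorem Q121918 : ∀ i, i < 121918 → P i := stepQ 121917 Q121917 (allL N121917 (tt N112963 F529051) (tt N112962 F529052) (tt N112964 F529047) (tt N110210 F529048) (tt N122699 (iv4 F533684)) (tt N110209 (iv5 D225176)) (tt N112968 F529049) (tt N112957 F529050))
theorem Q121919 : ∀ i, i < 121919 → P i := stepQ 121918 Q121918 (allL N121918 (tt N120951 F529054) (tt N122224 (iv0 F530874)) (tt N122590 (iv2 F533028)) (tt N122750 D226009) (tt N110210 (iv4 D225177)) (tt N122712 (iv5 F533766)) (tt N122589 F533027) (tt N116184 F529053))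
theorem Q121920 : ∀ i, i < 121920 → P i := stepQ 121919 Q121919 (allL N121919 (tt N112555 F529060) (tt N110703 F529061) (tt N110569 F529055) (tt N113322 F529056) (tt N110224 (iv4 D225178)) (tt N113321 F529059) (tt N110562 F529057) (tt N117240 F529058))
theorem Q121921 : ∀ i, i < 121921 → P i := stepQ 121920 Q121920 (allL N121920 (tt N110703 F529067) (tt N112555 F529068) (tt N117240 F529062) (tt N120103 F529063) (tt N110226 (iv4 D225179)) (tt N121881 F529064) (tt N112584 F529065) (tt N110569 F529066))
theorem Q121922 : ∀ i, i < 121922 → P i := stepQ 121921 Q121921 (allL N121921 (tt N110688 F529073) (tt N110687 (iv0 F529074)) (tt N110689 F529069) (tt N110231 (iv3 D225180)) (tt N121421 F529070) (tt N110681 F529071) (tt N122722 (iv6 F533836)) (tt N110680 F529072))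
theorem Q121923 : ∀ i, i < 121923 → P i := stepQ 121922 Q121922 (allL N121922 (tt N110686 F529080) (tt N110684 (iv0 F529081)) (tt N113347 F529075) (tt N110234 (iv3 D225181)) (tt N119877 F529076) (tt N120531 F529077) (tt N119880 F529078) (tt N119832 F529079))
theorem Q121924 : ∀ i, i < 121924 → P i := stepQ 121923 Q121923 (allL N121923 (tt N117209 (iv1 F529088)) (tt N119609 (iv0 F529087)) (tt N114720 F529082) (tt N110247 F529083) (tt N113921 F529084) (tt N117402 F529085) (tt N110246 (iv6 D225182)) (tt N112993 F529086))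
theorem Q121925 : ∀ i, i < 121925 → P i := stepQ 121924 Q121924 (allL N121924 (tt N110382 (iv1 F529094)) (tt N110250 (iv0 D225183)) (tt N110381 (iv2 F529093)) (tt N117731 F529091) (tt N116094 F529090) (tt N119992 F529089) (tt N113368 F529092) (tt N110380 F529095))
theorem Q121926 : ∀ i, i < 121926 → P i := stepQ 121925 Q121925 (allL N121925 (tt N119546 (iv1 F529101)) (tt N117365 F529102) (tt N119618 F529096) (tt N120114 F529097) (tt N112375 F529098) (tt N121529 F529099) (tt N114082 F529100) (tt N110262 (iv7 D225184)))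
theorem Q121927 : ∀ i, i < 121927 → P i := stepQ 121926 Q121926 (allL N121926 (tt N120829 F529108) (tt N113785 (iv0 F529109)) (tt N119023 F529103) (tt N110284 (iv3 D225185)) (tt N120821 F529104) (tt N113279 F529105) (tt N113790 F529106) (tt N120824 F529107))
theorem Q121928 : ∀ i, i < 121928 → P i := stepQ 121927 Q121927 (allL N121927 (tt N122442 (iv1 F532131)) (tt N116724 (iv0 F529112)) (tt N122662 (iv2 F533456)) (tt N110331 F529110) (tt N121984 (iv4 F529458)) (tt N121158 F529111) (tt N110329 (iv6 D225186)) (tt N122630 (iv7 F533274)))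
theorem Q121929 : ∀ i, i < 121929 → P i := stepQ 121928 Q121928 (allL N121928 (tt N112930 F529117) (tt N121090 (iv0 F529118)) (tt N119966 F529113) (tt N110330 (iv3 D225187)) (tt N121396 F529114) (tt N119965 F529115) (tt N122630 (iv6 F533273)) (tt N115129 F529116))
theorem Q121930 : ∀ i, i < 121930 → P i := stepQ 121929 Q121929 (allL N121929 (tt N113550 (iv1 F529123)) (tt N110341 (iv0 D225188)) (tt N113464 (iv2 F529122)) (tt N120195 (iv3 F529125)) (tt N113475 F529120) (tt N114899 F529119) (tt N110359 F529121) (tt N113475 F529124))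
theorem Q121931 : ∀ i, i < 121931 → P i := stepQ 121930 Q121930 (allL N121930 (tt N113211 F529131) (tt N113520 (iv0 F529132)) (tt N113519 F529126) (tt N110350 (iv3 D225189)) (tt N121546 F529127) (tt N116279 F529128) (tt N110371 F529129) (tt N113489 F529130))
theorem Q121932 : ∀ i, i < 121932 → P i := stepQ 121931 Q121931 (allL N121931 (tt N121351 F529138) (tt N120188 (iv0 F529139)) (tt N117748 F529133) (tt N110353 (iv3 D225190)) (tt N110390 F529134) (tt N117743 F529135) (tt N117395 F529136) (tt N117747 F529137))
theorem Q121933 : ∀ i, i < 121933 → P i := stepQ 121932 Q121932 (allL N121932 (tt N121373 (iv1 F529143)) (tt N110371 (iv0 D225191)) (tt N116600 (iv2 F529142)) (tt N122208 (iv3 F530782)) (tt N122310 (iv4 F531336)) (tt N116592 F529140) (tt N116593 F529141) (tt N113530 F529144))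
theorem Q121934 : ∀ i, i < 121934 → P i := stepQ 121933 Q121933 (allL N121933 (tt N116600 (iv1 F529151)) (tt N113530 F529150) (tt N110371 (iv2 D225192)) (tt N121113 F529145) (tt N113431 F529146) (tt N121442 F529147) (tt N113519 F529148) (tt N121373 F529149))
theorem Q121935 : ∀ i, i < 121935 → P i := stepQ 121934 Q121934 (allL N121934 (tt N117214 F529155) (tt N122208 (iv0 F530786)) (tt N120192 F529152) (tt N110375 (iv3 D225193)) (tt N121938 (iv4 F529177)) (tt N116676 F529153) (tt N120189 F529154) (tt N122209 (iv7 F530792)))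
theorem Q121936 : ∀ i, i < 121936 → P i := stepQ 121935 Q121935 (allL N121935 (tt N113546 (iv1 F529161)) (tt N110377 (iv0 D225194)) (tt N113545 (iv2 F529160)) (tt N111333 F529158) (tt N116475 F529157) (tt N111332 F529156) (tt N112985 F529159) (tt N113469 F529162))
theorem Q121937 : ∀ i, i < 121937 → P i := stepQ 121936 Q121936 (allL N121936 (tt N120391 F529167) (tt N119092 (iv0 F529168)) (tt N118772 F529163) (tt N110381 (iv3 D225195)) (tt N122309 (iv4 F531330)) (tt N118770 F529164) (tt N121094 F529165) (tt N118769 F529166))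
theorem Q121938 : ∀ i, i < 121938 → P i := stepQ 121937 Q121937 (allL N121937 (tt N112689 F529174) (tt N112690 F529175) (tt N110388 F529169) (tt N119943 F529170) (tt N110386 (iv4 D225196)) (tt N119864 F529173) (tt N119942 F529171) (tt N110391 F529172))
theorem Q121939 : ∀ i, i < 121939 → P i := stepQ 121938 Q121938 (allL N121938 (tt N110391 F529182) (tt N110388 (iv0 D225197)) (tt N112689 (iv2 F529180)) (tt N120366 F529178) (tt N121934 F529177) (tt N110924 F529176) (tt N121361 F529179) (tt N112690 (iv7 F529181)))
theorem Q121940 : ∀ i, i < 121940 → P i := stepQ 121939 Q121939 (allL N121939 (tt N110388 (iv1 D225198)) (tt N110391 F529183) (tt N112690 F529189) (tt N119771 (iv3 F529187)) (tt N121509 F529186) (tt N110925 F529185) (tt N120384 (iv6 F529188)) (tt N112689 F529184))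
theorem Q121941 : ∀ i, i < 121941 → P i := stepQ 121940 Q121940 (allL N121940 (tt N112690 (iv1 F529195)) (tt N112689 F529196) (tt N110391 F529190) (tt N121873 F529191) (tt N110389 F529192) (tt N119865 F529193) (tt N119856 F529194) (tt N110388 (iv7 D225199)))
theorem Q121942 : ∀ i, i < 121942 → P i := stepQ 121941 Q121941 (allL N121941 (tt N122318 (iv1 F531387)) (tt N114958 (iv0 F529202)) (tt N117229 F529197) (tt N110392 F529198) (tt N117395 F529199) (tt N120014 F529200) (tt N110390 (iv6 D225200)) (tt N117393 F529201))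
theorem Q121943 : ∀ i, i < 121943 → P i := stepQ 121942 Q121942 (allL N121942 (tt N122297 (iv1 F531261)) (tt N120471 F529208) (tt N121879 (iv2 F529206)) (tt N110398 (iv3 D225201)) (tt N110400 F529203) (tt N121839 (iv5 F529207)) (tt N121836 F529204) (tt N121884 F529205))
theorem Q121944 : ∀ i, i < 121944 → P i := stepQ 121943 Q121943 (allL N121943 (tt N119823 F529214) (tt N120466 F529215) (tt N121593 F529209) (tt N121839 F529210) (tt N112600 F529211) (tt N110398 (iv5 D225202)) (tt N112598 F529212) (tt N119927 F529213))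
theorem Q121945 : ∀ i, i < 121945 → P i := stepQ 121944 Q121944 (allL N121944 (tt N122306 F531315) (tt N119816 F529220) (tt N117252 F529216) (tt N110707 F529217) (tt N121585 F529218) (tt N110411 (iv5 D225203)) (tt N110706 F529219) (tt N122307 (iv7 F531320)))
theorem Q121946 : ∀ i, i < 121946 → P i := stepQ 121945 Q121945 (allL N121945 (tt N121776 F529225) (tt N114269 (iv0 F529226)) (tt N121288 F529221) (tt N110418 F529222) (tt N121997 (iv4 F529536)) (tt N120892 F529223) (tt N110416 (iv6 D225204)) (tt N121775 F529224))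
theorem Q121947 : ∀ i, i < 121947 → P i := stepQ 121946 Q121946 (allL N121946 (tt N117229 F529231) (tt N117393 (iv0 F529232)) (tt N114958 F529227) (tt N121789 F529228) (tt N110427 F529229) (tt N120177 F529230) (tt N110426 (iv6 D225205)) (tt N122318 (iv7 F531385)))
theorem Q121948 : ∀ i, i < 121948 → P i := stepQ 121947 Q121947 (allL N121947 (tt N121743 F529237) (tt N116647 F529238) (tt N118548 F529233) (tt N116687 F529234) (tt N121741 F529239) (tt N110437 (iv5 D225206)) (tt N120733 F529235) (tt N121750 F529236))
theorem Q121949 : ∀ i, i < 121949 → P i := stepQ 121948 Q121948 (allL N121948 (tt N122454 (iv1 F532214)) (tt N114488 F529241) (tt N121952 (iv2 F529260)) (tt N121794 F529240) (tt N110438 (iv4 D225207)) (tt N122347 (iv5 F531556)) (tt N122594 (iv6 F533055)) (tt N121951 (iv7 F529257)))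
theorem Q121950 : ∀ i, i < 121950 → P i := stepQ 121949 Q121949 (allL N121949 (tt N121655 (iv1 F529243)) (tt N110446 (iv0 D225208)) (tt N121643 (iv2 F529244)) (tt N120001 (iv3 F529245)) (tt N122383 (iv4 F531769)) (tt N120000 F529242) (tt N122472 (iv6 F532322)) (tt N121648 (iv7 F529246)))
theorem Q121951 : ∀ i, i < 121951 → P i := stepQ 121950 Q121950 (allL N121950 (tt N110446 (iv1 D225209)) (tt N121655 F529247) (tt N121648 F529253) (tt N115597 (iv3 F529251)) (tt N115962 F529250) (tt N121644 F529249) (tt N115961 (iv6 F529252)) (tt N121643 F529248))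
theorem Q121952 : ∀ i, i < 121952 → P i := stepQ 121951 Q121951 (allL N121951 (tt N119157 F529258) (tt N114995 F529259) (tt N115078 F529254) (tt N118010 F529255) (tt N110464 (iv4 D225210)) (tt N122439 (iv5 F532106)) (tt N115076 F529256) (tt N121948 F529257))
theorem Q121953 : ∀ i, i < 121953 → P i := stepQ 121952 Q121952 (allL N121952 (tt N114995 F529263) (tt N119157 F529264) (tt N121948 F529260) (tt N114399 F529261) (tt N110465 (iv4 D225211)) (tt N114397 (iv5 F529265)) (tt N121297 F529266) (tt N115078 F529262))
theorem Q121954 : ∀ i, i < 121954 → P i := stepQ 121953 Q121953 (allL N121953 (tt N117523 F529271) (tt N110558 (iv0 F529272)) (tt N118441 F529267) (tt N122453 (iv3 F532202)) (tt N121297 F529268) (tt N118440 F529269) (tt N110465 (iv6 D225212)) (tt N120574 F529270))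
theorem Q121955 : ∀ i, i < 121955 → P i := stepQ 121954 Q121954 (allL N121954 (tt N116724 F529275) (tt N122442 (iv0 F532130)) (tt N122630 (iv2 F533271)) (tt N111954 F529273) (tt N122660 (iv4 F533445)) (tt N110466 (iv5 D225213)) (tt N119966 F529274) (tt N122662 (iv7 F533460)))
theorem Q121956 : ∀ i, i < 121956 → P i := stepQ 121955 Q121955 (allL N121955 (tt N118437 (iv1 F529281)) (tt N122453 (iv0 F532206)) (tt N118374 F529276) (tt N110471 F529277) (tt N120011 F529278) (tt N118369 F529279) (tt N119133 F529280) (tt N110467 (iv7 D225214)))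
theorem Q121957 : ∀ i, i < 121957 → P i := stepQ 121956 Q121956 (allL N121956 (tt N110779 F529287) (tt N114896 F529288) (tt N117208 F529282) (tt N117928 F529283) (tt N110566 F529284) (tt N110488 (iv5 D225215)) (tt N120168 F529285) (tt N119593 F529286))
theorem Q121958 : ∀ i, i < 121958 → P i := stepQ 121957 Q121957 (allL N121957 (tt N121295 F529294) (tt N122705 (iv0 F533724)) (tt N119887 F529289) (tt N121290 F529290) (tt N110515 F529291) (tt N121355 F529292) (tt N110514 (iv6 D225216)) (tt N120020 F529293))
theorem Q121959 : ∀ i, i < 121959 → P i := stepQ 121958 Q121958 (allL N121958 (tt N121332 F529300) (tt N119627 (iv0 F529301)) (tt N121336 F529295) (tt N110531 (iv3 D225217)) (tt N121829 F529296) (tt N117724 F529297) (tt N121693 F529298) (tt N121335 F529299))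
theorem Q121960 : ∀ i, i < 121960 → P i := stepQ 121959 Q121959 (allL N121959 (tt N117240 (iv1 F529307)) (tt N110569 (iv0 D225218)) (tt N112555 (iv2 F529306)) (tt N120462 F529304) (tt N112317 F529303) (tt N119793 F529302) (tt N120198 F529305) (tt N110703 F529308))
theorem Q121961 : ∀ i, i < 121961 → P i := stepQ 121960 Q121960 (allL N121960 (tt N120226 F529314) (tt N117370 F529315) (tt N113321 F529309) (tt N120098 F529310) (tt N119924 F529311) (tt N110569 (iv5 D225219)) (tt N110571 F529312) (tt N121881 F529313))
theorem Q121962 : ∀ i, i < 121962 → P i := stepQ 121961 Q121961 (allL N121961 (tt N121876 F529320) (tt N121119 F529321) (tt N122201 (iv2 F530736)) (tt N121840 F529316) (tt N110571 (iv4 D225220)) (tt N117238 F529317) (tt N119924 F529318) (tt N121838 F529319))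
theorem Q121963 : ∀ i, i < 121963 → P i := stepQ 121962 Q121962 (allL N121962 (tt N111806 F529326) (tt N117863 F529327) (tt N116596 F529322) (tt N110587 F529323) (tt N116604 F529325) (tt N110586 (iv5 D225221)) (tt N118564 F529328) (tt N121761 F529324))
theorem Q121964 : ∀ i, i < 121964 → P i := stepQ 121963 Q121963 (allL N121963 (tt N116633 F529334) (tt N116653 (iv0 F529335)) (tt N116652 F529329) (tt N110590 (iv3 D225222)) (tt N120393 F529330) (tt N118846 F529331) (tt N116594 F529332) (tt N116651 F529333))
theorem Q121965 : ∀ i, i < 121965 → P i := stepQ 121964 Q121964 (allL N121964 (tt N122074 (iv1 F530009)) (tt N111033 F529341) (tt N110597 F529336) (tt N119441 F529337) (tt N115677 F529338) (tt N110595 (iv5 D225223)) (tt N115676 F529339) (tt N111981 F529340))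
theorem Q121966 : ∀ i, i < 121966 → P i := stepQ 121965 Q121965 (allL N121965 (tt N110597 (iv1 D225224)) (tt N111981 F529342) (tt N111033 F529345) (tt N114832 (iv3 F529344)) (tt N122064 (iv4 F529946)) (tt N111032 F529343) (tt N122063 F529944) (tt N122074 (iv7 F530007)))
theorem Q121967 : ∀ i, i < 121967 → P i := stepQ 121966 Q121966 (allL N121966 (tt N113529 F529350) (tt N113531 F529351) (tt N110718 F529346) (tt N112521 F529347) (tt N121789 F529348) (tt N110676 F529349) (tt N110612 (iv6 D225225)) (tt N122600 (iv7 F533096)))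
theorem Q121968 : ∀ i, i < 121968 → P i := stepQ 121967 Q121967 (allL N121967 (tt N121473 F529357) (tt N119848 (iv0 F529358)) (tt N119838 F529352) (tt N110615 F529353) (tt N111135 F529354) (tt N116934 F529355) (tt N110613 (iv6 D225226)) (tt N117294 F529356))
theorem Q121969 : ∀ i, i < 121969 → P i := stepQ 121968 Q121968 (allL N121968 (tt N119935 F529364) (tt N119717 (iv0 F529365)) (tt N110767 F529359) (tt N121540 F529360) (tt N121314 F529361) (tt N120468 F529362) (tt N110623 (iv6 D225227)) (tt N119934 F529363))
theorem Q121970 : ∀ i, i < 121970 → P i := stepQ 121969 Q121969 (allL N121969 (tt N110640 (iv1 D225228)) (tt N117020 F529366) (tt N117019 F529371) (tt N110647 (iv3 F529369)) (tt N117031 F529368) (tt N122696 (iv5 F533665)) (tt N120022 (iv6 F529370)) (tt N110806 F529367))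
theorem Q121971 : ∀ i, i < 121971 → P i := stepQ 121970 Q121970 (allL N121970 (tt N122573 (iv1 F532926)) (tt N120497 F529375) (tt N121979 (iv2 F529427)) (tt N116959 F529372) (tt N121976 (iv4 F529413)) (tt N110640 (iv5 D225229)) (tt N116959 F529373) (tt N117021 F529374))
theorem Q121972 : ∀ i, i < 121972 → P i := stepQ 121971 Q121971 (allL N121971 (tt N110813 (iv1 F529381)) (tt N110648 (iv0 D225230)) (tt N110810 (iv2 F529380)) (tt N119700 F529378) (tt N113216 F529377) (tt N119699 F529376) (tt N117224 F529379) (tt N110811 F529382))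
theorem Q121973 : ∀ i, i < 121973 → P i := stepQ 121972 Q121972 (allL N121972 (tt N118317 F529387) (tt N112081 F529388) (tt N118320 F529383) (tt N117510 F529384) (tt N118797 F529385) (tt N110656 (iv5 D225231)) (tt N118537 F529389) (tt N118319 F529386))
theorem Q121974 : ∀ i, i < 121974 → P i := stepQ 121973 Q121973 (allL N121973 (tt N119938 F529395) (tt N119097 (iv0 F529396)) (tt N118494 F529390) (tt N111363 F529391) (tt N110671 F529392) (tt N117071 F529393) (tt N110669 (iv6 D225232)) (tt N119775 F529394))
theorem Q121975 : ∀ i, i < 121975 → P i := stepQ 121974 Q121974 (allL N121974 (tt N110675 F529402) (tt N119877 F529403) (tt N119888 F529397) (tt N119886 F529398) (tt N118269 F529399) (tt N110673 (iv5 D225233)) (tt N121487 F529400) (tt N119889 F529401))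
theorem Q121976 : ∀ i, i < 121976 → P i := stepQ 121975 Q121975 (allL N121975 (tt N110676 (iv1 D225234)) (tt N119893 F529404) (tt N119892 F529410) (tt N121487 (iv3 F529408)) (tt N113481 F529406) (tt N121486 F529407) (tt N119886 (iv6 F529409)) (tt N119891 F529405))
theorem Q121977 : ∀ i, i < 121977 → P i := stepQ 121976 Q121976 (allL N121976 (tt N113347 F529415) (tt N119832 F529416) (tt N110684 F529411) (tt N121853 F529412) (tt N121970 F529413) (tt N110679 (iv5 D225235)) (tt N122156 (iv6 F530476)) (tt N110686 F529414))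
theorem Q121978 : ∀ i, i < 121978 → P i := stepQ 121977 Q121977 (allL N121977 (tt N110689 (iv1 F529419)) (tt N110680 (iv0 D225236)) (tt N110687 (iv2 F529420)) (tt N119853 F529418) (tt N122504 (iv4 F532526)) (tt N118301 F529417) (tt N121992 (iv6 F529505)) (tt N110688 (iv7 F529421)))
theorem Q121979 : ∀ i, i < 121979 → P i := stepQ 121978 Q121978 (allL N121978 (tt N110680 (iv1 D225237)) (tt N110689 F529422) (tt N110688 F529426) (tt N121993 (iv3 F529514)) (tt N122570 (iv4 F532905)) (tt N110729 F529424) (tt N121862 (iv6 F529425)) (tt N110687 F529423))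
theorem Q121980 : ∀ i, i < 121980 → P i := stepQ 121979 Q121979 (allL N121979 (tt N122013 (iv1 F529637)) (tt N122577 F532947) (tt N121970 F529427) (tt N122695 F533660) (tt N110684 (iv4 D225238)) (tt N118600 F529428) (tt N116546 F529429) (tt N119833 F529430))
theorem Q121981 : ∀ i, i < 121981 → P i := stepQ 121980 Q121980 (allL N121980 (tt N121799 F529436) (tt N110722 (iv0 F529437)) (tt N112553 F529431) (tt N110703 F529432) (tt N112320 F529433) (tt N119805 F529434) (tt N110702 (iv6 D225239)) (tt N120462 F529435))
theorem Q121982 : ∀ i, i < 121982 → P i := stepQ 121981 Q121981 (allL N121981 (tt N113351 F529442) (tt N113350 F529444) (tt N110710 F529438) (tt N119738 F529439) (tt N113193 F529443) (tt N110709 (iv5 D225240)) (tt N120004 F529440) (tt N113352 F529441))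
theorem Q121983 : ∀ i, i < 121983 → P i := stepQ 121982 Q121982 (allL N121982 (tt N121558 F529449) (tt N121553 F529450) (tt N112932 F529445) (tt N110712 F529446) (tt N112892 F529447) (tt N110711 (iv5 D225241)) (tt N122621 (iv6 F533223)) (tt N112929 F529448))
theorem Q121984 : ∀ i, i < 121984 → P i := stepQ 121983 Q121983 (allL N121983 (tt N116564 F529455) (tt N116563 (iv0 F529456)) (tt N116565 F529451) (tt N122621 (iv3 F533221)) (tt N116555 F529452) (tt N118286 F529453) (tt N110712 (iv6 D225242)) (tt N116554 F529454))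
theorem Q121985 : ∀ i, i < 121985 → P i := stepQ 121984 Q121984 (allL N121984 (tt N121907 F529460) (tt N122701 F533700) (tt N118572 F529457) (tt N122700 (iv3 F533691)) (tt N121927 F529458) (tt N118581 F529459) (tt N110715 (iv6 D225243)) (tt N122700 (iv7 F533694)))
theorem Q121986 : ∀ i, i < 121986 → P i := stepQ 121985 Q121985 (allL N121985 (tt N110718 (iv1 D225244)) (tt N122600 F533095) (tt N113531 F529465) (tt N119819 (iv3 F529464)) (tt N113511 F529463) (tt N121225 F529462) (tt N120392 (iv6 F529466)) (tt N113529 F529461))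
theorem Q121987 : ∀ i, i < 121987 → P i := stepQ 121986 Q121986 (allL N121986 (tt N122200 F530735) (tt N122200 (iv0 F530734)) (tt N122731 (iv2 F533889)) (tt N110724 F529467) (tt N121426 F529468) (tt N117283 F529469) (tt N110723 (iv6 D225245)) (tt N122731 (iv7 F533892)))
theorem Q121988 : ∀ i, i < 121988 → P i := stepQ 121987 Q121987 (allL N121987 (tt N113525 (iv1 F529472)) (tt N110724 (iv0 D225246)) (tt N113526 F529474) (tt N118239 (iv3 F529473)) (tt N113409 F529471) (tt N119829 F529470) (tt N122311 (iv6 F531343)) (tt N113527 F529475))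
theorem Q121989 : ∀ i, i < 121989 → P i := stepQ 121988 Q121988 (allL N121988 (tt N110724 (iv1 D225247)) (tt N113525 F529476) (tt N113527 F529481) (tt N119814 (iv3 F529480)) (tt N120889 F529478) (tt N119830 F529479) (tt N121800 F529482) (tt N113526 F529477))
theorem Q121990 : ∀ i, i < 121990 → P i := stepQ 121989 Q121989 (allL N121989 (tt N121719 F529487) (tt N121574 F529488) (tt N118520 F529483) (tt N118512 F529484) (tt N121088 F529486) (tt N110732 (iv5 D225248)) (tt N122301 (iv6 F531281)) (tt N118522 F529485))
theorem Q121991 : ∀ i, i < 121991 → P i := stepQ 121990 Q121990 (allL N121990 (tt N121574 F529494) (tt N121719 F529495) (tt N118522 F529489) (tt N112935 F529490) (tt N121089 F529493) (tt N110734 (iv5 D225249)) (tt N121466 F529491) (tt N118520 F529492))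
theorem Q121992 : ∀ i, i < 121992 → P i := stepQ 121991 Q121991 (allL N121991 (tt N119810 F529500) (tt N119809 F529501) (tt N119811 F529496) (tt N119817 F529502) (tt N110735 (iv4 D225250)) (tt N119863 F529497) (tt N119793 F529498) (tt N110745 F529499))
theorem Q121993 : ∀ i, i < 121993 → P i := stepQ 121992 Q121992 (allL N121992 (tt N119882 F529509) (tt N119883 (iv0 F529508)) (tt N121805 F529503) (tt N110737 (iv3 D225251)) (tt N118352 F529507) (tt N119690 F529504) (tt N121977 F529505) (tt N117371 F529506))
theorem Q121994 : ∀ i, i < 121994 → P i := stepQ 121993 Q121993 (allL N121993 (tt N122006 (iv1 F529598)) (tt N121587 F529513) (tt N119764 F529510) (tt N121978 F529514) (tt N110737 (iv4 D225252)) (tt N120220 (iv5 F529515)) (tt N121392 F529511) (tt N121390 F529512))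
theorem Q121995 : ∀ i, i < 121995 → P i := stepQ 121994 Q121994 (allL N121994 (tt N110739 (iv1 D225253)) (tt N110800 F529516) (tt N119103 F529522) (tt N110820 (iv3 F529520)) (tt N110783 F529519) (tt N119697 F529518) (tt N119710 (iv6 F529521)) (tt N112598 F529517))
theorem Q121996 : ∀ i, i < 121996 → P i := stepQ 121995 Q121995 (allL N121995 (tt N121363 F529527) (tt N121363 (iv0 F529528)) (tt N119808 F529523) (tt N110741 (iv3 D225254)) (tt N122743 (iv4 F533965)) (tt N121240 F529524) (tt N119794 F529525) (tt N119808 F529526))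
theorem Q121997 : ∀ i, i < 121997 → P i := stepQ 121996 Q121996 (allL N121996 (tt N119811 (iv1 F529533)) (tt N110745 (iv0 D225255)) (tt N119809 (iv2 F529532)) (tt N121696 (iv3 F529535)) (tt N120341 F529530) (tt N121695 F529529) (tt N117487 F529531) (tt N119810 F529534))
theorem Q121998 : ∀ i, i < 121998 → P i := stepQ 121997 Q121997 (allL N121997 (tt N121369 (iv1 F529539)) (tt N110746 (iv0 D225256)) (tt N121371 (iv2 F529540)) (tt N121370 F529537) (tt N121945 F529536) (tt N122694 (iv5 F533649)) (tt N110768 F529538) (tt N121370 (iv7 F529541)))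
theorem Q121999 : ∀ i, i < 121999 → P i := stepQ 121998 Q121998 (allL N121998 (tt N110746 (iv1 D225257)) (tt N121369 F529542) (tt N121370 F529546) (tt N122563 (iv3 F532870)) (tt N122413 (iv4 F531958)) (tt N121626 F529544) (tt N116392 (iv6 F529545)) (tt N121371 F529543))
theorem Q122000 : ∀ i, i < 122000 → P i := stepQ 121999 Q121999 (allL N121999 (tt N110747 (iv1 D225258)) (tt N121391 F529547) (tt N121392 F529553) (tt N120226 (iv3 F529550)) (tt N119761 F529549) (tt N120223 (iv5 F529552)) (tt N119764 (iv6 F529551)) (tt N120227 F529548))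
theorem Q122001 : ∀ i, i < 122001 → P i := stepQ 122000 Q122000 (allL N122000 (tt N121591 F529559) (tt N122203 F530752) (tt N113198 F529554) (tt N121876 F529555) (tt N113196 F529556) (tt N110749 (iv5 D225259)) (tt N110750 F529557) (tt N121882 F529558))
theorem Q122002 : ∀ i, i < 122002 → P i := stepQ 122001 Q122001 (allL N122001 (tt N116358 F529564) (tt N116599 (iv0 F529565)) (tt N116601 F529560) (tt N110759 (iv3 D225260)) (tt N118562 F529561) (tt N113530 F529562) (tt N121256 F529566) (tt N116592 F529563))
theorem Q122003 : ∀ i, i < 122003 → P i := stepQ 122002 Q122002 (allL N122002 (tt N116581 F529572) (tt N116476 F529573) (tt N116582 F529567) (tt N121256 F529568) (tt N110761 F529569) (tt N121189 F529570) (tt N110759 (iv6 D225261)) (tt N116574 F529571))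
theorem Q122004 : ∀ i, i < 122004 → P i := stepQ 122003 Q122003 (allL N122003 (tt N110799 F529579) (tt N116860 F529580) (tt N119702 F529574) (tt N110811 F529575) (tt N121376 F529576) (tt N110761 (iv5 D225262)) (tt N117226 F529577) (tt N119700 F529578))
theorem Q122005 : ∀ i, i < 122005 → P i := stepQ 122004 Q122004 (allL N122004 (tt N112340 F529585) (tt N116099 F529586) (tt N117142 F529581) (tt N113449 F529582) (tt N110777 (iv4 D225263)) (tt N120648 F529584) (tt N110779 F529583) (tt N117143 (iv7 F529587)))
theorem Q122006 : ∀ i, i < 122006 → P i := stepQ 122005 Q122005 (allL N122005 (tt N113432 (iv1 F529593)) (tt N122009 F529615) (tt N121537 F529588) (tt N110785 F529589) (tt N117143 F529590) (tt N110778 F529591) (tt N117239 F529592) (tt N110777 (iv7 D225264)))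
theorem Q122007 : ∀ i, i < 122007 → P i := stepQ 122006 Q122006 (allL N122006 (tt N119786 (iv1 F529597)) (tt N121993 F529598) (tt N122205 (iv2 F530761)) (tt N122542 F532750) (tt N110785 F529594) (tt N112677 F529595) (tt N119948 F529596) (tt N110784 (iv7 D225265)))
theorem Q122008 : ∀ i, i < 122008 → P i := stepQ 122007 Q122007 (allL N122007 (tt N121486 (iv1 F529603)) (tt N110786 (iv0 D225266)) (tt N122727 (iv2 F533861)) (tt N117929 F529601) (tt N119680 F529600) (tt N121279 F529599) (tt N116943 F529602) (tt N119774 F529604))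
theorem Q122009 : ∀ i, i < 122009 → P i := stepQ 122008 Q122008 (allL N122008 (tt N122727 (iv1 F533867)) (tt N119774 F529609) (tt N110786 (iv2 D225267)) (tt N120458 F529605) (tt N114892 F529606) (tt N119891 F529607) (tt N122537 (iv6 F532717)) (tt N121486 F529608))
theorem Q122010 : ∀ i, i < 122010 → P i := stepQ 122009 Q122009 (allL N122009 (tt N122005 (iv1 F529615)) (tt N110789 (iv0 D225268)) (tt N113336 (iv2 F529614)) (tt N119710 F529612) (tt N113334 F529610) (tt N119709 F529611) (tt N110820 F529613) (tt N119916 F529616))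
theorem Q122011 : ∀ i, i < 122011 → P i := stepQ 122010 Q122010 (allL N122010 (tt N122285 F531186) (tt N110794 (iv0 D225269)) (tt N121867 (iv2 F529621)) (tt N117212 F529619) (tt N119834 F529618) (tt N120087 F529617) (tt N116194 F529620) (tt N117245 F529622))
theorem Q122012 : ∀ i, i < 122012 → P i := stepQ 122011 Q122011 (allL N122011 (tt N110801 F529628) (tt N116393 F529629) (tt N116394 F529623) (tt N116682 F529624) (tt N110798 (iv4 D225270)) (tt N118378 F529625) (tt N116667 F529626) (tt N116391 F529627))
theorem Q122013 : ∀ i, i < 122013 → P i := stepQ 122012 Q122012 (allL N122012 (tt N117003 F529631) (tt N121664 F529632) (tt N122564 (iv2 F532872)) (tt N110807 F529630) (tt N122202 (iv4 F530744)) (tt N110806 (iv5 D225271)) (tt N122726 (iv6 F533860)) (tt N122696 (iv7 F533667)))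
theorem Q122014 : ∀ i, i < 122014 → P i := stepQ 122013 Q122013 (allL N122013 (tt N117021 F529636) (tt N121979 F529637) (tt N122573 (iv2 F532922)) (tt N110810 (iv3 D225272)) (tt N122067 (iv4 F529965)) (tt N119909 F529633) (tt N119902 F529634) (tt N120497 F529635))
theorem Q122015 : ∀ i, i < 122015 → P i := stepQ 122014 Q122014 (allL N122014 (tt N113523 F529643) (tt N116950 F529644) (tt N121546 F529638) (tt N113436 F529639) (tt N113519 F529642) (tt N110815 (iv5 D225273)) (tt N113431 F529640) (tt N121252 F529641))
theorem Q122016 : ∀ i, i < 122016 → P i := stepQ 122015 Q122015 (allL N122015 (tt N120316 (iv1 F529651)) (tt N111968 (iv0 F529650)) (tt N120305 F529645) (tt N110867 (iv3 D225274)) (tt N120245 F529646) (tt N112971 F529647) (tt N110878 F529648) (tt N120307 F529649))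
theorem Q122017 : ∀ i, i < 122017 → P i := stepQ 122016 Q122016 (allL N122016 (tt N119975 F529657) (tt N119974 F529656) (tt N110870 F529652) (tt N116160 F529653) (tt N116812 F529654) (tt N110869 (iv5 D225275)) (tt N122270 (iv6 F531089)) (tt N119971 F529655))
theorem Q122018 : ∀ i, i < 122018 → P i := stepQ 122017 Q122017 (allL N122017 (tt N122272 (iv1 F531101)) (tt N116709 (iv0 F529662)) (tt N122270 (iv2 F531086)) (tt N110872 F529658) (tt N121516 F529659) (tt N112592 F529660) (tt N110870 (iv6 D225276)) (tt N121510 F529661))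
theorem Q122019 : ∀ i, i < 122019 → P i := stepQ 122018 Q122018 (allL N122018 (tt N120299 F529666) (tt N117260 F529667) (tt N121106 F529663) (tt N120446 F529664) (tt N110872 F529665) (tt N122155 (iv5 F530470)) (tt N110871 (iv6 D225277)) (tt N122266 (iv7 F531071)))
theorem Q122020 : ∀ i, i < 122020 → P i := stepQ 122019 Q122019 (allL N122019 (tt N111953 F529672) (tt N122706 F533730) (tt N112780 F529668) (tt N121101 F529669) (tt N110880 F529670) (tt N122744 (iv5 F533971)) (tt N110879 (iv6 D225278)) (tt N112778 F529671))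
theorem Q122021 : ∀ i, i < 122021 → P i := stepQ 122020 Q122020 (allL N122020 (tt N116699 F529677) (tt N116134 F529678) (tt N110883 F529673) (tt N121495 F529674) (tt N116267 F529675) (tt N110882 (iv5 D225279)) (tt N116266 F529679) (tt N119955 F529676))
theorem Q122022 : ∀ i, i < 122022 → P i := stepQ 122021 Q122021 (allL N122021 (tt N116800 F529685) (tt N117217 F529686) (tt N116266 F529680) (tt N110885 F529681) (tt N113813 F529682) (tt N113429 F529683) (tt N110883 (iv6 D225280)) (tt N116268 F529684))
theorem Q122023 : ∀ i, i < 122023 → P i := stepQ 122022 Q122022 (allL N122022 (tt N119990 (iv1 F529693)) (tt N119958 F529692) (tt N110886 (iv2 D225281)) (tt N119964 F529687) (tt N117617 F529688) (tt N113552 F529689) (tt N121246 F529690) (tt N119989 F529691))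
theorem Q122024 : ∀ i, i < 122024 → P i := stepQ 122023 Q122023 (allL N122023 (tt N110921 (iv1 D225282)) (tt N120218 F529694) (tt N116943 F529698) (tt N118230 (iv3 F529697)) (tt N122421 (iv4 F532006)) (tt N115118 F529696) (tt N122727 (iv6 F533864)) (tt N116942 F529695))
theorem Q122025 : ∀ i, i < 122025 → P i := stepQ 122024 Q122024 (allL N122024 (tt N118314 F529704) (tt N112212 F529705) (tt N118253 F529699) (tt N118674 F529700) (tt N111900 F529703) (tt N110931 (iv5 D225283)) (tt N118218 F529701) (tt N118256 F529702))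
theorem Q122026 : ∀ i, i < 122026 → P i := stepQ 122025 Q122025 (allL N122025 (tt N111375 (iv1 F529710)) (tt N110932 (iv0 D225284)) (tt N117273 (iv2 F529709)) (tt N110939 F529707) (tt N122575 (iv4 F532933)) (tt N118641 F529706) (tt N118254 F529708) (tt N118969 F529711))
theorem Q122027 : ∀ i, i < 122027 → P i := stepQ 122026 Q122026 (allL N122026 (tt N119064 F529717) (tt N118155 F529718) (tt N119061 F529712) (tt N110949 F529713) (tt N118157 F529714) (tt N110948 (iv5 D225285)) (tt N121607 F529715) (tt N119062 F529716))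
theorem Q122028 : ∀ i, i < 122028 → P i := stepQ 122027 Q122027 (allL N122027 (tt N120519 F529723) (tt N120521 F529724) (tt N118844 F529719) (tt N110959 (iv3 D225286)) (tt N119127 F529720) (tt N121744 F529721) (tt N112231 F529722) (tt N122448 (iv7 F532170)))
theorem Q122029 : ∀ i, i < 122029 → P i := stepQ 122028 Q122028 (allL N122028 (tt N115529 F529729) (tt N115528 F529730) (tt N110964 F529725) (tt N117197 F529726) (tt N115610 F529731) (tt N110963 (iv5 D225287)) (tt N114108 F529727) (tt N115527 F529728))
theorem Q122030 : ∀ i, i < 122030 → P i := stepQ 122029 Q122029 (allL N122029 (tt N115583 F529736) (tt N118957 (iv0 F529737)) (tt N115610 F529732) (tt N115953 F529733) (tt N110964 (iv4 D225288)) (tt N118924 F529734) (tt N115952 F529738) (tt N120044 F529735))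
theorem Q122031 : ∀ i, i < 122031 → P i := stepQ 122030 Q122030 (allL N122030 (tt N114105 F529744) (tt N114109 (iv0 F529745)) (tt N114108 F529739) (tt N110966 F529740) (tt N115952 F529741) (tt N121721 F529742) (tt N110964 (iv6 D225289)) (tt N114107 F529743))
theorem Q122032 : ∀ i, i < 122032 → P i := stepQ 122031 Q122031 (allL N122031 (tt N115962 F529750) (tt N122383 F531773) (tt N114161 F529746) (tt N122086 (iv3 F530073)) (tt N115926 F529747) (tt N118899 F529748) (tt N110976 (iv6 D225290)) (tt N115923 F529749))
theorem Q122033 : ∀ i, i < 122033 → P i := stepQ 122032 Q122032 (allL N122032 (tt N121732 F529754) (tt N118260 F529755) (tt N117046 F529751) (tt N122423 (iv3 F532016)) (tt N122471 (iv4 F532315)) (tt N111002 (iv5 D225291)) (tt N115914 F529752) (tt N118392 F529753))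
theorem Q122034 : ∀ i, i < 122034 → P i := stepQ 122033 Q122033 (allL N122033 (tt N112903 F529760) (tt N122049 (iv0 F529852)) (tt N119585 F529756) (tt N122668 (iv3 F533498)) (tt N111004 (iv4 D225292)) (tt N118741 F529757) (tt N119560 F529758) (tt N119586 F529759))
theorem Q122035 : ∀ i, i < 122035 → P i := stepQ 122034 Q122034 (allL N122034 (tt N122041 F529801) (tt N122126 (iv0 F530324)) (tt N111494 F529761) (tt N118951 F529762) (tt N119195 F529763) (tt N111016 (iv5 D225293)) (tt N115434 F529764) (tt N112009 F529765))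
theorem Q122036 : ∀ i, i < 122036 → P i := stepQ 122035 Q122035 (allL N122035 (tt N119568 F529768) (tt N122288 (iv0 F531206)) (tt N122325 (iv2 F531429)) (tt N122289 F531212) (tt N111045 (iv4 D225294)) (tt N122718 (iv5 F533808)) (tt N120831 F529766) (tt N121774 F529767))
theorem Q122037 : ∀ i, i < 122037 → P i := stepQ 122036 Q122036 (allL N122036 (tt N122076 (iv1 F530022)) (tt N111051 (iv0 D225295)) (tt N111646 (iv2 F529772)) (tt N115393 F529771) (tt N111623 F529770) (tt N115236 F529769) (tt N122409 (iv6 F531931)) (tt N111647 F529773))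
theorem Q122038 : ∀ i, i < 122038 → P i := stepQ 122037 Q122037 (allL N122037 (tt N111647 (iv1 F529777)) (tt N111646 F529778) (tt N122076 (iv2 F530016)) (tt N122118 (iv3 F530276)) (tt N114841 F529774) (tt N115282 F529775) (tt N114841 F529776) (tt N111051 (iv7 D225296)))
theorem Q122039 : ∀ i, i < 122039 → P i := stepQ 122038 Q122038 (allL N122038 (tt N111987 (iv1 F529781)) (tt N111052 (iv0 D225297)) (tt N111509 (iv2 F529782)) (tt N122579 (iv3 F532958)) (tt N111469 F529779) (tt N122486 (iv5 F532416)) (tt N114855 F529780) (tt N111511 (iv7 F529783)))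
theorem Q122040 : ∀ i, i < 122040 → P i := stepQ 122039 Q122039 (allL N122039 (tt N111052 (iv1 D225298)) (tt N111987 F529784) (tt N111511 F529790) (tt N115869 (iv3 F529787)) (tt N111470 F529786) (tt N115868 (iv5 F529789)) (tt N115948 (iv6 F529788)) (tt N111509 F529785))
theorem Q122041 : ∀ i, i < 122041 → P i := stepQ 122040 Q122040 (allL N122040 (tt N119127 F529794) (tt N115895 F529796) (tt N119197 F529791) (tt N114120 F529792) (tt N120352 F529795) (tt N111061 (iv5 D225299)) (tt N112307 F529793) (tt N122107 (iv7 F530210)))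
theorem Q122042 : ∀ i, i < 122042 → P i := stepQ 122041 Q122041 (allL N122041 (tt N111891 F529800) (tt N122034 (iv0 F529801)) (tt N120508 F529797) (tt N122110 F530232) (tt N120505 F529798) (tt N112155 F529799) (tt N111083 (iv6 D225300)) (tt N122084 (iv7 F530061)))
theorem Q122043 : ∀ i, i < 122043 → P i := stepQ 122042 Q122042 (allL N122042 (tt N111111 (iv1 F529805)) (tt N111110 (iv0 D225301)) (tt N117328 (iv2 F529804)) (tt N116464 (iv3 F529807)) (tt N121473 F529803) (tt N112106 F529802) (tt N117459 (iv6 F529808)) (tt N117151 F529806))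
theorem Q122044 : ∀ i, i < 122044 → P i := stepQ 122043 Q122043 (allL N122043 (tt N111690 (iv1 F529815)) (tt N111689 F529814) (tt N111113 (iv2 D225302)) (tt N111749 F529809) (tt N111384 F529810) (tt N119353 F529811) (tt N112079 F529812) (tt N112406 F529813))
theorem Q122045 : ∀ i, i < 122045 → P i := stepQ 122044 Q122044 (allL N122044 (tt N111120 (iv1 D225303)) (tt N112421 F529816) (tt N112442 F529821) (tt N115282 (iv3 F529819)) (tt N115284 F529818) (tt N122118 (iv5 F530277)) (tt N118980 (iv6 F529820)) (tt N112441 F529817))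
theorem Q122046 : ∀ i, i < 122046 → P i := stepQ 122045 Q122045 (allL N122045 (tt N119848 F529827) (tt N121473 F529828) (tt N117294 F529822) (tt N119836 F529823) (tt N111136 (iv4 D225304)) (tt N116932 F529824) (tt N116503 F529825) (tt N119838 F529826))
theorem Q122047 : ∀ i, i < 122047 → P i := stepQ 122046 Q122046 (allL N122046 (tt N114614 F529834) (tt N114620 (iv0 F529835)) (tt N114619 F529829) (tt N116549 F529830) (tt N121695 F529831) (tt N116560 F529832) (tt N111137 (iv6 D225305)) (tt N114618 F529833))
theorem Q122048 : ∀ i, i < 122048 → P i := stepQ 122047 Q122047 (allL N122047 (tt N119422 F529840) (tt N119422 (iv0 F529841)) (tt N116905 F529836) (tt N116908 F529837) (tt N121060 F529838) (tt N122729 (iv5 F533877)) (tt N111152 (iv6 D225306)) (tt N116905 F529839))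
theorem Q122049 : ∀ i, i < 122049 → P i := stepQ 122048 Q122048 (allL N122048 (tt N114508 (iv1 F529847)) (tt N114283 F529848) (tt N114507 F529842) (tt N118197 F529843) (tt N111160 F529844) (tt N114471 F529845) (tt N114979 F529846) (tt N111159 (iv7 D225307)))
theorem Q122050 : ∀ i, i < 122050 → P i := stepQ 122049 Q122049 (allL N122049 (tt N122033 F529852) (tt N119532 (iv0 F529853)) (tt N113118 F529849) (tt N121000 F529850) (tt N111219 F529851) (tt N122635 (iv5 F533302)) (tt N111164 (iv6 D225308)) (tt N122239 (iv7 F530951)))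
theorem Q122051 : ∀ i, i < 122051 → P i := stepQ 122050 Q122050 (allL N122050 (tt N119072 F529859) (tt N120189 F529860) (tt N117386 F529854) (tt N114021 F529855) (tt N121855 F529856) (tt N111193 (iv5 D225309)) (tt N114018 F529857) (tt N120190 F529858))
theorem Q122052 : ∀ i, i < 122052 → P i := stepQ 122051 Q122051 (allL N122051 (tt N117388 F529866) (tt N113063 F529867) (tt N113013 F529861) (tt N120364 F529862) (tt N116822 F529863) (tt N111199 (iv5 D225310)) (tt N116270 F529864) (tt N116821 F529865))
theorem Q122053 : ∀ i, i < 122053 → P i := stepQ 122052 Q122052 (allL N122052 (tt N120212 (iv1 F529874)) (tt N120213 F529873) (tt N111208 (iv2 D225311)) (tt N120167 F529868) (tt N121227 F529869) (tt N120420 F529870) (tt N120524 F529871) (tt N111360 F529872))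
theorem Q122054 : ∀ i, i < 122054 → P i := stepQ 122053 Q122053 (allL N122053 (tt N119044 F529880) (tt N115021 F529881) (tt N115030 F529875) (tt N117522 F529876) (tt N111210 (iv4 D225312)) (tt N117521 F529877) (tt N114923 F529878) (tt N120024 F529879))
theorem Q122055 : ∀ i, i < 122055 → P i := stepQ 122054 Q122054 (allL N122054 (tt N120896 F529884) (tt N119479 (iv0 F529885)) (tt N122502 (iv2 F532509)) (tt N111214 (iv3 D225313)) (tt N111215 F529882) (tt N122111 (iv5 F530237)) (tt N122108 (iv6 F530219)) (tt N119639 F529883))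
theorem Q122056 : ∀ i, i < 122056 → P i := stepQ 122055 Q122055 (allL N122055 (tt N121446 F529889) (tt N112000 (iv0 F529890)) (tt N121112 F529886) (tt N111216 F529887) (tt N122108 (iv4 F530218)) (tt N122485 (iv5 F532411)) (tt N111215 (iv6 D225314)) (tt N121447 F529888))
theorem Q122057 : ∀ i, i < 122057 → P i := stepQ 122056 Q122056 (allL N122056 (tt N120828 F529896) (tt N120893 (iv0 F529897)) (tt N116910 F529891) (tt N120895 F529892) (tt N119621 F529893) (tt N118666 F529894) (tt N111226 (iv6 D225315)) (tt N121348 F529895))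
theorem Q122058 : ∀ i, i < 122058 → P i := stepQ 122057 Q122057 (allL N122057 (tt N111270 (iv1 D225316)) (tt N111271 F529898) (tt N111278 F529904) (tt N120948 (iv3 F529902)) (tt N120409 F529901) (tt N113029 F529900) (tt N120383 (iv6 F529903)) (tt N111277 F529899))
theorem Q122059 : ∀ i, i < 122059 → P i := stepQ 122058 Q122058 (allL N122058 (tt N111289 F529909) (tt N111295 F529910) (tt N120409 F529905) (tt N121692 F529906) (tt N111278 (iv4 D225317)) (tt N113005 F529907) (tt N120404 F529911) (tt N116926 F529908))
theorem Q122060 : ∀ i, i < 122060 → P i := stepQ 122059 Q122059 (allL N122059 (tt N111279 F529916) (tt N111280 (iv0 F529917)) (tt N120383 F529912) (tt N122244 (iv3 F530977)) (tt N120404 F529913) (tt N120357 F529914) (tt N111278 (iv6 D225318)) (tt N120382 F529915))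
theorem Q122061 : ∀ i, i < 122061 → P i := stepQ 122060 Q122060 (allL N122060 (tt N122093 (iv1 F530114)) (tt N121107 F529923) (tt N115628 F529918) (tt N111292 F529919) (tt N116996 F529920) (tt N111291 (iv5 D225319)) (tt N113658 F529921) (tt N113659 F529922))
theorem Q122062 : ∀ i, i < 122062 → P i := stepQ 122061 Q122061 (allL N122061 (tt N114169 F529929) (tt N114167 F529930) (tt N121034 F529924) (tt N121038 F529925) (tt N111307 (iv4 D225320)) (tt N121023 F529926) (tt N121015 F529927) (tt N115508 F529928))
theorem Q122063 : ∀ i, i < 122063 → P i := stepQ 122062 Q122062 (allL N122062 (tt N111352 (iv1 D225321)) (tt N119125 F529931) (tt N119128 F529937) (tt N120561 (iv3 F529935)) (tt N112239 F529934) (tt N118131 F529933) (tt N112189 (iv6 F529936)) (tt N119129 F529932))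
theorem Q122064 : ∀ i, i < 122064 → P i := stepQ 122063 Q122063 (allL N122063 (tt N111568 F529941) (tt N115656 F529942) (tt N114852 F529938) (tt N115641 F529943) (tt N111356 (iv4 D225322)) (tt N114849 F529940) (tt N121965 (iv6 F529944)) (tt N120344 F529939))
theorem Q122065 : ∀ i, i < 122065 → P i := stepQ 122064 Q122064 (allL N122064 (tt N119558 F529948) (tt N115012 (iv0 F529949)) (tt N120347 F529945) (tt N122499 (iv3 F532494)) (tt N121965 F529946) (tt N120452 F529947) (tt N111356 (iv6 D225323)) (tt N122425 (iv7 F532029)))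
theorem Q122066 : ∀ i, i < 122066 → P i := stepQ 122065 Q122065 (allL N122065 (tt N115656 F529954) (tt N111568 F529955) (tt N120344 F529950) (tt N114858 F529956) (tt N111358 (iv4 D225324)) (tt N114853 F529951) (tt N113665 F529952) (tt N114852 F529953))
theorem Q122067 : ∀ i, i < 122067 → P i := stepQ 122066 Q122066 (allL N122066 (tt N121662 (iv1 F529960)) (tt N117330 F529961) (tt N122174 (iv2 F530584)) (tt N111382 F529957) (tt N121248 F529958) (tt N111413 F529959) (tt N122561 (iv6 F532860)) (tt N111378 (iv7 D225325)))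
theorem Q122068 : ∀ i, i < 122068 → P i := stepQ 122067 Q122067 (allL N122067 (tt N119291 F529966) (tt N122170 (iv0 F530563)) (tt N121454 F529962) (tt N117373 F529963) (tt N122013 F529965) (tt N111379 (iv5 D225326)) (tt N120421 F529964) (tt N122296 (iv7 F531254)))
theorem Q122069 : ∀ i, i < 122069 → P i := stepQ 122068 Q122068 (allL N122068 (tt N121820 F529972) (tt N121411 (iv0 F529973)) (tt N111388 F529967) (tt N113900 F529968) (tt N114127 F529969) (tt N119213 F529970) (tt N111385 (iv6 D225327)) (tt N120774 F529971))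
theorem Q122070 : ∀ i, i < 122070 → P i := stepQ 122069 Q122069 (allL N122069 (tt N111412 (iv1 F529978)) (tt N111411 F529979) (tt N111413 F529974) (tt N118257 F529975) (tt N117663 F529976) (tt N122174 (iv5 F530586)) (tt N117033 F529977) (tt N111404 (iv7 D225328)))
theorem Q122071 : ∀ i, i < 122071 → P i := stepQ 122070 Q122070 (allL N122070 (tt N112265 F529984) (tt N122334 (iv0 F531482)) (tt N119466 F529980) (tt N120776 F529981) (tt N119372 F529982) (tt N114727 F529983) (tt N111412 (iv6 D225329)) (tt N122175 (iv7 F530594)))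
theorem Q122072 : ∀ i, i < 122072 → P i := stepQ 122071 Q122071 (allL N122071 (tt N120561 F529990) (tt N111489 F529991) (tt N111429 F529985) (tt N118178 F529986) (tt N118959 F529987) (tt N111428 (iv5 D225330)) (tt N120562 F529988) (tt N111436 F529989))
theorem Q122073 : ∀ i, i < 122073 → P i := stepQ 122072 Q122072 (allL N122072 (tt N111429 (iv1 D225331)) (tt N111436 F529992) (tt N111489 F529997) (tt N119129 (iv3 F529996)) (tt N111488 F529995) (tt N111476 F529994) (tt N122111 (iv6 F530235)) (tt N120561 F529993))
theorem Q122074 : ∀ i, i < 122074 → P i := stepQ 122073 Q122073 (allL N122073 (tt N121063 F530003) (tt N122469 (iv0 F532307)) (tt N116057 F529998) (tt N111435 (iv3 D225332)) (tt N116372 F529999) (tt N112444 F530000) (tt N118962 F530001) (tt N116055 F530002))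
theorem Q122075 : ∀ i, i < 122075 → P i := stepQ 122074 Q122074 (allL N122074 (tt N115032 F530008) (tt N121964 F530009) (tt N111445 F530004) (tt N111820 F530005) (tt N122425 (iv4 F532027)) (tt N111444 (iv5 D225333)) (tt N113663 F530006) (tt N121965 F530007))
theorem Q122076 : ∀ i, i < 122076 → P i := stepQ 122075 Q122075 (allL N122075 (tt N115012 F530014) (tt N119558 F530015) (tt N122425 (iv2 F532026)) (tt N120347 F530010) (tt N111445 (iv4 D225334)) (tt N119153 F530011) (tt N120346 F530012) (tt N120347 F530013))
theorem Q122077 : ∀ i, i < 122077 → P i := stepQ 122076 Q122076 (allL N122076 (tt N115950 (iv1 F530021)) (tt N122036 F530022) (tt N122037 F530016) (tt N113665 F530017) (tt N114858 F530018) (tt N113664 F530019) (tt N114858 F530020) (tt N111447 (iv7 D225335)))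
theorem Q122078 : ∀ i, i < 122078 → P i := stepQ 122077 Q122077 (allL N122077 (tt N120560 (iv1 F530027)) (tt N111454 (iv0 D225336)) (tt N112855 (iv2 F530026)) (tt N119198 F530028) (tt N112262 F530024) (tt N112854 F530023) (tt N112261 F530025) (tt N122080 (iv7 F530044)))
theorem Q122079 : ∀ i, i < 122079 → P i := stepQ 122078 Q122078 (allL N122078 (tt N122339 (iv1 F531512)) (tt N122128 (iv0 F530337)) (tt N122082 (iv2 F530051)) (tt N114096 F530029) (tt N122081 (iv4 F530047)) (tt N115455 F530030) (tt N111455 (iv6 D225337)) (tt N119360 F530031))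
theorem Q122080 : ∀ i, i < 122080 → P i := stepQ 122079 Q122079 (allL N122079 (tt N115638 F530037) (tt N122121 F530295) (tt N117122 F530032) (tt N111460 (iv3 D225338)) (tt N121809 F530033) (tt N117118 F530034) (tt N120763 F530035) (tt N117655 F530036))
theorem Q122081 : ∀ i, i < 122081 → P i := stepQ 122080 Q122080 (allL N122080 (tt N115989 (iv1 F530043)) (tt N111481 (iv0 D225339)) (tt N111702 (iv2 F530042)) (tt N118177 F530040) (tt N118894 F530039) (tt N111701 F530038) (tt N121651 F530041) (tt N122077 F530044))
theorem Q122082 : ∀ i, i < 122082 → P i := stepQ 122081 Q122081 (allL N122081 (tt N114837 F530049) (tt N114838 F530050) (tt N117200 F530045) (tt N115841 F530046) (tt N122078 F530047) (tt N112470 F530048) (tt N111483 (iv6 D225340)) (tt N122343 (iv7 F531537)))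
theorem Q122083 : ∀ i, i < 122083 → P i := stepQ 122082 Q122082 (allL N122082 (tt N122399 F531871) (tt N117434 (iv0 F530055)) (tt N122078 F530051) (tt N112462 F530052) (tt N117200 F530053) (tt N121074 F530054) (tt N111486 (iv6 D225341)) (tt N122337 (iv7 F531497)))
theorem Q122084 : ∀ i, i < 122084 → P i := stepQ 122083 Q122083 (allL N122083 (tt N115912 F530058) (tt N116027 (iv0 F530059)) (tt N122124 (iv2 F530310)) (tt N120759 F530056) (tt N117653 F530057) (tt N122642 (iv5 F533341)) (tt N111491 (iv6 D225342)) (tt N122176 (iv7 F530600)))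
theorem Q122085 : ∀ i, i < 122085 → P i := stepQ 122084 Q122084 (allL N122084 (tt N111494 (iv1 D225343)) (tt N112009 F530060) (tt N122126 (iv2 F530319)) (tt N117624 (iv3 F530064)) (tt N115031 F530063) (tt N111633 F530062) (tt N115560 (iv6 F530065)) (tt N122041 F530061))
theorem Q122086 : ∀ i, i < 122086 → P i := stepQ 122085 Q122085 (allL N122085 (tt N111985 F530070) (tt N120540 F530071) (tt N119196 F530066) (tt N122334 (iv3 F531478)) (tt N111501 (iv4 D225344)) (tt N114998 F530067) (tt N121259 F530068) (tt N113904 F530069))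
theorem Q122087 : ∀ i, i < 122087 → P i := stepQ 122086 Q122086 (allL N122086 (tt N115539 F530077) (tt N115558 F530078) (tt N111903 F530072) (tt N122031 F530073) (tt N118256 F530074) (tt N111506 (iv5 D225345)) (tt N112251 F530075) (tt N111900 F530076))
theorem Q122088 : ∀ i, i < 122088 → P i := stepQ 122087 Q122087 (allL N122087 (tt N122642 (iv1 F533345)) (tt N113899 F530083) (tt N122486 (iv2 F532415)) (tt N114185 F530079) (tt N115992 F530082) (tt N111509 (iv5 D225346)) (tt N120504 F530080) (tt N115868 F530081))
theorem Q122089 : ∀ i, i < 122089 → P i := stepQ 122088 Q122088 (allL N122088 (tt N113899 F530088) (tt N122642 (iv0 F533344)) (tt N115868 F530084) (tt N114108 F530085) (tt N121762 F530086) (tt N111511 (iv5 D225347)) (tt N117197 F530087) (tt N122486 (iv7 F532418)))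
theorem Q122090 : ∀ i, i < 122090 → P i := stepQ 122089 Q122089 (allL N122089 (tt N117122 (iv1 F530094)) (tt N117655 (iv0 F530093)) (tt N122121 F530294) (tt N111520 F530089) (tt N120669 F530090) (tt N117485 F530091) (tt N111518 (iv6 D225348)) (tt N115638 F530092))
theorem Q122091 : ∀ i, i < 122091 → P i := stepQ 122090 Q122090 (allL N122090 (tt N122187 (iv1 F530668)) (tt N111823 (iv0 F530099)) (tt N122183 (iv2 F530641)) (tt N111519 (iv3 D225349)) (tt N120670 F530095) (tt N113567 F530096) (tt N114112 F530097) (tt N116069 F530098))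
theorem Q122092 : ∀ i, i < 122092 → P i := stepQ 122091 Q122091 (allL N122091 (tt N111584 F530105) (tt N121599 F530106) (tt N112178 F530100) (tt N119085 F530101) (tt N111521 (iv4 D225350)) (tt N119299 F530102) (tt N117502 F530103) (tt N117525 F530104))
theorem Q122093 : ∀ i, i < 122093 → P i := stepQ 122092 Q122092 (allL N122092 (tt N118937 F530111) (tt N120742 F530113) (tt N115573 F530107) (tt N111557 F530108) (tt N115982 F530112) (tt N111556 (iv5 D225351)) (tt N115563 F530109) (tt N118384 F530110))
theorem Q122094 : ∀ i, i < 122094 → P i := stepQ 122093 Q122093 (allL N122093 (tt N111566 (iv1 D225352)) (tt N122060 F530114) (tt N114013 F530120) (tt N115999 (iv3 F530118)) (tt N112225 F530117) (tt N113909 F530116) (tt N117192 (iv6 F530119)) (tt N120756 F530115))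
theorem Q122095 : ∀ i, i < 122095 → P i := stepQ 122094 Q122094 (allL N122094 (tt N114162 F530126) (tt N114160 F530127) (tt N111572 F530121) (tt N121705 F530122) (tt N121679 F530123) (tt N111895 F530124) (tt N111571 (iv6 D225353)) (tt N114129 F530125))
theorem Q122096 : ∀ i, i < 122096 → P i := stepQ 122095 Q122095 (allL N122095 (tt N113285 F530133) (tt N120738 (iv0 F530134)) (tt N118809 F530128) (tt N111601 (iv3 D225354)) (tt N113282 F530129) (tt N117319 F530130) (tt N117811 F530131) (tt N117318 F530132))
theorem Q122097 : ∀ i, i < 122097 → P i := stepQ 122096 Q122096 (allL N122096 (tt N115866 F530140) (tt N115869 (iv0 F530141)) (tt N114148 F530135) (tt N114219 F530136) (tt N114221 F530137) (tt N114521 F530138) (tt N111626 (iv6 D225355)) (tt N117614 F530139))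
theorem Q122098 : ∀ i, i < 122098 → P i := stepQ 122097 Q122097 (allL N122097 (tt N115897 (iv1 F530146)) (tt N111628 (iv0 D225356)) (tt N117106 (iv2 F530145)) (tt N117459 (iv3 F530148)) (tt N113829 F530143) (tt N115911 F530142) (tt N116464 F530144) (tt N116200 F530147))
theorem Q122099 : ∀ i, i < 122099 → P i := stepQ 122098 Q122098 (allL N122098 (tt N120034 F530153) (tt N121699 (iv0 F530154)) (tt N119323 F530149) (tt N122665 (iv3 F533477)) (tt N120027 F530150) (tt N119322 F530151) (tt N111638 (iv6 D225357)) (tt N119328 F530152))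
theorem Q122100 : ∀ i, i < 122100 → P i := stepQ 122099 Q122099 (allL N122099 (tt N120270 (iv1 F530160)) (tt N111644 (iv0 D225358)) (tt N115815 (iv2 F530159)) (tt N115743 F530157) (tt N115218 F530156) (tt N115882 F530155) (tt N113928 F530158) (tt N115741 F530161))
theorem Q122101 : ∀ i, i < 122101 → P i := stepQ 122100 Q122100 (allL N122100 (tt N118065 F530167) (tt N118065 (iv0 F530168)) (tt N111656 F530162) (tt N111659 F530163) (tt N121403 F530164) (tt N119392 F530165) (tt N111654 (iv6 D225359)) (tt N111656 F530166))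
theorem Q122102 : ∀ i, i < 122102 → P i := stepQ 122101 Q122101 (allL N122101 (tt N111655 (iv1 D225360)) (tt N115238 F530169) (tt N116086 F530175) (tt N115384 (iv3 F530173)) (tt N112508 F530172) (tt N115383 F530171) (tt N119453 (iv6 F530174)) (tt N116087 F530170))
theorem Q122103 : ∀ i, i < 122103 → P i := stepQ 122102 Q122102 (allL N122102 (tt N121415 F530181) (tt N121415 (iv0 F530182)) (tt N121403 F530176) (tt N112881 F530177) (tt N111656 F530178) (tt N121406 F530179) (tt N111655 (iv6 D225361)) (tt N121403 F530180))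
theorem Q122104 : ∀ i, i < 122104 → P i := stepQ 122103 Q122103 (allL N122103 (tt N121645 F530188) (tt N121649 (iv0 F530189)) (tt N121651 F530183) (tt N111703 F530184) (tt N118895 F530185) (tt N121606 F530186) (tt N111702 (iv6 D225362)) (tt N121652 F530187))
theorem Q122105 : ∀ i, i < 122105 → P i := stepQ 122104 Q122104 (allL N122104 (tt N122689 (iv1 F533628)) (tt N119649 F530193) (tt N122682 (iv2 F533576)) (tt N116355 F530190) (tt N111706 (iv4 D225363)) (tt N116370 F530191) (tt N120811 F530192) (tt N122234 (iv7 F530922)))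
theorem Q122106 : ∀ i, i < 122106 → P i := stepQ 122105 Q122105 (allL N122105 (tt N122177 F530607) (tt N111707 (iv0 D225364)) (tt N115981 (iv2 F530198)) (tt N115652 F530196) (tt N111783 F530195) (tt N119660 F530194) (tt N115090 F530197) (tt N115980 F530199))
theorem Q122107 : ∀ i, i < 122107 → P i := stepQ 122106 Q122106 (allL N122106 (tt N119639 F530205) (tt N122502 (iv0 F532514)) (tt N120896 F530200) (tt N117711 F530201) (tt N120841 F530204) (tt N111707 (iv5 D225365)) (tt N111708 F530202) (tt N119479 F530203))
theorem Q122108 : ∀ i, i < 122108 → P i := stepQ 122107 Q122107 (allL N122107 (tt N121639 F530211) (tt N118808 F530212) (tt N118132 F530206) (tt N119465 F530207) (tt N120516 F530208) (tt N111712 (iv5 D225366)) (tt N118823 F530209) (tt N122040 F530210))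
theorem Q122109 : ∀ i, i < 122109 → P i := stepQ 122108 Q122108 (allL N122108 (tt N114549 F530216) (tt N118271 F530217) (tt N117409 F530213) (tt N114300 F530214) (tt N122055 F530218) (tt N111719 (iv5 D225367)) (tt N122054 F530219) (tt N114560 F530215))
theorem Q122110 : ∀ i, i < 122110 → P i := stepQ 122109 Q122109 (allL N122109 (tt N115249 F530225) (tt N115248 (iv0 F530226)) (tt N115251 F530220) (tt N115202 F530221) (tt N111737 F530222) (tt N115382 F530223) (tt N111736 (iv6 D225368)) (tt N115247 F530224))
theorem Q122111 : ∀ i, i < 122111 → P i := stepQ 122110 Q122110 (allL N122110 (tt N118618 (iv1 F530230)) (tt N111776 (iv0 D225369)) (tt N122125 (iv2 F530313)) (tt N122041 (iv3 F530232)) (tt N116011 F530228) (tt N115775 F530227) (tt N121072 F530229) (tt N117624 F530231))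
theorem Q122112 : ∀ i, i < 122112 → P i := stepQ 122111 Q122111 (allL N122111 (tt N119246 F530238) (tt N122472 (iv0 F532324)) (tt N115983 F530233) (tt N115552 F530234) (tt N111786 (iv4 D225370)) (tt N122054 F530237) (tt N122072 F530235) (tt N115563 F530236))
theorem Q122113 : ∀ i, i < 122113 → P i := stepQ 122112 Q122112 (allL N122112 (tt N111794 (iv1 F530243)) (tt N111793 (iv0 D225371)) (tt N117954 (iv2 F530242)) (tt N115940 (iv3 F530245)) (tt N119677 F530240) (tt N115939 F530239) (tt N119676 F530241) (tt N117955 F530244))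
theorem Q122114 : ∀ i, i < 122114 → P i := stepQ 122113 Q122113 (allL N122113 (tt N115917 F530251) (tt N117042 F530252) (tt N117047 F530246) (tt N121716 F530247) (tt N117447 F530250) (tt N111793 (iv5 D225372)) (tt N120566 F530248) (tt N117048 F530249))
theorem Q122115 : ∀ i, i < 122115 → P i := stepQ 122114 Q122114 (allL N122114 (tt N117042 F530257) (tt N115917 F530258) (tt N117048 F530253) (tt N118990 F530254) (tt N120001 F530255) (tt N111794 (iv5 D225373)) (tt N122686 (iv6 F533606)) (tt N117047 F530256))
theorem Q122116 : ∀ i, i < 122116 → P i := stepQ 122115 Q122115 (allL N122115 (tt N115447 F530264) (tt N122522 (iv0 F532628)) (tt N121660 F530259) (tt N111796 F530260) (tt N118386 F530261) (tt N111795 (iv5 D225374)) (tt N117933 F530262) (tt N121668 F530263))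
theorem Q122117 : ∀ i, i < 122117 → P i := stepQ 122116 Q122116 (allL N122116 (tt N117863 (iv1 F530270)) (tt N111806 (iv0 D225375)) (tt N121761 (iv2 F530269)) (tt N116379 F530267) (tt N116381 F530266) (tt N117820 F530265) (tt N117823 F530268) (tt N116596 F530271))
theorem Q122118 : ∀ i, i < 122118 → P i := stepQ 122117 Q122117 (allL N122117 (tt N122183 (iv1 F530647)) (tt N116069 (iv0 F530275)) (tt N111823 F530272) (tt N113663 F530273) (tt N122568 (iv4 F532891)) (tt N112699 F530274) (tt N111820 (iv6 D225376)) (tt N122187 (iv7 F530665)))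
theorem Q122119 : ∀ i, i < 122119 → P i := stepQ 122118 Q122118 (allL N122118 (tt N116069 (iv1 F530279)) (tt N122183 (iv0 F530646)) (tt N122187 (iv2 F530662)) (tt N122037 F530276) (tt N122532 (iv4 F532689)) (tt N122044 F530277) (tt N115642 F530278) (tt N111823 (iv7 D225377)))
theorem Q122120 : ∀ i, i < 122120 → P i := stepQ 122119 Q122119 (allL N122119 (tt N121524 F530285) (tt N121830 (iv0 F530286)) (tt N113006 F530280) (tt N113892 F530281) (tt N111835 F530282) (tt N113380 F530283) (tt N111834 (iv6 D225378)) (tt N117220 F530284))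
theorem Q122121 : ∀ i, i < 122121 → P i := stepQ 122120 Q122120 (allL N122120 (tt N121434 F530289) (tt N121203 (iv0 F530290)) (tt N122607 (iv2 F533137)) (tt N117043 F530287) (tt N111854 F530288) (tt N122242 (iv5 F530967)) (tt N111853 (iv6 D225379)) (tt N122583 (iv7 F532985)))
theorem Q122122 : ∀ i, i < 122122 → P i := stepQ 122121 Q122121 (allL N122121 (tt N122079 (iv1 F530295)) (tt N111854 (iv0 D225380)) (tt N122089 (iv2 F530294)) (tt N116004 F530292) (tt N122714 (iv4 F533780)) (tt N117326 F530291) (tt N114835 F530293) (tt N116002 F530296))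
theorem Q122123 : ∀ i, i < 122123 → P i := stepQ 122122 Q122122 (allL N122122 (tt N119444 F530302) (tt N119443 F530303) (tt N118964 F530297) (tt N111981 F530298) (tt N118395 F530299) (tt N111861 (iv5 D225381)) (tt N117462 F530300) (tt N119441 F530301))
theorem Q122124 : ∀ i, i < 122124 → P i := stepQ 122123 Q122123 (allL N122123 (tt N115676 F530308) (tt N115679 (iv0 F530309)) (tt N121673 F530304) (tt N111883 (iv3 D225382)) (tt N118158 F530305) (tt N113887 F530306) (tt N122367 (iv6 F531676)) (tt N113886 F530307))
theorem Q122125 : ∀ i, i < 122125 → P i := stepQ 122124 Q122124 (allL N122124 (tt N122401 F531885) (tt N122409 (iv0 F531933)) (tt N122083 F530310) (tt N122367 (iv3 F531673)) (tt N112090 F530311) (tt N122367 (iv5 F531675)) (tt N111883 (iv6 D225383)) (tt N112246 F530312))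
theorem Q122126 : ∀ i, i < 122126 → P i := stepQ 122125 Q122125 (allL N122125 (tt N119324 F530317) (tt N115658 (iv0 F530318)) (tt N122110 F530313) (tt N111887 (iv3 D225384)) (tt N115657 F530314) (tt N112399 F530315) (tt N122631 (iv6 F533280)) (tt N121702 F530316))
theorem Q122127 : ∀ i, i < 122127 → P i := stepQ 122126 Q122126 (allL N122126 (tt N122034 F530324) (tt N111891 (iv0 F530325)) (tt N122084 F530319) (tt N111888 (iv3 D225385)) (tt N119119 F530320) (tt N112400 F530321) (tt N115906 F530322) (tt N120508 F530323))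
theorem Q122128 : ∀ i, i < 122128 → P i := stepQ 122127 Q122127 (allL N122127 (tt N118925 F530330) (tt N112259 (iv0 F530332)) (tt N118924 F530326) (tt N111897 (iv3 D225386)) (tt N117033 F530331) (tt N115610 F530327) (tt N117663 F530328) (tt N112450 F530329))
theorem Q122129 : ∀ i, i < 122129 → P i := stepQ 122128 Q122128 (allL N122128 (tt N122078 F530337) (tt N122337 (iv0 F531498)) (tt N117434 F530333) (tt N118396 F530334) (tt N111901 F530335) (tt N112053 F530336) (tt N111899 (iv6 D225387)) (tt N122399 (iv7 F531869)))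
theorem Q122130 : ∀ i, i < 122130 → P i := stepQ 122129 Q122129 (allL N122129 (tt N112212 F530341) (tt N118314 F530342) (tt N118256 F530338) (tt N122474 (iv3 F532335)) (tt N111903 (iv4 D225388)) (tt N118187 F530339) (tt N122473 F532332) (tt N118253 F530340))
theorem Q122131 : ∀ i, i < 122131 → P i := stepQ 122130 Q122130 (allL N122130 (tt N120848 F530347) (tt N122359 (iv0 F531625)) (tt N122707 (iv2 F533732)) (tt N111912 (iv3 D225389)) (tt N115403 F530343) (tt N121809 F530344) (tt N119205 F530345) (tt N120840 F530346))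
theorem Q122132 : ∀ i, i < 122132 → P i := stepQ 122131 Q122131 (allL N122131 (tt N122514 (iv1 F532587)) (tt N122404 (iv0 F531901)) (tt N122718 (iv2 F533806)) (tt N120904 F530348) (tt N122192 F530696) (tt N122325 (iv5 F531431)) (tt N111913 (iv6 D225390)) (tt N121204 F530349))
theorem Q122133 : ∀ i, i < 122133 → P i := stepQ 122132 Q122132 (allL N122132 (tt N120287 (iv1 F530355)) (tt N120362 (iv0 F530356)) (tt N120361 F530350) (tt N111917 (iv3 D225391)) (tt N120486 F530354) (tt N117398 F530351) (tt N119654 F530352) (tt N120301 F530353))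
theorem Q122134 : ∀ i, i < 122134 → P i := stepQ 122133 Q122133 (allL N122133 (tt N112789 F530362) (tt N113999 F530363) (tt N120303 F530357) (tt N120488 F530358) (tt N111917 (iv4 D225392)) (tt N120316 F530359) (tt N120368 F530360) (tt N120302 F530361))
theorem Q122135 : ∀ i, i < 122135 → P i := stepQ 122134 Q122134 (allL N122134 (tt N122518 (iv1 F532609)) (tt N122517 F532600) (tt N120298 F530364) (tt N120299 F530365) (tt N122709 (iv4 F533745)) (tt N111948 (iv5 D225393)) (tt N120298 F530366) (tt N122519 (iv7 F532612)))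
theorem Q122136 : ∀ i, i < 122136 → P i := stepQ 122135 Q122135 (allL N122135 (tt N120446 (iv1 F530369)) (tt N120294 F530370) (tt N120447 F530367) (tt N122145 F530421) (tt N111950 F530368) (tt N122519 (iv5 F532611)) (tt N122706 (iv6 F533729)) (tt N111948 (iv7 D225394)))
theorem Q122137 : ∀ i, i < 122137 → P i := stepQ 122136 Q122136 (allL N122136 (tt N114737 F530375) (tt N114740 (iv0 F530376)) (tt N111952 F530371) (tt N120064 F530372) (tt N114690 F530373) (tt N113837 F530374) (tt N111951 (iv6 D225395)) (tt N122416 (iv7 F531978)))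
theorem Q122138 : ∀ i, i < 122138 → P i := stepQ 122137 Q122137 (allL N122137 (tt N111952 (iv1 D225396)) (tt N122416 (iv0 F531979)) (tt N114740 F530381) (tt N117064 F530382) (tt N113969 F530379) (tt N121155 F530378) (tt N113968 (iv6 F530380)) (tt N114737 F530377))
theorem Q122139 : ∀ i, i < 122139 → P i := stepQ 122138 Q122138 (allL N122138 (tt N114740 (iv1 F530387)) (tt N114737 F530388) (tt N122416 (iv2 F531974)) (tt N111955 F530383) (tt N114689 F530384) (tt N116920 F530385) (tt N120439 F530386) (tt N111952 (iv7 D225397)))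
theorem Q122140 : ∀ i, i < 122140 → P i := stepQ 122139 Q122139 (allL N122139 (tt N122706 (iv1 F533731)) (tt N111953 (iv0 D225398)) (tt N112778 (iv2 F530391)) (tt N122141 (iv3 F530397)) (tt N112740 F530389) (tt N122745 (iv5 F533980)) (tt N116183 F530390) (tt N112780 F530392))
theorem Q122141 : ∀ i, i < 122141 → P i := stepQ 122140 Q122140 (allL N122140 (tt N122674 (iv1 F533532)) (tt N122673 (iv0 F533528)) (tt N121897 F530393) (tt N122225 (iv3 F530877)) (tt N121893 F530395) (tt N111953 (iv5 D225399)) (tt N121897 F530394) (tt N121899 (iv7 F530396)))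
theorem Q122142 : ∀ i, i < 122142 → P i := stepQ 122141 Q122141 (allL N122141 (tt N112780 (iv1 F530401)) (tt N112778 F530402) (tt N122706 (iv2 F533726)) (tt N122139 F530397) (tt N111955 F530398) (tt N121899 F530399) (tt N120447 F530400) (tt N111953 (iv7 D225400)))
theorem Q122143 : ∀ i, i < 122143 → P i := stepQ 122142 Q122142 (allL N122142 (tt N120312 F530407) (tt N120311 F530408) (tt N111960 F530403) (tt N120310 F530404) (tt N121614 F530405) (tt N111959 (iv5 D225401)) (tt N120370 (iv6 F530409)) (tt N120313 F530406))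
theorem Q122144 : ∀ i, i < 122144 → P i := stepQ 122143 Q122143 (allL N122143 (tt N122379 (iv1 F531745)) (tt N120321 (iv0 F530412)) (tt N111961 F530410) (tt N122516 (iv3 F532595)) (tt N120445 F530411) (tt N122266 (iv5 F531066)) (tt N111959 (iv6 D225402)) (tt N122155 (iv7 F530471)))
theorem Q122145 : ∀ i, i < 122145 → P i := stepQ 122144 Q122144 (allL N122144 (tt N122639 F533328) (tt N122640 (iv0 F533334)) (tt N121614 F530413) (tt N116563 F530414) (tt N111960 (iv4 D225403)) (tt N120570 F530417) (tt N121618 F530415) (tt N120314 F530416))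
theorem Q122146 : ∀ i, i < 122146 → P i := stepQ 122145 Q122145 (allL N122145 (tt N111968 (iv1 D225404)) (tt N120316 F530418) (tt N120307 F530422) (tt N122135 (iv3 F530421)) (tt N120246 F530420) (tt N122589 (iv5 F533023)) (tt N122220 (iv6 F530851)) (tt N120305 F530419))
theorem Q122147 : ∀ i, i < 122147 → P i := stepQ 122146 Q122146 (allL N122146 (tt N111979 (iv1 D225405)) (tt N112232 F530423) (tt N112231 F530428) (tt N118839 (iv3 F530426)) (tt N121763 F530425) (tt N122409 (iv5 F531930)) (tt N118844 (iv6 F530427)) (tt N112230 F530424))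
theorem Q122148 : ∀ i, i < 122148 → P i := stepQ 122147 Q122147 (allL N122147 (tt N112191 F530434) (tt N118738 F530435) (tt N118736 F530429) (tt N115090 F530430) (tt N111983 (iv4 D225406)) (tt N115089 F530433) (tt N115652 F530431) (tt N118737 F530432))
theorem Q122149 : ∀ i, i < 122149 → P i := stepQ 122148 Q122148 (allL N122148 (tt N118738 F530440) (tt N112191 F530441) (tt N118737 F530436) (tt N122506 (iv3 F532536)) (tt N111984 (iv4 D225407)) (tt N115000 F530437) (tt N118826 F530438) (tt N118736 F530439))
theorem Q122150 : ∀ i, i < 122150 → P i := stepQ 122149 Q122149 (allL N122149 (tt N120703 F530444) (tt N122510 (iv0 F532563)) (tt N122467 (iv2 F532290)) (tt N122535 (iv3 F532702)) (tt N118890 F530443) (tt N112000 (iv5 D225408)) (tt N118889 F530442) (tt N122535 (iv7 F532705)))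
theorem Q122151 : ∀ i, i < 122151 → P i := stepQ 122150 Q122150 (allL N122150 (tt N122189 F530676) (tt N122410 (iv0 F531939)) (tt N122341 (iv2 F531521)) (tt N122406 (iv3 F531910)) (tt N121712 F530445) (tt N112018 (iv5 D225409)) (tt N122405 (iv6 F531908)) (tt N122406 (iv7 F531913)))
theorem Q122152 : ∀ i, i < 122152 → P i := stepQ 122151 Q122151 (allL N122151 (tt N120776 F530450) (tt N120777 F530451) (tt N122331 (iv2 F531461)) (tt N120408 F530446) (tt N116035 F530449) (tt N112021 (iv5 D225410)) (tt N118722 F530447) (tt N120408 F530448))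
theorem Q122153 : ∀ i, i < 122153 → P i := stepQ 122152 Q122152 (allL N122152 (tt N118530 (iv1 F530455)) (tt N112026 (iv0 D225411)) (tt N116559 F530458) (tt N118565 (iv3 F530456)) (tt N116552 F530453) (tt N118564 F530452) (tt N121574 F530454) (tt N116561 F530457))
theorem Q122154 : ∀ i, i < 122154 → P i := stepQ 122153 Q122153 (allL N122153 (tt N112026 (iv1 D225412)) (tt N118530 F530459) (tt N116561 (iv2 F530465)) (tt N118533 (iv3 F530463)) (tt N116553 F530462) (tt N118584 F530461) (tt N118531 F530464) (tt N116559 F530460))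
theorem Q122155 : ∀ i, i < 122155 → P i := stepQ 122154 Q122154 (allL N122154 (tt N120333 F530467) (tt N122658 (iv0 F533441)) (tt N122733 (iv2 F533903)) (tt N112035 (iv3 D225413)) (tt N122245 (iv4 F530983)) (tt N120416 F530466) (tt N122658 (iv6 F533439)) (tt N122253 (iv7 F531026)))
theorem Q122156 : ∀ i, i < 122156 → P i := stepQ 122155 Q122155 (allL N122155 (tt N121501 F530472) (tt N120369 (iv0 F530473)) (tt N114000 F530468) (tt N122658 (iv3 F533437)) (tt N112036 F530469) (tt N122018 F530470) (tt N112035 (iv6 D225414)) (tt N122143 F530471))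
theorem Q122157 : ∀ i, i < 122157 → P i := stepQ 122156 Q122156 (allL N122156 (tt N113396 F530478) (tt N113394 F530479) (tt N112556 F530474) (tt N122728 (iv3 F533870)) (tt N116959 F530475) (tt N112037 (iv5 D225415)) (tt N121976 F530476) (tt N112554 F530477))
theorem Q122158 : ∀ i, i < 122158 → P i := stepQ 122157 Q122157 (allL N122157 (tt N115247 F530485) (tt N115251 F530486) (tt N115249 F530480) (tt N119450 F530481) (tt N115142 F530484) (tt N112052 (iv5 D225416)) (tt N115192 F530482) (tt N115248 F530483))
theorem Q122159 : ∀ i, i < 122159 → P i := stepQ 122158 Q122158 (allL N122158 (tt N115282 (iv1 F530491)) (tt N112458 F530492) (tt N113670 F530487) (tt N115465 F530488) (tt N114866 F530489) (tt N122399 (iv5 F531867)) (tt N113930 F530490) (tt N112053 (iv7 D225417)))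
theorem Q122160 : ∀ i, i < 122160 → P i := stepQ 122159 Q122159 (allL N122159 (tt N115251 F530497) (tt N115247 F530498) (tt N115248 F530493) (tt N115253 F530494) (tt N115143 F530495) (tt N112054 (iv5 D225418)) (tt N122417 F531986) (tt N115249 F530496))
theorem Q122161 : ∀ i, i < 122161 → P i := stepQ 122160 Q122160 (allL N122160 (tt N115303 F530503) (tt N115306 (iv0 F530504)) (tt N122464 F532275) (tt N112056 (iv3 D225419)) (tt N115455 F530499) (tt N115164 F530500) (tt N115330 F530501) (tt N117421 F530502))
theorem Q122162 : ∀ i, i < 122162 → P i := stepQ 122161 Q122161 (allL N122161 (tt N115305 F530509) (tt N122461 (iv0 F532256)) (tt N115266 (iv2 F530510)) (tt N112057 (iv3 D225420)) (tt N112067 F530505) (tt N112876 F530506) (tt N114515 F530507) (tt N115277 F530508))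
theorem Q122163 : ∀ i, i < 122163 → P i := stepQ 122162 Q122162 (allL N122162 (tt N121788 F530515) (tt N120374 (iv0 F530516)) (tt N118805 F530511) (tt N112065 F530512) (tt N117956 F530513) (tt N121545 F530514) (tt N112064 (iv6 D225421)) (tt N122419 (iv7 F531997)))
theorem Q122164 : ∀ i, i < 122164 → P i := stepQ 122163 Q122163 (allL N122163 (tt N121181 F530520) (tt N120376 F530521) (tt N116556 F530517) (tt N119719 F530522) (tt N112069 (iv4 D225422)) (tt N112631 F530519) (tt N122751 D226010) (tt N116558 F530518))
theorem Q122165 : ∀ i, i < 122165 → P i := stepQ 122164 Q122164 (allL N122164 (tt N122381 F531760) (tt N119306 (iv0 F530527)) (tt N116557 F530523) (tt N116141 F530524) (tt N122751 (iv4 F534008)) (tt N116192 F530525) (tt N112069 (iv6 D225423)) (tt N116271 F530526))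
theorem Q122166 : ∀ i, i < 122166 → P i := stepQ 122165 Q122165 (allL N122165 (tt N118256 F530532) (tt N118253 F530533) (tt N118314 F530528) (tt N112085 F530529) (tt N122367 (iv4 F531674)) (tt N112084 (iv5 D225424)) (tt N118158 F530530) (tt N112212 F530531))
theorem Q122167 : ∀ i, i < 122167 → P i := stepQ 122166 Q122166 (allL N122166 (tt N122361 F531638) (tt N122351 F531578) (tt N121323 F530534) (tt N112099 F530535) (tt N121718 F530536) (tt N112098 (iv5 D225425)) (tt N122752 D226011) (tt N116562 F530537))
theorem Q122168 : ∀ i, i < 122168 → P i := stepQ 122167 Q122167 (allL N122167 (tt N120402 F530542) (tt N121523 (iv0 F530543)) (tt N121522 F530538) (tt N122752 (iv3 F534014)) (tt N117391 F530539) (tt N117088 F530540) (tt N112099 (iv6 D225426)) (tt N121521 F530541))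
theorem Q122169 : ∀ i, i < 122169 → P i := stepQ 122168 Q122168 (allL N122168 (tt N113794 F530549) (tt N113800 (iv0 F530550)) (tt N113799 F530544) (tt N113180 F530545) (tt N121005 F530546) (tt N113179 F530547) (tt N112108 (iv6 D225427)) (tt N113798 F530548))
theorem Q122170 : ∀ i, i < 122170 → P i := stepQ 122169 Q122169 (allL N122169 (tt N120572 (iv1 F530556)) (tt N112720 F530557) (tt N119232 F530551) (tt N117503 F530552) (tt N112180 F530553) (tt N117478 F530554) (tt N117052 F530555) (tt N112179 (iv7 D225428)))
theorem Q122171 : ∀ i, i < 122171 → P i := stepQ 122170 Q122170 (allL N122170 (tt N122067 F530563) (tt N122676 (iv0 F533542)) (tt N113436 F530558) (tt N112187 F530559) (tt N119889 F530560) (tt N112186 (iv5 D225429)) (tt N112560 F530561) (tt N118269 F530562))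
theorem Q122172 : ∀ i, i < 122172 → P i := stepQ 122171 Q122171 (allL N122171 (tt N112195 (iv1 D225430)) (tt N119727 (iv0 F530568)) (tt N119730 (iv2 F530569)) (tt N118761 (iv3 F530566)) (tt N120523 F530565) (tt N122676 (iv5 F533539)) (tt N121610 (iv6 F530567)) (tt N119731 F530564))
theorem Q122173 : ∀ i, i < 122173 → P i := stepQ 122172 Q122172 (allL N122172 (tt N119731 (iv1 F530576)) (tt N119730 F530575) (tt N112195 (iv2 D225431)) (tt N117538 F530570) (tt N112198 F530571) (tt N117296 F530572) (tt N114798 F530573) (tt N119727 F530574))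
theorem Q122174 : ∀ i, i < 122174 → P i := stepQ 122173 Q122173 (allL N122173 (tt N120099 F530582) (tt N121124 F530583) (tt N119687 F530577) (tt N119745 F530578) (tt N112197 (iv4 D225432)) (tt N119832 F530579) (tt N121601 F530580) (tt N120531 F530581))
theorem Q122175 : ∀ i, i < 122175 → P i := stepQ 122174 Q122174 (allL N122174 (tt N117544 F530589) (tt N118344 (iv0 F530590)) (tt N122066 F530584) (tt N112209 (iv3 D225433)) (tt N116974 F530585) (tt N122069 F530586) (tt N116836 F530587) (tt N116971 F530588))
theorem Q122176 : ∀ i, i < 122176 → P i := stepQ 122175 Q122175 (allL N122175 (tt N116359 F530595) (tt N116149 (iv0 F530596)) (tt N115704 F530591) (tt N122478 (iv3 F532363)) (tt N115703 F530592) (tt N113868 F530593) (tt N112219 (iv6 D225434)) (tt N122070 F530594))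
theorem Q122177 : ∀ i, i < 122177 → P i := stepQ 122176 Q122176 (allL N122176 (tt N122409 (iv1 F531934)) (tt N122401 (iv0 F531883)) (tt N112246 F530597) (tt N114166 F530598) (tt N112243 (iv4 D225435)) (tt N122344 (iv5 F531544)) (tt N114163 F530599) (tt N122083 F530600))
theorem Q122178 : ∀ i, i < 122178 → P i := stepQ 122177 Q122177 (allL N122177 (tt N121409 F530606) (tt N122105 (iv0 F530607)) (tt N118917 F530601) (tt N112258 (iv3 D225436)) (tt N115518 F530602) (tt N121316 F530603) (tt N115898 F530604) (tt N112856 F530605))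
theorem Q122179 : ∀ i, i < 122179 → P i := stepQ 122178 Q122178 (allL N122178 (tt N112338 (iv1 F530614)) (tt N112332 (iv0 D225437)) (tt N113429 (iv2 F530612)) (tt N121538 F530610) (tt N120972 F530609) (tt N116266 F530608) (tt N113922 F530611) (tt N117138 F530613))
theorem Q122180 : ∀ i, i < 122180 → P i := stepQ 122179 Q122179 (allL N122179 (tt N117138 (iv1 F530620)) (tt N113429 F530621) (tt N112338 F530615) (tt N116858 F530616) (tt N112335 F530617) (tt N116132 F530618) (tt N112336 F530619) (tt N112332 (iv7 D225438)))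
theorem Q122181 : ∀ i, i < 122181 → P i := stepQ 122180 Q122180 (allL N122180 (tt N116099 (iv1 F530627)) (tt N112340 (iv0 D225439)) (tt N117143 (iv2 F530626)) (tt N120972 F530624) (tt N121537 F530623) (tt N120971 F530622) (tt N114026 F530625) (tt N117142 F530628))
theorem Q122182 : ∀ i, i < 122182 → P i := stepQ 122181 Q122181 (allL N122181 (tt N121680 F530634) (tt N118603 F530635) (tt N119844 F530629) (tt N116803 F530630) (tt N113335 F530631) (tt N112368 (iv5 D225440)) (tt N119842 F530632) (tt N118574 F530633))
theorem Q122183 : ∀ i, i < 122183 → P i := stepQ 122182 Q122182 (allL N122182 (tt N114049 F530640) (tt N116876 F530639) (tt N113730 F530636) (tt N112371 F530637) (tt N122617 (iv4 F533198)) (tt N112370 (iv5 D225441)) (tt N113725 F530638) (tt N122595 (iv7 F533060)))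
theorem Q122184 : ∀ i, i < 122184 → P i := stepQ 122183 Q122183 (allL N122183 (tt N122118 F530646) (tt N122117 F530647) (tt N122090 F530641) (tt N115477 F530642) (tt N120703 F530645) (tt N112419 (iv5 D225442)) (tt N116021 F530643) (tt N115707 F530644))
theorem Q122185 : ∀ i, i < 122185 → P i := stepQ 122184 Q122184 (allL N122184 (tt N121710 F530652) (tt N121714 F530653) (tt N112425 F530648) (tt N118892 F530649) (tt N122535 (iv4 F532703)) (tt N112420 (iv5 D225443)) (tt N118891 F530650) (tt N118890 F530651))
theorem Q122186 : ∀ i, i < 122186 → P i := stepQ 122185 Q122185 (allL N122185 (tt N122191 (iv1 F530689)) (tt N113680 F530658) (tt N121073 F530654) (tt N117661 F530655) (tt N121204 F530657) (tt N112423 (iv5 D225444)) (tt N114842 F530656) (tt N122192 (iv7 F530695)))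
theorem Q122187 : ∀ i, i < 122187 → P i := stepQ 122186 Q122186 (allL N122186 (tt N122510 (iv1 F532564)) (tt N120703 F530661) (tt N122535 (iv2 F532701)) (tt N122681 (iv3 F533571)) (tt N112425 (iv4 D225445)) (tt N121446 F530659) (tt N116353 F530660) (tt N122467 (iv7 F532292)))
theorem Q122188 : ∀ i, i < 122188 → P i := stepQ 122187 Q122187 (allL N122187 (tt N115707 F530667) (tt N122090 F530668) (tt N122118 F530662) (tt N112461 F530663) (tt N120933 F530666) (tt N112442 (iv5 D225446)) (tt N116010 F530664) (tt N122117 F530665))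
theorem Q122189 : ∀ i, i < 122189 → P i := stepQ 122188 Q122188 (allL N122188 (tt N112443 (iv1 D225447)) (tt N114206 F530669) (tt N122392 (iv2 F531822)) (tt N112463 (iv3 F530672)) (tt N122721 (iv4 F533829)) (tt N115745 F530671) (tt N122389 (iv6 F531810)) (tt N114168 F530670))
theorem Q122190 : ∀ i, i < 122190 → P i := stepQ 122189 Q122189 (allL N122189 (tt N122193 (iv1 F530699)) (tt N122150 (iv0 F530676)) (tt N121448 F530673) (tt N122689 (iv3 F533623)) (tt N112443 (iv4 D225448)) (tt N121447 F530675) (tt N120668 F530674) (tt N122485 (iv7 F532412)))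
theorem Q122191 : ∀ i, i < 122191 → P i := stepQ 122190 Q122190 (allL N122190 (tt N115814 F530682) (tt N115816 F530683) (tt N121733 F530677) (tt N113672 F530678) (tt N115894 F530679) (tt N112452 (iv5 D225449)) (tt N115893 F530680) (tt N115894 F530681))
theorem Q122192 : ∀ i, i < 122192 → P i := stepQ 122191 Q122191 (allL N122191 (tt N121807 F530688) (tt N122185 F530689) (tt N112455 F530684) (tt N115584 F530685) (tt N122406 (iv4 F531911)) (tt N112454 (iv5 D225450)) (tt N115506 F530686) (tt N121712 F530687))
theorem Q122193 : ∀ i, i < 122193 → P i := stepQ 122192 Q122192 (allL N122192 (tt N121712 (iv1 F530694)) (tt N112455 (iv0 D225451)) (tt N121807 (iv2 F530693)) (tt N115498 F530691) (tt N122131 (iv4 F530696)) (tt N115380 F530690) (tt N115496 F530692) (tt N122185 F530695))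
theorem Q122194 : ∀ i, i < 122194 → P i := stepQ 122193 Q122193 (allL N122193 (tt N122410 (iv1 F531940)) (tt N122189 F530699) (tt N122406 (iv2 F531909)) (tt N121754 F530697) (tt N112455 (iv4 D225452)) (tt N122671 (iv5 F533515)) (tt N114098 F530698) (tt N122341 (iv7 F531524)))
theorem Q122195 : ∀ i, i < 122195 → P i := stepQ 122194 Q122194 (allL N122194 (tt N114838 F530703) (tt N114837 F530704) (tt N122343 (iv2 F531534)) (tt N120521 F530700) (tt N122337 (iv4 F531495)) (tt N112466 (iv5 D225453)) (tt N114016 F530701) (tt N117200 F530702))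
theorem Q122196 : ∀ i, i < 122196 → P i := stepQ 122195 Q122195 (allL N122195 (tt N113434 F530710) (tt N113433 F530711) (tt N112558 F530705) (tt N120953 F530706) (tt N117291 F530707) (tt N112520 (iv5 D225454)) (tt N121885 F530708) (tt N112560 F530709))
theorem Q122197 : ∀ i, i < 122197 → P i := stepQ 122196 Q122196 (allL N122196 (tt N112589 (iv1 F530716)) (tt N112525 (iv0 D225455)) (tt N112586 (iv2 F530715)) (tt N122537 (iv3 F532716)) (tt N113200 F530713) (tt N119766 F530712) (tt N120458 F530714) (tt N112587 F530717))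
theorem Q122198 : ∀ i, i < 122198 → P i := stepQ 122197 Q122197 (allL N122197 (tt N120223 (iv1 F530719)) (tt N112543 (iv0 D225456)) (tt N116602 (iv2 F530720)) (tt N122690 (iv3 F533630)) (tt N116593 F530718) (tt N122690 (iv5 F533631)) (tt N122310 (iv6 F531338)) (tt N120392 (iv7 F530721)))
theorem Q122199 : ∀ i, i < 122199 → P i := stepQ 122198 Q122198 (allL N122198 (tt N112543 (iv1 D225457)) (tt N120223 F530722) (tt N120392 F530728) (tt N121121 (iv3 F530726)) (tt N113532 F530725) (tt N121294 F530724) (tt N113531 (iv6 F530727)) (tt N116602 F530723))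
theorem Q122200 : ∀ i, i < 122200 → P i := stepQ 122199 Q122199 (allL N122199 (tt N122693 F533648) (tt N122550 (iv0 F532794)) (tt N119805 F530729) (tt N112554 F530730) (tt N119818 F530732) (tt N112553 (iv5 D225458)) (tt N119804 F530731) (tt N122728 (iv7 F533874)))
theorem Q122201 : ∀ i, i < 122201 → P i := stepQ 122200 Q122200 (allL N122200 (tt N121986 F530734) (tt N121986 (iv0 F530735)) (tt N122315 (iv2 F531366)) (tt N112575 (iv3 D225459)) (tt N122539 (iv4 F532731)) (tt N122692 (iv5 F533640)) (tt N113399 F530733) (tt N122315 (iv7 F531369)))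
theorem Q122202 : ∀ i, i < 122202 → P i := stepQ 122201 Q122201 (allL N122201 (tt N119926 F530741) (tt N119925 F530742) (tt N121961 F530736) (tt N112864 F530737) (tt N112580 (iv4 D225460)) (tt N121591 F530740) (tt N119737 F530738) (tt N120465 F530739))
theorem Q122203 : ∀ i, i < 122203 → P i := stepQ 122202 Q122202 (allL N122202 (tt N117296 F530746) (tt N112609 (iv0 F530747)) (tt N119980 F530743) (tt N112590 (iv3 D225461)) (tt N122012 F530744) (tt N119290 F530745) (tt N122736 (iv6 F533926)) (tt N122313 (iv7 F531360)))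
theorem Q122204 : ∀ i, i < 122204 → P i := stepQ 122203 Q122203 (allL N122203 (tt N122000 (iv1 F530752)) (tt N112595 (iv0 D225462)) (tt N117239 (iv2 F530751)) (tt N121539 F530754) (tt N114026 F530749) (tt N121838 F530748) (tt N121537 F530750) (tt N117238 F530753))
theorem Q122205 : ∀ i, i < 122205 → P i := stepQ 122204 Q122204 (allL N122204 (tt N121287 F530759) (tt N116850 F530760) (tt N112613 F530755) (tt N120424 F530756) (tt N122725 (iv4 F533854)) (tt N116626 F530757) (tt N112603 (iv6 D225463)) (tt N121172 F530758))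
theorem Q122206 : ∀ i, i < 122206 → P i := stepQ 122205 Q122205 (allL N122205 (tt N121390 F530766) (tt N119764 F530767) (tt N122006 F530761) (tt N121457 F530762) (tt N121589 F530765) (tt N112669 (iv5 D225464)) (tt N112670 F530763) (tt N121587 F530764))
theorem Q122207 : ∀ i, i < 122207 → P i := stepQ 122206 Q122206 (allL N122206 (tt N117294 F530773) (tt N119838 F530774) (tt N121473 F530768) (tt N116577 F530769) (tt N117328 F530770) (tt N112679 (iv5 D225465)) (tt N120015 F530771) (tt N119848 F530772))
theorem Q122208 : ∀ i, i < 122208 → P i := stepQ 122207 Q122207 (allL N122207 (tt N119758 F530779) (tt N120220 (iv0 F530780)) (tt N120224 F530775) (tt N119850 F530776) (tt N122428 (iv4 F532041)) (tt N121548 F530777) (tt N112685 (iv6 D225466)) (tt N120225 F530778))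
theorem Q122209 : ∀ i, i < 122209 → P i := stepQ 122208 Q122208 (allL N122208 (tt N121934 F530786) (tt N121509 F530787) (tt N120476 F530781) (tt N121932 F530782) (tt N120461 F530783) (tt N112687 (iv5 D225467)) (tt N116188 F530784) (tt N120477 F530785))
theorem Q122210 : ∀ i, i < 122210 → P i := stepQ 122209 Q122209 (allL N122209 (tt N120476 F530793) (tt N120477 F530794) (tt N121509 F530788) (tt N120365 F530789) (tt N112690 (iv4 D225468)) (tt N121475 F530790) (tt N117380 F530791) (tt N121934 F530792))
theorem Q122211 : ∀ i, i < 122211 → P i := stepQ 122210 Q122210 (allL N122210 (tt N116821 F530800) (tt N113013 F530801) (tt N117388 F530795) (tt N112736 F530796) (tt N116116 F530797) (tt N112735 (iv5 D225469)) (tt N121301 F530798) (tt N113063 F530799))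
theorem Q122212 : ∀ i, i < 122212 → P i := stepQ 122211 Q122211 (allL N122211 (tt N121100 F530804) (tt N122229 F530896) (tt N112772 F530802) (tt N122229 (iv3 F530891)) (tt N112739 (iv4 D225470)) (tt N122674 (iv5 F533530)) (tt N122214 (iv6 F530819)) (tt N112776 F530803))
theorem Q122213 : ∀ i, i < 122213 → P i := stepQ 122212 Q122212 (allL N122212 (tt N112785 (iv1 F530809)) (tt N112741 (iv0 D225471)) (tt N112781 (iv2 F530807)) (tt N122753 D226012) (tt N120252 F530805) (tt N122754 D226013) (tt N120251 F530806) (tt N112782 F530808))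
theorem Q122214 : ∀ i, i < 122214 → P i := stepQ 122213 Q122213 (allL N122213 (tt N112782 (iv1 F530814)) (tt N112781 F530815) (tt N112785 F530810) (tt N120296 F530811) (tt N112742 F530812) (tt N122738 (iv5 F533939)) (tt N120295 F530813) (tt N112741 (iv7 D225472)))
theorem Q122215 : ∀ i, i < 122215 → P i := stepQ 122214 Q122214 (allL N122214 (tt N121102 (iv1 F530822)) (tt N120974 F530821) (tt N112743 (iv2 D225473)) (tt N112792 F530816) (tt N117378 F530817) (tt N112792 F530818) (tt N122211 F530819) (tt N117377 F530820))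
theorem Q122216 : ∀ i, i < 122216 → P i := stepQ 122215 Q122215 (allL N122215 (tt N122556 (iv1 F532829)) (tt N122332 (iv0 F531467)) (tt N112752 F530823) (tt N114703 F530824) (tt N112745 (iv4 D225474)) (tt N120058 F530825) (tt N112746 F530826) (tt N114701 F530827))
theorem Q122217 : ∀ i, i < 122217 → P i := stepQ 122216 Q122216 (allL N122216 (tt N114400 F530833) (tt N116166 F530834) (tt N112976 F530828) (tt N112749 F530829) (tt N119566 F530830) (tt N112748 (iv5 D225475)) (tt N112974 F530831) (tt N116154 F530832))
theorem Q122218 : ∀ i, i < 122218 → P i := stepQ 122217 Q122217 (allL N122217 (tt N112978 F530839) (tt N112977 (iv0 F530840)) (tt N112894 F530835) (tt N112974 F530836) (tt N122321 (iv4 F531404)) (tt N113217 F530837) (tt N112749 (iv6 D225476)) (tt N112979 F530838))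
theorem Q122219 : ∀ i, i < 122219 → P i := stepQ 122218 Q122218 (allL N122218 (tt N114701 (iv1 F530843)) (tt N112752 (iv0 D225477)) (tt N122556 (iv2 F532824)) (tt N114957 F530842) (tt N122444 (iv4 F532141)) (tt N114956 F530841) (tt N122604 (iv6 F533120)) (tt N122332 F531469))
theorem Q122220 : ∀ i, i < 122220 → P i := stepQ 122219 Q122219 (allL N122219 (tt N114562 F530849) (tt N120398 (iv0 F530850)) (tt N112765 F530844) (tt N117528 F530845) (tt N114474 F530846) (tt N117052 F530847) (tt N112763 (iv6 D225478)) (tt N114542 F530848))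
theorem Q122221 : ∀ i, i < 122221 → P i := stepQ 122220 Q122220 (allL N122220 (tt N122590 F533034) (tt N116184 F530853) (tt N122224 F530875) (tt N122706 (iv3 F533727)) (tt N112771 (iv4 D225479)) (tt N122675 (iv5 F533535)) (tt N122145 F530851) (tt N120951 F530852))
theorem Q122222 : ∀ i, i < 122222 → P i := stepQ 122221 Q122221 (allL N122221 (tt N121899 F530857) (tt N121897 F530858) (tt N122674 (iv2 F533529)) (tt N121901 F530854) (tt N121310 F530856) (tt N112772 (iv5 D225480)) (tt N121891 F530855) (tt N122673 (iv7 F533526)))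
theorem Q122223 : ∀ i, i < 122223 → P i := stepQ 122222 Q122222 (allL N122222 (tt N121897 F530861) (tt N121899 F530862) (tt N122673 (iv2 F533525)) (tt N121892 F530859) (tt N121311 F530860) (tt N112776 (iv5 D225481)) (tt N122226 (iv6 F530881)) (tt N122674 (iv7 F533531)))
theorem Q122224 : ∀ i, i < 122224 → P i := stepQ 122223 Q122223 (allL N122223 (tt N114495 F530867) (tt N114494 F530868) (tt N114291 F530863) (tt N120297 F530869) (tt N112777 (iv4 D225482)) (tt N114286 F530864) (tt N120306 F530865) (tt N114478 F530866))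
theorem Q122225 : ∀ i, i < 122225 → P i := stepQ 122224 Q122224 (allL N122224 (tt N121918 F530874) (tt N117261 F530876) (tt N122220 (iv2 F530875)) (tt N112778 (iv3 D225483)) (tt N120297 F530870) (tt N121916 F530871) (tt N120307 F530872) (tt N121101 F530873))
theorem Q122226 : ∀ i, i < 122226 → P i := stepQ 122225 Q122225 (allL N122225 (tt N122719 (iv1 F533818)) (tt N122734 (iv0 F533915)) (tt N122744 (iv2 F533976)) (tt N122140 F530877) (tt N117911 F530878) (tt N112780 (iv5 D225484)) (tt N118855 F530879) (tt N122745 (iv7 F533979)))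
theorem Q122227 : ∀ i, i < 122227 → P i := stepQ 122226 Q122226 (allL N122226 (tt N121916 F530884) (tt N118855 F530885) (tt N122754 (iv2 F534026)) (tt N121814 F530880) (tt N120116 F530883) (tt N112781 (iv5 D225485)) (tt N122222 F530881) (tt N121814 F530882))
theorem Q122228 : ∀ i, i < 122228 → P i := stepQ 122227 Q122227 (allL N122227 (tt N122753 F534025) (tt N122753 (iv0 F534024)) (tt N122753 (iv2 F534020)) (tt N112782 (iv3 D225486)) (tt N122755 D226014) (tt N122740 (iv5 F533949)) (tt N120331 F530886) (tt N122753 (iv7 F534023)))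
theorem Q122229 : ∀ i, i < 122229 → P i := stepQ 122228 Q122228 (allL N122228 (tt N118855 F530889) (tt N121916 F530890) (tt N121814 F530887) (tt N122740 (iv3 F533947)) (tt N121813 F530888) (tt N112782 (iv5 D225487)) (tt N122719 (iv6 F533814)) (tt N122754 (iv7 F534029)))
theorem Q122230 : ∀ i, i < 122230 → P i := stepQ 122229 Q122229 (allL N122229 (tt N122211 (iv1 F530896)) (tt N120296 F530895) (tt N112783 (iv2 D225488)) (tt N122211 F530891) (tt N121157 F530892) (tt N122734 (iv5 F533912)) (tt N112792 F530893) (tt N121105 F530894))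
theorem Q122231 : ∀ i, i < 122231 → P i := stepQ 122230 Q122230 (allL N122230 (tt N120332 (iv1 F530901)) (tt N112788 (iv0 D225489)) (tt N120331 (iv2 F530900)) (tt N120251 F530898) (tt N118560 F530899) (tt N120295 F530897) (tt N122753 (iv6 F534022)) (tt N118559 F530902))
theorem Q122232 : ∀ i, i < 122232 → P i := stepQ 122231 Q122231 (allL N122231 (tt N120331 (iv1 F530908)) (tt N118559 F530907) (tt N112788 (iv2 D225490)) (tt N120320 F530903) (tt N120610 F530904) (tt N121500 F530905) (tt N122253 (iv6 F531025)) (tt N120332 F530906))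
theorem Q122233 : ∀ i, i < 122233 → P i := stepQ 122232 Q122232 (allL N122232 (tt N120303 (iv1 F530912)) (tt N120302 F530913) (tt N113999 F530909) (tt N122733 (iv3 F533904)) (tt N114004 F530910) (tt N122379 (iv5 F531747)) (tt N120334 F530911) (tt N112789 (iv7 D225491)))
theorem Q122234 : ∀ i, i < 122234 → P i := stepQ 122233 Q122233 (allL N122233 (tt N119371 F530918) (tt N122552 (iv0 F532806)) (tt N119317 F530914) (tt N118558 F530915) (tt N112796 F530916) (tt N117802 F530917) (tt N112795 (iv6 D225492)) (tt N119315 (iv7 F530919)))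
theorem Q122235 : ∀ i, i < 122235 → P i := stepQ 122234 Q122234 (allL N122234 (tt N121753 F530924) (tt N122501 (iv0 F532508)) (tt N120994 F530920) (tt N122353 F531588) (tt N112859 (iv4 D225493)) (tt N120993 F530923) (tt N117203 F530921) (tt N122104 F530922))
theorem Q122236 : ∀ i, i < 122236 → P i := stepQ 122235 Q122235 (allL N122235 (tt N112965 (iv1 F530928)) (tt N117221 F530929) (tt N122237 F530941) (tt N122604 (iv3 F533118)) (tt N114059 F530925) (tt N113379 F530926) (tt N114957 F530927) (tt N112886 (iv7 D225494)))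
theorem Q122237 : ∀ i, i < 122237 → P i := stepQ 122236 Q122236 (allL N122236 (tt N112893 (iv1 D225495)) (tt N112927 F530930) (tt N112934 F530935) (tt N118520 (iv3 F530936)) (tt N113551 F530933) (tt N118519 F530932) (tt N121395 (iv6 F530934)) (tt N112935 F530931))
theorem Q122238 : ∀ i, i < 122238 → P i := stepQ 122237 Q122237 (allL N122237 (tt N113987 (iv1 F530942)) (tt N112901 (iv0 D225496)) (tt N122235 (iv2 F530941)) (tt N116746 F530939) (tt N113025 F530938) (tt N113172 F530937) (tt N114424 F530940) (tt N113171 F530943))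
theorem Q122239 : ∀ i, i < 122239 → P i := stepQ 122238 Q122238 (allL N122238 (tt N113538 F530947) (tt N116348 F530948) (tt N122362 (iv2 F531639)) (tt N120678 F530944) (tt N122469 (iv4 F532304)) (tt N112902 (iv5 D225497)) (tt N115803 F530945) (tt N121202 F530946))
theorem Q122240 : ∀ i, i < 122240 → P i := stepQ 122239 Q122239 (allL N122239 (tt N119586 (iv1 F530953)) (tt N119585 F530952) (tt N112903 (iv2 D225498)) (tt N122513 (iv3 F532576)) (tt N112912 F530949) (tt N122628 (iv5 F533261)) (tt N118062 F530950) (tt N122049 F530951))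
theorem Q122241 : ∀ i, i < 122241 → P i := stepQ 122240 Q122240 (allL N122240 (tt N119630 F530957) (tt N121666 F530958) (tt N122628 (iv2 F533259)) (tt N112904 F530954) (tt N117041 F530956) (tt N112903 (iv5 D225499)) (tt N117040 F530955) (tt N122281 (iv7 F531155)))
theorem Q122242 : ∀ i, i < 122242 → P i := stepQ 122241 Q122241 (allL N122241 (tt N112904 (iv1 D225500)) (tt N122352 (iv0 F531582)) (tt N122324 (iv2 F531423)) (tt N121204 (iv3 F530962)) (tt N120037 F530961) (tt N114828 F530960) (tt N120040 F530963) (tt N120904 F530959))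
theorem Q122243 : ∀ i, i < 122243 → P i := stepQ 122242 Q122242 (allL N122242 (tt N122359 (iv1 F531626)) (tt N120848 (iv0 F530968)) (tt N120840 F530964) (tt N117746 F530965) (tt N112917 F530966) (tt N122120 F530967) (tt N112916 (iv6 D225501)) (tt N122707 (iv7 F533736)))
theorem Q122244 : ∀ i, i < 122244 → P i := stepQ 122243 Q122243 (allL N122243 (tt N119968 (iv1 F530974)) (tt N112919 (iv0 D225502)) (tt N121088 (iv2 F530973)) (tt N113552 F530971) (tt N118520 F530970) (tt N119964 F530969) (tt N112966 F530972) (tt N121089 F530975))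
theorem Q122245 : ∀ i, i < 122245 → P i := stepQ 122244 Q122244 (allL N122244 (tt N114939 F530981) (tt N115097 F530982) (tt N115098 F530976) (tt N122059 F530977) (tt N116311 F530978) (tt N112920 (iv5 D225503)) (tt N119545 F530979) (tt N114714 F530980))
theorem Q122246 : ∀ i, i < 122246 → P i := stepQ 122245 Q122245 (allL N122245 (tt N120314 F530986) (tt N121614 (iv0 F530987)) (tt N122639 (iv2 F533325)) (tt N112927 (iv3 D225504)) (tt N122154 F530983) (tt N118795 F530984) (tt N118556 F530985) (tt N122640 (iv7 F533332)))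
theorem Q122247 : ∀ i, i < 122247 → P i := stepQ 122246 Q122246 (allL N122246 (tt N118465 F530992) (tt N118526 F530993) (tt N118524 F530988) (tt N113366 F530989) (tt N112930 F530990) (tt N118485 F530991) (tt N112929 (iv6 D225505)) (tt N118523 (iv7 F530994)))
theorem Q122248 : ∀ i, i < 122248 → P i := stepQ 122247 Q122247 (allL N122247 (tt N122538 (iv1 F532728)) (tt N122711 F533763) (tt N116263 F530995) (tt N121466 F530996) (tt N116254 F530997) (tt N121554 F530998) (tt N112935 (iv6 D225506)) (tt N121563 F530999))
theorem Q122249 : ∀ i, i < 122249 → P i := stepQ 122248 Q122248 (allL N122248 (tt N118527 (iv1 F531001)) (tt N122661 F533454) (tt N112936 (iv2 D225507)) (tt N122639 (iv3 F533326)) (tt N112948 F531000) (tt N122614 (iv5 F533177)) (tt N122711 (iv6 F533762)) (tt N122616 (iv7 F533194)))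
theorem Q122250 : ∀ i, i < 122250 → P i := stepQ 122249 Q122249 (allL N122249 (tt N116263 (iv1 F531006)) (tt N121563 (iv0 F531005)) (tt N122711 (iv2 F533758)) (tt N112938 F531002) (tt N112949 F531003) (tt N121747 F531004) (tt N112936 (iv6 D225508)) (tt N122538 (iv7 F532725)))
theorem Q122251 : ∀ i, i < 122251 → P i := stepQ 122250 Q122250 (allL N122250 (tt N118471 (iv1 F531013)) (tt N119252 F531012) (tt N118555 F531007) (tt N121747 F531008) (tt N117155 F531011) (tt N112938 (iv5 D225509)) (tt N121849 F531009) (tt N117153 F531010))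
theorem Q122252 : ∀ i, i < 122252 → P i := stepQ 122251 Q122251 (allL N122251 (tt N122751 F534012) (tt N121560 (iv0 F531018)) (tt N118533 F531014) (tt N118563 F531017) (tt N112946 (iv4 D225510)) (tt N118562 F531016) (tt N117818 F531015) (tt N122314 (iv7 F531365)))
theorem Q122253 : ∀ i, i < 122253 → P i := stepQ 122252 Q122252 (allL N122252 (tt N121560 F531022) (tt N122751 (iv0 F534011)) (tt N122314 (iv2 F531361)) (tt N116559 F531019) (tt N112947 (iv4 D225511)) (tt N116598 F531021) (tt N122624 (iv6 F533239)) (tt N118533 F531020))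
theorem Q122254 : ∀ i, i < 122254 → P i := stepQ 122253 Q122253 (allL N122253 (tt N122708 (iv1 F533743)) (tt N122516 (iv0 F532597)) (tt N121502 F531023) (tt N112952 (iv3 D225512)) (tt N122640 (iv4 F533333)) (tt N119962 F531024) (tt N122231 F531025) (tt N122154 F531026))
theorem Q122255 : ∀ i, i < 122255 → P i := stepQ 122254 Q122254 (allL N122254 (tt N120326 F531028) (tt N120610 (iv0 F531029)) (tt N122641 F533338) (tt N112956 (iv3 D225513)) (tt N116182 F531027) (tt N122644 (iv5 F533354)) (tt N122756 D226015) (tt N122295 (iv7 F531249)))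
theorem Q122256 : ∀ i, i < 122256 → P i := stepQ 122255 Q122255 (allL N122255 (tt N122741 (iv1 F533956)) (tt N122440 (iv0 F532116)) (tt N112961 F531030) (tt N122756 (iv3 F534040)) (tt N112957 F531031) (tt N121906 F531032) (tt N112956 (iv6 D225514)) (tt N122699 (iv7 F533686)))
theorem Q122257 : ∀ i, i < 122257 → P i := stepQ 122256 Q122256 (allL N122256 (tt N112964 (iv1 F531036)) (tt N112957 (iv0 D225515)) (tt N112962 (iv2 F531035)) (tt N116735 F531034) (tt N122757 D226016) (tt N116734 F531033) (tt N122572 (iv6 F532918)) (tt N112963 F531037))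
theorem Q122258 : ∀ i, i < 122258 → P i := stepQ 122257 Q122257 (allL N122257 (tt N122294 F531245) (tt N112960 (iv0 D225516)) (tt N122303 (iv2 F531297)) (tt N122548 (iv3 F532778)) (tt N116175 F531038) (tt N122615 (iv5 F533187)) (tt N121393 (iv6 F531246)) (tt N122302 F531290))
theorem Q122259 : ∀ i, i < 122259 → P i := stepQ 122258 Q122258 (allL N122258 (tt N122303 (iv1 F531291)) (tt N122302 F531287) (tt N112960 (iv2 D225517)) (tt N122641 (iv3 F533337)) (tt N112968 F531039) (tt N121461 F531040) (tt N122699 (iv6 F533685)) (tt N122294 (iv7 F531243)))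
theorem Q122260 : ∀ i, i < 122260 → P i := stepQ 122259 Q122259 (allL N122259 (tt N122440 (iv1 F532117)) (tt N122741 (iv0 F533955)) (tt N122699 (iv2 F533683)) (tt N112961 F531041) (tt N112964 F531042) (tt N121888 F531043) (tt N112960 (iv6 D225518)) (tt N112961 F531044))
theorem Q122261 : ∀ i, i < 122261 → P i := stepQ 122260 Q122260 (allL N122260 (tt N122699 (iv1 F533688)) (tt N112961 (iv0 D225519)) (tt N122741 (iv2 F533950)) (tt N122702 (iv3 F533703)) (tt N114397 F531045) (tt N122551 F532800) (tt N122552 (iv6 F532804)) (tt N122440 (iv7 F532114)))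
theorem Q122262 : ∀ i, i < 122262 → P i := stepQ 122261 Q122261 (allL N122261 (tt N112961 (iv1 D225520)) (tt N122699 (iv0 F533687)) (tt N122440 (iv2 F532112)) (tt N120157 F531048) (tt N122439 (iv4 F532110)) (tt N120154 F531046) (tt N121748 (iv6 F531047)) (tt N122741 (iv7 F533954)))
theorem Q122263 : ∀ i, i < 122263 → P i := stepQ 122262 Q122262 (allL N122262 (tt N122742 (iv1 F533963)) (tt N122346 F531554) (tt N122757 (iv2 F534046)) (tt N120142 (iv3 F531051)) (tt N112962 (iv4 D225521)) (tt N120138 F531050) (tt N120139 F531049) (tt N122720 (iv7 F533822)))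
theorem Q122264 : ∀ i, i < 122264 → P i := stepQ 122263 Q122263 (allL N122263 (tt N122346 F531555) (tt N122742 (iv0 F533962)) (tt N122720 (iv2 F533819)) (tt N118536 F531053) (tt N112963 (iv4 D225522)) (tt N122715 (iv5 F533788)) (tt N118516 F531052) (tt N122757 (iv7 F534050)))
theorem Q122265 : ∀ i, i < 122265 → P i := stepQ 122264 Q122264 (allL N122264 (tt N119108 F531057) (tt N121565 F531059) (tt N122301 (iv2 F531280)) (tt N121395 F531058) (tt N112966 (iv4 D225523)) (tt N121559 F531056) (tt N118520 F531054) (tt N121564 F531055))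
theorem Q122266 : ∀ i, i < 122266 → P i := stepQ 122265 Q122265 (allL N122265 (tt N121565 F531065) (tt N119108 F531064) (tt N121564 F531060) (tt N116556 F531061) (tt N112967 (iv4 D225524)) (tt N121493 F531063) (tt N121465 F531062) (tt N122301 (iv7 F531282)))
theorem Q122267 : ∀ i, i < 122267 → P i := stepQ 122266 Q122266 (allL N122266 (tt N122589 (iv1 F533025)) (tt N112971 (iv0 D225525)) (tt N121633 (iv2 F531070)) (tt N116179 F531068) (tt N116181 F531067) (tt N122143 F531066) (tt N116178 F531069) (tt N122018 F531071))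
theorem Q122268 : ∀ i, i < 122268 → P i := stepQ 122267 Q122267 (allL N122267 (tt N122604 (iv1 F533123)) (tt N122511 (iv0 F532569)) (tt N120076 F531076) (tt N112972 (iv3 D225526)) (tt N120073 F531072) (tt N113428 F531073) (tt N117181 F531074) (tt N121498 F531075))
theorem Q122269 : ∀ i, i < 122269 → P i := stepQ 122268 Q122268 (allL N122268 (tt N112988 F531079) (tt N122541 F532744) (tt N116175 F531077) (tt N112973 (iv3 D225527)) (tt N122303 (iv4 F531293)) (tt N113445 F531078) (tt N122547 (iv6 F532774)) (tt N122319 (iv7 F531393)))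
theorem Q122270 : ∀ i, i < 122270 → P i := stepQ 122269 Q122269 (allL N122269 (tt N116154 (iv1 F531084)) (tt N112976 (iv0 D225528)) (tt N114400 (iv2 F531083)) (tt N122439 (iv3 F532105)) (tt N114730 F531081) (tt N118010 F531080) (tt N121265 F531082) (tt N116166 F531085))
theorem Q122271 : ∀ i, i < 122271 → P i := stepQ 122270 Q122270 (allL N122270 (tt N116177 F531091) (tt N112983 (iv0 F531092)) (tt N122017 F531086) (tt N112978 (iv3 D225529)) (tt N114061 F531087) (tt N113443 F531088) (tt N122016 F531089) (tt N114058 F531090))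
theorem Q122272 : ∀ i, i < 122272 → P i := stepQ 122271 Q122271 (allL N122271 (tt N116175 F531094) (tt N122319 F531394) (tt N122541 (iv2 F532739)) (tt N112982 (iv3 D225530)) (tt N122679 (iv4 F533560)) (tt N122489 (iv5 F532435)) (tt N122376 (iv6 F531727)) (tt N112988 F531093))
theorem Q122273 : ∀ i, i < 122273 → P i := stepQ 122272 Q122272 (allL N122272 (tt N114058 (iv1 F531100)) (tt N122017 F531101) (tt N116177 F531095) (tt N112987 F531096) (tt N121263 F531097) (tt N116094 F531098) (tt N116095 F531099) (tt N112983 (iv7 D225531)))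
theorem Q122274 : ∀ i, i < 122274 → P i := stepQ 122273 Q122273 (allL N122273 (tt N113740 F531105) (tt N113741 (iv0 F531106)) (tt N113739 F531102) (tt N112989 (iv3 D225532)) (tt N122678 (iv4 F533553)) (tt N114377 F531103) (tt N122277 (iv6 F531129)) (tt N113738 F531104))
theorem Q122275 : ∀ i, i < 122275 → P i := stepQ 122274 Q122274 (allL N122274 (tt N119609 F531112) (tt N117209 (iv0 F531113)) (tt N112993 F531107) (tt N113452 F531108) (tt N114323 F531109) (tt N117401 F531110) (tt N112991 (iv6 D225533)) (tt N114720 F531111))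
theorem Q122276 : ∀ i, i < 122276 → P i := stepQ 122275 Q122275 (allL N122275 (tt N113027 (iv1 D225534)) (tt N115100 F531114) (tt N121301 F531120) (tt N121569 (iv3 F531118)) (tt N117389 F531117) (tt N121299 F531116) (tt N117388 (iv6 F531119)) (tt N113065 F531115))
theorem Q122277 : ∀ i, i < 122277 → P i := stepQ 122276 Q122276 (allL N122276 (tt N121523 F531126) (tt N120402 (iv0 F531127)) (tt N121521 F531121) (tt N119974 F531122) (tt N121482 F531123) (tt N120385 F531124) (tt N113061 (iv6 D225535)) (tt N121522 F531125))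
theorem Q122278 : ∀ i, i < 122278 → P i := stepQ 122277 Q122277 (allL N122277 (tt N121323 F531130) (tt N116562 (iv0 F531131)) (tt N122351 (iv2 F531573)) (tt N113068 (iv3 D225536)) (tt N122348 (iv4 F531560)) (tt N117182 F531128) (tt N122273 F531129) (tt N122361 (iv7 F531636)))
theorem Q122279 : ∀ i, i < 122279 → P i := stepQ 122278 Q122278 (allL N122278 (tt N114655 (iv1 F531136)) (tt N113070 (iv0 D225537)) (tt N113944 (iv2 F531137)) (tt N113888 F531134) (tt N120402 F531133) (tt N116424 F531132) (tt N113611 F531135) (tt N113947 (iv7 F531138)))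
theorem Q122280 : ∀ i, i < 122280 → P i := stepQ 122279 Q122279 (allL N122279 (tt N113070 (iv1 D225538)) (tt N114655 F531139) (tt N113947 F531145) (tt N121126 (iv3 F531143)) (tt N121523 F531142) (tt N115751 F531141) (tt N113949 (iv6 F531144)) (tt N113944 F531140))
theorem Q122281 : ∀ i, i < 122281 → P i := stepQ 122280 Q122280 (allL N122280 (tt N120545 F531151) (tt N120543 (iv0 F531152)) (tt N119226 F531146) (tt N119170 F531147) (tt N113088 F531148) (tt N119169 F531149) (tt N113087 (iv6 D225539)) (tt N120544 F531150))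
theorem Q122282 : ∀ i, i < 122282 → P i := stepQ 122281 Q122281 (allL N122281 (tt N120239 F531157) (tt N119199 F531158) (tt N122635 (iv2 F533300)) (tt N115333 F531153) (tt N118606 F531156) (tt N113118 (iv5 D225540)) (tt N120810 F531154) (tt N122240 F531155))
theorem Q122283 : ∀ i, i < 122283 → P i := stepQ 122282 Q122282 (allL N122282 (tt N115183 F531164) (tt N115152 F531165) (tt N121418 F531159) (tt N120966 F531160) (tt N113130 (iv4 D225541)) (tt N120966 F531161) (tt N118954 F531162) (tt N121416 F531163))
theorem Q122284 : ∀ i, i < 122284 → P i := stepQ 122283 Q122283 (allL N122283 (tt N113357 (iv1 F531171)) (tt N120085 F531172) (tt N120084 F531166) (tt N113172 F531167) (tt N117218 F531168) (tt N116746 F531169) (tt N116747 F531170) (tt N113167 (iv7 D225542)))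
theorem Q122285 : ∀ i, i < 122285 → P i := stepQ 122284 Q122284 (allL N122284 (tt N120361 F531178) (tt N120301 F531179) (tt N120362 F531173) (tt N113816 F531174) (tt N119991 F531175) (tt N113176 (iv5 D225543)) (tt N114048 F531176) (tt N120287 F531177))
theorem Q122286 : ∀ i, i < 122286 → P i := stepQ 122285 Q122285 (allL N122285 (tt N120463 F531185) (tt N122010 (iv0 F531186)) (tt N121538 F531180) (tt N113199 (iv3 D225544)) (tt N120211 F531181) (tt N121498 F531182) (tt N118775 F531183) (tt N113428 F531184))
theorem Q122287 : ∀ i, i < 122287 → P i := stepQ 122286 Q122286 (allL N122286 (tt N113519 (iv1 F531192)) (tt N113489 F531193) (tt N113520 F531187) (tt N119919 F531188) (tt N121549 F531189) (tt N116238 F531190) (tt N113517 F531191) (tt N113211 (iv7 D225545)))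
theorem Q122288 : ∀ i, i < 122288 → P i := stepQ 122287 Q122287 (allL N122287 (tt N117399 F531199) (tt N117400 F531200) (tt N116440 F531194) (tt N113482 F531195) (tt N113480 F531196) (tt N113233 (iv5 D225546)) (tt N113478 F531197) (tt N113480 F531198))
theorem Q122289 : ∀ i, i < 122289 → P i := stepQ 122288 Q122288 (allL N122288 (tt N122035 F531206) (tt N118803 (iv0 F531207)) (tt N116906 F531201) (tt N113513 F531202) (tt N113263 F531203) (tt N120934 F531204) (tt N113235 (iv6 D225547)) (tt N116347 F531205))
theorem Q122290 : ∀ i, i < 122290 → P i := stepQ 122289 Q122289 (allL N122289 (tt N113236 (iv1 D225548)) (tt N116908 F531208) (tt N116903 F531214) (tt N122035 (iv3 F531212)) (tt N115750 F531211) (tt N121015 F531210) (tt N120480 (iv6 F531213)) (tt N116902 F531209))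
theorem Q122291 : ∀ i, i < 122291 → P i := stepQ 122290 Q122290 (allL N122290 (tt N114716 F531220) (tt N114708 F531221) (tt N114650 F531215) (tt N121781 F531216) (tt N114021 F531217) (tt N113246 (iv5 D225549)) (tt N114020 F531218) (tt N114715 F531219))
theorem Q122292 : ∀ i, i < 122292 → P i := stepQ 122291 Q122291 (allL N122291 (tt N120543 F531226) (tt N120545 (iv0 F531227)) (tt N120544 F531222) (tt N116441 F531223) (tt N121167 F531224) (tt N122364 (iv5 F531654)) (tt N113256 (iv6 D225550)) (tt N119226 F531225))
theorem Q122293 : ∀ i, i < 122293 → P i := stepQ 122292 Q122292 (allL N122292 (tt N119979 F531232) (tt N121518 (iv0 F531233)) (tt N119168 F531228) (tt N119871 F531229) (tt N121728 F531230) (tt N121847 F531231) (tt N113290 (iv6 D225551)) (tt N122293 (iv7 F531237)))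
theorem Q122294 : ∀ i, i < 122294 → P i := stepQ 122293 Q122293 (allL N122293 (tt N121442 F531238) (tt N113344 F531239) (tt N116801 F531234) (tt N121544 F531235) (tt N121559 F531236) (tt N113340 (iv5 D225552)) (tt N122647 (iv6 F533375)) (tt N122292 F531237))
theorem Q122295 : ∀ i, i < 122295 → P i := stepQ 122294 Q122294 (allL N122294 (tt N117813 F531244) (tt N122257 (iv0 F531245)) (tt N113361 F531240) (tt N122709 (iv3 F533746)) (tt N113345 (iv4 D225553)) (tt N118501 F531241) (tt N113346 F531242) (tt N122258 F531243))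
theorem Q122296 : ∀ i, i < 122296 → P i := stepQ 122295 Q122295 (allL N122295 (tt N118297 F531250) (tt N122710 F533757) (tt N122709 F533748) (tt N113346 (iv3 D225554)) (tt N120298 F531247) (tt N121613 F531248) (tt N122709 (iv6 F533747)) (tt N122254 F531249))
theorem Q122297 : ∀ i, i < 122297 → P i := stepQ 122296 Q122296 (allL N122296 (tt N113436 F531255) (tt N118269 (iv0 F531256)) (tt N122676 (iv2 F533537)) (tt N113351 (iv3 D225555)) (tt N120497 F531251) (tt N119730 F531252) (tt N121368 F531253) (tt N122067 F531254))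
theorem Q122298 : ∀ i, i < 122298 → P i := stepQ 122297 Q122297 (allL N122297 (tt N113431 F531260) (tt N121942 F531261) (tt N122311 (iv2 F531342)) (tt N119796 F531257) (tt N119110 F531259) (tt N113354 (iv5 D225556)) (tt N113526 F531258) (tt N122312 (iv7 F531351)))
theorem Q122299 : ∀ i, i < 122299 → P i := stepQ 122298 Q122298 (allL N122298 (tt N113355 (iv1 D225557)) (tt N121543 F531262) (tt N118774 F531268) (tt N117238 (iv3 F531266)) (tt N117233 F531265) (tt N121840 F531264) (tt N115122 (iv6 F531267)) (tt N121539 F531263))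
theorem Q122300 : ∀ i, i < 122300 → P i := stepQ 122299 Q122299 (allL N122299 (tt N122309 F531334) (tt N121173 F531272) (tt N117257 F531269) (tt N119714 F531270) (tt N113530 F531271) (tt N113358 (iv5 D225558)) (tt N113529 F531273) (tt N122310 (iv7 F531339)))
theorem Q122301 : ∀ i, i < 122301 → P i := stepQ 122300 Q122300 (allL N122300 (tt N113981 F531278) (tt N113861 F531279) (tt N113979 F531274) (tt N113359 (iv3 D225559)) (tt N122329 (iv4 F531451)) (tt N119616 F531275) (tt N119606 F531276) (tt N113980 F531277))
theorem Q122302 : ∀ i, i < 122302 → P i := stepQ 122301 Q122301 (allL N122301 (tt N118582 F531283) (tt N122679 F533562) (tt N122264 F531280) (tt N122530 (iv3 F532673)) (tt N113360 (iv4 D225560)) (tt N122559 (iv5 F532845)) (tt N121989 F531281) (tt N122265 F531282))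
theorem Q122303 : ∀ i, i < 122303 → P i := stepQ 122302 Q122302 (allL N122302 (tt N122258 (iv1 F531287)) (tt N113361 (iv0 D225561)) (tt N117813 F531289) (tt N121718 (iv3 F531288)) (tt N117390 F531285) (tt N117810 F531284) (tt N121557 F531286) (tt N122257 (iv7 F531290)))
theorem Q122304 : ∀ i, i < 122304 → P i := stepQ 122303 Q122303 (allL N122303 (tt N113361 (iv1 D225562)) (tt N122258 F531291) (tt N122257 F531297) (tt N117818 (iv3 F531295)) (tt N122268 F531293) (tt N117814 F531294) (tt N118563 (iv6 F531296)) (tt N117813 F531292))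
theorem Q122305 : ∀ i, i < 122305 → P i := stepQ 122304 Q122304 (allL N122304 (tt N113364 (iv1 F531301)) (tt N113362 (iv0 D225563)) (tt N113732 (iv2 F531300)) (tt N122552 (iv3 F532802)) (tt N113727 F531299) (tt N118433 F531298) (tt N122702 (iv6 F533705)) (tt N113734 F531302))
theorem Q122306 : ∀ i, i < 122306 → P i := stepQ 122305 Q122305 (allL N122305 (tt N119752 (iv1 F531309)) (tt N121118 F531308) (tt N113389 (iv2 D225564)) (tt N121881 F531303) (tt N121847 F531304) (tt N120103 F531305) (tt N116625 F531306) (tt N120098 F531307))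
theorem Q122307 : ∀ i, i < 122307 → P i := stepQ 122306 Q122306 (allL N122306 (tt N113392 (iv1 D225565)) (tt N121944 (iv0 F531315)) (tt N120470 F531314) (tt N120471 (iv3 F531312)) (tt N120217 F531311) (tt N120390 F531310) (tt N120469 (iv6 F531313)) (tt N122588 (iv7 F533015)))
theorem Q122308 : ∀ i, i < 122308 → P i := stepQ 122307 Q122307 (allL N122307 (tt N122588 (iv1 F533014)) (tt N120470 F531321) (tt N113392 (iv2 D225566)) (tt N113404 F531316) (tt N119738 F531317) (tt N121801 F531318) (tt N117458 F531319) (tt N121944 F531320))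
theorem Q122309 : ∀ i, i < 122309 → P i := stepQ 122308 Q122308 (allL N122308 (tt N119808 F531326) (tt N119808 (iv0 F531327)) (tt N121363 F531322) (tt N121239 F531323) (tt N121240 F531324) (tt N122723 (iv5 F533840)) (tt N113394 (iv6 D225567)) (tt N121363 F531325))
theorem Q122310 : ∀ i, i < 122310 → P i := stepQ 122309 Q122309 (allL N122309 (tt N113395 (iv1 D225568)) (tt N122299 (iv0 F531334)) (tt N121115 F531332) (tt N116523 (iv3 F531331)) (tt N121936 F531330) (tt N120101 F531329) (tt N116522 F531333) (tt N119777 F531328))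
theorem Q122311 : ∀ i, i < 122311 → P i := stepQ 122310 Q122310 (allL N122310 (tt N119777 (iv1 F531341)) (tt N121115 F531340) (tt N113395 (iv2 D225569)) (tt N119806 F531335) (tt N121932 F531336) (tt N113415 F531337) (tt N122197 F531338) (tt N122299 F531339))
theorem Q122312 : ∀ i, i < 122312 → P i := stepQ 122311 Q122311 (allL N122311 (tt N121884 F531346) (tt N121879 F531347) (tt N122297 F531342) (tt N122588 F533018) (tt N119092 F531345) (tt N113402 (iv5 D225570)) (tt N121987 F531343) (tt N120471 F531344))
theorem Q122313 : ∀ i, i < 122313 → P i := stepQ 122312 Q122312 (allL N122312 (tt N121879 F531353) (tt N121884 F531354) (tt N120471 F531348) (tt N117383 F531349) (tt N120391 F531352) (tt N113403 (iv5 D225571)) (tt N120390 F531350) (tt N122297 F531351))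
theorem Q122314 : ∀ i, i < 122314 → P i := stepQ 122313 Q122313 (allL N122313 (tt N121852 (iv1 F531359)) (tt N113406 (iv0 D225572)) (tt N121456 (iv2 F531358)) (tt N113422 F531356) (tt N122696 (iv4 F533664)) (tt N118267 F531355) (tt N121456 F531357) (tt N122202 F531360))
theorem Q122315 : ∀ i, i < 122315 → P i := stepQ 122314 Q122314 (allL N122314 (tt N122525 F532648) (tt N122545 (iv0 F532762)) (tt N122252 F531361) (tt N121394 F531362) (tt N113413 (iv4 D225573)) (tt N119107 F531363) (tt N121272 F531364) (tt N122251 F531365))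
theorem Q122316 : ∀ i, i < 122316 → P i := stepQ 122315 Q122315 (allL N122315 (tt N122731 F533895) (tt N122731 (iv0 F533894)) (tt N122200 F531366) (tt N117259 F531367) (tt N117283 F531368) (tt N122730 (iv5 F533886)) (tt N113434 (iv6 D225574)) (tt N122200 F531369))
theorem Q122317 : ∀ i, i < 122317 → P i := stepQ 122316 Q122316 (allL N122316 (tt N116858 (iv1 F531376)) (tt N117141 F531375) (tt N113438 (iv2 D225575)) (tt N120359 F531370) (tt N119694 F531371) (tt N116658 F531372) (tt N116107 F531373) (tt N117140 F531374))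
theorem Q122318 : ∀ i, i < 122318 → P i := stepQ 122317 Q122317 (allL N122317 (tt N116819 F531382) (tt N122371 (iv0 F531701)) (tt N120065 F531377) (tt N116172 F531378) (tt N113487 F531379) (tt N117381 F531380) (tt N113486 (iv6 D225576)) (tt N121825 F531381))
theorem Q122319 : ∀ i, i < 122319 → P i := stepQ 122318 Q122318 (allL N122318 (tt N122451 (iv1 F532187)) (tt N121941 F531387) (tt N116747 F531383) (tt N121779 F531388) (tt N113491 (iv4 D225577)) (tt N116722 F531386) (tt N120084 F531384) (tt N121946 F531385))
theorem Q122320 : ∀ i, i < 122320 → P i := stepQ 122319 Q122319 (allL N122319 (tt N122271 (iv1 F531394)) (tt N116525 (iv0 F531395)) (tt N117390 F531389) (tt N113493 (iv3 D225578)) (tt N117813 F531390) (tt N120202 F531391) (tt N120201 F531392) (tt N122268 F531393))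
theorem Q122321 : ∀ i, i < 122321 → P i := stepQ 122320 Q122320 (allL N122320 (tt N116654 F531401) (tt N116161 (iv0 F531402)) (tt N121913 F531396) (tt N116136 F531397) (tt N120086 F531398) (tt N121481 F531399) (tt N113494 (iv6 D225579)) (tt N121480 F531400))
theorem Q122322 : ∀ i, i < 122322 → P i := stepQ 122321 Q122321 (allL N122321 (tt N113553 F531408) (tt N116659 (iv0 F531409)) (tt N116164 F531403) (tt N113498 (iv3 D225580)) (tt N122217 F531404) (tt N116689 F531405) (tt N118013 F531406) (tt N116657 F531407))
theorem Q122323 : ∀ i, i < 122323 → P i := stepQ 122322 Q122322 (allL N122322 (tt N114688 (iv1 F531415)) (tt N121208 F531416) (tt N118013 F531410) (tt N116165 F531411) (tt N113504 F531412) (tt N118012 F531413) (tt N116164 F531414) (tt N113501 (iv7 D225581)))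
theorem Q122324 : ∀ i, i < 122324 → P i := stepQ 122323 Q122323 (allL N122323 (tt N121202 F531422) (tt N122362 (iv0 F531643)) (tt N113538 F531417) (tt N120934 F531418) (tt N114833 F531419) (tt N113513 (iv5 D225582)) (tt N114836 F531420) (tt N116348 F531421))
theorem Q122325 : ∀ i, i < 122325 → P i := stepQ 122324 Q122324 (allL N122324 (tt N116153 F531427) (tt N115333 F531428) (tt N122241 F531423) (tt N121016 F531424) (tt N120946 F531426) (tt N113535 (iv5 D225583)) (tt N122685 (iv6 F533599)) (tt N121035 F531425))
theorem Q122326 : ∀ i, i < 122326 → P i := stepQ 122325 Q122325 (allL N122325 (tt N116347 F531434) (tt N116906 (iv0 F531435)) (tt N122035 F531429) (tt N113536 (iv3 D225584)) (tt N115131 F531430) (tt N122131 F531431) (tt N120898 F531432) (tt N118803 F531433))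
theorem Q122327 : ∀ i, i < 122327 → P i := stepQ 122326 Q122326 (allL N122326 (tt N118179 F531439) (tt N118741 F531440) (tt N122426 (iv2 F532032)) (tt N113538 F531436) (tt N118222 F531437) (tt N113537 (iv5 D225585)) (tt N122729 (iv6 F533878)) (tt N119670 F531438))
theorem Q122328 : ∀ i, i < 122328 → P i := stepQ 122327 Q122327 (allL N122327 (tt N116271 F531444) (tt N116557 F531445) (tt N122381 (iv2 F531756)) (tt N113540 F531441) (tt N121463 F531442) (tt N113539 (iv5 D225586)) (tt N122345 (iv6 F531549)) (tt N119306 F531443))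
theorem Q122329 : ∀ i, i < 122329 → P i := stepQ 122328 Q122328 (allL N122328 (tt N122382 F531767) (tt N122652 F533410) (tt N114044 F531446) (tt N113553 F531447) (tt N121395 F531448) (tt N114614 F531449) (tt N113551 (iv6 D225587)) (tt N122651 (iv7 F533403)))
theorem Q122330 : ∀ i, i < 122330 → P i := stepQ 122329 Q122329 (allL N122329 (tt N116164 (iv1 F531454)) (tt N116657 F531455) (tt N116659 F531450) (tt N122651 (iv3 F533400)) (tt N122300 F531451) (tt N116635 F531452) (tt N121109 F531453) (tt N113553 (iv7 D225588)))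
theorem Q122331 : ∀ i, i < 122331 → P i := stepQ 122330 Q122330 (allL N122330 (tt N115593 F531459) (tt N115567 F531460) (tt N122402 (iv2 F531886)) (tt N117798 F531456) (tt N122506 (iv4 F532535)) (tt N113562 (iv5 D225589)) (tt N114088 F531457) (tt N117476 F531458))
theorem Q122332 : ∀ i, i < 122332 → P i := stepQ 122331 Q122331 (allL N122331 (tt N122482 F532396) (tt N122478 (iv0 F532367)) (tt N122151 F531461) (tt N122633 (iv3 F533290)) (tt N113569 (iv4 D225590)) (tt N119117 F531462) (tt N122395 (iv6 F531839)) (tt N122505 (iv7 F532530)))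
theorem Q122333 : ∀ i, i < 122333 → P i := stepQ 122332 Q122332 (allL N122332 (tt N122215 F531467) (tt N121099 (iv0 F531468)) (tt N116750 F531463) (tt N113600 F531464) (tt N116754 F531465) (tt N114477 F531466) (tt N113599 (iv6 D225591)) (tt N122218 (iv7 F531469)))
theorem Q122334 : ∀ i, i < 122334 → P i := stepQ 122333 Q122333 (allL N122333 (tt N121325 F531475) (tt N121340 (iv0 F531476)) (tt N121263 F531470) (tt N118588 F531471) (tt N116177 F531472) (tt N116317 F531473) (tt N113601 (iv6 D225592)) (tt N121530 F531474))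
theorem Q122335 : ∀ i, i < 122335 → P i := stepQ 122334 Q122334 (allL N122334 (tt N122070 F531482) (tt N115704 F531483) (tt N116359 F531477) (tt N122085 F531478) (tt N113681 F531479) (tt N113642 (iv5 D225593)) (tt N115955 F531480) (tt N116149 F531481))
theorem Q122336 : ∀ i, i < 122336 → P i := stepQ 122335 Q122335 (allL N122335 (tt N114397 F531487) (tt N122439 F532111) (tt N113733 F531484) (tt N114398 F531485) (tt N122702 (iv4 F533704)) (tt N113648 (iv5 D225594)) (tt N113727 F531486) (tt N122376 (iv7 F531728)))
theorem Q122337 : ∀ i, i < 122337 → P i := stepQ 122336 Q122336 (allL N122336 (tt N116582 F531494) (tt N116574 F531493) (tt N116476 F531488) (tt N116481 F531489) (tt N117279 F531490) (tt N113653 (iv5 D225595)) (tt N116620 F531491) (tt N116581 F531492))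
theorem Q122338 : ∀ i, i < 122338 → P i := stepQ 122337 Q122337 (allL N122337 (tt N122128 F531498) (tt N122339 (iv0 F531513)) (tt N119360 F531500) (tt N113657 (iv3 D225596)) (tt N122194 F531495) (tt N119357 F531496) (tt N119358 (iv6 F531499)) (tt N122082 F531497))
theorem Q122339 : ∀ i, i < 122339 → P i := stepQ 122338 Q122338 (allL N122338 (tt N117117 F531506) (tt N115585 F531507) (tt N117150 F531501) (tt N119358 F531502) (tt N116690 F531503) (tt N115110 F531504) (tt N113657 (iv6 D225597)) (tt N117148 F531505))
theorem Q122340 : ∀ i, i < 122340 → P i := stepQ 122339 Q122339 (allL N122339 (tt N122337 F531513) (tt N122078 F531512) (tt N122399 (iv2 F531865)) (tt N113671 F531508) (tt N120942 F531509) (tt N113670 (iv5 D225598)) (tt N114014 F531510) (tt N117434 F531511))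
theorem Q122341 : ∀ i, i < 122341 → P i := stepQ 122340 Q122340 (allL N122340 (tt N117587 F531519) (tt N118935 F531520) (tt N113683 F531514) (tt N115893 F531515) (tt N116365 F531516) (tt N117582 F531517) (tt N113672 (iv6 D225599)) (tt N115964 F531518))
theorem Q122342 : ∀ i, i < 122342 → P i := stepQ 122341 Q122341 (allL N122341 (tt N121448 F531526) (tt N122485 (iv0 F532413)) (tt N122150 F531521) (tt N120981 F531522) (tt N113680 (iv4 D225600)) (tt N121087 F531525) (tt N119343 F531523) (tt N122193 F531524))
theorem Q122343 : ∀ i, i < 122343 → P i := stepQ 122342 Q122342 (allL N122342 (tt N115274 F531532) (tt N120968 F531533) (tt N115211 F531527) (tt N114604 F531528) (tt N113688 (iv4 D225601)) (tt N114603 F531529) (tt N117741 F531530) (tt N115242 F531531))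
theorem Q122344 : ∀ i, i < 122344 → P i := stepQ 122343 Q122343 (allL N122343 (tt N114855 F531539) (tt N114854 F531540) (tt N122194 F531534) (tt N115728 F531535) (tt N119360 F531538) (tt N113689 (iv5 D225602)) (tt N119361 F531536) (tt N122081 F531537))
theorem Q122345 : ∀ i, i < 122345 → P i := stepQ 122344 Q122344 (allL N122344 (tt N122486 (iv1 F532420)) (tt N115868 (iv0 F531545)) (tt N113899 F531541) (tt N114091 F531542) (tt N118613 F531543) (tt N122176 F531544) (tt N113710 (iv6 D225603)) (tt N122642 (iv7 F533343)))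
theorem Q122346 : ∀ i, i < 122346 → P i := stepQ 122345 Q122345 (allL N122345 (tt N122595 (iv1 F533059)) (tt N113730 (iv0 D225604)) (tt N114049 (iv2 F531550)) (tt N116162 F531548) (tt N121720 F531547) (tt N121890 F531546) (tt N122327 F531549) (tt N116876 F531551))
theorem Q122347 : ∀ i, i < 122347 → P i := stepQ 122346 Q122346 (allL N122346 (tt N122262 (iv1 F531554)) (tt N122263 (iv0 F531555)) (tt N122702 (iv2 F533702)) (tt N122557 (iv3 F532831)) (tt N113733 F531552) (tt N121736 F531553) (tt N113732 (iv6 D225605)) (tt N122554 (iv7 F532815)))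
theorem Q122348 : ∀ i, i < 122348 → P i := stepQ 122347 Q122347 (allL N122347 (tt N122376 F531730) (tt N113733 (iv0 D225606)) (tt N114397 (iv2 F531557)) (tt N116166 F531558) (tt N122741 (iv4 F533952)) (tt N121948 F531556) (tt N122549 F532788) (tt N122439 (iv7 F532108)))
theorem Q122349 : ∀ i, i < 122349 → P i := stepQ 122348 Q122348 (allL N122348 (tt N119315 F531562) (tt N119317 (iv0 F531563)) (tt N119371 F531559) (tt N113734 (iv3 D225607)) (tt N122277 F531560) (tt N118471 F531561) (tt N122678 (iv6 F533554)) (tt N122552 (iv7 F532805)))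
theorem Q122350 : ∀ i, i < 122350 → P i := stepQ 122349 Q122349 (allL N122349 (tt N113741 (iv1 F531569)) (tt N113740 F531567) (tt N113738 (iv2 D225608)) (tt N121265 F531564) (tt N121748 F531568) (tt N114378 F531565) (tt N122439 (iv6 F532107)) (tt N113739 F531566))
theorem Q122351 : ∀ i, i < 122351 → P i := stepQ 122350 Q122350 (allL N122350 (tt N122667 F533496) (tt N119311 F531572) (tt N121748 F531570) (tt N122679 (iv3 F533559)) (tt N113738 (iv4 D225609)) (tt N121746 F531571) (tt N122440 (iv6 F532113)) (tt N122678 (iv7 F533555)))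
theorem Q122352 : ∀ i, i < 122352 → P i := stepQ 122351 Q122351 (allL N122351 (tt N122166 (iv1 F531578)) (tt N121440 (iv0 F531577)) (tt N122277 F531573) (tt N120131 F531574) (tt N119371 F531575) (tt N117270 F531576) (tt N113739 (iv6 D225610)) (tt N122549 (iv7 F532785)))
theorem Q122353 : ∀ i, i < 122353 → P i := stepQ 122352 Q122352 (allL N122352 (tt N122241 F531582) (tt N121035 F531583) (tt N115333 F531579) (tt N122391 (iv3 F531818)) (tt N115841 F531580) (tt N113755 (iv5 D225611)) (tt N122390 (iv6 F531817)) (tt N116153 F531581))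
theorem Q122354 : ∀ i, i < 122354 → P i := stepQ 122353 Q122353 (allL N122353 (tt N113758 (iv1 D225612)) (tt N116342 F531584) (tt N116354 F531589) (tt N122234 (iv3 F531588)) (tt N115624 F531587) (tt N113765 F531586) (tt N120852 F531590) (tt N116355 F531585))
theorem Q122355 : ∀ i, i < 122355 → P i := stepQ 122354 Q122354 (allL N122354 (tt N113789 (iv1 D225613)) (tt N120920 F531591) (tt N121007 F531597) (tt N113795 (iv3 F531595)) (tt N116286 F531594) (tt N120752 F531593) (tt N120999 (iv6 F531596)) (tt N116226 F531592))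
theorem Q122356 : ∀ i, i < 122356 → P i := stepQ 122355 Q122355 (allL N122355 (tt N121007 (iv1 F531603)) (tt N116226 F531604) (tt N120920 F531598) (tt N120814 F531599) (tt N113791 F531600) (tt N121793 F531601) (tt N116247 F531602) (tt N113789 (iv7 D225614)))
theorem Q122357 : ∀ i, i < 122357 → P i := stepQ 122356 Q122356 (allL N122356 (tt N115404 F531609) (tt N121004 (iv0 F531610)) (tt N113797 F531605) (tt N121022 F531606) (tt N113794 F531607) (tt N122470 (iv5 F532311)) (tt N113793 (iv6 D225615)) (tt N121025 F531608))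
theorem Q122358 : ∀ i, i < 122358 → P i := stepQ 122357 Q122357 (allL N122357 (tt N113799 (iv1 F531616)) (tt N113798 F531617) (tt N113800 F531611) (tt N116238 F531612) (tt N121025 F531613) (tt N119919 F531614) (tt N116225 F531615) (tt N113794 (iv7 D225616)))
theorem Q122359 : ∀ i, i < 122359 → P i := stepQ 122358 Q122358 (allL N122358 (tt N120669 F531621) (tt N122503 (iv0 F532520)) (tt N122470 (iv2 F532309)) (tt N118182 F531618) (tt N118870 F531620) (tt N113797 (iv5 D225617)) (tt N117657 F531619) (tt N122697 (iv7 F533674)))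
theorem Q122360 : ∀ i, i < 122360 → P i := stepQ 122359 Q122359 (allL N122359 (tt N122130 F531625) (tt N122242 F531626) (tt N122418 (iv2 F531987)) (tt N116245 F531622) (tt N113798 (iv4 D225618)) (tt N122685 (iv5 F533598)) (tt N121413 F531623) (tt N121005 F531624))
theorem Q122361 : ∀ i, i < 122361 → P i := stepQ 122360 Q122360 (allL N122360 (tt N117217 F531632) (tt N116800 F531633) (tt N116268 F531627) (tt N120076 F531628) (tt N113814 (iv4 D225619)) (tt N117138 F531629) (tt N117629 F531630) (tt N116266 F531631))
theorem Q122362 : ∀ i, i < 122362 → P i := stepQ 122361 Q122361 (allL N122361 (tt N121440 F531637) (tt N122166 (iv0 F531638)) (tt N122549 (iv2 F532789)) (tt N113827 (iv3 D225620)) (tt N122552 (iv4 F532803)) (tt N114038 F531634) (tt N114397 F531635) (tt N122277 F531636))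
theorem Q122363 : ∀ i, i < 122363 → P i := stepQ 122362 Q122362 (allL N122362 (tt N122323 F531643) (tt N114829 F531644) (tt N122238 F531639) (tt N121014 F531640) (tt N120944 F531641) (tt N113849 (iv5 D225621)) (tt N115445 F531645) (tt N121210 F531642))
theorem Q122364 : ∀ i, i < 122364 → P i := stepQ 122363 Q122363 (allL N122363 (tt N120625 F531650) (tt N120865 (iv0 F531651)) (tt N118747 F531646) (tt N116886 F531647) (tt N113850 F531648) (tt N122713 (iv5 F533774)) (tt N113849 (iv6 D225622)) (tt N119470 F531649))
theorem Q122365 : ∀ i, i < 122365 → P i := stepQ 122364 Q122364 (allL N122364 (tt N114665 F531657) (tt N121683 F531658) (tt N116375 F531652) (tt N120166 F531653) (tt N113852 (iv4 D225623)) (tt N122291 F531654) (tt N114647 F531655) (tt N121682 F531656))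
theorem Q122366 : ∀ i, i < 122366 → P i := stepQ 122365 Q122365 (allL N122365 (tt N115339 (iv1 F531664)) (tt N115346 F531665) (tt N115345 F531659) (tt N121277 F531660) (tt N120429 F531661) (tt N121214 F531662) (tt N119020 F531663) (tt N113873 (iv7 D225624)))
theorem Q122367 : ∀ i, i < 122367 → P i := stepQ 122366 Q122366 (allL N122366 (tt N113876 (iv1 D225625)) (tt N119126 F531666) (tt N118975 F531672) (tt N119215 (iv3 F531670)) (tt N114575 F531669) (tt N120505 F531668) (tt N117482 (iv6 F531671)) (tt N119124 F531667))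
theorem Q122368 : ∀ i, i < 122368 → P i := stepQ 122367 Q122367 (allL N122367 (tt N115868 (iv1 F531677)) (tt N122486 (iv0 F532419)) (tt N122642 (iv2 F533339)) (tt N122124 F531673) (tt N122165 F531674) (tt N122124 F531675) (tt N122123 F531676) (tt N113899 (iv7 D225626)))
theorem Q122369 : ∀ i, i < 122369 → P i := stepQ 122368 Q122368 (allL N122368 (tt N114868 F531683) (tt N115849 (iv0 F531684)) (tt N115848 F531678) (tt N113905 (iv3 D225627)) (tt N116034 F531679) (tt N115411 F531680) (tt N114207 F531681) (tt N115847 F531682))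
theorem Q122370 : ∀ i, i < 122370 → P i := stepQ 122369 Q122369 (allL N122369 (tt N118773 F531690) (tt N116098 (iv0 F531691)) (tt N118775 F531685) (tt N113922 (iv3 D225628)) (tt N121539 F531686) (tt N118766 F531687) (tt N121538 F531688) (tt N117233 F531689))
theorem Q122371 : ∀ i, i < 122371 → P i := stepQ 122370 Q122370 (allL N122370 (tt N115139 F531695) (tt N115134 (iv0 F531696)) (tt N122434 F532080) (tt N114831 F531692) (tt N113938 F531693) (tt N114830 F531694) (tt N113937 (iv6 D225629)) (tt N122435 (iv7 F532083)))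
theorem Q122372 : ∀ i, i < 122372 → P i := stepQ 122371 Q122371 (allL N122371 (tt N122317 F531701) (tt N120129 F531702) (tt N120087 F531697) (tt N121524 F531698) (tt N113942 (iv4 D225630)) (tt N121867 F531699) (tt N114390 F531703) (tt N120089 F531700))
theorem Q122373 : ∀ i, i < 122373 → P i := stepQ 122372 Q122372 (allL N122372 (tt N121019 F531709) (tt N119606 (iv0 F531710)) (tt N120088 F531704) (tt N113944 F531705) (tt N114390 F531706) (tt N116879 F531707) (tt N113942 (iv6 D225631)) (tt N121126 F531708))
theorem Q122374 : ∀ i, i < 122374 → P i := stepQ 122373 Q122373 (allL N122373 (tt N121341 (iv1 F531716)) (tt N121338 F531717) (tt N121343 F531711) (tt N113957 F531712) (tt N121269 F531713) (tt N116396 F531714) (tt N121527 F531715) (tt N113955 (iv7 D225632)))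
theorem Q122375 : ∀ i, i < 122375 → P i := stepQ 122374 Q122374 (allL N122374 (tt N113958 (iv1 D225633)) (tt N116262 F531718) (tt N116264 F531723) (tt N121109 (iv3 F531722)) (tt N121563 F531721) (tt N114951 F531720) (tt N122651 (iv6 F533401)) (tt N116254 F531719))
theorem Q122376 : ∀ i, i < 122376 → P i := stepQ 122375 Q122375 (allL N122375 (tt N114044 F531724) (tt N122651 F533404) (tt N122652 (iv2 F533405)) (tt N113965 (iv3 D225634)) (tt N122645 (iv4 F533361)) (tt N122586 (iv5 F533004)) (tt N122438 (iv6 F532101)) (tt N122382 (iv7 F531765)))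
theorem Q122377 : ∀ i, i < 122377 → P i := stepQ 122376 Q122376 (allL N122376 (tt N114698 F531729) (tt N122347 (iv0 F531730)) (tt N116708 F531725) (tt N113975 (iv3 D225635)) (tt N122742 (iv4 F533959)) (tt N114692 F531726) (tt N122271 F531727) (tt N122335 F531728))
theorem Q122378 : ∀ i, i < 122378 → P i := stepQ 122377 Q122377 (allL N122377 (tt N121526 F531736) (tt N116726 (iv0 F531737)) (tt N113984 F531731) (tt N120721 F531732) (tt N121338 F531733) (tt N120720 F531734) (tt N113983 (iv6 D225636)) (tt N121911 F531735))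
theorem Q122379 : ∀ i, i < 122379 → P i := stepQ 122378 Q122378 (allL N122378 (tt N116726 (iv1 F531743)) (tt N121526 F531744) (tt N121911 F531738) (tt N113986 F531739) (tt N121341 F531740) (tt N121685 F531741) (tt N114681 F531742) (tt N113984 (iv7 D225637)))
theorem Q122380 : ∀ i, i < 122380 → P i := stepQ 122379 Q122379 (allL N122379 (tt N114000 (iv1 D225638)) (tt N122143 F531745) (tt N120369 F531751) (tt N121503 (iv3 F531749)) (tt N117297 F531748) (tt N122232 F531747) (tt N120367 (iv6 F531750)) (tt N121501 F531746))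
theorem Q122381 : ∀ i, i < 122381 → P i := stepQ 122380 Q122380 (allL N122380 (tt N122652 (iv1 F533411)) (tt N122382 (iv0 F531766)) (tt N122651 F533402) (tt N114047 F531752) (tt N119719 F531753) (tt N114620 F531754) (tt N116264 F531755) (tt N114044 (iv7 D225639)))
theorem Q122382 : ∀ i, i < 122382 → P i := stepQ 122381 Q122381 (allL N122381 (tt N122528 (iv1 F532664)) (tt N122164 (iv0 F531760)) (tt N122327 F531756) (tt N114050 F531757) (tt N122661 (iv4 F533451)) (tt N116117 F531758) (tt N114049 (iv6 D225640)) (tt N117387 F531759))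
theorem Q122383 : ∀ i, i < 122383 → P i := stepQ 122382 Q122382 (allL N122382 (tt N122380 F531766) (tt N122328 (iv0 F531767)) (tt N118525 F531761) (tt N114068 (iv3 D225641)) (tt N118465 F531762) (tt N121520 F531763) (tt N118469 F531764) (tt N122375 F531765))
theorem Q122384 : ∀ i, i < 122384 → P i := stepQ 122383 Q122383 (allL N122383 (tt N122031 (iv1 F531773)) (tt N114087 (iv0 D225642)) (tt N118915 (iv2 F531772)) (tt N120930 F531770) (tt N121949 F531769) (tt N118957 F531768) (tt N115516 F531771) (tt N115532 F531774))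
theorem Q122385 : ∀ i, i < 122385 → P i := stepQ 122384 Q122384 (allL N122384 (tt N121660 F531779) (tt N121668 (iv0 F531780)) (tt N122522 (iv2 F532623)) (tt N114090 (iv3 D225643)) (tt N118615 F531775) (tt N120616 F531776) (tt N118614 F531777) (tt N115447 F531778))
theorem Q122386 : ∀ i, i < 122386 → P i := stepQ 122385 Q122385 (allL N122385 (tt N115585 F531786) (tt N117117 (iv0 F531787)) (tt N117148 F531781) (tt N114094 F531782) (tt N116691 F531783) (tt N115109 F531784) (tt N114092 (iv6 D225644)) (tt N117150 F531785))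
theorem Q122387 : ∀ i, i < 122387 → P i := stepQ 122386 Q122386 (allL N122386 (tt N121659 F531791) (tt N120618 (iv0 F531792)) (tt N120983 F531788) (tt N114093 (iv3 D225645)) (tt N117038 F531789) (tt N118075 F531790) (tt N117037 (iv6 F531793)) (tt N122403 (iv7 F531894)))
theorem Q122388 : ∀ i, i < 122388 → P i := stepQ 122387 Q122387 (allL N122387 (tt N120903 F531798) (tt N120040 (iv0 F531799)) (tt N120906 F531794) (tt N117037 F531795) (tt N114094 F531796) (tt N120627 F531797) (tt N114093 (iv6 D225646)) (tt N122627 (iv7 F533257)))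
theorem Q122389 : ∀ i, i < 122389 → P i := stepQ 122388 Q122388 (allL N122388 (tt N119359 (iv1 F531806)) (tt N114094 (iv0 D225647)) (tt N114130 (iv2 F531804)) (tt N114117 F531802) (tt N120707 F531801) (tt N117120 F531800) (tt N120706 F531803) (tt N116060 F531805))
theorem Q122390 : ∀ i, i < 122390 → P i := stepQ 122389 Q122389 (allL N122389 (tt N116060 (iv1 F531811)) (tt N114130 F531812) (tt N119359 F531807) (tt N117150 F531808) (tt N122627 (iv4 F533256)) (tt N117149 F531809) (tt N122188 F531810) (tt N114094 (iv7 D225648)))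
theorem Q122391 : ∀ i, i < 122391 → P i := stepQ 122390 Q122390 (allL N122390 (tt N122523 (iv1 F532635)) (tt N121067 (iv0 F531816)) (tt N122408 (iv2 F531922)) (tt N114095 (iv3 D225649)) (tt N115616 F531813) (tt N120835 F531814) (tt N122352 F531817) (tt N120834 F531815))
theorem Q122392 : ∀ i, i < 122392 → P i := stepQ 122391 Q122391 (allL N122391 (tt N122718 F533811) (tt N121204 (iv0 F531821)) (tt N122404 (iv2 F531898)) (tt N122352 F531818) (tt N114096 F531819) (tt N120864 F531820) (tt N114095 (iv6 D225650)) (tt N122514 (iv7 F532585)))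
theorem Q122393 : ∀ i, i < 122393 → P i := stepQ 122392 Q122392 (allL N122392 (tt N114102 (iv1 F531826)) (tt N115661 F531827) (tt N122188 F531822) (tt N119360 F531823) (tt N122514 (iv4 F532583)) (tt N115461 F531824) (tt N119359 F531825) (tt N114096 (iv7 D225651)))
theorem Q122394 : ∀ i, i < 122394 → P i := stepQ 122393 Q122393 (allL N122393 (tt N114109 (iv1 F531830)) (tt N114105 (iv0 D225652)) (tt N114107 (iv2 F531829)) (tt N122486 (iv3 F532421)) (tt N122491 (iv4 F532449)) (tt N122579 (iv5 F532956)) (tt N115819 F531828) (tt N114108 F531831))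
theorem Q122395 : ∀ i, i < 122395 → P i := stepQ 122394 Q122394 (allL N122394 (tt N121410 F531836) (tt N121674 F531837) (tt N122579 F532960) (tt N115866 F531832) (tt N120559 F531835) (tt N114107 (iv5 D225653)) (tt N120558 F531833) (tt N121721 F531834))
theorem Q122396 : ∀ i, i < 122396 → P i := stepQ 122395 Q122395 (allL N122395 (tt N118724 F531842) (tt N118716 F531843) (tt N118722 F531838) (tt N122610 (iv3 F533156)) (tt N114113 (iv4 D225654)) (tt N120406 F531841) (tt N122331 F531839) (tt N118723 F531840))
theorem Q122397 : ∀ i, i < 122397 → P i := stepQ 122396 Q122396 (allL N122396 (tt N118716 F531849) (tt N118724 F531850) (tt N118723 F531844) (tt N117029 F531845) (tt N114114 (iv4 D225655)) (tt N120407 F531846) (tt N117029 F531847) (tt N118722 F531848))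
theorem Q122398 : ∀ i, i < 122398 → P i := stepQ 122397 Q122397 (allL N122397 (tt N115846 F531856) (tt N115864 F531857) (tt N114207 F531851) (tt N114129 F531852) (tt N115644 F531853) (tt N114128 (iv5 D225656)) (tt N115848 F531854) (tt N121705 F531855))
theorem Q122399 : ∀ i, i < 122399 → P i := stepQ 122398 Q122398 (allL N122398 (tt N117123 F531862) (tt N117118 F531863) (tt N117120 F531858) (tt N114132 F531859) (tt N119913 F531861) (tt N114130 (iv5 D225657)) (tt N116471 F531864) (tt N117121 F531860))
theorem Q122400 : ∀ i, i < 122400 → P i := stepQ 122399 Q122399 (allL N122399 (tt N119360 F531870) (tt N122082 (iv0 F531871)) (tt N122339 F531865) (tt N114139 (iv3 D225658)) (tt N114859 F531866) (tt N122158 F531867) (tt N119553 F531868) (tt N122128 F531869))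
theorem Q122401 : ∀ i, i < 122401 → P i := stepQ 122400 Q122400 (allL N122400 (tt N117616 (iv1 F531878)) (tt N117665 F531877) (tt N114149 (iv2 D225659)) (tt N119327 F531872) (tt N120765 F531873) (tt N119325 F531874) (tt N119326 F531875) (tt N115578 F531876))
theorem Q122402 : ∀ i, i < 122402 → P i := stepQ 122401 Q122401 (allL N122401 (tt N122176 F531883) (tt N122124 (iv0 F531885)) (tt N115912 F531879) (tt N115874 F531880) (tt N114153 F531881) (tt N116022 F531884) (tt N114152 (iv6 D225660)) (tt N116027 F531882))
theorem Q122403 : ∀ i, i < 122403 → P i := stepQ 122402 Q122402 (allL N122402 (tt N115774 F531890) (tt N115773 (iv0 F531891)) (tt N122330 F531886) (tt N114861 F531887) (tt N119220 F531888) (tt N114239 F531889) (tt N114160 (iv6 D225661)) (tt N122479 (iv7 F532370)))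
theorem Q122404 : ∀ i, i < 122404 → P i := stepQ 122403 Q122403 (allL N122403 (tt N119419 F531895) (tt N119518 (iv0 F531896)) (tt N120810 (iv2 F531897)) (tt N114167 (iv3 D225662)) (tt N119484 F531892) (tt N119457 F531893) (tt N122635 (iv6 F533303)) (tt N122386 F531894))
theorem Q122405 : ∀ i, i < 122405 → P i := stepQ 122404 Q122404 (allL N122404 (tt N122131 F531901) (tt N121212 (iv0 F531902)) (tt N122391 F531898) (tt N122635 (iv3 F533301)) (tt N114168 F531899) (tt N121000 F531900) (tt N114167 (iv6 D225663)) (tt N122721 (iv7 F533827)))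
theorem Q122406 : ∀ i, i < 122406 → P i := stepQ 122405 Q122405 (allL N122405 (tt N122468 (iv1 F532301)) (tt N120673 (iv0 F531907)) (tt N119343 F531903) (tt N114171 (iv3 D225664)) (tt N119340 F531904) (tt N117750 F531905) (tt N122150 F531908) (tt N120650 F531906))
theorem Q122407 : ∀ i, i < 122407 → P i := stepQ 122406 Q122406 (allL N122406 (tt N122485 F532414) (tt N121448 (iv0 F531914)) (tt N122193 F531909) (tt N122150 F531910) (tt N122191 F531911) (tt N120282 F531912) (tt N114171 (iv6 D225665)) (tt N122150 F531913))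
theorem Q122408 : ∀ i, i < 122408 → P i := stepQ 122407 Q122407 (allL N122407 (tt N120645 F531920) (tt N120623 (iv0 F531921)) (tt N120876 F531915) (tt N120901 F531916) (tt N119664 F531917) (tt N120872 F531918) (tt N114173 (iv6 D225666)) (tt N120877 F531919))
theorem Q122409 : ∀ i, i < 122409 → P i := stepQ 122408 Q122408 (allL N122408 (tt N121211 F531927) (tt N122493 (iv0 F532465)) (tt N122390 F531922) (tt N120810 F531923) (tt N114175 (iv4 D225667)) (tt N120809 F531926) (tt N115333 F531924) (tt N121029 F531925))
theorem Q122410 : ∀ i, i < 122410 → P i := stepQ 122409 Q122409 (allL N122409 (tt N122124 F531933) (tt N122176 F531934) (tt N116027 F531928) (tt N115870 F531929) (tt N114190 (iv4 D225668)) (tt N122146 F531930) (tt N122036 F531931) (tt N115912 F531932))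
theorem Q122411 : ∀ i, i < 122411 → P i := stepQ 122410 Q122410 (allL N122410 (tt N122150 F531939) (tt N122193 F531940) (tt N122485 (iv2 F532408)) (tt N120857 F531935) (tt N114206 (iv4 D225669)) (tt N121112 F531936) (tt N116025 F531937) (tt N121448 F531938))
theorem Q122412 : ∀ i, i < 122412 → P i := stepQ 122411 Q122411 (allL N122411 (tt N115653 F531946) (tt N117464 F531947) (tt N117463 F531941) (tt N117117 F531942) (tt N114224 (iv4 D225670)) (tt N117116 F531943) (tt N119335 F531944) (tt N116023 F531945))
theorem Q122413 : ∀ i, i < 122413 → P i := stepQ 122412 Q122412 (allL N122412 (tt N119441 F531953) (tt N118964 F531954) (tt N119444 F531948) (tt N114227 F531949) (tt N121072 F531950) (tt N114226 (iv5 D225671)) (tt N116011 F531951) (tt N119443 F531952))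
theorem Q122414 : ∀ i, i < 122414 → P i := stepQ 122413 Q122413 (allL N122413 (tt N114269 (iv1 D225672)) (tt N121776 F531955) (tt N121775 F531961) (tt N121166 (iv3 F531959)) (tt N121998 F531958) (tt N120890 F531957) (tt N121284 (iv6 F531960)) (tt N121288 F531956))
theorem Q122415 : ∀ i, i < 122415 → P i := stepQ 122414 Q122414 (allL N122414 (tt N114630 F531966) (tt N114628 F531967) (tt N120185 F531962) (tt N121359 F531963) (tt N116942 F531965) (tt N114276 (iv5 D225673)) (tt N119776 F531964) (tt N122421 (iv7 F532008)))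
theorem Q122416 : ∀ i, i < 122416 → P i := stepQ 122415 Q122415 (allL N122415 (tt N116707 F531972) (tt N114738 F531973) (tt N114487 F531968) (tt N122443 (iv3 F532133)) (tt N114681 F531969) (tt N114287 (iv5 D225674)) (tt N121341 F531970) (tt N114485 F531971))
theorem Q122417 : ∀ i, i < 122417 → P i := stepQ 122416 Q122416 (allL N122416 (tt N122137 F531979) (tt N117065 F531980) (tt N122138 F531974) (tt N121197 F531975) (tt N115133 F531976) (tt N114328 (iv5 D225675)) (tt N121196 F531977) (tt N122136 F531978))
theorem Q122418 : ∀ i, i < 122418 → P i := stepQ 122417 Q122417 (allL N122417 (tt N117433 (iv1 F531984)) (tt N114365 (iv0 D225676)) (tt N122463 (iv2 F532270)) (tt N120268 F531983) (tt N115418 F531982) (tt N120963 F531981) (tt N122159 (iv6 F531986)) (tt N120987 F531985))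
theorem Q122419 : ∀ i, i < 122419 → P i := stepQ 122418 Q122418 (allL N122418 (tt N122707 F533738) (tt N120840 (iv0 F531992)) (tt N122359 F531987) (tt N114376 F531988) (tt N114380 F531989) (tt N120040 F531990) (tt N114374 (iv6 D225677)) (tt N120848 F531991))
theorem Q122420 : ∀ i, i < 122420 → P i := stepQ 122419 Q122419 (allL N122419 (tt N122452 F532200) (tt N114391 (iv0 F531998)) (tt N119202 F531993) (tt N114381 (iv3 D225678)) (tt N121024 F531994) (tt N117134 F531995) (tt N119201 F531996) (tt N122162 F531997))
theorem Q122421 : ∀ i, i < 122421 → P i := stepQ 122420 Q122420 (allL N122420 (tt N116247 F532003) (tt N116237 (iv0 F532004)) (tt N116244 F531999) (tt N121005 F532000) (tt N114391 F532001) (tt N122493 (iv5 F532464)) (tt N114389 (iv6 D225679)) (tt N116245 F532002))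
theorem Q122422 : ∀ i, i < 122422 → P i := stepQ 122421 Q122421 (allL N122421 (tt N115045 F532009) (tt N116794 F532010) (tt N122432 (iv2 F532069)) (tt N120237 F532005) (tt N122023 F532006) (tt N114403 (iv5 D225680)) (tt N121780 F532007) (tt N122414 F532008))
theorem Q122423 : ∀ i, i < 122423 → P i := stepQ 122422 Q122422 (allL N122422 (tt N122436 (iv1 F532094)) (tt N115132 F532014) (tt N122437 (iv2 F532099)) (tt N114489 F532011) (tt N118536 F532013) (tt N114488 (iv5 D225681)) (tt N118535 F532012) (tt N122424 (iv7 F532023)))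
theorem Q122424 : ∀ i, i < 122424 → P i := stepQ 122423 Q122423 (allL N122423 (tt N121672 F532020) (tt N121641 F532021) (tt N121671 F532015) (tt N122032 F532016) (tt N117124 F532017) (tt N114525 (iv5 D225682)) (tt N115104 F532018) (tt N120541 F532019))
theorem Q122425 : ∀ i, i < 122425 → P i := stepQ 122424 Q122424 (allL N122424 (tt N121832 F532024) (tt N114694 F532025) (tt N122438 (iv2 F532100)) (tt N114537 (iv3 D225683)) (tt N122653 (iv4 F533412)) (tt N114995 F532022) (tt N122652 (iv6 F533409)) (tt N122422 F532023))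
theorem Q122426 : ∀ i, i < 122426 → P i := stepQ 122425 Q122425 (allL N122425 (tt N115039 F532030) (tt N119195 F532031) (tt N122075 F532026) (tt N122663 (iv3 F533464)) (tt N122074 F532027) (tt N114570 (iv5 D225684)) (tt N118727 F532028) (tt N122064 F532029))
theorem Q122427 : ∀ i, i < 122427 → P i := stepQ 122426 Q122426 (allL N122426 (tt N120575 F532035) (tt N120499 F532036) (tt N122326 F532032) (tt N122568 (iv3 F532890)) (tt N118609 F532033) (tt N114576 (iv5 D225685)) (tt N122567 (iv6 F532888)) (tt N119570 F532034))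
theorem Q122428 : ∀ i, i < 122428 → P i := stepQ 122427 Q122427 (allL N122427 (tt N120748 F532039) (tt N120748 (iv0 F532040)) (tt N122455 (iv2 F532215)) (tt N116900 F532037) (tt N120772 F532038) (tt N122737 (iv5 F533934)) (tt N114583 (iv6 D225686)) (tt N122455 (iv7 F532218)))
theorem Q122429 : ∀ i, i < 122429 → P i := stepQ 122428 Q122428 (allL N122428 (tt N114620 (iv1 F532046)) (tt N114614 (iv0 D225687)) (tt N114618 (iv2 F532044)) (tt N117088 F532042) (tt N122207 F532041) (tt N122752 (iv5 F534016)) (tt N117087 F532043) (tt N114619 F532045))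
theorem Q122430 : ∀ i, i < 122430 → P i := stepQ 122429 Q122429 (allL N122429 (tt N114619 (iv1 F532051)) (tt N114618 F532052) (tt N114620 F532047) (tt N116635 F532048) (tt N119697 F532049) (tt N122651 (iv5 F533398)) (tt N116621 F532050) (tt N114614 (iv7 D225688)))
theorem Q122431 : ∀ i, i < 122431 → P i := stepQ 122430 Q122430 (allL N122430 (tt N121636 F532057) (tt N122515 (iv0 F532592)) (tt N122752 (iv2 F534013)) (tt N119975 F532053) (tt N121719 F532056) (tt N114618 (iv5 D225689)) (tt N121323 F532054) (tt N116560 F532055))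
theorem Q122432 : ∀ i, i < 122432 → P i := stepQ 122431 Q122431 (allL N122431 (tt N122515 F532593) (tt N121636 F532062) (tt N116560 F532058) (tt N121521 F532059) (tt N121574 F532060) (tt N114619 (iv5 D225690)) (tt N116552 F532061) (tt N122752 (iv7 F534017)))
theorem Q122433 : ∀ i, i < 122433 → P i := stepQ 122432 Q122432 (allL N122432 (tt N114628 (iv1 D225691)) (tt N114630 F532063) (tt N122421 F532069) (tt N116788 (iv3 F532067)) (tt N116943 F532066) (tt N114941 F532065) (tt N119680 (iv6 F532068)) (tt N120185 F532064))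
theorem Q122434 : ∀ i, i < 122434 → P i := stepQ 122433 Q122433 (allL N122433 (tt N115134 F532073) (tt N115139 F532074) (tt N122435 (iv2 F532088)) (tt N114679 F532070) (tt N114736 F532071) (tt N114678 (iv5 D225692)) (tt N116704 F532072) (tt N122434 F532081))
theorem Q122435 : ∀ i, i < 122435 → P i := stepQ 122434 Q122434 (allL N122434 (tt N114696 (iv1 F532079)) (tt N114691 (iv0 D225693)) (tt N122370 (iv2 F532080)) (tt N116739 F532077) (tt N114783 F532076) (tt N116741 F532075) (tt N115100 F532078) (tt N122433 (iv7 F532081)))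
theorem Q122436 : ∀ i, i < 122436 → P i := stepQ 122435 Q122435 (allL N122435 (tt N114691 (iv1 D225694)) (tt N114696 F532082) (tt N122433 F532088) (tt N118006 (iv3 F532086)) (tt N117064 F532085) (tt N119608 F532084) (tt N116139 (iv6 F532087)) (tt N122370 F532083))
theorem Q122437 : ∀ i, i < 122437 → P i := stepQ 122436 Q122436 (allL N122436 (tt N122438 F532104) (tt N122422 F532094) (tt N114694 F532089) (tt N121208 F532090) (tt N120142 F532093) (tt N114693 (iv5 D225695)) (tt N120144 F532091) (tt N121832 F532092))
theorem Q122438 : ∀ i, i < 122438 → P i := stepQ 122437 Q122437 (allL N122437 (tt N114694 (iv1 D225696)) (tt N121832 F532095) (tt N122422 F532099) (tt N115134 (iv3 F532097)) (tt N122619 (iv4 F533210)) (tt N119157 F532096) (tt N116332 (iv6 F532098)) (tt N122438 (iv7 F532102)))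
theorem Q122439 : ∀ i, i < 122439 → P i := stepQ 122438 Q122438 (allL N122438 (tt N115132 F532103) (tt N122436 (iv0 F532104)) (tt N122424 F532100) (tt N114696 (iv3 D225697)) (tt N122703 (iv4 F533707)) (tt N122454 (iv5 F532212)) (tt N122375 F532101) (tt N122437 F532102))
theorem Q122440 : ∀ i, i < 122440 → P i := stepQ 122439 Q122439 (allL N122439 (tt N122335 (iv1 F532111)) (tt N116708 F532109) (tt N114698 (iv2 D225698)) (tt N122269 F532105) (tt N122261 F532110) (tt N121951 F532106) (tt N122349 F532107) (tt N122347 F532108))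
theorem Q122441 : ∀ i, i < 122441 → P i := stepQ 122440 Q122440 (allL N122440 (tt N122255 F532116) (tt N122259 F532117) (tt N122261 F532112) (tt N122742 (iv3 F533958)) (tt N114698 (iv4 D225699)) (tt N121741 F532115) (tt N122350 F532113) (tt N122260 F532114))
theorem Q122442 : ∀ i, i < 122442 → P i := stepQ 122441 Q122441 (allL N122441 (tt N114702 (iv1 D225700)) (tt N121156 F532118) (tt N121155 F532124) (tt N116927 (iv3 F532122)) (tt N121841 F532121) (tt N114740 F532120) (tt N120010 (iv6 F532123)) (tt N121154 F532119))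
theorem Q122443 : ∀ i, i < 122443 → P i := stepQ 122442 Q122442 (allL N122442 (tt N121954 F532130) (tt N121927 F532131) (tt N119178 F532125) (tt N114730 F532126) (tt N120157 F532129) (tt N114729 (iv5 D225701)) (tt N121264 F532127) (tt N120324 F532128))
theorem Q122444 : ∀ i, i < 122444 → P i := stepQ 122443 Q122443 (allL N122443 (tt N120064 (iv1 F532137)) (tt N120063 F532138) (tt N116757 F532132) (tt N122415 F532133) (tt N114733 F532134) (tt N120059 F532135) (tt N121494 F532136) (tt N114732 (iv7 D225702)))
theorem Q122445 : ∀ i, i < 122445 → P i := stepQ 122444 Q122444 (allL N122444 (tt N116755 F532144) (tt N116752 F532145) (tt N116753 F532139) (tt N114783 F532140) (tt N122218 F532141) (tt N114782 (iv5 D225703)) (tt N117519 F532142) (tt N116754 F532143))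
theorem Q122446 : ∀ i, i < 122446 → P i := stepQ 122445 Q122445 (allL N122445 (tt N122472 (iv1 F532325)) (tt N119246 (iv0 F532151)) (tt N115563 F532146) (tt N114803 (iv3 D225704)) (tt N115971 F532147) (tt N121609 F532148) (tt N115573 F532149) (tt N115983 F532150))
theorem Q122447 : ∀ i, i < 122447 → P i := stepQ 122446 Q122446 (allL N122446 (tt N115237 F532157) (tt N115240 F532158) (tt N115385 F532152) (tt N116087 F532153) (tt N119352 F532156) (tt N114847 (iv5 D225705)) (tt N115184 F532154) (tt N115384 F532155))
theorem Q122448 : ∀ i, i < 122448 → P i := stepQ 122447 Q122447 (allL N122447 (tt N115240 F532164) (tt N115237 F532165) (tt N115384 F532159) (tt N115233 F532160) (tt N120041 F532161) (tt N114848 (iv5 D225706)) (tt N115264 F532162) (tt N115385 F532163))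
theorem Q122449 : ∀ i, i < 122449 → P i := stepQ 122448 Q122448 (allL N122448 (tt N120350 F532171) (tt N119364 F532172) (tt N121178 F532166) (tt N119335 F532167) (tt N121639 F532168) (tt N114850 (iv5 D225707)) (tt N117117 F532169) (tt N122027 F532170))
theorem Q122450 : ∀ i, i < 122450 → P i := stepQ 122449 Q122449 (allL N122449 (tt N119548 F532178) (tt N119547 F532179) (tt N119550 F532173) (tt N118009 F532174) (tt N114883 (iv4 D225708)) (tt N119552 F532175) (tt N118008 F532176) (tt N119543 F532177))
theorem Q122451 : ∀ i, i < 122451 → P i := stepQ 122450 Q122450 (allL N122450 (tt N114889 (iv1 D225709)) (tt N114890 F532180) (tt N117210 F532186) (tt N114894 (iv3 F532184)) (tt N120238 F532183) (tt N116307 F532182) (tt N116837 (iv6 F532185)) (tt N117211 F532181))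
theorem Q122452 : ∀ i, i < 122452 → P i := stepQ 122451 Q122451 (allL N122451 (tt N114958 (iv1 D225710)) (tt N122318 F532187) (tt N117393 F532193) (tt N116863 (iv3 F532191)) (tt N116894 F532190) (tt N117059 F532189) (tt N116115 (iv6 F532192)) (tt N117229 F532188))
theorem Q122453 : ∀ i, i < 122453 → P i := stepQ 122452 Q122452 (allL N122452 (tt N118805 F532199) (tt N122419 (iv0 F532200)) (tt N120374 F532194) (tt N114962 F532195) (tt N121773 F532196) (tt N120464 F532197) (tt N114960 (iv6 D225711)) (tt N121788 F532198))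
theorem Q122454 : ∀ i, i < 122454 → P i := stepQ 122453 Q122453 (allL N122453 (tt N121955 F532206) (tt N115010 (iv0 F532207)) (tt N118193 F532201) (tt N121953 F532202) (tt N116340 F532203) (tt N118192 F532204) (tt N114988 (iv6 D225712)) (tt N116337 F532205))
theorem Q122455 : ∀ i, i < 122455 → P i := stepQ 122454 Q122454 (allL N122454 (tt N115078 F532213) (tt N121948 F532214) (tt N114995 F532208) (tt N120457 F532209) (tt N114994 (iv4 D225713)) (tt N122438 F532212) (tt N121187 F532210) (tt N119157 F532211))
theorem Q122456 : ∀ i, i < 122456 → P i := stepQ 122455 Q122455 (allL N122455 (tt N116341 F532219) (tt N116341 (iv0 F532220)) (tt N122427 F532215) (tt N121446 F532216) (tt N115019 F532217) (tt N122681 (iv5 F533573)) (tt N115002 (iv6 D225714)) (tt N122427 F532218))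
theorem Q122457 : ∀ i, i < 122457 → P i := stepQ 122456 Q122456 (allL N122456 (tt N118878 F532226) (tt N118834 (iv0 F532227)) (tt N118274 F532221) (tt N115005 F532222) (tt N118763 F532223) (tt N115853 F532224) (tt N115004 (iv6 D225715)) (tt N118868 F532225))
theorem Q122458 : ∀ i, i < 122458 → P i := stepQ 122457 Q122457 (allL N122457 (tt N116690 F532233) (tt N116691 F532234) (tt N116590 F532228) (tt N117033 F532229) (tt N117585 F532230) (tt N115102 (iv5 D225716)) (tt N118257 F532231) (tt N120349 F532232))
theorem Q122459 : ∀ i, i < 122459 → P i := stepQ 122458 Q122458 (allL N122458 (tt N117174 F532239) (tt N121229 (iv0 F532240)) (tt N121231 F532235) (tt N115127 F532236) (tt N122611 (iv4 F533163)) (tt N116974 F532237) (tt N115125 (iv6 D225717)) (tt N116973 F532238))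
theorem Q122460 : ∀ i, i < 122460 → P i := stepQ 122459 Q122459 (allL N122459 (tt N118572 (iv1 F532244)) (tt N122700 F533695) (tt N122701 (iv2 F533696)) (tt N122619 (iv3 F533209)) (tt N115132 (iv4 D225718)) (tt N121908 F532241) (tt N116328 F532242) (tt N121907 F532243))
theorem Q122461 : ∀ i, i < 122461 → P i := stepQ 122460 Q122460 (allL N122460 (tt N115384 F532250) (tt N115385 F532251) (tt N115237 F532245) (tt N115148 (iv3 D225719)) (tt N121744 F532246) (tt N115246 F532247) (tt N115235 F532248) (tt N115240 F532249))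
theorem Q122462 : ∀ i, i < 122462 → P i := stepQ 122461 Q122461 (allL N122461 (tt N122161 F532256) (tt N115491 F532258) (tt N115300 F532252) (tt N115173 (iv3 D225720)) (tt N115223 F532253) (tt N115298 F532254) (tt N119395 (iv6 F532257)) (tt N115302 F532255))
theorem Q122463 : ∀ i, i < 122463 → P i := stepQ 122462 Q122462 (allL N122462 (tt N122466 F532289) (tt N122466 (iv0 F532288)) (tt N115322 F532259) (tt N119395 F532260) (tt N120594 F532261) (tt N119394 F532262) (tt N115173 (iv6 D225721)) (tt N115322 F532263))
theorem Q122464 : ∀ i, i < 122464 → P i := stepQ 122463 Q122463 (allL N122463 (tt N115198 (iv1 D225722)) (tt N120967 F532264) (tt N122417 F532270) (tt N120964 (iv3 F532268)) (tt N115770 F532267) (tt N120975 F532266) (tt N115248 (iv6 F532269)) (tt N119365 F532265))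
theorem Q122465 : ∀ i, i < 122465 → P i := stepQ 122464 Q122464 (allL N122464 (tt N115301 (iv1 F532276)) (tt N115230 (iv0 D225723)) (tt N122160 (iv2 F532275)) (tt N115491 F532273) (tt N121074 F532272) (tt N115328 F532271) (tt N115490 F532274) (tt N122465 (iv7 F532281)))
theorem Q122466 : ∀ i, i < 122466 → P i := stepQ 122465 Q122465 (allL N122465 (tt N115306 F532282) (tt N115303 (iv0 F532283)) (tt N117421 F532277) (tt N115266 F532278) (tt N119357 F532279) (tt N115706 F532280) (tt N115265 (iv6 D225724)) (tt N122464 F532281))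
theorem Q122467 : ∀ i, i < 122467 → P i := stepQ 122466 Q122466 (allL N122466 (tt N122462 F532288) (tt N122462 (iv0 F532289)) (tt N117426 F532284) (tt N117419 F532285) (tt N118065 F532286) (tt N122597 (iv5 F533075)) (tt N115273 (iv6 D225725)) (tt N117426 F532287))
theorem Q122468 : ∀ i, i < 122468 → P i := stepQ 122467 Q122467 (allL N122467 (tt N120670 F532294) (tt N122487 (iv0 F532425)) (tt N122149 F532290) (tt N122737 (iv3 F533931)) (tt N115381 (iv4 D225726)) (tt N116900 F532293) (tt N116901 F532291) (tt N122186 F532292))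
theorem Q122469 : ∀ i, i < 122469 → P i := stepQ 122468 Q122468 (allL N122468 (tt N118387 F532300) (tt N122405 F532301) (tt N120708 F532295) (tt N120744 F532296) (tt N116060 F532297) (tt N115404 (iv5 D225727)) (tt N116059 F532298) (tt N120707 F532299))
theorem Q122470 : ∀ i, i < 122470 → P i := stepQ 122469 Q122469 (allL N122469 (tt N122073 F532307) (tt N118891 (iv0 F532308)) (tt N120944 F532302) (tt N115842 F532303) (tt N122238 F532304) (tt N115840 F532305) (tt N115441 (iv6 D225728)) (tt N121717 F532306))
theorem Q122471 : ∀ i, i < 122471 → P i := stepQ 122470 Q122470 (allL N122470 (tt N122714 (iv1 F533784)) (tt N120704 (iv0 F532313)) (tt N122358 F532309) (tt N115442 (iv3 D225729)) (tt N120039 F532310) (tt N122356 F532311) (tt N117679 F532312) (tt N122484 (iv7 F532406)))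
theorem Q122472 : ∀ i, i < 122472 → P i := stepQ 122471 Q122471 (allL N122471 (tt N121668 (iv1 F532319)) (tt N121660 F532318) (tt N115447 (iv2 D225730)) (tt N121055 F532314) (tt N122032 F532315) (tt N120617 F532316) (tt N117938 F532317) (tt N122522 (iv7 F532627)))
theorem Q122473 : ∀ i, i < 122473 → P i := stepQ 122472 Q122472 (allL N122472 (tt N122111 F532324) (tt N122445 F532325) (tt N118914 F532320) (tt N119516 F532326) (tt N115516 (iv4 D225731)) (tt N119515 F532321) (tt N121949 F532322) (tt N118916 F532323))
theorem Q122474 : ∀ i, i < 122474 → P i := stepQ 122473 Q122473 (allL N122473 (tt N121671 F532331) (tt N120541 F532333) (tt N121641 F532327) (tt N115521 (iv3 D225732)) (tt N115523 F532328) (tt N116916 F532329) (tt N122129 (iv6 F532332)) (tt N121672 F532330))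
theorem Q122475 : ∀ i, i < 122475 → P i := stepQ 122474 Q122474 (allL N122474 (tt N118859 F532339) (tt N121663 (iv0 F532340)) (tt N121661 F532334) (tt N122129 F532335) (tt N115522 F532336) (tt N116963 F532337) (tt N115521 (iv6 D225733)) (tt N120512 F532338))
theorem Q122476 : ∀ i, i < 122476 → P i := stepQ 122475 Q122475 (allL N122475 (tt N120764 (iv1 F532346)) (tt N115525 (iv0 D225734)) (tt N120763 (iv2 F532345)) (tt N117124 F532343) (tt N121055 F532342) (tt N117119 F532341) (tt N117122 F532344) (tt N117652 F532347))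
theorem Q122477 : ∀ i, i < 122477 → P i := stepQ 122476 Q122476 (allL N122476 (tt N120763 (iv1 F532354)) (tt N117652 F532353) (tt N115525 (iv2 D225735)) (tt N115683 F532348) (tt N120672 F532349) (tt N116471 F532350) (tt N115682 F532351) (tt N120764 F532352))
theorem Q122478 : ∀ i, i < 122478 → P i := stepQ 122477 Q122477 (allL N122477 (tt N115547 (iv1 F532360)) (tt N115540 (iv0 D225736)) (tt N115545 (iv2 F532359)) (tt N120030 F532357) (tt N118823 F532356) (tt N120028 F532355) (tt N120516 F532358) (tt N115546 F532361))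
theorem Q122479 : ∀ i, i < 122479 → P i := stepQ 122478 Q122478 (allL N122478 (tt N122331 F532367) (tt N120408 (iv0 F532368)) (tt N120777 F532362) (tt N122175 F532363) (tt N115567 F532364) (tt N117620 F532365) (tt N115566 (iv6 D225737)) (tt N120776 F532366))
theorem Q122480 : ∀ i, i < 122480 → P i := stepQ 122479 Q122479 (allL N122479 (tt N115567 (iv1 D225738)) (tt N115593 F532369) (tt N117476 F532375) (tt N120942 (iv3 F532373)) (tt N121646 F532372) (tt N120591 F532371) (tt N115580 (iv6 F532374)) (tt N122402 F532370))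
theorem Q122481 : ∀ i, i < 122481 → P i := stepQ 122480 Q122480 (allL N122480 (tt N115573 (iv1 D225739)) (tt N118384 F532376) (tt N120742 F532382) (tt N115961 (iv3 F532380)) (tt N118938 F532379) (tt N119079 F532378) (tt N115597 (iv6 F532381)) (tt N118937 F532377))
theorem Q122482 : ∀ i, i < 122482 → P i := stepQ 122481 Q122481 (allL N122481 (tt N117150 (iv1 F532389)) (tt N117148 F532388) (tt N115585 (iv2 D225740)) (tt N116023 F532383) (tt N115588 F532384) (tt N116457 F532385) (tt N116022 F532386) (tt N117117 F532387))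
theorem Q122483 : ∀ i, i < 122483 → P i := stepQ 122482 Q122482 (allL N122482 (tt N120408 F532395) (tt N122331 (iv0 F532396)) (tt N120776 F532390) (tt N118133 F532391) (tt N115593 F532392) (tt N117621 F532393) (tt N115591 (iv6 D225741)) (tt N120777 F532394))
theorem Q122484 : ∀ i, i < 122484 → P i := stepQ 122483 Q122483 (allL N122483 (tt N115624 (iv1 D225742)) (tt N118903 F532397) (tt N121064 F532403) (tt N120043 (iv3 F532401)) (tt N120904 F532400) (tt N115724 F532399) (tt N120676 (iv6 F532402)) (tt N120037 F532398))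
theorem Q122485 : ∀ i, i < 122485 → P i := stepQ 122484 Q122484 (allL N122484 (tt N122503 F532521) (tt N120669 (iv0 F532407)) (tt N122697 (iv2 F533670)) (tt N115639 (iv3 D225743)) (tt N122496 (iv4 F532482)) (tt N121025 F532404) (tt N121027 F532405) (tt N122470 F532406))
theorem Q122486 : ∀ i, i < 122486 → P i := stepQ 122485 Q122485 (allL N122485 (tt N122341 F532413) (tt N122406 (iv0 F532414)) (tt N122410 F532408) (tt N121753 F532409) (tt N115661 F532410) (tt N122055 F532411) (tt N115660 (iv6 D225744)) (tt N122189 F532412))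
theorem Q122487 : ∀ i, i < 122487 → P i := stepQ 122486 Q122486 (allL N122486 (tt N122367 F532419) (tt N122344 F532420) (tt N122087 F532415) (tt N122393 F532421) (tt N115667 (iv4 D225745)) (tt N122038 F532416) (tt N120241 F532417) (tt N122088 F532418))
theorem Q122488 : ∀ i, i < 122488 → P i := stepQ 122487 Q122487 (allL N122487 (tt N122467 F532425) (tt N122535 (iv0 F532706)) (tt N122510 (iv2 F532558)) (tt N118223 F532422) (tt N115707 (iv4 D225746)) (tt N122606 (iv5 F533132)) (tt N120568 F532423) (tt N120703 F532424))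
theorem Q122489 : ∀ i, i < 122489 → P i := stepQ 122488 Q122488 (allL N122488 (tt N121404 F532431) (tt N120588 F532432) (tt N117363 F532426) (tt N120587 F532427) (tt N115747 (iv4 D225747)) (tt N117355 F532430) (tt N117363 F532428) (tt N117354 F532429))
theorem Q122490 : ∀ i, i < 122490 → P i := stepQ 122489 Q122489 (allL N122489 (tt N116117 F532438) (tt N116524 (iv0 F532439)) (tt N116526 F532433) (tt N115755 (iv3 D225748)) (tt N121116 F532434) (tt N122271 F532435) (tt N116529 F532436) (tt N116517 F532437))
theorem Q122491 : ∀ i, i < 122491 → P i := stepQ 122490 Q122490 (allL N122490 (tt N116245 (iv1 F532446)) (tt N116244 F532445) (tt N116247 F532440) (tt N115805 F532441) (tt N116238 F532442) (tt N115804 (iv5 D225749)) (tt N120920 F532443) (tt N116237 F532444))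
theorem Q122492 : ∀ i, i < 122492 → P i := stepQ 122491 Q122491 (allL N122491 (tt N118835 F532452) (tt N118836 (iv0 F532453)) (tt N118876 F532447) (tt N118400 F532448) (tt N122393 F532449) (tt N118399 F532450) (tt N115808 (iv6 D225750)) (tt N118875 F532451))
theorem Q122493 : ∀ i, i < 122493 → P i := stepQ 122492 Q122492 (allL N122492 (tt N119339 F532459) (tt N119342 (iv0 F532460)) (tt N119344 F532454) (tt N115892 F532455) (tt N120650 F532456) (tt N117436 F532457) (tt N115851 (iv6 D225751)) (tt N119340 F532458))
theorem Q122494 : ∀ i, i < 122494 → P i := stepQ 122493 Q122493 (allL N122493 (tt N122408 F532465) (tt N120834 (iv0 F532466)) (tt N121067 F532461) (tt N120903 F532462) (tt N115853 F532463) (tt N122420 F532464) (tt N115852 (iv6 D225752)) (tt N122523 (iv7 F532633)))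
theorem Q122495 : ∀ i, i < 122495 → P i := stepQ 122494 Q122494 (allL N122494 (tt N119340 F532472) (tt N119344 (iv0 F532473)) (tt N119339 F532467) (tt N115855 F532468) (tt N120903 F532469) (tt N120036 F532470) (tt N115854 (iv6 D225753)) (tt N119342 F532471))
theorem Q122496 : ∀ i, i < 122496 → P i := stepQ 122495 Q122495 (allL N122495 (tt N118400 F532479) (tt N115938 (iv0 F532480)) (tt N117570 F532474) (tt N120032 F532475) (tt N117545 F532476) (tt N115903 F532477) (tt N115885 (iv6 D225754)) (tt N115913 F532478))
theorem Q122497 : ∀ i, i < 122497 → P i := stepQ 122496 Q122496 (allL N122496 (tt N119321 F532486) (tt N122665 (iv0 F533481)) (tt N120038 F532481) (tt N115890 (iv3 D225755)) (tt N122484 F532482) (tt N120035 F532483) (tt N118879 F532484) (tt N120039 F532485))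
theorem Q122498 : ∀ i, i < 122498 → P i := stepQ 122497 Q122497 (allL N122497 (tt N122663 F533469) (tt N122663 (iv0 F533468)) (tt N115918 F532487) (tt N115920 F532488) (tt N122534 (iv4 F532700)) (tt N120772 F532489) (tt N115916 (iv6 D225756)) (tt N115918 F532490))
theorem Q122499 : ∀ i, i < 122499 → P i := stepQ 122498 Q122498 (allL N122498 (tt N122681 (iv1 F533575)) (tt N122681 (iv0 F533574)) (tt N122534 (iv2 F532696)) (tt N116009 F532491) (tt N115918 F532492) (tt N119140 F532493) (tt N115917 (iv6 D225757)) (tt N122534 (iv7 F532699)))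
theorem Q122500 : ∀ i, i < 122500 → P i := stepQ 122499 Q122499 (allL N122499 (tt N115918 (iv1 F532496)) (tt N115918 (iv0 D225758)) (tt N122663 (iv2 F533463)) (tt N122064 F532494) (tt N122729 (iv4 F533876)) (tt N122634 (iv5 F533298)) (tt N118222 F532495) (tt N122663 (iv7 F533467)))
theorem Q122501 : ∀ i, i < 122501 → P i := stepQ 122500 Q122500 (allL N122500 (tt N118392 F532502) (tt N117046 (iv0 F532503)) (tt N121732 F532497) (tt N115933 (iv3 D225759)) (tt N120702 F532498) (tt N118721 F532499) (tt N118224 F532500) (tt N118260 F532501))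
theorem Q122502 : ∀ i, i < 122502 → P i := stepQ 122501 Q122501 (allL N122501 (tt N122234 F532508) (tt N122682 (iv0 F533581)) (tt N122689 (iv2 F533622)) (tt N115941 F532504) (tt N115944 F532505) (tt N119650 F532506) (tt N115939 (iv6 D225760)) (tt N119649 F532507))
theorem Q122503 : ∀ i, i < 122503 → P i := stepQ 122502 Q122502 (allL N122502 (tt N122106 F532514) (tt N121316 F532515) (tt N122054 F532509) (tt N117589 F532510) (tt N120869 F532511) (tt N115983 (iv5 D225761)) (tt N117409 F532512) (tt N121609 F532513))
theorem Q122504 : ∀ i, i < 122504 → P i := stepQ 122503 Q122503 (allL N122503 (tt N122358 F532520) (tt N122484 (iv0 F532521)) (tt N120704 F532516) (tt N121731 F532517) (tt N116002 F532518) (tt N120693 F532519) (tt N116001 (iv6 D225762)) (tt N122714 (iv7 F533782)))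
theorem Q122505 : ∀ i, i < 122505 → P i := stepQ 122504 Q122504 (allL N122504 (tt N122564 (iv1 F532875)) (tt N122696 (iv0 F533668)) (tt N121664 F532522) (tt N116957 F532523) (tt N121977 F532526) (tt N116018 (iv5 D225763)) (tt N118352 F532524) (tt N117003 F532525))
theorem Q122506 : ∀ i, i < 122506 → P i := stepQ 122505 Q122505 (allL N122505 (tt N120777 F532531) (tt N120776 F532532) (tt N120408 F532527) (tt N121759 (iv3 F532533)) (tt N116036 (iv4 D225764)) (tt N120401 F532528) (tt N117030 F532529) (tt N122331 F532530))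
theorem Q122507 : ∀ i, i < 122507 → P i := stepQ 122506 Q122506 (allL N122506 (tt N121909 (iv1 F532539)) (tt N116037 (iv0 D225765)) (tt N119220 (iv2 F532538)) (tt N122148 F532536) (tt N122330 F532535) (tt N119214 F532534) (tt N121820 F532537) (tt N119221 F532540))
theorem Q122508 : ∀ i, i < 122508 → P i := stepQ 122507 Q122507 (allL N122507 (tt N122598 F533082) (tt N122598 (iv0 F533081)) (tt N120990 F532541) (tt N116049 F532542) (tt N121417 F532545) (tt N116048 (iv5 D225766)) (tt N120589 F532543) (tt N120990 F532544))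
theorem Q122509 : ∀ i, i < 122509 → P i := stepQ 122508 Q122508 (allL N122508 (tt N121754 F532549) (tt N121754 F532550) (tt N122531 (iv2 F532679)) (tt N116059 (iv3 D225767)) (tt N121759 F532546) (tt N120748 F532547) (tt N120744 F532548) (tt N122531 (iv7 F532682)))
theorem Q122510 : ∀ i, i < 122510 → P i := stepQ 122509 Q122509 (allL N122509 (tt N116063 (iv1 D225768)) (tt N116065 F532551) (tt N120991 F532557) (tt N119461 (iv3 F532555)) (tt N119462 F532554) (tt N119008 F532553) (tt N118908 (iv6 F532556)) (tt N119007 F532552))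
theorem Q122511 : ∀ i, i < 122511 → P i := stepQ 122510 Q122510 (allL N122510 (tt N122149 F532563) (tt N122186 F532564) (tt N122487 F532558) (tt N120755 F532559) (tt N116069 (iv4 D225769)) (tt N120856 F532560) (tt N120762 F532561) (tt N120670 F532562))
theorem Q122512 : ∀ i, i < 122512 → P i := stepQ 122511 Q122511 (allL N122511 (tt N122267 F532569) (tt N122527 (iv0 F532658)) (tt N120091 F532565) (tt N121831 F532566) (tt N120068 F532567) (tt N117443 F532568) (tt N116121 (iv6 D225770)) (tt N120090 (iv7 F532570)))
theorem Q122513 : ∀ i, i < 122513 → P i := stepQ 122512 Q122512 (allL N122512 (tt N116560 F532575) (tt N122752 (iv0 F534018)) (tt N121636 F532571) (tt N116135 (iv3 D225771)) (tt N118565 F532572) (tt N119167 F532573) (tt N121575 F532574) (tt N122515 (iv7 F532591)))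
theorem Q122514 : ∀ i, i < 122514 → P i := stepQ 122513 Q122513 (allL N122513 (tt N118748 (iv1 F532581)) (tt N121012 F532580) (tt N116152 (iv2 D225772)) (tt N122239 F532576) (tt N121137 F532577) (tt N122721 (iv5 F533828)) (tt N121009 F532578) (tt N121000 F532579))
theorem Q122515 : ∀ i, i < 122515 → P i := stepQ 122514 Q122514 (allL N122514 (tt N121212 F532586) (tt N122131 F532587) (tt N122721 (iv2 F533832)) (tt N116153 F532582) (tt N122392 F532583) (tt N116152 (iv5 D225773)) (tt N121036 F532584) (tt N122391 F532585))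
theorem Q122516 : ∀ i, i < 122516 → P i := stepQ 122515 Q122515 (allL N122515 (tt N122430 F532592) (tt N122431 (iv0 F532593)) (tt N122547 F532775) (tt N116173 (iv3 D225774)) (tt N121393 F532588) (tt N119098 F532589) (tt N116175 F532590) (tt N122512 F532591))
theorem Q122517 : ∀ i, i < 122517 → P i := stepQ 122516 Q122516 (allL N122516 (tt N122253 F532597) (tt N122733 F533908) (tt N120333 F532594) (tt N122143 F532595) (tt N122643 (iv4 F533349)) (tt N116179 (iv5 D225775)) (tt N120332 F532596) (tt N122658 (iv7 F533440)))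
theorem Q122518 : ∀ i, i < 122518 → P i := stepQ 122517 Q122517 (allL N122517 (tt N122134 (iv1 F532600)) (tt N116182 (iv0 D225776)) (tt N120315 F532602) (tt N119970 F532599) (tt N122656 (iv4 F533429)) (tt N119969 F532598) (tt N120313 (iv6 F532601)) (tt N121085 F532603))
theorem Q122519 : ∀ i, i < 122519 → P i := stepQ 122518 Q122518 (allL N122518 (tt N116182 (iv1 D225777)) (tt N122134 F532609) (tt N121085 F532608) (tt N120316 (iv3 F532606)) (tt N118277 (iv4 F532607)) (tt N120488 F532605) (tt N121517 (iv6 F532610)) (tt N120315 F532604))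
theorem Q122520 : ∀ i, i < 122520 → P i := stepQ 122519 Q122519 (allL N122519 (tt N120315 (iv1 F532614)) (tt N121085 F532613) (tt N116182 (iv2 D225778)) (tt N122589 (iv3 F533021)) (tt N122641 (iv4 F533336)) (tt N122135 F532611) (tt N122750 (iv6 F534003)) (tt N122134 F532612))
theorem Q122521 : ∀ i, i < 122521 → P i := stepQ 122520 Q122520 (allL N122520 (tt N122520 F532616) (tt N122520 (iv0 F532616)) (tt N122750 (iv2 F534001)) (tt N116184 F532615) (tt N122756 (iv4 F534041)) (tt N122748 (iv5 F533997)) (tt N116182 (iv6 D225779)) (tt N122750 (iv7 F534004)))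
theorem Q122522 : ∀ i, i < 122522 → P i := stepQ 122521 Q122521 (allL N122521 (tt N117363 F532621) (tt N117354 F532622) (tt N120588 F532617) (tt N122540 (iv3 F532734)) (tt N116215 (iv4 D225780)) (tt N117356 F532620) (tt N117427 F532618) (tt N121404 F532619))
theorem Q122523 : ∀ i, i < 122523 → P i := stepQ 122522 Q122522 (allL N122522 (tt N122115 F532628) (tt N118186 F532629) (tt N122384 F532623) (tt N116246 F532624) (tt N118392 F532625) (tt N116242 (iv5 D225781)) (tt N118185 F532626) (tt N122471 F532627))
theorem Q122524 : ∀ i, i < 122524 → P i := stepQ 122523 Q122523 (allL N122523 (tt N121029 F532634) (tt N122390 F532635) (tt N121211 F532630) (tt N122685 (iv3 F533597)) (tt N121715 F532631) (tt N116245 (iv5 D225782)) (tt N121016 F532632) (tt N122493 F532633))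
theorem Q122525 : ∀ i, i < 122525 → P i := stepQ 122524 Q122524 (allL N122524 (tt N118507 F532641) (tt N118516 F532642) (tt N118514 F532636) (tt N118524 F532637) (tt N116261 (iv4 D225783)) (tt N117829 F532638) (tt N118587 F532639) (tt N117828 F532640))
theorem Q122526 : ∀ i, i < 122526 → P i := stepQ 122525 Q122525 (allL N122525 (tt N118533 F532647) (tt N122314 (iv0 F532648)) (tt N121560 F532643) (tt N116263 (iv3 D225784)) (tt N116271 F532644) (tt N118768 F532645) (tt N118513 F532646) (tt N122751 (iv7 F534010)))
theorem Q122527 : ∀ i, i < 122527 → P i := stepQ 122526 Q122526 (allL N122526 (tt N122711 (iv1 F533764)) (tt N122538 (iv0 F532727)) (tt N121563 F532649) (tt N122751 (iv3 F534007)) (tt N116264 F532650) (tt N117898 F532651) (tt N119719 F532652) (tt N116263 (iv7 D225785)))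
theorem Q122528 : ∀ i, i < 122528 → P i := stepQ 122527 Q122527 (allL N122527 (tt N122511 F532658) (tt N122604 (iv0 F533122)) (tt N121498 F532653) (tt N116266 (iv3 D225786)) (tt N120077 F532654) (tt N121538 F532655) (tt N121495 F532656) (tt N120076 F532657))
theorem Q122529 : ∀ i, i < 122529 → P i := stepQ 122528 Q122528 (allL N122528 (tt N119306 (iv1 F532665)) (tt N122381 F532664) (tt N116271 (iv2 D225787)) (tt N120362 F532659) (tt N121560 F532660) (tt N121844 F532661) (tt N121582 F532662) (tt N116557 F532663))
theorem Q122530 : ∀ i, i < 122530 → P i := stepQ 122529 Q122529 (allL N122529 (tt N120322 F532670) (tt N120249 F532671) (tt N116328 F532666) (tt N121146 F532667) (tt N116324 (iv4 D225788)) (tt N119173 F532668) (tt N122701 (iv6 F533699)) (tt N120325 F532669))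
theorem Q122531 : ∀ i, i < 122531 → P i := stepQ 122530 Q122530 (allL N122530 (tt N120376 F532677) (tt N121181 F532678) (tt N116558 F532672) (tt N122301 F532673) (tt N116327 (iv4 D225789)) (tt N119179 F532674) (tt N118512 F532675) (tt N116556 F532676))
theorem Q122532 : ∀ i, i < 122532 → P i := stepQ 122531 Q122531 (allL N122531 (tt N120981 (iv1 F532684)) (tt N120981 (iv0 F532683)) (tt N122508 F532679) (tt N116342 F532680) (tt N122633 (iv4 F533289)) (tt N116341 (iv5 D225790)) (tt N119459 F532681) (tt N122508 F532682))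
theorem Q122533 : ∀ i, i < 122533 → P i := stepQ 122532 Q122532 (allL N122532 (tt N120935 F532690) (tt N120678 F532691) (tt N120933 F532685) (tt N116348 F532686) (tt N122118 F532689) (tt N116347 (iv5 D225791)) (tt N116348 F532687) (tt N120934 F532688))
theorem Q122534 : ∀ i, i < 122534 → P i := stepQ 122533 Q122533 (allL N122533 (tt N116368 (iv1 F532695)) (tt N116368 (iv0 D225792)) (tt N122632 (iv2 F533284)) (tt N121087 F532693) (tt N122669 (iv4 F533505)) (tt N120981 F532692) (tt N120978 F532694) (tt N122632 (iv7 F533286)))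
theorem Q122535 : ∀ i, i < 122535 → P i := stepQ 122534 Q122534 (allL N122534 (tt N122737 (iv1 F533936)) (tt N122737 (iv0 F533935)) (tt N122498 F532696) (tt N116369 F532697) (tt N122497 F532700) (tt N116368 (iv5 D225793)) (tt N120663 F532698) (tt N122498 F532699))
theorem Q122536 : ∀ i, i < 122536 → P i := stepQ 122535 Q122535 (allL N122535 (tt N122487 F532706) (tt N120670 (iv0 F532707)) (tt N122186 F532701) (tt N122149 F532702) (tt N122184 F532703) (tt N116929 F532704) (tt N116371 (iv6 D225794)) (tt N122149 F532705))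
theorem Q122537 : ∀ i, i < 122537 → P i := stepQ 122536 Q122536 (allL N122536 (tt N119092 F532713) (tt N120391 (iv0 F532714)) (tt N118769 F532708) (tt N116435 F532709) (tt N121173 F532710) (tt N117745 F532711) (tt N116432 (iv6 D225795)) (tt N118772 F532712))
theorem Q122538 : ∀ i, i < 122538 → P i := stepQ 122537 Q122537 (allL N122537 (tt N121460 F532720) (tt N116531 F532721) (tt N121458 F532715) (tt N122196 F532716) (tt N121162 F532719) (tt N116469 (iv5 D225796)) (tt N122008 F532717) (tt N121459 F532718))
theorem Q122539 : ∀ i, i < 122539 → P i := stepQ 122538 Q122538 (allL N122538 (tt N122526 F532727) (tt N122247 F532728) (tt N120327 F532722) (tt N119313 F532723) (tt N117686 F532726) (tt N116485 (iv5 D225797)) (tt N120322 F532724) (tt N122249 F532725))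
theorem Q122540 : ∀ i, i < 122540 → P i := stepQ 122539 Q122539 (allL N122539 (tt N122743 F533970) (tt N122743 (iv0 F533969)) (tt N117283 F532729) (tt N119895 F532730) (tt N122200 F532731) (tt N122731 (iv5 F533893)) (tt N116497 (iv6 D225798)) (tt N117283 F532732))
theorem Q122541 : ∀ i, i < 122541 → P i := stepQ 122540 Q122540 (allL N122540 (tt N120588 F532737) (tt N121404 F532738) (tt N117354 F532733) (tt N122521 F532734) (tt N117364 F532735) (tt N116509 (iv5 D225799)) (tt N122601 (iv6 F533099)) (tt N117363 F532736))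
theorem Q122542 : ∀ i, i < 122542 → P i := stepQ 122541 Q122541 (allL N122541 (tt N122268 (iv1 F532744)) (tt N117390 F532745) (tt N122271 F532739) (tt N116709 F532740) (tt N121565 F532741) (tt N116526 F532742) (tt N116708 F532743) (tt N116525 (iv7 D225800)))
theorem Q122543 : ∀ i, i < 122543 → P i := stepQ 122542 Q122542 (allL N122542 (tt N116531 (iv1 D225801)) (tt N121460 F532746) (tt N121459 F532752) (tt N122006 (iv3 F532750)) (tt N121777 F532749) (tt N120940 F532748) (tt N119751 (iv6 F532751)) (tt N121458 F532747))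
theorem Q122544 : ∀ i, i < 122544 → P i := stepQ 122543 Q122543 (allL N122543 (tt N122584 F532993) (tt N122587 (iv0 F533013)) (tt N122695 (iv2 F533662)) (tt N116546 F532753) (tt N122637 (iv4 F533314)) (tt N116545 (iv5 D225802)) (tt N122695 F533661) (tt N122576 (iv7 F532939)))
theorem Q122545 : ∀ i, i < 122545 → P i := stepQ 122544 Q122544 (allL N122544 (tt N118513 F532757) (tt N118512 (iv0 F532758)) (tt N122613 (iv2 F533172)) (tt N116554 (iv3 D225803)) (tt N121081 F532754) (tt N119760 F532755) (tt N118523 F532756) (tt N122621 (iv7 F533224)))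
theorem Q122546 : ∀ i, i < 122546 → P i := stepQ 122545 Q122545 (allL N122545 (tt N122314 F532762) (tt N118533 (iv0 F532763)) (tt N122751 (iv2 F534006)) (tt N121465 F532759) (tt N116557 F532760) (tt N118771 F532761) (tt N116556 (iv6 D225804)) (tt N121560 F532764))
theorem Q122547 : ∀ i, i < 122547 → P i := stepQ 122546 Q122546 (allL N122546 (tt N118520 (iv1 F532770)) (tt N118522 (iv0 F532769)) (tt N121574 F532765) (tt N122624 (iv3 F533236)) (tt N116560 F532766) (tt N121573 F532767) (tt N116559 (iv6 D225805)) (tt N121719 F532768))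
theorem Q122548 : ∀ i, i < 122548 → P i := stepQ 122547 Q122547 (allL N122547 (tt N122752 F534019) (tt N116560 (iv0 D225806)) (tt N122515 (iv2 F532775)) (tt N121913 F532773) (tt N118563 F532772) (tt N121637 F532771) (tt N122268 F532774) (tt N121636 F532776))
theorem Q122549 : ∀ i, i < 122549 → P i := stepQ 122548 Q122548 (allL N122548 (tt N118510 F532781) (tt N120139 F532782) (tt N118531 F532777) (tt N122257 F532778) (tt N116562 F532779) (tt N117874 F532780) (tt N116561 (iv6 D225807)) (tt N121718 F532783))
theorem Q122550 : ∀ i, i < 122550 → P i := stepQ 122549 Q122549 (allL N122549 (tt N116562 (iv1 D225808)) (tt N121323 F532784) (tt N122361 F532789) (tt N117058 (iv3 F532787)) (tt N122684 (iv4 F533592)) (tt N121321 F532786) (tt N122347 (iv6 F532788)) (tt N122351 F532785))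
theorem Q122551 : ∀ i, i < 122551 → P i := stepQ 122550 Q122550 (allL N122550 (tt N122199 F532794) (tt N122691 (iv0 F533638)) (tt N122690 (iv2 F533629)) (tt N117256 F532790) (tt N119923 F532793) (tt N116602 (iv5 D225809)) (tt N117254 F532791) (tt N121294 F532792))
theorem Q122552 : ∀ i, i < 122552 → P i := stepQ 122551 Q122551 (allL N122551 (tt N121742 F532799) (tt N118581 (iv0 F532801)) (tt N121740 F532795) (tt N120155 F532796) (tt N121750 F532797) (tt N122260 (iv5 F532800)) (tt N116636 (iv6 D225810)) (tt N121741 F532798))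
theorem Q122553 : ∀ i, i < 122553 → P i := stepQ 122552 Q122552 (allL N122552 (tt N122233 F532806) (tt N122611 (iv0 F533166)) (tt N122684 (iv2 F533590)) (tt N122304 F532802) (tt N122361 F532803) (tt N116637 (iv5 D225811)) (tt N122260 F532804) (tt N122348 F532805))
theorem Q122554 : ∀ i, i < 122554 → P i := stepQ 122553 Q122553 (allL N122553 (tt N118548 F532811) (tt N121750 F532812) (tt N116647 F532807) (tt N118573 F532808) (tt N122716 (iv4 F533794)) (tt N116646 (iv5 D225812)) (tt N120731 F532809) (tt N121743 F532810))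
theorem Q122555 : ∀ i, i < 122555 → P i := stepQ 122554 Q122554 (allL N122554 (tt N122720 (iv1 F533825)) (tt N122757 (iv0 F534051)) (tt N122742 (iv2 F533957)) (tt N121567 F532813) (tt N116708 (iv4 D225813)) (tt N120156 F532816) (tt N121565 F532814) (tt N122346 F532815))
theorem Q122556 : ∀ i, i < 122556 → P i := stepQ 122555 Q122555 (allL N122555 (tt N117396 (iv1 F532822)) (tt N116714 (iv0 D225814)) (tt N117395 (iv2 F532821)) (tt N116898 F532819) (tt N117229 F532818) (tt N116895 F532817) (tt N117748 F532820) (tt N116894 F532823))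
theorem Q122557 : ∀ i, i < 122557 → P i := stepQ 122556 Q122556 (allL N122556 (tt N121099 F532828) (tt N122215 F532829) (tt N122218 F532824) (tt N116721 F532825) (tt N116753 F532826) (tt N116720 (iv5 D225815)) (tt N120090 F532830) (tt N116750 F532827))
theorem Q122558 : ∀ i, i < 122558 → P i := stepQ 122557 Q122557 (allL N122557 (tt N118536 F532835) (tt N122703 F533712) (tt N122704 (iv2 F533713)) (tt N122346 F532831) (tt N116724 (iv4 D225816)) (tt N121817 F532832) (tt N121181 F532833) (tt N121567 F532834))
theorem Q122559 : ∀ i, i < 122559 → P i := stepQ 122558 Q122558 (allL N122558 (tt N116771 (iv1 D225817)) (tt N118823 F532836) (tt N118826 F532842) (tt N118860 (iv3 F532840)) (tt N119336 F532839) (tt N117594 F532838) (tt N118737 (iv6 F532841)) (tt N117593 F532837))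
theorem Q122560 : ∀ i, i < 122560 → P i := stepQ 122559 Q122559 (allL N122559 (tt N118771 F532848) (tt N118768 F532849) (tt N121559 F532843) (tt N119179 F532844) (tt N116801 (iv4 D225818)) (tt N122301 F532845) (tt N121497 F532846) (tt N121493 F532847))
theorem Q122561 : ∀ i, i < 122561 → P i := stepQ 122560 Q122560 (allL N122560 (tt N116829 (iv1 D225819)) (tt N118592 F532850) (tt N118321 F532856) (tt N117069 (iv3 F532854)) (tt N119069 F532853) (tt N119775 F532852) (tt N116842 (iv6 F532855)) (tt N117071 F532851))
theorem Q122562 : ∀ i, i < 122562 → P i := stepQ 122561 Q122561 (allL N122561 (tt N116992 (iv1 F532863)) (tt N121615 F532862) (tt N116836 (iv2 D225820)) (tt N120538 F532857) (tt N116990 F532858) (tt N117610 F532859) (tt N122066 F532860) (tt N120536 F532861))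
theorem Q122563 : ∀ i, i < 122563 → P i := stepQ 122562 Q122562 (allL N122562 (tt N121886 F532868) (tt N121885 F532869) (tt N121368 F532864) (tt N120475 F532865) (tt N120460 F532866) (tt N116849 (iv5 D225821)) (tt N122676 (iv6 F533540)) (tt N120474 F532867))
theorem Q122564 : ∀ i, i < 122564 → P i := stepQ 122563 Q122563 (allL N122563 (tt N122736 F533928) (tt N122736 (iv0 F533929)) (tt N122732 (iv2 F533896)) (tt N121998 F532870) (tt N121357 F532871) (tt N122735 (iv5 F533919)) (tt N116850 (iv6 D225822)) (tt N122732 (iv7 F533900)))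
theorem Q122565 : ∀ i, i < 122565 → P i := stepQ 122564 Q122564 (allL N122564 (tt N122570 F532908) (tt N122504 F532875) (tt N122012 F532872) (tt N119704 F532873) (tt N119980 F532874) (tt N116851 (iv5 D225823)) (tt N122735 (iv6 F533920)) (tt N122574 (iv7 F532931)))
theorem Q122566 : ∀ i, i < 122566 → P i := stepQ 122565 Q122565 (allL N122565 (tt N118610 F532880) (tt N122636 F533311) (tt N119142 F532876) (tt N116901 F532877) (tt N118178 F532878) (tt N116899 (iv5 D225824)) (tt N122737 (iv6 F533932)) (tt N119588 F532879))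
theorem Q122567 : ∀ i, i < 122567 → P i := stepQ 122566 Q122566 (allL N122566 (tt N116905 (iv1 F532884)) (tt N116905 (iv0 D225825)) (tt N119422 (iv2 F532885)) (tt N119587 F532882) (tt N118250 F532881) (tt N122670 (iv5 F533511)) (tt N117693 F532883) (tt N119422 (iv7 F532886)))
theorem Q122568 : ∀ i, i < 122568 → P i := stepQ 122567 Q122567 (allL N122567 (tt N122629 F533270) (tt N122629 (iv0 F533269)) (tt N122729 (iv2 F533875)) (tt N116907 F532887) (tt N122663 (iv4 F533465)) (tt N116905 (iv5 D225826)) (tt N122426 F532888) (tt N122729 (iv7 F533879)))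
theorem Q122569 : ∀ i, i < 122569 → P i := stepQ 122568 Q122568 (allL N122568 (tt N120678 F532894) (tt N120935 F532895) (tt N120934 F532889) (tt N122426 F532890) (tt N122117 F532891) (tt N116906 (iv5 D225827)) (tt N116907 F532892) (tt N120933 F532893))
theorem Q122570 : ∀ i, i < 122570 → P i := stepQ 122569 Q122569 (allL N122569 (tt N119698 F532901) (tt N119705 F532902) (tt N119704 F532896) (tt N119911 F532897) (tt N119977 F532898) (tt N116946 (iv5 D225828)) (tt N121280 F532899) (tt N119703 F532900))
theorem Q122571 : ∀ i, i < 122571 → P i := stepQ 122570 Q122570 (allL N122570 (tt N122696 F533669) (tt N122564 (iv0 F532908)) (tt N117003 F532903) (tt N118352 F532904) (tt N121978 F532905) (tt N117002 F532906) (tt N116957 (iv6 D225829)) (tt N121664 F532907))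
theorem Q122572 : ∀ i, i < 122572 → P i := stepQ 122571 Q122571 (allL N122571 (tt N116963 (iv1 D225830)) (tt N119049 F532909) (tt N119051 F532915) (tt N121676 (iv3 F532913)) (tt N121321 F532912) (tt N121675 F532911) (tt N121328 (iv6 F532914)) (tt N119048 F532910))
theorem Q122573 : ∀ i, i < 122573 → P i := stepQ 122572 Q122572 (allL N122572 (tt N116973 F532920) (tt N121231 F532921) (tt N117174 F532916) (tt N121267 F532917) (tt N122623 (iv4 F533231)) (tt N116964 (iv5 D225831)) (tt N122256 F532918) (tt N121229 F532919))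
theorem Q122574 : ∀ i, i < 122574 → P i := stepQ 122573 Q122573 (allL N122573 (tt N119833 F532925) (tt N121970 F532926) (tt N122013 F532922) (tt N121453 F532923) (tt N121454 F532924) (tt N117001 (iv5 D225832)) (tt N122584 (iv6 F532991)) (tt N122577 (iv7 F532948)))
theorem Q122575 : ∀ i, i < 122575 → P i := stepQ 122574 Q122574 (allL N122574 (tt N121664 (iv1 F532930)) (tt N117003 (iv0 D225833)) (tt N122696 (iv2 F533663)) (tt N121455 F532929) (tt N121456 F532928) (tt N117019 F532927) (tt N122696 (iv6 F533666)) (tt N122564 F532931))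
theorem Q122576 : ∀ i, i < 122576 → P i := stepQ 122575 Q122575 (allL N122575 (tt N118170 (iv1 F532937)) (tt N117483 F532936) (tt N117015 (iv2 D225834)) (tt N117020 F532932) (tt N122025 F532933) (tt N122592 (iv5 F533042)) (tt N118268 F532934) (tt N120534 F532935))
theorem Q122577 : ∀ i, i < 122577 → P i := stepQ 122576 Q122576 (allL N122576 (tt N120473 F532941) (tt N119902 F532942) (tt N122592 (iv2 F533039)) (tt N117016 F532938) (tt N119794 F532940) (tt N117015 (iv5 D225835)) (tt N122743 (iv6 F533967)) (tt N122543 F532939))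
theorem Q122578 : ∀ i, i < 122578 → P i := stepQ 122577 Q122577 (allL N122577 (tt N121979 (iv1 F532947)) (tt N117021 (iv0 D225836)) (tt N120497 (iv2 F532946)) (tt N119702 F532944) (tt N122676 (iv4 F533538)) (tt N119701 F532943) (tt N120460 F532945) (tt N122573 F532948))
theorem Q122579 : ∀ i, i < 122579 → P i := stepQ 122578 Q122578 (allL N122578 (tt N117022 (iv1 D225837)) (tt N119807 F532949) (tt N121241 F532955) (tt N117227 (iv3 F532953)) (tt N120474 F532952) (tt N120433 F532951) (tt N120473 (iv6 F532954)) (tt N120460 F532950))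
theorem Q122580 : ∀ i, i < 122580 → P i := stepQ 122579 Q122579 (allL N122579 (tt N118965 (iv1 F532961)) (tt N117034 (iv0 D225838)) (tt N122394 (iv2 F532960)) (tt N122038 F532958) (tt N121645 F532957) (tt N122393 F532956) (tt N120515 F532959) (tt N121653 F532962))
theorem Q122581 : ∀ i, i < 122581 → P i := stepQ 122580 Q122580 (allL N122580 (tt N120697 F532967) (tt N120568 (iv0 F532968)) (tt N120843 F532963) (tt N117048 (iv3 D225839)) (tt N121711 F532964) (tt N117956 F532965) (tt N117680 (iv6 F532969)) (tt N121716 F532966))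
theorem Q122582 : ∀ i, i < 122582 → P i := stepQ 122581 Q122581 (allL N122581 (tt N120702 (iv1 F532974)) (tt N121731 (iv0 F532973)) (tt N122686 (iv2 F533603)) (tt N117680 F532970) (tt N119481 F532971) (tt N118021 F532972) (tt N117048 (iv6 D225840)) (tt N122608 (iv7 F533148)))
theorem Q122583 : ∀ i, i < 122583 → P i := stepQ 122582 Q122582 (allL N122582 (tt N119982 (iv1 F532980)) (tt N119984 F532981) (tt N119983 F532975) (tt N121475 F532976) (tt N117131 F532977) (tt N120365 F532978) (tt N119921 F532979) (tt N117082 (iv7 D225841)))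
theorem Q122584 : ∀ i, i < 122584 → P i := stepQ 122583 Q122583 (allL N122583 (tt N121052 F532986) (tt N121209 F532987) (tt N121809 F532982) (tt N117938 F532983) (tt N117122 (iv4 D225842)) (tt N122707 (iv5 F533734)) (tt N121055 F532984) (tt N122120 F532985))
theorem Q122585 : ∀ i, i < 122585 → P i := stepQ 122584 Q122584 (allL N122584 (tt N122592 (iv1 F533044)) (tt N122543 (iv0 F532993)) (tt N119902 F532988) (tt N117136 (iv3 D225843)) (tt N119732 F532989) (tt N117327 F532990) (tt N122573 F532991) (tt N120473 F532992))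
theorem Q122586 : ∀ i, i < 122586 → P i := stepQ 122585 Q122585 (allL N122585 (tt N120739 F532999) (tt N119266 F533000) (tt N117184 F532994) (tt N118326 F532995) (tt N117183 (iv4 D225844)) (tt N117606 F532996) (tt N117802 F532997) (tt N117879 F532998))
theorem Q122587 : ∀ i, i < 122587 → P i := stepQ 122586 Q122586 (allL N122586 (tt N119167 F533006) (tt N121637 (iv0 F533007)) (tt N119972 F533001) (tt N117191 F533002) (tt N119862 F533003) (tt N122375 F533004) (tt N117189 (iv6 D225845)) (tt N121520 F533005))
theorem Q122588 : ∀ i, i < 122588 → P i := stepQ 122587 Q122587 (allL N122587 (tt N122543 F533013) (tt N122592 (iv0 F533043)) (tt N120473 F533008) (tt N117223 (iv3 D225846)) (tt N119734 F533009) (tt N118039 F533010) (tt N121241 F533011) (tt N119902 F533012))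
theorem Q122589 : ∀ i, i < 122589 → P i := stepQ 122588 Q122588 (allL N122588 (tt N117252 (iv1 D225847)) (tt N122307 F533014) (tt N119816 F533020) (tt N122311 (iv3 F533018)) (tt N118240 F533017) (tt N121800 F533016) (tt N118239 (iv6 F533019)) (tt N122306 F533015))
theorem Q122590 : ∀ i, i < 122590 → P i := stepQ 122589 Q122589 (allL N122589 (tt N121106 (iv1 F533026)) (tt N122266 F533025) (tt N117260 (iv2 D225848)) (tt N122519 F533021) (tt N117265 F533022) (tt N122145 F533023) (tt N121918 (iv6 F533027)) (tt N120299 F533024))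
theorem Q122591 : ∀ i, i < 122591 → P i := stepQ 122590 Q122590 (allL N122590 (tt N121101 F533033) (tt N122220 (iv0 F533034)) (tt N121918 F533028) (tt N117261 F533029) (tt N117263 F533030) (tt N121902 F533031) (tt N117260 (iv6 D225849)) (tt N117261 F533032))
theorem Q122592 : ∀ i, i < 122592 → P i := stepQ 122591 Q122591 (allL N122591 (tt N117283 (iv1 F533038)) (tt N117283 (iv0 D225850)) (tt N122743 (iv2 F533964)) (tt N119807 F533035) (tt N119808 F533036) (tt N121630 F533037) (tt N122592 (iv6 F533041)) (tt N122743 (iv7 F533968)))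
theorem Q122593 : ∀ i, i < 122593 → P i := stepQ 122592 Q122592 (allL N122592 (tt N122587 F533043) (tt N122584 F533044) (tt N122576 F533039) (tt N119833 F533040) (tt N117292 (iv4 D225851)) (tt N122575 F533042) (tt N122591 F533041) (tt N122695 (iv7 F533657)))
theorem Q122594 : ∀ i, i < 122594 → P i := stepQ 122593 Q122593 (allL N122593 (tt N121297 F533050) (tt N121296 F533051) (tt N117309 F533045) (tt N119547 F533046) (tt N119172 F533047) (tt N117302 (iv5 D225852)) (tt N121190 F533048) (tt N117311 F533049))
theorem Q122595 : ∀ i, i < 122595 → P i := stepQ 122594 Q122594 (allL N122594 (tt N117311 (iv1 F533057)) (tt N117309 (iv0 D225853)) (tt N121297 (iv2 F533056)) (tt N121222 F533054) (tt N118441 F533053) (tt N121192 F533052) (tt N121948 F533055) (tt N121296 F533058))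
theorem Q122596 : ∀ i, i < 122596 → P i := stepQ 122595 Q122595 (allL N122595 (tt N117333 (iv1 D225854)) (tt N122345 F533059) (tt N121322 F533065) (tt N117388 (iv3 F533063)) (tt N121570 F533062) (tt N118383 F533061) (tt N121569 (iv6 F533064)) (tt N122182 F533060))
theorem Q122597 : ∀ i, i < 122597 → P i := stepQ 122596 Q122596 (allL N122596 (tt N117354 (iv1 D225855)) (tt N117363 F533066) (tt N121404 F533072) (tt N120598 (iv3 F533070)) (tt N117357 F533069) (tt N117358 F533068) (tt N120598 (iv6 F533071)) (tt N120588 F533067))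
theorem Q122598 : ∀ i, i < 122598 → P i := stepQ 122597 Q122597 (allL N122597 (tt N122597 F533076) (tt N122597 (iv0 F533076)) (tt N122601 (iv2 F533097)) (tt N120596 F533073) (tt N118071 F533074) (tt N122466 F533075) (tt N117354 (iv6 D225856)) (tt N122601 (iv7 F533100)))
theorem Q122599 : ∀ i, i < 122599 → P i := stepQ 122598 Q122598 (allL N122598 (tt N122507 F533081) (tt N122507 (iv0 F533082)) (tt N118071 F533077) (tt N118073 F533078) (tt N122601 (iv4 F533101)) (tt N118065 F533079) (tt N117364 (iv6 D225857)) (tt N118071 F533080))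
theorem Q122600 : ∀ i, i < 122600 → P i := stepQ 122599 Q122599 (allL N122599 (tt N121536 (iv1 F533088)) (tt N117381 (iv0 D225858)) (tt N121864 (iv2 F533087)) (tt N120084 F533085) (tt N119772 F533084) (tt N120090 F533083) (tt N121779 F533086) (tt N117443 F533089))
theorem Q122601 : ∀ i, i < 122601 → P i := stepQ 122600 Q122600 (allL N122600 (tt N121985 (iv1 F533095)) (tt N117404 (iv0 D225859)) (tt N121865 (iv2 F533094)) (tt N121627 F533092) (tt N121779 F533091) (tt N121278 F533090) (tt N119772 F533093) (tt N121966 F533096))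
theorem Q122602 : ∀ i, i < 122602 → P i := stepQ 122601 Q122601 (allL N122601 (tt N122601 F533102) (tt N122601 (iv0 F533102)) (tt N122597 F533097) (tt N117427 F533098) (tt N122598 F533101) (tt N117426 (iv5 D225860)) (tt N122540 F533099) (tt N122597 F533100))
theorem Q122603 : ∀ i, i < 122603 → P i := stepQ 122602 Q122602 (allL N122602 (tt N118763 F533108) (tt N118302 F533109) (tt N120015 F533103) (tt N119857 F533104) (tt N117459 (iv4 D225861)) (tt N121708 F533105) (tt N121473 F533106) (tt N119846 F533107))
theorem Q122604 : ∀ i, i < 122604 → P i := stepQ 122603 Q122603 (allL N122603 (tt N119778 F533115) (tt N121117 F533116) (tt N121377 F533110) (tt N117487 F533111) (tt N120420 F533112) (tt N117486 (iv5 D225862)) (tt N121696 F533113) (tt N120419 F533114))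
theorem Q122605 : ∀ i, i < 122605 → P i := stepQ 122604 Q122604 (allL N122604 (tt N122527 F533122) (tt N122267 F533123) (tt N120090 F533117) (tt N122235 F533118) (tt N117519 (iv4 D225863)) (tt N121864 F533119) (tt N122218 F533120) (tt N120091 F533121))
theorem Q122606 : ∀ i, i < 122606 → P i := stepQ 122605 Q122605 (allL N122605 (tt N117803 F533128) (tt N119314 F533129) (tt N119313 F533124) (tt N122643 (iv3 F533347)) (tt N121230 F533125) (tt N117583 (iv5 D225864)) (tt N121571 F533126) (tt N119312 F533127))
theorem Q122607 : ∀ i, i < 122607 → P i := stepQ 122606 Q122606 (allL N122606 (tt N121087 F533135) (tt N120282 F533136) (tt N120856 F533130) (tt N119574 F533131) (tt N117644 (iv4 D225865)) (tt N122487 F533132) (tt N118144 F533133) (tt N118800 F533134))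
theorem Q122608 : ∀ i, i < 122608 → P i := stepQ 122607 Q122607 (allL N122607 (tt N121209 F533142) (tt N121052 (iv0 F533143)) (tt N122120 F533137) (tt N120758 F533138) (tt N117655 F533139) (tt N120840 F533140) (tt N117654 (iv6 D225866)) (tt N121809 F533141))
theorem Q122609 : ∀ i, i < 122609 → P i := stepQ 122608 Q122608 (allL N122608 (tt N120671 F533149) (tt N122687 (iv0 F533613)) (tt N121808 F533144) (tt N117657 (iv3 D225867)) (tt N118183 F533145) (tt N117960 F533146) (tt N118182 F533147) (tt N122581 F533148))
theorem Q122610 : ∀ i, i < 122610 → P i := stepQ 122609 Q122609 (allL N122609 (tt N122678 (iv1 F533557)) (tt N121748 F533154) (tt N122667 (iv2 F533490)) (tt N119317 F533150) (tt N117685 (iv4 D225868)) (tt N119316 F533151) (tt N121785 F533152) (tt N119311 F533153))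
theorem Q122611 : ∀ i, i < 122611 → P i := stepQ 122610 Q122610 (allL N122610 (tt N119485 (iv1 F533159)) (tt N119484 F533160) (tt N119487 F533155) (tt N122395 F533156) (tt N119459 F533157) (tt N117718 F533158) (tt N122633 (iv6 F533291)) (tt N117717 (iv7 D225869)))
theorem Q122612 : ∀ i, i < 122612 → P i := stepQ 122611 Q122611 (allL N122611 (tt N122552 F533166) (tt N119371 F533167) (tt N119315 F533161) (tt N119311 F533162) (tt N122458 F533163) (tt N117801 (iv5 D225870)) (tt N118602 F533164) (tt N119317 F533165))
theorem Q122613 : ∀ i, i < 122613 → P i := stepQ 122612 Q122612 (allL N122612 (tt N122655 (iv1 F533425)) (tt N122643 (iv0 F533350)) (tt N122625 (iv2 F533242)) (tt N117805 F533168) (tt N120311 F533169) (tt N117804 (iv5 D225871)) (tt N118557 F533170) (tt N119309 F533171))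
theorem Q122614 : ∀ i, i < 122614 → P i := stepQ 122613 Q122613 (allL N122613 (tt N122649 (iv1 F533391)) (tt N121432 F533176) (tt N122544 F533172) (tt N117809 F533173) (tt N120328 F533175) (tt N117808 (iv5 D225872)) (tt N122620 (iv6 F533216)) (tt N119307 F533174))
theorem Q122615 : ∀ i, i < 122615 → P i := stepQ 122614 Q122614 (allL N122614 (tt N117814 (iv1 F533183)) (tt N117810 (iv0 D225873)) (tt N117811 (iv2 F533181)) (tt N118295 F533179) (tt N119979 F533178) (tt N122248 F533177) (tt N118809 F533180) (tt N117812 F533182))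
theorem Q122616 : ∀ i, i < 122616 → P i := stepQ 122615 Q122615 (allL N122615 (tt N117812 (iv1 F533189)) (tt N117811 F533190) (tt N117814 F533184) (tt N117874 F533185) (tt N118766 F533186) (tt N122257 F533187) (tt N121490 F533188) (tt N117810 (iv7 D225874)))
theorem Q122617 : ∀ i, i < 122617 → P i := stepQ 122616 Q122616 (allL N122616 (tt N121463 F533195) (tt N118569 F533196) (tt N121915 F533191) (tt N122638 (iv3 F533320)) (tt N120250 F533192) (tt N117812 (iv5 D225875)) (tt N120249 F533193) (tt N122248 F533194))
theorem Q122618 : ∀ i, i < 122618 → P i := stepQ 122617 Q122617 (allL N122617 (tt N122624 (iv1 F533241)) (tt N117815 (iv0 D225876)) (tt N118528 (iv2 F533200)) (tt N122661 (iv3 F533450)) (tt N122182 F533198) (tt N118509 F533197) (tt N121558 F533199) (tt N121570 (iv7 F533201)))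
theorem Q122619 : ∀ i, i < 122619 → P i := stepQ 122618 Q122618 (allL N122618 (tt N117815 (iv1 D225877)) (tt N122624 F533240) (tt N121570 F533207) (tt N118468 (iv3 F533205)) (tt N121322 F533204) (tt N118467 F533203) (tt N121472 (iv6 F533206)) (tt N118528 F533202))
theorem Q122620 : ∀ i, i < 122620 → P i := stepQ 122619 Q122619 (allL N122619 (tt N121567 F533212) (tt N122704 F533717) (tt N118536 F533208) (tt N122459 F533209) (tt N122437 F533210) (tt N118549 F533211) (tt N117816 (iv6 D225878)) (tt N122703 (iv7 F533710)))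
theorem Q122621 : ∀ i, i < 122621 → P i := stepQ 122620 Q122620 (allL N122620 (tt N118526 F533218) (tt N118465 F533219) (tt N118523 F533213) (tt N117828 F533214) (tt N121090 F533215) (tt N117826 (iv5 D225879)) (tt N122613 F533216) (tt N118524 F533217))
theorem Q122622 : ∀ i, i < 122622 → P i := stepQ 122621 Q122621 (allL N122621 (tt N121432 F533225) (tt N122649 (iv0 F533390)) (tt N119307 F533220) (tt N121983 F533221) (tt N120329 F533222) (tt N117827 (iv5 D225880)) (tt N121982 F533223) (tt N122544 F533224))
theorem Q122623 : ∀ i, i < 122623 → P i := stepQ 122622 Q122622 (allL N122622 (tt N122716 F533798) (tt N118549 (iv0 F533228)) (tt N120138 F533226) (tt N122716 (iv3 F533793)) (tt N120159 F533227) (tt N122757 (iv5 F534048)) (tt N117835 (iv6 D225881)) (tt N122715 (iv7 F533789)))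
theorem Q122624 : ∀ i, i < 122624 → P i := stepQ 122623 Q122623 (allL N122623 (tt N118531 F533233) (tt N121718 F533234) (tt N120139 F533229) (tt N118526 F533230) (tt N122572 F533231) (tt N117836 (iv5 D225882)) (tt N122757 (iv6 F534049)) (tt N118510 F533232))
theorem Q122625 : ∀ i, i < 122625 → P i := stepQ 122624 Q122624 (allL N122624 (tt N122618 (iv1 F533240)) (tt N122617 F533241) (tt N121272 F533235) (tt N122546 F533236) (tt N121271 F533237) (tt N117876 F533238) (tt N122252 F533239) (tt N117875 (iv7 D225883)))
theorem Q122626 : ∀ i, i < 122626 → P i := stepQ 122625 Q122625 (allL N122625 (tt N118556 F533246) (tt N118554 F533247) (tt N122612 F533242) (tt N122646 (iv3 F533366)) (tt N121517 F533243) (tt N117884 (iv5 D225884)) (tt N118277 F533244) (tt N121618 F533245))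
theorem Q122627 : ∀ i, i < 122627 → P i := stepQ 122626 Q122626 (allL N122626 (tt N121493 F533252) (tt N121559 (iv0 F533253)) (tt N118771 F533248) (tt N117898 F533249) (tt N118770 F533250) (tt N122751 (iv5 F534009)) (tt N117897 (iv6 D225885)) (tt N118768 F533251))
theorem Q122628 : ∀ i, i < 122628 → P i := stepQ 122627 Q122627 (allL N122627 (tt N122685 (iv1 F533602)) (tt N120938 F533258) (tt N121036 F533254) (tt N117936 F533255) (tt N122389 F533256) (tt N117935 (iv5 D225886)) (tt N122721 F533831) (tt N122387 F533257))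
theorem Q122629 : ∀ i, i < 122629 → P i := stepQ 122628 Q122628 (allL N122628 (tt N119199 F533262) (tt N120239 (iv0 F533263)) (tt N122240 F533259) (tt N122721 F533830) (tt N118607 F533260) (tt N122239 F533261) (tt N117936 (iv6 D225887)) (tt N122635 (iv7 F533304)))
theorem Q122630 : ∀ i, i < 122630 → P i := stepQ 122629 Q122629 (allL N122629 (tt N122567 F533269) (tt N122567 (iv0 F533270)) (tt N121669 F533264) (tt N120575 F533265) (tt N121667 F533266) (tt N121011 F533267) (tt N117939 (iv6 D225888)) (tt N121669 F533268))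
theorem Q122631 : ∀ i, i < 122631 → P i := stepQ 122630 Q122630 (allL N122630 (tt N120324 F533275) (tt N119178 (iv0 F533276)) (tt N121954 F533271) (tt N118004 (iv3 D225889)) (tt N122700 (iv4 F533690)) (tt N119581 F533272) (tt N121928 F533273) (tt N121927 F533274))
theorem Q122632 : ∀ i, i < 122632 → P i := stepQ 122631 Q122631 (allL N122631 (tt N118981 F533282) (tt N118982 F533283) (tt N121072 F533277) (tt N118108 F533278) (tt N119444 F533279) (tt N118107 (iv5 D225890)) (tt N122125 F533280) (tt N119331 F533281))
theorem Q122633 : ∀ i, i < 122633 → P i := stepQ 122632 Q122632 (allL N122632 (tt N119140 F533287) (tt N119140 (iv0 F533288)) (tt N122533 F533284) (tt N122671 (iv3 F533520)) (tt N122680 (iv4 F533565)) (tt N121754 F533285) (tt N118124 (iv6 D225891)) (tt N122533 F533286))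
theorem Q122634 : ∀ i, i < 122634 → P i := stepQ 122633 Q122633 (allL N122633 (tt N118189 (iv1 F533292)) (tt N118189 (iv0 D225892)) (tt N121759 (iv2 F533293)) (tt N122331 F533290) (tt N122531 F533289) (tt N122680 (iv5 F533566)) (tt N122610 F533291) (tt N121759 (iv7 F533294)))
theorem Q122635 : ∀ i, i < 122635 → P i := stepQ 122634 Q122634 (allL N122634 (tt N122680 F533570) (tt N122680 (iv0 F533569)) (tt N118690 F533295) (tt N120452 F533296) (tt N121011 F533297) (tt N122499 F533298) (tt N118202 (iv6 D225893)) (tt N118690 F533299))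
theorem Q122636 : ∀ i, i < 122636 → P i := stepQ 122635 Q122635 (allL N122635 (tt N121666 F533305) (tt N119630 F533306) (tt N122281 F533300) (tt N122404 F533301) (tt N118220 (iv4 D225894)) (tt N122049 F533302) (tt N122403 F533303) (tt N122628 F533304))
theorem Q122637 : ∀ i, i < 122637 → P i := stepQ 122636 Q122636 (allL N122636 (tt N122565 (iv1 F533311)) (tt N120784 F533312) (tt N122664 (iv2 F533470)) (tt N120703 F533307) (tt N118224 F533308) (tt N120771 F533309) (tt N120702 F533310) (tt N118223 (iv7 D225895)))
theorem Q122638 : ∀ i, i < 122638 → P i := stepQ 122637 Q122637 (allL N122637 (tt N121875 F533318) (tt N121873 (iv0 F533319)) (tt N121398 F533313) (tt N118236 (iv3 D225896)) (tt N122543 F533314) (tt N121276 F533315) (tt N121398 F533316) (tt N119794 F533317))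
theorem Q122639 : ∀ i, i < 122639 → P i := stepQ 122638 Q122638 (allL N122638 (tt N121614 F533323) (tt N120314 F533324) (tt N122640 (iv2 F533329)) (tt N122616 F533320) (tt N121502 F533321) (tt N118294 (iv5 D225897)) (tt N118297 F533322) (tt N122639 (iv7 F533327)))
theorem Q122640 : ∀ i, i < 122640 → P i := stepQ 122639 Q122639 (allL N122639 (tt N122666 (iv1 F533489)) (tt N122144 (iv0 F533328)) (tt N122245 F533325) (tt N122248 F533326) (tt N122733 (iv4 F533905)) (tt N118295 (iv5 D225898)) (tt N122655 (iv6 F533422)) (tt N122638 F533327))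
theorem Q122641 : ∀ i, i < 122641 → P i := stepQ 122640 Q122640 (allL N122640 (tt N122144 F533334) (tt N122666 (iv0 F533488)) (tt N122638 F533329) (tt N121764 F533330) (tt N122253 F533333) (tt N118296 (iv5 D225899)) (tt N120610 F533331) (tt N122245 F533332))
theorem Q122642 : ∀ i, i < 122642 → P i := stepQ 122641 Q122641 (allL N122641 (tt N122710 (iv1 F533756)) (tt N118297 (iv0 D225900)) (tt N122254 (iv2 F533338)) (tt N122258 F533337) (tt N122519 F533336) (tt N120442 F533335) (tt N122749 (iv6 F534000)) (tt N122709 (iv7 F533750)))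
theorem Q122643 : ∀ i, i < 122643 → P i := stepQ 122642 Q122642 (allL N122642 (tt N122088 F533344) (tt N122087 F533345) (tt N122367 F533339) (tt N120929 F533340) (tt N118314 (iv4 D225901)) (tt N122083 F533341) (tt N121673 F533342) (tt N122344 F533343))
theorem Q122644 : ∀ i, i < 122644 → P i := stepQ 122643 Q122643 (allL N122643 (tt N122612 F533350) (tt N121618 F533351) (tt N118554 F533346) (tt N122605 F533347) (tt N122516 F533349) (tt N118318 (iv5 D225902)) (tt N122710 (iv6 F533754)) (tt N118556 F533348))
theorem Q122645 : ∀ i, i < 122645 → P i := stepQ 122644 Q122644 (allL N122644 (tt N120570 F533357) (tt N118620 (iv0 F533358)) (tt N120442 F533352) (tt N118434 (iv3 D225903)) (tt N120381 F533353) (tt N122254 F533354) (tt N118435 F533355) (tt N121613 F533356))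
theorem Q122646 : ∀ i, i < 122646 → P i := stepQ 122645 Q122645 (allL N122645 (tt N118524 (iv1 F533363)) (tt N118523 F533364) (tt N118526 F533359) (tt N118624 F533360) (tt N122375 F533361) (tt N118466 F533362) (tt N122703 (iv6 F533708)) (tt N118465 (iv7 D225904)))
theorem Q122647 : ∀ i, i < 122647 → P i := stepQ 122646 Q122646 (allL N122646 (tt N121394 F533370) (tt N121393 F533371) (tt N118602 F533365) (tt N122625 F533366) (tt N119968 F533367) (tt N118477 (iv5 D225905)) (tt N119315 F533368) (tt N121505 F533369))
theorem Q122648 : ∀ i, i < 122648 → P i := stepQ 122647 Q122647 (allL N122647 (tt N121479 F533377) (tt N121478 F533378) (tt N121481 F533372) (tt N121637 F533373) (tt N118496 (iv4 D225906)) (tt N121913 F533374) (tt N122293 F533375) (tt N121477 F533376))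
theorem Q122649 : ∀ i, i < 122649 → P i := stepQ 122648 Q122648 (allL N122648 (tt N118620 F533383) (tt N120570 (iv0 F533384)) (tt N121613 F533379) (tt N118501 F533380) (tt N120443 F533381) (tt N122709 (iv5 F533744)) (tt N118500 (iv6 D225907)) (tt N120442 F533382))
theorem Q122650 : ∀ i, i < 122650 → P i := stepQ 122649 Q122649 (allL N122649 (tt N122621 F533390) (tt N122613 F533391) (tt N118513 F533385) (tt N118522 F533386) (tt N121582 F533387) (tt N118506 (iv5 D225908)) (tt N121560 F533388) (tt N118512 F533389))
theorem Q122651 : ∀ i, i < 122651 → P i := stepQ 122650 Q122650 (allL N122650 (tt N118522 (iv1 F533396)) (tt N118520 (iv0 D225909)) (tt N121719 (iv2 F533395)) (tt N121557 F533393) (tt N122752 (iv4 F534015)) (tt N119369 F533392) (tt N121718 F533394) (tt N121574 F533397))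
theorem Q122652 : ∀ i, i < 122652 → P i := stepQ 122651 Q122651 (allL N122651 (tt N122375 (iv1 F533404)) (tt N118525 (iv0 D225910)) (tt N122380 (iv2 F533402)) (tt N122329 F533400) (tt N118566 F533399) (tt N122429 F533398) (tt N122374 F533401) (tt N122328 F533403))
theorem Q122653 : ∀ i, i < 122653 → P i := stepQ 122652 Q122652 (allL N122652 (tt N122328 (iv1 F533410)) (tt N122380 F533411) (tt N122375 F533405) (tt N119973 F533406) (tt N118526 F533407) (tt N119972 F533408) (tt N122424 F533409) (tt N118525 (iv7 D225911)))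
theorem Q122654 : ∀ i, i < 122654 → P i := stepQ 122653 Q122653 (allL N122653 (tt N122704 (iv1 F533718)) (tt N121567 (iv0 F533414)) (tt N122703 F533709) (tt N122757 (iv3 F534047)) (tt N122424 F533412) (tt N122716 (iv5 F533795)) (tt N118526 (iv6 D225912)) (tt N118536 F533413))
theorem Q122655 : ∀ i, i < 122655 → P i := stepQ 122654 Q122654 (allL N122654 (tt N121617 F533419) (tt N121306 F533420) (tt N120116 F533415) (tt N118538 F533416) (tt N122754 (iv4 F534027)) (tt N118537 (iv5 D225913)) (tt N118853 F533417) (tt N121813 F533418))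
theorem Q122656 : ∀ i, i < 122656 → P i := stepQ 122655 Q122655 (allL N122655 (tt N121618 F533424) (tt N122612 F533425) (tt N118556 F533421) (tt N122711 (iv3 F533759)) (tt N122708 (iv4 F533741)) (tt N118550 (iv5 D225914)) (tt N122639 F533422) (tt N118554 F533423))
theorem Q122657 : ∀ i, i < 122657 → P i := stepQ 122656 Q122656 (allL N122656 (tt N118551 (iv1 D225915)) (tt N118560 F533426) (tt N118558 (iv2 F533430)) (tt N122667 (iv3 F533491)) (tt N122517 F533429) (tt N118849 F533428) (tt N122666 (iv6 F533486)) (tt N118557 F533427))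
theorem Q122658 : ∀ i, i < 122658 → P i := stepQ 122657 Q122657 (allL N122657 (tt N118558 (iv1 F533435)) (tt N118557 F533436) (tt N118560 F533431) (tt N118568 F533432) (tt N120331 F533433) (tt N118552 F533434) (tt N122755 (iv6 F534034)) (tt N118551 (iv7 D225916)))
theorem Q122659 : ∀ i, i < 122659 → P i := stepQ 122658 Q122658 (allL N122658 (tt N122154 F533441) (tt N121502 F533442) (tt N122708 (iv2 F533739)) (tt N122155 F533437) (tt N118556 (iv4 D225917)) (tt N120446 F533438) (tt N122154 F533439) (tt N122516 F533440))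
theorem Q122660 : ∀ i, i < 122660 → P i := stepQ 122659 Q122659 (allL N122659 (tt N122756 F534045) (tt N122756 (iv0 F534044)) (tt N122755 (iv2 F534032)) (tt N118572 F533443) (tt N122753 (iv4 F534021)) (tt N121739 F533444) (tt N118560 (iv6 D225918)) (tt N122755 (iv7 F534035)))
theorem Q122661 : ∀ i, i < 122661 → P i := stepQ 122660 Q122660 (allL N122660 (tt N122701 (iv1 F533701)) (tt N121907 (iv0 F533448)) (tt N122700 F533693) (tt N122755 (iv3 F534033)) (tt N121954 F533445) (tt N121742 F533446) (tt N118568 (iv6 D225919)) (tt N118572 F533447))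
theorem Q122662 : ∀ i, i < 122662 → P i := stepQ 122661 Q122661 (allL N122661 (tt N122248 (iv1 F533454)) (tt N121915 F533455) (tt N121463 F533449) (tt N122617 F533450) (tt N122381 F533451) (tt N121462 F533452) (tt N119314 F533453) (tt N118569 (iv7 D225920)))
theorem Q122663 : ∀ i, i < 122663 → P i := stepQ 122662 Q122662 (allL N122662 (tt N119178 F533461) (tt N120324 (iv0 F533462)) (tt N121927 F533456) (tt N120252 F533457) (tt N118572 F533458) (tt N121138 F533459) (tt N118571 (iv6 D225921)) (tt N121954 F533460))
theorem Q122664 : ∀ i, i < 122664 → P i := stepQ 122663 Q122663 (allL N122663 (tt N122497 F533468) (tt N122497 (iv0 F533469)) (tt N122499 F533463) (tt N122425 F533464) (tt N122567 F533465) (tt N118690 F533466) (tt N118609 (iv6 D225922)) (tt N122499 F533467))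
theorem Q122665 : ∀ i, i < 122665 → P i := stepQ 122664 Q122664 (allL N122664 (tt N119142 (iv1 F533474)) (tt N119588 F533475) (tt N122636 F533470) (tt N120855 F533471) (tt N118611 F533472) (tt N119573 F533473) (tt N122687 (iv6 F533611)) (tt N118610 (iv7 D225923)))
theorem Q122666 : ∀ i, i < 122666 → P i := stepQ 122665 Q122665 (allL N122665 (tt N122496 F533481) (tt N118870 F533482) (tt N118617 F533476) (tt N122098 F533477) (tt N121434 F533478) (tt N118616 (iv5 D225924)) (tt N118958 F533479) (tt N119341 F533480))
theorem Q122667 : ∀ i, i < 122667 → P i := stepQ 122666 Q122666 (allL N122666 (tt N122640 F533488) (tt N122639 F533489) (tt N120314 F533483) (tt N118621 F533484) (tt N120313 F533485) (tt N118620 (iv5 D225925)) (tt N122656 F533486) (tt N121614 F533487))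
theorem Q122668 : ∀ i, i < 122668 → P i := stepQ 122667 Q122667 (allL N122667 (tt N121470 F533495) (tt N122350 (iv0 F533496)) (tt N122609 F533490) (tt N122656 F533491) (tt N121084 F533492) (tt N121562 F533493) (tt N118621 (iv6 D225926)) (tt N121083 F533494))
theorem Q122669 : ∀ i, i < 122669 → P i := stepQ 122668 Q122668 (allL N122668 (tt N121010 F533502) (tt N121010 (iv0 F533503)) (tt N121011 F533497) (tt N122033 F533498) (tt N118690 F533499) (tt N121669 F533500) (tt N118689 (iv6 D225927)) (tt N121011 F533501))
theorem Q122670 : ∀ i, i < 122670 → P i := stepQ 122669 Q122669 (allL N122669 (tt N118690 (iv1 F533508)) (tt N118690 (iv0 D225928)) (tt N122680 (iv2 F533564)) (tt N120401 F533506) (tt N122533 F533505) (tt N121759 F533504) (tt N120400 F533507) (tt N122680 (iv7 F533568)))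
theorem Q122671 : ∀ i, i < 122671 → P i := stepQ 122670 Q122670 (allL N122670 (tt N121758 F533512) (tt N121758 F533513) (tt N122683 (iv2 F533583)) (tt N121666 F533509) (tt N118735 (iv4 D225929)) (tt N122566 F533511) (tt N120618 F533510) (tt N122683 (iv7 F533587)))
theorem Q122672 : ∀ i, i < 122672 → P i := stepQ 122671 Q122671 (allL N122671 (tt N120856 F533518) (tt N118800 F533519) (tt N120282 F533514) (tt N122632 F533520) (tt N118799 (iv4 D225930)) (tt N122193 F533515) (tt N120630 F533516) (tt N121087 F533517))
theorem Q122673 : ∀ i, i < 122673 → P i := stepQ 122672 Q122672 (allL N122672 (tt N122754 (iv1 F534031)) (tt N121814 F533524) (tt N118855 F533521) (tt N122744 F533974) (tt N118851 (iv4 D225931)) (tt N121101 F533523) (tt N122744 F533975) (tt N121916 F533522))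
theorem Q122674 : ∀ i, i < 122674 → P i := stepQ 122673 Q122673 (allL N122673 (tt N122140 F533528) (tt N122746 (iv0 F533989)) (tt N122222 F533525) (tt N122738 (iv3 F533938)) (tt N118853 (iv4 D225932)) (tt N120296 F533527) (tt N122754 (iv6 F534028)) (tt N122221 F533526))
theorem Q122675 : ∀ i, i < 122675 → P i := stepQ 122674 Q122674 (allL N122674 (tt N122746 (iv1 F533990)) (tt N122140 F533532) (tt N122221 F533529) (tt N122734 (iv3 F533911)) (tt N118854 (iv4 D225933)) (tt N122211 F533530) (tt N122734 (iv6 F533913)) (tt N122222 F533531))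
theorem Q122676 : ∀ i, i < 122676 → P i := stepQ 122675 Q122675 (allL N122675 (tt N121814 (iv1 F533536)) (tt N122754 (iv0 F534030)) (tt N121916 F533533) (tt N122746 (iv3 F533986)) (tt N118856 F533534) (tt N122220 F533535) (tt N122712 (iv6 F533767)) (tt N118855 (iv7 D225934)))
theorem Q122677 : ∀ i, i < 122677 → P i := stepQ 122676 Q122676 (allL N122676 (tt N122170 F533542) (tt N119291 (iv0 F533543)) (tt N122296 F533537) (tt N119090 (iv3 D225935)) (tt N122577 F533538) (tt N122171 F533539) (tt N122562 F533540) (tt N121454 F533541))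
theorem Q122678 : ∀ i, i < 122678 → P i := stepQ 122677 Q122677 (allL N122677 (tt N121603 F533549) (tt N120422 (iv0 F533550)) (tt N121610 F533544) (tt N119095 (iv3 D225936)) (tt N120538 F533545) (tt N119300 F533546) (tt N119730 F533547) (tt N120533 F533548))
theorem Q122679 : ∀ i, i < 122679 → P i := stepQ 122678 Q122678 (allL N122678 (tt N121083 F533556) (tt N122609 F533557) (tt N121470 F533551) (tt N119108 F533552) (tt N122273 F533553) (tt N119106 (iv5 D225937)) (tt N122348 F533554) (tt N122350 F533555))
theorem Q122680 : ∀ i, i < 122680 → P i := stepQ 122679 Q122679 (allL N122679 (tt N122301 (iv1 F533562)) (tt N121564 F533563) (tt N121565 F533558) (tt N122350 F533559) (tt N122271 F533560) (tt N119109 F533561) (tt N122742 (iv6 F533960)) (tt N119108 (iv7 D225938)))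
theorem Q122681 : ∀ i, i < 122681 → P i := stepQ 122680 Q122680 (allL N122680 (tt N122634 F533569) (tt N122634 (iv0 F533570)) (tt N122669 F533564) (tt N119117 (iv3 D225939)) (tt N122632 F533565) (tt N122633 F533566) (tt N121823 F533567) (tt N122669 F533568))
theorem Q122682 : ∀ i, i < 122682 → P i := stepQ 122681 Q122681 (allL N122681 (tt N122498 F533574) (tt N122498 F533575) (tt N122737 (iv2 F533930)) (tt N122186 F533571) (tt N119141 (iv4 D225940)) (tt N122455 F533573) (tt N119142 F533572) (tt N122737 (iv7 F533933)))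
theorem Q122683 : ∀ i, i < 122683 → P i := stepQ 122682 Q122682 (allL N122682 (tt N122501 F533581) (tt N121753 F533582) (tt N122104 F533576) (tt N120997 F533577) (tt N119198 (iv4 D225941)) (tt N119673 F533578) (tt N119522 F533579) (tt N120994 F533580))
theorem Q122684 : ∀ i, i < 122684 → P i := stepQ 122683 Q122683 (allL N122683 (tt N120985 F533588) (tt N120985 (iv0 F533589)) (tt N122670 F533583) (tt N119199 (iv3 D225942)) (tt N119200 F533584) (tt N119422 F533585) (tt N119419 F533586) (tt N122670 F533587))
theorem Q122685 : ∀ i, i < 122685 → P i := stepQ 122684 Q122684 (allL N122684 (tt N119317 F533594) (tt N119315 F533595) (tt N122552 F533590) (tt N120323 F533591) (tt N122549 F533592) (tt N119252 (iv5 D225943)) (tt N122741 (iv6 F533953)) (tt N119371 F533593))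
theorem Q122686 : ∀ i, i < 122686 → P i := stepQ 122685 Q122685 (allL N122685 (tt N120906 F533601) (tt N122627 F533602) (tt N120040 F533596) (tt N122523 F533597) (tt N119342 (iv4 D225944)) (tt N122359 F533598) (tt N122324 F533599) (tt N120903 F533600))
theorem Q122687 : ∀ i, i < 122687 → P i := stepQ 122686 Q122686 (allL N122686 (tt N122687 (iv1 F533614)) (tt N120671 F533608) (tt N122581 F533603) (tt N120761 F533604) (tt N119516 F533605) (tt N119417 (iv5 D225945)) (tt N122114 F533606) (tt N121808 F533607))
theorem Q122688 : ∀ i, i < 122688 → P i := stepQ 122687 Q122687 (allL N122687 (tt N122608 F533613) (tt N122686 F533614) (tt N120702 F533609) (tt N122714 (iv3 F533779)) (tt N121732 F533610) (tt N119456 (iv5 D225946)) (tt N122664 F533611) (tt N121731 F533612))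
theorem Q122689 : ∀ i, i < 122689 → P i := stepQ 122688 Q122688 (allL N122688 (tt N120813 F533620) (tt N120814 F533621) (tt N121006 F533615) (tt N119501 F533616) (tt N119467 (iv4 D225947)) (tt N119478 F533617) (tt N119500 F533618) (tt N119489 F533619))
theorem Q122690 : ∀ i, i < 122690 → P i := stepQ 122689 Q122689 (allL N122689 (tt N120994 F533627) (tt N122104 F533628) (tt N122501 F533622) (tt N122189 F533623) (tt N120509 F533624) (tt N119571 (iv5 D225948)) (tt N120995 F533625) (tt N121753 F533626))
theorem Q122691 : ∀ i, i < 122691 → P i := stepQ 122690 Q122690 (allL N122690 (tt N119805 F533633) (tt N122728 F533873) (tt N122550 F533629) (tt N122197 F533630) (tt N119741 (iv4 D225949)) (tt N122197 F533631) (tt N119806 F533632) (tt N122693 (iv7 F533646)))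
theorem Q122692 : ∀ i, i < 122692 → P i := stepQ 122691 Q122691 (allL N122691 (tt N122550 F533638) (tt N122693 (iv0 F533647)) (tt N122728 F533872) (tt N119793 (iv3 D225950)) (tt N119817 F533634) (tt N120462 F533635) (tt N119817 F533636) (tt N119805 F533637))
theorem Q122693 : ∀ i, i < 122693 → P i := stepQ 122692 Q122692 (allL N122692 (tt N122735 F533923) (tt N122735 (iv0 F533922)) (tt N122730 (iv2 F533882)) (tt N119802 (iv3 D225951)) (tt N119803 F533639) (tt N122200 F533640) (tt N121860 F533641) (tt N122730 (iv7 F533885)))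
theorem Q122694 : ∀ i, i < 122694 → P i := stepQ 122693 Q122693 (allL N122693 (tt N122691 F533647) (tt N122199 (iv0 F533648)) (tt N121294 F533642) (tt N120392 F533643) (tt N119820 F533644) (tt N120392 F533645) (tt N119819 (iv6 D225952)) (tt N122690 F533646))
theorem Q122695 : ∀ i, i < 122695 → P i := stepQ 122694 Q122694 (allL N122694 (tt N119830 (iv1 F533654)) (tt N119829 (iv0 D225953)) (tt N121281 (iv2 F533653)) (tt N121280 F533651) (tt N121224 F533650) (tt N121997 F533649) (tt N119911 F533652) (tt N121280 F533655))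
theorem Q122696 : ∀ i, i < 122696 → P i := stepQ 122695 Q122695 (allL N122695 (tt N119902 (iv1 D225954)) (tt N120473 F533656) (tt N122543 F533662) (tt N121979 (iv3 F533660)) (tt N121398 F533659) (tt N120534 F533658) (tt N122543 (iv6 F533661)) (tt N122592 F533657))
theorem Q122697 : ∀ i, i < 122697 → P i := stepQ 122696 Q122696 (allL N122696 (tt N122504 F533668) (tt N122570 (iv0 F533669)) (tt N122574 F533663) (tt N119910 (iv3 D225955)) (tt N122313 F533664) (tt N121969 F533665) (tt N122574 F533666) (tt N122012 F533667))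
theorem Q122698 : ∀ i, i < 122698 → P i := stepQ 122697 Q122697 (allL N122697 (tt N120704 F533675) (tt N122714 (iv0 F533783)) (tt N122484 F533670) (tt N120566 F533671) (tt N120038 (iv4 D225956)) (tt N121193 F533672) (tt N121716 F533673) (tt N122358 F533674))
theorem Q122699 : ∀ i, i < 122699 → P i := stepQ 122698 Q122698 (allL N122698 (tt N121352 F533681) (tt N121583 (iv0 F533682)) (tt N120175 F533676) (tt N121790 F533677) (tt N121511 F533678) (tt N120174 F533679) (tt N120082 (iv6 D225957)) (tt N121576 F533680))
theorem Q122700 : ∀ i, i < 122700 → P i := stepQ 122699 Q122699 (allL N122699 (tt N122261 F533687) (tt N122260 F533688) (tt N122259 F533683) (tt N122749 (iv3 F533999)) (tt N121917 F533684) (tt N120141 (iv5 D225958)) (tt N122258 F533685) (tt N122255 F533686))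
theorem Q122701 : ∀ i, i < 122701 → P i := stepQ 122700 Q122700 (allL N122700 (tt N122459 (iv1 F533695)) (tt N120142 (iv0 D225959)) (tt N122660 (iv2 F533693)) (tt N121984 F533691) (tt N122630 F533690) (tt N121812 F533689) (tt N121396 F533692) (tt N121984 F533694))
theorem Q122702 : ∀ i, i < 122702 → P i := stepQ 122701 Q122701 (allL N122701 (tt N121984 (iv1 F533700)) (tt N122660 F533701) (tt N122459 F533696) (tt N122720 (iv3 F533820)) (tt N121832 F533697) (tt N120143 F533698) (tt N122529 F533699) (tt N120142 (iv7 D225960)))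
theorem Q122703 : ∀ i, i < 122703 → P i := stepQ 122702 Q122702 (allL N122702 (tt N122757 (iv1 F534052)) (tt N122720 (iv0 F533824)) (tt N122346 F533702) (tt N122260 F533703) (tt N122335 F533704) (tt N120155 (iv5 D225961)) (tt N122304 F533705) (tt N122742 (iv7 F533961)))
theorem Q122704 : ∀ i, i < 122704 → P i := stepQ 122703 Q122703 (allL N122703 (tt N122557 (iv1 F533712)) (tt N120157 (iv0 D225962)) (tt N122653 (iv2 F533709)) (tt N121907 (iv3 F533711)) (tt N122438 F533707) (tt N121905 F533706) (tt N122645 F533708) (tt N122619 F533710))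
theorem Q122705 : ∀ i, i < 122705 → P i := stepQ 122704 Q122704 (allL N122704 (tt N122619 (iv1 F533717)) (tt N122653 F533718) (tt N122557 F533713) (tt N122741 (iv3 F533951)) (tt N120324 F533714) (tt N120158 F533715) (tt N120323 F533716) (tt N120157 (iv7 D225963)))
theorem Q122706 : ∀ i, i < 122706 → P i := stepQ 122705 Q122705 (allL N122705 (tt N121957 F533724) (tt N120236 F533725) (tt N121364 F533719) (tt N121379 F533720) (tt N120195 (iv4 D225964)) (tt N121360 F533721) (tt N121378 F533722) (tt N121379 F533723))
theorem Q122707 : ∀ i, i < 122707 → P i := stepQ 122706 Q122706 (allL N122706 (tt N122019 (iv1 F533730)) (tt N122139 F533731) (tt N122141 F533726) (tt N122220 F533727) (tt N120260 F533728) (tt N122746 (iv5 F533987)) (tt N122135 F533729) (tt N120259 (iv7 D225965)))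
theorem Q122708 : ∀ i, i < 122708 → P i := stepQ 122707 Q122707 (allL N122707 (tt N121005 F533737) (tt N122418 (iv0 F533738)) (tt N122130 F533732) (tt N120276 (iv3 D225966)) (tt N121177 F533733) (tt N122583 F533734) (tt N121793 F533735) (tt N122242 F533736))
theorem Q122709 : ∀ i, i < 122709 → P i := stepQ 122708 Q122708 (allL N122708 (tt N122733 (iv1 F533909)) (tt N122253 F533743) (tt N122658 F533739) (tt N120334 F533740) (tt N122655 F533741) (tt N120319 (iv5 D225967)) (tt N122733 (iv6 F533907)) (tt N120333 F533742))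
theorem Q122710 : ∀ i, i < 122710 → P i := stepQ 122709 Q122709 (allL N122709 (tt N120610 (iv1 F533749)) (tt N120326 (iv0 D225968)) (tt N122295 (iv2 F533748)) (tt N122294 F533746) (tt N122134 F533745) (tt N122648 F533744) (tt N122295 F533747) (tt N122641 F533750))
theorem Q122711 : ∀ i, i < 122711 → P i := stepQ 122710 Q122710 (allL N122710 (tt N122295 (iv1 F533757)) (tt N122641 F533756) (tt N120326 (iv2 D225969)) (tt N121571 F533751) (tt N120332 F533752) (tt N120611 F533753) (tt N122643 F533754) (tt N120610 F533755))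
theorem Q122712 : ∀ i, i < 122712 → P i := stepQ 122711 Q122711 (allL N122711 (tt N122247 (iv1 F533763)) (tt N122526 F533764) (tt N122249 F533758) (tt N122655 F533759) (tt N120330 F533760) (tt N121220 F533761) (tt N122248 F533762) (tt N120327 (iv7 D225970)))
theorem Q122713 : ∀ i, i < 122713 → P i := stepQ 122712 Q122712 (allL N122712 (tt N121738 F533769) (tt N121901 F533770) (tt N121902 F533765) (tt N122758 D226017) (tt N120613 (iv4 D225971)) (tt N121918 F533766) (tt N122675 F533767) (tt N121895 F533768))
theorem Q122714 : ∀ i, i < 122714 → P i := stepQ 122713 Q122713 (allL N122713 (tt N120643 F533776) (tt N120689 (iv0 F533777)) (tt N120677 F533771) (tt N120726 F533772) (tt N121008 F533773) (tt N122363 F533774) (tt N120631 (iv6 D225972)) (tt N120737 F533775))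
theorem Q122715 : ∀ i, i < 122715 → P i := stepQ 122714 Q122714 (allL N122714 (tt N122697 F533783) (tt N122470 F533784) (tt N120669 F533778) (tt N122687 F533779) (tt N122121 F533780) (tt N120649 (iv5 D225973)) (tt N120855 F533781) (tt N122503 F533782))
theorem Q122716 : ∀ i, i < 122716 → P i := stepQ 122715 Q122715 (allL N122715 (tt N120735 F533790) (tt N121905 (iv0 F533791)) (tt N121735 F533785) (tt N120735 F533786) (tt N121734 F533787) (tt N122263 F533788) (tt N120732 (iv6 D225974)) (tt N122622 F533789))
theorem Q122717 : ∀ i, i < 122717 → P i := stepQ 122716 Q122716 (allL N122716 (tt N121735 F533797) (tt N122622 (iv0 F533798)) (tt N121905 F533792) (tt N122622 F533793) (tt N122553 F533794) (tt N122653 F533795) (tt N120734 (iv6 D225975)) (tt N120735 F533796))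
theorem Q122718 : ∀ i, i < 122718 → P i := stepQ 122717 Q122717 (allL N122717 (tt N121417 F533804) (tt N121417 F533805) (tt N121417 F533799) (tt N121247 F533800) (tt N120990 (iv4 D225976)) (tt N121415 F533803) (tt N121247 F533801) (tt N121417 F533802))
theorem Q122719 : ∀ i, i < 122719 → P i := stepQ 122718 Q122718 (allL N122718 (tt N122721 (iv1 F533826)) (tt N122391 (iv0 F533811)) (tt N122131 F533806) (tt N121015 (iv3 D225977)) (tt N121807 F533807) (tt N122035 F533808) (tt N121038 F533809) (tt N121212 F533810))
theorem Q122720 : ∀ i, i < 122720 → P i := stepQ 122719 Q122719 (allL N122719 (tt N121903 F533817) (tt N122225 F533818) (tt N121892 F533812) (tt N121738 F533813) (tt N121306 F533816) (tt N121100 (iv5 D225978)) (tt N122228 F533814) (tt N121891 F533815))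
theorem Q122721 : ∀ i, i < 122721 → P i := stepQ 122720 Q122720 (allL N122720 (tt N122702 F533824) (tt N122554 F533825) (tt N122263 F533819) (tt N122701 F533820) (tt N121144 (iv4 D225979)) (tt N121735 F533823) (tt N121146 F533821) (tt N122262 F533822))
theorem Q122722 : ∀ i, i < 122722 → P i := stepQ 122721 Q122721 (allL N122721 (tt N121204 (iv1 D225980)) (tt N122718 F533826) (tt N122514 F533832) (tt N122628 (iv3 F533830)) (tt N122188 F533829) (tt N122513 F533828) (tt N122627 (iv6 F533831)) (tt N122404 F533827))
theorem Q122723 : ∀ i, i < 122723 → P i := stepQ 122722 Q122722 (allL N122722 (tt N121358 F533838) (tt N121358 (iv0 F533839)) (tt N121356 F533833) (tt N121236 (iv3 D225981)) (tt N121237 F533834) (tt N121366 F533835) (tt N121921 F533836) (tt N121356 F533837))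
theorem Q122724 : ∀ i, i < 122724 → P i := stepQ 122723 Q122723 (allL N122723 (tt N121237 (iv1 F533843)) (tt N121237 (iv0 D225982)) (tt N121357 (iv2 F533844)) (tt N121295 F533841) (tt N122732 (iv4 F533897)) (tt N122308 F533840) (tt N121293 F533842) (tt N121357 (iv7 F533845)))
theorem Q122725 : ∀ i, i < 122725 → P i := stepQ 122724 Q122724 (allL N122724 (tt N121362 F533851) (tt N121361 F533852) (tt N121239 F533846) (tt N121360 F533847) (tt N121238 (iv4 D225983)) (tt N121379 F533848) (tt N121870 F533849) (tt N121360 F533850))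
theorem Q122726 : ∀ i, i < 122726 → P i := stepQ 122725 Q122725 (allL N122725 (tt N121381 (iv1 F533859)) (tt N121380 F533858) (tt N121242 (iv2 D225984)) (tt N121384 F533853) (tt N122204 F533854) (tt N121484 F533855) (tt N121804 F533856) (tt N121382 F533857))
theorem Q122727 : ∀ i, i < 122727 → P i := stepQ 122726 Q122726 (allL N122726 (tt N122730 F533887) (tt N122730 F533888) (tt N122735 (iv2 F533917)) (tt N121281 (iv3 D225985)) (tt N122736 (iv4 F533925)) (tt N122732 (iv5 F533898)) (tt N122012 F533860) (tt N122735 (iv7 F533921)))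
theorem Q122728 : ∀ i, i < 122728 → P i := stepQ 122727 Q122727 (allL N122727 (tt N121592 F533866) (tt N122008 F533867) (tt N122007 F533861) (tt N121628 F533862) (tt N121780 F533863) (tt N121289 (iv5 D225986)) (tt N122023 F533864) (tt N121388 F533865))
theorem Q122729 : ∀ i, i < 122729 → P i := stepQ 122728 Q122728 (allL N122728 (tt N122690 (iv1 F533873)) (tt N121294 (iv0 D225987)) (tt N122691 (iv2 F533872)) (tt N122156 F533870) (tt N121853 F533869) (tt N121866 F533868) (tt N121853 F533871) (tt N122199 F533874))
theorem Q122730 : ∀ i, i < 122730 → P i := stepQ 122729 Q122729 (allL N122729 (tt N121669 F533880) (tt N121669 (iv0 F533881)) (tt N122567 F533875) (tt N121304 (iv3 D225988)) (tt N122499 F533876) (tt N122047 F533877) (tt N122326 F533878) (tt N122567 F533879))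
theorem Q122731 : ∀ i, i < 122731 → P i := stepQ 122730 Q122730 (allL N122730 (tt N122726 (iv1 F533888)) (tt N122726 (iv0 F533887)) (tt N122692 F533882) (tt N121380 F533883) (tt N121358 (iv4 D225989)) (tt N122315 F533886) (tt N121380 F533884) (tt N122692 F533885))
theorem Q122732 : ∀ i, i < 122732 → P i := stepQ 122731 Q122731 (allL N122731 (tt N122315 F533894) (tt N122315 (iv0 F533895)) (tt N121986 F533889) (tt N121869 F533890) (tt N121366 (iv4 D225990)) (tt N122539 F533893) (tt N121868 F533891) (tt N121986 F533892))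
theorem Q122733 : ∀ i, i < 122733 → P i := stepQ 122732 Q122732 (allL N122732 (tt N121630 F533901) (tt N121630 (iv0 F533902)) (tt N122563 F533896) (tt N121371 (iv3 D225991)) (tt N122723 F533897) (tt N122726 F533898) (tt N121877 F533899) (tt N122563 F533900))
theorem Q122734 : ∀ i, i < 122734 → P i := stepQ 122733 Q122733 (allL N122733 (tt N122516 (iv1 F533908)) (tt N122708 F533909) (tt N122154 F533903) (tt N122232 F533904) (tt N122639 F533905) (tt N121503 F533906) (tt N122708 F533907) (tt N121502 (iv7 D225992)))
theorem Q122735 : ∀ i, i < 122735 → P i := stepQ 122734 Q122734 (allL N122734 (tt N122225 F533915) (tt N121903 F533916) (tt N121891 F533910) (tt N122674 F533911) (tt N121617 (iv4 D225993)) (tt N122229 F533912) (tt N122674 F533913) (tt N121892 F533914))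
theorem Q122736 : ∀ i, i < 122736 → P i := stepQ 122735 Q122735 (allL N122735 (tt N122692 F533922) (tt N122692 (iv0 F533923)) (tt N122726 F533917) (tt N121626 (iv3 D225994)) (tt N121630 F533918) (tt N122563 F533919) (tt N122564 F533920) (tt N122726 F533921))
theorem Q122737 : ∀ i, i < 122737 → P i := stepQ 122736 Q122736 (allL N122736 (tt N122563 F533929) (tt N122563 (iv0 F533928)) (tt N121630 (iv2 D225995)) (tt N121631 F533924) (tt N122726 F533925) (tt N122743 (iv5 F533966)) (tt N122202 F533926) (tt N121630 (iv7 F533927)))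
theorem Q122738 : ∀ i, i < 122738 → P i := stepQ 122737 Q122737 (allL N122737 (tt N122534 F533935) (tt N122534 F533936) (tt N122681 F533930) (tt N122467 F533931) (tt N121670 (iv4 D225996)) (tt N122427 F533934) (tt N122565 F533932) (tt N122681 F533933))
theorem Q122739 : ∀ i, i < 122739 → P i := stepQ 122738 Q122738 (allL N122738 (tt N121895 F533941) (tt N121902 F533942) (tt N121738 F533937) (tt N122673 F533938) (tt N121737 (iv4 D225997)) (tt N122213 F533939) (tt N122759 D226018) (tt N121901 F533940))
theorem Q122740 : ∀ i, i < 122740 → P i := stepQ 122739 Q122739 (allL N122739 (tt N122739 F533946) (tt N122739 (iv0 F533946)) (tt N121739 F533943) (tt N121742 F533944) (tt N122759 (iv4 F534062)) (tt N122755 F534037) (tt N121737 (iv6 D225998)) (tt N121739 F533945))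
theorem Q122741 : ∀ i, i < 122741 → P i := stepQ 122740 Q122740 (allL N122740 (tt N122758 F534059) (tt N122758 (iv0 F534058)) (tt N122759 (iv2 F534060)) (tt N122228 F533947) (tt N121739 F533948) (tt N122227 F533949) (tt N121738 (iv6 D225999)) (tt N122759 (iv7 F534064)))
theorem Q122742 : ∀ i, i < 122742 → P i := stepQ 122741 Q122741 (allL N122741 (tt N122259 F533955) (tt N122255 F533956) (tt N122260 F533950) (tt N122704 F533951) (tt N122347 F533952) (tt N121740 (iv5 D226000)) (tt N122684 F533953) (tt N122261 F533954))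
theorem Q122743 : ∀ i, i < 122743 → P i := stepQ 122742 Q122742 (allL N122742 (tt N122263 F533962) (tt N122262 F533963) (tt N122554 F533957) (tt N122440 F533958) (tt N122376 F533959) (tt N121816 (iv5 D226001)) (tt N122679 F533960) (tt N122702 F533961))
theorem Q122744 : ∀ i, i < 122744 → P i := stepQ 122743 Q122743 (allL N122743 (tt N122539 F533969) (tt N122539 (iv0 F533970)) (tt N122591 F533964) (tt N121857 (iv3 D226002)) (tt N121995 F533965) (tt N122736 F533966) (tt N122576 F533967) (tt N122591 F533968))
theorem Q122745 : ∀ i, i < 122745 → P i := stepQ 122744 Q122744 (allL N122744 (tt N121892 (iv1 F533973)) (tt N121891 (iv0 D226003)) (tt N122225 F533976) (tt N122672 (iv3 F533974)) (tt N121904 F533972) (tt N122019 F533971) (tt N122672 (iv6 F533975)) (tt N121903 F533977))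
theorem Q122746 : ∀ i, i < 122746 → P i := stepQ 122745 Q122745 (allL N122745 (tt N121891 (iv1 D226004)) (tt N121892 F533978) (tt N121903 F533984) (tt N121899 (iv3 F533982)) (tt N121896 F533981) (tt N122139 F533980) (tt N121895 (iv6 F533983)) (tt N122225 F533979))
theorem Q122747 : ∀ i, i < 122747 → P i := stepQ 122746 Q122746 (allL N122746 (tt N122673 F533989) (tt N122674 F533990) (tt N121899 F533985) (tt N122675 F533986) (tt N121894 (iv4 D226005)) (tt N122706 F533987) (tt N122758 (iv6 F534056)) (tt N121897 F533988))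
theorem Q122748 : ∀ i, i < 122748 → P i := stepQ 122747 Q122747 (allL N122747 (tt N121900 F533994) (tt N121900 (iv0 F533995)) (tt N121900 F533991) (tt N121906 F533992) (tt N122758 (iv4 F534054)) (tt N122756 (iv5 F534042)) (tt N121894 (iv6 D226006)) (tt N121900 F533993))
theorem Q122749 : ∀ i, i < 122749 → P i := stepQ 122748 Q122748 (allL N122748 (tt N122759 F534066) (tt N122759 (iv0 F534065)) (tt N122758 (iv2 F534053)) (tt N121895 (iv3 D226007)) (tt N121900 F533996) (tt N122520 F533997) (tt N121899 F533998) (tt N122758 (iv7 F534057)))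
theorem Q122750 : ∀ i, i < 122750 → P i := stepQ 122749 Q122749 (allL N122749 (tt N122755 F534038) (tt N122755 (iv0 F534036)) (tt N122756 (iv2 F534039)) (tt N122699 F533999) (tt N122750 (iv4 F534002)) (tt N121900 (iv5 D226008)) (tt N122641 F534000) (tt N122756 (iv7 F534043)))
theorem Q122751 : ∀ i, i < 122751 → P i := stepQ 122750 Q122750 (allL N122750 (tt N122750 F534005) (tt N122750 (iv0 F534005)) (tt N122520 F534001) (tt N121918 (iv3 D226009)) (tt N122749 F534002) (tt N122758 (iv5 F534055)) (tt N122519 F534003) (tt N122520 F534004))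
theorem Q122752 : ∀ i, i < 122752 → P i := stepQ 122751 Q122751 (allL N122751 (tt N122252 F534011) (tt N122251 (iv0 F534012)) (tt N122545 F534006) (tt N122526 F534007) (tt N122164 F534008) (tt N122626 F534009) (tt N122163 (iv6 D226010)) (tt N122525 F534010))
theorem Q122753 : ∀ i, i < 122753 → P i := stepQ 122752 Q122752 (allL N122752 (tt N122512 F534018) (tt N122547 (iv0 F534019)) (tt N122430 F534013) (tt N122167 F534014) (tt N122650 F534015) (tt N122428 F534016) (tt N122166 (iv6 D226011)) (tt N122431 F534017))
theorem Q122754 : ∀ i, i < 122754 → P i := stepQ 122753 Q122753 (allL N122753 (tt N122227 F534024) (tt N122227 (iv0 F534025)) (tt N122227 F534020) (tt N122212 (iv3 D226012)) (tt N122659 F534021) (tt N122759 (iv5 F534063)) (tt N122230 F534022) (tt N122227 F534023))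
theorem Q122755 : ∀ i, i < 122755 → P i := stepQ 122754 Q122754 (allL N122754 (tt N122675 F534030) (tt N122672 F534031) (tt N122226 F534026) (tt N122759 (iv3 F534061)) (tt N122654 F534027) (tt N122212 (iv5 D226013)) (tt N122673 F534028) (tt N122228 F534029))
theorem Q122756 : ∀ i, i < 122756 → P i := stepQ 122755 Q122755 (allL N122755 (tt N122749 F534036) (tt N122749 (iv0 F534038)) (tt N122659 F534032) (tt N122660 F534033) (tt N122227 (iv4 D226014)) (tt N122739 (iv5 F534037)) (tt N122657 F534034) (tt N122659 F534035))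
theorem Q122757 : ∀ i, i < 122757 → P i := stepQ 122756 Q122756 (allL N122756 (tt N122659 F534044) (tt N122659 (iv0 F534045)) (tt N122749 F534039) (tt N122255 F534040) (tt N122520 F534041) (tt N122747 F534042) (tt N122254 (iv6 D226015)) (tt N122749 F534043))
theorem Q122758 : ∀ i, i < 122758 → P i := stepQ 122757 Q122757 (allL N122757 (tt N122554 F534051) (tt N122702 F534052) (tt N122262 F534046) (tt N122653 F534047) (tt N122256 (iv4 D226016)) (tt N122622 F534048) (tt N122623 F534049) (tt N122263 F534050))
theorem Q122759 : ∀ i, i < 122759 → P i := stepQ 122758 Q122758 (allL N122758 (tt N122740 F534058) (tt N122740 (iv0 F534059)) (tt N122748 F534053) (tt N122712 (iv3 D226017)) (tt N122747 F534054) (tt N122750 F534055) (tt N122746 F534056) (tt N122748 F534057))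
theorem Q122760 : ∀ i, i < 122760 → P i := stepQ 122759 Q122759 (allL N122759 (tt N122748 F534065) (tt N122748 (iv0 F534066)) (tt N122740 F534060) (tt N122754 F534061) (tt N122739 F534062) (tt N122753 F534063) (tt N122738 (iv6 D226018)) (tt N122740 F534064))

theorem closedN : ∀ i, i < N → P i := Q122760

end Cfsg.Agent.Helper17.ONTC
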