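import Cfsg.Agent.Helper17.ONTC.Base

set_option autoImplicit false
set_option linter.all false

noncomputable section

namespace Cfsg.Agent.Helper17.ONTC

theorem c0_1 {p0 p1 q1 q2 q3 q4 q5 : Q} (h0 : act 3 p0 = p1) (h1 : act 2 q1 = q2) (h2 : act 3 q2 = q3) (h3 : act 2 q3 = q4) (h4 : act 3 q4 = q5) (h5 : act 2 q5 = p0) : p1 = q1 := by
  have hr := R0 p0
  subst h0
  subst h5
  subst h4
  subst h3
  subst h2
  subst h1
  exact ij (ij (ij (ij (ij (hr)))))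

theorem c0_2 {p0 p1 p2 q2 q3 q4 q5 : Q} (h0 : act 3 p0 = p1) (h1 : act 2 p1 = p2) (h2 : act 3 q2 = q3) (h3 : act 2 q3 = q4) (h4 : act 3 q4 = q5) (h5 : act 2 q5 = p0) : p2 = q2 := by
  have hr := R0 p0
  subst h0
  subst h1
  subst h5
  subst h4
  subst h3
  subst h2
  exact ij (ij (ij (ij (hr))))

theorem c0_3 {p0 p1 p2 p3 q3 q4 q5 : Q} (h0 : act 3 p0 = p1) (h1 : act 2 p1 = p2) (h2 : act 3 p2 = p3) (h3 : act 2 q3 = q4) (h4 : act 3 q4 = q5) (h5 : act 2 q5 = p0) : p3 = q3 := by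
  have hr := R0 p0
  subst h0
  subst h1
  subst h2
  subst h5
  subst h4
  subst h3
  exact ij (ij (ij (hr)))

theorem c0_4 {p0 p1 p2 p3 p4 q4 q5 : Q} (h0 : act 3 p0 = p1) (h1 : act 2 p1 = p2) (h2 : act 3 p2 = p3) (h3 : act 2 p3 = p4) (h4 : act 3 q4 = q5) (h5 : act 2 q5 = p0) : p4 = q4 := by
  have hr := R0 p0
  subst h0
  subst h1
  subst h2
  subst h3
  subst h5
  subst h4
  exact ij (ij (hr))

theorem c0_5 {p0 p1 p2 p3 p4 p5 q5 : Q} (h0 : act 3 p0 = p1) (h1 : act 2 p1 = p2) (h2 : act 3 p2 = p3) (h3 : act 2 p3 = p4) (h4 : act 3 p4 = p5) (h5 : act 2 q5 = p0) : p5 = q5 := by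
  have hr := R0 p0
  subst h0
  subst h1
  subst h2
  subst h3
  subst h4
  subst h5
  exact ij (hr)

theorem c0_6 {p0 p1 p2 p3 p4 p5 p6 : Q} (h0 : act 3 p0 = p1) (h1 : act 2 p1 = p2) (h2 : act 3 p2 = p3) (h3 : act 2 p3 = p4) (h4 : act 3 p4 = p5) (h5 : act 2 p5 = p6) : p6 = p0 := by
  have hr := R0 p0
  subst h0
  subst h1
  subst h2
  subst h3
  subst h4
  subst h5
  exact hr

theorem c1_1 {p0 p1 q1 q2 q3 : Q} (h0 : act 4 p0 = p1) (h1 : act 2 q1 = q2) (h2 : act 4 q2 = q3) (h3 : act 2 q3 = p0) : p1 = q1 := by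
  have hr := R1 p0
  subst h0
  subst h3
  subst h2
  subst h1
  exact ij (ij (ij (hr)))

theorem c1_2 {p0 p1 p2 q2 q3 : Q} (h0 : act 4 p0 = p1) (h1 : act 2 p1 = p2) (h2 : act 4 q2 = q3) (h3 : act 2 q3 = p0) : p2 = q2 := by
  have hr := R1 p0
  subst h0
  subst h1
  subst h3
  subst h2
  exact ij (ij (hr))

theorem c1_3 {p0 p1 p2 p3 q3 : Q} (h0 : act 4 p0 = p1) (h1 : act 2 p1 = p2) (h2 : act 4 p2 = p3) (h3 : act 2 q3 = p0) : p3 = q3 := by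
  have hr := R1 p0
  subst h0
  subst h1
  subst h2
  subst h3
  exact ij (hr)

theorem c1_4 {p0 p1 p2 p3 p4 : Q} (h0 : act 4 p0 = p1) (h1 : act 2 p1 = p2) (h2 : act 4 p2 = p3) (h3 : act 2 p3 = p4) : p4 = p0 := by
  have hr := R1 p0
  subst h0
  subst h1
  subst h2
  subst h3
  exact hr

theorem c2_1 {p0 p1 q1 q2 q3 : Q} (h0 : act 5 p0 = p1) (h1 : act 2 q1 = q2) (h2 : act 5 q2 = q3) (h3 : act 2 q3 = p0) : p1 = q1 := by
  have hr := R2 p0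
  subst h0
  subst h3
  subst h2
  subst h1
  exact ij (ij (ij (hr)))

theorem c2_2 {p0 p1 p2 q2 q3 : Q} (h0 : act 5 p0 = p1) (h1 : act 2 p1 = p2) (h2 : act 5 q2 = q3) (h3 : act 2 q3 = p0) : p2 = q2 := by
  have hr := R2 p0
  subst h0
  subst h1
  subst h3
  subst h2
  exact ij (ij (hr))

theorem c2_3 {p0 p1 p2 p3 q3 : Q} (h0 : act 5 p0 = p1) (h1 : act 2 p1 = p2) (h2 : act 5 p2 = p3) (h3 : act 2 q3 = p0) : p3 = q3 := by
  have hr := R2 p0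
  subst h0
  subst h1
  subst h2
  subst h3
  exact ij (hr)

theorem c2_4 {p0 p1 p2 p3 p4 : Q} (h0 : act 5 p0 = p1) (h1 : act 2 p1 = p2) (h2 : act 5 p2 = p3) (h3 : act 2 p3 = p4) : p4 = p0 := by
  have hr := R2 p0
  subst h0
  subst h1
  subst h2
  subst h3
  exact hr

theorem c3_1 {p0 p1 q1 q2 q3 : Q} (h0 : act 6 p0 = p1) (h1 : act 2 q1 = q2) (h2 : act 6 q2 = q3) (h3 : act 2 q3 = p0) : p1 = q1 := by
  have hr := R3 p0
  subst h0
  subst h3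
  subst h2
  subst h1
  exact ij (ij (ij (hr)))

theorem c3_2 {p0 p1 p2 q2 q3 : Q} (h0 : act 6 p0 = p1) (h1 : act 2 p1 = p2) (h2 : act 6 q2 = q3) (h3 : act 2 q3 = p0) : p2 = q2 := by
  have hr := R3 p0
  subst h0
  subst h1
  subst h3
  subst h2
  exact ij (ij (hr))

theorem c3_3 {p0 p1 p2 p3 q3 : Q} (h0 : act 6 p0 = p1) (h1 : act 2 p1 = p2) (h2 : act 6 p2 = p3) (h3 : act 2 q3 = p0) : p3 = q3 := by
  have hr := R3 p0
  subst h0
  subst h1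
  subst h2
  subst h3
  exact ij (hr)

theorem c3_4 {p0 p1 p2 p3 p4 : Q} (h0 : act 6 p0 = p1) (h1 : act 2 p1 = p2) (h2 : act 6 p2 = p3) (h3 : act 2 p3 = p4) : p4 = p0 := by
  have hr := R3 p0
  subst h0
  subst h1
  subst h2
  subst h3
  exact hr

theorem c4_1 {p0 p1 q1 q2 q3 : Q} (h0 : act 7 p0 = p1) (h1 : act 2 q1 = q2) (h2 : act 7 q2 = q3) (h3 : act 2 q3 = p0) : p1 = q1 := by
  have hr := R4 p0
  subst h0
  subst h3
  subst h2
  subst h1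
  exact ij (ij (ij (hr)))

theorem c4_2 {p0 p1 p2 q2 q3 : Q} (h0 : act 7 p0 = p1) (h1 : act 2 p1 = p2) (h2 : act 7 q2 = q3) (h3 : act 2 q3 = p0) : p2 = q2 := by
  have hr := R4 p0
  subst h0
  subst h1
  subst h3
  subst h2
  exact ij (ij (hr))

theorem c4_3 {p0 p1 p2 p3 q3 : Q} (h0 : act 7 p0 = p1) (h1 : act 2 p1 = p2) (h2 : act 7 p2 = p3) (h3 : act 2 q3 = p0) : p3 = q3 := by
  have hr := R4 p0
  subst h0
  subst h1
  subst h2
  subst h3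
  exact ij (hr)

theorem c4_4 {p0 p1 p2 p3 p4 : Q} (h0 : act 7 p0 = p1) (h1 : act 2 p1 = p2) (h2 : act 7 p2 = p3) (h3 : act 2 p3 = p4) : p4 = p0 := by
  have hr := R4 p0
  subst h0
  subst h1
  subst h2
  subst h3
  exact hr

theorem c5_1 {p0 p1 q1 q2 q3 q4 q5 : Q} (h0 : act 4 p0 = p1) (h1 : act 3 q1 = q2) (h2 : act 4 q2 = q3) (h3 : act 3 q3 = q4) (h4 : act 4 q4 = q5) (h5 : act 3 q5 = p0) : p1 = q1 := by
  have hr := R5 p0
  subst h0
  subst h5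
  subst h4
  subst h3
  subst h2
  subst h1
  exact ij (ij (ij (ij (ij (hr)))))

theorem c5_2 {p0 p1 p2 q2 q3 q4 q5 : Q} (h0 : act 4 p0 = p1) (h1 : act 3 p1 = p2) (h2 : act 4 q2 = q3) (h3 : act 3 q3 = q4) (h4 : act 4 q4 = q5) (h5 : act 3 q5 = p0) : p2 = q2 := by
  have hr := R5 p0
  subst h0
  subst h1
  subst h5
  subst h4
  subst h3
  subst h2
  exact ij (ij (ij (ij (hr))))

theorem c5_3 {p0 p1 p2 p3 q3 q4 q5 : Q} (h0 : act 4 p0 = p1) (h1 : act 3 p1 = p2) (h2 : act 4 p2 = p3) (h3 : act 3 q3 = q4) (h4 : act 4 q4 = q5) (h5 : act 3 q5 = p0) : p3 = q3 := by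
  have hr := R5 p0
  subst h0
  subst h1
  subst h2
  subst h5
  subst h4
  subst h3
  exact ij (ij (ij (hr)))

theorem c5_4 {p0 p1 p2 p3 p4 q4 q5 : Q} (h0 : act 4 p0 = p1) (h1 : act 3 p1 = p2) (h2 : act 4 p2 = p3) (h3 : act 3 p3 = p4) (h4 : act 4 q4 = q5) (h5 : act 3 q5 = p0) : p4 = q4 := by
  have hr := R5 p0
  subst h0
  subst h1
  subst h2
  subst h3
  subst h5
  subst h4
  exact ij (ij (hr))

theorem c5_5 {p0 p1 p2 p3 p4 p5 q5 : Q} (h0 : act 4 p0 = p1) (h1 : act 3 p1 = p2) (h2 : act 4 p2 = p3) (h3 : act 3 p3 = p4) (h4 : act 4 p4 = p5) (h5 : act 3 q5 = p0) : p5 = q5 := by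
  have hr := R5 p0
  subst h0
  subst h1
  subst h2
  subst h3
  subst h4
  subst h5
  exact ij (hr)

theorem c5_6 {p0 p1 p2 p3 p4 p5 p6 : Q} (h0 : act 4 p0 = p1) (h1 : act 3 p1 = p2) (h2 : act 4 p2 = p3) (h3 : act 3 p3 = p4) (h4 : act 4 p4 = p5) (h5 : act 3 p5 = p6) : p6 = p0 := by
  have hr := R5 p0
  subst h0
  subst h1
  subst h2
  subst h3
  subst h4
  subst h5
  exact hr

theorem c6_1 {p0 p1 q1 q2 q3 : Q} (h0 : act 5 p0 = p1) (h1 : act 3 q1 = q2) (h2 : act 5 q2 = q3) (h3 : act 3 q3 = p0) : p1 = q1 := by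
  have hr := R6 p0
  subst h0
  subst h3
  subst h2
  subst h1
  exact ij (ij (ij (hr)))

theorem c6_2 {p0 p1 p2 q2 q3 : Q} (h0 : act 5 p0 = p1) (h1 : act 3 p1 = p2) (h2 : act 5 q2 = q3) (h3 : act 3 q3 = p0) : p2 = q2 := by
  have hr := R6 p0
  subst h0
  subst h1
  subst h3
  subst h2
  exact ij (ij (hr))

theorem c6_3 {p0 p1 p2 p3 q3 : Q} (h0 : act 5 p0 = p1) (h1 : act 3 p1 = p2) (h2 : act 5 p2 = p3) (h3 : act 3 q3 = p0) : p3 = q3 := by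
  have hr := R6 p0
  subst h0
  subst h1
  subst h2
  subst h3
  exact ij (hr)

theorem c6_4 {p0 p1 p2 p3 p4 : Q} (h0 : act 5 p0 = p1) (h1 : act 3 p1 = p2) (h2 : act 5 p2 = p3) (h3 : act 3 p3 = p4) : p4 = p0 := by
  have hr := R6 p0
  subst h0
  subst h1
  subst h2
  subst h3
  exact hr

theorem c7_1 {p0 p1 q1 q2 q3 : Q} (h0 : act 6 p0 = p1) (h1 : act 3 q1 = q2) (h2 : act 6 q2 = q3) (h3 : act 3 q3 = p0) : p1 = q1 := by
  have hr := R7 p0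
  subst h0
  subst h3
  subst h2
  subst h1
  exact ij (ij (ij (hr)))

theorem c7_2 {p0 p1 p2 q2 q3 : Q} (h0 : act 6 p0 = p1) (h1 : act 3 p1 = p2) (h2 : act 6 q2 = q3) (h3 : act 3 q3 = p0) : p2 = q2 := by
  have hr := R7 p0
  subst h0
  subst h1
  subst h3
  subst h2
  exact ij (ij (hr))

theorem c7_3 {p0 p1 p2 p3 q3 : Q} (h0 : act 6 p0 = p1) (h1 : act 3 p1 = p2) (h2 : act 6 p2 = p3) (h3 : act 3 q3 = p0) : p3 = q3 := by
  have hr := R7 p0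
  subst h0
  subst h1
  subst h2
  subst h3
  exact ij (hr)

theorem c7_4 {p0 p1 p2 p3 p4 : Q} (h0 : act 6 p0 = p1) (h1 : act 3 p1 = p2) (h2 : act 6 p2 = p3) (h3 : act 3 p3 = p4) : p4 = p0 := by
  have hr := R7 p0
  subst h0
  subst h1
  subst h2
  subst h3
  exact hr

theorem c8_1 {p0 p1 q1 q2 q3 : Q} (h0 : act 7 p0 = p1) (h1 : act 3 q1 = q2) (h2 : act 7 q2 = q3) (h3 : act 3 q3 = p0) : p1 = q1 := by
  have hr := R8 p0
  subst h0
  subst h3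
  subst h2
  subst h1
  exact ij (ij (ij (hr)))

theorem c8_2 {p0 p1 p2 q2 q3 : Q} (h0 : act 7 p0 = p1) (h1 : act 3 p1 = p2) (h2 : act 7 q2 = q3) (h3 : act 3 q3 = p0) : p2 = q2 := by
  have hr := R8 p0
  subst h0
  subst h1
  subst h3
  subst h2
  exact ij (ij (hr))

theorem c8_3 {p0 p1 p2 p3 q3 : Q} (h0 : act 7 p0 = p1) (h1 : act 3 p1 = p2) (h2 : act 7 p2 = p3) (h3 : act 3 q3 = p0) : p3 = q3 := by
  have hr := R8 p0
  subst h0
  subst h1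
  subst h2
  subst h3
  exact ij (hr)

theorem c8_4 {p0 p1 p2 p3 p4 : Q} (h0 : act 7 p0 = p1) (h1 : act 3 p1 = p2) (h2 : act 7 p2 = p3) (h3 : act 3 p3 = p4) : p4 = p0 := by
  have hr := R8 p0
  subst h0
  subst h1
  subst h2
  subst h3
  exact hr

theorem c9_2 {p0 p1 p2 q2 q3 q4 q5 q6 q7 q8 q9 q10 q11 q12 q13 q14 q15 : Q} (h0 : act 5 p0 = p1) (h1 : act 4 p1 = p2) (h2 : act 5 q2 = q3) (h3 : act 4 q3 = q4) (h4 : act 5 q4 = q5) (h5 : act 4 q5 = q6) (h6 : act 5 q6 = q7) (h7 : act 4 q7 = q8) (h8 : act 5 q8 = q9) (h9 : act 4 q9 = q10) (h10 : act 5 q10 = q11) (h11 : act 4 q11 = q12) (h12 : act 5 q12 = q13) (h13 : act 4 q13 = q14) (h14 : act 5 q14 = q15) (h15 : act 4 q15 = p0) : p2 = q2 := by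
  have hr := R9 p0
  subst h0
  subst h1
  subst h15
  subst h14
  subst h13
  subst h12
  subst h11
  subst h10
  subst h9
  subst h8
  subst h7
  subst h6
  subst h5
  subst h4
  subst h3
  subst h2
  exact ij (ij (ij (ij (ij (ij (ij (ij (ij (ij (ij (ij (ij (ij (hr))))))))))))))

theorem c9_3 {p0 p1 p2 p3 q3 q4 q5 q6 q7 q8 q9 q10 q11 q12 q13 q14 q15 : Q} (h0 : act 5 p0 = p1) (h1 : act 4 p1 = p2) (h2 : act 5 p2 = p3) (h3 : act 4 q3 = q4) (h4 : act 5 q4 = q5) (h5 : act 4 q5 = q6) (h6 : act 5 q6 = q7) (h7 : act 4 q7 = q8) (h8 : act 5 q8 = q9) (h9 : act 4 q9 = q10) (h10 : act 5 q10 = q11) (h11 : act 4 q11 = q12) (h12 : act 5 q12 = q13) (h13 : act 4 q13 = q14) (h14 : act 5 q14 = q15) (h15 : act 4 q15 = p0) : p3 = q3 := by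
  have hr := R9 p0
  subst h0
  subst h1
  subst h2
  subst h15
  subst h14
  subst h13
  subst h12
  subst h11
  subst h10
  subst h9
  subst h8
  subst h7
  subst h6
  subst h5
  subst h4
  subst h3
  exact ij (ij (ij (ij (ij (ij (ij (ij (ij (ij (ij (ij (ij (hr)))))))))))))

theorem c9_7 {p0 p1 p2 p3 p4 p5 p6 p7 q7 q8 q9 q10 q11 q12 q13 q14 q15 : Q} (h0 : act 5 p0 = p1) (h1 : act 4 p1 = p2) (h2 : act 5 p2 = p3) (h3 : act 4 p3 = p4) (h4 : act 5 p4 = p5) (h5 : act 4 p5 = p6) (h6 : act 5 p6 = p7) (h7 : act 4 q7 = q8) (h8 : act 5 q8 = q9) (h9 : act 4 q9 = q10) (h10 : act 5 q10 = q11) (h11 : act 4 q11 = q12) (h12 : act 5 q12 = q13) (h13 : act 4 q13 = q14) (h14 : act 5 q14 = q15) (h15 : act 4 q15 = p0) : p7 = q7 := by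
  have hr := R9 p0
  subst h0
  subst h1
  subst h2
  subst h3
  subst h4
  subst h5
  subst h6
  subst h15
  subst h14
  subst h13
  subst h12
  subst h11
  subst h10
  subst h9
  subst h8
  subst h7
  exact ij (ij (ij (ij (ij (ij (ij (ij (ij (hr)))))))))

theorem c9_8 {p0 p1 p2 p3 p4 p5 p6 p7 p8 q8 q9 q10 q11 q12 q13 q14 q15 : Q} (h0 : act 5 p0 = p1) (h1 : act 4 p1 = p2) (h2 : act 5 p2 = p3) (h3 : act 4 p3 = p4) (h4 : act 5 p4 = p5) (h5 : act 4 p5 = p6) (h6 : act 5 p6 = p7) (h7 : act 4 p7 = p8) (h8 : act 5 q8 = q9) (h9 : act 4 q9 = q10) (h10 : act 5 q10 = q11) (h11 : act 4 q11 = q12) (h12 : act 5 q12 = q13) (h13 : act 4 q13 = q14) (h14 : act 5 q14 = q15) (h15 : act 4 q15 = p0) : p8 = q8 := by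
  have hr := R9 p0
  subst h0
  subst h1
  subst h2
  subst h3
  subst h4
  subst h5
  subst h6
  subst h7
  subst h15
  subst h14
  subst h13
  subst h12
  subst h11
  subst h10
  subst h9
  subst h8
  exact ij (ij (ij (ij (ij (ij (ij (ij (hr))))))))

theorem c9_9 {p0 p1 p2 p3 p4 p5 p6 p7 p8 p9 q9 q10 q11 q12 q13 q14 q15 : Q} (h0 : act 5 p0 = p1) (h1 : act 4 p1 = p2) (h2 : act 5 p2 = p3) (h3 : act 4 p3 = p4) (h4 : act 5 p4 = p5) (h5 : act 4 p5 = p6) (h6 : act 5 p6 = p7) (h7 : act 4 p7 = p8) (h8 : act 5 p8 = p9) (h9 : act 4 q9 = q10) (h10 : act 5 q10 = q11) (h11 : act 4 q11 = q12) (h12 : act 5 q12 = q13) (h13 : act 4 q13 = q14) (h14 : act 5 q14 = q15) (h15 : act 4 q15 = p0) : p9 = q9 := by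
  have hr := R9 p0
  subst h0
  subst h1
  subst h2
  subst h3
  subst h4
  subst h5
  subst h6
  subst h7
  subst h8
  subst h15
  subst h14
  subst h13
  subst h12
  subst h11
  subst h10
  subst h9
  exact ij (ij (ij (ij (ij (ij (ij (hr)))))))

theorem c9_10 {p0 p1 p2 p3 p4 p5 p6 p7 p8 p9 p10 q10 q11 q12 q13 q14 q15 : Q} (h0 : act 5 p0 = p1) (h1 : act 4 p1 = p2) (h2 : act 5 p2 = p3) (h3 : act 4 p3 = p4) (h4 : act 5 p4 = p5) (h5 : act 4 p5 = p6) (h6 : act 5 p6 = p7) (h7 : act 4 p7 = p8) (h8 : act 5 p8 = p9) (h9 : act 4 p9 = p10) (h10 : act 5 q10 = q11) (h11 : act 4 q11 = q12) (h12 : act 5 q12 = q13) (h13 : act 4 q13 = q14) (h14 : act 5 q14 = q15) (h15 : act 4 q15 = p0) : p10 = q10 := by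
  have hr := R9 p0
  subst h0
  subst h1
  subst h2
  subst h3
  subst h4
  subst h5
  subst h6
  subst h7
  subst h8
  subst h9
  subst h15
  subst h14
  subst h13
  subst h12
  subst h11
  subst h10
  exact ij (ij (ij (ij (ij (ij (hr))))))

theorem c9_11 {p0 p1 p2 p3 p4 p5 p6 p7 p8 p9 p10 p11 q11 q12 q13 q14 q15 : Q} (h0 : act 5 p0 = p1) (h1 : act 4 p1 = p2) (h2 : act 5 p2 = p3) (h3 : act 4 p3 = p4) (h4 : act 5 p4 = p5) (h5 : act 4 p5 = p6) (h6 : act 5 p6 = p7) (h7 : act 4 p7 = p8) (h8 : act 5 p8 = p9) (h9 : act 4 p9 = p10) (h10 : act 5 p10 = p11) (h11 : act 4 q11 = q12) (h12 : act 5 q12 = q13) (h13 : act 4 q13 = q14) (h14 : act 5 q14 = q15) (h15 : act 4 q15 = p0) : p11 = q11 := by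
  have hr := R9 p0
  subst h0
  subst h1
  subst h2
  subst h3
  subst h4
  subst h5
  subst h6
  subst h7
  subst h8
  subst h9
  subst h10
  subst h15
  subst h14
  subst h13
  subst h12
  subst h11
  exact ij (ij (ij (ij (ij (hr)))))

theorem c9_12 {p0 p1 p2 p3 p4 p5 p6 p7 p8 p9 p10 p11 p12 q12 q13 q14 q15 : Q} (h0 : act 5 p0 = p1) (h1 : act 4 p1 = p2) (h2 : act 5 p2 = p3) (h3 : act 4 p3 = p4) (h4 : act 5 p4 = p5) (h5 : act 4 p5 = p6) (h6 : act 5 p6 = p7) (h7 : act 4 p7 = p8) (h8 : act 5 p8 = p9) (h9 : act 4 p9 = p10) (h10 : act 5 p10 = p11) (h11 : act 4 p11 = p12) (h12 : act 5 q12 = q13) (h13 : act 4 q13 = q14) (h14 : act 5 q14 = q15) (h15 : act 4 q15 = p0) : p12 = q12 := by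
  have hr := R9 p0
  subst h0
  subst h1
  subst h2
  subst h3
  subst h4
  subst h5
  subst h6
  subst h7
  subst h8
  subst h9
  subst h10
  subst h11
  subst h15
  subst h14
  subst h13
  subst h12
  exact ij (ij (ij (ij (hr))))

theorem c9_13 {p0 p1 p2 p3 p4 p5 p6 p7 p8 p9 p10 p11 p12 p13 q13 q14 q15 : Q} (h0 : act 5 p0 = p1) (h1 : act 4 p1 = p2) (h2 : act 5 p2 = p3) (h3 : act 4 p3 = p4) (h4 : act 5 p4 = p5) (h5 : act 4 p5 = p6) (h6 : act 5 p6 = p7) (h7 : act 4 p7 = p8) (h8 : act 5 p8 = p9) (h9 : act 4 p9 = p10) (h10 : act 5 p10 = p11) (h11 : act 4 p11 = p12) (h12 : act 5 p12 = p13) (h13 : act 4 q13 = q14) (h14 : act 5 q14 = q15) (h15 : act 4 q15 = p0) : p13 = q13 := by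
  have hr := R9 p0
  subst h0
  subst h1
  subst h2
  subst h3
  subst h4
  subst h5
  subst h6
  subst h7
  subst h8
  subst h9
  subst h10
  subst h11
  subst h12
  subst h15
  subst h14
  subst h13
  exact ij (ij (ij (hr)))

theorem c9_15 {p0 p1 p2 p3 p4 p5 p6 p7 p8 p9 p10 p11 p12 p13 p14 p15 q15 : Q} (h0 : act 5 p0 = p1) (h1 : act 4 p1 = p2) (h2 : act 5 p2 = p3) (h3 : act 4 p3 = p4) (h4 : act 5 p4 = p5) (h5 : act 4 p5 = p6) (h6 : act 5 p6 = p7) (h7 : act 4 p7 = p8) (h8 : act 5 p8 = p9) (h9 : act 4 p9 = p10) (h10 : act 5 p10 = p11) (h11 : act 4 p11 = p12) (h12 : act 5 p12 = p13) (h13 : act 4 p13 = p14) (h14 : act 5 p14 = p15) (h15 : act 4 q15 = p0) : p15 = q15 := by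
  have hr := R9 p0
  subst h0
  subst h1
  subst h2
  subst h3
  subst h4
  subst h5
  subst h6
  subst h7
  subst h8
  subst h9
  subst h10
  subst h11
  subst h12
  subst h13
  subst h14
  subst h15
  exact ij (hr)

theorem c9_16 {p0 p1 p2 p3 p4 p5 p6 p7 p8 p9 p10 p11 p12 p13 p14 p15 p16 : Q} (h0 : act 5 p0 = p1) (h1 : act 4 p1 = p2) (h2 : act 5 p2 = p3) (h3 : act 4 p3 = p4) (h4 : act 5 p4 = p5) (h5 : act 4 p5 = p6) (h6 : act 5 p6 = p7) (h7 : act 4 p7 = p8) (h8 : act 5 p8 = p9) (h9 : act 4 p9 = p10) (h10 : act 5 p10 = p11) (h11 : act 4 p11 = p12) (h12 : act 5 p12 = p13) (h13 : act 4 p13 = p14) (h14 : act 5 p14 = p15) (h15 : act 4 p15 = p16) : p16 = p0 := by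
  have hr := R9 p0
  subst h0
  subst h1
  subst h2
  subst h3
  subst h4
  subst h5
  subst h6
  subst h7
  subst h8
  subst h9
  subst h10
  subst h11
  subst h12
  subst h13
  subst h14
  subst h15
  exact hr

theorem c10_1 {p0 p1 q1 q2 q3 : Q} (h0 : act 6 p0 = p1) (h1 : act 4 q1 = q2) (h2 : act 6 q2 = q3) (h3 : act 4 q3 = p0) : p1 = q1 := by
  have hr := R10 p0
  subst h0
  subst h3
  subst h2
  subst h1
  exact ij (ij (ij (hr)))

theorem c10_2 {p0 p1 p2 q2 q3 : Q} (h0 : act 6 p0 = p1) (h1 : act 4 p1 = p2) (h2 : act 6 q2 = q3) (h3 : act 4 q3 = p0) : p2 = q2 := by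
  have hr := R10 p0
  subst h0
  subst h1
  subst h3
  subst h2
  exact ij (ij (hr))

theorem c10_3 {p0 p1 p2 p3 q3 : Q} (h0 : act 6 p0 = p1) (h1 : act 4 p1 = p2) (h2 : act 6 p2 = p3) (h3 : act 4 q3 = p0) : p3 = q3 := by
  have hr := R10 p0
  subst h0
  subst h1
  subst h2
  subst h3
  exact ij (hr)

theorem c10_4 {p0 p1 p2 p3 p4 : Q} (h0 : act 6 p0 = p1) (h1 : act 4 p1 = p2) (h2 : act 6 p2 = p3) (h3 : act 4 p3 = p4) : p4 = p0 := by
  have hr := R10 p0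
  subst h0
  subst h1
  subst h2
  subst h3
  exact hr

theorem c11_1 {p0 p1 q1 q2 q3 : Q} (h0 : act 7 p0 = p1) (h1 : act 4 q1 = q2) (h2 : act 7 q2 = q3) (h3 : act 4 q3 = p0) : p1 = q1 := by
  have hr := R11 p0
  subst h0
  subst h3
  subst h2
  subst h1
  exact ij (ij (ij (hr)))

theorem c11_2 {p0 p1 p2 q2 q3 : Q} (h0 : act 7 p0 = p1) (h1 : act 4 p1 = p2) (h2 : act 7 q2 = q3) (h3 : act 4 q3 = p0) : p2 = q2 := by
  have hr := R11 p0
  subst h0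
  subst h1
  subst h3
  subst h2
  exact ij (ij (hr))

theorem c11_3 {p0 p1 p2 p3 q3 : Q} (h0 : act 7 p0 = p1) (h1 : act 4 p1 = p2) (h2 : act 7 p2 = p3) (h3 : act 4 q3 = p0) : p3 = q3 := by
  have hr := R11 p0
  subst h0
  subst h1
  subst h2
  subst h3
  exact ij (hr)

theorem c11_4 {p0 p1 p2 p3 p4 : Q} (h0 : act 7 p0 = p1) (h1 : act 4 p1 = p2) (h2 : act 7 p2 = p3) (h3 : act 4 p3 = p4) : p4 = p0 := by
  have hr := R11 p0
  subst h0
  subst h1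
  subst h2
  subst h3
  exact hr

theorem c12_1 {p0 p1 q1 q2 q3 q4 q5 : Q} (h0 : act 6 p0 = p1) (h1 : act 5 q1 = q2) (h2 : act 6 q2 = q3) (h3 : act 5 q3 = q4) (h4 : act 6 q4 = q5) (h5 : act 5 q5 = p0) : p1 = q1 := by
  have hr := R12 p0
  subst h0
  subst h5
  subst h4
  subst h3
  subst h2
  subst h1
  exact ij (ij (ij (ij (ij (hr)))))

theorem c12_2 {p0 p1 p2 q2 q3 q4 q5 : Q} (h0 : act 6 p0 = p1) (h1 : act 5 p1 = p2) (h2 : act 6 q2 = q3) (h3 : act 5 q3 = q4) (h4 : act 6 q4 = q5) (h5 : act 5 q5 = p0) : p2 = q2 := by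
  have hr := R12 p0
  subst h0
  subst h1
  subst h5
  subst h4
  subst h3
  subst h2
  exact ij (ij (ij (ij (hr))))

theorem c12_3 {p0 p1 p2 p3 q3 q4 q5 : Q} (h0 : act 6 p0 = p1) (h1 : act 5 p1 = p2) (h2 : act 6 p2 = p3) (h3 : act 5 q3 = q4) (h4 : act 6 q4 = q5) (h5 : act 5 q5 = p0) : p3 = q3 := by
  have hr := R12 p0
  subst h0
  subst h1
  subst h2
  subst h5
  subst h4
  subst h3
  exact ij (ij (ij (hr)))

theorem c12_4 {p0 p1 p2 p3 p4 q4 q5 : Q} (h0 : act 6 p0 = p1) (h1 : act 5 p1 = p2) (h2 : act 6 p2 = p3) (h3 : act 5 p3 = p4) (h4 : act 6 q4 = q5) (h5 : act 5 q5 = p0) : p4 = q4 := by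
  have hr := R12 p0
  subst h0
  subst h1
  subst h2
  subst h3
  subst h5
  subst h4
  exact ij (ij (hr))

theorem c12_5 {p0 p1 p2 p3 p4 p5 q5 : Q} (h0 : act 6 p0 = p1) (h1 : act 5 p1 = p2) (h2 : act 6 p2 = p3) (h3 : act 5 p3 = p4) (h4 : act 6 p4 = p5) (h5 : act 5 q5 = p0) : p5 = q5 := by
  have hr := R12 p0
  subst h0
  subst h1
  subst h2
  subst h3
  subst h4
  subst h5
  exact ij (hr)

theorem c12_6 {p0 p1 p2 p3 p4 p5 p6 : Q} (h0 : act 6 p0 = p1) (h1 : act 5 p1 = p2) (h2 : act 6 p2 = p3) (h3 : act 5 p3 = p4) (h4 : act 6 p4 = p5) (h5 : act 5 p5 = p6) : p6 = p0 := by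
  have hr := R12 p0
  subst h0
  subst h1
  subst h2
  subst h3
  subst h4
  subst h5
  exact hr

theorem c13_1 {p0 p1 q1 q2 q3 : Q} (h0 : act 7 p0 = p1) (h1 : act 5 q1 = q2) (h2 : act 7 q2 = q3) (h3 : act 5 q3 = p0) : p1 = q1 := by
  have hr := R13 p0
  subst h0
  subst h3
  subst h2
  subst h1
  exact ij (ij (ij (hr)))

theorem c13_2 {p0 p1 p2 q2 q3 : Q} (h0 : act 7 p0 = p1) (h1 : act 5 p1 = p2) (h2 : act 7 q2 = q3) (h3 : act 5 q3 = p0) : p2 = q2 := by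
  have hr := R13 p0
  subst h0
  subst h1
  subst h3
  subst h2
  exact ij (ij (hr))

theorem c13_3 {p0 p1 p2 p3 q3 : Q} (h0 : act 7 p0 = p1) (h1 : act 5 p1 = p2) (h2 : act 7 p2 = p3) (h3 : act 5 q3 = p0) : p3 = q3 := by
  have hr := R13 p0
  subst h0
  subst h1
  subst h2
  subst h3
  exact ij (hr)

theorem c13_4 {p0 p1 p2 p3 p4 : Q} (h0 : act 7 p0 = p1) (h1 : act 5 p1 = p2) (h2 : act 7 p2 = p3) (h3 : act 5 p3 = p4) : p4 = p0 := by
  have hr := R13 p0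
  subst h0
  subst h1
  subst h2
  subst h3
  exact hr

theorem c14_1 {p0 p1 q1 q2 q3 q4 q5 : Q} (h0 : act 7 p0 = p1) (h1 : act 6 q1 = q2) (h2 : act 7 q2 = q3) (h3 : act 6 q3 = q4) (h4 : act 7 q4 = q5) (h5 : act 6 q5 = p0) : p1 = q1 := by
  have hr := R14 p0
  subst h0
  subst h5
  subst h4
  subst h3
  subst h2
  subst h1
  exact ij (ij (ij (ij (ij (hr)))))

theorem c14_2 {p0 p1 p2 q2 q3 q4 q5 : Q} (h0 : act 7 p0 = p1) (h1 : act 6 p1 = p2) (h2 : act 7 q2 = q3) (h3 : act 6 q3 = q4) (h4 : act 7 q4 = q5) (h5 : act 6 q5 = p0) : p2 = q2 := by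
  have hr := R14 p0
  subst h0
  subst h1
  subst h5
  subst h4
  subst h3
  subst h2
  exact ij (ij (ij (ij (hr))))

theorem c14_3 {p0 p1 p2 p3 q3 q4 q5 : Q} (h0 : act 7 p0 = p1) (h1 : act 6 p1 = p2) (h2 : act 7 p2 = p3) (h3 : act 6 q3 = q4) (h4 : act 7 q4 = q5) (h5 : act 6 q5 = p0) : p3 = q3 := by
  have hr := R14 p0
  subst h0
  subst h1
  subst h2
  subst h5
  subst h4
  subst h3
  exact ij (ij (ij (hr)))

theorem c14_4 {p0 p1 p2 p3 p4 q4 q5 : Q} (h0 : act 7 p0 = p1) (h1 : act 6 p1 = p2) (h2 : act 7 p2 = p3) (h3 : act 6 p3 = p4) (h4 : act 7 q4 = q5) (h5 : act 6 q5 = p0) : p4 = q4 := by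
  have hr := R14 p0
  subst h0
  subst h1
  subst h2
  subst h3
  subst h5
  subst h4
  exact ij (ij (hr))

theorem c14_5 {p0 p1 p2 p3 p4 p5 q5 : Q} (h0 : act 7 p0 = p1) (h1 : act 6 p1 = p2) (h2 : act 7 p2 = p3) (h3 : act 6 p3 = p4) (h4 : act 7 p4 = p5) (h5 : act 6 q5 = p0) : p5 = q5 := by
  have hr := R14 p0
  subst h0
  subst h1
  subst h2
  subst h3
  subst h4
  subst h5
  exact ij (hr)

theorem c14_6 {p0 p1 p2 p3 p4 p5 p6 : Q} (h0 : act 7 p0 = p1) (h1 : act 6 p1 = p2) (h2 : act 7 p2 = p3) (h3 : act 6 p3 = p4) (h4 : act 7 p4 = p5) (h5 : act 6 p5 = p6) : p6 = p0 := by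
  have hr := R14 p0
  subst h0
  subst h1
  subst h2
  subst h3
  subst h4
  subst h5
  exact hr

theorem c15_1 {p0 p1 q1 q2 q3 : Q} (h0 : act 1 p0 = p1) (h1 : act 1 q1 = q2) (h2 : act 7 q2 = q3) (h3 : act 2 q3 = p0) : p1 = q1 := by
  have hr := R15 p0
  subst h0
  subst h3
  subst h2
  subst h1
  exact ij (ij (ij (hr)))

theorem c15_2 {p0 p1 p2 q2 q3 : Q} (h0 : act 1 p0 = p1) (h1 : act 1 p1 = p2) (h2 : act 7 q2 = q3) (h3 : act 2 q3 = p0) : p2 = q2 := by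
  have hr := R15 p0
  subst h0
  subst h1
  subst h3
  subst h2
  exact ij (ij (hr))

theorem c15_3 {p0 p1 p2 p3 q3 : Q} (h0 : act 1 p0 = p1) (h1 : act 1 p1 = p2) (h2 : act 7 p2 = p3) (h3 : act 2 q3 = p0) : p3 = q3 := by
  have hr := R15 p0
  subst h0
  subst h1
  subst h2
  subst h3
  exact ij (hr)

theorem c15_4 {p0 p1 p2 p3 p4 : Q} (h0 : act 1 p0 = p1) (h1 : act 1 p1 = p2) (h2 : act 7 p2 = p3) (h3 : act 2 p3 = p4) : p4 = p0 := by
  have hr := R15 p0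
  subst h0
  subst h1
  subst h2
  subst h3
  exact hr

theorem c16_1 {p0 p1 q1 q2 q3 q4 q5 q6 q7 q8 q9 : Q} (h0 : act 4 p0 = p1) (h1 : act 5 q1 = q2) (h2 : act 4 q2 = q3) (h3 : act 5 q3 = q4) (h4 : act 4 q4 = q5) (h5 : act 5 q5 = q6) (h6 : act 4 q6 = q7) (h7 : act 5 q7 = q8) (h8 : act 7 q8 = q9) (h9 : act 2 q9 = p0) : p1 = q1 := by
  have hr := R16 p0
  subst h0
  subst h9
  subst h8
  subst h7
  subst h6
  subst h5
  subst h4
  subst h3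
  subst h2
  subst h1
  exact ij (ij (ij (ij (ij (ij (ij (ij (ij (hr)))))))))

theorem c16_2 {p0 p1 p2 q2 q3 q4 q5 q6 q7 q8 q9 : Q} (h0 : act 4 p0 = p1) (h1 : act 5 p1 = p2) (h2 : act 4 q2 = q3) (h3 : act 5 q3 = q4) (h4 : act 4 q4 = q5) (h5 : act 5 q5 = q6) (h6 : act 4 q6 = q7) (h7 : act 5 q7 = q8) (h8 : act 7 q8 = q9) (h9 : act 2 q9 = p0) : p2 = q2 := by
  have hr := R16 p0
  subst h0
  subst h1
  subst h9
  subst h8
  subst h7
  subst h6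
  subst h5
  subst h4
  subst h3
  subst h2
  exact ij (ij (ij (ij (ij (ij (ij (ij (hr))))))))

theorem c16_3 {p0 p1 p2 p3 q3 q4 q5 q6 q7 q8 q9 : Q} (h0 : act 4 p0 = p1) (h1 : act 5 p1 = p2) (h2 : act 4 p2 = p3) (h3 : act 5 q3 = q4) (h4 : act 4 q4 = q5) (h5 : act 5 q5 = q6) (h6 : act 4 q6 = q7) (h7 : act 5 q7 = q8) (h8 : act 7 q8 = q9) (h9 : act 2 q9 = p0) : p3 = q3 := by
  have hr := R16 p0
  subst h0
  subst h1
  subst h2
  subst h9
  subst h8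
  subst h7
  subst h6
  subst h5
  subst h4
  subst h3
  exact ij (ij (ij (ij (ij (ij (ij (hr)))))))

theorem c16_4 {p0 p1 p2 p3 p4 q4 q5 q6 q7 q8 q9 : Q} (h0 : act 4 p0 = p1) (h1 : act 5 p1 = p2) (h2 : act 4 p2 = p3) (h3 : act 5 p3 = p4) (h4 : act 4 q4 = q5) (h5 : act 5 q5 = q6) (h6 : act 4 q6 = q7) (h7 : act 5 q7 = q8) (h8 : act 7 q8 = q9) (h9 : act 2 q9 = p0) : p4 = q4 := by
  have hr := R16 p0
  subst h0
  subst h1
  subst h2
  subst h3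
  subst h9
  subst h8
  subst h7
  subst h6
  subst h5
  subst h4
  exact ij (ij (ij (ij (ij (ij (hr))))))

theorem c16_5 {p0 p1 p2 p3 p4 p5 q5 q6 q7 q8 q9 : Q} (h0 : act 4 p0 = p1) (h1 : act 5 p1 = p2) (h2 : act 4 p2 = p3) (h3 : act 5 p3 = p4) (h4 : act 4 p4 = p5) (h5 : act 5 q5 = q6) (h6 : act 4 q6 = q7) (h7 : act 5 q7 = q8) (h8 : act 7 q8 = q9) (h9 : act 2 q9 = p0) : p5 = q5 := by
  have hr := R16 p0
  subst h0
  subst h1
  subst h2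
  subst h3
  subst h4
  subst h9
  subst h8
  subst h7
  subst h6
  subst h5
  exact ij (ij (ij (ij (ij (hr)))))

theorem c16_6 {p0 p1 p2 p3 p4 p5 p6 q6 q7 q8 q9 : Q} (h0 : act 4 p0 = p1) (h1 : act 5 p1 = p2) (h2 : act 4 p2 = p3) (h3 : act 5 p3 = p4) (h4 : act 4 p4 = p5) (h5 : act 5 p5 = p6) (h6 : act 4 q6 = q7) (h7 : act 5 q7 = q8) (h8 : act 7 q8 = q9) (h9 : act 2 q9 = p0) : p6 = q6 := by
  have hr := R16 p0
  subst h0
  subst h1
  subst h2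
  subst h3
  subst h4
  subst h5
  subst h9
  subst h8
  subst h7
  subst h6
  exact ij (ij (ij (ij (hr))))

theorem c16_7 {p0 p1 p2 p3 p4 p5 p6 p7 q7 q8 q9 : Q} (h0 : act 4 p0 = p1) (h1 : act 5 p1 = p2) (h2 : act 4 p2 = p3) (h3 : act 5 p3 = p4) (h4 : act 4 p4 = p5) (h5 : act 5 p5 = p6) (h6 : act 4 p6 = p7) (h7 : act 5 q7 = q8) (h8 : act 7 q8 = q9) (h9 : act 2 q9 = p0) : p7 = q7 := by
  have hr := R16 p0
  subst h0
  subst h1
  subst h2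
  subst h3
  subst h4
  subst h5
  subst h6
  subst h9
  subst h8
  subst h7
  exact ij (ij (ij (hr)))

theorem c16_8 {p0 p1 p2 p3 p4 p5 p6 p7 p8 q8 q9 : Q} (h0 : act 4 p0 = p1) (h1 : act 5 p1 = p2) (h2 : act 4 p2 = p3) (h3 : act 5 p3 = p4) (h4 : act 4 p4 = p5) (h5 : act 5 p5 = p6) (h6 : act 4 p6 = p7) (h7 : act 5 p7 = p8) (h8 : act 7 q8 = q9) (h9 : act 2 q9 = p0) : p8 = q8 := by
  have hr := R16 p0
  subst h0
  subst h1
  subst h2
  subst h3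
  subst h4
  subst h5
  subst h6
  subst h7
  subst h9
  subst h8
  exact ij (ij (hr))

theorem c16_9 {p0 p1 p2 p3 p4 p5 p6 p7 p8 p9 q9 : Q} (h0 : act 4 p0 = p1) (h1 : act 5 p1 = p2) (h2 : act 4 p2 = p3) (h3 : act 5 p3 = p4) (h4 : act 4 p4 = p5) (h5 : act 5 p5 = p6) (h6 : act 4 p6 = p7) (h7 : act 5 p7 = p8) (h8 : act 7 p8 = p9) (h9 : act 2 q9 = p0) : p9 = q9 := by
  have hr := R16 p0
  subst h0
  subst h1
  subst h2
  subst h3
  subst h4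
  subst h5
  subst h6
  subst h7
  subst h8
  subst h9
  exact ij (hr)

theorem c16_10 {p0 p1 p2 p3 p4 p5 p6 p7 p8 p9 p10 : Q} (h0 : act 4 p0 = p1) (h1 : act 5 p1 = p2) (h2 : act 4 p2 = p3) (h3 : act 5 p3 = p4) (h4 : act 4 p4 = p5) (h5 : act 5 p5 = p6) (h6 : act 4 p6 = p7) (h7 : act 5 p7 = p8) (h8 : act 7 p8 = p9) (h9 : act 2 p9 = p10) : p10 = p0 := by
  have hr := R16 p0
  subst h0
  subst h1
  subst h2
  subst h3
  subst h4
  subst h5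
  subst h6
  subst h7
  subst h8
  subst h9
  exact hr

theorem c17_1 {p0 p1 q1 q2 q3 q4 q5 q6 q7 q8 q9 : Q} (h0 : act 0 p0 = p1) (h1 : act 5 q1 = q2) (h2 : act 0 q2 = q3) (h3 : act 5 q3 = q4) (h4 : act 4 q4 = q5) (h5 : act 5 q5 = q6) (h6 : act 1 q6 = q7) (h7 : act 5 q7 = q8) (h8 : act 1 q8 = q9) (h9 : act 4 q9 = p0) : p1 = q1 := by
  have hr := R17 p0
  subst h0
  subst h9
  subst h8
  subst h7
  subst h6
  subst h5
  subst h4
  subst h3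
  subst h2
  subst h1
  exact ij (ij (ij (ij (ij (ij (ij (ij (ij (hr)))))))))

theorem c17_2 {p0 p1 p2 q2 q3 q4 q5 q6 q7 q8 q9 : Q} (h0 : act 0 p0 = p1) (h1 : act 5 p1 = p2) (h2 : act 0 q2 = q3) (h3 : act 5 q3 = q4) (h4 : act 4 q4 = q5) (h5 : act 5 q5 = q6) (h6 : act 1 q6 = q7) (h7 : act 5 q7 = q8) (h8 : act 1 q8 = q9) (h9 : act 4 q9 = p0) : p2 = q2 := by
  have hr := R17 p0
  subst h0
  subst h1
  subst h9
  subst h8
  subst h7
  subst h6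
  subst h5
  subst h4
  subst h3
  subst h2
  exact ij (ij (ij (ij (ij (ij (ij (ij (hr))))))))

theorem c17_3 {p0 p1 p2 p3 q3 q4 q5 q6 q7 q8 q9 : Q} (h0 : act 0 p0 = p1) (h1 : act 5 p1 = p2) (h2 : act 0 p2 = p3) (h3 : act 5 q3 = q4) (h4 : act 4 q4 = q5) (h5 : act 5 q5 = q6) (h6 : act 1 q6 = q7) (h7 : act 5 q7 = q8) (h8 : act 1 q8 = q9) (h9 : act 4 q9 = p0) : p3 = q3 := by
  have hr := R17 p0
  subst h0
  subst h1
  subst h2
  subst h9
  subst h8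
  subst h7
  subst h6
  subst h5
  subst h4
  subst h3
  exact ij (ij (ij (ij (ij (ij (ij (hr)))))))

theorem c17_4 {p0 p1 p2 p3 p4 q4 q5 q6 q7 q8 q9 : Q} (h0 : act 0 p0 = p1) (h1 : act 5 p1 = p2) (h2 : act 0 p2 = p3) (h3 : act 5 p3 = p4) (h4 : act 4 q4 = q5) (h5 : act 5 q5 = q6) (h6 : act 1 q6 = q7) (h7 : act 5 q7 = q8) (h8 : act 1 q8 = q9) (h9 : act 4 q9 = p0) : p4 = q4 := by
  have hr := R17 p0
  subst h0
  subst h1
  subst h2
  subst h3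
  subst h9
  subst h8
  subst h7
  subst h6
  subst h5
  subst h4
  exact ij (ij (ij (ij (ij (ij (hr))))))

theorem c17_5 {p0 p1 p2 p3 p4 p5 q5 q6 q7 q8 q9 : Q} (h0 : act 0 p0 = p1) (h1 : act 5 p1 = p2) (h2 : act 0 p2 = p3) (h3 : act 5 p3 = p4) (h4 : act 4 p4 = p5) (h5 : act 5 q5 = q6) (h6 : act 1 q6 = q7) (h7 : act 5 q7 = q8) (h8 : act 1 q8 = q9) (h9 : act 4 q9 = p0) : p5 = q5 := by
  have hr := R17 p0
  subst h0
  subst h1
  subst h2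
  subst h3
  subst h4
  subst h9
  subst h8
  subst h7
  subst h6
  subst h5
  exact ij (ij (ij (ij (ij (hr)))))

theorem c17_6 {p0 p1 p2 p3 p4 p5 p6 q6 q7 q8 q9 : Q} (h0 : act 0 p0 = p1) (h1 : act 5 p1 = p2) (h2 : act 0 p2 = p3) (h3 : act 5 p3 = p4) (h4 : act 4 p4 = p5) (h5 : act 5 p5 = p6) (h6 : act 1 q6 = q7) (h7 : act 5 q7 = q8) (h8 : act 1 q8 = q9) (h9 : act 4 q9 = p0) : p6 = q6 := by
  have hr := R17 p0
  subst h0
  subst h1
  subst h2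
  subst h3
  subst h4
  subst h5
  subst h9
  subst h8
  subst h7
  subst h6
  exact ij (ij (ij (ij (hr))))

theorem c17_7 {p0 p1 p2 p3 p4 p5 p6 p7 q7 q8 q9 : Q} (h0 : act 0 p0 = p1) (h1 : act 5 p1 = p2) (h2 : act 0 p2 = p3) (h3 : act 5 p3 = p4) (h4 : act 4 p4 = p5) (h5 : act 5 p5 = p6) (h6 : act 1 p6 = p7) (h7 : act 5 q7 = q8) (h8 : act 1 q8 = q9) (h9 : act 4 q9 = p0) : p7 = q7 := by
  have hr := R17 p0
  subst h0
  subst h1
  subst h2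
  subst h3
  subst h4
  subst h5
  subst h6
  subst h9
  subst h8
  subst h7
  exact ij (ij (ij (hr)))

theorem c17_8 {p0 p1 p2 p3 p4 p5 p6 p7 p8 q8 q9 : Q} (h0 : act 0 p0 = p1) (h1 : act 5 p1 = p2) (h2 : act 0 p2 = p3) (h3 : act 5 p3 = p4) (h4 : act 4 p4 = p5) (h5 : act 5 p5 = p6) (h6 : act 1 p6 = p7) (h7 : act 5 p7 = p8) (h8 : act 1 q8 = q9) (h9 : act 4 q9 = p0) : p8 = q8 := by
  have hr := R17 p0
  subst h0
  subst h1
  subst h2
  subst h3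
  subst h4
  subst h5
  subst h6
  subst h7
  subst h9
  subst h8
  exact ij (ij (hr))

theorem c17_9 {p0 p1 p2 p3 p4 p5 p6 p7 p8 p9 q9 : Q} (h0 : act 0 p0 = p1) (h1 : act 5 p1 = p2) (h2 : act 0 p2 = p3) (h3 : act 5 p3 = p4) (h4 : act 4 p4 = p5) (h5 : act 5 p5 = p6) (h6 : act 1 p6 = p7) (h7 : act 5 p7 = p8) (h8 : act 1 p8 = p9) (h9 : act 4 q9 = p0) : p9 = q9 := by
  have hr := R17 p0
  subst h0
  subst h1
  subst h2
  subst h3
  subst h4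
  subst h5
  subst h6
  subst h7
  subst h8
  subst h9
  exact ij (hr)

theorem c17_10 {p0 p1 p2 p3 p4 p5 p6 p7 p8 p9 p10 : Q} (h0 : act 0 p0 = p1) (h1 : act 5 p1 = p2) (h2 : act 0 p2 = p3) (h3 : act 5 p3 = p4) (h4 : act 4 p4 = p5) (h5 : act 5 p5 = p6) (h6 : act 1 p6 = p7) (h7 : act 5 p7 = p8) (h8 : act 1 p8 = p9) (h9 : act 4 p9 = p10) : p10 = p0 := by
  have hr := R17 p0
  subst h0
  subst h1
  subst h2
  subst h3
  subst h4
  subst h5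
  subst h6
  subst h7
  subst h8
  subst h9
  exact hr

theorem c18_1 {p0 p1 q1 q2 q3 q4 q5 q6 q7 q8 q9 : Q} (h0 : act 0 p0 = p1) (h1 : act 4 q1 = q2) (h2 : act 0 q2 = q3) (h3 : act 4 q3 = q4) (h4 : act 5 q4 = q5) (h5 : act 4 q5 = q6) (h6 : act 1 q6 = q7) (h7 : act 4 q7 = q8) (h8 : act 1 q8 = q9) (h9 : act 5 q9 = p0) : p1 = q1 := by
  have hr := R18 p0
  subst h0
  subst h9
  subst h8
  subst h7
  subst h6
  subst h5
  subst h4
  subst h3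
  subst h2
  subst h1
  exact ij (ij (ij (ij (ij (ij (ij (ij (ij (hr)))))))))

theorem c18_2 {p0 p1 p2 q2 q3 q4 q5 q6 q7 q8 q9 : Q} (h0 : act 0 p0 = p1) (h1 : act 4 p1 = p2) (h2 : act 0 q2 = q3) (h3 : act 4 q3 = q4) (h4 : act 5 q4 = q5) (h5 : act 4 q5 = q6) (h6 : act 1 q6 = q7) (h7 : act 4 q7 = q8) (h8 : act 1 q8 = q9) (h9 : act 5 q9 = p0) : p2 = q2 := by
  have hr := R18 p0
  subst h0
  subst h1
  subst h9
  subst h8
  subst h7
  subst h6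
  subst h5
  subst h4
  subst h3
  subst h2
  exact ij (ij (ij (ij (ij (ij (ij (ij (hr))))))))

theorem c18_3 {p0 p1 p2 p3 q3 q4 q5 q6 q7 q8 q9 : Q} (h0 : act 0 p0 = p1) (h1 : act 4 p1 = p2) (h2 : act 0 p2 = p3) (h3 : act 4 q3 = q4) (h4 : act 5 q4 = q5) (h5 : act 4 q5 = q6) (h6 : act 1 q6 = q7) (h7 : act 4 q7 = q8) (h8 : act 1 q8 = q9) (h9 : act 5 q9 = p0) : p3 = q3 := by
  have hr := R18 p0
  subst h0
  subst h1
  subst h2
  subst h9
  subst h8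
  subst h7
  subst h6
  subst h5
  subst h4
  subst h3
  exact ij (ij (ij (ij (ij (ij (ij (hr)))))))

theorem c18_4 {p0 p1 p2 p3 p4 q4 q5 q6 q7 q8 q9 : Q} (h0 : act 0 p0 = p1) (h1 : act 4 p1 = p2) (h2 : act 0 p2 = p3) (h3 : act 4 p3 = p4) (h4 : act 5 q4 = q5) (h5 : act 4 q5 = q6) (h6 : act 1 q6 = q7) (h7 : act 4 q7 = q8) (h8 : act 1 q8 = q9) (h9 : act 5 q9 = p0) : p4 = q4 := by
  have hr := R18 p0
  subst h0
  subst h1
  subst h2
  subst h3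
  subst h9
  subst h8
  subst h7
  subst h6
  subst h5
  subst h4
  exact ij (ij (ij (ij (ij (ij (hr))))))

theorem c18_5 {p0 p1 p2 p3 p4 p5 q5 q6 q7 q8 q9 : Q} (h0 : act 0 p0 = p1) (h1 : act 4 p1 = p2) (h2 : act 0 p2 = p3) (h3 : act 4 p3 = p4) (h4 : act 5 p4 = p5) (h5 : act 4 q5 = q6) (h6 : act 1 q6 = q7) (h7 : act 4 q7 = q8) (h8 : act 1 q8 = q9) (h9 : act 5 q9 = p0) : p5 = q5 := by
  have hr := R18 p0
  subst h0
  subst h1
  subst h2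
  subst h3
  subst h4
  subst h9
  subst h8
  subst h7
  subst h6
  subst h5
  exact ij (ij (ij (ij (ij (hr)))))

theorem c18_6 {p0 p1 p2 p3 p4 p5 p6 q6 q7 q8 q9 : Q} (h0 : act 0 p0 = p1) (h1 : act 4 p1 = p2) (h2 : act 0 p2 = p3) (h3 : act 4 p3 = p4) (h4 : act 5 p4 = p5) (h5 : act 4 p5 = p6) (h6 : act 1 q6 = q7) (h7 : act 4 q7 = q8) (h8 : act 1 q8 = q9) (h9 : act 5 q9 = p0) : p6 = q6 := by
  have hr := R18 p0
  subst h0
  subst h1
  subst h2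
  subst h3
  subst h4
  subst h5
  subst h9
  subst h8
  subst h7
  subst h6
  exact ij (ij (ij (ij (hr))))

theorem c18_7 {p0 p1 p2 p3 p4 p5 p6 p7 q7 q8 q9 : Q} (h0 : act 0 p0 = p1) (h1 : act 4 p1 = p2) (h2 : act 0 p2 = p3) (h3 : act 4 p3 = p4) (h4 : act 5 p4 = p5) (h5 : act 4 p5 = p6) (h6 : act 1 p6 = p7) (h7 : act 4 q7 = q8) (h8 : act 1 q8 = q9) (h9 : act 5 q9 = p0) : p7 = q7 := by
  have hr := R18 p0
  subst h0
  subst h1
  subst h2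
  subst h3
  subst h4
  subst h5
  subst h6
  subst h9
  subst h8
  subst h7
  exact ij (ij (ij (hr)))

theorem c18_8 {p0 p1 p2 p3 p4 p5 p6 p7 p8 q8 q9 : Q} (h0 : act 0 p0 = p1) (h1 : act 4 p1 = p2) (h2 : act 0 p2 = p3) (h3 : act 4 p3 = p4) (h4 : act 5 p4 = p5) (h5 : act 4 p5 = p6) (h6 : act 1 p6 = p7) (h7 : act 4 p7 = p8) (h8 : act 1 q8 = q9) (h9 : act 5 q9 = p0) : p8 = q8 := by
  have hr := R18 p0
  subst h0
  subst h1
  subst h2
  subst h3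
  subst h4
  subst h5
  subst h6
  subst h7
  subst h9
  subst h8
  exact ij (ij (hr))

theorem c18_9 {p0 p1 p2 p3 p4 p5 p6 p7 p8 p9 q9 : Q} (h0 : act 0 p0 = p1) (h1 : act 4 p1 = p2) (h2 : act 0 p2 = p3) (h3 : act 4 p3 = p4) (h4 : act 5 p4 = p5) (h5 : act 4 p5 = p6) (h6 : act 1 p6 = p7) (h7 : act 4 p7 = p8) (h8 : act 1 p8 = p9) (h9 : act 5 q9 = p0) : p9 = q9 := by
  have hr := R18 p0
  subst h0
  subst h1
  subst h2
  subst h3
  subst h4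
  subst h5
  subst h6
  subst h7
  subst h8
  subst h9
  exact ij (hr)

theorem c18_10 {p0 p1 p2 p3 p4 p5 p6 p7 p8 p9 p10 : Q} (h0 : act 0 p0 = p1) (h1 : act 4 p1 = p2) (h2 : act 0 p2 = p3) (h3 : act 4 p3 = p4) (h4 : act 5 p4 = p5) (h5 : act 4 p5 = p6) (h6 : act 1 p6 = p7) (h7 : act 4 p7 = p8) (h8 : act 1 p8 = p9) (h9 : act 5 p9 = p10) : p10 = p0 := by
  have hr := R18 p0
  subst h0
  subst h1
  subst h2
  subst h3
  subst h4
  subst h5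
  subst h6
  subst h7
  subst h8
  subst h9
  exact hr

theorem c19_1 {p0 p1 q1 q2 q3 q4 q5 q6 q7 q8 q9 q10 q11 q12 q13 q14 q15 q16 q17 q18 q19 : Q} (h0 : act 0 p0 = p1) (h1 : act 5 q1 = q2) (h2 : act 4 q2 = q3) (h3 : act 3 q3 = q4) (h4 : act 0 q4 = q5) (h5 : act 5 q5 = q6) (h6 : act 4 q6 = q7) (h7 : act 3 q7 = q8) (h8 : act 0 q8 = q9) (h9 : act 5 q9 = q10) (h10 : act 4 q10 = q11) (h11 : act 3 q11 = q12) (h12 : act 0 q12 = q13) (h13 : act 5 q13 = q14) (h14 : act 4 q14 = q15) (h15 : act 3 q15 = q16) (h16 : act 0 q16 = q17) (h17 : act 5 q17 = q18) (h18 : act 4 q18 = q19) (h19 : act 3 q19 = p0) : p1 = q1 := by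
  have hr := R19 p0
  subst h0
  subst h19
  subst h18
  subst h17
  subst h16
  subst h15
  subst h14
  subst h13
  subst h12
  subst h11
  subst h10
  subst h9
  subst h8
  subst h7
  subst h6
  subst h5
  subst h4
  subst h3
  subst h2
  subst h1
  exact ij (ij (ij (ij (ij (ij (ij (ij (ij (ij (ij (ij (ij (ij (ij (ij (ij (ij (ij (hr)))))))))))))))))))

theorem c19_2 {p0 p1 p2 q2 q3 q4 q5 q6 q7 q8 q9 q10 q11 q12 q13 q14 q15 q16 q17 q18 q19 : Q} (h0 : act 0 p0 = p1) (h1 : act 5 p1 = p2) (h2 : act 4 q2 = q3) (h3 : act 3 q3 = q4) (h4 : act 0 q4 = q5) (h5 : act 5 q5 = q6) (h6 : act 4 q6 = q7) (h7 : act 3 q7 = q8) (h8 : act 0 q8 = q9) (h9 : act 5 q9 = q10) (h10 : act 4 q10 = q11) (h11 : act 3 q11 = q12) (h12 : act 0 q12 = q13) (h13 : act 5 q13 = q14) (h14 : act 4 q14 = q15) (h15 : act 3 q15 = q16) (h16 : act 0 q16 = q17) (h17 : act 5 q17 = q18) (h18 : act 4 q18 = q19) (h19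 : act 3 q19 = p0) : p2 = q2 := by
  have hr := R19 p0
  subst h0
  subst h1
  subst h19
  subst h18
  subst h17
  subst h16
  subst h15
  subst h14
  subst h13
  subst h12
  subst h11
  subst h10
  subst h9
  subst h8
  subst h7
  subst h6
  subst h5
  subst h4
  subst h3
  subst h2
  exact ij (ij (ij (ij (ij (ij (ij (ij (ij (ij (ij (ij (ij (ij (ij (ij (ij (ij (hr))))))))))))))))))

theorem c19_3 {p0 p1 p2 p3 q3 q4 q5 q6 q7 q8 q9 q10 q11 q12 q13 q14 q15 q16 q17 q18 q19 : Q} (h0 : act 0 p0 = p1) (h1 : act 5 p1 = p2) (h2 : act 4 p2 = p3) (h3 : act 3 q3 = q4) (h4 : act 0 q4 = q5) (h5 : act 5 q5 = q6) (h6 : act 4 q6 = q7) (h7 : act 3 q7 = q8) (h8 : act 0 q8 = q9) (h9 : act 5 q9 = q10) (h10 : act 4 q10 = q11) (h11 : act 3 q11 = q12) (h12 : act 0 q12 = q13) (h13 : act 5 q13 = q14) (h14 : act 4 q14 = q15) (h15 : act 3 q15 = q16) (h16 : act 0 q16 = q17) (h17 : act 5 q17 = q18)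 (h18 : act 4 q18 = q19) (h19 : act 3 q19 = p0) : p3 = q3 := by
  have hr := R19 p0
  subst h0
  subst h1
  subst h2
  subst h19
  subst h18
  subst h17
  subst h16
  subst h15
  subst h14
  subst h13
  subst h12
  subst h11
  subst h10
  subst h9
  subst h8
  subst h7
  subst h6
  subst h5
  subst h4
  subst h3
  exact ij (ij (ij (ij (ij (ij (ij (ij (ij (ij (ij (ij (ij (ij (ij (ij (ij (hr)))))))))))))))))

theorem c19_4 {p0 p1 p2 p3 p4 q4 q5 q6 q7 q8 q9 q10 q11 q12 q13 q14 q15 q16 q17 q18 q19 : Q} (h0 : act 0 p0 = p1) (h1 : act 5 p1 = p2) (h2 : act 4 p2 = p3) (h3 : act 3 p3 = p4) (h4 : act 0 q4 = q5) (h5 : act 5 q5 = q6) (h6 : act 4 q6 = q7) (h7 : act 3 q7 = q8) (h8 : act 0 q8 = q9) (h9 : act 5 q9 = q10) (h10 : act 4 q10 = q11) (h11 : act 3 q11 = q12) (h12 : act 0 q12 = q13) (h13 : act 5 q13 = q14) (h14 : act 4 q14 = q15) (h15 : act 3 q15 = q16) (h16 : act 0 q16 = q17)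 (h17 : act 5 q17 = q18) (h18 : act 4 q18 = q19) (h19 : act 3 q19 = p0) : p4 = q4 := by
  have hr := R19 p0
  subst h0
  subst h1
  subst h2
  subst h3
  subst h19
  subst h18
  subst h17
  subst h16
  subst h15
  subst h14
  subst h13
  subst h12
  subst h11
  subst h10
  subst h9
  subst h8
  subst h7
  subst h6
  subst h5
  subst h4
  exact ij (ij (ij (ij (ij (ij (ij (ij (ij (ij (ij (ij (ij (ij (ij (ij (hr))))))))))))))))

theorem c19_5 {p0 p1 p2 p3 p4 p5 q5 q6 q7 q8 q9 q10 q11 q12 q13 q14 q15 q16 q17 q18 q19 : Q} (h0 : act 0 p0 = p1) (h1 : act 5 p1 = p2) (h2 : act 4 p2 = p3) (h3 : act 3 p3 = p4) (h4 : act 0 p4 = p5) (h5 : act 5 q5 = q6) (h6 : act 4 q6 = q7) (h7 : act 3 q7 = q8) (h8 : act 0 q8 = q9) (h9 : act 5 q9 = q10) (h10 : act 4 q10 = q11) (h11 : act 3 q11 = q12) (h12 : act 0 q12 = q13) (h13 : act 5 q13 = q14) (h14 : act 4 q14 = q15) (h15 : act 3 q15 = q16) (h16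 : act 0 q16 = q17) (h17 : act 5 q17 = q18) (h18 : act 4 q18 = q19) (h19 : act 3 q19 = p0) : p5 = q5 := by
  have hr := R19 p0
  subst h0
  subst h1
  subst h2
  subst h3
  subst h4
  subst h19
  subst h18
  subst h17
  subst h16
  subst h15
  subst h14
  subst h13
  subst h12
  subst h11
  subst h10
  subst h9
  subst h8
  subst h7
  subst h6
  subst h5
  exact ij (ij (ij (ij (ij (ij (ij (ij (ij (ij (ij (ij (ij (ij (ij (hr)))))))))))))))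

theorem c19_6 {p0 p1 p2 p3 p4 p5 p6 q6 q7 q8 q9 q10 q11 q12 q13 q14 q15 q16 q17 q18 q19 : Q} (h0 : act 0 p0 = p1) (h1 : act 5 p1 = p2) (h2 : act 4 p2 = p3) (h3 : act 3 p3 = p4) (h4 : act 0 p4 = p5) (h5 : act 5 p5 = p6) (h6 : act 4 q6 = q7) (h7 : act 3 q7 = q8) (h8 : act 0 q8 = q9) (h9 : act 5 q9 = q10) (h10 : act 4 q10 = q11) (h11 : act 3 q11 = q12) (h12 : act 0 q12 = q13) (h13 : act 5 q13 = q14) (h14 : act 4 q14 = q15) (h15 : act 3 q15 = q16) (h16 : act 0 q16 = q17) (h17 : act 5 q17 = q18) (h18 : act 4 q18 = q19) (h19 : act 3 q19 = p0) : p6 = q6 := by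
  have hr := R19 p0
  subst h0
  subst h1
  subst h2
  subst h3
  subst h4
  subst h5
  subst h19
  subst h18
  subst h17
  subst h16
  subst h15
  subst h14
  subst h13
  subst h12
  subst h11
  subst h10
  subst h9
  subst h8
  subst h7
  subst h6
  exact ij (ij (ij (ij (ij (ij (ij (ij (ij (ij (ij (ij (ij (ij (hr))))))))))))))

theorem c19_7 {p0 p1 p2 p3 p4 p5 p6 p7 q7 q8 q9 q10 q11 q12 q13 q14 q15 q16 q17 q18 q19 : Q} (h0 : act 0 p0 = p1) (h1 : act 5 p1 = p2) (h2 : act 4 p2 = p3) (h3 : act 3 p3 = p4) (h4 : act 0 p4 = p5) (h5 : act 5 p5 = p6) (h6 : act 4 p6 = p7) (h7 : act 3 q7 = q8) (h8 : act 0 q8 = q9) (h9 : act 5 q9 = q10) (h10 : act 4 q10 = q11) (h11 : act 3 q11 = q12) (h12 : act 0 q12 = q13) (h13 : act 5 q13 = q14) (h14 : act 4 q14 = q15) (h15 : act 3 q15 = q16) (h16 : act 0 q16 = q17) (h17 : act 5 q17 = q18) (h18 : act 4 q18 = q19) (h19 : act 3 q19 = p0) : p7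 = q7 := by
  have hr := R19 p0
  subst h0
  subst h1
  subst h2
  subst h3
  subst h4
  subst h5
  subst h6
  subst h19
  subst h18
  subst h17
  subst h16
  subst h15
  subst h14
  subst h13
  subst h12
  subst h11
  subst h10
  subst h9
  subst h8
  subst h7
  exact ij (ij (ij (ij (ij (ij (ij (ij (ij (ij (ij (ij (ij (hr)))))))))))))

theorem c19_8 {p0 p1 p2 p3 p4 p5 p6 p7 p8 q8 q9 q10 q11 q12 q13 q14 q15 q16 q17 q18 q19 : Q} (h0 : act 0 p0 = p1) (h1 : act 5 p1 = p2) (h2 : act 4 p2 = p3) (h3 : act 3 p3 = p4) (h4 : act 0 p4 = p5) (h5 : act 5 p5 = p6) (h6 : act 4 p6 = p7) (h7 : act 3 p7 = p8) (h8 : act 0 q8 = q9) (h9 : act 5 q9 = q10) (h10 : act 4 q10 = q11) (h11 : act 3 q11 = q12) (h12 : act 0 q12 = q13) (h13 : act 5 q13 = q14) (h14 : act 4 q14 = q15) (h15 : act 3 q15 = q16) (h16 : act 0 q16 = q17) (h17 : act 5 q17 = q18) (h18 : act 4 q18 = q19) (h19 : act 3 q19 = p0)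 : p8 = q8 := by
  have hr := R19 p0
  subst h0
  subst h1
  subst h2
  subst h3
  subst h4
  subst h5
  subst h6
  subst h7
  subst h19
  subst h18
  subst h17
  subst h16
  subst h15
  subst h14
  subst h13
  subst h12
  subst h11
  subst h10
  subst h9
  subst h8
  exact ij (ij (ij (ij (ij (ij (ij (ij (ij (ij (ij (ij (hr))))))))))))

theorem c19_9 {p0 p1 p2 p3 p4 p5 p6 p7 p8 p9 q9 q10 q11 q12 q13 q14 q15 q16 q17 q18 q19 : Q} (h0 : act 0 p0 = p1) (h1 : act 5 p1 = p2) (h2 : act 4 p2 = p3) (h3 : act 3 p3 = p4) (h4 : act 0 p4 = p5) (h5 : act 5 p5 = p6) (h6 : act 4 p6 = p7) (h7 : act 3 p7 = p8) (h8 : act 0 p8 = p9) (h9 : act 5 q9 = q10) (h10 : act 4 q10 = q11) (h11 : act 3 q11 = q12) (h12 : act 0 q12 = q13) (h13 : act 5 q13 = q14) (h14 : act 4 q14 = q15) (h15 : act 3 q15 = q16) (h16 : act 0 q16 = q17) (h17 : act 5 q17 = q18) (h18 : act 4 q18 = q19) (h19 : act 3 q19 = p0)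 : p9 = q9 := by
  have hr := R19 p0
  subst h0
  subst h1
  subst h2
  subst h3
  subst h4
  subst h5
  subst h6
  subst h7
  subst h8
  subst h19
  subst h18
  subst h17
  subst h16
  subst h15
  subst h14
  subst h13
  subst h12
  subst h11
  subst h10
  subst h9
  exact ij (ij (ij (ij (ij (ij (ij (ij (ij (ij (ij (hr)))))))))))

theorem c19_10 {p0 p1 p2 p3 p4 p5 p6 p7 p8 p9 p10 q10 q11 q12 q13 q14 q15 q16 q17 q18 q19 : Q} (h0 : act 0 p0 = p1) (h1 : act 5 p1 = p2) (h2 : act 4 p2 = p3) (h3 : act 3 p3 = p4) (h4 : act 0 p4 = p5) (h5 : act 5 p5 = p6) (h6 : act 4 p6 = p7) (h7 : act 3 p7 = p8) (h8 : act 0 p8 = p9) (h9 : act 5 p9 = p10) (h10 : act 4 q10 = q11) (h11 : act 3 q11 = q12) (h12 : act 0 q12 = q13) (h13 : act 5 q13 = q14) (h14 : act 4 q14 = q15) (h15 : act 3 q15 = q16) (h16 : act 0 q16 = q17) (h17 : act 5 q17 = q18) (h18 : act 4 q18 = q19) (h19 : act 3 q19 = p0) :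 p10 = q10 := by
  have hr := R19 p0
  subst h0
  subst h1
  subst h2
  subst h3
  subst h4
  subst h5
  subst h6
  subst h7
  subst h8
  subst h9
  subst h19
  subst h18
  subst h17
  subst h16
  subst h15
  subst h14
  subst h13
  subst h12
  subst h11
  subst h10
  exact ij (ij (ij (ij (ij (ij (ij (ij (ij (ij (hr))))))))))

theorem c19_11 {p0 p1 p2 p3 p4 p5 p6 p7 p8 p9 p10 p11 q11 q12 q13 q14 q15 q16 q17 q18 q19 : Q} (h0 : act 0 p0 = p1) (h1 : act 5 p1 = p2) (h2 : act 4 p2 = p3) (h3 : act 3 p3 = p4) (h4 : act 0 p4 = p5) (h5 : act 5 p5 = p6) (h6 : act 4 p6 = p7) (h7 : act 3 p7 = p8) (h8 : act 0 p8 = p9) (h9 : act 5 p9 = p10) (h10 : act 4 p10 = p11) (h11 : act 3 q11 = q12) (h12 : act 0 q12 = q13) (h13 : act 5 q13 = q14) (h14 : act 4 q14 = q15) (h15 : act 3 q15 = q16) (h16 : act 0 q16 = q17) (h17 : act 5 q17 = q18) (h18 : act 4 q18 = q19) (h19 : act 3 q19 = p0) : p11 =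 q11 := by
  have hr := R19 p0
  subst h0
  subst h1
  subst h2
  subst h3
  subst h4
  subst h5
  subst h6
  subst h7
  subst h8
  subst h9
  subst h10
  subst h19
  subst h18
  subst h17
  subst h16
  subst h15
  subst h14
  subst h13
  subst h12
  subst h11
  exact ij (ij (ij (ij (ij (ij (ij (ij (ij (hr)))))))))

theorem c19_12 {p0 p1 p2 p3 p4 p5 p6 p7 p8 p9 p10 p11 p12 q12 q13 q14 q15 q16 q17 q18 q19 : Q} (h0 : act 0 p0 = p1) (h1 : act 5 p1 = p2) (h2 : act 4 p2 = p3) (h3 : act 3 p3 = p4) (h4 : act 0 p4 = p5) (h5 : act 5 p5 = p6) (h6 : act 4 p6 = p7) (h7 : act 3 p7 = p8) (h8 : act 0 p8 = p9) (h9 : act 5 p9 = p10) (h10 : act 4 p10 = p11) (h11 : act 3 p11 = p12) (h12 : act 0 q12 = q13) (h13 : act 5 q13 = q14) (h14 : act 4 q14 = q15) (h15 : act 3 q15 = q16) (h16 : act 0 q16 = q17) (h17 : act 5 q17 = q18) (h18 : act 4 q18 = q19) (h19 : act 3 q19 = p0) : p12 = q12 := by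
  have hr := R19 p0
  subst h0
  subst h1
  subst h2
  subst h3
  subst h4
  subst h5
  subst h6
  subst h7
  subst h8
  subst h9
  subst h10
  subst h11
  subst h19
  subst h18
  subst h17
  subst h16
  subst h15
  subst h14
  subst h13
  subst h12
  exact ij (ij (ij (ij (ij (ij (ij (ij (hr))))))))

theorem c19_13 {p0 p1 p2 p3 p4 p5 p6 p7 p8 p9 p10 p11 p12 p13 q13 q14 q15 q16 q17 q18 q19 : Q} (h0 : act 0 p0 = p1) (h1 : act 5 p1 = p2) (h2 : act 4 p2 = p3) (h3 : act 3 p3 = p4) (h4 : act 0 p4 = p5) (h5 : act 5 p5 = p6) (h6 : act 4 p6 = p7) (h7 : act 3 p7 = p8) (h8 : act 0 p8 = p9) (h9 : act 5 p9 = p10) (h10 : act 4 p10 = p11) (h11 : act 3 p11 = p12) (h12 : act 0 p12 = p13) (h13 : act 5 q13 = q14) (h14 : act 4 q14 = q15) (h15 : act 3 q15 = q16) (h16 : act 0 q16 = q17) (h17 : act 5 q17 = q18) (h18 : act 4 q18 = q19) (h19 : act 3 q19 = p0) : p13 = q13 := by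
  have hr := R19 p0
  subst h0
  subst h1
  subst h2
  subst h3
  subst h4
  subst h5
  subst h6
  subst h7
  subst h8
  subst h9
  subst h10
  subst h11
  subst h12
  subst h19
  subst h18
  subst h17
  subst h16
  subst h15
  subst h14
  subst h13
  exact ij (ij (ij (ij (ij (ij (ij (hr)))))))

theorem c19_14 {p0 p1 p2 p3 p4 p5 p6 p7 p8 p9 p10 p11 p12 p13 p14 q14 q15 q16 q17 q18 q19 : Q} (h0 : act 0 p0 = p1) (h1 : act 5 p1 = p2) (h2 : act 4 p2 = p3) (h3 : act 3 p3 = p4) (h4 : act 0 p4 = p5) (h5 : act 5 p5 = p6) (h6 : act 4 p6 = p7) (h7 : act 3 p7 = p8) (h8 : act 0 p8 = p9) (h9 : act 5 p9 = p10) (h10 : act 4 p10 = p11) (h11 : act 3 p11 = p12) (h12 : act 0 p12 = p13) (h13 : act 5 p13 = p14) (h14 : act 4 q14 = q15) (h15 : act 3 q15 = q16) (h16 : act 0 q16 = q17) (h17 : act 5 q17 = q18) (h18 : act 4 q18 = q19) (h19 : act 3 q19 = p0) : p14 = q14 := by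
  have hr := R19 p0
  subst h0
  subst h1
  subst h2
  subst h3
  subst h4
  subst h5
  subst h6
  subst h7
  subst h8
  subst h9
  subst h10
  subst h11
  subst h12
  subst h13
  subst h19
  subst h18
  subst h17
  subst h16
  subst h15
  subst h14
  exact ij (ij (ij (ij (ij (ij (hr))))))

theorem c19_15 {p0 p1 p2 p3 p4 p5 p6 p7 p8 p9 p10 p11 p12 p13 p14 p15 q15 q16 q17 q18 q19 : Q} (h0 : act 0 p0 = p1) (h1 : act 5 p1 = p2) (h2 : act 4 p2 = p3) (h3 : act 3 p3 = p4) (h4 : act 0 p4 = p5) (h5 : act 5 p5 = p6) (h6 : act 4 p6 = p7) (h7 : act 3 p7 = p8) (h8 : act 0 p8 = p9) (h9 : act 5 p9 = p10) (h10 : act 4 p10 = p11) (h11 : act 3 p11 = p12) (h12 : act 0 p12 = p13) (h13 : act 5 p13 = p14) (h14 : act 4 p14 = p15) (h15 : act 3 q15 = q16) (h16 : act 0 q16 = q17) (h17 : act 5 q17 = q18) (h18 : act 4 q18 = q19) (h19 : act 3 q19 = p0) : p15 = q15 := by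
  have hr := R19 p0
  subst h0
  subst h1
  subst h2
  subst h3
  subst h4
  subst h5
  subst h6
  subst h7
  subst h8
  subst h9
  subst h10
  subst h11
  subst h12
  subst h13
  subst h14
  subst h19
  subst h18
  subst h17
  subst h16
  subst h15
  exact ij (ij (ij (ij (ij (hr)))))

theorem c19_16 {p0 p1 p2 p3 p4 p5 p6 p7 p8 p9 p10 p11 p12 p13 p14 p15 p16 q16 q17 q18 q19 : Q} (h0 : act 0 p0 = p1) (h1 : act 5 p1 = p2) (h2 : act 4 p2 = p3) (h3 : act 3 p3 = p4) (h4 : act 0 p4 = p5) (h5 : act 5 p5 = p6) (h6 : act 4 p6 = p7) (h7 : act 3 p7 = p8) (h8 : act 0 p8 = p9) (h9 : act 5 p9 = p10) (h10 : act 4 p10 = p11) (h11 : act 3 p11 = p12) (h12 : act 0 p12 = p13) (h13 : act 5 p13 = p14) (h14 : act 4 p14 = p15) (h15 : act 3 p15 = p16) (h16 : act 0 q16 = q17) (h17 : act 5 q17 = q18) (h18 : act 4 q18 = q19) (h19 : act 3 q19 = p0) : p16 = q16 := by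
  have hr := R19 p0
  subst h0
  subst h1
  subst h2
  subst h3
  subst h4
  subst h5
  subst h6
  subst h7
  subst h8
  subst h9
  subst h10
  subst h11
  subst h12
  subst h13
  subst h14
  subst h15
  subst h19
  subst h18
  subst h17
  subst h16
  exact ij (ij (ij (ij (hr))))

theorem c19_17 {p0 p1 p2 p3 p4 p5 p6 p7 p8 p9 p10 p11 p12 p13 p14 p15 p16 p17 q17 q18 q19 : Q} (h0 : act 0 p0 = p1) (h1 : act 5 p1 = p2) (h2 : act 4 p2 = p3) (h3 : act 3 p3 = p4) (h4 : act 0 p4 = p5) (h5 : act 5 p5 = p6) (h6 : act 4 p6 = p7) (h7 : act 3 p7 = p8) (h8 : act 0 p8 = p9) (h9 : act 5 p9 = p10) (h10 : act 4 p10 = p11) (h11 : act 3 p11 = p12) (h12 : act 0 p12 = p13) (h13 : act 5 p13 = p14) (h14 : act 4 p14 = p15) (h15 : act 3 p15 = p16) (h16 : act 0 p16 = p17) (h17 : act 5 q17 = q18) (h18 : act 4 q18 = q19) (h19 : act 3 q19 = p0) : p17 = q17 := by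
  have hr := R19 p0
  subst h0
  subst h1
  subst h2
  subst h3
  subst h4
  subst h5
  subst h6
  subst h7
  subst h8
  subst h9
  subst h10
  subst h11
  subst h12
  subst h13
  subst h14
  subst h15
  subst h16
  subst h19
  subst h18
  subst h17
  exact ij (ij (ij (hr)))

theorem c19_18 {p0 p1 p2 p3 p4 p5 p6 p7 p8 p9 p10 p11 p12 p13 p14 p15 p16 p17 p18 q18 q19 : Q} (h0 : act 0 p0 = p1) (h1 : act 5 p1 = p2) (h2 : act 4 p2 = p3) (h3 : act 3 p3 = p4) (h4 : act 0 p4 = p5) (h5 : act 5 p5 = p6) (h6 : act 4 p6 = p7) (h7 : act 3 p7 = p8) (h8 : act 0 p8 = p9) (h9 : act 5 p9 = p10) (h10 : act 4 p10 = p11) (h11 : act 3 p11 = p12) (h12 : act 0 p12 = p13) (h13 : act 5 p13 = p14) (h14 : act 4 p14 = p15) (h15 : act 3 p15 = p16) (h16 : act 0 p16 = p17) (h17 : act 5 p17 = p18) (h18 : act 4 q18 = q19) (h19 : act 3 q19 = p0) : p18 = q18 := by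
  have hr := R19 p0
  subst h0
  subst h1
  subst h2
  subst h3
  subst h4
  subst h5
  subst h6
  subst h7
  subst h8
  subst h9
  subst h10
  subst h11
  subst h12
  subst h13
  subst h14
  subst h15
  subst h16
  subst h17
  subst h19
  subst h18
  exact ij (ij (hr))

theorem c19_19 {p0 p1 p2 p3 p4 p5 p6 p7 p8 p9 p10 p11 p12 p13 p14 p15 p16 p17 p18 p19 q19 : Q} (h0 : act 0 p0 = p1) (h1 : act 5 p1 = p2) (h2 : act 4 p2 = p3) (h3 : act 3 p3 = p4) (h4 : act 0 p4 = p5) (h5 : act 5 p5 = p6) (h6 : act 4 p6 = p7) (h7 : act 3 p7 = p8) (h8 : act 0 p8 = p9) (h9 : act 5 p9 = p10) (h10 : act 4 p10 = p11) (h11 : act 3 p11 = p12) (h12 : act 0 p12 = p13) (h13 : act 5 p13 = p14) (h14 : act 4 p14 = p15) (h15 : act 3 p15 = p16) (h16 : act 0 p16 = p17) (h17 : act 5 p17 = p18) (h18 : act 4 p18 = p19) (h19 : act 3 q19 = p0) : p19 = q19 := by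
  have hr := R19 p0
  subst h0
  subst h1
  subst h2
  subst h3
  subst h4
  subst h5
  subst h6
  subst h7
  subst h8
  subst h9
  subst h10
  subst h11
  subst h12
  subst h13
  subst h14
  subst h15
  subst h16
  subst h17
  subst h18
  subst h19
  exact ij (hr)

theorem c19_20 {p0 p1 p2 p3 p4 p5 p6 p7 p8 p9 p10 p11 p12 p13 p14 p15 p16 p17 p18 p19 p20 : Q} (h0 : act 0 p0 = p1) (h1 : act 5 p1 = p2) (h2 : act 4 p2 = p3) (h3 : act 3 p3 = p4) (h4 : act 0 p4 = p5) (h5 : act 5 p5 = p6) (h6 : act 4 p6 = p7) (h7 : act 3 p7 = p8) (h8 : act 0 p8 = p9) (h9 : act 5 p9 = p10) (h10 : act 4 p10 = p11) (h11 : act 3 p11 = p12) (h12 : act 0 p12 = p13) (h13 : act 5 p13 = p14) (h14 : act 4 p14 = p15) (h15 : act 3 p15 = p16) (h16 : act 0 p16 = p17) (h17 : act 5 p17 = p18) (h18 : act 4 p18 = p19) (h19 : act 3 p19 = p20) : p20 = p0 := by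
  have hr := R19 p0
  subst h0
  subst h1
  subst h2
  subst h3
  subst h4
  subst h5
  subst h6
  subst h7
  subst h8
  subst h9
  subst h10
  subst h11
  subst h12
  subst h13
  subst h14
  subst h15
  subst h16
  subst h17
  subst h18
  subst h19
  exact hr

theorem c20_1 {p0 p1 q1 q2 q3 q4 q5 q6 q7 q8 q9 q10 : Q} (h0 : act 4 p0 = p1) (h1 : act 0 q1 = q2) (h2 : act 4 q2 = q3) (h3 : act 3 q3 = q4) (h4 : act 0 q4 = q5) (h5 : act 3 q5 = q6) (h6 : act 4 q6 = q7) (h7 : act 0 q7 = q8) (h8 : act 4 q8 = q9) (h9 : act 3 q9 = q10) (h10 : act 0 q10 = p0) : p1 = q1 := by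
  have hr := R20 p0
  subst h0
  subst h10
  subst h9
  subst h8
  subst h7
  subst h6
  subst h5
  subst h4
  subst h3
  subst h2
  subst h1
  exact ij (ij (ij (ij (ij (ij (ij (ij (ij (ij (hr))))))))))

theorem c20_2 {p0 p1 p2 q2 q3 q4 q5 q6 q7 q8 q9 q10 : Q} (h0 : act 4 p0 = p1) (h1 : act 0 p1 = p2) (h2 : act 4 q2 = q3) (h3 : act 3 q3 = q4) (h4 : act 0 q4 = q5) (h5 : act 3 q5 = q6) (h6 : act 4 q6 = q7) (h7 : act 0 q7 = q8) (h8 : act 4 q8 = q9) (h9 : act 3 q9 = q10) (h10 : act 0 q10 = p0) : p2 = q2 := by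
  have hr := R20 p0
  subst h0
  subst h1
  subst h10
  subst h9
  subst h8
  subst h7
  subst h6
  subst h5
  subst h4
  subst h3
  subst h2
  exact ij (ij (ij (ij (ij (ij (ij (ij (ij (hr)))))))))

theorem c20_3 {p0 p1 p2 p3 q3 q4 q5 q6 q7 q8 q9 q10 : Q} (h0 : act 4 p0 = p1) (h1 : act 0 p1 = p2) (h2 : act 4 p2 = p3) (h3 : act 3 q3 = q4) (h4 : act 0 q4 = q5) (h5 : act 3 q5 = q6) (h6 : act 4 q6 = q7) (h7 : act 0 q7 = q8) (h8 : act 4 q8 = q9) (h9 : act 3 q9 = q10) (h10 : act 0 q10 = p0) : p3 = q3 := by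
  have hr := R20 p0
  subst h0
  subst h1
  subst h2
  subst h10
  subst h9
  subst h8
  subst h7
  subst h6
  subst h5
  subst h4
  subst h3
  exact ij (ij (ij (ij (ij (ij (ij (ij (hr))))))))

theorem c20_4 {p0 p1 p2 p3 p4 q4 q5 q6 q7 q8 q9 q10 : Q} (h0 : act 4 p0 = p1) (h1 : act 0 p1 = p2) (h2 : act 4 p2 = p3) (h3 : act 3 p3 = p4) (h4 : act 0 q4 = q5) (h5 : act 3 q5 = q6) (h6 : act 4 q6 = q7) (h7 : act 0 q7 = q8) (h8 : act 4 q8 = q9) (h9 : act 3 q9 = q10) (h10 : act 0 q10 = p0) : p4 = q4 := by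
  have hr := R20 p0
  subst h0
  subst h1
  subst h2
  subst h3
  subst h10
  subst h9
  subst h8
  subst h7
  subst h6
  subst h5
  subst h4
  exact ij (ij (ij (ij (ij (ij (ij (hr)))))))

theorem c20_5 {p0 p1 p2 p3 p4 p5 q5 q6 q7 q8 q9 q10 : Q} (h0 : act 4 p0 = p1) (h1 : act 0 p1 = p2) (h2 : act 4 p2 = p3) (h3 : act 3 p3 = p4) (h4 : act 0 p4 = p5) (h5 : act 3 q5 = q6) (h6 : act 4 q6 = q7) (h7 : act 0 q7 = q8) (h8 : act 4 q8 = q9) (h9 : act 3 q9 = q10) (h10 : act 0 q10 = p0) : p5 = q5 := by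
  have hr := R20 p0
  subst h0
  subst h1
  subst h2
  subst h3
  subst h4
  subst h10
  subst h9
  subst h8
  subst h7
  subst h6
  subst h5
  exact ij (ij (ij (ij (ij (ij (hr))))))

theorem c20_6 {p0 p1 p2 p3 p4 p5 p6 q6 q7 q8 q9 q10 : Q} (h0 : act 4 p0 = p1) (h1 : act 0 p1 = p2) (h2 : act 4 p2 = p3) (h3 : act 3 p3 = p4) (h4 : act 0 p4 = p5) (h5 : act 3 p5 = p6) (h6 : act 4 q6 = q7) (h7 : act 0 q7 = q8) (h8 : act 4 q8 = q9) (h9 : act 3 q9 = q10) (h10 : act 0 q10 = p0) : p6 = q6 := by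
  have hr := R20 p0
  subst h0
  subst h1
  subst h2
  subst h3
  subst h4
  subst h5
  subst h10
  subst h9
  subst h8
  subst h7
  subst h6
  exact ij (ij (ij (ij (ij (hr)))))

theorem c20_7 {p0 p1 p2 p3 p4 p5 p6 p7 q7 q8 q9 q10 : Q} (h0 : act 4 p0 = p1) (h1 : act 0 p1 = p2) (h2 : act 4 p2 = p3) (h3 : act 3 p3 = p4) (h4 : act 0 p4 = p5) (h5 : act 3 p5 = p6) (h6 : act 4 p6 = p7) (h7 : act 0 q7 = q8) (h8 : act 4 q8 = q9) (h9 : act 3 q9 = q10) (h10 : act 0 q10 = p0) : p7 = q7 := by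
  have hr := R20 p0
  subst h0
  subst h1
  subst h2
  subst h3
  subst h4
  subst h5
  subst h6
  subst h10
  subst h9
  subst h8
  subst h7
  exact ij (ij (ij (ij (hr))))

theorem c20_8 {p0 p1 p2 p3 p4 p5 p6 p7 p8 q8 q9 q10 : Q} (h0 : act 4 p0 = p1) (h1 : act 0 p1 = p2) (h2 : act 4 p2 = p3) (h3 : act 3 p3 = p4) (h4 : act 0 p4 = p5) (h5 : act 3 p5 = p6) (h6 : act 4 p6 = p7) (h7 : act 0 p7 = p8) (h8 : act 4 q8 = q9) (h9 : act 3 q9 = q10) (h10 : act 0 q10 = p0) : p8 = q8 := by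
  have hr := R20 p0
  subst h0
  subst h1
  subst h2
  subst h3
  subst h4
  subst h5
  subst h6
  subst h7
  subst h10
  subst h9
  subst h8
  exact ij (ij (ij (hr)))

theorem c20_9 {p0 p1 p2 p3 p4 p5 p6 p7 p8 p9 q9 q10 : Q} (h0 : act 4 p0 = p1) (h1 : act 0 p1 = p2) (h2 : act 4 p2 = p3) (h3 : act 3 p3 = p4) (h4 : act 0 p4 = p5) (h5 : act 3 p5 = p6) (h6 : act 4 p6 = p7) (h7 : act 0 p7 = p8) (h8 : act 4 p8 = p9) (h9 : act 3 q9 = q10) (h10 : act 0 q10 = p0) : p9 = q9 := by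
  have hr := R20 p0
  subst h0
  subst h1
  subst h2
  subst h3
  subst h4
  subst h5
  subst h6
  subst h7
  subst h8
  subst h10
  subst h9
  exact ij (ij (hr))

theorem c20_10 {p0 p1 p2 p3 p4 p5 p6 p7 p8 p9 p10 q10 : Q} (h0 : act 4 p0 = p1) (h1 : act 0 p1 = p2) (h2 : act 4 p2 = p3) (h3 : act 3 p3 = p4) (h4 : act 0 p4 = p5) (h5 : act 3 p5 = p6) (h6 : act 4 p6 = p7) (h7 : act 0 p7 = p8) (h8 : act 4 p8 = p9) (h9 : act 3 p9 = p10) (h10 : act 0 q10 = p0) : p10 = q10 := by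
  have hr := R20 p0
  subst h0
  subst h1
  subst h2
  subst h3
  subst h4
  subst h5
  subst h6
  subst h7
  subst h8
  subst h9
  subst h10
  exact ij (hr)

theorem c20_11 {p0 p1 p2 p3 p4 p5 p6 p7 p8 p9 p10 p11 : Q} (h0 : act 4 p0 = p1) (h1 : act 0 p1 = p2) (h2 : act 4 p2 = p3) (h3 : act 3 p3 = p4) (h4 : act 0 p4 = p5) (h5 : act 3 p5 = p6) (h6 : act 4 p6 = p7) (h7 : act 0 p7 = p8) (h8 : act 4 p8 = p9) (h9 : act 3 p9 = p10) (h10 : act 0 p10 = p11) : p11 = p0 := by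
  have hr := R20 p0
  subst h0
  subst h1
  subst h2
  subst h3
  subst h4
  subst h5
  subst h6
  subst h7
  subst h8
  subst h9
  subst h10
  exact hr

theorem c21_1 {p0 p1 q1 q2 q3 q4 q5 q6 q7 q8 q9 q10 : Q} (h0 : act 5 p0 = p1) (h1 : act 0 q1 = q2) (h2 : act 5 q2 = q3) (h3 : act 6 q3 = q4) (h4 : act 0 q4 = q5) (h5 : act 6 q5 = q6) (h6 : act 5 q6 = q7) (h7 : act 0 q7 = q8) (h8 : act 5 q8 = q9) (h9 : act 6 q9 = q10) (h10 : act 0 q10 = p0) : p1 = q1 := by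
  have hr := R21 p0
  subst h0
  subst h10
  subst h9
  subst h8
  subst h7
  subst h6
  subst h5
  subst h4
  subst h3
  subst h2
  subst h1
  exact ij (ij (ij (ij (ij (ij (ij (ij (ij (ij (hr))))))))))

theorem c21_2 {p0 p1 p2 q2 q3 q4 q5 q6 q7 q8 q9 q10 : Q} (h0 : act 5 p0 = p1) (h1 : act 0 p1 = p2) (h2 : act 5 q2 = q3) (h3 : act 6 q3 = q4) (h4 : act 0 q4 = q5) (h5 : act 6 q5 = q6) (h6 : act 5 q6 = q7) (h7 : act 0 q7 = q8) (h8 : act 5 q8 = q9) (h9 : act 6 q9 = q10) (h10 : act 0 q10 = p0) : p2 = q2 := by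
  have hr := R21 p0
  subst h0
  subst h1
  subst h10
  subst h9
  subst h8
  subst h7
  subst h6
  subst h5
  subst h4
  subst h3
  subst h2
  exact ij (ij (ij (ij (ij (ij (ij (ij (ij (hr)))))))))

theorem c21_3 {p0 p1 p2 p3 q3 q4 q5 q6 q7 q8 q9 q10 : Q} (h0 : act 5 p0 = p1) (h1 : act 0 p1 = p2) (h2 : act 5 p2 = p3) (h3 : act 6 q3 = q4) (h4 : act 0 q4 = q5) (h5 : act 6 q5 = q6) (h6 : act 5 q6 = q7) (h7 : act 0 q7 = q8) (h8 : act 5 q8 = q9) (h9 : act 6 q9 = q10) (h10 : act 0 q10 = p0) : p3 = q3 := by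
  have hr := R21 p0
  subst h0
  subst h1
  subst h2
  subst h10
  subst h9
  subst h8
  subst h7
  subst h6
  subst h5
  subst h4
  subst h3
  exact ij (ij (ij (ij (ij (ij (ij (ij (hr))))))))

theorem c21_4 {p0 p1 p2 p3 p4 q4 q5 q6 q7 q8 q9 q10 : Q} (h0 : act 5 p0 = p1) (h1 : act 0 p1 = p2) (h2 : act 5 p2 = p3) (h3 : act 6 p3 = p4) (h4 : act 0 q4 = q5) (h5 : act 6 q5 = q6) (h6 : act 5 q6 = q7) (h7 : act 0 q7 = q8) (h8 : act 5 q8 = q9) (h9 : act 6 q9 = q10) (h10 : act 0 q10 = p0) : p4 = q4 := by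
  have hr := R21 p0
  subst h0
  subst h1
  subst h2
  subst h3
  subst h10
  subst h9
  subst h8
  subst h7
  subst h6
  subst h5
  subst h4
  exact ij (ij (ij (ij (ij (ij (ij (hr)))))))

theorem c21_5 {p0 p1 p2 p3 p4 p5 q5 q6 q7 q8 q9 q10 : Q} (h0 : act 5 p0 = p1) (h1 : act 0 p1 = p2) (h2 : act 5 p2 = p3) (h3 : act 6 p3 = p4) (h4 : act 0 p4 = p5) (h5 : act 6 q5 = q6) (h6 : act 5 q6 = q7) (h7 : act 0 q7 = q8) (h8 : act 5 q8 = q9) (h9 : act 6 q9 = q10) (h10 : act 0 q10 = p0) : p5 = q5 := by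
  have hr := R21 p0
  subst h0
  subst h1
  subst h2
  subst h3
  subst h4
  subst h10
  subst h9
  subst h8
  subst h7
  subst h6
  subst h5
  exact ij (ij (ij (ij (ij (ij (hr))))))

theorem c21_6 {p0 p1 p2 p3 p4 p5 p6 q6 q7 q8 q9 q10 : Q} (h0 : act 5 p0 = p1) (h1 : act 0 p1 = p2) (h2 : act 5 p2 = p3) (h3 : act 6 p3 = p4) (h4 : act 0 p4 = p5) (h5 : act 6 p5 = p6) (h6 : act 5 q6 = q7) (h7 : act 0 q7 = q8) (h8 : act 5 q8 = q9) (h9 : act 6 q9 = q10) (h10 : act 0 q10 = p0) : p6 = q6 := by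
  have hr := R21 p0
  subst h0
  subst h1
  subst h2
  subst h3
  subst h4
  subst h5
  subst h10
  subst h9
  subst h8
  subst h7
  subst h6
  exact ij (ij (ij (ij (ij (hr)))))

theorem c21_7 {p0 p1 p2 p3 p4 p5 p6 p7 q7 q8 q9 q10 : Q} (h0 : act 5 p0 = p1) (h1 : act 0 p1 = p2) (h2 : act 5 p2 = p3) (h3 : act 6 p3 = p4) (h4 : act 0 p4 = p5) (h5 : act 6 p5 = p6) (h6 : act 5 p6 = p7) (h7 : act 0 q7 = q8) (h8 : act 5 q8 = q9) (h9 : act 6 q9 = q10) (h10 : act 0 q10 = p0) : p7 = q7 := by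
  have hr := R21 p0
  subst h0
  subst h1
  subst h2
  subst h3
  subst h4
  subst h5
  subst h6
  subst h10
  subst h9
  subst h8
  subst h7
  exact ij (ij (ij (ij (hr))))

theorem c21_8 {p0 p1 p2 p3 p4 p5 p6 p7 p8 q8 q9 q10 : Q} (h0 : act 5 p0 = p1) (h1 : act 0 p1 = p2) (h2 : act 5 p2 = p3) (h3 : act 6 p3 = p4) (h4 : act 0 p4 = p5) (h5 : act 6 p5 = p6) (h6 : act 5 p6 = p7) (h7 : act 0 p7 = p8) (h8 : act 5 q8 = q9) (h9 : act 6 q9 = q10) (h10 : act 0 q10 = p0) : p8 = q8 := by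
  have hr := R21 p0
  subst h0
  subst h1
  subst h2
  subst h3
  subst h4
  subst h5
  subst h6
  subst h7
  subst h10
  subst h9
  subst h8
  exact ij (ij (ij (hr)))

theorem c21_9 {p0 p1 p2 p3 p4 p5 p6 p7 p8 p9 q9 q10 : Q} (h0 : act 5 p0 = p1) (h1 : act 0 p1 = p2) (h2 : act 5 p2 = p3) (h3 : act 6 p3 = p4) (h4 : act 0 p4 = p5) (h5 : act 6 p5 = p6) (h6 : act 5 p6 = p7) (h7 : act 0 p7 = p8) (h8 : act 5 p8 = p9) (h9 : act 6 q9 = q10) (h10 : act 0 q10 = p0) : p9 = q9 := by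
  have hr := R21 p0
  subst h0
  subst h1
  subst h2
  subst h3
  subst h4
  subst h5
  subst h6
  subst h7
  subst h8
  subst h10
  subst h9
  exact ij (ij (hr))

theorem c21_10 {p0 p1 p2 p3 p4 p5 p6 p7 p8 p9 p10 q10 : Q} (h0 : act 5 p0 = p1) (h1 : act 0 p1 = p2) (h2 : act 5 p2 = p3) (h3 : act 6 p3 = p4) (h4 : act 0 p4 = p5) (h5 : act 6 p5 = p6) (h6 : act 5 p6 = p7) (h7 : act 0 p7 = p8) (h8 : act 5 p8 = p9) (h9 : act 6 p9 = p10) (h10 : act 0 q10 = p0) : p10 = q10 := by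
  have hr := R21 p0
  subst h0
  subst h1
  subst h2
  subst h3
  subst h4
  subst h5
  subst h6
  subst h7
  subst h8
  subst h9
  subst h10
  exact ij (hr)

theorem c21_11 {p0 p1 p2 p3 p4 p5 p6 p7 p8 p9 p10 p11 : Q} (h0 : act 5 p0 = p1) (h1 : act 0 p1 = p2) (h2 : act 5 p2 = p3) (h3 : act 6 p3 = p4) (h4 : act 0 p4 = p5) (h5 : act 6 p5 = p6) (h6 : act 5 p6 = p7) (h7 : act 0 p7 = p8) (h8 : act 5 p8 = p9) (h9 : act 6 p9 = p10) (h10 : act 0 p10 = p11) : p11 = p0 := by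
  have hr := R21 p0
  subst h0
  subst h1
  subst h2
  subst h3
  subst h4
  subst h5
  subst h6
  subst h7
  subst h8
  subst h9
  subst h10
  exact hr

theorem d0_0 {p0 q1 q2 q3 q4 q5 : Q} (h1 : act 2 q1 = q2) (h2 : act 3 q2 = q3) (h3 : act 2 q3 = q4) (h4 : act 3 q4 = q5) (h5 : act 2 q5 = p0) : act 3 p0 = q1 := by
  have hr := R0 p0
  subst h5
  subst h4
  subst h3
  subst h2
  subst h1
  exact ij (ij (ij (ij (ij (hr)))))

theorem d0_1 {p0 p1 q2 q3 q4 q5 : Q} (h0 : act 3 p0 = p1) (h2 : act 3 q2 = q3) (h3 : act 2 q3 = q4) (h4 : act 3 q4 = q5) (h5 : act 2 q5 = p0) : act 2 p1 = q2 := by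
  have hr := R0 p0
  subst h0
  subst h5
  subst h4
  subst h3
  subst h2
  exact ij (ij (ij (ij (hr))))

theorem d0_2 {p0 p1 p2 q3 q4 q5 : Q} (h0 : act 3 p0 = p1) (h1 : act 2 p1 = p2) (h3 : act 2 q3 = q4) (h4 : act 3 q4 = q5) (h5 : act 2 q5 = p0) : act 3 p2 = q3 := by
  have hr := R0 p0
  subst h0
  subst h1
  subst h5
  subst h4
  subst h3
  exact ij (ij (ij (hr)))

theorem d0_3 {p0 p1 p2 p3 q4 q5 : Q} (h0 : act 3 p0 = p1) (h1 : act 2 p1 = p2) (h2 : act 3 p2 = p3) (h4 : act 3 q4 = q5) (h5 : act 2 q5 = p0) : act 2 p3 = q4 := by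
  have hr := R0 p0
  subst h0
  subst h1
  subst h2
  subst h5
  subst h4
  exact ij (ij (hr))

theorem d0_4 {p0 p1 p2 p3 p4 q5 : Q} (h0 : act 3 p0 = p1) (h1 : act 2 p1 = p2) (h2 : act 3 p2 = p3) (h3 : act 2 p3 = p4) (h5 : act 2 q5 = p0) : act 3 p4 = q5 := by
  have hr := R0 p0
  subst h0
  subst h1
  subst h2
  subst h3
  subst h5
  exact ij (hr)

theorem d0_5 {p0 p1 p2 p3 p4 p5 : Q} (h0 : act 3 p0 = p1) (h1 : act 2 p1 = p2) (h2 : act 3 p2 = p3) (h3 : act 2 p3 = p4) (h4 : act 3 p4 = p5) : act 2 p5 = p0 := by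
  have hr := R0 p0
  subst h0
  subst h1
  subst h2
  subst h3
  subst h4
  exact hr

theorem d1_0 {p0 q1 q2 q3 : Q} (h1 : act 2 q1 = q2) (h2 : act 4 q2 = q3) (h3 : act 2 q3 = p0) : act 4 p0 = q1 := by
  have hr := R1 p0
  subst h3
  subst h2
  subst h1
  exact ij (ij (ij (hr)))

theorem d1_1 {p0 p1 q2 q3 : Q} (h0 : act 4 p0 = p1) (h2 : act 4 q2 = q3) (h3 : act 2 q3 = p0) : act 2 p1 = q2 := by
  have hr := R1 p0
  subst h0
  subst h3
  subst h2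
  exact ij (ij (hr))

theorem d1_2 {p0 p1 p2 q3 : Q} (h0 : act 4 p0 = p1) (h1 : act 2 p1 = p2) (h3 : act 2 q3 = p0) : act 4 p2 = q3 := by
  have hr := R1 p0
  subst h0
  subst h1
  subst h3
  exact ij (hr)

theorem d1_3 {p0 p1 p2 p3 : Q} (h0 : act 4 p0 = p1) (h1 : act 2 p1 = p2) (h2 : act 4 p2 = p3) : act 2 p3 = p0 := by
  have hr := R1 p0
  subst h0
  subst h1
  subst h2
  exact hr

theorem d2_0 {p0 q1 q2 q3 : Q} (h1 : act 2 q1 = q2) (h2 : act 5 q2 = q3) (h3 : act 2 q3 = p0) : act 5 p0 = q1 := by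
  have hr := R2 p0
  subst h3
  subst h2
  subst h1
  exact ij (ij (ij (hr)))

theorem d2_1 {p0 p1 q2 q3 : Q} (h0 : act 5 p0 = p1) (h2 : act 5 q2 = q3) (h3 : act 2 q3 = p0) : act 2 p1 = q2 := by
  have hr := R2 p0
  subst h0
  subst h3
  subst h2
  exact ij (ij (hr))

theorem d2_2 {p0 p1 p2 q3 : Q} (h0 : act 5 p0 = p1) (h1 : act 2 p1 = p2) (h3 : act 2 q3 = p0) : act 5 p2 = q3 := by
  have hr := R2 p0
  subst h0
  subst h1
  subst h3
  exact ij (hr)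

theorem d2_3 {p0 p1 p2 p3 : Q} (h0 : act 5 p0 = p1) (h1 : act 2 p1 = p2) (h2 : act 5 p2 = p3) : act 2 p3 = p0 := by
  have hr := R2 p0
  subst h0
  subst h1
  subst h2
  exact hr

theorem d3_0 {p0 q1 q2 q3 : Q} (h1 : act 2 q1 = q2) (h2 : act 6 q2 = q3) (h3 : act 2 q3 = p0) : act 6 p0 = q1 := by
  have hr := R3 p0
  subst h3
  subst h2
  subst h1
  exact ij (ij (ij (hr)))

theorem d3_1 {p0 p1 q2 q3 : Q} (h0 : act 6 p0 = p1) (h2 : act 6 q2 = q3) (h3 : act 2 q3 = p0) : act 2 p1 = q2 := by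
  have hr := R3 p0
  subst h0
  subst h3
  subst h2
  exact ij (ij (hr))

theorem d3_2 {p0 p1 p2 q3 : Q} (h0 : act 6 p0 = p1) (h1 : act 2 p1 = p2) (h3 : act 2 q3 = p0) : act 6 p2 = q3 := by
  have hr := R3 p0
  subst h0
  subst h1
  subst h3
  exact ij (hr)

theorem d3_3 {p0 p1 p2 p3 : Q} (h0 : act 6 p0 = p1) (h1 : act 2 p1 = p2) (h2 : act 6 p2 = p3) : act 2 p3 = p0 := by
  have hr := R3 p0
  subst h0
  subst h1
  subst h2
  exact hr

theorem d4_0 {p0 q1 q2 q3 : Q} (h1 : act 2 q1 = q2) (h2 : act 7 q2 = q3) (h3 : act 2 q3 = p0) : act 7 p0 = q1 := by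
  have hr := R4 p0
  subst h3
  subst h2
  subst h1
  exact ij (ij (ij (hr)))

theorem d4_1 {p0 p1 q2 q3 : Q} (h0 : act 7 p0 = p1) (h2 : act 7 q2 = q3) (h3 : act 2 q3 = p0) : act 2 p1 = q2 := by
  have hr := R4 p0
  subst h0
  subst h3
  subst h2
  exact ij (ij (hr))

theorem d4_2 {p0 p1 p2 q3 : Q} (h0 : act 7 p0 = p1) (h1 : act 2 p1 = p2) (h3 : act 2 q3 = p0) : act 7 p2 = q3 := by
  have hr := R4 p0
  subst h0
  subst h1
  subst h3
  exact ij (hr)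

theorem d4_3 {p0 p1 p2 p3 : Q} (h0 : act 7 p0 = p1) (h1 : act 2 p1 = p2) (h2 : act 7 p2 = p3) : act 2 p3 = p0 := by
  have hr := R4 p0
  subst h0
  subst h1
  subst h2
  exact hr

theorem d5_0 {p0 q1 q2 q3 q4 q5 : Q} (h1 : act 3 q1 = q2) (h2 : act 4 q2 = q3) (h3 : act 3 q3 = q4) (h4 : act 4 q4 = q5) (h5 : act 3 q5 = p0) : act 4 p0 = q1 := by
  have hr := R5 p0
  subst h5
  subst h4
  subst h3
  subst h2
  subst h1
  exact ij (ij (ij (ij (ij (hr)))))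

theorem d5_1 {p0 p1 q2 q3 q4 q5 : Q} (h0 : act 4 p0 = p1) (h2 : act 4 q2 = q3) (h3 : act 3 q3 = q4) (h4 : act 4 q4 = q5) (h5 : act 3 q5 = p0) : act 3 p1 = q2 := by
  have hr := R5 p0
  subst h0
  subst h5
  subst h4
  subst h3
  subst h2
  exact ij (ij (ij (ij (hr))))

theorem d5_2 {p0 p1 p2 q3 q4 q5 : Q} (h0 : act 4 p0 = p1) (h1 : act 3 p1 = p2) (h3 : act 3 q3 = q4) (h4 : act 4 q4 = q5) (h5 : act 3 q5 = p0) : act 4 p2 = q3 := by
  have hr := R5 p0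
  subst h0
  subst h1
  subst h5
  subst h4
  subst h3
  exact ij (ij (ij (hr)))

theorem d5_3 {p0 p1 p2 p3 q4 q5 : Q} (h0 : act 4 p0 = p1) (h1 : act 3 p1 = p2) (h2 : act 4 p2 = p3) (h4 : act 4 q4 = q5) (h5 : act 3 q5 = p0) : act 3 p3 = q4 := by
  have hr := R5 p0
  subst h0
  subst h1
  subst h2
  subst h5
  subst h4
  exact ij (ij (hr))

theorem d5_4 {p0 p1 p2 p3 p4 q5 : Q} (h0 : act 4 p0 = p1) (h1 : act 3 p1 = p2) (h2 : act 4 p2 = p3) (h3 : act 3 p3 = p4) (h5 : act 3 q5 = p0) : act 4 p4 = q5 := by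
  have hr := R5 p0
  subst h0
  subst h1
  subst h2
  subst h3
  subst h5
  exact ij (hr)

theorem d5_5 {p0 p1 p2 p3 p4 p5 : Q} (h0 : act 4 p0 = p1) (h1 : act 3 p1 = p2) (h2 : act 4 p2 = p3) (h3 : act 3 p3 = p4) (h4 : act 4 p4 = p5) : act 3 p5 = p0 := by
  have hr := R5 p0
  subst h0
  subst h1
  subst h2
  subst h3
  subst h4
  exact hr

theorem d6_0 {p0 q1 q2 q3 : Q} (h1 : act 3 q1 = q2) (h2 : act 5 q2 = q3) (h3 : act 3 q3 = p0) : act 5 p0 = q1 := by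
  have hr := R6 p0
  subst h3
  subst h2
  subst h1
  exact ij (ij (ij (hr)))

theorem d6_1 {p0 p1 q2 q3 : Q} (h0 : act 5 p0 = p1) (h2 : act 5 q2 = q3) (h3 : act 3 q3 = p0) : act 3 p1 = q2 := by
  have hr := R6 p0
  subst h0
  subst h3
  subst h2
  exact ij (ij (hr))

theorem d6_2 {p0 p1 p2 q3 : Q} (h0 : act 5 p0 = p1) (h1 : act 3 p1 = p2) (h3 : act 3 q3 = p0) : act 5 p2 = q3 := by
  have hr := R6 p0
  subst h0
  subst h1
  subst h3
  exact ij (hr)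

theorem d6_3 {p0 p1 p2 p3 : Q} (h0 : act 5 p0 = p1) (h1 : act 3 p1 = p2) (h2 : act 5 p2 = p3) : act 3 p3 = p0 := by
  have hr := R6 p0
  subst h0
  subst h1
  subst h2
  exact hr

theorem d7_0 {p0 q1 q2 q3 : Q} (h1 : act 3 q1 = q2) (h2 : act 6 q2 = q3) (h3 : act 3 q3 = p0) : act 6 p0 = q1 := by
  have hr := R7 p0
  subst h3
  subst h2
  subst h1
  exact ij (ij (ij (hr)))

theorem d7_1 {p0 p1 q2 q3 : Q} (h0 : act 6 p0 = p1) (h2 : act 6 q2 = q3) (h3 : act 3 q3 = p0) : act 3 p1 = q2 := by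
  have hr := R7 p0
  subst h0
  subst h3
  subst h2
  exact ij (ij (hr))

theorem d7_2 {p0 p1 p2 q3 : Q} (h0 : act 6 p0 = p1) (h1 : act 3 p1 = p2) (h3 : act 3 q3 = p0) : act 6 p2 = q3 := by
  have hr := R7 p0
  subst h0
  subst h1
  subst h3
  exact ij (hr)

theorem d7_3 {p0 p1 p2 p3 : Q} (h0 : act 6 p0 = p1) (h1 : act 3 p1 = p2) (h2 : act 6 p2 = p3) : act 3 p3 = p0 := by
  have hr := R7 p0
  subst h0
  subst h1
  subst h2
  exact hr

theorem d8_0 {p0 q1 q2 q3 : Q} (h1 : act 3 q1 = q2) (h2 : act 7 q2 = q3) (h3 : act 3 q3 = p0) : act 7 p0 = q1 := by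
  have hr := R8 p0
  subst h3
  subst h2
  subst h1
  exact ij (ij (ij (hr)))

theorem d8_1 {p0 p1 q2 q3 : Q} (h0 : act 7 p0 = p1) (h2 : act 7 q2 = q3) (h3 : act 3 q3 = p0) : act 3 p1 = q2 := by
  have hr := R8 p0
  subst h0
  subst h3
  subst h2
  exact ij (ij (hr))

theorem d8_2 {p0 p1 p2 q3 : Q} (h0 : act 7 p0 = p1) (h1 : act 3 p1 = p2) (h3 : act 3 q3 = p0) : act 7 p2 = q3 := by
  have hr := R8 p0
  subst h0
  subst h1
  subst h3
  exact ij (hr)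

theorem d8_3 {p0 p1 p2 p3 : Q} (h0 : act 7 p0 = p1) (h1 : act 3 p1 = p2) (h2 : act 7 p2 = p3) : act 3 p3 = p0 := by
  have hr := R8 p0
  subst h0
  subst h1
  subst h2
  exact hr

theorem d9_0 {p0 q1 q2 q3 q4 q5 q6 q7 q8 q9 q10 q11 q12 q13 q14 q15 : Q} (h1 : act 4 q1 = q2) (h2 : act 5 q2 = q3) (h3 : act 4 q3 = q4) (h4 : act 5 q4 = q5) (h5 : act 4 q5 = q6) (h6 : act 5 q6 = q7) (h7 : act 4 q7 = q8) (h8 : act 5 q8 = q9) (h9 : act 4 q9 = q10) (h10 : act 5 q10 = q11) (h11 : act 4 q11 = q12) (h12 : act 5 q12 = q13) (h13 : act 4 q13 = q14) (h14 : act 5 q14 = q15) (h15 : act 4 q15 = p0) : act 5 p0 = q1 := by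
  have hr := R9 p0
  subst h15
  subst h14
  subst h13
  subst h12
  subst h11
  subst h10
  subst h9
  subst h8
  subst h7
  subst h6
  subst h5
  subst h4
  subst h3
  subst h2
  subst h1
  exact ij (ij (ij (ij (ij (ij (ij (ij (ij (ij (ij (ij (ij (ij (ij (hr)))))))))))))))

theorem d9_1 {p0 p1 q2 q3 q4 q5 q6 q7 q8 q9 q10 q11 q12 q13 q14 q15 : Q} (h0 : act 5 p0 = p1) (h2 : act 5 q2 = q3) (h3 : act 4 q3 = q4) (h4 : act 5 q4 = q5) (h5 : act 4 q5 = q6) (h6 : act 5 q6 = q7) (h7 : act 4 q7 = q8) (h8 : act 5 q8 = q9) (h9 : act 4 q9 = q10) (h10 : act 5 q10 = q11) (h11 : act 4 q11 = q12) (h12 : act 5 q12 = q13) (h13 : act 4 q13 = q14) (h14 : act 5 q14 = q15) (h15 : act 4 q15 = p0) : act 4 p1 = q2 := by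
  have hr := R9 p0
  subst h0
  subst h15
  subst h14
  subst h13
  subst h12
  subst h11
  subst h10
  subst h9
  subst h8
  subst h7
  subst h6
  subst h5
  subst h4
  subst h3
  subst h2
  exact ij (ij (ij (ij (ij (ij (ij (ij (ij (ij (ij (ij (ij (ij (hr))))))))))))))

theorem d9_2 {p0 p1 p2 q3 q4 q5 q6 q7 q8 q9 q10 q11 q12 q13 q14 q15 : Q} (h0 : act 5 p0 = p1) (h1 : act 4 p1 = p2) (h3 : act 4 q3 = q4) (h4 : act 5 q4 = q5) (h5 : act 4 q5 = q6) (h6 : act 5 q6 = q7) (h7 : act 4 q7 = q8) (h8 : act 5 q8 = q9) (h9 : act 4 q9 = q10) (h10 : act 5 q10 = q11) (h11 : act 4 q11 = q12) (h12 : act 5 q12 = q13) (h13 : act 4 q13 = q14) (h14 : act 5 q14 = q15) (h15 : act 4 q15 = p0) : act 5 p2 = q3 := by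
  have hr := R9 p0
  subst h0
  subst h1
  subst h15
  subst h14
  subst h13
  subst h12
  subst h11
  subst h10
  subst h9
  subst h8
  subst h7
  subst h6
  subst h5
  subst h4
  subst h3
  exact ij (ij (ij (ij (ij (ij (ij (ij (ij (ij (ij (ij (ij (hr)))))))))))))

theorem d9_3 {p0 p1 p2 p3 q4 q5 q6 q7 q8 q9 q10 q11 q12 q13 q14 q15 : Q} (h0 : act 5 p0 = p1) (h1 : act 4 p1 = p2) (h2 : act 5 p2 = p3) (h4 : act 5 q4 = q5) (h5 : act 4 q5 = q6) (h6 : act 5 q6 = q7) (h7 : act 4 q7 = q8) (h8 : act 5 q8 = q9) (h9 : act 4 q9 = q10) (h10 : act 5 q10 = q11) (h11 : act 4 q11 = q12) (h12 : act 5 q12 = q13) (h13 : act 4 q13 = q14) (h14 : act 5 q14 = q15) (h15 : act 4 q15 = p0) : act 4 p3 = q4 := by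
  have hr := R9 p0
  subst h0
  subst h1
  subst h2
  subst h15
  subst h14
  subst h13
  subst h12
  subst h11
  subst h10
  subst h9
  subst h8
  subst h7
  subst h6
  subst h5
  subst h4
  exact ij (ij (ij (ij (ij (ij (ij (ij (ij (ij (ij (ij (hr))))))))))))

theorem d9_4 {p0 p1 p2 p3 p4 q5 q6 q7 q8 q9 q10 q11 q12 q13 q14 q15 : Q} (h0 : act 5 p0 = p1) (h1 : act 4 p1 = p2) (h2 : act 5 p2 = p3) (h3 : act 4 p3 = p4) (h5 : act 4 q5 = q6) (h6 : act 5 q6 = q7) (h7 : act 4 q7 = q8) (h8 : act 5 q8 = q9) (h9 : act 4 q9 = q10) (h10 : act 5 q10 = q11) (h11 : act 4 q11 = q12) (h12 : act 5 q12 = q13) (h13 : act 4 q13 = q14) (h14 : act 5 q14 = q15) (h15 : act 4 q15 = p0) : act 5 p4 = q5 := by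
  have hr := R9 p0
  subst h0
  subst h1
  subst h2
  subst h3
  subst h15
  subst h14
  subst h13
  subst h12
  subst h11
  subst h10
  subst h9
  subst h8
  subst h7
  subst h6
  subst h5
  exact ij (ij (ij (ij (ij (ij (ij (ij (ij (ij (ij (hr)))))))))))

theorem d9_7 {p0 p1 p2 p3 p4 p5 p6 p7 q8 q9 q10 q11 q12 q13 q14 q15 : Q} (h0 : act 5 p0 = p1) (h1 : act 4 p1 = p2) (h2 : act 5 p2 = p3) (h3 : act 4 p3 = p4) (h4 : act 5 p4 = p5) (h5 : act 4 p5 = p6) (h6 : act 5 p6 = p7) (h8 : act 5 q8 = q9) (h9 : act 4 q9 = q10) (h10 : act 5 q10 = q11) (h11 : act 4 q11 = q12) (h12 : act 5 q12 = q13) (h13 : act 4 q13 = q14) (h14 : act 5 q14 = q15) (h15 : act 4 q15 = p0) : act 4 p7 = q8 := by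
  have hr := R9 p0
  subst h0
  subst h1
  subst h2
  subst h3
  subst h4
  subst h5
  subst h6
  subst h15
  subst h14
  subst h13
  subst h12
  subst h11
  subst h10
  subst h9
  subst h8
  exact ij (ij (ij (ij (ij (ij (ij (ij (hr))))))))

theorem d9_8 {p0 p1 p2 p3 p4 p5 p6 p7 p8 q9 q10 q11 q12 q13 q14 q15 : Q} (h0 : act 5 p0 = p1) (h1 : act 4 p1 = p2) (h2 : act 5 p2 = p3) (h3 : act 4 p3 = p4) (h4 : act 5 p4 = p5) (h5 : act 4 p5 = p6) (h6 : act 5 p6 = p7) (h7 : act 4 p7 = p8) (h9 : act 4 q9 = q10) (h10 : act 5 q10 = q11) (h11 : act 4 q11 = q12) (h12 : act 5 q12 = q13) (h13 : act 4 q13 = q14) (h14 : act 5 q14 = q15) (h15 : act 4 q15 = p0) : act 5 p8 = q9 := by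
  have hr := R9 p0
  subst h0
  subst h1
  subst h2
  subst h3
  subst h4
  subst h5
  subst h6
  subst h7
  subst h15
  subst h14
  subst h13
  subst h12
  subst h11
  subst h10
  subst h9
  exact ij (ij (ij (ij (ij (ij (ij (hr)))))))

theorem d9_9 {p0 p1 p2 p3 p4 p5 p6 p7 p8 p9 q10 q11 q12 q13 q14 q15 : Q} (h0 : act 5 p0 = p1) (h1 : act 4 p1 = p2) (h2 : act 5 p2 = p3) (h3 : act 4 p3 = p4) (h4 : act 5 p4 = p5) (h5 : act 4 p5 = p6) (h6 : act 5 p6 = p7) (h7 : act 4 p7 = p8) (h8 : act 5 p8 = p9) (h10 : act 5 q10 = q11) (h11 : act 4 q11 = q12) (h12 : act 5 q12 = q13) (h13 : act 4 q13 = q14) (h14 : act 5 q14 = q15) (h15 : act 4 q15 = p0) : act 4 p9 = q10 := by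
  have hr := R9 p0
  subst h0
  subst h1
  subst h2
  subst h3
  subst h4
  subst h5
  subst h6
  subst h7
  subst h8
  subst h15
  subst h14
  subst h13
  subst h12
  subst h11
  subst h10
  exact ij (ij (ij (ij (ij (ij (hr))))))

theorem d9_10 {p0 p1 p2 p3 p4 p5 p6 p7 p8 p9 p10 q11 q12 q13 q14 q15 : Q} (h0 : act 5 p0 = p1) (h1 : act 4 p1 = p2) (h2 : act 5 p2 = p3) (h3 : act 4 p3 = p4) (h4 : act 5 p4 = p5) (h5 : act 4 p5 = p6) (h6 : act 5 p6 = p7) (h7 : act 4 p7 = p8) (h8 : act 5 p8 = p9) (h9 : act 4 p9 = p10) (h11 : act 4 q11 = q12) (h12 : act 5 q12 = q13) (h13 : act 4 q13 = q14) (h14 : act 5 q14 = q15) (h15 : act 4 q15 = p0) : act 5 p10 = q11 := by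
  have hr := R9 p0
  subst h0
  subst h1
  subst h2
  subst h3
  subst h4
  subst h5
  subst h6
  subst h7
  subst h8
  subst h9
  subst h15
  subst h14
  subst h13
  subst h12
  subst h11
  exact ij (ij (ij (ij (ij (hr)))))

theorem d9_11 {p0 p1 p2 p3 p4 p5 p6 p7 p8 p9 p10 p11 q12 q13 q14 q15 : Q} (h0 : act 5 p0 = p1) (h1 : act 4 p1 = p2) (h2 : act 5 p2 = p3) (h3 : act 4 p3 = p4) (h4 : act 5 p4 = p5) (h5 : act 4 p5 = p6) (h6 : act 5 p6 = p7) (h7 : act 4 p7 = p8) (h8 : act 5 p8 = p9) (h9 : act 4 p9 = p10) (h10 : act 5 p10 = p11) (h12 : act 5 q12 = q13) (h13 : act 4 q13 = q14) (h14 : act 5 q14 = q15) (h15 : act 4 q15 = p0) : act 4 p11 = q12 := by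
  have hr := R9 p0
  subst h0
  subst h1
  subst h2
  subst h3
  subst h4
  subst h5
  subst h6
  subst h7
  subst h8
  subst h9
  subst h10
  subst h15
  subst h14
  subst h13
  subst h12
  exact ij (ij (ij (ij (hr))))

theorem d9_12 {p0 p1 p2 p3 p4 p5 p6 p7 p8 p9 p10 p11 p12 q13 q14 q15 : Q} (h0 : act 5 p0 = p1) (h1 : act 4 p1 = p2) (h2 : act 5 p2 = p3) (h3 : act 4 p3 = p4) (h4 : act 5 p4 = p5) (h5 : act 4 p5 = p6) (h6 : act 5 p6 = p7) (h7 : act 4 p7 = p8) (h8 : act 5 p8 = p9) (h9 : act 4 p9 = p10) (h10 : act 5 p10 = p11) (h11 : act 4 p11 = p12) (h13 : act 4 q13 = q14) (h14 : act 5 q14 = q15) (h15 : act 4 q15 = p0) : act 5 p12 = q13 := by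
  have hr := R9 p0
  subst h0
  subst h1
  subst h2
  subst h3
  subst h4
  subst h5
  subst h6
  subst h7
  subst h8
  subst h9
  subst h10
  subst h11
  subst h15
  subst h14
  subst h13
  exact ij (ij (ij (hr)))

theorem d9_13 {p0 p1 p2 p3 p4 p5 p6 p7 p8 p9 p10 p11 p12 p13 q14 q15 : Q} (h0 : act 5 p0 = p1) (h1 : act 4 p1 = p2) (h2 : act 5 p2 = p3) (h3 : act 4 p3 = p4) (h4 : act 5 p4 = p5) (h5 : act 4 p5 = p6) (h6 : act 5 p6 = p7) (h7 : act 4 p7 = p8) (h8 : act 5 p8 = p9) (h9 : act 4 p9 = p10) (h10 : act 5 p10 = p11) (h11 : act 4 p11 = p12) (h12 : act 5 p12 = p13) (h14 : act 5 q14 = q15) (h15 : act 4 q15 = p0) : act 4 p13 = q14 := by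
  have hr := R9 p0
  subst h0
  subst h1
  subst h2
  subst h3
  subst h4
  subst h5
  subst h6
  subst h7
  subst h8
  subst h9
  subst h10
  subst h11
  subst h12
  subst h15
  subst h14
  exact ij (ij (hr))

theorem d9_14 {p0 p1 p2 p3 p4 p5 p6 p7 p8 p9 p10 p11 p12 p13 p14 q15 : Q} (h0 : act 5 p0 = p1) (h1 : act 4 p1 = p2) (h2 : act 5 p2 = p3) (h3 : act 4 p3 = p4) (h4 : act 5 p4 = p5) (h5 : act 4 p5 = p6) (h6 : act 5 p6 = p7) (h7 : act 4 p7 = p8) (h8 : act 5 p8 = p9) (h9 : act 4 p9 = p10) (h10 : act 5 p10 = p11) (h11 : act 4 p11 = p12) (h12 : act 5 p12 = p13) (h13 : act 4 p13 = p14) (h15 : act 4 q15 = p0) : act 5 p14 = q15 := by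
  have hr := R9 p0
  subst h0
  subst h1
  subst h2
  subst h3
  subst h4
  subst h5
  subst h6
  subst h7
  subst h8
  subst h9
  subst h10
  subst h11
  subst h12
  subst h13
  subst h15
  exact ij (hr)

theorem d9_15 {p0 p1 p2 p3 p4 p5 p6 p7 p8 p9 p10 p11 p12 p13 p14 p15 : Q} (h0 : act 5 p0 = p1) (h1 : act 4 p1 = p2) (h2 : act 5 p2 = p3) (h3 : act 4 p3 = p4) (h4 : act 5 p4 = p5) (h5 : act 4 p5 = p6) (h6 : act 5 p6 = p7) (h7 : act 4 p7 = p8) (h8 : act 5 p8 = p9) (h9 : act 4 p9 = p10) (h10 : act 5 p10 = p11) (h11 : act 4 p11 = p12) (h12 : act 5 p12 = p13) (h13 : act 4 p13 = p14) (h14 : act 5 p14 = p15) : act 4 p15 = p0 := by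
  have hr := R9 p0
  subst h0
  subst h1
  subst h2
  subst h3
  subst h4
  subst h5
  subst h6
  subst h7
  subst h8
  subst h9
  subst h10
  subst h11
  subst h12
  subst h13
  subst h14
  exact hr

theorem d10_0 {p0 q1 q2 q3 : Q} (h1 : act 4 q1 = q2) (h2 : act 6 q2 = q3) (h3 : act 4 q3 = p0) : act 6 p0 = q1 := by
  have hr := R10 p0
  subst h3
  subst h2
  subst h1
  exact ij (ij (ij (hr)))

theorem d10_1 {p0 p1 q2 q3 : Q} (h0 : act 6 p0 = p1) (h2 : act 6 q2 = q3) (h3 : act 4 q3 = p0) : act 4 p1 = q2 := by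
  have hr := R10 p0
  subst h0
  subst h3
  subst h2
  exact ij (ij (hr))

theorem d10_2 {p0 p1 p2 q3 : Q} (h0 : act 6 p0 = p1) (h1 : act 4 p1 = p2) (h3 : act 4 q3 = p0) : act 6 p2 = q3 := by
  have hr := R10 p0
  subst h0
  subst h1
  subst h3
  exact ij (hr)

theorem d10_3 {p0 p1 p2 p3 : Q} (h0 : act 6 p0 = p1) (h1 : act 4 p1 = p2) (h2 : act 6 p2 = p3) : act 4 p3 = p0 := by
  have hr := R10 p0
  subst h0
  subst h1
  subst h2
  exact hr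

theorem d11_0 {p0 q1 q2 q3 : Q} (h1 : act 4 q1 = q2) (h2 : act 7 q2 = q3) (h3 : act 4 q3 = p0) : act 7 p0 = q1 := by
  have hr := R11 p0
  subst h3
  subst h2
  subst h1
  exact ij (ij (ij (hr)))

theorem d11_1 {p0 p1 q2 q3 : Q} (h0 : act 7 p0 = p1) (h2 : act 7 q2 = q3) (h3 : act 4 q3 = p0) : act 4 p1 = q2 := by
  have hr := R11 p0
  subst h0
  subst h3
  subst h2
  exact ij (ij (hr))

theorem d11_2 {p0 p1 p2 q3 : Q} (h0 : act 7 p0 = p1) (h1 : act 4 p1 = p2) (h3 : act 4 q3 = p0) : act 7 p2 = q3 := by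
  have hr := R11 p0
  subst h0
  subst h1
  subst h3
  exact ij (hr)

theorem d11_3 {p0 p1 p2 p3 : Q} (h0 : act 7 p0 = p1) (h1 : act 4 p1 = p2) (h2 : act 7 p2 = p3) : act 4 p3 = p0 := by
  have hr := R11 p0
  subst h0
  subst h1
  subst h2
  exact hr

theorem d12_0 {p0 q1 q2 q3 q4 q5 : Q} (h1 : act 5 q1 = q2) (h2 : act 6 q2 = q3) (h3 : act 5 q3 = q4) (h4 : act 6 q4 = q5) (h5 : act 5 q5 = p0) : act 6 p0 = q1 := by
  have hr := R12 p0
  subst h5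
  subst h4
  subst h3
  subst h2
  subst h1
  exact ij (ij (ij (ij (ij (hr)))))

theorem d12_1 {p0 p1 q2 q3 q4 q5 : Q} (h0 : act 6 p0 = p1) (h2 : act 6 q2 = q3) (h3 : act 5 q3 = q4) (h4 : act 6 q4 = q5) (h5 : act 5 q5 = p0) : act 5 p1 = q2 := by
  have hr := R12 p0
  subst h0
  subst h5
  subst h4
  subst h3
  subst h2
  exact ij (ij (ij (ij (hr))))

theorem d12_2 {p0 p1 p2 q3 q4 q5 : Q} (h0 : act 6 p0 = p1) (h1 : act 5 p1 = p2) (h3 : act 5 q3 = q4) (h4 : act 6 q4 = q5) (h5 : act 5 q5 = p0) : act 6 p2 = q3 := by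
  have hr := R12 p0
  subst h0
  subst h1
  subst h5
  subst h4
  subst h3
  exact ij (ij (ij (hr)))

theorem d12_3 {p0 p1 p2 p3 q4 q5 : Q} (h0 : act 6 p0 = p1) (h1 : act 5 p1 = p2) (h2 : act 6 p2 = p3) (h4 : act 6 q4 = q5) (h5 : act 5 q5 = p0) : act 5 p3 = q4 := by
  have hr := R12 p0
  subst h0
  subst h1
  subst h2
  subst h5
  subst h4
  exact ij (ij (hr))

theorem d12_4 {p0 p1 p2 p3 p4 q5 : Q} (h0 : act 6 p0 = p1) (h1 : act 5 p1 = p2) (h2 : act 6 p2 = p3) (h3 : act 5 p3 = p4) (h5 : act 5 q5 = p0) : act 6 p4 = q5 := by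
  have hr := R12 p0
  subst h0
  subst h1
  subst h2
  subst h3
  subst h5
  exact ij (hr)

theorem d12_5 {p0 p1 p2 p3 p4 p5 : Q} (h0 : act 6 p0 = p1) (h1 : act 5 p1 = p2) (h2 : act 6 p2 = p3) (h3 : act 5 p3 = p4) (h4 : act 6 p4 = p5) : act 5 p5 = p0 := by
  have hr := R12 p0
  subst h0
  subst h1
  subst h2
  subst h3
  subst h4
  exact hr

theorem d13_0 {p0 q1 q2 q3 : Q} (h1 : act 5 q1 = q2) (h2 : act 7 q2 = q3) (h3 : act 5 q3 = p0) : act 7 p0 = q1 := by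
  have hr := R13 p0
  subst h3
  subst h2
  subst h1
  exact ij (ij (ij (hr)))

theorem d13_1 {p0 p1 q2 q3 : Q} (h0 : act 7 p0 = p1) (h2 : act 7 q2 = q3) (h3 : act 5 q3 = p0) : act 5 p1 = q2 := by
  have hr := R13 p0
  subst h0
  subst h3
  subst h2
  exact ij (ij (hr))

theorem d13_2 {p0 p1 p2 q3 : Q} (h0 : act 7 p0 = p1) (h1 : act 5 p1 = p2) (h3 : act 5 q3 = p0) : act 7 p2 = q3 := by
  have hr := R13 p0
  subst h0
  subst h1
  subst h3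
  exact ij (hr)

theorem d13_3 {p0 p1 p2 p3 : Q} (h0 : act 7 p0 = p1) (h1 : act 5 p1 = p2) (h2 : act 7 p2 = p3) : act 5 p3 = p0 := by
  have hr := R13 p0
  subst h0
  subst h1
  subst h2
  exact hr

theorem d14_0 {p0 q1 q2 q3 q4 q5 : Q} (h1 : act 6 q1 = q2) (h2 : act 7 q2 = q3) (h3 : act 6 q3 = q4) (h4 : act 7 q4 = q5) (h5 : act 6 q5 = p0) : act 7 p0 = q1 := by
  have hr := R14 p0
  subst h5
  subst h4
  subst h3
  subst h2
  subst h1
  exact ij (ij (ij (ij (ij (hr)))))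

theorem d14_1 {p0 p1 q2 q3 q4 q5 : Q} (h0 : act 7 p0 = p1) (h2 : act 7 q2 = q3) (h3 : act 6 q3 = q4) (h4 : act 7 q4 = q5) (h5 : act 6 q5 = p0) : act 6 p1 = q2 := by
  have hr := R14 p0
  subst h0
  subst h5
  subst h4
  subst h3
  subst h2
  exact ij (ij (ij (ij (hr))))

theorem d14_2 {p0 p1 p2 q3 q4 q5 : Q} (h0 : act 7 p0 = p1) (h1 : act 6 p1 = p2) (h3 : act 6 q3 = q4) (h4 : act 7 q4 = q5) (h5 : act 6 q5 = p0) : act 7 p2 = q3 := by
  have hr := R14 p0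
  subst h0
  subst h1
  subst h5
  subst h4
  subst h3
  exact ij (ij (ij (hr)))

theorem d14_3 {p0 p1 p2 p3 q4 q5 : Q} (h0 : act 7 p0 = p1) (h1 : act 6 p1 = p2) (h2 : act 7 p2 = p3) (h4 : act 7 q4 = q5) (h5 : act 6 q5 = p0) : act 6 p3 = q4 := by
  have hr := R14 p0
  subst h0
  subst h1
  subst h2
  subst h5
  subst h4
  exact ij (ij (hr))

theorem d14_4 {p0 p1 p2 p3 p4 q5 : Q} (h0 : act 7 p0 = p1) (h1 : act 6 p1 = p2) (h2 : act 7 p2 = p3) (h3 : act 6 p3 = p4) (h5 : act 6 q5 = p0) : act 7 p4 = q5 := by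
  have hr := R14 p0
  subst h0
  subst h1
  subst h2
  subst h3
  subst h5
  exact ij (hr)

theorem d14_5 {p0 p1 p2 p3 p4 p5 : Q} (h0 : act 7 p0 = p1) (h1 : act 6 p1 = p2) (h2 : act 7 p2 = p3) (h3 : act 6 p3 = p4) (h4 : act 7 p4 = p5) : act 6 p5 = p0 := by
  have hr := R14 p0
  subst h0
  subst h1
  subst h2
  subst h3
  subst h4
  exact hr

theorem d15_0 {p0 q1 q2 q3 : Q} (h1 : act 1 q1 = q2) (h2 : act 7 q2 = q3) (h3 : act 2 q3 = p0) : act 1 p0 = q1 := by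
  have hr := R15 p0
  subst h3
  subst h2
  subst h1
  exact ij (ij (ij (hr)))

theorem d15_1 {p0 p1 q2 q3 : Q} (h0 : act 1 p0 = p1) (h2 : act 7 q2 = q3) (h3 : act 2 q3 = p0) : act 1 p1 = q2 := by
  have hr := R15 p0
  subst h0
  subst h3
  subst h2
  exact ij (ij (hr))

theorem d15_2 {p0 p1 p2 q3 : Q} (h0 : act 1 p0 = p1) (h1 : act 1 p1 = p2) (h3 : act 2 q3 = p0) : act 7 p2 = q3 := by
  have hr := R15 p0
  subst h0
  subst h1
  subst h3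
  exact ij (hr)

theorem d15_3 {p0 p1 p2 p3 : Q} (h0 : act 1 p0 = p1) (h1 : act 1 p1 = p2) (h2 : act 7 p2 = p3) : act 2 p3 = p0 := by
  have hr := R15 p0
  subst h0
  subst h1
  subst h2
  exact hr

theorem d16_0 {p0 q1 q2 q3 q4 q5 q6 q7 q8 q9 : Q} (h1 : act 5 q1 = q2) (h2 : act 4 q2 = q3) (h3 : act 5 q3 = q4) (h4 : act 4 q4 = q5) (h5 : act 5 q5 = q6) (h6 : act 4 q6 = q7) (h7 : act 5 q7 = q8) (h8 : act 7 q8 = q9) (h9 : act 2 q9 = p0) : act 4 p0 = q1 := by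
  have hr := R16 p0
  subst h9
  subst h8
  subst h7
  subst h6
  subst h5
  subst h4
  subst h3
  subst h2
  subst h1
  exact ij (ij (ij (ij (ij (ij (ij (ij (ij (hr)))))))))

theorem d16_1 {p0 p1 q2 q3 q4 q5 q6 q7 q8 q9 : Q} (h0 : act 4 p0 = p1) (h2 : act 4 q2 = q3) (h3 : act 5 q3 = q4) (h4 : act 4 q4 = q5) (h5 : act 5 q5 = q6) (h6 : act 4 q6 = q7) (h7 : act 5 q7 = q8) (h8 : act 7 q8 = q9) (h9 : act 2 q9 = p0) : act 5 p1 = q2 := by
  have hr := R16 p0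
  subst h0
  subst h9
  subst h8
  subst h7
  subst h6
  subst h5
  subst h4
  subst h3
  subst h2
  exact ij (ij (ij (ij (ij (ij (ij (ij (hr))))))))

theorem d16_2 {p0 p1 p2 q3 q4 q5 q6 q7 q8 q9 : Q} (h0 : act 4 p0 = p1) (h1 : act 5 p1 = p2) (h3 : act 5 q3 = q4) (h4 : act 4 q4 = q5) (h5 : act 5 q5 = q6) (h6 : act 4 q6 = q7) (h7 : act 5 q7 = q8) (h8 : act 7 q8 = q9) (h9 : act 2 q9 = p0) : act 4 p2 = q3 := by
  have hr := R16 p0
  subst h0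
  subst h1
  subst h9
  subst h8
  subst h7
  subst h6
  subst h5
  subst h4
  subst h3
  exact ij (ij (ij (ij (ij (ij (ij (hr)))))))

theorem d16_3 {p0 p1 p2 p3 q4 q5 q6 q7 q8 q9 : Q} (h0 : act 4 p0 = p1) (h1 : act 5 p1 = p2) (h2 : act 4 p2 = p3) (h4 : act 4 q4 = q5) (h5 : act 5 q5 = q6) (h6 : act 4 q6 = q7) (h7 : act 5 q7 = q8) (h8 : act 7 q8 = q9) (h9 : act 2 q9 = p0) : act 5 p3 = q4 := by
  have hr := R16 p0
  subst h0
  subst h1
  subst h2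
  subst h9
  subst h8
  subst h7
  subst h6
  subst h5
  subst h4
  exact ij (ij (ij (ij (ij (ij (hr))))))

theorem d16_4 {p0 p1 p2 p3 p4 q5 q6 q7 q8 q9 : Q} (h0 : act 4 p0 = p1) (h1 : act 5 p1 = p2) (h2 : act 4 p2 = p3) (h3 : act 5 p3 = p4) (h5 : act 5 q5 = q6) (h6 : act 4 q6 = q7) (h7 : act 5 q7 = q8) (h8 : act 7 q8 = q9) (h9 : act 2 q9 = p0) : act 4 p4 = q5 := by
  have hr := R16 p0
  subst h0
  subst h1
  subst h2
  subst h3
  subst h9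
  subst h8
  subst h7
  subst h6
  subst h5
  exact ij (ij (ij (ij (ij (hr)))))

theorem d16_5 {p0 p1 p2 p3 p4 p5 q6 q7 q8 q9 : Q} (h0 : act 4 p0 = p1) (h1 : act 5 p1 = p2) (h2 : act 4 p2 = p3) (h3 : act 5 p3 = p4) (h4 : act 4 p4 = p5) (h6 : act 4 q6 = q7) (h7 : act 5 q7 = q8) (h8 : act 7 q8 = q9) (h9 : act 2 q9 = p0) : act 5 p5 = q6 := by
  have hr := R16 p0
  subst h0
  subst h1
  subst h2
  subst h3
  subst h4
  subst h9
  subst h8
  subst h7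
  subst h6
  exact ij (ij (ij (ij (hr))))

theorem d16_6 {p0 p1 p2 p3 p4 p5 p6 q7 q8 q9 : Q} (h0 : act 4 p0 = p1) (h1 : act 5 p1 = p2) (h2 : act 4 p2 = p3) (h3 : act 5 p3 = p4) (h4 : act 4 p4 = p5) (h5 : act 5 p5 = p6) (h7 : act 5 q7 = q8) (h8 : act 7 q8 = q9) (h9 : act 2 q9 = p0) : act 4 p6 = q7 := by
  have hr := R16 p0
  subst h0
  subst h1
  subst h2
  subst h3
  subst h4
  subst h5
  subst h9
  subst h8
  subst h7
  exact ij (ij (ij (hr)))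

theorem d16_7 {p0 p1 p2 p3 p4 p5 p6 p7 q8 q9 : Q} (h0 : act 4 p0 = p1) (h1 : act 5 p1 = p2) (h2 : act 4 p2 = p3) (h3 : act 5 p3 = p4) (h4 : act 4 p4 = p5) (h5 : act 5 p5 = p6) (h6 : act 4 p6 = p7) (h8 : act 7 q8 = q9) (h9 : act 2 q9 = p0) : act 5 p7 = q8 := by
  have hr := R16 p0
  subst h0
  subst h1
  subst h2
  subst h3
  subst h4
  subst h5
  subst h6
  subst h9
  subst h8
  exact ij (ij (hr))

theorem d16_8 {p0 p1 p2 p3 p4 p5 p6 p7 p8 q9 : Q} (h0 : act 4 p0 = p1) (h1 : act 5 p1 = p2) (h2 : act 4 p2 = p3) (h3 : act 5 p3 = p4) (h4 : act 4 p4 = p5) (h5 : act 5 p5 = p6) (h6 : act 4 p6 = p7) (h7 : act 5 p7 = p8) (h9 : act 2 q9 = p0) : act 7 p8 = q9 := by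
  have hr := R16 p0
  subst h0
  subst h1
  subst h2
  subst h3
  subst h4
  subst h5
  subst h6
  subst h7
  subst h9
  exact ij (hr)

theorem d16_9 {p0 p1 p2 p3 p4 p5 p6 p7 p8 p9 : Q} (h0 : act 4 p0 = p1) (h1 : act 5 p1 = p2) (h2 : act 4 p2 = p3) (h3 : act 5 p3 = p4) (h4 : act 4 p4 = p5) (h5 : act 5 p5 = p6) (h6 : act 4 p6 = p7) (h7 : act 5 p7 = p8) (h8 : act 7 p8 = p9) : act 2 p9 = p0 := by
  have hr := R16 p0
  subst h0
  subst h1
  subst h2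
  subst h3
  subst h4
  subst h5
  subst h6
  subst h7
  subst h8
  exact hr

theorem d17_0 {p0 q1 q2 q3 q4 q5 q6 q7 q8 q9 : Q} (h1 : act 5 q1 = q2) (h2 : act 0 q2 = q3) (h3 : act 5 q3 = q4) (h4 : act 4 q4 = q5) (h5 : act 5 q5 = q6) (h6 : act 1 q6 = q7) (h7 : act 5 q7 = q8) (h8 : act 1 q8 = q9) (h9 : act 4 q9 = p0) : act 0 p0 = q1 := by
  have hr := R17 p0
  subst h9
  subst h8
  subst h7
  subst h6
  subst h5
  subst h4
  subst h3
  subst h2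
  subst h1
  exact ij (ij (ij (ij (ij (ij (ij (ij (ij (hr)))))))))

theorem d17_1 {p0 p1 q2 q3 q4 q5 q6 q7 q8 q9 : Q} (h0 : act 0 p0 = p1) (h2 : act 0 q2 = q3) (h3 : act 5 q3 = q4) (h4 : act 4 q4 = q5) (h5 : act 5 q5 = q6) (h6 : act 1 q6 = q7) (h7 : act 5 q7 = q8) (h8 : act 1 q8 = q9) (h9 : act 4 q9 = p0) : act 5 p1 = q2 := by
  have hr := R17 p0
  subst h0
  subst h9
  subst h8
  subst h7
  subst h6
  subst h5
  subst h4
  subst h3
  subst h2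
  exact ij (ij (ij (ij (ij (ij (ij (ij (hr))))))))

theorem d17_2 {p0 p1 p2 q3 q4 q5 q6 q7 q8 q9 : Q} (h0 : act 0 p0 = p1) (h1 : act 5 p1 = p2) (h3 : act 5 q3 = q4) (h4 : act 4 q4 = q5) (h5 : act 5 q5 = q6) (h6 : act 1 q6 = q7) (h7 : act 5 q7 = q8) (h8 : act 1 q8 = q9) (h9 : act 4 q9 = p0) : act 0 p2 = q3 := by
  have hr := R17 p0
  subst h0
  subst h1
  subst h9
  subst h8
  subst h7
  subst h6
  subst h5
  subst h4
  subst h3
  exact ij (ij (ij (ij (ij (ij (ij (hr)))))))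

theorem d17_3 {p0 p1 p2 p3 q4 q5 q6 q7 q8 q9 : Q} (h0 : act 0 p0 = p1) (h1 : act 5 p1 = p2) (h2 : act 0 p2 = p3) (h4 : act 4 q4 = q5) (h5 : act 5 q5 = q6) (h6 : act 1 q6 = q7) (h7 : act 5 q7 = q8) (h8 : act 1 q8 = q9) (h9 : act 4 q9 = p0) : act 5 p3 = q4 := by
  have hr := R17 p0
  subst h0
  subst h1
  subst h2
  subst h9
  subst h8
  subst h7
  subst h6
  subst h5
  subst h4
  exact ij (ij (ij (ij (ij (ij (hr))))))

theorem d17_4 {p0 p1 p2 p3 p4 q5 q6 q7 q8 q9 : Q} (h0 : act 0 p0 = p1) (h1 : act 5 p1 = p2) (h2 : act 0 p2 = p3) (h3 : act 5 p3 = p4) (h5 : act 5 q5 = q6) (h6 : act 1 q6 = q7) (h7 : act 5 q7 = q8) (h8 : act 1 q8 = q9) (h9 : act 4 q9 = p0) : act 4 p4 = q5 := by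
  have hr := R17 p0
  subst h0
  subst h1
  subst h2
  subst h3
  subst h9
  subst h8
  subst h7
  subst h6
  subst h5
  exact ij (ij (ij (ij (ij (hr)))))

theorem d17_5 {p0 p1 p2 p3 p4 p5 q6 q7 q8 q9 : Q} (h0 : act 0 p0 = p1) (h1 : act 5 p1 = p2) (h2 : act 0 p2 = p3) (h3 : act 5 p3 = p4) (h4 : act 4 p4 = p5) (h6 : act 1 q6 = q7) (h7 : act 5 q7 = q8) (h8 : act 1 q8 = q9) (h9 : act 4 q9 = p0) : act 5 p5 = q6 := by
  have hr := R17 p0
  subst h0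
  subst h1
  subst h2
  subst h3
  subst h4
  subst h9
  subst h8
  subst h7
  subst h6
  exact ij (ij (ij (ij (hr))))

theorem d17_6 {p0 p1 p2 p3 p4 p5 p6 q7 q8 q9 : Q} (h0 : act 0 p0 = p1) (h1 : act 5 p1 = p2) (h2 : act 0 p2 = p3) (h3 : act 5 p3 = p4) (h4 : act 4 p4 = p5) (h5 : act 5 p5 = p6) (h7 : act 5 q7 = q8) (h8 : act 1 q8 = q9) (h9 : act 4 q9 = p0) : act 1 p6 = q7 := by
  have hr := R17 p0
  subst h0
  subst h1
  subst h2
  subst h3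
  subst h4
  subst h5
  subst h9
  subst h8
  subst h7
  exact ij (ij (ij (hr)))

theorem d17_7 {p0 p1 p2 p3 p4 p5 p6 p7 q8 q9 : Q} (h0 : act 0 p0 = p1) (h1 : act 5 p1 = p2) (h2 : act 0 p2 = p3) (h3 : act 5 p3 = p4) (h4 : act 4 p4 = p5) (h5 : act 5 p5 = p6) (h6 : act 1 p6 = p7) (h8 : act 1 q8 = q9) (h9 : act 4 q9 = p0) : act 5 p7 = q8 := by
  have hr := R17 p0
  subst h0
  subst h1
  subst h2
  subst h3
  subst h4
  subst h5
  subst h6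
  subst h9
  subst h8
  exact ij (ij (hr))

theorem d17_8 {p0 p1 p2 p3 p4 p5 p6 p7 p8 q9 : Q} (h0 : act 0 p0 = p1) (h1 : act 5 p1 = p2) (h2 : act 0 p2 = p3) (h3 : act 5 p3 = p4) (h4 : act 4 p4 = p5) (h5 : act 5 p5 = p6) (h6 : act 1 p6 = p7) (h7 : act 5 p7 = p8) (h9 : act 4 q9 = p0) : act 1 p8 = q9 := by
  have hr := R17 p0
  subst h0
  subst h1
  subst h2
  subst h3
  subst h4
  subst h5
  subst h6
  subst h7
  subst h9
  exact ij (hr)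

theorem d17_9 {p0 p1 p2 p3 p4 p5 p6 p7 p8 p9 : Q} (h0 : act 0 p0 = p1) (h1 : act 5 p1 = p2) (h2 : act 0 p2 = p3) (h3 : act 5 p3 = p4) (h4 : act 4 p4 = p5) (h5 : act 5 p5 = p6) (h6 : act 1 p6 = p7) (h7 : act 5 p7 = p8) (h8 : act 1 p8 = p9) : act 4 p9 = p0 := by
  have hr := R17 p0
  subst h0
  subst h1
  subst h2
  subst h3
  subst h4
  subst h5
  subst h6
  subst h7
  subst h8
  exact hr

theorem d18_0 {p0 q1 q2 q3 q4 q5 q6 q7 q8 q9 : Q} (h1 : act 4 q1 = q2) (h2 : act 0 q2 = q3) (h3 : act 4 q3 = q4) (h4 : act 5 q4 = q5) (h5 : act 4 q5 = q6) (h6 : act 1 q6 = q7) (h7 : act 4 q7 = q8) (h8 : act 1 q8 = q9) (h9 : act 5 q9 = p0) : act 0 p0 = q1 := by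
  have hr := R18 p0
  subst h9
  subst h8
  subst h7
  subst h6
  subst h5
  subst h4
  subst h3
  subst h2
  subst h1
  exact ij (ij (ij (ij (ij (ij (ij (ij (ij (hr)))))))))

theorem d18_1 {p0 p1 q2 q3 q4 q5 q6 q7 q8 q9 : Q} (h0 : act 0 p0 = p1) (h2 : act 0 q2 = q3) (h3 : act 4 q3 = q4) (h4 : act 5 q4 = q5) (h5 : act 4 q5 = q6) (h6 : act 1 q6 = q7) (h7 : act 4 q7 = q8) (h8 : act 1 q8 = q9) (h9 : act 5 q9 = p0) : act 4 p1 = q2 := by
  have hr := R18 p0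
  subst h0
  subst h9
  subst h8
  subst h7
  subst h6
  subst h5
  subst h4
  subst h3
  subst h2
  exact ij (ij (ij (ij (ij (ij (ij (ij (hr))))))))

theorem d18_2 {p0 p1 p2 q3 q4 q5 q6 q7 q8 q9 : Q} (h0 : act 0 p0 = p1) (h1 : act 4 p1 = p2) (h3 : act 4 q3 = q4) (h4 : act 5 q4 = q5) (h5 : act 4 q5 = q6) (h6 : act 1 q6 = q7) (h7 : act 4 q7 = q8) (h8 : act 1 q8 = q9) (h9 : act 5 q9 = p0) : act 0 p2 = q3 := by
  have hr := R18 p0
  subst h0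
  subst h1
  subst h9
  subst h8
  subst h7
  subst h6
  subst h5
  subst h4
  subst h3
  exact ij (ij (ij (ij (ij (ij (ij (hr)))))))

theorem d18_3 {p0 p1 p2 p3 q4 q5 q6 q7 q8 q9 : Q} (h0 : act 0 p0 = p1) (h1 : act 4 p1 = p2) (h2 : act 0 p2 = p3) (h4 : act 5 q4 = q5) (h5 : act 4 q5 = q6) (h6 : act 1 q6 = q7) (h7 : act 4 q7 = q8) (h8 : act 1 q8 = q9) (h9 : act 5 q9 = p0) : act 4 p3 = q4 := by
  have hr := R18 p0
  subst h0
  subst h1
  subst h2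
  subst h9
  subst h8
  subst h7
  subst h6
  subst h5
  subst h4
  exact ij (ij (ij (ij (ij (ij (hr))))))

theorem d18_4 {p0 p1 p2 p3 p4 q5 q6 q7 q8 q9 : Q} (h0 : act 0 p0 = p1) (h1 : act 4 p1 = p2) (h2 : act 0 p2 = p3) (h3 : act 4 p3 = p4) (h5 : act 4 q5 = q6) (h6 : act 1 q6 = q7) (h7 : act 4 q7 = q8) (h8 : act 1 q8 = q9) (h9 : act 5 q9 = p0) : act 5 p4 = q5 := by
  have hr := R18 p0
  subst h0
  subst h1
  subst h2
  subst h3
  subst h9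
  subst h8
  subst h7
  subst h6
  subst h5
  exact ij (ij (ij (ij (ij (hr)))))

theorem d18_5 {p0 p1 p2 p3 p4 p5 q6 q7 q8 q9 : Q} (h0 : act 0 p0 = p1) (h1 : act 4 p1 = p2) (h2 : act 0 p2 = p3) (h3 : act 4 p3 = p4) (h4 : act 5 p4 = p5) (h6 : act 1 q6 = q7) (h7 : act 4 q7 = q8) (h8 : act 1 q8 = q9) (h9 : act 5 q9 = p0) : act 4 p5 = q6 := by
  have hr := R18 p0
  subst h0
  subst h1
  subst h2
  subst h3
  subst h4
  subst h9
  subst h8
  subst h7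
  subst h6
  exact ij (ij (ij (ij (hr))))

theorem d18_6 {p0 p1 p2 p3 p4 p5 p6 q7 q8 q9 : Q} (h0 : act 0 p0 = p1) (h1 : act 4 p1 = p2) (h2 : act 0 p2 = p3) (h3 : act 4 p3 = p4) (h4 : act 5 p4 = p5) (h5 : act 4 p5 = p6) (h7 : act 4 q7 = q8) (h8 : act 1 q8 = q9) (h9 : act 5 q9 = p0) : act 1 p6 = q7 := by
  have hr := R18 p0
  subst h0
  subst h1
  subst h2
  subst h3
  subst h4
  subst h5
  subst h9
  subst h8
  subst h7
  exact ij (ij (ij (hr)))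

theorem d18_7 {p0 p1 p2 p3 p4 p5 p6 p7 q8 q9 : Q} (h0 : act 0 p0 = p1) (h1 : act 4 p1 = p2) (h2 : act 0 p2 = p3) (h3 : act 4 p3 = p4) (h4 : act 5 p4 = p5) (h5 : act 4 p5 = p6) (h6 : act 1 p6 = p7) (h8 : act 1 q8 = q9) (h9 : act 5 q9 = p0) : act 4 p7 = q8 := by
  have hr := R18 p0
  subst h0
  subst h1
  subst h2
  subst h3
  subst h4
  subst h5
  subst h6
  subst h9
  subst h8
  exact ij (ij (hr))

theorem d18_8 {p0 p1 p2 p3 p4 p5 p6 p7 p8 q9 : Q} (h0 : act 0 p0 = p1) (h1 : act 4 p1 = p2) (h2 : act 0 p2 = p3) (h3 : act 4 p3 = p4) (h4 : act 5 p4 = p5) (h5 : act 4 p5 = p6) (h6 : act 1 p6 = p7) (h7 : act 4 p7 = p8) (h9 : act 5 q9 = p0) : act 1 p8 = q9 := by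
  have hr := R18 p0
  subst h0
  subst h1
  subst h2
  subst h3
  subst h4
  subst h5
  subst h6
  subst h7
  subst h9
  exact ij (hr)

theorem d18_9 {p0 p1 p2 p3 p4 p5 p6 p7 p8 p9 : Q} (h0 : act 0 p0 = p1) (h1 : act 4 p1 = p2) (h2 : act 0 p2 = p3) (h3 : act 4 p3 = p4) (h4 : act 5 p4 = p5) (h5 : act 4 p5 = p6) (h6 : act 1 p6 = p7) (h7 : act 4 p7 = p8) (h8 : act 1 p8 = p9) : act 5 p9 = p0 := by
  have hr := R18 p0
  subst h0
  subst h1
  subst h2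
  subst h3
  subst h4
  subst h5
  subst h6
  subst h7
  subst h8
  exact hr

theorem d19_0 {p0 q1 q2 q3 q4 q5 q6 q7 q8 q9 q10 q11 q12 q13 q14 q15 q16 q17 q18 q19 : Q} (h1 : act 5 q1 = q2) (h2 : act 4 q2 = q3) (h3 : act 3 q3 = q4) (h4 : act 0 q4 = q5) (h5 : act 5 q5 = q6) (h6 : act 4 q6 = q7) (h7 : act 3 q7 = q8) (h8 : act 0 q8 = q9) (h9 : act 5 q9 = q10) (h10 : act 4 q10 = q11) (h11 : act 3 q11 = q12) (h12 : act 0 q12 = q13) (h13 : act 5 q13 = q14) (h14 : act 4 q14 = q15) (h15 : act 3 q15 = q16) (h16 : act 0 q16 = q17) (h17 : act 5 q17 = q18) (h18 : act 4 q18 = q19) (h19 : act 3 q19 = p0) : act 0 p0 = q1 := by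
  have hr := R19 p0
  subst h19
  subst h18
  subst h17
  subst h16
  subst h15
  subst h14
  subst h13
  subst h12
  subst h11
  subst h10
  subst h9
  subst h8
  subst h7
  subst h6
  subst h5
  subst h4
  subst h3
  subst h2
  subst h1
  exact ij (ij (ij (ij (ij (ij (ij (ij (ij (ij (ij (ij (ij (ij (ij (ij (ij (ij (ij (hr)))))))))))))))))))

theorem d19_1 {p0 p1 q2 q3 q4 q5 q6 q7 q8 q9 q10 q11 q12 q13 q14 q15 q16 q17 q18 q19 : Q} (h0 : act 0 p0 = p1) (h2 : act 4 q2 = q3) (h3 : act 3 q3 = q4) (h4 : act 0 q4 = q5) (h5 : act 5 q5 = q6) (h6 : act 4 q6 = q7) (h7 : act 3 q7 = q8) (h8 : act 0 q8 = q9) (h9 : act 5 q9 = q10) (h10 : act 4 q10 = q11) (h11 : act 3 q11 = q12) (h12 : act 0 q12 = q13) (h13 : act 5 q13 = q14) (h14 : act 4 q14 = q15) (h15 : act 3 q15 = q16) (h16 : act 0 q16 = q17) (h17 : act 5 q17 = q18) (h18 : act 4 q18 = q19) (h19 : act 3 q19 = p0) : act 5 p1 = q2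 := by
  have hr := R19 p0
  subst h0
  subst h19
  subst h18
  subst h17
  subst h16
  subst h15
  subst h14
  subst h13
  subst h12
  subst h11
  subst h10
  subst h9
  subst h8
  subst h7
  subst h6
  subst h5
  subst h4
  subst h3
  subst h2
  exact ij (ij (ij (ij (ij (ij (ij (ij (ij (ij (ij (ij (ij (ij (ij (ij (ij (ij (hr))))))))))))))))))

theorem d19_2 {p0 p1 p2 q3 q4 q5 q6 q7 q8 q9 q10 q11 q12 q13 q14 q15 q16 q17 q18 q19 : Q} (h0 : act 0 p0 = p1) (h1 : act 5 p1 = p2) (h3 : act 3 q3 = q4) (h4 : act 0 q4 = q5) (h5 : act 5 q5 = q6) (h6 : act 4 q6 = q7) (h7 : act 3 q7 = q8) (h8 : act 0 q8 = q9) (h9 : act 5 q9 = q10) (h10 : act 4 q10 = q11) (h11 : act 3 q11 = q12) (h12 : act 0 q12 = q13) (h13 : act 5 q13 = q14) (h14 : act 4 q14 = q15) (h15 : act 3 q15 = q16) (h16 : act 0 q16 = q17) (h17 : act 5 q17 = q18) (h18 : act 4 q18 = q19) (h19 : act 3 q19 = p0) : act 4 p2 = q3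 := by
  have hr := R19 p0
  subst h0
  subst h1
  subst h19
  subst h18
  subst h17
  subst h16
  subst h15
  subst h14
  subst h13
  subst h12
  subst h11
  subst h10
  subst h9
  subst h8
  subst h7
  subst h6
  subst h5
  subst h4
  subst h3
  exact ij (ij (ij (ij (ij (ij (ij (ij (ij (ij (ij (ij (ij (ij (ij (ij (ij (hr)))))))))))))))))

theorem d19_3 {p0 p1 p2 p3 q4 q5 q6 q7 q8 q9 q10 q11 q12 q13 q14 q15 q16 q17 q18 q19 : Q} (h0 : act 0 p0 = p1) (h1 : act 5 p1 = p2) (h2 : act 4 p2 = p3) (h4 : act 0 q4 = q5) (h5 : act 5 q5 = q6) (h6 : act 4 q6 = q7) (h7 : act 3 q7 = q8) (h8 : act 0 q8 = q9) (h9 : act 5 q9 = q10) (h10 : act 4 q10 = q11) (h11 : act 3 q11 = q12) (h12 : act 0 q12 = q13) (h13 : act 5 q13 = q14) (h14 : act 4 q14 = q15) (h15 : act 3 q15 = q16) (h16 : act 0 q16 = q17) (h17 : act 5 q17 = q18) (h18 : act 4 q18 = q19) (h19 : act 3 q19 = p0) : act 3 p3 = q4 :=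 by
  have hr := R19 p0
  subst h0
  subst h1
  subst h2
  subst h19
  subst h18
  subst h17
  subst h16
  subst h15
  subst h14
  subst h13
  subst h12
  subst h11
  subst h10
  subst h9
  subst h8
  subst h7
  subst h6
  subst h5
  subst h4
  exact ij (ij (ij (ij (ij (ij (ij (ij (ij (ij (ij (ij (ij (ij (ij (ij (hr))))))))))))))))

theorem d19_4 {p0 p1 p2 p3 p4 q5 q6 q7 q8 q9 q10 q11 q12 q13 q14 q15 q16 q17 q18 q19 : Q} (h0 : act 0 p0 = p1) (h1 : act 5 p1 = p2) (h2 : act 4 p2 = p3) (h3 : act 3 p3 = p4) (h5 : act 5 q5 = q6) (h6 : act 4 q6 = q7) (h7 : act 3 q7 = q8) (h8 : act 0 q8 = q9) (h9 : act 5 q9 = q10) (h10 : act 4 q10 = q11) (h11 : act 3 q11 = q12) (h12 : act 0 q12 = q13) (h13 : act 5 q13 = q14) (h14 : act 4 q14 = q15) (h15 : act 3 q15 = q16) (h16 : act 0 q16 = q17) (h17 : act 5 q17 = q18) (h18 : act 4 q18 = q19) (h19 : act 3 q19 = p0) : act 0 p4 = q5 := by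
  have hr := R19 p0
  subst h0
  subst h1
  subst h2
  subst h3
  subst h19
  subst h18
  subst h17
  subst h16
  subst h15
  subst h14
  subst h13
  subst h12
  subst h11
  subst h10
  subst h9
  subst h8
  subst h7
  subst h6
  subst h5
  exact ij (ij (ij (ij (ij (ij (ij (ij (ij (ij (ij (ij (ij (ij (ij (hr)))))))))))))))

theorem d19_5 {p0 p1 p2 p3 p4 p5 q6 q7 q8 q9 q10 q11 q12 q13 q14 q15 q16 q17 q18 q19 : Q} (h0 : act 0 p0 = p1) (h1 : act 5 p1 = p2) (h2 : act 4 p2 = p3) (h3 : act 3 p3 = p4) (h4 : act 0 p4 = p5) (h6 : act 4 q6 = q7) (h7 : act 3 q7 = q8) (h8 : act 0 q8 = q9) (h9 : act 5 q9 = q10) (h10 : act 4 q10 = q11) (h11 : act 3 q11 = q12) (h12 : act 0 q12 = q13) (h13 : act 5 q13 = q14) (h14 : act 4 q14 = q15) (h15 : act 3 q15 = q16) (h16 : act 0 q16 = q17) (h17 : act 5 q17 = q18) (h18 : act 4 q18 = q19) (h19 : act 3 q19 = p0) : act 5 p5 = q6 := by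
  have hr := R19 p0
  subst h0
  subst h1
  subst h2
  subst h3
  subst h4
  subst h19
  subst h18
  subst h17
  subst h16
  subst h15
  subst h14
  subst h13
  subst h12
  subst h11
  subst h10
  subst h9
  subst h8
  subst h7
  subst h6
  exact ij (ij (ij (ij (ij (ij (ij (ij (ij (ij (ij (ij (ij (ij (hr))))))))))))))

theorem d19_6 {p0 p1 p2 p3 p4 p5 p6 q7 q8 q9 q10 q11 q12 q13 q14 q15 q16 q17 q18 q19 : Q} (h0 : act 0 p0 = p1) (h1 : act 5 p1 = p2) (h2 : act 4 p2 = p3) (h3 : act 3 p3 = p4) (h4 : act 0 p4 = p5) (h5 : act 5 p5 = p6) (h7 : act 3 q7 = q8) (h8 : act 0 q8 = q9) (h9 : act 5 q9 = q10) (h10 : act 4 q10 = q11) (h11 : act 3 q11 = q12) (h12 : act 0 q12 = q13) (h13 : act 5 q13 = q14) (h14 : act 4 q14 = q15) (h15 : act 3 q15 = q16) (h16 : act 0 q16 = q17) (h17 : act 5 q17 = q18) (h18 : act 4 q18 = q19) (h19 : act 3 q19 = p0) : act 4 p6 = q7 := by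
  have hr := R19 p0
  subst h0
  subst h1
  subst h2
  subst h3
  subst h4
  subst h5
  subst h19
  subst h18
  subst h17
  subst h16
  subst h15
  subst h14
  subst h13
  subst h12
  subst h11
  subst h10
  subst h9
  subst h8
  subst h7
  exact ij (ij (ij (ij (ij (ij (ij (ij (ij (ij (ij (ij (ij (hr)))))))))))))

theorem d19_7 {p0 p1 p2 p3 p4 p5 p6 p7 q8 q9 q10 q11 q12 q13 q14 q15 q16 q17 q18 q19 : Q} (h0 : act 0 p0 = p1) (h1 : act 5 p1 = p2) (h2 : act 4 p2 = p3) (h3 : act 3 p3 = p4) (h4 : act 0 p4 = p5) (h5 : act 5 p5 = p6) (h6 : act 4 p6 = p7) (h8 : act 0 q8 = q9) (h9 : act 5 q9 = q10) (h10 : act 4 q10 = q11) (h11 : act 3 q11 = q12) (h12 : act 0 q12 = q13) (h13 : act 5 q13 = q14) (h14 : act 4 q14 = q15) (h15 : act 3 q15 = q16) (h16 : act 0 q16 = q17) (h17 : act 5 q17 = q18) (h18 : act 4 q18 = q19) (h19 : act 3 q19 = p0) : act 3 p7 = q8 := by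
  have hr := R19 p0
  subst h0
  subst h1
  subst h2
  subst h3
  subst h4
  subst h5
  subst h6
  subst h19
  subst h18
  subst h17
  subst h16
  subst h15
  subst h14
  subst h13
  subst h12
  subst h11
  subst h10
  subst h9
  subst h8
  exact ij (ij (ij (ij (ij (ij (ij (ij (ij (ij (ij (ij (hr))))))))))))

theorem d19_8 {p0 p1 p2 p3 p4 p5 p6 p7 p8 q9 q10 q11 q12 q13 q14 q15 q16 q17 q18 q19 : Q} (h0 : act 0 p0 = p1) (h1 : act 5 p1 = p2) (h2 : act 4 p2 = p3) (h3 : act 3 p3 = p4) (h4 : act 0 p4 = p5) (h5 : act 5 p5 = p6) (h6 : act 4 p6 = p7) (h7 : act 3 p7 = p8) (h9 : act 5 q9 = q10) (h10 : act 4 q10 = q11) (h11 : act 3 q11 = q12) (h12 : act 0 q12 = q13) (h13 : act 5 q13 = q14) (h14 : act 4 q14 = q15) (h15 : act 3 q15 = q16) (h16 : act 0 q16 = q17) (h17 : act 5 q17 = q18) (h18 : act 4 q18 = q19) (h19 : act 3 q19 = p0) : act 0 p8 = q9 := by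
  have hr := R19 p0
  subst h0
  subst h1
  subst h2
  subst h3
  subst h4
  subst h5
  subst h6
  subst h7
  subst h19
  subst h18
  subst h17
  subst h16
  subst h15
  subst h14
  subst h13
  subst h12
  subst h11
  subst h10
  subst h9
  exact ij (ij (ij (ij (ij (ij (ij (ij (ij (ij (ij (hr)))))))))))

theorem d19_9 {p0 p1 p2 p3 p4 p5 p6 p7 p8 p9 q10 q11 q12 q13 q14 q15 q16 q17 q18 q19 : Q} (h0 : act 0 p0 = p1) (h1 : act 5 p1 = p2) (h2 : act 4 p2 = p3) (h3 : act 3 p3 = p4) (h4 : act 0 p4 = p5) (h5 : act 5 p5 = p6) (h6 : act 4 p6 = p7) (h7 : act 3 p7 = p8) (h8 : act 0 p8 = p9) (h10 : act 4 q10 = q11) (h11 : act 3 q11 = q12) (h12 : act 0 q12 = q13) (h13 : act 5 q13 = q14) (h14 : act 4 q14 = q15) (h15 : act 3 q15 = q16) (h16 : act 0 q16 = q17) (h17 : act 5 q17 = q18) (h18 : act 4 q18 = q19) (h19 : act 3 q19 = p0) : act 5 p9 = q10 := by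
  have hr := R19 p0
  subst h0
  subst h1
  subst h2
  subst h3
  subst h4
  subst h5
  subst h6
  subst h7
  subst h8
  subst h19
  subst h18
  subst h17
  subst h16
  subst h15
  subst h14
  subst h13
  subst h12
  subst h11
  subst h10
  exact ij (ij (ij (ij (ij (ij (ij (ij (ij (ij (hr))))))))))

theorem d19_10 {p0 p1 p2 p3 p4 p5 p6 p7 p8 p9 p10 q11 q12 q13 q14 q15 q16 q17 q18 q19 : Q} (h0 : act 0 p0 = p1) (h1 : act 5 p1 = p2) (h2 : act 4 p2 = p3) (h3 : act 3 p3 = p4) (h4 : act 0 p4 = p5) (h5 : act 5 p5 = p6) (h6 : act 4 p6 = p7) (h7 : act 3 p7 = p8) (h8 : act 0 p8 = p9) (h9 : act 5 p9 = p10) (h11 : act 3 q11 = q12) (h12 : act 0 q12 = q13) (h13 : act 5 q13 = q14) (h14 : act 4 q14 = q15) (h15 : act 3 q15 = q16) (h16 : act 0 q16 = q17) (h17 : act 5 q17 = q18) (h18 : act 4 q18 = q19) (h19 : act 3 q19 = p0) : act 4 p10 = q11 := by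
  have hr := R19 p0
  subst h0
  subst h1
  subst h2
  subst h3
  subst h4
  subst h5
  subst h6
  subst h7
  subst h8
  subst h9
  subst h19
  subst h18
  subst h17
  subst h16
  subst h15
  subst h14
  subst h13
  subst h12
  subst h11
  exact ij (ij (ij (ij (ij (ij (ij (ij (ij (hr)))))))))

theorem d19_11 {p0 p1 p2 p3 p4 p5 p6 p7 p8 p9 p10 p11 q12 q13 q14 q15 q16 q17 q18 q19 : Q} (h0 : act 0 p0 = p1) (h1 : act 5 p1 = p2) (h2 : act 4 p2 = p3) (h3 : act 3 p3 = p4) (h4 : act 0 p4 = p5) (h5 : act 5 p5 = p6) (h6 : act 4 p6 = p7) (h7 : act 3 p7 = p8) (h8 : act 0 p8 = p9) (h9 : act 5 p9 = p10) (h10 : act 4 p10 = p11) (h12 : act 0 q12 = q13) (h13 : act 5 q13 = q14) (h14 : act 4 q14 = q15) (h15 : act 3 q15 = q16) (h16 : act 0 q16 = q17) (h17 : act 5 q17 = q18) (h18 : act 4 q18 = q19) (h19 : act 3 q19 = p0) : act 3 p11 = q12 := by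
  have hr := R19 p0
  subst h0
  subst h1
  subst h2
  subst h3
  subst h4
  subst h5
  subst h6
  subst h7
  subst h8
  subst h9
  subst h10
  subst h19
  subst h18
  subst h17
  subst h16
  subst h15
  subst h14
  subst h13
  subst h12
  exact ij (ij (ij (ij (ij (ij (ij (ij (hr))))))))

theorem d19_12 {p0 p1 p2 p3 p4 p5 p6 p7 p8 p9 p10 p11 p12 q13 q14 q15 q16 q17 q18 q19 : Q} (h0 : act 0 p0 = p1) (h1 : act 5 p1 = p2) (h2 : act 4 p2 = p3) (h3 : act 3 p3 = p4) (h4 : act 0 p4 = p5) (h5 : act 5 p5 = p6) (h6 : act 4 p6 = p7) (h7 : act 3 p7 = p8) (h8 : act 0 p8 = p9) (h9 : act 5 p9 = p10) (h10 : act 4 p10 = p11) (h11 : act 3 p11 = p12) (h13 : act 5 q13 = q14) (h14 : act 4 q14 = q15) (h15 : act 3 q15 = q16) (h16 : act 0 q16 = q17) (h17 : act 5 q17 = q18) (h18 : act 4 q18 = q19) (h19 : act 3 q19 = p0) : act 0 p12 = q13 := by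
  have hr := R19 p0
  subst h0
  subst h1
  subst h2
  subst h3
  subst h4
  subst h5
  subst h6
  subst h7
  subst h8
  subst h9
  subst h10
  subst h11
  subst h19
  subst h18
  subst h17
  subst h16
  subst h15
  subst h14
  subst h13
  exact ij (ij (ij (ij (ij (ij (ij (hr)))))))

theorem d19_13 {p0 p1 p2 p3 p4 p5 p6 p7 p8 p9 p10 p11 p12 p13 q14 q15 q16 q17 q18 q19 : Q} (h0 : act 0 p0 = p1) (h1 : act 5 p1 = p2) (h2 : act 4 p2 = p3) (h3 : act 3 p3 = p4) (h4 : act 0 p4 = p5) (h5 : act 5 p5 = p6) (h6 : act 4 p6 = p7) (h7 : act 3 p7 = p8) (h8 : act 0 p8 = p9) (h9 : act 5 p9 = p10) (h10 : act 4 p10 = p11) (h11 : act 3 p11 = p12) (h12 : act 0 p12 = p13) (h14 : act 4 q14 = q15) (h15 : act 3 q15 = q16) (h16 : act 0 q16 = q17) (h17 : act 5 q17 = q18) (h18 : act 4 q18 = q19) (h19 : act 3 q19 = p0) : act 5 p13 = q14 := by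
  have hr := R19 p0
  subst h0
  subst h1
  subst h2
  subst h3
  subst h4
  subst h5
  subst h6
  subst h7
  subst h8
  subst h9
  subst h10
  subst h11
  subst h12
  subst h19
  subst h18
  subst h17
  subst h16
  subst h15
  subst h14
  exact ij (ij (ij (ij (ij (ij (hr))))))

theorem d19_14 {p0 p1 p2 p3 p4 p5 p6 p7 p8 p9 p10 p11 p12 p13 p14 q15 q16 q17 q18 q19 : Q} (h0 : act 0 p0 = p1) (h1 : act 5 p1 = p2) (h2 : act 4 p2 = p3) (h3 : act 3 p3 = p4) (h4 : act 0 p4 = p5) (h5 : act 5 p5 = p6) (h6 : act 4 p6 = p7) (h7 : act 3 p7 = p8) (h8 : act 0 p8 = p9) (h9 : act 5 p9 = p10) (h10 : act 4 p10 = p11) (h11 : act 3 p11 = p12) (h12 : act 0 p12 = p13) (h13 : act 5 p13 = p14) (h15 : act 3 q15 = q16) (h16 : act 0 q16 = q17) (h17 : act 5 q17 = q18) (h18 : act 4 q18 = q19) (h19 : act 3 q19 = p0) : act 4 p14 = q15 := by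
  have hr := R19 p0
  subst h0
  subst h1
  subst h2
  subst h3
  subst h4
  subst h5
  subst h6
  subst h7
  subst h8
  subst h9
  subst h10
  subst h11
  subst h12
  subst h13
  subst h19
  subst h18
  subst h17
  subst h16
  subst h15
  exact ij (ij (ij (ij (ij (hr)))))

theorem d19_15 {p0 p1 p2 p3 p4 p5 p6 p7 p8 p9 p10 p11 p12 p13 p14 p15 q16 q17 q18 q19 : Q} (h0 : act 0 p0 = p1) (h1 : act 5 p1 = p2) (h2 : act 4 p2 = p3) (h3 : act 3 p3 = p4) (h4 : act 0 p4 = p5) (h5 : act 5 p5 = p6) (h6 : act 4 p6 = p7) (h7 : act 3 p7 = p8) (h8 : act 0 p8 = p9) (h9 : act 5 p9 = p10) (h10 : act 4 p10 = p11) (h11 : act 3 p11 = p12) (h12 : act 0 p12 = p13) (h13 : act 5 p13 = p14) (h14 : act 4 p14 = p15) (h16 : act 0 q16 = q17) (h17 : act 5 q17 = q18) (h18 : act 4 q18 = q19) (h19 : act 3 q19 = p0) : act 3 p15 = q16 := by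
  have hr := R19 p0
  subst h0
  subst h1
  subst h2
  subst h3
  subst h4
  subst h5
  subst h6
  subst h7
  subst h8
  subst h9
  subst h10
  subst h11
  subst h12
  subst h13
  subst h14
  subst h19
  subst h18
  subst h17
  subst h16
  exact ij (ij (ij (ij (hr))))

theorem d19_16 {p0 p1 p2 p3 p4 p5 p6 p7 p8 p9 p10 p11 p12 p13 p14 p15 p16 q17 q18 q19 : Q} (h0 : act 0 p0 = p1) (h1 : act 5 p1 = p2) (h2 : act 4 p2 = p3) (h3 : act 3 p3 = p4) (h4 : act 0 p4 = p5) (h5 : act 5 p5 = p6) (h6 : act 4 p6 = p7) (h7 : act 3 p7 = p8) (h8 : act 0 p8 = p9) (h9 : act 5 p9 = p10) (h10 : act 4 p10 = p11) (h11 : act 3 p11 = p12) (h12 : act 0 p12 = p13) (h13 : act 5 p13 = p14) (h14 : act 4 p14 = p15) (h15 : act 3 p15 = p16) (h17 : act 5 q17 = q18) (h18 : act 4 q18 = q19) (h19 : act 3 q19 = p0) : act 0 p16 = q17 := by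
  have hr := R19 p0
  subst h0
  subst h1
  subst h2
  subst h3
  subst h4
  subst h5
  subst h6
  subst h7
  subst h8
  subst h9
  subst h10
  subst h11
  subst h12
  subst h13
  subst h14
  subst h15
  subst h19
  subst h18
  subst h17
  exact ij (ij (ij (hr)))

theorem d19_17 {p0 p1 p2 p3 p4 p5 p6 p7 p8 p9 p10 p11 p12 p13 p14 p15 p16 p17 q18 q19 : Q} (h0 : act 0 p0 = p1) (h1 : act 5 p1 = p2) (h2 : act 4 p2 = p3) (h3 : act 3 p3 = p4) (h4 : act 0 p4 = p5) (h5 : act 5 p5 = p6) (h6 : act 4 p6 = p7) (h7 : act 3 p7 = p8) (h8 : act 0 p8 = p9) (h9 : act 5 p9 = p10) (h10 : act 4 p10 = p11) (h11 : act 3 p11 = p12) (h12 : act 0 p12 = p13) (h13 : act 5 p13 = p14) (h14 : act 4 p14 = p15) (h15 : act 3 p15 = p16) (h16 : act 0 p16 = p17) (h18 : act 4 q18 = q19) (h19 : act 3 q19 = p0) : act 5 p17 = q18 := by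
  have hr := R19 p0
  subst h0
  subst h1
  subst h2
  subst h3
  subst h4
  subst h5
  subst h6
  subst h7
  subst h8
  subst h9
  subst h10
  subst h11
  subst h12
  subst h13
  subst h14
  subst h15
  subst h16
  subst h19
  subst h18
  exact ij (ij (hr))

theorem d19_18 {p0 p1 p2 p3 p4 p5 p6 p7 p8 p9 p10 p11 p12 p13 p14 p15 p16 p17 p18 q19 : Q} (h0 : act 0 p0 = p1) (h1 : act 5 p1 = p2) (h2 : act 4 p2 = p3) (h3 : act 3 p3 = p4) (h4 : act 0 p4 = p5) (h5 : act 5 p5 = p6) (h6 : act 4 p6 = p7) (h7 : act 3 p7 = p8) (h8 : act 0 p8 = p9) (h9 : act 5 p9 = p10) (h10 : act 4 p10 = p11) (h11 : act 3 p11 = p12) (h12 : act 0 p12 = p13) (h13 : act 5 p13 = p14) (h14 : act 4 p14 = p15) (h15 : act 3 p15 = p16) (h16 : act 0 p16 = p17) (h17 : act 5 p17 = p18) (h19 : act 3 q19 = p0) : act 4 p18 = q19 := by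
  have hr := R19 p0
  subst h0
  subst h1
  subst h2
  subst h3
  subst h4
  subst h5
  subst h6
  subst h7
  subst h8
  subst h9
  subst h10
  subst h11
  subst h12
  subst h13
  subst h14
  subst h15
  subst h16
  subst h17
  subst h19
  exact ij (hr)

theorem d19_19 {p0 p1 p2 p3 p4 p5 p6 p7 p8 p9 p10 p11 p12 p13 p14 p15 p16 p17 p18 p19 : Q} (h0 : act 0 p0 = p1) (h1 : act 5 p1 = p2) (h2 : act 4 p2 = p3) (h3 : act 3 p3 = p4) (h4 : act 0 p4 = p5) (h5 : act 5 p5 = p6) (h6 : act 4 p6 = p7) (h7 : act 3 p7 = p8) (h8 : act 0 p8 = p9) (h9 : act 5 p9 = p10) (h10 : act 4 p10 = p11) (h11 : act 3 p11 = p12) (h12 : act 0 p12 = p13) (h13 : act 5 p13 = p14) (h14 : act 4 p14 = p15) (h15 : act 3 p15 = p16) (h16 : act 0 p16 = p17) (h17 : act 5 p17 = p18) (h18 : act 4 p18 = p19) : act 3 p19 = p0 := by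
  have hr := R19 p0
  subst h0
  subst h1
  subst h2
  subst h3
  subst h4
  subst h5
  subst h6
  subst h7
  subst h8
  subst h9
  subst h10
  subst h11
  subst h12
  subst h13
  subst h14
  subst h15
  subst h16
  subst h17
  subst h18
  exact hr

theorem d20_0 {p0 q1 q2 q3 q4 q5 q6 q7 q8 q9 q10 : Q} (h1 : act 0 q1 = q2) (h2 : act 4 q2 = q3) (h3 : act 3 q3 = q4) (h4 : act 0 q4 = q5) (h5 : act 3 q5 = q6) (h6 : act 4 q6 = q7) (h7 : act 0 q7 = q8) (h8 : act 4 q8 = q9) (h9 : act 3 q9 = q10) (h10 : act 0 q10 = p0) : act 4 p0 = q1 := by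
  have hr := R20 p0
  subst h10
  subst h9
  subst h8
  subst h7
  subst h6
  subst h5
  subst h4
  subst h3
  subst h2
  subst h1
  exact ij (ij (ij (ij (ij (ij (ij (ij (ij (ij (hr))))))))))

theorem d20_1 {p0 p1 q2 q3 q4 q5 q6 q7 q8 q9 q10 : Q} (h0 : act 4 p0 = p1) (h2 : act 4 q2 = q3) (h3 : act 3 q3 = q4) (h4 : act 0 q4 = q5) (h5 : act 3 q5 = q6) (h6 : act 4 q6 = q7) (h7 : act 0 q7 = q8) (h8 : act 4 q8 = q9) (h9 : act 3 q9 = q10) (h10 : act 0 q10 = p0) : act 0 p1 = q2 := by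
  have hr := R20 p0
  subst h0
  subst h10
  subst h9
  subst h8
  subst h7
  subst h6
  subst h5
  subst h4
  subst h3
  subst h2
  exact ij (ij (ij (ij (ij (ij (ij (ij (ij (hr)))))))))

theorem d20_2 {p0 p1 p2 q3 q4 q5 q6 q7 q8 q9 q10 : Q} (h0 : act 4 p0 = p1) (h1 : act 0 p1 = p2) (h3 : act 3 q3 = q4) (h4 : act 0 q4 = q5) (h5 : act 3 q5 = q6) (h6 : act 4 q6 = q7) (h7 : act 0 q7 = q8) (h8 : act 4 q8 = q9) (h9 : act 3 q9 = q10) (h10 : act 0 q10 = p0) : act 4 p2 = q3 := by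
  have hr := R20 p0
  subst h0
  subst h1
  subst h10
  subst h9
  subst h8
  subst h7
  subst h6
  subst h5
  subst h4
  subst h3
  exact ij (ij (ij (ij (ij (ij (ij (ij (hr))))))))

theorem d20_3 {p0 p1 p2 p3 q4 q5 q6 q7 q8 q9 q10 : Q} (h0 : act 4 p0 = p1) (h1 : act 0 p1 = p2) (h2 : act 4 p2 = p3) (h4 : act 0 q4 = q5) (h5 : act 3 q5 = q6) (h6 : act 4 q6 = q7) (h7 : act 0 q7 = q8) (h8 : act 4 q8 = q9) (h9 : act 3 q9 = q10) (h10 : act 0 q10 = p0) : act 3 p3 = q4 := by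
  have hr := R20 p0
  subst h0
  subst h1
  subst h2
  subst h10
  subst h9
  subst h8
  subst h7
  subst h6
  subst h5
  subst h4
  exact ij (ij (ij (ij (ij (ij (ij (hr)))))))

theorem d20_4 {p0 p1 p2 p3 p4 q5 q6 q7 q8 q9 q10 : Q} (h0 : act 4 p0 = p1) (h1 : act 0 p1 = p2) (h2 : act 4 p2 = p3) (h3 : act 3 p3 = p4) (h5 : act 3 q5 = q6) (h6 : act 4 q6 = q7) (h7 : act 0 q7 = q8) (h8 : act 4 q8 = q9) (h9 : act 3 q9 = q10) (h10 : act 0 q10 = p0) : act 0 p4 = q5 := by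
  have hr := R20 p0
  subst h0
  subst h1
  subst h2
  subst h3
  subst h10
  subst h9
  subst h8
  subst h7
  subst h6
  subst h5
  exact ij (ij (ij (ij (ij (ij (hr))))))

theorem d20_5 {p0 p1 p2 p3 p4 p5 q6 q7 q8 q9 q10 : Q} (h0 : act 4 p0 = p1) (h1 : act 0 p1 = p2) (h2 : act 4 p2 = p3) (h3 : act 3 p3 = p4) (h4 : act 0 p4 = p5) (h6 : act 4 q6 = q7) (h7 : act 0 q7 = q8) (h8 : act 4 q8 = q9) (h9 : act 3 q9 = q10) (h10 : act 0 q10 = p0) : act 3 p5 = q6 := by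
  have hr := R20 p0
  subst h0
  subst h1
  subst h2
  subst h3
  subst h4
  subst h10
  subst h9
  subst h8
  subst h7
  subst h6
  exact ij (ij (ij (ij (ij (hr)))))

theorem d20_6 {p0 p1 p2 p3 p4 p5 p6 q7 q8 q9 q10 : Q} (h0 : act 4 p0 = p1) (h1 : act 0 p1 = p2) (h2 : act 4 p2 = p3) (h3 : act 3 p3 = p4) (h4 : act 0 p4 = p5) (h5 : act 3 p5 = p6) (h7 : act 0 q7 = q8) (h8 : act 4 q8 = q9) (h9 : act 3 q9 = q10) (h10 : act 0 q10 = p0) : act 4 p6 = q7 := by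
  have hr := R20 p0
  subst h0
  subst h1
  subst h2
  subst h3
  subst h4
  subst h5
  subst h10
  subst h9
  subst h8
  subst h7
  exact ij (ij (ij (ij (hr))))

theorem d20_7 {p0 p1 p2 p3 p4 p5 p6 p7 q8 q9 q10 : Q} (h0 : act 4 p0 = p1) (h1 : act 0 p1 = p2) (h2 : act 4 p2 = p3) (h3 : act 3 p3 = p4) (h4 : act 0 p4 = p5) (h5 : act 3 p5 = p6) (h6 : act 4 p6 = p7) (h8 : act 4 q8 = q9) (h9 : act 3 q9 = q10) (h10 : act 0 q10 = p0) : act 0 p7 = q8 := by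
  have hr := R20 p0
  subst h0
  subst h1
  subst h2
  subst h3
  subst h4
  subst h5
  subst h6
  subst h10
  subst h9
  subst h8
  exact ij (ij (ij (hr)))

theorem d20_8 {p0 p1 p2 p3 p4 p5 p6 p7 p8 q9 q10 : Q} (h0 : act 4 p0 = p1) (h1 : act 0 p1 = p2) (h2 : act 4 p2 = p3) (h3 : act 3 p3 = p4) (h4 : act 0 p4 = p5) (h5 : act 3 p5 = p6) (h6 : act 4 p6 = p7) (h7 : act 0 p7 = p8) (h9 : act 3 q9 = q10) (h10 : act 0 q10 = p0) : act 4 p8 = q9 := by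
  have hr := R20 p0
  subst h0
  subst h1
  subst h2
  subst h3
  subst h4
  subst h5
  subst h6
  subst h7
  subst h10
  subst h9
  exact ij (ij (hr))

theorem d20_9 {p0 p1 p2 p3 p4 p5 p6 p7 p8 p9 q10 : Q} (h0 : act 4 p0 = p1) (h1 : act 0 p1 = p2) (h2 : act 4 p2 = p3) (h3 : act 3 p3 = p4) (h4 : act 0 p4 = p5) (h5 : act 3 p5 = p6) (h6 : act 4 p6 = p7) (h7 : act 0 p7 = p8) (h8 : act 4 p8 = p9) (h10 : act 0 q10 = p0) : act 3 p9 = q10 := by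
  have hr := R20 p0
  subst h0
  subst h1
  subst h2
  subst h3
  subst h4
  subst h5
  subst h6
  subst h7
  subst h8
  subst h10
  exact ij (hr)

theorem d20_10 {p0 p1 p2 p3 p4 p5 p6 p7 p8 p9 p10 : Q} (h0 : act 4 p0 = p1) (h1 : act 0 p1 = p2) (h2 : act 4 p2 = p3) (h3 : act 3 p3 = p4) (h4 : act 0 p4 = p5) (h5 : act 3 p5 = p6) (h6 : act 4 p6 = p7) (h7 : act 0 p7 = p8) (h8 : act 4 p8 = p9) (h9 : act 3 p9 = p10) : act 0 p10 = p0 := by
  have hr := R20 p0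
  subst h0
  subst h1
  subst h2
  subst h3
  subst h4
  subst h5
  subst h6
  subst h7
  subst h8
  subst h9
  exact hr

theorem d21_0 {p0 q1 q2 q3 q4 q5 q6 q7 q8 q9 q10 : Q} (h1 : act 0 q1 = q2) (h2 : act 5 q2 = q3) (h3 : act 6 q3 = q4) (h4 : act 0 q4 = q5) (h5 : act 6 q5 = q6) (h6 : act 5 q6 = q7) (h7 : act 0 q7 = q8) (h8 : act 5 q8 = q9) (h9 : act 6 q9 = q10) (h10 : act 0 q10 = p0) : act 5 p0 = q1 := by
  have hr := R21 p0
  subst h10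
  subst h9
  subst h8
  subst h7
  subst h6
  subst h5
  subst h4
  subst h3
  subst h2
  subst h1
  exact ij (ij (ij (ij (ij (ij (ij (ij (ij (ij (hr))))))))))

theorem d21_1 {p0 p1 q2 q3 q4 q5 q6 q7 q8 q9 q10 : Q} (h0 : act 5 p0 = p1) (h2 : act 5 q2 = q3) (h3 : act 6 q3 = q4) (h4 : act 0 q4 = q5) (h5 : act 6 q5 = q6) (h6 : act 5 q6 = q7) (h7 : act 0 q7 = q8) (h8 : act 5 q8 = q9) (h9 : act 6 q9 = q10) (h10 : act 0 q10 = p0) : act 0 p1 = q2 := by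
  have hr := R21 p0
  subst h0
  subst h10
  subst h9
  subst h8
  subst h7
  subst h6
  subst h5
  subst h4
  subst h3
  subst h2
  exact ij (ij (ij (ij (ij (ij (ij (ij (ij (hr)))))))))

theorem d21_2 {p0 p1 p2 q3 q4 q5 q6 q7 q8 q9 q10 : Q} (h0 : act 5 p0 = p1) (h1 : act 0 p1 = p2) (h3 : act 6 q3 = q4) (h4 : act 0 q4 = q5) (h5 : act 6 q5 = q6) (h6 : act 5 q6 = q7) (h7 : act 0 q7 = q8) (h8 : act 5 q8 = q9) (h9 : act 6 q9 = q10) (h10 : act 0 q10 = p0) : act 5 p2 = q3 := by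
  have hr := R21 p0
  subst h0
  subst h1
  subst h10
  subst h9
  subst h8
  subst h7
  subst h6
  subst h5
  subst h4
  subst h3
  exact ij (ij (ij (ij (ij (ij (ij (ij (hr))))))))

theorem d21_3 {p0 p1 p2 p3 q4 q5 q6 q7 q8 q9 q10 : Q} (h0 : act 5 p0 = p1) (h1 : act 0 p1 = p2) (h2 : act 5 p2 = p3) (h4 : act 0 q4 = q5) (h5 : act 6 q5 = q6) (h6 : act 5 q6 = q7) (h7 : act 0 q7 = q8) (h8 : act 5 q8 = q9) (h9 : act 6 q9 = q10) (h10 : act 0 q10 = p0) : act 6 p3 = q4 := by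
  have hr := R21 p0
  subst h0
  subst h1
  subst h2
  subst h10
  subst h9
  subst h8
  subst h7
  subst h6
  subst h5
  subst h4
  exact ij (ij (ij (ij (ij (ij (ij (hr)))))))

theorem d21_4 {p0 p1 p2 p3 p4 q5 q6 q7 q8 q9 q10 : Q} (h0 : act 5 p0 = p1) (h1 : act 0 p1 = p2) (h2 : act 5 p2 = p3) (h3 : act 6 p3 = p4) (h5 : act 6 q5 = q6) (h6 : act 5 q6 = q7) (h7 : act 0 q7 = q8) (h8 : act 5 q8 = q9) (h9 : act 6 q9 = q10) (h10 : act 0 q10 = p0) : act 0 p4 = q5 := by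
  have hr := R21 p0
  subst h0
  subst h1
  subst h2
  subst h3
  subst h10
  subst h9
  subst h8
  subst h7
  subst h6
  subst h5
  exact ij (ij (ij (ij (ij (ij (hr))))))

theorem d21_5 {p0 p1 p2 p3 p4 p5 q6 q7 q8 q9 q10 : Q} (h0 : act 5 p0 = p1) (h1 : act 0 p1 = p2) (h2 : act 5 p2 = p3) (h3 : act 6 p3 = p4) (h4 : act 0 p4 = p5) (h6 : act 5 q6 = q7) (h7 : act 0 q7 = q8) (h8 : act 5 q8 = q9) (h9 : act 6 q9 = q10) (h10 : act 0 q10 = p0) : act 6 p5 = q6 := by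
  have hr := R21 p0
  subst h0
  subst h1
  subst h2
  subst h3
  subst h4
  subst h10
  subst h9
  subst h8
  subst h7
  subst h6
  exact ij (ij (ij (ij (ij (hr)))))

theorem d21_6 {p0 p1 p2 p3 p4 p5 p6 q7 q8 q9 q10 : Q} (h0 : act 5 p0 = p1) (h1 : act 0 p1 = p2) (h2 : act 5 p2 = p3) (h3 : act 6 p3 = p4) (h4 : act 0 p4 = p5) (h5 : act 6 p5 = p6) (h7 : act 0 q7 = q8) (h8 : act 5 q8 = q9) (h9 : act 6 q9 = q10) (h10 : act 0 q10 = p0) : act 5 p6 = q7 := by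
  have hr := R21 p0
  subst h0
  subst h1
  subst h2
  subst h3
  subst h4
  subst h5
  subst h10
  subst h9
  subst h8
  subst h7
  exact ij (ij (ij (ij (hr))))

theorem d21_7 {p0 p1 p2 p3 p4 p5 p6 p7 q8 q9 q10 : Q} (h0 : act 5 p0 = p1) (h1 : act 0 p1 = p2) (h2 : act 5 p2 = p3) (h3 : act 6 p3 = p4) (h4 : act 0 p4 = p5) (h5 : act 6 p5 = p6) (h6 : act 5 p6 = p7) (h8 : act 5 q8 = q9) (h9 : act 6 q9 = q10) (h10 : act 0 q10 = p0) : act 0 p7 = q8 := by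
  have hr := R21 p0
  subst h0
  subst h1
  subst h2
  subst h3
  subst h4
  subst h5
  subst h6
  subst h10
  subst h9
  subst h8
  exact ij (ij (ij (hr)))

theorem d21_8 {p0 p1 p2 p3 p4 p5 p6 p7 p8 q9 q10 : Q} (h0 : act 5 p0 = p1) (h1 : act 0 p1 = p2) (h2 : act 5 p2 = p3) (h3 : act 6 p3 = p4) (h4 : act 0 p4 = p5) (h5 : act 6 p5 = p6) (h6 : act 5 p6 = p7) (h7 : act 0 p7 = p8) (h9 : act 6 q9 = q10) (h10 : act 0 q10 = p0) : act 5 p8 = q9 := by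
  have hr := R21 p0
  subst h0
  subst h1
  subst h2
  subst h3
  subst h4
  subst h5
  subst h6
  subst h7
  subst h10
  subst h9
  exact ij (ij (hr))

theorem d21_9 {p0 p1 p2 p3 p4 p5 p6 p7 p8 p9 q10 : Q} (h0 : act 5 p0 = p1) (h1 : act 0 p1 = p2) (h2 : act 5 p2 = p3) (h3 : act 6 p3 = p4) (h4 : act 0 p4 = p5) (h5 : act 6 p5 = p6) (h6 : act 5 p6 = p7) (h7 : act 0 p7 = p8) (h8 : act 5 p8 = p9) (h10 : act 0 q10 = p0) : act 6 p9 = q10 := by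
  have hr := R21 p0
  subst h0
  subst h1
  subst h2
  subst h3
  subst h4
  subst h5
  subst h6
  subst h7
  subst h8
  subst h10
  exact ij (hr)

theorem d21_10 {p0 p1 p2 p3 p4 p5 p6 p7 p8 p9 p10 : Q} (h0 : act 5 p0 = p1) (h1 : act 0 p1 = p2) (h2 : act 5 p2 = p3) (h3 : act 6 p3 = p4) (h4 : act 0 p4 = p5) (h5 : act 6 p5 = p6) (h6 : act 5 p6 = p7) (h7 : act 0 p7 = p8) (h8 : act 5 p8 = p9) (h9 : act 6 p9 = p10) : act 0 p10 = p0 := by
  have hr := R21 p0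
  subst h0
  subst h1
  subst h2
  subst h3
  subst h4
  subst h5
  subst h6
  subst h7
  subst h8
  subst h9
  exact hr

theorem d22_0 {p0 : Q} (hr : act 2 p0 = p0) : act 2 p0 = p0 := by
  exact hr

theorem d23_0 {p0 : Q} (hr : act 3 p0 = p0) : act 3 p0 = p0 := by
  exact hr

theorem d24_0 {p0 : Q} (hr : act 4 p0 = p0) : act 4 p0 = p0 := by
  exact hr

theorem d25_0 {p0 : Q} (hr : act 5 p0 = p0) : act 5 p0 = p0 := by
  exact hr

theorem d26_0 {p0 : Q} (hr : act 6 p0 = p0) : act 6 p0 = p0 := by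
  exact hr


end Cfsg.Agent.Helper17.ONTC
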