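import Cfsg.Agent.Helper17.ONTC.PermDefs

set_option autoImplicit false
set_option linter.all false
set_option maxRecDepth 100000
set_option maxHeartbeats 0
set_option Elab.async false

namespace Cfsg.Agent.Helper17.ONTC

open Cfsg.Agent.Helper17.TCG
theorem INV0_0 : allR 0 4000 (pInvK c0 c1) = true := by decide +kernel
theorem INV0_8 : allR 32000 4000 (pInvK c0 c1) = true := by decide +kernel
theorem INV0_16 : allR 64000 4000 (pInvK c0 c1) = true := by decide +kernel
theorem INV0_24 : allR 96000 4000 (pInvK c0 c1) = true := by decide +kernel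
theorem INV1_2 : allR 8000 4000 (pInvK c1 c0) = true := by decide +kernel
theorem INV1_10 : allR 40000 4000 (pInvK c1 c0) = true := by decide +kernel
theorem INV1_18 : allR 72000 4000 (pInvK c1 c0) = true := by decide +kernel
theorem INV1_26 : allR 104000 4000 (pInvK c1 c0) = true := by decide +kernel
theorem INV2_4 : allR 16000 4000 (pInvK c2 c2) = true := by decide +kernel
theorem INV2_12 : allR 48000 4000 (pInvK c2 c2) = true := by decide +kernel
theorem INV2_20 : allR 80000 4000 (pInvK c2 c2) = true := by decide +kernel
theorem INV2_28 : allR 112000 4000 (pInvK c2 c2) = true := by decide +kernel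
theorem INV3_6 : allR 24000 4000 (pInvK c3 c3) = true := by decide +kernel
theorem INV3_14 : allR 56000 4000 (pInvK c3 c3) = true := by decide +kernel
theorem INV3_22 : allR 88000 4000 (pInvK c3 c3) = true := by decide +kernel
theorem INV4_0 : allR 0 4000 (pInvK c4 c4) = true := by decide +kernel
theorem INV4_8 : allR 32000 4000 (pInvK c4 c4) = true := by decide +kernel
theorem INV4_16 : allR 64000 4000 (pInvK c4 c4) = true := by decide +kernel
theorem INV4_24 : allR 96000 4000 (pInvK c4 c4) = true := by decide +kernel
theorem INV5_2 : allR 8000 4000 (pInvK c5 c5) = true := by decide +kernel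
theorem INV5_10 : allR 40000 4000 (pInvK c5 c5) = true := by decide +kernel
theorem INV5_18 : allR 72000 4000 (pInvK c5 c5) = true := by decide +kernel
theorem INV5_26 : allR 104000 4000 (pInvK c5 c5) = true := by decide +kernel
theorem INV6_4 : allR 16000 4000 (pInvK c6 c6) = true := by decide +kernel
theorem INV6_12 : allR 48000 4000 (pInvK c6 c6) = true := by decide +kernel
theorem INV6_20 : allR 80000 4000 (pInvK c6 c6) = true := by decide +kernel
theorem INV6_28 : allR 112000 4000 (pInvK c6 c6) = true := by decide +kernel
theorem INV7_6 : allR 24000 4000 (pInvK c7 c7) = true := by decide +kernel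
theorem INV7_14 : allR 56000 4000 (pInvK c7 c7) = true := by decide +kernel
theorem INV7_22 : allR 88000 4000 (pInvK c7 c7) = true := by decide +kernel
theorem CX_2_3_0 : allR 0 2000 (pK (coxK c2 c3 3)) = true := by decide +kernel
theorem CX_2_3_8 : allR 16000 2000 (pK (coxK c2 c3 3)) = true := by decide +kernel
theorem CX_2_3_16 : allR 32000 2000 (pK (coxK c2 c3 3)) = true := by decide +kernel
theorem CX_2_3_24 : allR 48000 2000 (pK (coxK c2 c3 3)) = true := by decide +kernel
theorem CX_2_3_32 : allR 64000 2000 (pK (coxK c2 c3 3)) = true := by decide +kernel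
theorem CX_2_3_40 : allR 80000 2000 (pK (coxK c2 c3 3)) = true := by decide +kernel
theorem CX_2_3_48 : allR 96000 2000 (pK (coxK c2 c3 3)) = true := by decide +kernel
theorem CX_2_3_56 : allR 112000 2000 (pK (coxK c2 c3 3)) = true := by decide +kernel
theorem CX_2_4_3 : allR 9000 3000 (pK (coxK c2 c4 2)) = true := by decide +kernel
theorem CX_2_4_11 : allR 33000 3000 (pK (coxK c2 c4 2)) = true := by decide +kernel
theorem CX_2_4_19 : allR 57000 3000 (pK (coxK c2 c4 2)) = true := by decide +kernel
theorem CX_2_4_27 : allR 81000 3000 (pK (coxK c2 c4 2)) = true := by decide +kernel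
theorem CX_2_4_35 : allR 105000 3000 (pK (coxK c2 c4 2)) = true := by decide +kernel
theorem CX_2_5_3 : allR 9000 3000 (pK (coxK c2 c5 2)) = true := by decide +kernel
theorem CX_2_5_11 : allR 33000 3000 (pK (coxK c2 c5 2)) = true := by decide +kernel
theorem CX_2_5_19 : allR 57000 3000 (pK (coxK c2 c5 2)) = true := by decide +kernel
theorem CX_2_5_27 : allR 81000 3000 (pK (coxK c2 c5 2)) = true := by decide +kernel
theorem CX_2_5_35 : allR 105000 3000 (pK (coxK c2 c5 2)) = true := by decide +kernel
theorem CX_2_6_3 : allR 9000 3000 (pK (coxK c2 c6 2)) = true := by decide +kernel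
theorem CX_2_6_11 : allR 33000 3000 (pK (coxK c2 c6 2)) = true := by decide +kernel
theorem CX_2_6_19 : allR 57000 3000 (pK (coxK c2 c6 2)) = true := by decide +kernel
theorem CX_2_6_27 : allR 81000 3000 (pK (coxK c2 c6 2)) = true := by decide +kernel
theorem CX_2_6_35 : allR 105000 3000 (pK (coxK c2 c6 2)) = true := by decide +kernel
theorem CX_2_7_3 : allR 9000 3000 (pK (coxK c2 c7 2)) = true := by decide +kernel
theorem CX_2_7_11 : allR 33000 3000 (pK (coxK c2 c7 2)) = true := by decide +kernel
theorem CX_2_7_19 : allR 57000 3000 (pK (coxK c2 c7 2)) = true := by decide +kernel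
theorem CX_2_7_27 : allR 81000 3000 (pK (coxK c2 c7 2)) = true := by decide +kernel
theorem CX_2_7_35 : allR 105000 3000 (pK (coxK c2 c7 2)) = true := by decide +kernel
theorem CX_3_4_3 : allR 6000 2000 (pK (coxK c3 c4 3)) = true := by decide +kernel
theorem CX_3_4_11 : allR 22000 2000 (pK (coxK c3 c4 3)) = true := by decide +kernel
theorem CX_3_4_19 : allR 38000 2000 (pK (coxK c3 c4 3)) = true := by decide +kernel
theorem CX_3_4_27 : allR 54000 2000 (pK (coxK c3 c4 3)) = true := by decide +kernel
theorem CX_3_4_35 : allR 70000 2000 (pK (coxK c3 c4 3)) = true := by decide +kernel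
theorem CX_3_4_43 : allR 86000 2000 (pK (coxK c3 c4 3)) = true := by decide +kernel
theorem CX_3_4_51 : allR 102000 2000 (pK (coxK c3 c4 3)) = true := by decide +kernel
theorem CX_3_4_59 : allR 118000 2000 (pK (coxK c3 c4 3)) = true := by decide +kernel
theorem CX_3_5_6 : allR 18000 3000 (pK (coxK c3 c5 2)) = true := by decide +kernel
theorem CX_3_5_14 : allR 42000 3000 (pK (coxK c3 c5 2)) = true := by decide +kernel
theorem CX_3_5_22 : allR 66000 3000 (pK (coxK c3 c5 2)) = true := by decide +kernel
theorem CX_3_5_30 : allR 90000 3000 (pK (coxK c3 c5 2)) = true := by decide +kernel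
theorem CX_3_5_38 : allR 114000 3000 (pK (coxK c3 c5 2)) = true := by decide +kernel
theorem CX_3_6_6 : allR 18000 3000 (pK (coxK c3 c6 2)) = true := by decide +kernel
theorem CX_3_6_14 : allR 42000 3000 (pK (coxK c3 c6 2)) = true := by decide +kernel
theorem CX_3_6_22 : allR 66000 3000 (pK (coxK c3 c6 2)) = true := by decide +kernel
theorem CX_3_6_30 : allR 90000 3000 (pK (coxK c3 c6 2)) = true := by decide +kernel
theorem CX_3_6_38 : allR 114000 3000 (pK (coxK c3 c6 2)) = true := by decide +kernel
theorem CX_3_7_6 : allR 18000 3000 (pK (coxK c3 c7 2)) = true := by decide +kernel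
theorem CX_3_7_14 : allR 42000 3000 (pK (coxK c3 c7 2)) = true := by decide +kernel
theorem CX_3_7_22 : allR 66000 3000 (pK (coxK c3 c7 2)) = true := by decide +kernel
theorem CX_3_7_30 : allR 90000 3000 (pK (coxK c3 c7 2)) = true := by decide +kernel
theorem CX_3_7_38 : allR 114000 3000 (pK (coxK c3 c7 2)) = true := by decide +kernel
theorem CX_4_5_6 : allR 4500 750 (pK (coxK c4 c5 8)) = true := by decide +kernel
theorem CX_4_5_14 : allR 10500 750 (pK (coxK c4 c5 8)) = true := by decide +kernel
theorem CX_4_5_22 : allR 16500 750 (pK (coxK c4 c5 8)) = true := by decide +kernel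
theorem CX_4_5_30 : allR 22500 750 (pK (coxK c4 c5 8)) = true := by decide +kernel
theorem CX_4_5_38 : allR 28500 750 (pK (coxK c4 c5 8)) = true := by decide +kernel
theorem CX_4_5_46 : allR 34500 750 (pK (coxK c4 c5 8)) = true := by decide +kernel
theorem CX_4_5_54 : allR 40500 750 (pK (coxK c4 c5 8)) = true := by decide +kernel
theorem CX_4_5_62 : allR 46500 750 (pK (coxK c4 c5 8)) = true := by decide +kernel
theorem CX_4_5_70 : allR 52500 750 (pK (coxK c4 c5 8)) = true := by decide +kernel
theorem CX_4_5_78 : allR 58500 750 (pK (coxK c4 c5 8)) = true := by decide +kernel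
theorem CX_4_5_86 : allR 64500 750 (pK (coxK c4 c5 8)) = true := by decide +kernel
theorem CX_4_5_94 : allR 70500 750 (pK (coxK c4 c5 8)) = true := by decide +kernel
theorem CX_4_5_102 : allR 76500 750 (pK (coxK c4 c5 8)) = true := by decide +kernel
theorem CX_4_5_110 : allR 82500 750 (pK (coxK c4 c5 8)) = true := by decide +kernel
theorem CX_4_5_118 : allR 88500 750 (pK (coxK c4 c5 8)) = true := by decide +kernel
theorem CX_4_5_126 : allR 94500 750 (pK (coxK c4 c5 8)) = true := by decide +kernel
theorem CX_4_5_134 : allR 100500 750 (pK (coxK c4 c5 8)) = true := by decide +kernel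
theorem CX_4_5_142 : allR 106500 750 (pK (coxK c4 c5 8)) = true := by decide +kernel
theorem CX_4_5_150 : allR 112500 750 (pK (coxK c4 c5 8)) = true := by decide +kernel
theorem CX_4_5_158 : allR 118500 750 (pK (coxK c4 c5 8)) = true := by decide +kernel
theorem CX_4_6_3 : allR 9000 3000 (pK (coxK c4 c6 2)) = true := by decide +kernel
theorem CX_4_6_11 : allR 33000 3000 (pK (coxK c4 c6 2)) = true := by decide +kernel
theorem CX_4_6_19 : allR 57000 3000 (pK (coxK c4 c6 2)) = true := by decide +kernel
theorem CX_4_6_27 : allR 81000 3000 (pK (coxK c4 c6 2)) = true := by decide +kernel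
theorem CX_4_6_35 : allR 105000 3000 (pK (coxK c4 c6 2)) = true := by decide +kernel
theorem CX_4_7_3 : allR 9000 3000 (pK (coxK c4 c7 2)) = true := by decide +kernel
theorem CX_4_7_11 : allR 33000 3000 (pK (coxK c4 c7 2)) = true := by decide +kernel
theorem CX_4_7_19 : allR 57000 3000 (pK (coxK c4 c7 2)) = true := by decide +kernel
theorem CX_4_7_27 : allR 81000 3000 (pK (coxK c4 c7 2)) = true := by decide +kernel
theorem CX_4_7_35 : allR 105000 3000 (pK (coxK c4 c7 2)) = true := by decide +kernel
theorem CX_5_6_3 : allR 6000 2000 (pK (coxK c5 c6 3)) = true := by decide +kernel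
theorem CX_5_6_11 : allR 22000 2000 (pK (coxK c5 c6 3)) = true := by decide +kernel
theorem CX_5_6_19 : allR 38000 2000 (pK (coxK c5 c6 3)) = true := by decide +kernel
theorem CX_5_6_27 : allR 54000 2000 (pK (coxK c5 c6 3)) = true := by decide +kernel
theorem CX_5_6_35 : allR 70000 2000 (pK (coxK c5 c6 3)) = true := by decide +kernel
theorem CX_5_6_43 : allR 86000 2000 (pK (coxK c5 c6 3)) = true := by decide +kernel
theorem CX_5_6_51 : allR 102000 2000 (pK (coxK c5 c6 3)) = true := by decide +kernel
theorem CX_5_6_59 : allR 118000 2000 (pK (coxK c5 c6 3)) = true := by decide +kernel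
theorem CX_5_7_6 : allR 18000 3000 (pK (coxK c5 c7 2)) = true := by decide +kernel
theorem CX_5_7_14 : allR 42000 3000 (pK (coxK c5 c7 2)) = true := by decide +kernel
theorem CX_5_7_22 : allR 66000 3000 (pK (coxK c5 c7 2)) = true := by decide +kernel
theorem CX_5_7_30 : allR 90000 3000 (pK (coxK c5 c7 2)) = true := by decide +kernel
theorem CX_5_7_38 : allR 114000 3000 (pK (coxK c5 c7 2)) = true := by decide +kernel
theorem CX_6_7_6 : allR 12000 2000 (pK (coxK c6 c7 3)) = true := by decide +kernel
theorem CX_6_7_14 : allR 28000 2000 (pK (coxK c6 c7 3)) = true := by decide +kernel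
theorem CX_6_7_22 : allR 44000 2000 (pK (coxK c6 c7 3)) = true := by decide +kernel
theorem CX_6_7_30 : allR 60000 2000 (pK (coxK c6 c7 3)) = true := by decide +kernel
theorem CX_6_7_38 : allR 76000 2000 (pK (coxK c6 c7 3)) = true := by decide +kernel
theorem CX_6_7_46 : allR 92000 2000 (pK (coxK c6 c7 3)) = true := by decide +kernel
theorem CX_6_7_54 : allR 108000 2000 (pK (coxK c6 c7 3)) = true := by decide +kernel
theorem XS0_1 : allR 3000 3000 (pK kX0) = true := by decide +kernel
theorem XS0_9 : allR 27000 3000 (pK kX0) = true := by decide +kernel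
theorem XS0_17 : allR 51000 3000 (pK kX0) = true := by decide +kernel
theorem XS0_25 : allR 75000 3000 (pK kX0) = true := by decide +kernel
theorem XS0_33 : allR 99000 3000 (pK kX0) = true := by decide +kernel
theorem XS1_1 : allR 1200 1200 (pK kX1) = true := by decide +kernel
theorem XS1_9 : allR 10800 1200 (pK kX1) = true := by decide +kernel
theorem XS1_17 : allR 20400 1200 (pK kX1) = true := by decide +kernel
theorem XS1_25 : allR 30000 1200 (pK kX1) = true := by decide +kernel
theorem XS1_33 : allR 39600 1200 (pK kX1) = true := by decide +kernel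
theorem XS1_41 : allR 49200 1200 (pK kX1) = true := by decide +kernel
theorem XS1_49 : allR 58800 1200 (pK kX1) = true := by decide +kernel
theorem XS1_57 : allR 68400 1200 (pK kX1) = true := by decide +kernel
theorem XS1_65 : allR 78000 1200 (pK kX1) = true := by decide +kernel
theorem XS1_73 : allR 87600 1200 (pK kX1) = true := by decide +kernel
theorem XS1_81 : allR 97200 1200 (pK kX1) = true := by decide +kernel
theorem XS1_89 : allR 106800 1200 (pK kX1) = true := by decide +kernel
theorem XS1_97 : allR 116400 1200 (pK kX1) = true := by decide +kernel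
theorem XS2_3 : allR 3600 1200 (pK kX2) = true := by decide +kernel
theorem XS2_11 : allR 13200 1200 (pK kX2) = true := by decide +kernel
theorem XS2_19 : allR 22800 1200 (pK kX2) = true := by decide +kernel
theorem XS2_27 : allR 32400 1200 (pK kX2) = true := by decide +kernel
theorem XS2_35 : allR 42000 1200 (pK kX2) = true := by decide +kernel
theorem XS2_43 : allR 51600 1200 (pK kX2) = true := by decide +kernel
theorem XS2_51 : allR 61200 1200 (pK kX2) = true := by decide +kernel
theorem XS2_59 : allR 70800 1200 (pK kX2) = true := by decide +kernel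
theorem XS2_67 : allR 80400 1200 (pK kX2) = true := by decide +kernel
theorem XS2_75 : allR 90000 1200 (pK kX2) = true := by decide +kernel
theorem XS2_83 : allR 99600 1200 (pK kX2) = true := by decide +kernel
theorem XS2_91 : allR 109200 1200 (pK kX2) = true := by decide +kernel
theorem XS2_99 : allR 118800 1200 (pK kX2) = true := by decide +kernel
theorem XS3_5 : allR 6000 1200 (pK kX3) = true := by decide +kernel
theorem XS3_13 : allR 15600 1200 (pK kX3) = true := by decide +kernel
theorem XS3_21 : allR 25200 1200 (pK kX3) = true := by decide +kernel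
theorem XS3_29 : allR 34800 1200 (pK kX3) = true := by decide +kernel
theorem XS3_37 : allR 44400 1200 (pK kX3) = true := by decide +kernel
theorem XS3_45 : allR 54000 1200 (pK kX3) = true := by decide +kernel
theorem XS3_53 : allR 63600 1200 (pK kX3) = true := by decide +kernel
theorem XS3_61 : allR 73200 1200 (pK kX3) = true := by decide +kernel
theorem XS3_69 : allR 82800 1200 (pK kX3) = true := by decide +kernel
theorem XS3_77 : allR 92400 1200 (pK kX3) = true := by decide +kernel
theorem XS3_85 : allR 102000 1200 (pK kX3) = true := by decide +kernel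
theorem XS3_93 : allR 111600 1200 (pK kX3) = true := by decide +kernel
theorem XS3_101 : allR 121200 1200 (pK kX3) = true := by decide +kernel
theorem XS4_7 : allR 4200 600 (pK kX4) = true := by decide +kernel
theorem XS4_15 : allR 9000 600 (pK kX4) = true := by decide +kernel
theorem XS4_23 : allR 13800 600 (pK kX4) = true := by decide +kernel
theorem XS4_31 : allR 18600 600 (pK kX4) = true := by decide +kernel
theorem XS4_39 : allR 23400 600 (pK kX4) = true := by decide +kernel
theorem XS4_47 : allR 28200 600 (pK kX4) = true := by decide +kernel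
theorem XS4_55 : allR 33000 600 (pK kX4) = true := by decide +kernel
theorem XS4_63 : allR 37800 600 (pK kX4) = true := by decide +kernel
theorem XS4_71 : allR 42600 600 (pK kX4) = true := by decide +kernel
theorem XS4_79 : allR 47400 600 (pK kX4) = true := by decide +kernel
theorem XS4_87 : allR 52200 600 (pK kX4) = true := by decide +kernel
theorem XS4_95 : allR 57000 600 (pK kX4) = true := by decide +kernel
theorem XS4_103 : allR 61800 600 (pK kX4) = true := by decide +kernel
theorem XS4_111 : allR 66600 600 (pK kX4) = true := by decide +kernel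
theorem XS4_119 : allR 71400 600 (pK kX4) = true := by decide +kernel
theorem XS4_127 : allR 76200 600 (pK kX4) = true := by decide +kernel
theorem XS4_135 : allR 81000 600 (pK kX4) = true := by decide +kernel
theorem XS4_143 : allR 85800 600 (pK kX4) = true := by decide +kernel
theorem XS4_151 : allR 90600 600 (pK kX4) = true := by decide +kernel
theorem XS4_159 : allR 95400 600 (pK kX4) = true := by decide +kernel
theorem XS4_167 : allR 100200 600 (pK kX4) = true := by decide +kernel
theorem XS4_175 : allR 105000 600 (pK kX4) = true := by decide +kernel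
theorem XS4_183 : allR 109800 600 (pK kX4) = true := by decide +kernel
theorem XS4_191 : allR 114600 600 (pK kX4) = true := by decide +kernel
theorem XS4_199 : allR 119400 600 (pK kX4) = true := by decide +kernel
theorem XS5_6 : allR 6540 1090 (pK kX5) = true := by decide +kernel
theorem XS5_14 : allR 15260 1090 (pK kX5) = true := by decide +kernel
theorem XS5_22 : allR 23980 1090 (pK kX5) = true := by decide +kernel
theorem XS5_30 : allR 32700 1090 (pK kX5) = true := by decide +kernel
theorem XS5_38 : allR 41420 1090 (pK kX5) = true := by decide +kernel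
theorem XS5_46 : allR 50140 1090 (pK kX5) = true := by decide +kernel
theorem XS5_54 : allR 58860 1090 (pK kX5) = true := by decide +kernel
theorem XS5_62 : allR 67580 1090 (pK kX5) = true := by decide +kernel
theorem XS5_70 : allR 76300 1090 (pK kX5) = true := by decide +kernel
theorem XS5_78 : allR 85020 1090 (pK kX5) = true := by decide +kernel
theorem XS5_86 : allR 93740 1090 (pK kX5) = true := by decide +kernel
theorem XS5_94 : allR 102460 1090 (pK kX5) = true := by decide +kernel
theorem XS5_102 : allR 111180 1090 (pK kX5) = true := by decide +kernel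
theorem XS5_110 : allR 119900 1090 (pK kX5) = true := by decide +kernel
theorem XS6_6 : allR 6540 1090 (pK kX6) = true := by decide +kernel
theorem XS6_14 : allR 15260 1090 (pK kX6) = true := by decide +kernel
theorem XS6_22 : allR 23980 1090 (pK kX6) = true := by decide +kernel
theorem XS6_30 : allR 32700 1090 (pK kX6) = true := by decide +kernel
theorem XS6_38 : allR 41420 1090 (pK kX6) = true := by decide +kernel
theorem XS6_46 : allR 50140 1090 (pK kX6) = true := by decide +kernel
theorem XS6_54 : allR 58860 1090 (pK kX6) = true := by decide +kernel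
theorem XS6_62 : allR 67580 1090 (pK kX6) = true := by decide +kernel
theorem XS6_70 : allR 76300 1090 (pK kX6) = true := by decide +kernel
theorem XS6_78 : allR 85020 1090 (pK kX6) = true := by decide +kernel
theorem XS6_86 : allR 93740 1090 (pK kX6) = true := by decide +kernel
theorem XS6_94 : allR 102460 1090 (pK kX6) = true := by decide +kernel
theorem XS6_102 : allR 111180 1090 (pK kX6) = true := by decide +kernel
theorem XS6_110 : allR 119900 1090 (pK kX6) = true := by decide +kernel
theorem CX_5_7_40 : allR 120000 2760 (pK (coxK c5 c7 2)) = true := by decide +kernel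
theorem INV6_30 : allR 120000 2760 (pInvK c6 c6) = true := by decide +kernel
theorem CX_5_6_61 : allR 122000 760 (pK (coxK c5 c6 3)) = true := by decide +kernel
theorem XS3_102 : allR 122400 360 (pK kX3) = true := by decide +kernel

end Cfsg.Agent.Helper17.ONTC
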