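import Cfsg.Agent.Helper17.ONTC.PermDefs

set_option autoImplicit false
set_option linter.all false
set_option maxRecDepth 100000
set_option maxHeartbeats 0
set_option Elab.async false

namespace Cfsg.Agent.Helper17.ONTC

open Cfsg.Agent.Helper17.TCG
theorem INV0_1 : allR 4000 4000 (pInvK c0 c1) = true := by decide +kernel
theorem INV0_9 : allR 36000 4000 (pInvK c0 c1) = true := by decide +kernel
theorem INV0_17 : allR 68000 4000 (pInvK c0 c1) = true := by decide +kernel
theorem INV0_25 : allR 100000 4000 (pInvK c0 c1) = true := by decide +kernel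
theorem INV1_3 : allR 12000 4000 (pInvK c1 c0) = true := by decide +kernel
theorem INV1_11 : allR 44000 4000 (pInvK c1 c0) = true := by decide +kernel
theorem INV1_19 : allR 76000 4000 (pInvK c1 c0) = true := by decide +kernel
theorem INV1_27 : allR 108000 4000 (pInvK c1 c0) = true := by decide +kernel
theorem INV2_5 : allR 20000 4000 (pInvK c2 c2) = true := by decide +kernel
theorem INV2_13 : allR 52000 4000 (pInvK c2 c2) = true := by decide +kernel
theorem INV2_21 : allR 84000 4000 (pInvK c2 c2) = true := by decide +kernel
theorem INV2_29 : allR 116000 4000 (pInvK c2 c2) = true := by decide +kernel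
theorem INV3_7 : allR 28000 4000 (pInvK c3 c3) = true := by decide +kernel
theorem INV3_15 : allR 60000 4000 (pInvK c3 c3) = true := by decide +kernel
theorem INV3_23 : allR 92000 4000 (pInvK c3 c3) = true := by decide +kernel
theorem INV4_1 : allR 4000 4000 (pInvK c4 c4) = true := by decide +kernel
theorem INV4_9 : allR 36000 4000 (pInvK c4 c4) = true := by decide +kernel
theorem INV4_17 : allR 68000 4000 (pInvK c4 c4) = true := by decide +kernel
theorem INV4_25 : allR 100000 4000 (pInvK c4 c4) = true := by decide +kernel
theorem INV5_3 : allR 12000 4000 (pInvK c5 c5) = true := by decide +kernel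
theorem INV5_11 : allR 44000 4000 (pInvK c5 c5) = true := by decide +kernel
theorem INV5_19 : allR 76000 4000 (pInvK c5 c5) = true := by decide +kernel
theorem INV5_27 : allR 108000 4000 (pInvK c5 c5) = true := by decide +kernel
theorem INV6_5 : allR 20000 4000 (pInvK c6 c6) = true := by decide +kernel
theorem INV6_13 : allR 52000 4000 (pInvK c6 c6) = true := by decide +kernel
theorem INV6_21 : allR 84000 4000 (pInvK c6 c6) = true := by decide +kernel
theorem INV6_29 : allR 116000 4000 (pInvK c6 c6) = true := by decide +kernel
theorem INV7_7 : allR 28000 4000 (pInvK c7 c7) = true := by decide +kernel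
theorem INV7_15 : allR 60000 4000 (pInvK c7 c7) = true := by decide +kernel
theorem INV7_23 : allR 92000 4000 (pInvK c7 c7) = true := by decide +kernel
theorem CX_2_3_1 : allR 2000 2000 (pK (coxK c2 c3 3)) = true := by decide +kernel
theorem CX_2_3_9 : allR 18000 2000 (pK (coxK c2 c3 3)) = true := by decide +kernel
theorem CX_2_3_17 : allR 34000 2000 (pK (coxK c2 c3 3)) = true := by decide +kernel
theorem CX_2_3_25 : allR 50000 2000 (pK (coxK c2 c3 3)) = true := by decide +kernel
theorem CX_2_3_33 : allR 66000 2000 (pK (coxK c2 c3 3)) = true := by decide +kernel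
theorem CX_2_3_41 : allR 82000 2000 (pK (coxK c2 c3 3)) = true := by decide +kernel
theorem CX_2_3_49 : allR 98000 2000 (pK (coxK c2 c3 3)) = true := by decide +kernel
theorem CX_2_3_57 : allR 114000 2000 (pK (coxK c2 c3 3)) = true := by decide +kernel
theorem CX_2_4_4 : allR 12000 3000 (pK (coxK c2 c4 2)) = true := by decide +kernel
theorem CX_2_4_12 : allR 36000 3000 (pK (coxK c2 c4 2)) = true := by decide +kernel
theorem CX_2_4_20 : allR 60000 3000 (pK (coxK c2 c4 2)) = true := by decide +kernel
theorem CX_2_4_28 : allR 84000 3000 (pK (coxK c2 c4 2)) = true := by decide +kernel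
theorem CX_2_4_36 : allR 108000 3000 (pK (coxK c2 c4 2)) = true := by decide +kernel
theorem CX_2_5_4 : allR 12000 3000 (pK (coxK c2 c5 2)) = true := by decide +kernel
theorem CX_2_5_12 : allR 36000 3000 (pK (coxK c2 c5 2)) = true := by decide +kernel
theorem CX_2_5_20 : allR 60000 3000 (pK (coxK c2 c5 2)) = true := by decide +kernel
theorem CX_2_5_28 : allR 84000 3000 (pK (coxK c2 c5 2)) = true := by decide +kernel
theorem CX_2_5_36 : allR 108000 3000 (pK (coxK c2 c5 2)) = true := by decide +kernel
theorem CX_2_6_4 : allR 12000 3000 (pK (coxK c2 c6 2)) = true := by decide +kernel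
theorem CX_2_6_12 : allR 36000 3000 (pK (coxK c2 c6 2)) = true := by decide +kernel
theorem CX_2_6_20 : allR 60000 3000 (pK (coxK c2 c6 2)) = true := by decide +kernel
theorem CX_2_6_28 : allR 84000 3000 (pK (coxK c2 c6 2)) = true := by decide +kernel
theorem CX_2_6_36 : allR 108000 3000 (pK (coxK c2 c6 2)) = true := by decide +kernel
theorem CX_2_7_4 : allR 12000 3000 (pK (coxK c2 c7 2)) = true := by decide +kernel
theorem CX_2_7_12 : allR 36000 3000 (pK (coxK c2 c7 2)) = true := by decide +kernel
theorem CX_2_7_20 : allR 60000 3000 (pK (coxK c2 c7 2)) = true := by decide +kernel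
theorem CX_2_7_28 : allR 84000 3000 (pK (coxK c2 c7 2)) = true := by decide +kernel
theorem CX_2_7_36 : allR 108000 3000 (pK (coxK c2 c7 2)) = true := by decide +kernel
theorem CX_3_4_4 : allR 8000 2000 (pK (coxK c3 c4 3)) = true := by decide +kernel
theorem CX_3_4_12 : allR 24000 2000 (pK (coxK c3 c4 3)) = true := by decide +kernel
theorem CX_3_4_20 : allR 40000 2000 (pK (coxK c3 c4 3)) = true := by decide +kernel
theorem CX_3_4_28 : allR 56000 2000 (pK (coxK c3 c4 3)) = true := by decide +kernel
theorem CX_3_4_36 : allR 72000 2000 (pK (coxK c3 c4 3)) = true := by decide +kernel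
theorem CX_3_4_44 : allR 88000 2000 (pK (coxK c3 c4 3)) = true := by decide +kernel
theorem CX_3_4_52 : allR 104000 2000 (pK (coxK c3 c4 3)) = true := by decide +kernel
theorem CX_3_4_60 : allR 120000 2000 (pK (coxK c3 c4 3)) = true := by decide +kernel
theorem CX_3_5_7 : allR 21000 3000 (pK (coxK c3 c5 2)) = true := by decide +kernel
theorem CX_3_5_15 : allR 45000 3000 (pK (coxK c3 c5 2)) = true := by decide +kernel
theorem CX_3_5_23 : allR 69000 3000 (pK (coxK c3 c5 2)) = true := by decide +kernel
theorem CX_3_5_31 : allR 93000 3000 (pK (coxK c3 c5 2)) = true := by decide +kernel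
theorem CX_3_5_39 : allR 117000 3000 (pK (coxK c3 c5 2)) = true := by decide +kernel
theorem CX_3_6_7 : allR 21000 3000 (pK (coxK c3 c6 2)) = true := by decide +kernel
theorem CX_3_6_15 : allR 45000 3000 (pK (coxK c3 c6 2)) = true := by decide +kernel
theorem CX_3_6_23 : allR 69000 3000 (pK (coxK c3 c6 2)) = true := by decide +kernel
theorem CX_3_6_31 : allR 93000 3000 (pK (coxK c3 c6 2)) = true := by decide +kernel
theorem CX_3_6_39 : allR 117000 3000 (pK (coxK c3 c6 2)) = true := by decide +kernel
theorem CX_3_7_7 : allR 21000 3000 (pK (coxK c3 c7 2)) = true := by decide +kernel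
theorem CX_3_7_15 : allR 45000 3000 (pK (coxK c3 c7 2)) = true := by decide +kernel
theorem CX_3_7_23 : allR 69000 3000 (pK (coxK c3 c7 2)) = true := by decide +kernel
theorem CX_3_7_31 : allR 93000 3000 (pK (coxK c3 c7 2)) = true := by decide +kernel
theorem CX_3_7_39 : allR 117000 3000 (pK (coxK c3 c7 2)) = true := by decide +kernel
theorem CX_4_5_7 : allR 5250 750 (pK (coxK c4 c5 8)) = true := by decide +kernel
theorem CX_4_5_15 : allR 11250 750 (pK (coxK c4 c5 8)) = true := by decide +kernel
theorem CX_4_5_23 : allR 17250 750 (pK (coxK c4 c5 8)) = true := by decide +kernel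
theorem CX_4_5_31 : allR 23250 750 (pK (coxK c4 c5 8)) = true := by decide +kernel
theorem CX_4_5_39 : allR 29250 750 (pK (coxK c4 c5 8)) = true := by decide +kernel
theorem CX_4_5_47 : allR 35250 750 (pK (coxK c4 c5 8)) = true := by decide +kernel
theorem CX_4_5_55 : allR 41250 750 (pK (coxK c4 c5 8)) = true := by decide +kernel
theorem CX_4_5_63 : allR 47250 750 (pK (coxK c4 c5 8)) = true := by decide +kernel
theorem CX_4_5_71 : allR 53250 750 (pK (coxK c4 c5 8)) = true := by decide +kernel
theorem CX_4_5_79 : allR 59250 750 (pK (coxK c4 c5 8)) = true := by decide +kernel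
theorem CX_4_5_87 : allR 65250 750 (pK (coxK c4 c5 8)) = true := by decide +kernel
theorem CX_4_5_95 : allR 71250 750 (pK (coxK c4 c5 8)) = true := by decide +kernel
theorem CX_4_5_103 : allR 77250 750 (pK (coxK c4 c5 8)) = true := by decide +kernel
theorem CX_4_5_111 : allR 83250 750 (pK (coxK c4 c5 8)) = true := by decide +kernel
theorem CX_4_5_119 : allR 89250 750 (pK (coxK c4 c5 8)) = true := by decide +kernel
theorem CX_4_5_127 : allR 95250 750 (pK (coxK c4 c5 8)) = true := by decide +kernel
theorem CX_4_5_135 : allR 101250 750 (pK (coxK c4 c5 8)) = true := by decide +kernel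
theorem CX_4_5_143 : allR 107250 750 (pK (coxK c4 c5 8)) = true := by decide +kernel
theorem CX_4_5_151 : allR 113250 750 (pK (coxK c4 c5 8)) = true := by decide +kernel
theorem CX_4_5_159 : allR 119250 750 (pK (coxK c4 c5 8)) = true := by decide +kernel
theorem CX_4_6_4 : allR 12000 3000 (pK (coxK c4 c6 2)) = true := by decide +kernel
theorem CX_4_6_12 : allR 36000 3000 (pK (coxK c4 c6 2)) = true := by decide +kernel
theorem CX_4_6_20 : allR 60000 3000 (pK (coxK c4 c6 2)) = true := by decide +kernel
theorem CX_4_6_28 : allR 84000 3000 (pK (coxK c4 c6 2)) = true := by decide +kernel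
theorem CX_4_6_36 : allR 108000 3000 (pK (coxK c4 c6 2)) = true := by decide +kernel
theorem CX_4_7_4 : allR 12000 3000 (pK (coxK c4 c7 2)) = true := by decide +kernel
theorem CX_4_7_12 : allR 36000 3000 (pK (coxK c4 c7 2)) = true := by decide +kernel
theorem CX_4_7_20 : allR 60000 3000 (pK (coxK c4 c7 2)) = true := by decide +kernel
theorem CX_4_7_28 : allR 84000 3000 (pK (coxK c4 c7 2)) = true := by decide +kernel
theorem CX_4_7_36 : allR 108000 3000 (pK (coxK c4 c7 2)) = true := by decide +kernel
theorem CX_5_6_4 : allR 8000 2000 (pK (coxK c5 c6 3)) = true := by decide +kernel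
theorem CX_5_6_12 : allR 24000 2000 (pK (coxK c5 c6 3)) = true := by decide +kernel
theorem CX_5_6_20 : allR 40000 2000 (pK (coxK c5 c6 3)) = true := by decide +kernel
theorem CX_5_6_28 : allR 56000 2000 (pK (coxK c5 c6 3)) = true := by decide +kernel
theorem CX_5_6_36 : allR 72000 2000 (pK (coxK c5 c6 3)) = true := by decide +kernel
theorem CX_5_6_44 : allR 88000 2000 (pK (coxK c5 c6 3)) = true := by decide +kernel
theorem CX_5_6_52 : allR 104000 2000 (pK (coxK c5 c6 3)) = true := by decide +kernel
theorem CX_5_6_60 : allR 120000 2000 (pK (coxK c5 c6 3)) = true := by decide +kernel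
theorem CX_5_7_7 : allR 21000 3000 (pK (coxK c5 c7 2)) = true := by decide +kernel
theorem CX_5_7_15 : allR 45000 3000 (pK (coxK c5 c7 2)) = true := by decide +kernel
theorem CX_5_7_23 : allR 69000 3000 (pK (coxK c5 c7 2)) = true := by decide +kernel
theorem CX_5_7_31 : allR 93000 3000 (pK (coxK c5 c7 2)) = true := by decide +kernel
theorem CX_5_7_39 : allR 117000 3000 (pK (coxK c5 c7 2)) = true := by decide +kernel
theorem CX_6_7_7 : allR 14000 2000 (pK (coxK c6 c7 3)) = true := by decide +kernel
theorem CX_6_7_15 : allR 30000 2000 (pK (coxK c6 c7 3)) = true := by decide +kernel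
theorem CX_6_7_23 : allR 46000 2000 (pK (coxK c6 c7 3)) = true := by decide +kernel
theorem CX_6_7_31 : allR 62000 2000 (pK (coxK c6 c7 3)) = true := by decide +kernel
theorem CX_6_7_39 : allR 78000 2000 (pK (coxK c6 c7 3)) = true := by decide +kernel
theorem CX_6_7_47 : allR 94000 2000 (pK (coxK c6 c7 3)) = true := by decide +kernel
theorem CX_6_7_55 : allR 110000 2000 (pK (coxK c6 c7 3)) = true := by decide +kernel
theorem XS0_2 : allR 6000 3000 (pK kX0) = true := by decide +kernel
theorem XS0_10 : allR 30000 3000 (pK kX0) = true := by decide +kernel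
theorem XS0_18 : allR 54000 3000 (pK kX0) = true := by decide +kernel
theorem XS0_26 : allR 78000 3000 (pK kX0) = true := by decide +kernel
theorem XS0_34 : allR 102000 3000 (pK kX0) = true := by decide +kernel
theorem XS1_2 : allR 2400 1200 (pK kX1) = true := by decide +kernel
theorem XS1_10 : allR 12000 1200 (pK kX1) = true := by decide +kernel
theorem XS1_18 : allR 21600 1200 (pK kX1) = true := by decide +kernel
theorem XS1_26 : allR 31200 1200 (pK kX1) = true := by decide +kernel
theorem XS1_34 : allR 40800 1200 (pK kX1) = true := by decide +kernel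
theorem XS1_42 : allR 50400 1200 (pK kX1) = true := by decide +kernel
theorem XS1_50 : allR 60000 1200 (pK kX1) = true := by decide +kernel
theorem XS1_58 : allR 69600 1200 (pK kX1) = true := by decide +kernel
theorem XS1_66 : allR 79200 1200 (pK kX1) = true := by decide +kernel
theorem XS1_74 : allR 88800 1200 (pK kX1) = true := by decide +kernel
theorem XS1_82 : allR 98400 1200 (pK kX1) = true := by decide +kernel
theorem XS1_90 : allR 108000 1200 (pK kX1) = true := by decide +kernel
theorem XS1_98 : allR 117600 1200 (pK kX1) = true := by decide +kernel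
theorem XS2_4 : allR 4800 1200 (pK kX2) = true := by decide +kernel
theorem XS2_12 : allR 14400 1200 (pK kX2) = true := by decide +kernel
theorem XS2_20 : allR 24000 1200 (pK kX2) = true := by decide +kernel
theorem XS2_28 : allR 33600 1200 (pK kX2) = true := by decide +kernel
theorem XS2_36 : allR 43200 1200 (pK kX2) = true := by decide +kernel
theorem XS2_44 : allR 52800 1200 (pK kX2) = true := by decide +kernel
theorem XS2_52 : allR 62400 1200 (pK kX2) = true := by decide +kernel
theorem XS2_60 : allR 72000 1200 (pK kX2) = true := by decide +kernel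
theorem XS2_68 : allR 81600 1200 (pK kX2) = true := by decide +kernel
theorem XS2_76 : allR 91200 1200 (pK kX2) = true := by decide +kernel
theorem XS2_84 : allR 100800 1200 (pK kX2) = true := by decide +kernel
theorem XS2_92 : allR 110400 1200 (pK kX2) = true := by decide +kernel
theorem XS2_100 : allR 120000 1200 (pK kX2) = true := by decide +kernel
theorem XS3_6 : allR 7200 1200 (pK kX3) = true := by decide +kernel
theorem XS3_14 : allR 16800 1200 (pK kX3) = true := by decide +kernel
theorem XS3_22 : allR 26400 1200 (pK kX3) = true := by decide +kernel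
theorem XS3_30 : allR 36000 1200 (pK kX3) = true := by decide +kernel
theorem XS3_38 : allR 45600 1200 (pK kX3) = true := by decide +kernel
theorem XS3_46 : allR 55200 1200 (pK kX3) = true := by decide +kernel
theorem XS3_54 : allR 64800 1200 (pK kX3) = true := by decide +kernel
theorem XS3_62 : allR 74400 1200 (pK kX3) = true := by decide +kernel
theorem XS3_70 : allR 84000 1200 (pK kX3) = true := by decide +kernel
theorem XS3_78 : allR 93600 1200 (pK kX3) = true := by decide +kernel
theorem XS3_86 : allR 103200 1200 (pK kX3) = true := by decide +kernel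
theorem XS3_94 : allR 112800 1200 (pK kX3) = true := by decide +kernel
theorem XS4_0 : allR 0 600 (pK kX4) = true := by decide +kernel
theorem XS4_8 : allR 4800 600 (pK kX4) = true := by decide +kernel
theorem XS4_16 : allR 9600 600 (pK kX4) = true := by decide +kernel
theorem XS4_24 : allR 14400 600 (pK kX4) = true := by decide +kernel
theorem XS4_32 : allR 19200 600 (pK kX4) = true := by decide +kernel
theorem XS4_40 : allR 24000 600 (pK kX4) = true := by decide +kernel
theorem XS4_48 : allR 28800 600 (pK kX4) = true := by decide +kernel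
theorem XS4_56 : allR 33600 600 (pK kX4) = true := by decide +kernel
theorem XS4_64 : allR 38400 600 (pK kX4) = true := by decide +kernel
theorem XS4_72 : allR 43200 600 (pK kX4) = true := by decide +kernel
theorem XS4_80 : allR 48000 600 (pK kX4) = true := by decide +kernel
theorem XS4_88 : allR 52800 600 (pK kX4) = true := by decide +kernel
theorem XS4_96 : allR 57600 600 (pK kX4) = true := by decide +kernel
theorem XS4_104 : allR 62400 600 (pK kX4) = true := by decide +kernel
theorem XS4_112 : allR 67200 600 (pK kX4) = true := by decide +kernel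
theorem XS4_120 : allR 72000 600 (pK kX4) = true := by decide +kernel
theorem XS4_128 : allR 76800 600 (pK kX4) = true := by decide +kernel
theorem XS4_136 : allR 81600 600 (pK kX4) = true := by decide +kernel
theorem XS4_144 : allR 86400 600 (pK kX4) = true := by decide +kernel
theorem XS4_152 : allR 91200 600 (pK kX4) = true := by decide +kernel
theorem XS4_160 : allR 96000 600 (pK kX4) = true := by decide +kernel
theorem XS4_168 : allR 100800 600 (pK kX4) = true := by decide +kernel
theorem XS4_176 : allR 105600 600 (pK kX4) = true := by decide +kernel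
theorem XS4_184 : allR 110400 600 (pK kX4) = true := by decide +kernel
theorem XS4_192 : allR 115200 600 (pK kX4) = true := by decide +kernel
theorem XS4_200 : allR 120000 600 (pK kX4) = true := by decide +kernel
theorem XS5_7 : allR 7630 1090 (pK kX5) = true := by decide +kernel
theorem XS5_15 : allR 16350 1090 (pK kX5) = true := by decide +kernel
theorem XS5_23 : allR 25070 1090 (pK kX5) = true := by decide +kernel
theorem XS5_31 : allR 33790 1090 (pK kX5) = true := by decide +kernel
theorem XS5_39 : allR 42510 1090 (pK kX5) = true := by decide +kernel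
theorem XS5_47 : allR 51230 1090 (pK kX5) = true := by decide +kernel
theorem XS5_55 : allR 59950 1090 (pK kX5) = true := by decide +kernel
theorem XS5_63 : allR 68670 1090 (pK kX5) = true := by decide +kernel
theorem XS5_71 : allR 77390 1090 (pK kX5) = true := by decide +kernel
theorem XS5_79 : allR 86110 1090 (pK kX5) = true := by decide +kernel
theorem XS5_87 : allR 94830 1090 (pK kX5) = true := by decide +kernel
theorem XS5_95 : allR 103550 1090 (pK kX5) = true := by decide +kernel
theorem XS5_103 : allR 112270 1090 (pK kX5) = true := by decide +kernel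
theorem XS5_111 : allR 120990 1090 (pK kX5) = true := by decide +kernel
theorem XS6_7 : allR 7630 1090 (pK kX6) = true := by decide +kernel
theorem XS6_15 : allR 16350 1090 (pK kX6) = true := by decide +kernel
theorem XS6_23 : allR 25070 1090 (pK kX6) = true := by decide +kernel
theorem XS6_31 : allR 33790 1090 (pK kX6) = true := by decide +kernel
theorem XS6_39 : allR 42510 1090 (pK kX6) = true := by decide +kernel
theorem XS6_47 : allR 51230 1090 (pK kX6) = true := by decide +kernel
theorem XS6_55 : allR 59950 1090 (pK kX6) = true := by decide +kernel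
theorem XS6_63 : allR 68670 1090 (pK kX6) = true := by decide +kernel
theorem XS6_71 : allR 77390 1090 (pK kX6) = true := by decide +kernel
theorem XS6_79 : allR 86110 1090 (pK kX6) = true := by decide +kernel
theorem XS6_87 : allR 94830 1090 (pK kX6) = true := by decide +kernel
theorem XS6_95 : allR 103550 1090 (pK kX6) = true := by decide +kernel
theorem XS6_103 : allR 112270 1090 (pK kX6) = true := by decide +kernel
theorem XS6_111 : allR 120990 1090 (pK kX6) = true := by decide +kernel
theorem XS0_40 : allR 120000 2760 (pK kX0) = true := by decide +kernel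
theorem INV7_30 : allR 120000 2760 (pInvK c7 c7) = true := by decide +kernel
theorem CX_6_7_61 : allR 122000 760 (pK (coxK c6 c7 3)) = true := by decide +kernel

end Cfsg.Agent.Helper17.ONTC
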