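import Cfsg.Agent.Helper17.ONTC.PermDefs

set_option autoImplicit false
set_option linter.all false
set_option maxRecDepth 100000
set_option maxHeartbeats 0
set_option Elab.async false

namespace Cfsg.Agent.Helper17.ONTC

open Cfsg.Agent.Helper17.TCG
theorem INV0_2 : allR 8000 4000 (pInvK c0 c1) = true := by decide +kernel
theorem INV0_10 : allR 40000 4000 (pInvK c0 c1) = true := by decide +kernel
theorem INV0_18 : allR 72000 4000 (pInvK c0 c1) = true := by decide +kernel
theorem INV0_26 : allR 104000 4000 (pInvK c0 c1) = true := by decide +kernel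
theorem INV1_4 : allR 16000 4000 (pInvK c1 c0) = true := by decide +kernel
theorem INV1_12 : allR 48000 4000 (pInvK c1 c0) = true := by decide +kernel
theorem INV1_20 : allR 80000 4000 (pInvK c1 c0) = true := by decide +kernel
theorem INV1_28 : allR 112000 4000 (pInvK c1 c0) = true := by decide +kernel
theorem INV2_6 : allR 24000 4000 (pInvK c2 c2) = true := by decide +kernel
theorem INV2_14 : allR 56000 4000 (pInvK c2 c2) = true := by decide +kernel
theorem INV2_22 : allR 88000 4000 (pInvK c2 c2) = true := by decide +kernel
theorem INV3_0 : allR 0 4000 (pInvK c3 c3) = true := by decide +kernel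
theorem INV3_8 : allR 32000 4000 (pInvK c3 c3) = true := by decide +kernel
theorem INV3_16 : allR 64000 4000 (pInvK c3 c3) = true := by decide +kernel
theorem INV3_24 : allR 96000 4000 (pInvK c3 c3) = true := by decide +kernel
theorem INV4_2 : allR 8000 4000 (pInvK c4 c4) = true := by decide +kernel
theorem INV4_10 : allR 40000 4000 (pInvK c4 c4) = true := by decide +kernel
theorem INV4_18 : allR 72000 4000 (pInvK c4 c4) = true := by decide +kernel
theorem INV4_26 : allR 104000 4000 (pInvK c4 c4) = true := by decide +kernel
theorem INV5_4 : allR 16000 4000 (pInvK c5 c5) = true := by decide +kernel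
theorem INV5_12 : allR 48000 4000 (pInvK c5 c5) = true := by decide +kernel
theorem INV5_20 : allR 80000 4000 (pInvK c5 c5) = true := by decide +kernel
theorem INV5_28 : allR 112000 4000 (pInvK c5 c5) = true := by decide +kernel
theorem INV6_6 : allR 24000 4000 (pInvK c6 c6) = true := by decide +kernel
theorem INV6_14 : allR 56000 4000 (pInvK c6 c6) = true := by decide +kernel
theorem INV6_22 : allR 88000 4000 (pInvK c6 c6) = true := by decide +kernel
theorem INV7_0 : allR 0 4000 (pInvK c7 c7) = true := by decide +kernel
theorem INV7_8 : allR 32000 4000 (pInvK c7 c7) = true := by decide +kernel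
theorem INV7_16 : allR 64000 4000 (pInvK c7 c7) = true := by decide +kernel
theorem INV7_24 : allR 96000 4000 (pInvK c7 c7) = true := by decide +kernel
theorem CX_2_3_2 : allR 4000 2000 (pK (coxK c2 c3 3)) = true := by decide +kernel
theorem CX_2_3_10 : allR 20000 2000 (pK (coxK c2 c3 3)) = true := by decide +kernel
theorem CX_2_3_18 : allR 36000 2000 (pK (coxK c2 c3 3)) = true := by decide +kernel
theorem CX_2_3_26 : allR 52000 2000 (pK (coxK c2 c3 3)) = true := by decide +kernel
theorem CX_2_3_34 : allR 68000 2000 (pK (coxK c2 c3 3)) = true := by decide +kernel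
theorem CX_2_3_42 : allR 84000 2000 (pK (coxK c2 c3 3)) = true := by decide +kernel
theorem CX_2_3_50 : allR 100000 2000 (pK (coxK c2 c3 3)) = true := by decide +kernel
theorem CX_2_3_58 : allR 116000 2000 (pK (coxK c2 c3 3)) = true := by decide +kernel
theorem CX_2_4_5 : allR 15000 3000 (pK (coxK c2 c4 2)) = true := by decide +kernel
theorem CX_2_4_13 : allR 39000 3000 (pK (coxK c2 c4 2)) = true := by decide +kernel
theorem CX_2_4_21 : allR 63000 3000 (pK (coxK c2 c4 2)) = true := by decide +kernel
theorem CX_2_4_29 : allR 87000 3000 (pK (coxK c2 c4 2)) = true := by decide +kernel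
theorem CX_2_4_37 : allR 111000 3000 (pK (coxK c2 c4 2)) = true := by decide +kernel
theorem CX_2_5_5 : allR 15000 3000 (pK (coxK c2 c5 2)) = true := by decide +kernel
theorem CX_2_5_13 : allR 39000 3000 (pK (coxK c2 c5 2)) = true := by decide +kernel
theorem CX_2_5_21 : allR 63000 3000 (pK (coxK c2 c5 2)) = true := by decide +kernel
theorem CX_2_5_29 : allR 87000 3000 (pK (coxK c2 c5 2)) = true := by decide +kernel
theorem CX_2_5_37 : allR 111000 3000 (pK (coxK c2 c5 2)) = true := by decide +kernel
theorem CX_2_6_5 : allR 15000 3000 (pK (coxK c2 c6 2)) = true := by decide +kernel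
theorem CX_2_6_13 : allR 39000 3000 (pK (coxK c2 c6 2)) = true := by decide +kernel
theorem CX_2_6_21 : allR 63000 3000 (pK (coxK c2 c6 2)) = true := by decide +kernel
theorem CX_2_6_29 : allR 87000 3000 (pK (coxK c2 c6 2)) = true := by decide +kernel
theorem CX_2_6_37 : allR 111000 3000 (pK (coxK c2 c6 2)) = true := by decide +kernel
theorem CX_2_7_5 : allR 15000 3000 (pK (coxK c2 c7 2)) = true := by decide +kernel
theorem CX_2_7_13 : allR 39000 3000 (pK (coxK c2 c7 2)) = true := by decide +kernel
theorem CX_2_7_21 : allR 63000 3000 (pK (coxK c2 c7 2)) = true := by decide +kernel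
theorem CX_2_7_29 : allR 87000 3000 (pK (coxK c2 c7 2)) = true := by decide +kernel
theorem CX_2_7_37 : allR 111000 3000 (pK (coxK c2 c7 2)) = true := by decide +kernel
theorem CX_3_4_5 : allR 10000 2000 (pK (coxK c3 c4 3)) = true := by decide +kernel
theorem CX_3_4_13 : allR 26000 2000 (pK (coxK c3 c4 3)) = true := by decide +kernel
theorem CX_3_4_21 : allR 42000 2000 (pK (coxK c3 c4 3)) = true := by decide +kernel
theorem CX_3_4_29 : allR 58000 2000 (pK (coxK c3 c4 3)) = true := by decide +kernel
theorem CX_3_4_37 : allR 74000 2000 (pK (coxK c3 c4 3)) = true := by decide +kernel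
theorem CX_3_4_45 : allR 90000 2000 (pK (coxK c3 c4 3)) = true := by decide +kernel
theorem CX_3_4_53 : allR 106000 2000 (pK (coxK c3 c4 3)) = true := by decide +kernel
theorem CX_3_5_0 : allR 0 3000 (pK (coxK c3 c5 2)) = true := by decide +kernel
theorem CX_3_5_8 : allR 24000 3000 (pK (coxK c3 c5 2)) = true := by decide +kernel
theorem CX_3_5_16 : allR 48000 3000 (pK (coxK c3 c5 2)) = true := by decide +kernel
theorem CX_3_5_24 : allR 72000 3000 (pK (coxK c3 c5 2)) = true := by decide +kernel
theorem CX_3_5_32 : allR 96000 3000 (pK (coxK c3 c5 2)) = true := by decide +kernel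
theorem CX_3_6_0 : allR 0 3000 (pK (coxK c3 c6 2)) = true := by decide +kernel
theorem CX_3_6_8 : allR 24000 3000 (pK (coxK c3 c6 2)) = true := by decide +kernel
theorem CX_3_6_16 : allR 48000 3000 (pK (coxK c3 c6 2)) = true := by decide +kernel
theorem CX_3_6_24 : allR 72000 3000 (pK (coxK c3 c6 2)) = true := by decide +kernel
theorem CX_3_6_32 : allR 96000 3000 (pK (coxK c3 c6 2)) = true := by decide +kernel
theorem CX_3_7_0 : allR 0 3000 (pK (coxK c3 c7 2)) = true := by decide +kernel
theorem CX_3_7_8 : allR 24000 3000 (pK (coxK c3 c7 2)) = true := by decide +kernel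
theorem CX_3_7_16 : allR 48000 3000 (pK (coxK c3 c7 2)) = true := by decide +kernel
theorem CX_3_7_24 : allR 72000 3000 (pK (coxK c3 c7 2)) = true := by decide +kernel
theorem CX_3_7_32 : allR 96000 3000 (pK (coxK c3 c7 2)) = true := by decide +kernel
theorem CX_4_5_0 : allR 0 750 (pK (coxK c4 c5 8)) = true := by decide +kernel
theorem CX_4_5_8 : allR 6000 750 (pK (coxK c4 c5 8)) = true := by decide +kernel
theorem CX_4_5_16 : allR 12000 750 (pK (coxK c4 c5 8)) = true := by decide +kernel
theorem CX_4_5_24 : allR 18000 750 (pK (coxK c4 c5 8)) = true := by decide +kernel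
theorem CX_4_5_32 : allR 24000 750 (pK (coxK c4 c5 8)) = true := by decide +kernel
theorem CX_4_5_40 : allR 30000 750 (pK (coxK c4 c5 8)) = true := by decide +kernel
theorem CX_4_5_48 : allR 36000 750 (pK (coxK c4 c5 8)) = true := by decide +kernel
theorem CX_4_5_56 : allR 42000 750 (pK (coxK c4 c5 8)) = true := by decide +kernel
theorem CX_4_5_64 : allR 48000 750 (pK (coxK c4 c5 8)) = true := by decide +kernel
theorem CX_4_5_72 : allR 54000 750 (pK (coxK c4 c5 8)) = true := by decide +kernel
theorem CX_4_5_80 : allR 60000 750 (pK (coxK c4 c5 8)) = true := by decide +kernel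
theorem CX_4_5_88 : allR 66000 750 (pK (coxK c4 c5 8)) = true := by decide +kernel
theorem CX_4_5_96 : allR 72000 750 (pK (coxK c4 c5 8)) = true := by decide +kernel
theorem CX_4_5_104 : allR 78000 750 (pK (coxK c4 c5 8)) = true := by decide +kernel
theorem CX_4_5_112 : allR 84000 750 (pK (coxK c4 c5 8)) = true := by decide +kernel
theorem CX_4_5_120 : allR 90000 750 (pK (coxK c4 c5 8)) = true := by decide +kernel
theorem CX_4_5_128 : allR 96000 750 (pK (coxK c4 c5 8)) = true := by decide +kernel
theorem CX_4_5_136 : allR 102000 750 (pK (coxK c4 c5 8)) = true := by decide +kernel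
theorem CX_4_5_144 : allR 108000 750 (pK (coxK c4 c5 8)) = true := by decide +kernel
theorem CX_4_5_152 : allR 114000 750 (pK (coxK c4 c5 8)) = true := by decide +kernel
theorem CX_4_5_160 : allR 120000 750 (pK (coxK c4 c5 8)) = true := by decide +kernel
theorem CX_4_6_5 : allR 15000 3000 (pK (coxK c4 c6 2)) = true := by decide +kernel
theorem CX_4_6_13 : allR 39000 3000 (pK (coxK c4 c6 2)) = true := by decide +kernel
theorem CX_4_6_21 : allR 63000 3000 (pK (coxK c4 c6 2)) = true := by decide +kernel
theorem CX_4_6_29 : allR 87000 3000 (pK (coxK c4 c6 2)) = true := by decide +kernel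
theorem CX_4_6_37 : allR 111000 3000 (pK (coxK c4 c6 2)) = true := by decide +kernel
theorem CX_4_7_5 : allR 15000 3000 (pK (coxK c4 c7 2)) = true := by decide +kernel
theorem CX_4_7_13 : allR 39000 3000 (pK (coxK c4 c7 2)) = true := by decide +kernel
theorem CX_4_7_21 : allR 63000 3000 (pK (coxK c4 c7 2)) = true := by decide +kernel
theorem CX_4_7_29 : allR 87000 3000 (pK (coxK c4 c7 2)) = true := by decide +kernel
theorem CX_4_7_37 : allR 111000 3000 (pK (coxK c4 c7 2)) = true := by decide +kernel
theorem CX_5_6_5 : allR 10000 2000 (pK (coxK c5 c6 3)) = true := by decide +kernel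
theorem CX_5_6_13 : allR 26000 2000 (pK (coxK c5 c6 3)) = true := by decide +kernel
theorem CX_5_6_21 : allR 42000 2000 (pK (coxK c5 c6 3)) = true := by decide +kernel
theorem CX_5_6_29 : allR 58000 2000 (pK (coxK c5 c6 3)) = true := by decide +kernel
theorem CX_5_6_37 : allR 74000 2000 (pK (coxK c5 c6 3)) = true := by decide +kernel
theorem CX_5_6_45 : allR 90000 2000 (pK (coxK c5 c6 3)) = true := by decide +kernel
theorem CX_5_6_53 : allR 106000 2000 (pK (coxK c5 c6 3)) = true := by decide +kernel
theorem CX_5_7_0 : allR 0 3000 (pK (coxK c5 c7 2)) = true := by decide +kernel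
theorem CX_5_7_8 : allR 24000 3000 (pK (coxK c5 c7 2)) = true := by decide +kernel
theorem CX_5_7_16 : allR 48000 3000 (pK (coxK c5 c7 2)) = true := by decide +kernel
theorem CX_5_7_24 : allR 72000 3000 (pK (coxK c5 c7 2)) = true := by decide +kernel
theorem CX_5_7_32 : allR 96000 3000 (pK (coxK c5 c7 2)) = true := by decide +kernel
theorem CX_6_7_0 : allR 0 2000 (pK (coxK c6 c7 3)) = true := by decide +kernel
theorem CX_6_7_8 : allR 16000 2000 (pK (coxK c6 c7 3)) = true := by decide +kernel
theorem CX_6_7_16 : allR 32000 2000 (pK (coxK c6 c7 3)) = true := by decide +kernel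
theorem CX_6_7_24 : allR 48000 2000 (pK (coxK c6 c7 3)) = true := by decide +kernel
theorem CX_6_7_32 : allR 64000 2000 (pK (coxK c6 c7 3)) = true := by decide +kernel
theorem CX_6_7_40 : allR 80000 2000 (pK (coxK c6 c7 3)) = true := by decide +kernel
theorem CX_6_7_48 : allR 96000 2000 (pK (coxK c6 c7 3)) = true := by decide +kernel
theorem CX_6_7_56 : allR 112000 2000 (pK (coxK c6 c7 3)) = true := by decide +kernel
theorem XS0_3 : allR 9000 3000 (pK kX0) = true := by decide +kernel
theorem XS0_11 : allR 33000 3000 (pK kX0) = true := by decide +kernel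
theorem XS0_19 : allR 57000 3000 (pK kX0) = true := by decide +kernel
theorem XS0_27 : allR 81000 3000 (pK kX0) = true := by decide +kernel
theorem XS0_35 : allR 105000 3000 (pK kX0) = true := by decide +kernel
theorem XS1_3 : allR 3600 1200 (pK kX1) = true := by decide +kernel
theorem XS1_11 : allR 13200 1200 (pK kX1) = true := by decide +kernel
theorem XS1_19 : allR 22800 1200 (pK kX1) = true := by decide +kernel
theorem XS1_27 : allR 32400 1200 (pK kX1) = true := by decide +kernel
theorem XS1_35 : allR 42000 1200 (pK kX1) = true := by decide +kernel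
theorem XS1_43 : allR 51600 1200 (pK kX1) = true := by decide +kernel
theorem XS1_51 : allR 61200 1200 (pK kX1) = true := by decide +kernel
theorem XS1_59 : allR 70800 1200 (pK kX1) = true := by decide +kernel
theorem XS1_67 : allR 80400 1200 (pK kX1) = true := by decide +kernel
theorem XS1_75 : allR 90000 1200 (pK kX1) = true := by decide +kernel
theorem XS1_83 : allR 99600 1200 (pK kX1) = true := by decide +kernel
theorem XS1_91 : allR 109200 1200 (pK kX1) = true := by decide +kernel
theorem XS1_99 : allR 118800 1200 (pK kX1) = true := by decide +kernel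
theorem XS2_5 : allR 6000 1200 (pK kX2) = true := by decide +kernel
theorem XS2_13 : allR 15600 1200 (pK kX2) = true := by decide +kernel
theorem XS2_21 : allR 25200 1200 (pK kX2) = true := by decide +kernel
theorem XS2_29 : allR 34800 1200 (pK kX2) = true := by decide +kernel
theorem XS2_37 : allR 44400 1200 (pK kX2) = true := by decide +kernel
theorem XS2_45 : allR 54000 1200 (pK kX2) = true := by decide +kernel
theorem XS2_53 : allR 63600 1200 (pK kX2) = true := by decide +kernel
theorem XS2_61 : allR 73200 1200 (pK kX2) = true := by decide +kernel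
theorem XS2_69 : allR 82800 1200 (pK kX2) = true := by decide +kernel
theorem XS2_77 : allR 92400 1200 (pK kX2) = true := by decide +kernel
theorem XS2_85 : allR 102000 1200 (pK kX2) = true := by decide +kernel
theorem XS2_93 : allR 111600 1200 (pK kX2) = true := by decide +kernel
theorem XS2_101 : allR 121200 1200 (pK kX2) = true := by decide +kernel
theorem XS3_7 : allR 8400 1200 (pK kX3) = true := by decide +kernel
theorem XS3_15 : allR 18000 1200 (pK kX3) = true := by decide +kernel
theorem XS3_23 : allR 27600 1200 (pK kX3) = true := by decide +kernel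
theorem XS3_31 : allR 37200 1200 (pK kX3) = true := by decide +kernel
theorem XS3_39 : allR 46800 1200 (pK kX3) = true := by decide +kernel
theorem XS3_47 : allR 56400 1200 (pK kX3) = true := by decide +kernel
theorem XS3_55 : allR 66000 1200 (pK kX3) = true := by decide +kernel
theorem XS3_63 : allR 75600 1200 (pK kX3) = true := by decide +kernel
theorem XS3_71 : allR 85200 1200 (pK kX3) = true := by decide +kernel
theorem XS3_79 : allR 94800 1200 (pK kX3) = true := by decide +kernel
theorem XS3_87 : allR 104400 1200 (pK kX3) = true := by decide +kernel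
theorem XS3_95 : allR 114000 1200 (pK kX3) = true := by decide +kernel
theorem XS4_1 : allR 600 600 (pK kX4) = true := by decide +kernel
theorem XS4_9 : allR 5400 600 (pK kX4) = true := by decide +kernel
theorem XS4_17 : allR 10200 600 (pK kX4) = true := by decide +kernel
theorem XS4_25 : allR 15000 600 (pK kX4) = true := by decide +kernel
theorem XS4_33 : allR 19800 600 (pK kX4) = true := by decide +kernel
theorem XS4_41 : allR 24600 600 (pK kX4) = true := by decide +kernel
theorem XS4_49 : allR 29400 600 (pK kX4) = true := by decide +kernel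
theorem XS4_57 : allR 34200 600 (pK kX4) = true := by decide +kernel
theorem XS4_65 : allR 39000 600 (pK kX4) = true := by decide +kernel
theorem XS4_73 : allR 43800 600 (pK kX4) = true := by decide +kernel
theorem XS4_81 : allR 48600 600 (pK kX4) = true := by decide +kernel
theorem XS4_89 : allR 53400 600 (pK kX4) = true := by decide +kernel
theorem XS4_97 : allR 58200 600 (pK kX4) = true := by decide +kernel
theorem XS4_105 : allR 63000 600 (pK kX4) = true := by decide +kernel
theorem XS4_113 : allR 67800 600 (pK kX4) = true := by decide +kernel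
theorem XS4_121 : allR 72600 600 (pK kX4) = true := by decide +kernel
theorem XS4_129 : allR 77400 600 (pK kX4) = true := by decide +kernel
theorem XS4_137 : allR 82200 600 (pK kX4) = true := by decide +kernel
theorem XS4_145 : allR 87000 600 (pK kX4) = true := by decide +kernel
theorem XS4_153 : allR 91800 600 (pK kX4) = true := by decide +kernel
theorem XS4_161 : allR 96600 600 (pK kX4) = true := by decide +kernel
theorem XS4_169 : allR 101400 600 (pK kX4) = true := by decide +kernel
theorem XS4_177 : allR 106200 600 (pK kX4) = true := by decide +kernel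
theorem XS4_185 : allR 111000 600 (pK kX4) = true := by decide +kernel
theorem XS4_193 : allR 115800 600 (pK kX4) = true := by decide +kernel
theorem XS4_201 : allR 120600 600 (pK kX4) = true := by decide +kernel
theorem XS5_8 : allR 8720 1090 (pK kX5) = true := by decide +kernel
theorem XS5_16 : allR 17440 1090 (pK kX5) = true := by decide +kernel
theorem XS5_24 : allR 26160 1090 (pK kX5) = true := by decide +kernel
theorem XS5_32 : allR 34880 1090 (pK kX5) = true := by decide +kernel
theorem XS5_40 : allR 43600 1090 (pK kX5) = true := by decide +kernel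
theorem XS5_48 : allR 52320 1090 (pK kX5) = true := by decide +kernel
theorem XS5_56 : allR 61040 1090 (pK kX5) = true := by decide +kernel
theorem XS5_64 : allR 69760 1090 (pK kX5) = true := by decide +kernel
theorem XS5_72 : allR 78480 1090 (pK kX5) = true := by decide +kernel
theorem XS5_80 : allR 87200 1090 (pK kX5) = true := by decide +kernel
theorem XS5_88 : allR 95920 1090 (pK kX5) = true := by decide +kernel
theorem XS5_96 : allR 104640 1090 (pK kX5) = true := by decide +kernel
theorem XS5_104 : allR 113360 1090 (pK kX5) = true := by decide +kernel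
theorem XS6_0 : allR 0 1090 (pK kX6) = true := by decide +kernel
theorem XS6_8 : allR 8720 1090 (pK kX6) = true := by decide +kernel
theorem XS6_16 : allR 17440 1090 (pK kX6) = true := by decide +kernel
theorem XS6_24 : allR 26160 1090 (pK kX6) = true := by decide +kernel
theorem XS6_32 : allR 34880 1090 (pK kX6) = true := by decide +kernel
theorem XS6_40 : allR 43600 1090 (pK kX6) = true := by decide +kernel
theorem XS6_48 : allR 52320 1090 (pK kX6) = true := by decide +kernel
theorem XS6_56 : allR 61040 1090 (pK kX6) = true := by decide +kernel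
theorem XS6_64 : allR 69760 1090 (pK kX6) = true := by decide +kernel
theorem XS6_72 : allR 78480 1090 (pK kX6) = true := by decide +kernel
theorem XS6_80 : allR 87200 1090 (pK kX6) = true := by decide +kernel
theorem XS6_88 : allR 95920 1090 (pK kX6) = true := by decide +kernel
theorem XS6_96 : allR 104640 1090 (pK kX6) = true := by decide +kernel
theorem XS6_104 : allR 113360 1090 (pK kX6) = true := by decide +kernel
theorem CX_2_4_40 : allR 120000 2760 (pK (coxK c2 c4 2)) = true := by decide +kernel
theorem CX_2_7_40 : allR 120000 2760 (pK (coxK c2 c7 2)) = true := by decide +kernel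
theorem INV0_30 : allR 120000 2760 (pInvK c0 c1) = true := by decide +kernel
theorem CX_4_5_163 : allR 122250 510 (pK (coxK c4 c5 8)) = true := by decide +kernel

end Cfsg.Agent.Helper17.ONTC
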