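import Cfsg.Agent.Helper17.ONTC.PermDefs

set_option autoImplicit false
set_option linter.all false
set_option maxRecDepth 100000
set_option maxHeartbeats 0
set_option Elab.async false

namespace Cfsg.Agent.Helper17.ONTC

open Cfsg.Agent.Helper17.TCG
theorem INV0_3 : allR 12000 4000 (pInvK c0 c1) = true := by decide +kernel
theorem INV0_11 : allR 44000 4000 (pInvK c0 c1) = true := by decide +kernel
theorem INV0_19 : allR 76000 4000 (pInvK c0 c1) = true := by decide +kernel
theorem INV0_27 : allR 108000 4000 (pInvK c0 c1) = true := by decide +kernel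
theorem INV1_5 : allR 20000 4000 (pInvK c1 c0) = true := by decide +kernel
theorem INV1_13 : allR 52000 4000 (pInvK c1 c0) = true := by decide +kernel
theorem INV1_21 : allR 84000 4000 (pInvK c1 c0) = true := by decide +kernel
theorem INV1_29 : allR 116000 4000 (pInvK c1 c0) = true := by decide +kernel
theorem INV2_7 : allR 28000 4000 (pInvK c2 c2) = true := by decide +kernel
theorem INV2_15 : allR 60000 4000 (pInvK c2 c2) = true := by decide +kernel
theorem INV2_23 : allR 92000 4000 (pInvK c2 c2) = true := by decide +kernel
theorem INV3_1 : allR 4000 4000 (pInvK c3 c3) = true := by decide +kernel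
theorem INV3_9 : allR 36000 4000 (pInvK c3 c3) = true := by decide +kernel
theorem INV3_17 : allR 68000 4000 (pInvK c3 c3) = true := by decide +kernel
theorem INV3_25 : allR 100000 4000 (pInvK c3 c3) = true := by decide +kernel
theorem INV4_3 : allR 12000 4000 (pInvK c4 c4) = true := by decide +kernel
theorem INV4_11 : allR 44000 4000 (pInvK c4 c4) = true := by decide +kernel
theorem INV4_19 : allR 76000 4000 (pInvK c4 c4) = true := by decide +kernel
theorem INV4_27 : allR 108000 4000 (pInvK c4 c4) = true := by decide +kernel
theorem INV5_5 : allR 20000 4000 (pInvK c5 c5) = true := by decide +kernel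
theorem INV5_13 : allR 52000 4000 (pInvK c5 c5) = true := by decide +kernel
theorem INV5_21 : allR 84000 4000 (pInvK c5 c5) = true := by decide +kernel
theorem INV5_29 : allR 116000 4000 (pInvK c5 c5) = true := by decide +kernel
theorem INV6_7 : allR 28000 4000 (pInvK c6 c6) = true := by decide +kernel
theorem INV6_15 : allR 60000 4000 (pInvK c6 c6) = true := by decide +kernel
theorem INV6_23 : allR 92000 4000 (pInvK c6 c6) = true := by decide +kernel
theorem INV7_1 : allR 4000 4000 (pInvK c7 c7) = true := by decide +kernel
theorem INV7_9 : allR 36000 4000 (pInvK c7 c7) = true := by decide +kernel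
theorem INV7_17 : allR 68000 4000 (pInvK c7 c7) = true := by decide +kernel
theorem INV7_25 : allR 100000 4000 (pInvK c7 c7) = true := by decide +kernel
theorem CX_2_3_3 : allR 6000 2000 (pK (coxK c2 c3 3)) = true := by decide +kernel
theorem CX_2_3_11 : allR 22000 2000 (pK (coxK c2 c3 3)) = true := by decide +kernel
theorem CX_2_3_19 : allR 38000 2000 (pK (coxK c2 c3 3)) = true := by decide +kernel
theorem CX_2_3_27 : allR 54000 2000 (pK (coxK c2 c3 3)) = true := by decide +kernel
theorem CX_2_3_35 : allR 70000 2000 (pK (coxK c2 c3 3)) = true := by decide +kernel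
theorem CX_2_3_43 : allR 86000 2000 (pK (coxK c2 c3 3)) = true := by decide +kernel
theorem CX_2_3_51 : allR 102000 2000 (pK (coxK c2 c3 3)) = true := by decide +kernel
theorem CX_2_3_59 : allR 118000 2000 (pK (coxK c2 c3 3)) = true := by decide +kernel
theorem CX_2_4_6 : allR 18000 3000 (pK (coxK c2 c4 2)) = true := by decide +kernel
theorem CX_2_4_14 : allR 42000 3000 (pK (coxK c2 c4 2)) = true := by decide +kernel
theorem CX_2_4_22 : allR 66000 3000 (pK (coxK c2 c4 2)) = true := by decide +kernel
theorem CX_2_4_30 : allR 90000 3000 (pK (coxK c2 c4 2)) = true := by decide +kernel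
theorem CX_2_4_38 : allR 114000 3000 (pK (coxK c2 c4 2)) = true := by decide +kernel
theorem CX_2_5_6 : allR 18000 3000 (pK (coxK c2 c5 2)) = true := by decide +kernel
theorem CX_2_5_14 : allR 42000 3000 (pK (coxK c2 c5 2)) = true := by decide +kernel
theorem CX_2_5_22 : allR 66000 3000 (pK (coxK c2 c5 2)) = true := by decide +kernel
theorem CX_2_5_30 : allR 90000 3000 (pK (coxK c2 c5 2)) = true := by decide +kernel
theorem CX_2_5_38 : allR 114000 3000 (pK (coxK c2 c5 2)) = true := by decide +kernel
theorem CX_2_6_6 : allR 18000 3000 (pK (coxK c2 c6 2)) = true := by decide +kernel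
theorem CX_2_6_14 : allR 42000 3000 (pK (coxK c2 c6 2)) = true := by decide +kernel
theorem CX_2_6_22 : allR 66000 3000 (pK (coxK c2 c6 2)) = true := by decide +kernel
theorem CX_2_6_30 : allR 90000 3000 (pK (coxK c2 c6 2)) = true := by decide +kernel
theorem CX_2_6_38 : allR 114000 3000 (pK (coxK c2 c6 2)) = true := by decide +kernel
theorem CX_2_7_6 : allR 18000 3000 (pK (coxK c2 c7 2)) = true := by decide +kernel
theorem CX_2_7_14 : allR 42000 3000 (pK (coxK c2 c7 2)) = true := by decide +kernel
theorem CX_2_7_22 : allR 66000 3000 (pK (coxK c2 c7 2)) = true := by decide +kernel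
theorem CX_2_7_30 : allR 90000 3000 (pK (coxK c2 c7 2)) = true := by decide +kernel
theorem CX_2_7_38 : allR 114000 3000 (pK (coxK c2 c7 2)) = true := by decide +kernel
theorem CX_3_4_6 : allR 12000 2000 (pK (coxK c3 c4 3)) = true := by decide +kernel
theorem CX_3_4_14 : allR 28000 2000 (pK (coxK c3 c4 3)) = true := by decide +kernel
theorem CX_3_4_22 : allR 44000 2000 (pK (coxK c3 c4 3)) = true := by decide +kernel
theorem CX_3_4_30 : allR 60000 2000 (pK (coxK c3 c4 3)) = true := by decide +kernel
theorem CX_3_4_38 : allR 76000 2000 (pK (coxK c3 c4 3)) = true := by decide +kernel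
theorem CX_3_4_46 : allR 92000 2000 (pK (coxK c3 c4 3)) = true := by decide +kernel
theorem CX_3_4_54 : allR 108000 2000 (pK (coxK c3 c4 3)) = true := by decide +kernel
theorem CX_3_5_1 : allR 3000 3000 (pK (coxK c3 c5 2)) = true := by decide +kernel
theorem CX_3_5_9 : allR 27000 3000 (pK (coxK c3 c5 2)) = true := by decide +kernel
theorem CX_3_5_17 : allR 51000 3000 (pK (coxK c3 c5 2)) = true := by decide +kernel
theorem CX_3_5_25 : allR 75000 3000 (pK (coxK c3 c5 2)) = true := by decide +kernel
theorem CX_3_5_33 : allR 99000 3000 (pK (coxK c3 c5 2)) = true := by decide +kernel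
theorem CX_3_6_1 : allR 3000 3000 (pK (coxK c3 c6 2)) = true := by decide +kernel
theorem CX_3_6_9 : allR 27000 3000 (pK (coxK c3 c6 2)) = true := by decide +kernel
theorem CX_3_6_17 : allR 51000 3000 (pK (coxK c3 c6 2)) = true := by decide +kernel
theorem CX_3_6_25 : allR 75000 3000 (pK (coxK c3 c6 2)) = true := by decide +kernel
theorem CX_3_6_33 : allR 99000 3000 (pK (coxK c3 c6 2)) = true := by decide +kernel
theorem CX_3_7_1 : allR 3000 3000 (pK (coxK c3 c7 2)) = true := by decide +kernel
theorem CX_3_7_9 : allR 27000 3000 (pK (coxK c3 c7 2)) = true := by decide +kernel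
theorem CX_3_7_17 : allR 51000 3000 (pK (coxK c3 c7 2)) = true := by decide +kernel
theorem CX_3_7_25 : allR 75000 3000 (pK (coxK c3 c7 2)) = true := by decide +kernel
theorem CX_3_7_33 : allR 99000 3000 (pK (coxK c3 c7 2)) = true := by decide +kernel
theorem CX_4_5_1 : allR 750 750 (pK (coxK c4 c5 8)) = true := by decide +kernel
theorem CX_4_5_9 : allR 6750 750 (pK (coxK c4 c5 8)) = true := by decide +kernel
theorem CX_4_5_17 : allR 12750 750 (pK (coxK c4 c5 8)) = true := by decide +kernel
theorem CX_4_5_25 : allR 18750 750 (pK (coxK c4 c5 8)) = true := by decide +kernel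
theorem CX_4_5_33 : allR 24750 750 (pK (coxK c4 c5 8)) = true := by decide +kernel
theorem CX_4_5_41 : allR 30750 750 (pK (coxK c4 c5 8)) = true := by decide +kernel
theorem CX_4_5_49 : allR 36750 750 (pK (coxK c4 c5 8)) = true := by decide +kernel
theorem CX_4_5_57 : allR 42750 750 (pK (coxK c4 c5 8)) = true := by decide +kernel
theorem CX_4_5_65 : allR 48750 750 (pK (coxK c4 c5 8)) = true := by decide +kernel
theorem CX_4_5_73 : allR 54750 750 (pK (coxK c4 c5 8)) = true := by decide +kernel
theorem CX_4_5_81 : allR 60750 750 (pK (coxK c4 c5 8)) = true := by decide +kernel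
theorem CX_4_5_89 : allR 66750 750 (pK (coxK c4 c5 8)) = true := by decide +kernel
theorem CX_4_5_97 : allR 72750 750 (pK (coxK c4 c5 8)) = true := by decide +kernel
theorem CX_4_5_105 : allR 78750 750 (pK (coxK c4 c5 8)) = true := by decide +kernel
theorem CX_4_5_113 : allR 84750 750 (pK (coxK c4 c5 8)) = true := by decide +kernel
theorem CX_4_5_121 : allR 90750 750 (pK (coxK c4 c5 8)) = true := by decide +kernel
theorem CX_4_5_129 : allR 96750 750 (pK (coxK c4 c5 8)) = true := by decide +kernel
theorem CX_4_5_137 : allR 102750 750 (pK (coxK c4 c5 8)) = true := by decide +kernel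
theorem CX_4_5_145 : allR 108750 750 (pK (coxK c4 c5 8)) = true := by decide +kernel
theorem CX_4_5_153 : allR 114750 750 (pK (coxK c4 c5 8)) = true := by decide +kernel
theorem CX_4_5_161 : allR 120750 750 (pK (coxK c4 c5 8)) = true := by decide +kernel
theorem CX_4_6_6 : allR 18000 3000 (pK (coxK c4 c6 2)) = true := by decide +kernel
theorem CX_4_6_14 : allR 42000 3000 (pK (coxK c4 c6 2)) = true := by decide +kernel
theorem CX_4_6_22 : allR 66000 3000 (pK (coxK c4 c6 2)) = true := by decide +kernel
theorem CX_4_6_30 : allR 90000 3000 (pK (coxK c4 c6 2)) = true := by decide +kernel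
theorem CX_4_6_38 : allR 114000 3000 (pK (coxK c4 c6 2)) = true := by decide +kernel
theorem CX_4_7_6 : allR 18000 3000 (pK (coxK c4 c7 2)) = true := by decide +kernel
theorem CX_4_7_14 : allR 42000 3000 (pK (coxK c4 c7 2)) = true := by decide +kernel
theorem CX_4_7_22 : allR 66000 3000 (pK (coxK c4 c7 2)) = true := by decide +kernel
theorem CX_4_7_30 : allR 90000 3000 (pK (coxK c4 c7 2)) = true := by decide +kernel
theorem CX_4_7_38 : allR 114000 3000 (pK (coxK c4 c7 2)) = true := by decide +kernel
theorem CX_5_6_6 : allR 12000 2000 (pK (coxK c5 c6 3)) = true := by decide +kernel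
theorem CX_5_6_14 : allR 28000 2000 (pK (coxK c5 c6 3)) = true := by decide +kernel
theorem CX_5_6_22 : allR 44000 2000 (pK (coxK c5 c6 3)) = true := by decide +kernel
theorem CX_5_6_30 : allR 60000 2000 (pK (coxK c5 c6 3)) = true := by decide +kernel
theorem CX_5_6_38 : allR 76000 2000 (pK (coxK c5 c6 3)) = true := by decide +kernel
theorem CX_5_6_46 : allR 92000 2000 (pK (coxK c5 c6 3)) = true := by decide +kernel
theorem CX_5_6_54 : allR 108000 2000 (pK (coxK c5 c6 3)) = true := by decide +kernel
theorem CX_5_7_1 : allR 3000 3000 (pK (coxK c5 c7 2)) = true := by decide +kernel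
theorem CX_5_7_9 : allR 27000 3000 (pK (coxK c5 c7 2)) = true := by decide +kernel
theorem CX_5_7_17 : allR 51000 3000 (pK (coxK c5 c7 2)) = true := by decide +kernel
theorem CX_5_7_25 : allR 75000 3000 (pK (coxK c5 c7 2)) = true := by decide +kernel
theorem CX_5_7_33 : allR 99000 3000 (pK (coxK c5 c7 2)) = true := by decide +kernel
theorem CX_6_7_1 : allR 2000 2000 (pK (coxK c6 c7 3)) = true := by decide +kernel
theorem CX_6_7_9 : allR 18000 2000 (pK (coxK c6 c7 3)) = true := by decide +kernel
theorem CX_6_7_17 : allR 34000 2000 (pK (coxK c6 c7 3)) = true := by decide +kernel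
theorem CX_6_7_25 : allR 50000 2000 (pK (coxK c6 c7 3)) = true := by decide +kernel
theorem CX_6_7_33 : allR 66000 2000 (pK (coxK c6 c7 3)) = true := by decide +kernel
theorem CX_6_7_41 : allR 82000 2000 (pK (coxK c6 c7 3)) = true := by decide +kernel
theorem CX_6_7_49 : allR 98000 2000 (pK (coxK c6 c7 3)) = true := by decide +kernel
theorem CX_6_7_57 : allR 114000 2000 (pK (coxK c6 c7 3)) = true := by decide +kernel
theorem XS0_4 : allR 12000 3000 (pK kX0) = true := by decide +kernel
theorem XS0_12 : allR 36000 3000 (pK kX0) = true := by decide +kernel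
theorem XS0_20 : allR 60000 3000 (pK kX0) = true := by decide +kernel
theorem XS0_28 : allR 84000 3000 (pK kX0) = true := by decide +kernel
theorem XS0_36 : allR 108000 3000 (pK kX0) = true := by decide +kernel
theorem XS1_4 : allR 4800 1200 (pK kX1) = true := by decide +kernel
theorem XS1_12 : allR 14400 1200 (pK kX1) = true := by decide +kernel
theorem XS1_20 : allR 24000 1200 (pK kX1) = true := by decide +kernel
theorem XS1_28 : allR 33600 1200 (pK kX1) = true := by decide +kernel
theorem XS1_36 : allR 43200 1200 (pK kX1) = true := by decide +kernel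
theorem XS1_44 : allR 52800 1200 (pK kX1) = true := by decide +kernel
theorem XS1_52 : allR 62400 1200 (pK kX1) = true := by decide +kernel
theorem XS1_60 : allR 72000 1200 (pK kX1) = true := by decide +kernel
theorem XS1_68 : allR 81600 1200 (pK kX1) = true := by decide +kernel
theorem XS1_76 : allR 91200 1200 (pK kX1) = true := by decide +kernel
theorem XS1_84 : allR 100800 1200 (pK kX1) = true := by decide +kernel
theorem XS1_92 : allR 110400 1200 (pK kX1) = true := by decide +kernel
theorem XS1_100 : allR 120000 1200 (pK kX1) = true := by decide +kernel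
theorem XS2_6 : allR 7200 1200 (pK kX2) = true := by decide +kernel
theorem XS2_14 : allR 16800 1200 (pK kX2) = true := by decide +kernel
theorem XS2_22 : allR 26400 1200 (pK kX2) = true := by decide +kernel
theorem XS2_30 : allR 36000 1200 (pK kX2) = true := by decide +kernel
theorem XS2_38 : allR 45600 1200 (pK kX2) = true := by decide +kernel
theorem XS2_46 : allR 55200 1200 (pK kX2) = true := by decide +kernel
theorem XS2_54 : allR 64800 1200 (pK kX2) = true := by decide +kernel
theorem XS2_62 : allR 74400 1200 (pK kX2) = true := by decide +kernel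
theorem XS2_70 : allR 84000 1200 (pK kX2) = true := by decide +kernel
theorem XS2_78 : allR 93600 1200 (pK kX2) = true := by decide +kernel
theorem XS2_86 : allR 103200 1200 (pK kX2) = true := by decide +kernel
theorem XS2_94 : allR 112800 1200 (pK kX2) = true := by decide +kernel
theorem XS3_0 : allR 0 1200 (pK kX3) = true := by decide +kernel
theorem XS3_8 : allR 9600 1200 (pK kX3) = true := by decide +kernel
theorem XS3_16 : allR 19200 1200 (pK kX3) = true := by decide +kernel
theorem XS3_24 : allR 28800 1200 (pK kX3) = true := by decide +kernel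
theorem XS3_32 : allR 38400 1200 (pK kX3) = true := by decide +kernel
theorem XS3_40 : allR 48000 1200 (pK kX3) = true := by decide +kernel
theorem XS3_48 : allR 57600 1200 (pK kX3) = true := by decide +kernel
theorem XS3_56 : allR 67200 1200 (pK kX3) = true := by decide +kernel
theorem XS3_64 : allR 76800 1200 (pK kX3) = true := by decide +kernel
theorem XS3_72 : allR 86400 1200 (pK kX3) = true := by decide +kernel
theorem XS3_80 : allR 96000 1200 (pK kX3) = true := by decide +kernel
theorem XS3_88 : allR 105600 1200 (pK kX3) = true := by decide +kernel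
theorem XS3_96 : allR 115200 1200 (pK kX3) = true := by decide +kernel
theorem XS4_2 : allR 1200 600 (pK kX4) = true := by decide +kernel
theorem XS4_10 : allR 6000 600 (pK kX4) = true := by decide +kernel
theorem XS4_18 : allR 10800 600 (pK kX4) = true := by decide +kernel
theorem XS4_26 : allR 15600 600 (pK kX4) = true := by decide +kernel
theorem XS4_34 : allR 20400 600 (pK kX4) = true := by decide +kernel
theorem XS4_42 : allR 25200 600 (pK kX4) = true := by decide +kernel
theorem XS4_50 : allR 30000 600 (pK kX4) = true := by decide +kernel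
theorem XS4_58 : allR 34800 600 (pK kX4) = true := by decide +kernel
theorem XS4_66 : allR 39600 600 (pK kX4) = true := by decide +kernel
theorem XS4_74 : allR 44400 600 (pK kX4) = true := by decide +kernel
theorem XS4_82 : allR 49200 600 (pK kX4) = true := by decide +kernel
theorem XS4_90 : allR 54000 600 (pK kX4) = true := by decide +kernel
theorem XS4_98 : allR 58800 600 (pK kX4) = true := by decide +kernel
theorem XS4_106 : allR 63600 600 (pK kX4) = true := by decide +kernel
theorem XS4_114 : allR 68400 600 (pK kX4) = true := by decide +kernel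
theorem XS4_122 : allR 73200 600 (pK kX4) = true := by decide +kernel
theorem XS4_130 : allR 78000 600 (pK kX4) = true := by decide +kernel
theorem XS4_138 : allR 82800 600 (pK kX4) = true := by decide +kernel
theorem XS4_146 : allR 87600 600 (pK kX4) = true := by decide +kernel
theorem XS4_154 : allR 92400 600 (pK kX4) = true := by decide +kernel
theorem XS4_162 : allR 97200 600 (pK kX4) = true := by decide +kernel
theorem XS4_170 : allR 102000 600 (pK kX4) = true := by decide +kernel
theorem XS4_178 : allR 106800 600 (pK kX4) = true := by decide +kernel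
theorem XS4_186 : allR 111600 600 (pK kX4) = true := by decide +kernel
theorem XS4_194 : allR 116400 600 (pK kX4) = true := by decide +kernel
theorem XS4_202 : allR 121200 600 (pK kX4) = true := by decide +kernel
theorem XS5_9 : allR 9810 1090 (pK kX5) = true := by decide +kernel
theorem XS5_17 : allR 18530 1090 (pK kX5) = true := by decide +kernel
theorem XS5_25 : allR 27250 1090 (pK kX5) = true := by decide +kernel
theorem XS5_33 : allR 35970 1090 (pK kX5) = true := by decide +kernel
theorem XS5_41 : allR 44690 1090 (pK kX5) = true := by decide +kernel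
theorem XS5_49 : allR 53410 1090 (pK kX5) = true := by decide +kernel
theorem XS5_57 : allR 62130 1090 (pK kX5) = true := by decide +kernel
theorem XS5_65 : allR 70850 1090 (pK kX5) = true := by decide +kernel
theorem XS5_73 : allR 79570 1090 (pK kX5) = true := by decide +kernel
theorem XS5_81 : allR 88290 1090 (pK kX5) = true := by decide +kernel
theorem XS5_89 : allR 97010 1090 (pK kX5) = true := by decide +kernel
theorem XS5_97 : allR 105730 1090 (pK kX5) = true := by decide +kernel
theorem XS5_105 : allR 114450 1090 (pK kX5) = true := by decide +kernel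
theorem XS6_1 : allR 1090 1090 (pK kX6) = true := by decide +kernel
theorem XS6_9 : allR 9810 1090 (pK kX6) = true := by decide +kernel
theorem XS6_17 : allR 18530 1090 (pK kX6) = true := by decide +kernel
theorem XS6_25 : allR 27250 1090 (pK kX6) = true := by decide +kernel
theorem XS6_33 : allR 35970 1090 (pK kX6) = true := by decide +kernel
theorem XS6_41 : allR 44690 1090 (pK kX6) = true := by decide +kernel
theorem XS6_49 : allR 53410 1090 (pK kX6) = true := by decide +kernel
theorem XS6_57 : allR 62130 1090 (pK kX6) = true := by decide +kernel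
theorem XS6_65 : allR 70850 1090 (pK kX6) = true := by decide +kernel
theorem XS6_73 : allR 79570 1090 (pK kX6) = true := by decide +kernel
theorem XS6_81 : allR 88290 1090 (pK kX6) = true := by decide +kernel
theorem XS6_89 : allR 97010 1090 (pK kX6) = true := by decide +kernel
theorem XS6_97 : allR 105730 1090 (pK kX6) = true := by decide +kernel
theorem XS6_105 : allR 114450 1090 (pK kX6) = true := by decide +kernel
theorem CX_2_5_40 : allR 120000 2760 (pK (coxK c2 c5 2)) = true := by decide +kernel
theorem CX_3_5_40 : allR 120000 2760 (pK (coxK c3 c5 2)) = true := by decide +kernel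
theorem INV1_30 : allR 120000 2760 (pInvK c1 c0) = true := by decide +kernel
theorem XS5_112 : allR 122080 680 (pK kX5) = true := by decide +kernel

end Cfsg.Agent.Helper17.ONTC
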