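import Cfsg.Agent.Helper17.ONTC.PermDefs

set_option autoImplicit false
set_option linter.all false
set_option maxRecDepth 100000
set_option maxHeartbeats 0
set_option Elab.async false

namespace Cfsg.Agent.Helper17.ONTC

open Cfsg.Agent.Helper17.TCG
theorem INV0_4 : allR 16000 4000 (pInvK c0 c1) = true := by decide +kernel
theorem INV0_12 : allR 48000 4000 (pInvK c0 c1) = true := by decide +kernel
theorem INV0_20 : allR 80000 4000 (pInvK c0 c1) = true := by decide +kernel
theorem INV0_28 : allR 112000 4000 (pInvK c0 c1) = true := by decide +kernel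
theorem INV1_6 : allR 24000 4000 (pInvK c1 c0) = true := by decide +kernel
theorem INV1_14 : allR 56000 4000 (pInvK c1 c0) = true := by decide +kernel
theorem INV1_22 : allR 88000 4000 (pInvK c1 c0) = true := by decide +kernel
theorem INV2_0 : allR 0 4000 (pInvK c2 c2) = true := by decide +kernel
theorem INV2_8 : allR 32000 4000 (pInvK c2 c2) = true := by decide +kernel
theorem INV2_16 : allR 64000 4000 (pInvK c2 c2) = true := by decide +kernel
theorem INV2_24 : allR 96000 4000 (pInvK c2 c2) = true := by decide +kernel
theorem INV3_2 : allR 8000 4000 (pInvK c3 c3) = true := by decide +kernel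
theorem INV3_10 : allR 40000 4000 (pInvK c3 c3) = true := by decide +kernel
theorem INV3_18 : allR 72000 4000 (pInvK c3 c3) = true := by decide +kernel
theorem INV3_26 : allR 104000 4000 (pInvK c3 c3) = true := by decide +kernel
theorem INV4_4 : allR 16000 4000 (pInvK c4 c4) = true := by decide +kernel
theorem INV4_12 : allR 48000 4000 (pInvK c4 c4) = true := by decide +kernel
theorem INV4_20 : allR 80000 4000 (pInvK c4 c4) = true := by decide +kernel
theorem INV4_28 : allR 112000 4000 (pInvK c4 c4) = true := by decide +kernel
theorem INV5_6 : allR 24000 4000 (pInvK c5 c5) = true := by decide +kernel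
theorem INV5_14 : allR 56000 4000 (pInvK c5 c5) = true := by decide +kernel
theorem INV5_22 : allR 88000 4000 (pInvK c5 c5) = true := by decide +kernel
theorem INV6_0 : allR 0 4000 (pInvK c6 c6) = true := by decide +kernel
theorem INV6_8 : allR 32000 4000 (pInvK c6 c6) = true := by decide +kernel
theorem INV6_16 : allR 64000 4000 (pInvK c6 c6) = true := by decide +kernel
theorem INV6_24 : allR 96000 4000 (pInvK c6 c6) = true := by decide +kernel
theorem INV7_2 : allR 8000 4000 (pInvK c7 c7) = true := by decide +kernel
theorem INV7_10 : allR 40000 4000 (pInvK c7 c7) = true := by decide +kernel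
theorem INV7_18 : allR 72000 4000 (pInvK c7 c7) = true := by decide +kernel
theorem INV7_26 : allR 104000 4000 (pInvK c7 c7) = true := by decide +kernel
theorem CX_2_3_4 : allR 8000 2000 (pK (coxK c2 c3 3)) = true := by decide +kernel
theorem CX_2_3_12 : allR 24000 2000 (pK (coxK c2 c3 3)) = true := by decide +kernel
theorem CX_2_3_20 : allR 40000 2000 (pK (coxK c2 c3 3)) = true := by decide +kernel
theorem CX_2_3_28 : allR 56000 2000 (pK (coxK c2 c3 3)) = true := by decide +kernel
theorem CX_2_3_36 : allR 72000 2000 (pK (coxK c2 c3 3)) = true := by decide +kernel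
theorem CX_2_3_44 : allR 88000 2000 (pK (coxK c2 c3 3)) = true := by decide +kernel
theorem CX_2_3_52 : allR 104000 2000 (pK (coxK c2 c3 3)) = true := by decide +kernel
theorem CX_2_3_60 : allR 120000 2000 (pK (coxK c2 c3 3)) = true := by decide +kernel
theorem CX_2_4_7 : allR 21000 3000 (pK (coxK c2 c4 2)) = true := by decide +kernel
theorem CX_2_4_15 : allR 45000 3000 (pK (coxK c2 c4 2)) = true := by decide +kernel
theorem CX_2_4_23 : allR 69000 3000 (pK (coxK c2 c4 2)) = true := by decide +kernel
theorem CX_2_4_31 : allR 93000 3000 (pK (coxK c2 c4 2)) = true := by decide +kernel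
theorem CX_2_4_39 : allR 117000 3000 (pK (coxK c2 c4 2)) = true := by decide +kernel
theorem CX_2_5_7 : allR 21000 3000 (pK (coxK c2 c5 2)) = true := by decide +kernel
theorem CX_2_5_15 : allR 45000 3000 (pK (coxK c2 c5 2)) = true := by decide +kernel
theorem CX_2_5_23 : allR 69000 3000 (pK (coxK c2 c5 2)) = true := by decide +kernel
theorem CX_2_5_31 : allR 93000 3000 (pK (coxK c2 c5 2)) = true := by decide +kernel
theorem CX_2_5_39 : allR 117000 3000 (pK (coxK c2 c5 2)) = true := by decide +kernel
theorem CX_2_6_7 : allR 21000 3000 (pK (coxK c2 c6 2)) = true := by decide +kernel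
theorem CX_2_6_15 : allR 45000 3000 (pK (coxK c2 c6 2)) = true := by decide +kernel
theorem CX_2_6_23 : allR 69000 3000 (pK (coxK c2 c6 2)) = true := by decide +kernel
theorem CX_2_6_31 : allR 93000 3000 (pK (coxK c2 c6 2)) = true := by decide +kernel
theorem CX_2_6_39 : allR 117000 3000 (pK (coxK c2 c6 2)) = true := by decide +kernel
theorem CX_2_7_7 : allR 21000 3000 (pK (coxK c2 c7 2)) = true := by decide +kernel
theorem CX_2_7_15 : allR 45000 3000 (pK (coxK c2 c7 2)) = true := by decide +kernel
theorem CX_2_7_23 : allR 69000 3000 (pK (coxK c2 c7 2)) = true := by decide +kernel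
theorem CX_2_7_31 : allR 93000 3000 (pK (coxK c2 c7 2)) = true := by decide +kernel
theorem CX_2_7_39 : allR 117000 3000 (pK (coxK c2 c7 2)) = true := by decide +kernel
theorem CX_3_4_7 : allR 14000 2000 (pK (coxK c3 c4 3)) = true := by decide +kernel
theorem CX_3_4_15 : allR 30000 2000 (pK (coxK c3 c4 3)) = true := by decide +kernel
theorem CX_3_4_23 : allR 46000 2000 (pK (coxK c3 c4 3)) = true := by decide +kernel
theorem CX_3_4_31 : allR 62000 2000 (pK (coxK c3 c4 3)) = true := by decide +kernel
theorem CX_3_4_39 : allR 78000 2000 (pK (coxK c3 c4 3)) = true := by decide +kernel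
theorem CX_3_4_47 : allR 94000 2000 (pK (coxK c3 c4 3)) = true := by decide +kernel
theorem CX_3_4_55 : allR 110000 2000 (pK (coxK c3 c4 3)) = true := by decide +kernel
theorem CX_3_5_2 : allR 6000 3000 (pK (coxK c3 c5 2)) = true := by decide +kernel
theorem CX_3_5_10 : allR 30000 3000 (pK (coxK c3 c5 2)) = true := by decide +kernel
theorem CX_3_5_18 : allR 54000 3000 (pK (coxK c3 c5 2)) = true := by decide +kernel
theorem CX_3_5_26 : allR 78000 3000 (pK (coxK c3 c5 2)) = true := by decide +kernel
theorem CX_3_5_34 : allR 102000 3000 (pK (coxK c3 c5 2)) = true := by decide +kernel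
theorem CX_3_6_2 : allR 6000 3000 (pK (coxK c3 c6 2)) = true := by decide +kernel
theorem CX_3_6_10 : allR 30000 3000 (pK (coxK c3 c6 2)) = true := by decide +kernel
theorem CX_3_6_18 : allR 54000 3000 (pK (coxK c3 c6 2)) = true := by decide +kernel
theorem CX_3_6_26 : allR 78000 3000 (pK (coxK c3 c6 2)) = true := by decide +kernel
theorem CX_3_6_34 : allR 102000 3000 (pK (coxK c3 c6 2)) = true := by decide +kernel
theorem CX_3_7_2 : allR 6000 3000 (pK (coxK c3 c7 2)) = true := by decide +kernel
theorem CX_3_7_10 : allR 30000 3000 (pK (coxK c3 c7 2)) = true := by decide +kernel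
theorem CX_3_7_18 : allR 54000 3000 (pK (coxK c3 c7 2)) = true := by decide +kernel
theorem CX_3_7_26 : allR 78000 3000 (pK (coxK c3 c7 2)) = true := by decide +kernel
theorem CX_3_7_34 : allR 102000 3000 (pK (coxK c3 c7 2)) = true := by decide +kernel
theorem CX_4_5_2 : allR 1500 750 (pK (coxK c4 c5 8)) = true := by decide +kernel
theorem CX_4_5_10 : allR 7500 750 (pK (coxK c4 c5 8)) = true := by decide +kernel
theorem CX_4_5_18 : allR 13500 750 (pK (coxK c4 c5 8)) = true := by decide +kernel
theorem CX_4_5_26 : allR 19500 750 (pK (coxK c4 c5 8)) = true := by decide +kernel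
theorem CX_4_5_34 : allR 25500 750 (pK (coxK c4 c5 8)) = true := by decide +kernel
theorem CX_4_5_42 : allR 31500 750 (pK (coxK c4 c5 8)) = true := by decide +kernel
theorem CX_4_5_50 : allR 37500 750 (pK (coxK c4 c5 8)) = true := by decide +kernel
theorem CX_4_5_58 : allR 43500 750 (pK (coxK c4 c5 8)) = true := by decide +kernel
theorem CX_4_5_66 : allR 49500 750 (pK (coxK c4 c5 8)) = true := by decide +kernel
theorem CX_4_5_74 : allR 55500 750 (pK (coxK c4 c5 8)) = true := by decide +kernel
theorem CX_4_5_82 : allR 61500 750 (pK (coxK c4 c5 8)) = true := by decide +kernel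
theorem CX_4_5_90 : allR 67500 750 (pK (coxK c4 c5 8)) = true := by decide +kernel
theorem CX_4_5_98 : allR 73500 750 (pK (coxK c4 c5 8)) = true := by decide +kernel
theorem CX_4_5_106 : allR 79500 750 (pK (coxK c4 c5 8)) = true := by decide +kernel
theorem CX_4_5_114 : allR 85500 750 (pK (coxK c4 c5 8)) = true := by decide +kernel
theorem CX_4_5_122 : allR 91500 750 (pK (coxK c4 c5 8)) = true := by decide +kernel
theorem CX_4_5_130 : allR 97500 750 (pK (coxK c4 c5 8)) = true := by decide +kernel
theorem CX_4_5_138 : allR 103500 750 (pK (coxK c4 c5 8)) = true := by decide +kernel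
theorem CX_4_5_146 : allR 109500 750 (pK (coxK c4 c5 8)) = true := by decide +kernel
theorem CX_4_5_154 : allR 115500 750 (pK (coxK c4 c5 8)) = true := by decide +kernel
theorem CX_4_5_162 : allR 121500 750 (pK (coxK c4 c5 8)) = true := by decide +kernel
theorem CX_4_6_7 : allR 21000 3000 (pK (coxK c4 c6 2)) = true := by decide +kernel
theorem CX_4_6_15 : allR 45000 3000 (pK (coxK c4 c6 2)) = true := by decide +kernel
theorem CX_4_6_23 : allR 69000 3000 (pK (coxK c4 c6 2)) = true := by decide +kernel
theorem CX_4_6_31 : allR 93000 3000 (pK (coxK c4 c6 2)) = true := by decide +kernel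
theorem CX_4_6_39 : allR 117000 3000 (pK (coxK c4 c6 2)) = true := by decide +kernel
theorem CX_4_7_7 : allR 21000 3000 (pK (coxK c4 c7 2)) = true := by decide +kernel
theorem CX_4_7_15 : allR 45000 3000 (pK (coxK c4 c7 2)) = true := by decide +kernel
theorem CX_4_7_23 : allR 69000 3000 (pK (coxK c4 c7 2)) = true := by decide +kernel
theorem CX_4_7_31 : allR 93000 3000 (pK (coxK c4 c7 2)) = true := by decide +kernel
theorem CX_4_7_39 : allR 117000 3000 (pK (coxK c4 c7 2)) = true := by decide +kernel
theorem CX_5_6_7 : allR 14000 2000 (pK (coxK c5 c6 3)) = true := by decide +kernel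
theorem CX_5_6_15 : allR 30000 2000 (pK (coxK c5 c6 3)) = true := by decide +kernel
theorem CX_5_6_23 : allR 46000 2000 (pK (coxK c5 c6 3)) = true := by decide +kernel
theorem CX_5_6_31 : allR 62000 2000 (pK (coxK c5 c6 3)) = true := by decide +kernel
theorem CX_5_6_39 : allR 78000 2000 (pK (coxK c5 c6 3)) = true := by decide +kernel
theorem CX_5_6_47 : allR 94000 2000 (pK (coxK c5 c6 3)) = true := by decide +kernel
theorem CX_5_6_55 : allR 110000 2000 (pK (coxK c5 c6 3)) = true := by decide +kernel
theorem CX_5_7_2 : allR 6000 3000 (pK (coxK c5 c7 2)) = true := by decide +kernel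
theorem CX_5_7_10 : allR 30000 3000 (pK (coxK c5 c7 2)) = true := by decide +kernel
theorem CX_5_7_18 : allR 54000 3000 (pK (coxK c5 c7 2)) = true := by decide +kernel
theorem CX_5_7_26 : allR 78000 3000 (pK (coxK c5 c7 2)) = true := by decide +kernel
theorem CX_5_7_34 : allR 102000 3000 (pK (coxK c5 c7 2)) = true := by decide +kernel
theorem CX_6_7_2 : allR 4000 2000 (pK (coxK c6 c7 3)) = true := by decide +kernel
theorem CX_6_7_10 : allR 20000 2000 (pK (coxK c6 c7 3)) = true := by decide +kernel
theorem CX_6_7_18 : allR 36000 2000 (pK (coxK c6 c7 3)) = true := by decide +kernel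
theorem CX_6_7_26 : allR 52000 2000 (pK (coxK c6 c7 3)) = true := by decide +kernel
theorem CX_6_7_34 : allR 68000 2000 (pK (coxK c6 c7 3)) = true := by decide +kernel
theorem CX_6_7_42 : allR 84000 2000 (pK (coxK c6 c7 3)) = true := by decide +kernel
theorem CX_6_7_50 : allR 100000 2000 (pK (coxK c6 c7 3)) = true := by decide +kernel
theorem CX_6_7_58 : allR 116000 2000 (pK (coxK c6 c7 3)) = true := by decide +kernel
theorem XS0_5 : allR 15000 3000 (pK kX0) = true := by decide +kernel
theorem XS0_13 : allR 39000 3000 (pK kX0) = true := by decide +kernel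
theorem XS0_21 : allR 63000 3000 (pK kX0) = true := by decide +kernel
theorem XS0_29 : allR 87000 3000 (pK kX0) = true := by decide +kernel
theorem XS0_37 : allR 111000 3000 (pK kX0) = true := by decide +kernel
theorem XS1_5 : allR 6000 1200 (pK kX1) = true := by decide +kernel
theorem XS1_13 : allR 15600 1200 (pK kX1) = true := by decide +kernel
theorem XS1_21 : allR 25200 1200 (pK kX1) = true := by decide +kernel
theorem XS1_29 : allR 34800 1200 (pK kX1) = true := by decide +kernel
theorem XS1_37 : allR 44400 1200 (pK kX1) = true := by decide +kernel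
theorem XS1_45 : allR 54000 1200 (pK kX1) = true := by decide +kernel
theorem XS1_53 : allR 63600 1200 (pK kX1) = true := by decide +kernel
theorem XS1_61 : allR 73200 1200 (pK kX1) = true := by decide +kernel
theorem XS1_69 : allR 82800 1200 (pK kX1) = true := by decide +kernel
theorem XS1_77 : allR 92400 1200 (pK kX1) = true := by decide +kernel
theorem XS1_85 : allR 102000 1200 (pK kX1) = true := by decide +kernel
theorem XS1_93 : allR 111600 1200 (pK kX1) = true := by decide +kernel
theorem XS1_101 : allR 121200 1200 (pK kX1) = true := by decide +kernel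
theorem XS2_7 : allR 8400 1200 (pK kX2) = true := by decide +kernel
theorem XS2_15 : allR 18000 1200 (pK kX2) = true := by decide +kernel
theorem XS2_23 : allR 27600 1200 (pK kX2) = true := by decide +kernel
theorem XS2_31 : allR 37200 1200 (pK kX2) = true := by decide +kernel
theorem XS2_39 : allR 46800 1200 (pK kX2) = true := by decide +kernel
theorem XS2_47 : allR 56400 1200 (pK kX2) = true := by decide +kernel
theorem XS2_55 : allR 66000 1200 (pK kX2) = true := by decide +kernel
theorem XS2_63 : allR 75600 1200 (pK kX2) = true := by decide +kernel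
theorem XS2_71 : allR 85200 1200 (pK kX2) = true := by decide +kernel
theorem XS2_79 : allR 94800 1200 (pK kX2) = true := by decide +kernel
theorem XS2_87 : allR 104400 1200 (pK kX2) = true := by decide +kernel
theorem XS2_95 : allR 114000 1200 (pK kX2) = true := by decide +kernel
theorem XS3_1 : allR 1200 1200 (pK kX3) = true := by decide +kernel
theorem XS3_9 : allR 10800 1200 (pK kX3) = true := by decide +kernel
theorem XS3_17 : allR 20400 1200 (pK kX3) = true := by decide +kernel
theorem XS3_25 : allR 30000 1200 (pK kX3) = true := by decide +kernel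
theorem XS3_33 : allR 39600 1200 (pK kX3) = true := by decide +kernel
theorem XS3_41 : allR 49200 1200 (pK kX3) = true := by decide +kernel
theorem XS3_49 : allR 58800 1200 (pK kX3) = true := by decide +kernel
theorem XS3_57 : allR 68400 1200 (pK kX3) = true := by decide +kernel
theorem XS3_65 : allR 78000 1200 (pK kX3) = true := by decide +kernel
theorem XS3_73 : allR 87600 1200 (pK kX3) = true := by decide +kernel
theorem XS3_81 : allR 97200 1200 (pK kX3) = true := by decide +kernel
theorem XS3_89 : allR 106800 1200 (pK kX3) = true := by decide +kernel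
theorem XS3_97 : allR 116400 1200 (pK kX3) = true := by decide +kernel
theorem XS4_3 : allR 1800 600 (pK kX4) = true := by decide +kernel
theorem XS4_11 : allR 6600 600 (pK kX4) = true := by decide +kernel
theorem XS4_19 : allR 11400 600 (pK kX4) = true := by decide +kernel
theorem XS4_27 : allR 16200 600 (pK kX4) = true := by decide +kernel
theorem XS4_35 : allR 21000 600 (pK kX4) = true := by decide +kernel
theorem XS4_43 : allR 25800 600 (pK kX4) = true := by decide +kernel
theorem XS4_51 : allR 30600 600 (pK kX4) = true := by decide +kernel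
theorem XS4_59 : allR 35400 600 (pK kX4) = true := by decide +kernel
theorem XS4_67 : allR 40200 600 (pK kX4) = true := by decide +kernel
theorem XS4_75 : allR 45000 600 (pK kX4) = true := by decide +kernel
theorem XS4_83 : allR 49800 600 (pK kX4) = true := by decide +kernel
theorem XS4_91 : allR 54600 600 (pK kX4) = true := by decide +kernel
theorem XS4_99 : allR 59400 600 (pK kX4) = true := by decide +kernel
theorem XS4_107 : allR 64200 600 (pK kX4) = true := by decide +kernel
theorem XS4_115 : allR 69000 600 (pK kX4) = true := by decide +kernel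
theorem XS4_123 : allR 73800 600 (pK kX4) = true := by decide +kernel
theorem XS4_131 : allR 78600 600 (pK kX4) = true := by decide +kernel
theorem XS4_139 : allR 83400 600 (pK kX4) = true := by decide +kernel
theorem XS4_147 : allR 88200 600 (pK kX4) = true := by decide +kernel
theorem XS4_155 : allR 93000 600 (pK kX4) = true := by decide +kernel
theorem XS4_163 : allR 97800 600 (pK kX4) = true := by decide +kernel
theorem XS4_171 : allR 102600 600 (pK kX4) = true := by decide +kernel
theorem XS4_179 : allR 107400 600 (pK kX4) = true := by decide +kernel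
theorem XS4_187 : allR 112200 600 (pK kX4) = true := by decide +kernel
theorem XS4_195 : allR 117000 600 (pK kX4) = true := by decide +kernel
theorem XS4_203 : allR 121800 600 (pK kX4) = true := by decide +kernel
theorem XS5_10 : allR 10900 1090 (pK kX5) = true := by decide +kernel
theorem XS5_18 : allR 19620 1090 (pK kX5) = true := by decide +kernel
theorem XS5_26 : allR 28340 1090 (pK kX5) = true := by decide +kernel
theorem XS5_34 : allR 37060 1090 (pK kX5) = true := by decide +kernel
theorem XS5_42 : allR 45780 1090 (pK kX5) = true := by decide +kernel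
theorem XS5_50 : allR 54500 1090 (pK kX5) = true := by decide +kernel
theorem XS5_58 : allR 63220 1090 (pK kX5) = true := by decide +kernel
theorem XS5_66 : allR 71940 1090 (pK kX5) = true := by decide +kernel
theorem XS5_74 : allR 80660 1090 (pK kX5) = true := by decide +kernel
theorem XS5_82 : allR 89380 1090 (pK kX5) = true := by decide +kernel
theorem XS5_90 : allR 98100 1090 (pK kX5) = true := by decide +kernel
theorem XS5_98 : allR 106820 1090 (pK kX5) = true := by decide +kernel
theorem XS5_106 : allR 115540 1090 (pK kX5) = true := by decide +kernel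
theorem XS6_2 : allR 2180 1090 (pK kX6) = true := by decide +kernel
theorem XS6_10 : allR 10900 1090 (pK kX6) = true := by decide +kernel
theorem XS6_18 : allR 19620 1090 (pK kX6) = true := by decide +kernel
theorem XS6_26 : allR 28340 1090 (pK kX6) = true := by decide +kernel
theorem XS6_34 : allR 37060 1090 (pK kX6) = true := by decide +kernel
theorem XS6_42 : allR 45780 1090 (pK kX6) = true := by decide +kernel
theorem XS6_50 : allR 54500 1090 (pK kX6) = true := by decide +kernel
theorem XS6_58 : allR 63220 1090 (pK kX6) = true := by decide +kernel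
theorem XS6_66 : allR 71940 1090 (pK kX6) = true := by decide +kernel
theorem XS6_74 : allR 80660 1090 (pK kX6) = true := by decide +kernel
theorem XS6_82 : allR 89380 1090 (pK kX6) = true := by decide +kernel
theorem XS6_90 : allR 98100 1090 (pK kX6) = true := by decide +kernel
theorem XS6_98 : allR 106820 1090 (pK kX6) = true := by decide +kernel
theorem XS6_106 : allR 115540 1090 (pK kX6) = true := by decide +kernel
theorem CX_2_6_40 : allR 120000 2760 (pK (coxK c2 c6 2)) = true := by decide +kernel
theorem CX_3_6_40 : allR 120000 2760 (pK (coxK c3 c6 2)) = true := by decide +kernel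
theorem INV2_30 : allR 120000 2760 (pInvK c2 c2) = true := by decide +kernel
theorem XS6_112 : allR 122080 680 (pK kX6) = true := by decide +kernel

end Cfsg.Agent.Helper17.ONTC
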