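import Cfsg.Agent.Helper17.ONTC.PermDefs

set_option autoImplicit false
set_option linter.all false
set_option maxRecDepth 100000
set_option maxHeartbeats 0
set_option Elab.async false

namespace Cfsg.Agent.Helper17.ONTC

open Cfsg.Agent.Helper17.TCG
theorem INV0_5 : allR 20000 4000 (pInvK c0 c1) = true := by decide +kernel
theorem INV0_13 : allR 52000 4000 (pInvK c0 c1) = true := by decide +kernel
theorem INV0_21 : allR 84000 4000 (pInvK c0 c1) = true := by decide +kernel
theorem INV0_29 : allR 116000 4000 (pInvK c0 c1) = true := by decide +kernel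
theorem INV1_7 : allR 28000 4000 (pInvK c1 c0) = true := by decide +kernel
theorem INV1_15 : allR 60000 4000 (pInvK c1 c0) = true := by decide +kernel
theorem INV1_23 : allR 92000 4000 (pInvK c1 c0) = true := by decide +kernel
theorem INV2_1 : allR 4000 4000 (pInvK c2 c2) = true := by decide +kernel
theorem INV2_9 : allR 36000 4000 (pInvK c2 c2) = true := by decide +kernel
theorem INV2_17 : allR 68000 4000 (pInvK c2 c2) = true := by decide +kernel
theorem INV2_25 : allR 100000 4000 (pInvK c2 c2) = true := by decide +kernel
theorem INV3_3 : allR 12000 4000 (pInvK c3 c3) = true := by decide +kernel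
theorem INV3_11 : allR 44000 4000 (pInvK c3 c3) = true := by decide +kernel
theorem INV3_19 : allR 76000 4000 (pInvK c3 c3) = true := by decide +kernel
theorem INV3_27 : allR 108000 4000 (pInvK c3 c3) = true := by decide +kernel
theorem INV4_5 : allR 20000 4000 (pInvK c4 c4) = true := by decide +kernel
theorem INV4_13 : allR 52000 4000 (pInvK c4 c4) = true := by decide +kernel
theorem INV4_21 : allR 84000 4000 (pInvK c4 c4) = true := by decide +kernel
theorem INV4_29 : allR 116000 4000 (pInvK c4 c4) = true := by decide +kernel
theorem INV5_7 : allR 28000 4000 (pInvK c5 c5) = true := by decide +kernel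
theorem INV5_15 : allR 60000 4000 (pInvK c5 c5) = true := by decide +kernel
theorem INV5_23 : allR 92000 4000 (pInvK c5 c5) = true := by decide +kernel
theorem INV6_1 : allR 4000 4000 (pInvK c6 c6) = true := by decide +kernel
theorem INV6_9 : allR 36000 4000 (pInvK c6 c6) = true := by decide +kernel
theorem INV6_17 : allR 68000 4000 (pInvK c6 c6) = true := by decide +kernel
theorem INV6_25 : allR 100000 4000 (pInvK c6 c6) = true := by decide +kernel
theorem INV7_3 : allR 12000 4000 (pInvK c7 c7) = true := by decide +kernel
theorem INV7_11 : allR 44000 4000 (pInvK c7 c7) = true := by decide +kernel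
theorem INV7_19 : allR 76000 4000 (pInvK c7 c7) = true := by decide +kernel
theorem INV7_27 : allR 108000 4000 (pInvK c7 c7) = true := by decide +kernel
theorem CX_2_3_5 : allR 10000 2000 (pK (coxK c2 c3 3)) = true := by decide +kernel
theorem CX_2_3_13 : allR 26000 2000 (pK (coxK c2 c3 3)) = true := by decide +kernel
theorem CX_2_3_21 : allR 42000 2000 (pK (coxK c2 c3 3)) = true := by decide +kernel
theorem CX_2_3_29 : allR 58000 2000 (pK (coxK c2 c3 3)) = true := by decide +kernel
theorem CX_2_3_37 : allR 74000 2000 (pK (coxK c2 c3 3)) = true := by decide +kernel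
theorem CX_2_3_45 : allR 90000 2000 (pK (coxK c2 c3 3)) = true := by decide +kernel
theorem CX_2_3_53 : allR 106000 2000 (pK (coxK c2 c3 3)) = true := by decide +kernel
theorem CX_2_4_0 : allR 0 3000 (pK (coxK c2 c4 2)) = true := by decide +kernel
theorem CX_2_4_8 : allR 24000 3000 (pK (coxK c2 c4 2)) = true := by decide +kernel
theorem CX_2_4_16 : allR 48000 3000 (pK (coxK c2 c4 2)) = true := by decide +kernel
theorem CX_2_4_24 : allR 72000 3000 (pK (coxK c2 c4 2)) = true := by decide +kernel
theorem CX_2_4_32 : allR 96000 3000 (pK (coxK c2 c4 2)) = true := by decide +kernel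
theorem CX_2_5_0 : allR 0 3000 (pK (coxK c2 c5 2)) = true := by decide +kernel
theorem CX_2_5_8 : allR 24000 3000 (pK (coxK c2 c5 2)) = true := by decide +kernel
theorem CX_2_5_16 : allR 48000 3000 (pK (coxK c2 c5 2)) = true := by decide +kernel
theorem CX_2_5_24 : allR 72000 3000 (pK (coxK c2 c5 2)) = true := by decide +kernel
theorem CX_2_5_32 : allR 96000 3000 (pK (coxK c2 c5 2)) = true := by decide +kernel
theorem CX_2_6_0 : allR 0 3000 (pK (coxK c2 c6 2)) = true := by decide +kernel
theorem CX_2_6_8 : allR 24000 3000 (pK (coxK c2 c6 2)) = true := by decide +kernel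
theorem CX_2_6_16 : allR 48000 3000 (pK (coxK c2 c6 2)) = true := by decide +kernel
theorem CX_2_6_24 : allR 72000 3000 (pK (coxK c2 c6 2)) = true := by decide +kernel
theorem CX_2_6_32 : allR 96000 3000 (pK (coxK c2 c6 2)) = true := by decide +kernel
theorem CX_2_7_0 : allR 0 3000 (pK (coxK c2 c7 2)) = true := by decide +kernel
theorem CX_2_7_8 : allR 24000 3000 (pK (coxK c2 c7 2)) = true := by decide +kernel
theorem CX_2_7_16 : allR 48000 3000 (pK (coxK c2 c7 2)) = true := by decide +kernel
theorem CX_2_7_24 : allR 72000 3000 (pK (coxK c2 c7 2)) = true := by decide +kernel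
theorem CX_2_7_32 : allR 96000 3000 (pK (coxK c2 c7 2)) = true := by decide +kernel
theorem CX_3_4_0 : allR 0 2000 (pK (coxK c3 c4 3)) = true := by decide +kernel
theorem CX_3_4_8 : allR 16000 2000 (pK (coxK c3 c4 3)) = true := by decide +kernel
theorem CX_3_4_16 : allR 32000 2000 (pK (coxK c3 c4 3)) = true := by decide +kernel
theorem CX_3_4_24 : allR 48000 2000 (pK (coxK c3 c4 3)) = true := by decide +kernel
theorem CX_3_4_32 : allR 64000 2000 (pK (coxK c3 c4 3)) = true := by decide +kernel
theorem CX_3_4_40 : allR 80000 2000 (pK (coxK c3 c4 3)) = true := by decide +kernel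
theorem CX_3_4_48 : allR 96000 2000 (pK (coxK c3 c4 3)) = true := by decide +kernel
theorem CX_3_4_56 : allR 112000 2000 (pK (coxK c3 c4 3)) = true := by decide +kernel
theorem CX_3_5_3 : allR 9000 3000 (pK (coxK c3 c5 2)) = true := by decide +kernel
theorem CX_3_5_11 : allR 33000 3000 (pK (coxK c3 c5 2)) = true := by decide +kernel
theorem CX_3_5_19 : allR 57000 3000 (pK (coxK c3 c5 2)) = true := by decide +kernel
theorem CX_3_5_27 : allR 81000 3000 (pK (coxK c3 c5 2)) = true := by decide +kernel
theorem CX_3_5_35 : allR 105000 3000 (pK (coxK c3 c5 2)) = true := by decide +kernel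
theorem CX_3_6_3 : allR 9000 3000 (pK (coxK c3 c6 2)) = true := by decide +kernel
theorem CX_3_6_11 : allR 33000 3000 (pK (coxK c3 c6 2)) = true := by decide +kernel
theorem CX_3_6_19 : allR 57000 3000 (pK (coxK c3 c6 2)) = true := by decide +kernel
theorem CX_3_6_27 : allR 81000 3000 (pK (coxK c3 c6 2)) = true := by decide +kernel
theorem CX_3_6_35 : allR 105000 3000 (pK (coxK c3 c6 2)) = true := by decide +kernel
theorem CX_3_7_3 : allR 9000 3000 (pK (coxK c3 c7 2)) = true := by decide +kernel
theorem CX_3_7_11 : allR 33000 3000 (pK (coxK c3 c7 2)) = true := by decide +kernel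
theorem CX_3_7_19 : allR 57000 3000 (pK (coxK c3 c7 2)) = true := by decide +kernel
theorem CX_3_7_27 : allR 81000 3000 (pK (coxK c3 c7 2)) = true := by decide +kernel
theorem CX_3_7_35 : allR 105000 3000 (pK (coxK c3 c7 2)) = true := by decide +kernel
theorem CX_4_5_3 : allR 2250 750 (pK (coxK c4 c5 8)) = true := by decide +kernel
theorem CX_4_5_11 : allR 8250 750 (pK (coxK c4 c5 8)) = true := by decide +kernel
theorem CX_4_5_19 : allR 14250 750 (pK (coxK c4 c5 8)) = true := by decide +kernel
theorem CX_4_5_27 : allR 20250 750 (pK (coxK c4 c5 8)) = true := by decide +kernel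
theorem CX_4_5_35 : allR 26250 750 (pK (coxK c4 c5 8)) = true := by decide +kernel
theorem CX_4_5_43 : allR 32250 750 (pK (coxK c4 c5 8)) = true := by decide +kernel
theorem CX_4_5_51 : allR 38250 750 (pK (coxK c4 c5 8)) = true := by decide +kernel
theorem CX_4_5_59 : allR 44250 750 (pK (coxK c4 c5 8)) = true := by decide +kernel
theorem CX_4_5_67 : allR 50250 750 (pK (coxK c4 c5 8)) = true := by decide +kernel
theorem CX_4_5_75 : allR 56250 750 (pK (coxK c4 c5 8)) = true := by decide +kernel
theorem CX_4_5_83 : allR 62250 750 (pK (coxK c4 c5 8)) = true := by decide +kernel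
theorem CX_4_5_91 : allR 68250 750 (pK (coxK c4 c5 8)) = true := by decide +kernel
theorem CX_4_5_99 : allR 74250 750 (pK (coxK c4 c5 8)) = true := by decide +kernel
theorem CX_4_5_107 : allR 80250 750 (pK (coxK c4 c5 8)) = true := by decide +kernel
theorem CX_4_5_115 : allR 86250 750 (pK (coxK c4 c5 8)) = true := by decide +kernel
theorem CX_4_5_123 : allR 92250 750 (pK (coxK c4 c5 8)) = true := by decide +kernel
theorem CX_4_5_131 : allR 98250 750 (pK (coxK c4 c5 8)) = true := by decide +kernel
theorem CX_4_5_139 : allR 104250 750 (pK (coxK c4 c5 8)) = true := by decide +kernel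
theorem CX_4_5_147 : allR 110250 750 (pK (coxK c4 c5 8)) = true := by decide +kernel
theorem CX_4_5_155 : allR 116250 750 (pK (coxK c4 c5 8)) = true := by decide +kernel
theorem CX_4_6_0 : allR 0 3000 (pK (coxK c4 c6 2)) = true := by decide +kernel
theorem CX_4_6_8 : allR 24000 3000 (pK (coxK c4 c6 2)) = true := by decide +kernel
theorem CX_4_6_16 : allR 48000 3000 (pK (coxK c4 c6 2)) = true := by decide +kernel
theorem CX_4_6_24 : allR 72000 3000 (pK (coxK c4 c6 2)) = true := by decide +kernel
theorem CX_4_6_32 : allR 96000 3000 (pK (coxK c4 c6 2)) = true := by decide +kernel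
theorem CX_4_7_0 : allR 0 3000 (pK (coxK c4 c7 2)) = true := by decide +kernel
theorem CX_4_7_8 : allR 24000 3000 (pK (coxK c4 c7 2)) = true := by decide +kernel
theorem CX_4_7_16 : allR 48000 3000 (pK (coxK c4 c7 2)) = true := by decide +kernel
theorem CX_4_7_24 : allR 72000 3000 (pK (coxK c4 c7 2)) = true := by decide +kernel
theorem CX_4_7_32 : allR 96000 3000 (pK (coxK c4 c7 2)) = true := by decide +kernel
theorem CX_5_6_0 : allR 0 2000 (pK (coxK c5 c6 3)) = true := by decide +kernel
theorem CX_5_6_8 : allR 16000 2000 (pK (coxK c5 c6 3)) = true := by decide +kernel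
theorem CX_5_6_16 : allR 32000 2000 (pK (coxK c5 c6 3)) = true := by decide +kernel
theorem CX_5_6_24 : allR 48000 2000 (pK (coxK c5 c6 3)) = true := by decide +kernel
theorem CX_5_6_32 : allR 64000 2000 (pK (coxK c5 c6 3)) = true := by decide +kernel
theorem CX_5_6_40 : allR 80000 2000 (pK (coxK c5 c6 3)) = true := by decide +kernel
theorem CX_5_6_48 : allR 96000 2000 (pK (coxK c5 c6 3)) = true := by decide +kernel
theorem CX_5_6_56 : allR 112000 2000 (pK (coxK c5 c6 3)) = true := by decide +kernel
theorem CX_5_7_3 : allR 9000 3000 (pK (coxK c5 c7 2)) = true := by decide +kernel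
theorem CX_5_7_11 : allR 33000 3000 (pK (coxK c5 c7 2)) = true := by decide +kernel
theorem CX_5_7_19 : allR 57000 3000 (pK (coxK c5 c7 2)) = true := by decide +kernel
theorem CX_5_7_27 : allR 81000 3000 (pK (coxK c5 c7 2)) = true := by decide +kernel
theorem CX_5_7_35 : allR 105000 3000 (pK (coxK c5 c7 2)) = true := by decide +kernel
theorem CX_6_7_3 : allR 6000 2000 (pK (coxK c6 c7 3)) = true := by decide +kernel
theorem CX_6_7_11 : allR 22000 2000 (pK (coxK c6 c7 3)) = true := by decide +kernel
theorem CX_6_7_19 : allR 38000 2000 (pK (coxK c6 c7 3)) = true := by decide +kernel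
theorem CX_6_7_27 : allR 54000 2000 (pK (coxK c6 c7 3)) = true := by decide +kernel
theorem CX_6_7_35 : allR 70000 2000 (pK (coxK c6 c7 3)) = true := by decide +kernel
theorem CX_6_7_43 : allR 86000 2000 (pK (coxK c6 c7 3)) = true := by decide +kernel
theorem CX_6_7_51 : allR 102000 2000 (pK (coxK c6 c7 3)) = true := by decide +kernel
theorem CX_6_7_59 : allR 118000 2000 (pK (coxK c6 c7 3)) = true := by decide +kernel
theorem XS0_6 : allR 18000 3000 (pK kX0) = true := by decide +kernel
theorem XS0_14 : allR 42000 3000 (pK kX0) = true := by decide +kernel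
theorem XS0_22 : allR 66000 3000 (pK kX0) = true := by decide +kernel
theorem XS0_30 : allR 90000 3000 (pK kX0) = true := by decide +kernel
theorem XS0_38 : allR 114000 3000 (pK kX0) = true := by decide +kernel
theorem XS1_6 : allR 7200 1200 (pK kX1) = true := by decide +kernel
theorem XS1_14 : allR 16800 1200 (pK kX1) = true := by decide +kernel
theorem XS1_22 : allR 26400 1200 (pK kX1) = true := by decide +kernel
theorem XS1_30 : allR 36000 1200 (pK kX1) = true := by decide +kernel
theorem XS1_38 : allR 45600 1200 (pK kX1) = true := by decide +kernel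
theorem XS1_46 : allR 55200 1200 (pK kX1) = true := by decide +kernel
theorem XS1_54 : allR 64800 1200 (pK kX1) = true := by decide +kernel
theorem XS1_62 : allR 74400 1200 (pK kX1) = true := by decide +kernel
theorem XS1_70 : allR 84000 1200 (pK kX1) = true := by decide +kernel
theorem XS1_78 : allR 93600 1200 (pK kX1) = true := by decide +kernel
theorem XS1_86 : allR 103200 1200 (pK kX1) = true := by decide +kernel
theorem XS1_94 : allR 112800 1200 (pK kX1) = true := by decide +kernel
theorem XS2_0 : allR 0 1200 (pK kX2) = true := by decide +kernel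
theorem XS2_8 : allR 9600 1200 (pK kX2) = true := by decide +kernel
theorem XS2_16 : allR 19200 1200 (pK kX2) = true := by decide +kernel
theorem XS2_24 : allR 28800 1200 (pK kX2) = true := by decide +kernel
theorem XS2_32 : allR 38400 1200 (pK kX2) = true := by decide +kernel
theorem XS2_40 : allR 48000 1200 (pK kX2) = true := by decide +kernel
theorem XS2_48 : allR 57600 1200 (pK kX2) = true := by decide +kernel
theorem XS2_56 : allR 67200 1200 (pK kX2) = true := by decide +kernel
theorem XS2_64 : allR 76800 1200 (pK kX2) = true := by decide +kernel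
theorem XS2_72 : allR 86400 1200 (pK kX2) = true := by decide +kernel
theorem XS2_80 : allR 96000 1200 (pK kX2) = true := by decide +kernel
theorem XS2_88 : allR 105600 1200 (pK kX2) = true := by decide +kernel
theorem XS2_96 : allR 115200 1200 (pK kX2) = true := by decide +kernel
theorem XS3_2 : allR 2400 1200 (pK kX3) = true := by decide +kernel
theorem XS3_10 : allR 12000 1200 (pK kX3) = true := by decide +kernel
theorem XS3_18 : allR 21600 1200 (pK kX3) = true := by decide +kernel
theorem XS3_26 : allR 31200 1200 (pK kX3) = true := by decide +kernel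
theorem XS3_34 : allR 40800 1200 (pK kX3) = true := by decide +kernel
theorem XS3_42 : allR 50400 1200 (pK kX3) = true := by decide +kernel
theorem XS3_50 : allR 60000 1200 (pK kX3) = true := by decide +kernel
theorem XS3_58 : allR 69600 1200 (pK kX3) = true := by decide +kernel
theorem XS3_66 : allR 79200 1200 (pK kX3) = true := by decide +kernel
theorem XS3_74 : allR 88800 1200 (pK kX3) = true := by decide +kernel
theorem XS3_82 : allR 98400 1200 (pK kX3) = true := by decide +kernel
theorem XS3_90 : allR 108000 1200 (pK kX3) = true := by decide +kernel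
theorem XS3_98 : allR 117600 1200 (pK kX3) = true := by decide +kernel
theorem XS4_4 : allR 2400 600 (pK kX4) = true := by decide +kernel
theorem XS4_12 : allR 7200 600 (pK kX4) = true := by decide +kernel
theorem XS4_20 : allR 12000 600 (pK kX4) = true := by decide +kernel
theorem XS4_28 : allR 16800 600 (pK kX4) = true := by decide +kernel
theorem XS4_36 : allR 21600 600 (pK kX4) = true := by decide +kernel
theorem XS4_44 : allR 26400 600 (pK kX4) = true := by decide +kernel
theorem XS4_52 : allR 31200 600 (pK kX4) = true := by decide +kernel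
theorem XS4_60 : allR 36000 600 (pK kX4) = true := by decide +kernel
theorem XS4_68 : allR 40800 600 (pK kX4) = true := by decide +kernel
theorem XS4_76 : allR 45600 600 (pK kX4) = true := by decide +kernel
theorem XS4_84 : allR 50400 600 (pK kX4) = true := by decide +kernel
theorem XS4_92 : allR 55200 600 (pK kX4) = true := by decide +kernel
theorem XS4_100 : allR 60000 600 (pK kX4) = true := by decide +kernel
theorem XS4_108 : allR 64800 600 (pK kX4) = true := by decide +kernel
theorem XS4_116 : allR 69600 600 (pK kX4) = true := by decide +kernel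
theorem XS4_124 : allR 74400 600 (pK kX4) = true := by decide +kernel
theorem XS4_132 : allR 79200 600 (pK kX4) = true := by decide +kernel
theorem XS4_140 : allR 84000 600 (pK kX4) = true := by decide +kernel
theorem XS4_148 : allR 88800 600 (pK kX4) = true := by decide +kernel
theorem XS4_156 : allR 93600 600 (pK kX4) = true := by decide +kernel
theorem XS4_164 : allR 98400 600 (pK kX4) = true := by decide +kernel
theorem XS4_172 : allR 103200 600 (pK kX4) = true := by decide +kernel
theorem XS4_180 : allR 108000 600 (pK kX4) = true := by decide +kernel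
theorem XS4_188 : allR 112800 600 (pK kX4) = true := by decide +kernel
theorem XS4_196 : allR 117600 600 (pK kX4) = true := by decide +kernel
theorem XS5_0 : allR 0 1090 (pK kX5) = true := by decide +kernel
theorem XS5_3 : allR 3270 1090 (pK kX5) = true := by decide +kernel
theorem XS5_11 : allR 11990 1090 (pK kX5) = true := by decide +kernel
theorem XS5_19 : allR 20710 1090 (pK kX5) = true := by decide +kernel
theorem XS5_27 : allR 29430 1090 (pK kX5) = true := by decide +kernel
theorem XS5_35 : allR 38150 1090 (pK kX5) = true := by decide +kernel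
theorem XS5_43 : allR 46870 1090 (pK kX5) = true := by decide +kernel
theorem XS5_51 : allR 55590 1090 (pK kX5) = true := by decide +kernel
theorem XS5_59 : allR 64310 1090 (pK kX5) = true := by decide +kernel
theorem XS5_67 : allR 73030 1090 (pK kX5) = true := by decide +kernel
theorem XS5_75 : allR 81750 1090 (pK kX5) = true := by decide +kernel
theorem XS5_83 : allR 90470 1090 (pK kX5) = true := by decide +kernel
theorem XS5_91 : allR 99190 1090 (pK kX5) = true := by decide +kernel
theorem XS5_99 : allR 107910 1090 (pK kX5) = true := by decide +kernel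
theorem XS5_107 : allR 116630 1090 (pK kX5) = true := by decide +kernel
theorem XS6_3 : allR 3270 1090 (pK kX6) = true := by decide +kernel
theorem XS6_11 : allR 11990 1090 (pK kX6) = true := by decide +kernel
theorem XS6_19 : allR 20710 1090 (pK kX6) = true := by decide +kernel
theorem XS6_27 : allR 29430 1090 (pK kX6) = true := by decide +kernel
theorem XS6_35 : allR 38150 1090 (pK kX6) = true := by decide +kernel
theorem XS6_43 : allR 46870 1090 (pK kX6) = true := by decide +kernel
theorem XS6_51 : allR 55590 1090 (pK kX6) = true := by decide +kernel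
theorem XS6_59 : allR 64310 1090 (pK kX6) = true := by decide +kernel
theorem XS6_67 : allR 73030 1090 (pK kX6) = true := by decide +kernel
theorem XS6_75 : allR 81750 1090 (pK kX6) = true := by decide +kernel
theorem XS6_83 : allR 90470 1090 (pK kX6) = true := by decide +kernel
theorem XS6_91 : allR 99190 1090 (pK kX6) = true := by decide +kernel
theorem XS6_99 : allR 107910 1090 (pK kX6) = true := by decide +kernel
theorem XS6_107 : allR 116630 1090 (pK kX6) = true := by decide +kernel
theorem CX_3_7_40 : allR 120000 2760 (pK (coxK c3 c7 2)) = true := by decide +kernel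
theorem INV3_30 : allR 120000 2760 (pInvK c3 c3) = true := by decide +kernel
theorem XS4_204 : allR 122400 360 (pK kX4) = true := by decide +kernel

end Cfsg.Agent.Helper17.ONTC
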