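import Cfsg.Agent.Helper17.ONTC.PermDefs

set_option autoImplicit false
set_option linter.all false
set_option maxRecDepth 100000
set_option maxHeartbeats 0
set_option Elab.async false

namespace Cfsg.Agent.Helper17.ONTC

open Cfsg.Agent.Helper17.TCG
theorem INV0_6 : allR 24000 4000 (pInvK c0 c1) = true := by decide +kernel
theorem INV0_14 : allR 56000 4000 (pInvK c0 c1) = true := by decide +kernel
theorem INV0_22 : allR 88000 4000 (pInvK c0 c1) = true := by decide +kernel
theorem INV1_0 : allR 0 4000 (pInvK c1 c0) = true := by decide +kernel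
theorem INV1_8 : allR 32000 4000 (pInvK c1 c0) = true := by decide +kernel
theorem INV1_16 : allR 64000 4000 (pInvK c1 c0) = true := by decide +kernel
theorem INV1_24 : allR 96000 4000 (pInvK c1 c0) = true := by decide +kernel
theorem INV2_2 : allR 8000 4000 (pInvK c2 c2) = true := by decide +kernel
theorem INV2_10 : allR 40000 4000 (pInvK c2 c2) = true := by decide +kernel
theorem INV2_18 : allR 72000 4000 (pInvK c2 c2) = true := by decide +kernel
theorem INV2_26 : allR 104000 4000 (pInvK c2 c2) = true := by decide +kernel
theorem INV3_4 : allR 16000 4000 (pInvK c3 c3) = true := by decide +kernel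
theorem INV3_12 : allR 48000 4000 (pInvK c3 c3) = true := by decide +kernel
theorem INV3_20 : allR 80000 4000 (pInvK c3 c3) = true := by decide +kernel
theorem INV3_28 : allR 112000 4000 (pInvK c3 c3) = true := by decide +kernel
theorem INV4_6 : allR 24000 4000 (pInvK c4 c4) = true := by decide +kernel
theorem INV4_14 : allR 56000 4000 (pInvK c4 c4) = true := by decide +kernel
theorem INV4_22 : allR 88000 4000 (pInvK c4 c4) = true := by decide +kernel
theorem INV5_0 : allR 0 4000 (pInvK c5 c5) = true := by decide +kernel
theorem INV5_8 : allR 32000 4000 (pInvK c5 c5) = true := by decide +kernel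
theorem INV5_16 : allR 64000 4000 (pInvK c5 c5) = true := by decide +kernel
theorem INV5_24 : allR 96000 4000 (pInvK c5 c5) = true := by decide +kernel
theorem INV6_2 : allR 8000 4000 (pInvK c6 c6) = true := by decide +kernel
theorem INV6_10 : allR 40000 4000 (pInvK c6 c6) = true := by decide +kernel
theorem INV6_18 : allR 72000 4000 (pInvK c6 c6) = true := by decide +kernel
theorem INV6_26 : allR 104000 4000 (pInvK c6 c6) = true := by decide +kernel
theorem INV7_4 : allR 16000 4000 (pInvK c7 c7) = true := by decide +kernel
theorem INV7_12 : allR 48000 4000 (pInvK c7 c7) = true := by decide +kernel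
theorem INV7_20 : allR 80000 4000 (pInvK c7 c7) = true := by decide +kernel
theorem INV7_28 : allR 112000 4000 (pInvK c7 c7) = true := by decide +kernel
theorem CX_2_3_6 : allR 12000 2000 (pK (coxK c2 c3 3)) = true := by decide +kernel
theorem CX_2_3_14 : allR 28000 2000 (pK (coxK c2 c3 3)) = true := by decide +kernel
theorem CX_2_3_22 : allR 44000 2000 (pK (coxK c2 c3 3)) = true := by decide +kernel
theorem CX_2_3_30 : allR 60000 2000 (pK (coxK c2 c3 3)) = true := by decide +kernel
theorem CX_2_3_38 : allR 76000 2000 (pK (coxK c2 c3 3)) = true := by decide +kernel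
theorem CX_2_3_46 : allR 92000 2000 (pK (coxK c2 c3 3)) = true := by decide +kernel
theorem CX_2_3_54 : allR 108000 2000 (pK (coxK c2 c3 3)) = true := by decide +kernel
theorem CX_2_4_1 : allR 3000 3000 (pK (coxK c2 c4 2)) = true := by decide +kernel
theorem CX_2_4_9 : allR 27000 3000 (pK (coxK c2 c4 2)) = true := by decide +kernel
theorem CX_2_4_17 : allR 51000 3000 (pK (coxK c2 c4 2)) = true := by decide +kernel
theorem CX_2_4_25 : allR 75000 3000 (pK (coxK c2 c4 2)) = true := by decide +kernel
theorem CX_2_4_33 : allR 99000 3000 (pK (coxK c2 c4 2)) = true := by decide +kernel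
theorem CX_2_5_1 : allR 3000 3000 (pK (coxK c2 c5 2)) = true := by decide +kernel
theorem CX_2_5_9 : allR 27000 3000 (pK (coxK c2 c5 2)) = true := by decide +kernel
theorem CX_2_5_17 : allR 51000 3000 (pK (coxK c2 c5 2)) = true := by decide +kernel
theorem CX_2_5_25 : allR 75000 3000 (pK (coxK c2 c5 2)) = true := by decide +kernel
theorem CX_2_5_33 : allR 99000 3000 (pK (coxK c2 c5 2)) = true := by decide +kernel
theorem CX_2_6_1 : allR 3000 3000 (pK (coxK c2 c6 2)) = true := by decide +kernel
theorem CX_2_6_9 : allR 27000 3000 (pK (coxK c2 c6 2)) = true := by decide +kernel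
theorem CX_2_6_17 : allR 51000 3000 (pK (coxK c2 c6 2)) = true := by decide +kernel
theorem CX_2_6_25 : allR 75000 3000 (pK (coxK c2 c6 2)) = true := by decide +kernel
theorem CX_2_6_33 : allR 99000 3000 (pK (coxK c2 c6 2)) = true := by decide +kernel
theorem CX_2_7_1 : allR 3000 3000 (pK (coxK c2 c7 2)) = true := by decide +kernel
theorem CX_2_7_9 : allR 27000 3000 (pK (coxK c2 c7 2)) = true := by decide +kernel
theorem CX_2_7_17 : allR 51000 3000 (pK (coxK c2 c7 2)) = true := by decide +kernel
theorem CX_2_7_25 : allR 75000 3000 (pK (coxK c2 c7 2)) = true := by decide +kernel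
theorem CX_2_7_33 : allR 99000 3000 (pK (coxK c2 c7 2)) = true := by decide +kernel
theorem CX_3_4_1 : allR 2000 2000 (pK (coxK c3 c4 3)) = true := by decide +kernel
theorem CX_3_4_9 : allR 18000 2000 (pK (coxK c3 c4 3)) = true := by decide +kernel
theorem CX_3_4_17 : allR 34000 2000 (pK (coxK c3 c4 3)) = true := by decide +kernel
theorem CX_3_4_25 : allR 50000 2000 (pK (coxK c3 c4 3)) = true := by decide +kernel
theorem CX_3_4_33 : allR 66000 2000 (pK (coxK c3 c4 3)) = true := by decide +kernel
theorem CX_3_4_41 : allR 82000 2000 (pK (coxK c3 c4 3)) = true := by decide +kernel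
theorem CX_3_4_49 : allR 98000 2000 (pK (coxK c3 c4 3)) = true := by decide +kernel
theorem CX_3_4_57 : allR 114000 2000 (pK (coxK c3 c4 3)) = true := by decide +kernel
theorem CX_3_5_4 : allR 12000 3000 (pK (coxK c3 c5 2)) = true := by decide +kernel
theorem CX_3_5_12 : allR 36000 3000 (pK (coxK c3 c5 2)) = true := by decide +kernel
theorem CX_3_5_20 : allR 60000 3000 (pK (coxK c3 c5 2)) = true := by decide +kernel
theorem CX_3_5_28 : allR 84000 3000 (pK (coxK c3 c5 2)) = true := by decide +kernel
theorem CX_3_5_36 : allR 108000 3000 (pK (coxK c3 c5 2)) = true := by decide +kernel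
theorem CX_3_6_4 : allR 12000 3000 (pK (coxK c3 c6 2)) = true := by decide +kernel
theorem CX_3_6_12 : allR 36000 3000 (pK (coxK c3 c6 2)) = true := by decide +kernel
theorem CX_3_6_20 : allR 60000 3000 (pK (coxK c3 c6 2)) = true := by decide +kernel
theorem CX_3_6_28 : allR 84000 3000 (pK (coxK c3 c6 2)) = true := by decide +kernel
theorem CX_3_6_36 : allR 108000 3000 (pK (coxK c3 c6 2)) = true := by decide +kernel
theorem CX_3_7_4 : allR 12000 3000 (pK (coxK c3 c7 2)) = true := by decide +kernel
theorem CX_3_7_12 : allR 36000 3000 (pK (coxK c3 c7 2)) = true := by decide +kernel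
theorem CX_3_7_20 : allR 60000 3000 (pK (coxK c3 c7 2)) = true := by decide +kernel
theorem CX_3_7_28 : allR 84000 3000 (pK (coxK c3 c7 2)) = true := by decide +kernel
theorem CX_3_7_36 : allR 108000 3000 (pK (coxK c3 c7 2)) = true := by decide +kernel
theorem CX_4_5_4 : allR 3000 750 (pK (coxK c4 c5 8)) = true := by decide +kernel
theorem CX_4_5_12 : allR 9000 750 (pK (coxK c4 c5 8)) = true := by decide +kernel
theorem CX_4_5_20 : allR 15000 750 (pK (coxK c4 c5 8)) = true := by decide +kernel
theorem CX_4_5_28 : allR 21000 750 (pK (coxK c4 c5 8)) = true := by decide +kernel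
theorem CX_4_5_36 : allR 27000 750 (pK (coxK c4 c5 8)) = true := by decide +kernel
theorem CX_4_5_44 : allR 33000 750 (pK (coxK c4 c5 8)) = true := by decide +kernel
theorem CX_4_5_52 : allR 39000 750 (pK (coxK c4 c5 8)) = true := by decide +kernel
theorem CX_4_5_60 : allR 45000 750 (pK (coxK c4 c5 8)) = true := by decide +kernel
theorem CX_4_5_68 : allR 51000 750 (pK (coxK c4 c5 8)) = true := by decide +kernel
theorem CX_4_5_76 : allR 57000 750 (pK (coxK c4 c5 8)) = true := by decide +kernel
theorem CX_4_5_84 : allR 63000 750 (pK (coxK c4 c5 8)) = true := by decide +kernel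
theorem CX_4_5_92 : allR 69000 750 (pK (coxK c4 c5 8)) = true := by decide +kernel
theorem CX_4_5_100 : allR 75000 750 (pK (coxK c4 c5 8)) = true := by decide +kernel
theorem CX_4_5_108 : allR 81000 750 (pK (coxK c4 c5 8)) = true := by decide +kernel
theorem CX_4_5_116 : allR 87000 750 (pK (coxK c4 c5 8)) = true := by decide +kernel
theorem CX_4_5_124 : allR 93000 750 (pK (coxK c4 c5 8)) = true := by decide +kernel
theorem CX_4_5_132 : allR 99000 750 (pK (coxK c4 c5 8)) = true := by decide +kernel
theorem CX_4_5_140 : allR 105000 750 (pK (coxK c4 c5 8)) = true := by decide +kernel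
theorem CX_4_5_148 : allR 111000 750 (pK (coxK c4 c5 8)) = true := by decide +kernel
theorem CX_4_5_156 : allR 117000 750 (pK (coxK c4 c5 8)) = true := by decide +kernel
theorem CX_4_6_1 : allR 3000 3000 (pK (coxK c4 c6 2)) = true := by decide +kernel
theorem CX_4_6_9 : allR 27000 3000 (pK (coxK c4 c6 2)) = true := by decide +kernel
theorem CX_4_6_17 : allR 51000 3000 (pK (coxK c4 c6 2)) = true := by decide +kernel
theorem CX_4_6_25 : allR 75000 3000 (pK (coxK c4 c6 2)) = true := by decide +kernel
theorem CX_4_6_33 : allR 99000 3000 (pK (coxK c4 c6 2)) = true := by decide +kernel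
theorem CX_4_7_1 : allR 3000 3000 (pK (coxK c4 c7 2)) = true := by decide +kernel
theorem CX_4_7_9 : allR 27000 3000 (pK (coxK c4 c7 2)) = true := by decide +kernel
theorem CX_4_7_17 : allR 51000 3000 (pK (coxK c4 c7 2)) = true := by decide +kernel
theorem CX_4_7_25 : allR 75000 3000 (pK (coxK c4 c7 2)) = true := by decide +kernel
theorem CX_4_7_33 : allR 99000 3000 (pK (coxK c4 c7 2)) = true := by decide +kernel
theorem CX_5_6_1 : allR 2000 2000 (pK (coxK c5 c6 3)) = true := by decide +kernel
theorem CX_5_6_9 : allR 18000 2000 (pK (coxK c5 c6 3)) = true := by decide +kernel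
theorem CX_5_6_17 : allR 34000 2000 (pK (coxK c5 c6 3)) = true := by decide +kernel
theorem CX_5_6_25 : allR 50000 2000 (pK (coxK c5 c6 3)) = true := by decide +kernel
theorem CX_5_6_33 : allR 66000 2000 (pK (coxK c5 c6 3)) = true := by decide +kernel
theorem CX_5_6_41 : allR 82000 2000 (pK (coxK c5 c6 3)) = true := by decide +kernel
theorem CX_5_6_49 : allR 98000 2000 (pK (coxK c5 c6 3)) = true := by decide +kernel
theorem CX_5_6_57 : allR 114000 2000 (pK (coxK c5 c6 3)) = true := by decide +kernel
theorem CX_5_7_4 : allR 12000 3000 (pK (coxK c5 c7 2)) = true := by decide +kernel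
theorem CX_5_7_12 : allR 36000 3000 (pK (coxK c5 c7 2)) = true := by decide +kernel
theorem CX_5_7_20 : allR 60000 3000 (pK (coxK c5 c7 2)) = true := by decide +kernel
theorem CX_5_7_28 : allR 84000 3000 (pK (coxK c5 c7 2)) = true := by decide +kernel
theorem CX_5_7_36 : allR 108000 3000 (pK (coxK c5 c7 2)) = true := by decide +kernel
theorem CX_6_7_4 : allR 8000 2000 (pK (coxK c6 c7 3)) = true := by decide +kernel
theorem CX_6_7_12 : allR 24000 2000 (pK (coxK c6 c7 3)) = true := by decide +kernel
theorem CX_6_7_20 : allR 40000 2000 (pK (coxK c6 c7 3)) = true := by decide +kernel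
theorem CX_6_7_28 : allR 56000 2000 (pK (coxK c6 c7 3)) = true := by decide +kernel
theorem CX_6_7_36 : allR 72000 2000 (pK (coxK c6 c7 3)) = true := by decide +kernel
theorem CX_6_7_44 : allR 88000 2000 (pK (coxK c6 c7 3)) = true := by decide +kernel
theorem CX_6_7_52 : allR 104000 2000 (pK (coxK c6 c7 3)) = true := by decide +kernel
theorem CX_6_7_60 : allR 120000 2000 (pK (coxK c6 c7 3)) = true := by decide +kernel
theorem XS0_7 : allR 21000 3000 (pK kX0) = true := by decide +kernel
theorem XS0_15 : allR 45000 3000 (pK kX0) = true := by decide +kernel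
theorem XS0_23 : allR 69000 3000 (pK kX0) = true := by decide +kernel
theorem XS0_31 : allR 93000 3000 (pK kX0) = true := by decide +kernel
theorem XS0_39 : allR 117000 3000 (pK kX0) = true := by decide +kernel
theorem XS1_7 : allR 8400 1200 (pK kX1) = true := by decide +kernel
theorem XS1_15 : allR 18000 1200 (pK kX1) = true := by decide +kernel
theorem XS1_23 : allR 27600 1200 (pK kX1) = true := by decide +kernel
theorem XS1_31 : allR 37200 1200 (pK kX1) = true := by decide +kernel
theorem XS1_39 : allR 46800 1200 (pK kX1) = true := by decide +kernel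
theorem XS1_47 : allR 56400 1200 (pK kX1) = true := by decide +kernel
theorem XS1_55 : allR 66000 1200 (pK kX1) = true := by decide +kernel
theorem XS1_63 : allR 75600 1200 (pK kX1) = true := by decide +kernel
theorem XS1_71 : allR 85200 1200 (pK kX1) = true := by decide +kernel
theorem XS1_79 : allR 94800 1200 (pK kX1) = true := by decide +kernel
theorem XS1_87 : allR 104400 1200 (pK kX1) = true := by decide +kernel
theorem XS1_95 : allR 114000 1200 (pK kX1) = true := by decide +kernel
theorem XS2_1 : allR 1200 1200 (pK kX2) = true := by decide +kernel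
theorem XS2_9 : allR 10800 1200 (pK kX2) = true := by decide +kernel
theorem XS2_17 : allR 20400 1200 (pK kX2) = true := by decide +kernel
theorem XS2_25 : allR 30000 1200 (pK kX2) = true := by decide +kernel
theorem XS2_33 : allR 39600 1200 (pK kX2) = true := by decide +kernel
theorem XS2_41 : allR 49200 1200 (pK kX2) = true := by decide +kernel
theorem XS2_49 : allR 58800 1200 (pK kX2) = true := by decide +kernel
theorem XS2_57 : allR 68400 1200 (pK kX2) = true := by decide +kernel
theorem XS2_65 : allR 78000 1200 (pK kX2) = true := by decide +kernel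
theorem XS2_73 : allR 87600 1200 (pK kX2) = true := by decide +kernel
theorem XS2_81 : allR 97200 1200 (pK kX2) = true := by decide +kernel
theorem XS2_89 : allR 106800 1200 (pK kX2) = true := by decide +kernel
theorem XS2_97 : allR 116400 1200 (pK kX2) = true := by decide +kernel
theorem XS3_3 : allR 3600 1200 (pK kX3) = true := by decide +kernel
theorem XS3_11 : allR 13200 1200 (pK kX3) = true := by decide +kernel
theorem XS3_19 : allR 22800 1200 (pK kX3) = true := by decide +kernel
theorem XS3_27 : allR 32400 1200 (pK kX3) = true := by decide +kernel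
theorem XS3_35 : allR 42000 1200 (pK kX3) = true := by decide +kernel
theorem XS3_43 : allR 51600 1200 (pK kX3) = true := by decide +kernel
theorem XS3_51 : allR 61200 1200 (pK kX3) = true := by decide +kernel
theorem XS3_59 : allR 70800 1200 (pK kX3) = true := by decide +kernel
theorem XS3_67 : allR 80400 1200 (pK kX3) = true := by decide +kernel
theorem XS3_75 : allR 90000 1200 (pK kX3) = true := by decide +kernel
theorem XS3_83 : allR 99600 1200 (pK kX3) = true := by decide +kernel
theorem XS3_91 : allR 109200 1200 (pK kX3) = true := by decide +kernel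
theorem XS3_99 : allR 118800 1200 (pK kX3) = true := by decide +kernel
theorem XS4_5 : allR 3000 600 (pK kX4) = true := by decide +kernel
theorem XS4_13 : allR 7800 600 (pK kX4) = true := by decide +kernel
theorem XS4_21 : allR 12600 600 (pK kX4) = true := by decide +kernel
theorem XS4_29 : allR 17400 600 (pK kX4) = true := by decide +kernel
theorem XS4_37 : allR 22200 600 (pK kX4) = true := by decide +kernel
theorem XS4_45 : allR 27000 600 (pK kX4) = true := by decide +kernel
theorem XS4_53 : allR 31800 600 (pK kX4) = true := by decide +kernel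
theorem XS4_61 : allR 36600 600 (pK kX4) = true := by decide +kernel
theorem XS4_69 : allR 41400 600 (pK kX4) = true := by decide +kernel
theorem XS4_77 : allR 46200 600 (pK kX4) = true := by decide +kernel
theorem XS4_85 : allR 51000 600 (pK kX4) = true := by decide +kernel
theorem XS4_93 : allR 55800 600 (pK kX4) = true := by decide +kernel
theorem XS4_101 : allR 60600 600 (pK kX4) = true := by decide +kernel
theorem XS4_109 : allR 65400 600 (pK kX4) = true := by decide +kernel
theorem XS4_117 : allR 70200 600 (pK kX4) = true := by decide +kernel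
theorem XS4_125 : allR 75000 600 (pK kX4) = true := by decide +kernel
theorem XS4_133 : allR 79800 600 (pK kX4) = true := by decide +kernel
theorem XS4_141 : allR 84600 600 (pK kX4) = true := by decide +kernel
theorem XS4_149 : allR 89400 600 (pK kX4) = true := by decide +kernel
theorem XS4_157 : allR 94200 600 (pK kX4) = true := by decide +kernel
theorem XS4_165 : allR 99000 600 (pK kX4) = true := by decide +kernel
theorem XS4_173 : allR 103800 600 (pK kX4) = true := by decide +kernel
theorem XS4_181 : allR 108600 600 (pK kX4) = true := by decide +kernel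
theorem XS4_189 : allR 113400 600 (pK kX4) = true := by decide +kernel
theorem XS4_197 : allR 118200 600 (pK kX4) = true := by decide +kernel
theorem XS5_1 : allR 1090 1090 (pK kX5) = true := by decide +kernel
theorem XS5_4 : allR 4360 1090 (pK kX5) = true := by decide +kernel
theorem XS5_12 : allR 13080 1090 (pK kX5) = true := by decide +kernel
theorem XS5_20 : allR 21800 1090 (pK kX5) = true := by decide +kernel
theorem XS5_28 : allR 30520 1090 (pK kX5) = true := by decide +kernel
theorem XS5_36 : allR 39240 1090 (pK kX5) = true := by decide +kernel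
theorem XS5_44 : allR 47960 1090 (pK kX5) = true := by decide +kernel
theorem XS5_52 : allR 56680 1090 (pK kX5) = true := by decide +kernel
theorem XS5_60 : allR 65400 1090 (pK kX5) = true := by decide +kernel
theorem XS5_68 : allR 74120 1090 (pK kX5) = true := by decide +kernel
theorem XS5_76 : allR 82840 1090 (pK kX5) = true := by decide +kernel
theorem XS5_84 : allR 91560 1090 (pK kX5) = true := by decide +kernel
theorem XS5_92 : allR 100280 1090 (pK kX5) = true := by decide +kernel
theorem XS5_100 : allR 109000 1090 (pK kX5) = true := by decide +kernel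
theorem XS5_108 : allR 117720 1090 (pK kX5) = true := by decide +kernel
theorem XS6_4 : allR 4360 1090 (pK kX6) = true := by decide +kernel
theorem XS6_12 : allR 13080 1090 (pK kX6) = true := by decide +kernel
theorem XS6_20 : allR 21800 1090 (pK kX6) = true := by decide +kernel
theorem XS6_28 : allR 30520 1090 (pK kX6) = true := by decide +kernel
theorem XS6_36 : allR 39240 1090 (pK kX6) = true := by decide +kernel
theorem XS6_44 : allR 47960 1090 (pK kX6) = true := by decide +kernel
theorem XS6_52 : allR 56680 1090 (pK kX6) = true := by decide +kernel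
theorem XS6_60 : allR 65400 1090 (pK kX6) = true := by decide +kernel
theorem XS6_68 : allR 74120 1090 (pK kX6) = true := by decide +kernel
theorem XS6_76 : allR 82840 1090 (pK kX6) = true := by decide +kernel
theorem XS6_84 : allR 91560 1090 (pK kX6) = true := by decide +kernel
theorem XS6_92 : allR 100280 1090 (pK kX6) = true := by decide +kernel
theorem XS6_100 : allR 109000 1090 (pK kX6) = true := by decide +kernel
theorem XS6_108 : allR 117720 1090 (pK kX6) = true := by decide +kernel
theorem CX_4_6_40 : allR 120000 2760 (pK (coxK c4 c6 2)) = true := by decide +kernel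
theorem INV4_30 : allR 120000 2760 (pInvK c4 c4) = true := by decide +kernel
theorem CX_2_3_61 : allR 122000 760 (pK (coxK c2 c3 3)) = true := by decide +kernel
theorem XS1_102 : allR 122400 360 (pK kX1) = true := by decide +kernel

end Cfsg.Agent.Helper17.ONTC
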