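import Cfsg.Agent.Helper17.ONTC.PermDefs

set_option autoImplicit false
set_option linter.all false
set_option maxRecDepth 100000
set_option maxHeartbeats 0
set_option Elab.async false

namespace Cfsg.Agent.Helper17.ONTC

open Cfsg.Agent.Helper17.TCG
theorem INV0_7 : allR 28000 4000 (pInvK c0 c1) = true := by decide +kernel
theorem INV0_15 : allR 60000 4000 (pInvK c0 c1) = true := by decide +kernel
theorem INV0_23 : allR 92000 4000 (pInvK c0 c1) = true := by decide +kernel
theorem INV1_1 : allR 4000 4000 (pInvK c1 c0) = true := by decide +kernel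
theorem INV1_9 : allR 36000 4000 (pInvK c1 c0) = true := by decide +kernel
theorem INV1_17 : allR 68000 4000 (pInvK c1 c0) = true := by decide +kernel
theorem INV1_25 : allR 100000 4000 (pInvK c1 c0) = true := by decide +kernel
theorem INV2_3 : allR 12000 4000 (pInvK c2 c2) = true := by decide +kernel
theorem INV2_11 : allR 44000 4000 (pInvK c2 c2) = true := by decide +kernel
theorem INV2_19 : allR 76000 4000 (pInvK c2 c2) = true := by decide +kernel
theorem INV2_27 : allR 108000 4000 (pInvK c2 c2) = true := by decide +kernel
theorem INV3_5 : allR 20000 4000 (pInvK c3 c3) = true := by decide +kernel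
theorem INV3_13 : allR 52000 4000 (pInvK c3 c3) = true := by decide +kernel
theorem INV3_21 : allR 84000 4000 (pInvK c3 c3) = true := by decide +kernel
theorem INV3_29 : allR 116000 4000 (pInvK c3 c3) = true := by decide +kernel
theorem INV4_7 : allR 28000 4000 (pInvK c4 c4) = true := by decide +kernel
theorem INV4_15 : allR 60000 4000 (pInvK c4 c4) = true := by decide +kernel
theorem INV4_23 : allR 92000 4000 (pInvK c4 c4) = true := by decide +kernel
theorem INV5_1 : allR 4000 4000 (pInvK c5 c5) = true := by decide +kernel
theorem INV5_9 : allR 36000 4000 (pInvK c5 c5) = true := by decide +kernel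
theorem INV5_17 : allR 68000 4000 (pInvK c5 c5) = true := by decide +kernel
theorem INV5_25 : allR 100000 4000 (pInvK c5 c5) = true := by decide +kernel
theorem INV6_3 : allR 12000 4000 (pInvK c6 c6) = true := by decide +kernel
theorem INV6_11 : allR 44000 4000 (pInvK c6 c6) = true := by decide +kernel
theorem INV6_19 : allR 76000 4000 (pInvK c6 c6) = true := by decide +kernel
theorem INV6_27 : allR 108000 4000 (pInvK c6 c6) = true := by decide +kernel
theorem INV7_5 : allR 20000 4000 (pInvK c7 c7) = true := by decide +kernel
theorem INV7_13 : allR 52000 4000 (pInvK c7 c7) = true := by decide +kernel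
theorem INV7_21 : allR 84000 4000 (pInvK c7 c7) = true := by decide +kernel
theorem INV7_29 : allR 116000 4000 (pInvK c7 c7) = true := by decide +kernel
theorem CX_2_3_7 : allR 14000 2000 (pK (coxK c2 c3 3)) = true := by decide +kernel
theorem CX_2_3_15 : allR 30000 2000 (pK (coxK c2 c3 3)) = true := by decide +kernel
theorem CX_2_3_23 : allR 46000 2000 (pK (coxK c2 c3 3)) = true := by decide +kernel
theorem CX_2_3_31 : allR 62000 2000 (pK (coxK c2 c3 3)) = true := by decide +kernel
theorem CX_2_3_39 : allR 78000 2000 (pK (coxK c2 c3 3)) = true := by decide +kernel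
theorem CX_2_3_47 : allR 94000 2000 (pK (coxK c2 c3 3)) = true := by decide +kernel
theorem CX_2_3_55 : allR 110000 2000 (pK (coxK c2 c3 3)) = true := by decide +kernel
theorem CX_2_4_2 : allR 6000 3000 (pK (coxK c2 c4 2)) = true := by decide +kernel
theorem CX_2_4_10 : allR 30000 3000 (pK (coxK c2 c4 2)) = true := by decide +kernel
theorem CX_2_4_18 : allR 54000 3000 (pK (coxK c2 c4 2)) = true := by decide +kernel
theorem CX_2_4_26 : allR 78000 3000 (pK (coxK c2 c4 2)) = true := by decide +kernel
theorem CX_2_4_34 : allR 102000 3000 (pK (coxK c2 c4 2)) = true := by decide +kernel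
theorem CX_2_5_2 : allR 6000 3000 (pK (coxK c2 c5 2)) = true := by decide +kernel
theorem CX_2_5_10 : allR 30000 3000 (pK (coxK c2 c5 2)) = true := by decide +kernel
theorem CX_2_5_18 : allR 54000 3000 (pK (coxK c2 c5 2)) = true := by decide +kernel
theorem CX_2_5_26 : allR 78000 3000 (pK (coxK c2 c5 2)) = true := by decide +kernel
theorem CX_2_5_34 : allR 102000 3000 (pK (coxK c2 c5 2)) = true := by decide +kernel
theorem CX_2_6_2 : allR 6000 3000 (pK (coxK c2 c6 2)) = true := by decide +kernel
theorem CX_2_6_10 : allR 30000 3000 (pK (coxK c2 c6 2)) = true := by decide +kernel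
theorem CX_2_6_18 : allR 54000 3000 (pK (coxK c2 c6 2)) = true := by decide +kernel
theorem CX_2_6_26 : allR 78000 3000 (pK (coxK c2 c6 2)) = true := by decide +kernel
theorem CX_2_6_34 : allR 102000 3000 (pK (coxK c2 c6 2)) = true := by decide +kernel
theorem CX_2_7_2 : allR 6000 3000 (pK (coxK c2 c7 2)) = true := by decide +kernel
theorem CX_2_7_10 : allR 30000 3000 (pK (coxK c2 c7 2)) = true := by decide +kernel
theorem CX_2_7_18 : allR 54000 3000 (pK (coxK c2 c7 2)) = true := by decide +kernel
theorem CX_2_7_26 : allR 78000 3000 (pK (coxK c2 c7 2)) = true := by decide +kernel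
theorem CX_2_7_34 : allR 102000 3000 (pK (coxK c2 c7 2)) = true := by decide +kernel
theorem CX_3_4_2 : allR 4000 2000 (pK (coxK c3 c4 3)) = true := by decide +kernel
theorem CX_3_4_10 : allR 20000 2000 (pK (coxK c3 c4 3)) = true := by decide +kernel
theorem CX_3_4_18 : allR 36000 2000 (pK (coxK c3 c4 3)) = true := by decide +kernel
theorem CX_3_4_26 : allR 52000 2000 (pK (coxK c3 c4 3)) = true := by decide +kernel
theorem CX_3_4_34 : allR 68000 2000 (pK (coxK c3 c4 3)) = true := by decide +kernel
theorem CX_3_4_42 : allR 84000 2000 (pK (coxK c3 c4 3)) = true := by decide +kernel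
theorem CX_3_4_50 : allR 100000 2000 (pK (coxK c3 c4 3)) = true := by decide +kernel
theorem CX_3_4_58 : allR 116000 2000 (pK (coxK c3 c4 3)) = true := by decide +kernel
theorem CX_3_5_5 : allR 15000 3000 (pK (coxK c3 c5 2)) = true := by decide +kernel
theorem CX_3_5_13 : allR 39000 3000 (pK (coxK c3 c5 2)) = true := by decide +kernel
theorem CX_3_5_21 : allR 63000 3000 (pK (coxK c3 c5 2)) = true := by decide +kernel
theorem CX_3_5_29 : allR 87000 3000 (pK (coxK c3 c5 2)) = true := by decide +kernel
theorem CX_3_5_37 : allR 111000 3000 (pK (coxK c3 c5 2)) = true := by decide +kernel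
theorem CX_3_6_5 : allR 15000 3000 (pK (coxK c3 c6 2)) = true := by decide +kernel
theorem CX_3_6_13 : allR 39000 3000 (pK (coxK c3 c6 2)) = true := by decide +kernel
theorem CX_3_6_21 : allR 63000 3000 (pK (coxK c3 c6 2)) = true := by decide +kernel
theorem CX_3_6_29 : allR 87000 3000 (pK (coxK c3 c6 2)) = true := by decide +kernel
theorem CX_3_6_37 : allR 111000 3000 (pK (coxK c3 c6 2)) = true := by decide +kernel
theorem CX_3_7_5 : allR 15000 3000 (pK (coxK c3 c7 2)) = true := by decide +kernel
theorem CX_3_7_13 : allR 39000 3000 (pK (coxK c3 c7 2)) = true := by decide +kernel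
theorem CX_3_7_21 : allR 63000 3000 (pK (coxK c3 c7 2)) = true := by decide +kernel
theorem CX_3_7_29 : allR 87000 3000 (pK (coxK c3 c7 2)) = true := by decide +kernel
theorem CX_3_7_37 : allR 111000 3000 (pK (coxK c3 c7 2)) = true := by decide +kernel
theorem CX_4_5_5 : allR 3750 750 (pK (coxK c4 c5 8)) = true := by decide +kernel
theorem CX_4_5_13 : allR 9750 750 (pK (coxK c4 c5 8)) = true := by decide +kernel
theorem CX_4_5_21 : allR 15750 750 (pK (coxK c4 c5 8)) = true := by decide +kernel
theorem CX_4_5_29 : allR 21750 750 (pK (coxK c4 c5 8)) = true := by decide +kernel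
theorem CX_4_5_37 : allR 27750 750 (pK (coxK c4 c5 8)) = true := by decide +kernel
theorem CX_4_5_45 : allR 33750 750 (pK (coxK c4 c5 8)) = true := by decide +kernel
theorem CX_4_5_53 : allR 39750 750 (pK (coxK c4 c5 8)) = true := by decide +kernel
theorem CX_4_5_61 : allR 45750 750 (pK (coxK c4 c5 8)) = true := by decide +kernel
theorem CX_4_5_69 : allR 51750 750 (pK (coxK c4 c5 8)) = true := by decide +kernel
theorem CX_4_5_77 : allR 57750 750 (pK (coxK c4 c5 8)) = true := by decide +kernel
theorem CX_4_5_85 : allR 63750 750 (pK (coxK c4 c5 8)) = true := by decide +kernel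
theorem CX_4_5_93 : allR 69750 750 (pK (coxK c4 c5 8)) = true := by decide +kernel
theorem CX_4_5_101 : allR 75750 750 (pK (coxK c4 c5 8)) = true := by decide +kernel
theorem CX_4_5_109 : allR 81750 750 (pK (coxK c4 c5 8)) = true := by decide +kernel
theorem CX_4_5_117 : allR 87750 750 (pK (coxK c4 c5 8)) = true := by decide +kernel
theorem CX_4_5_125 : allR 93750 750 (pK (coxK c4 c5 8)) = true := by decide +kernel
theorem CX_4_5_133 : allR 99750 750 (pK (coxK c4 c5 8)) = true := by decide +kernel
theorem CX_4_5_141 : allR 105750 750 (pK (coxK c4 c5 8)) = true := by decide +kernel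
theorem CX_4_5_149 : allR 111750 750 (pK (coxK c4 c5 8)) = true := by decide +kernel
theorem CX_4_5_157 : allR 117750 750 (pK (coxK c4 c5 8)) = true := by decide +kernel
theorem CX_4_6_2 : allR 6000 3000 (pK (coxK c4 c6 2)) = true := by decide +kernel
theorem CX_4_6_10 : allR 30000 3000 (pK (coxK c4 c6 2)) = true := by decide +kernel
theorem CX_4_6_18 : allR 54000 3000 (pK (coxK c4 c6 2)) = true := by decide +kernel
theorem CX_4_6_26 : allR 78000 3000 (pK (coxK c4 c6 2)) = true := by decide +kernel
theorem CX_4_6_34 : allR 102000 3000 (pK (coxK c4 c6 2)) = true := by decide +kernel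
theorem CX_4_7_2 : allR 6000 3000 (pK (coxK c4 c7 2)) = true := by decide +kernel
theorem CX_4_7_10 : allR 30000 3000 (pK (coxK c4 c7 2)) = true := by decide +kernel
theorem CX_4_7_18 : allR 54000 3000 (pK (coxK c4 c7 2)) = true := by decide +kernel
theorem CX_4_7_26 : allR 78000 3000 (pK (coxK c4 c7 2)) = true := by decide +kernel
theorem CX_4_7_34 : allR 102000 3000 (pK (coxK c4 c7 2)) = true := by decide +kernel
theorem CX_5_6_2 : allR 4000 2000 (pK (coxK c5 c6 3)) = true := by decide +kernel
theorem CX_5_6_10 : allR 20000 2000 (pK (coxK c5 c6 3)) = true := by decide +kernel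
theorem CX_5_6_18 : allR 36000 2000 (pK (coxK c5 c6 3)) = true := by decide +kernel
theorem CX_5_6_26 : allR 52000 2000 (pK (coxK c5 c6 3)) = true := by decide +kernel
theorem CX_5_6_34 : allR 68000 2000 (pK (coxK c5 c6 3)) = true := by decide +kernel
theorem CX_5_6_42 : allR 84000 2000 (pK (coxK c5 c6 3)) = true := by decide +kernel
theorem CX_5_6_50 : allR 100000 2000 (pK (coxK c5 c6 3)) = true := by decide +kernel
theorem CX_5_6_58 : allR 116000 2000 (pK (coxK c5 c6 3)) = true := by decide +kernel
theorem CX_5_7_5 : allR 15000 3000 (pK (coxK c5 c7 2)) = true := by decide +kernel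
theorem CX_5_7_13 : allR 39000 3000 (pK (coxK c5 c7 2)) = true := by decide +kernel
theorem CX_5_7_21 : allR 63000 3000 (pK (coxK c5 c7 2)) = true := by decide +kernel
theorem CX_5_7_29 : allR 87000 3000 (pK (coxK c5 c7 2)) = true := by decide +kernel
theorem CX_5_7_37 : allR 111000 3000 (pK (coxK c5 c7 2)) = true := by decide +kernel
theorem CX_6_7_5 : allR 10000 2000 (pK (coxK c6 c7 3)) = true := by decide +kernel
theorem CX_6_7_13 : allR 26000 2000 (pK (coxK c6 c7 3)) = true := by decide +kernel
theorem CX_6_7_21 : allR 42000 2000 (pK (coxK c6 c7 3)) = true := by decide +kernel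
theorem CX_6_7_29 : allR 58000 2000 (pK (coxK c6 c7 3)) = true := by decide +kernel
theorem CX_6_7_37 : allR 74000 2000 (pK (coxK c6 c7 3)) = true := by decide +kernel
theorem CX_6_7_45 : allR 90000 2000 (pK (coxK c6 c7 3)) = true := by decide +kernel
theorem CX_6_7_53 : allR 106000 2000 (pK (coxK c6 c7 3)) = true := by decide +kernel
theorem XS0_0 : allR 0 3000 (pK kX0) = true := by decide +kernel
theorem XS0_8 : allR 24000 3000 (pK kX0) = true := by decide +kernel
theorem XS0_16 : allR 48000 3000 (pK kX0) = true := by decide +kernel
theorem XS0_24 : allR 72000 3000 (pK kX0) = true := by decide +kernel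
theorem XS0_32 : allR 96000 3000 (pK kX0) = true := by decide +kernel
theorem XS1_0 : allR 0 1200 (pK kX1) = true := by decide +kernel
theorem XS1_8 : allR 9600 1200 (pK kX1) = true := by decide +kernel
theorem XS1_16 : allR 19200 1200 (pK kX1) = true := by decide +kernel
theorem XS1_24 : allR 28800 1200 (pK kX1) = true := by decide +kernel
theorem XS1_32 : allR 38400 1200 (pK kX1) = true := by decide +kernel
theorem XS1_40 : allR 48000 1200 (pK kX1) = true := by decide +kernel
theorem XS1_48 : allR 57600 1200 (pK kX1) = true := by decide +kernel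
theorem XS1_56 : allR 67200 1200 (pK kX1) = true := by decide +kernel
theorem XS1_64 : allR 76800 1200 (pK kX1) = true := by decide +kernel
theorem XS1_72 : allR 86400 1200 (pK kX1) = true := by decide +kernel
theorem XS1_80 : allR 96000 1200 (pK kX1) = true := by decide +kernel
theorem XS1_88 : allR 105600 1200 (pK kX1) = true := by decide +kernel
theorem XS1_96 : allR 115200 1200 (pK kX1) = true := by decide +kernel
theorem XS2_2 : allR 2400 1200 (pK kX2) = true := by decide +kernel
theorem XS2_10 : allR 12000 1200 (pK kX2) = true := by decide +kernel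
theorem XS2_18 : allR 21600 1200 (pK kX2) = true := by decide +kernel
theorem XS2_26 : allR 31200 1200 (pK kX2) = true := by decide +kernel
theorem XS2_34 : allR 40800 1200 (pK kX2) = true := by decide +kernel
theorem XS2_42 : allR 50400 1200 (pK kX2) = true := by decide +kernel
theorem XS2_50 : allR 60000 1200 (pK kX2) = true := by decide +kernel
theorem XS2_58 : allR 69600 1200 (pK kX2) = true := by decide +kernel
theorem XS2_66 : allR 79200 1200 (pK kX2) = true := by decide +kernel
theorem XS2_74 : allR 88800 1200 (pK kX2) = true := by decide +kernel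
theorem XS2_82 : allR 98400 1200 (pK kX2) = true := by decide +kernel
theorem XS2_90 : allR 108000 1200 (pK kX2) = true := by decide +kernel
theorem XS2_98 : allR 117600 1200 (pK kX2) = true := by decide +kernel
theorem XS3_4 : allR 4800 1200 (pK kX3) = true := by decide +kernel
theorem XS3_12 : allR 14400 1200 (pK kX3) = true := by decide +kernel
theorem XS3_20 : allR 24000 1200 (pK kX3) = true := by decide +kernel
theorem XS3_28 : allR 33600 1200 (pK kX3) = true := by decide +kernel
theorem XS3_36 : allR 43200 1200 (pK kX3) = true := by decide +kernel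
theorem XS3_44 : allR 52800 1200 (pK kX3) = true := by decide +kernel
theorem XS3_52 : allR 62400 1200 (pK kX3) = true := by decide +kernel
theorem XS3_60 : allR 72000 1200 (pK kX3) = true := by decide +kernel
theorem XS3_68 : allR 81600 1200 (pK kX3) = true := by decide +kernel
theorem XS3_76 : allR 91200 1200 (pK kX3) = true := by decide +kernel
theorem XS3_84 : allR 100800 1200 (pK kX3) = true := by decide +kernel
theorem XS3_92 : allR 110400 1200 (pK kX3) = true := by decide +kernel
theorem XS3_100 : allR 120000 1200 (pK kX3) = true := by decide +kernel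
theorem XS4_6 : allR 3600 600 (pK kX4) = true := by decide +kernel
theorem XS4_14 : allR 8400 600 (pK kX4) = true := by decide +kernel
theorem XS4_22 : allR 13200 600 (pK kX4) = true := by decide +kernel
theorem XS4_30 : allR 18000 600 (pK kX4) = true := by decide +kernel
theorem XS4_38 : allR 22800 600 (pK kX4) = true := by decide +kernel
theorem XS4_46 : allR 27600 600 (pK kX4) = true := by decide +kernel
theorem XS4_54 : allR 32400 600 (pK kX4) = true := by decide +kernel
theorem XS4_62 : allR 37200 600 (pK kX4) = true := by decide +kernel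
theorem XS4_70 : allR 42000 600 (pK kX4) = true := by decide +kernel
theorem XS4_78 : allR 46800 600 (pK kX4) = true := by decide +kernel
theorem XS4_86 : allR 51600 600 (pK kX4) = true := by decide +kernel
theorem XS4_94 : allR 56400 600 (pK kX4) = true := by decide +kernel
theorem XS4_102 : allR 61200 600 (pK kX4) = true := by decide +kernel
theorem XS4_110 : allR 66000 600 (pK kX4) = true := by decide +kernel
theorem XS4_118 : allR 70800 600 (pK kX4) = true := by decide +kernel
theorem XS4_126 : allR 75600 600 (pK kX4) = true := by decide +kernel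
theorem XS4_134 : allR 80400 600 (pK kX4) = true := by decide +kernel
theorem XS4_142 : allR 85200 600 (pK kX4) = true := by decide +kernel
theorem XS4_150 : allR 90000 600 (pK kX4) = true := by decide +kernel
theorem XS4_158 : allR 94800 600 (pK kX4) = true := by decide +kernel
theorem XS4_166 : allR 99600 600 (pK kX4) = true := by decide +kernel
theorem XS4_174 : allR 104400 600 (pK kX4) = true := by decide +kernel
theorem XS4_182 : allR 109200 600 (pK kX4) = true := by decide +kernel
theorem XS4_190 : allR 114000 600 (pK kX4) = true := by decide +kernel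
theorem XS4_198 : allR 118800 600 (pK kX4) = true := by decide +kernel
theorem XS5_2 : allR 2180 1090 (pK kX5) = true := by decide +kernel
theorem XS5_5 : allR 5450 1090 (pK kX5) = true := by decide +kernel
theorem XS5_13 : allR 14170 1090 (pK kX5) = true := by decide +kernel
theorem XS5_21 : allR 22890 1090 (pK kX5) = true := by decide +kernel
theorem XS5_29 : allR 31610 1090 (pK kX5) = true := by decide +kernel
theorem XS5_37 : allR 40330 1090 (pK kX5) = true := by decide +kernel
theorem XS5_45 : allR 49050 1090 (pK kX5) = true := by decide +kernel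
theorem XS5_53 : allR 57770 1090 (pK kX5) = true := by decide +kernel
theorem XS5_61 : allR 66490 1090 (pK kX5) = true := by decide +kernel
theorem XS5_69 : allR 75210 1090 (pK kX5) = true := by decide +kernel
theorem XS5_77 : allR 83930 1090 (pK kX5) = true := by decide +kernel
theorem XS5_85 : allR 92650 1090 (pK kX5) = true := by decide +kernel
theorem XS5_93 : allR 101370 1090 (pK kX5) = true := by decide +kernel
theorem XS5_101 : allR 110090 1090 (pK kX5) = true := by decide +kernel
theorem XS5_109 : allR 118810 1090 (pK kX5) = true := by decide +kernel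
theorem XS6_5 : allR 5450 1090 (pK kX6) = true := by decide +kernel
theorem XS6_13 : allR 14170 1090 (pK kX6) = true := by decide +kernel
theorem XS6_21 : allR 22890 1090 (pK kX6) = true := by decide +kernel
theorem XS6_29 : allR 31610 1090 (pK kX6) = true := by decide +kernel
theorem XS6_37 : allR 40330 1090 (pK kX6) = true := by decide +kernel
theorem XS6_45 : allR 49050 1090 (pK kX6) = true := by decide +kernel
theorem XS6_53 : allR 57770 1090 (pK kX6) = true := by decide +kernel
theorem XS6_61 : allR 66490 1090 (pK kX6) = true := by decide +kernel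
theorem XS6_69 : allR 75210 1090 (pK kX6) = true := by decide +kernel
theorem XS6_77 : allR 83930 1090 (pK kX6) = true := by decide +kernel
theorem XS6_85 : allR 92650 1090 (pK kX6) = true := by decide +kernel
theorem XS6_93 : allR 101370 1090 (pK kX6) = true := by decide +kernel
theorem XS6_101 : allR 110090 1090 (pK kX6) = true := by decide +kernel
theorem XS6_109 : allR 118810 1090 (pK kX6) = true := by decide +kernel
theorem CX_4_7_40 : allR 120000 2760 (pK (coxK c4 c7 2)) = true := by decide +kernel
theorem INV5_30 : allR 120000 2760 (pInvK c5 c5) = true := by decide +kernel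
theorem CX_3_4_61 : allR 122000 760 (pK (coxK c3 c4 3)) = true := by decide +kernel
theorem XS2_102 : allR 122400 360 (pK kX2) = true := by decide +kernel

end Cfsg.Agent.Helper17.ONTC
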