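import Cfsg.Agent.Helper17.ONTC.FinLast
import Cfsg.Agent.Helper17.ONTC.PermDefs
import Cfsg.Agent.Helper17.ONTC.PermS1
import Cfsg.Agent.Helper17.ONTC.PermS2
import Cfsg.Agent.Helper17.ONTC.PermS3
import Cfsg.Agent.Helper17.ONTC.PermS4
import Cfsg.Agent.Helper17.ONTC.PermS5
import Cfsg.Agent.Helper17.ONTC.PermS6
import Cfsg.Agent.Helper17.ONTC.PermS7
import Cfsg.Agent.Helper17.ONTC.PermS8
import Cfsg.Agent.Helper17.TCGeneric
import Cfsg.Agent.Helper17.TCGeneric2

set_option autoImplicit false
set_option linter.all false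
set_option maxRecDepth 100000
set_option maxHeartbeats 0
set_option Elab.async false

noncomputable section

namespace Cfsg.Agent.Helper17.ONTC

open Cfsg.Spor Cfsg.Agent.Helper17.TCG

def colOf : ℕ → ℕ
  | 0 => c0
  | 1 => c1
  | 2 => c2
  | 3 => c3
  | 4 => c4
  | 5 => c5
  | 6 => c6
  | 7 => c7
  | _ => 0

def subW : ℕ → List ℕ
  | 0 => [2]
  | 1 => [3]
  | 2 => [4]
  | 3 => [5]
  | 4 => [6]
  | 5 => [7]
  | _ => []

def nsub : ℕ := 6

def idx : Gn → ℕ
  | .g => 0
  | .a => 2
  | .b => 3
  | .c => 4
  | .d => 5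
  | .e => 6
  | .f => 7

def gen : ℕ → Gn
  | 0 => .g
  | 1 => .g
  | 2 => .a
  | 3 => .b
  | 4 => .c
  | 5 => .d
  | 6 => .e
  | _ => .f

def subS : Set (FreeGroup Gn) := {ON.a, ON.b, ON.c, ON.d, ON.e, ON.f}

theorem li_li : ∀ l : ℕ, li (li l) = l
  | 0 => rfl
  | 1 => rfl
  | 2 => rfl
  | 3 => rfl
  | 4 => rfl
  | 5 => rfl
  | 6 => rfl
  | 7 => rfl
  | (l + 8) => rfl

theorem li_lt : ∀ l : ℕ, l < nl → li l < nl := by
  intro l hl
  unfold nl at hl ⊢
  interval_cases l <;> decide

theorem li_ge {l : ℕ} (h : nl ≤ l) : li l = l := by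
  obtain ⟨k, rfl⟩ := Nat.exists_eq_add_of_le h
  have : nl + k = k + 8 := by unfold nl; omega
  rw [this]
  rfl


def lk2 (l i : ℕ) : ℕ := lkc (colOf l) i

def tb (i l : ℕ) : ℕ := lk2 l i

theorem tb_eq (i l : ℕ) : tb i l = lk2 l i := rfl

def evalC (w : List ℕ) (i : ℕ) : ℕ :=
  List.rec (motive := fun _ => ℕ → ℕ) (fun i => i) (fun l _ ih i => ih (lk2 l i)) w i

theorem evalC_cons (l : ℕ) (w : List ℕ) (i : ℕ) : evalC (l :: w) i = evalC w (lk2 l i) := rfl



theorem evalC_eq_evalK (w : List ℕ) (i : ℕ) : evalC w i = evalK (w.map colOf) i := by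
  induction w generalizing i with
  | nil => rfl
  | cons l w ih => rw [evalC_cons, List.map_cons, evalK_cons, ih]; rfl


def ltAll (w : List ℕ) : Bool := w.all fun l => Nat.blt l nl

theorem ltAll_spec {w : List ℕ} (h : ltAll w = true) : ∀ l ∈ w, l < nl := by
  intro l hl
  simp only [ltAll, List.all_eq_true] at h
  have := h l hl
  rwa [Nat.blt_eq] at this


def pInv (l i : ℕ) : Bool := pInvK (colOf l) (colOf (li l)) i


theorem INV0_all : ∀ i, i < N → (pInvK c0 c1) i = true := by
  intro i hi
  have hN : N = 122760 := rfl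
  by_cases h0 : i < 4000
  · exact (allR_iff _ _ _).mp INV0_0 i (by omega) (by omega)
  by_cases h1 : i < 8000
  · exact (allR_iff _ _ _).mp INV0_1 i (by omega) (by omega)
  by_cases h2 : i < 12000
  · exact (allR_iff _ _ _).mp INV0_2 i (by omega) (by omega)
  by_cases h3 : i < 16000
  · exact (allR_iff _ _ _).mp INV0_3 i (by omega) (by omega)
  by_cases h4 : i < 20000
  · exact (allR_iff _ _ _).mp INV0_4 i (by omega) (by omega)
  by_cases h5 : i < 24000
  · exact (allR_iff _ _ _).mp INV0_5 i (by omega) (by omega)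
  by_cases h6 : i < 28000
  · exact (allR_iff _ _ _).mp INV0_6 i (by omega) (by omega)
  by_cases h7 : i < 32000
  · exact (allR_iff _ _ _).mp INV0_7 i (by omega) (by omega)
  by_cases h8 : i < 36000
  · exact (allR_iff _ _ _).mp INV0_8 i (by omega) (by omega)
  by_cases h9 : i < 40000
  · exact (allR_iff _ _ _).mp INV0_9 i (by omega) (by omega)
  by_cases h10 : i < 44000
  · exact (allR_iff _ _ _).mp INV0_10 i (by omega) (by omega)
  by_cases h11 : i < 48000
  · exact (allR_iff _ _ _).mp INV0_11 i (by omega) (by omega)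
  by_cases h12 : i < 52000
  · exact (allR_iff _ _ _).mp INV0_12 i (by omega) (by omega)
  by_cases h13 : i < 56000
  · exact (allR_iff _ _ _).mp INV0_13 i (by omega) (by omega)
  by_cases h14 : i < 60000
  · exact (allR_iff _ _ _).mp INV0_14 i (by omega) (by omega)
  by_cases h15 : i < 64000
  · exact (allR_iff _ _ _).mp INV0_15 i (by omega) (by omega)
  by_cases h16 : i < 68000
  · exact (allR_iff _ _ _).mp INV0_16 i (by omega) (by omega)
  by_cases h17 : i < 72000
  · exact (allR_iff _ _ _).mp INV0_17 i (by omega) (by omega)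
  by_cases h18 : i < 76000
  · exact (allR_iff _ _ _).mp INV0_18 i (by omega) (by omega)
  by_cases h19 : i < 80000
  · exact (allR_iff _ _ _).mp INV0_19 i (by omega) (by omega)
  by_cases h20 : i < 84000
  · exact (allR_iff _ _ _).mp INV0_20 i (by omega) (by omega)
  by_cases h21 : i < 88000
  · exact (allR_iff _ _ _).mp INV0_21 i (by omega) (by omega)
  by_cases h22 : i < 92000
  · exact (allR_iff _ _ _).mp INV0_22 i (by omega) (by omega)
  by_cases h23 : i < 96000
  · exact (allR_iff _ _ _).mp INV0_23 i (by omega) (by omega)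
  by_cases h24 : i < 100000
  · exact (allR_iff _ _ _).mp INV0_24 i (by omega) (by omega)
  by_cases h25 : i < 104000
  · exact (allR_iff _ _ _).mp INV0_25 i (by omega) (by omega)
  by_cases h26 : i < 108000
  · exact (allR_iff _ _ _).mp INV0_26 i (by omega) (by omega)
  by_cases h27 : i < 112000
  · exact (allR_iff _ _ _).mp INV0_27 i (by omega) (by omega)
  by_cases h28 : i < 116000
  · exact (allR_iff _ _ _).mp INV0_28 i (by omega) (by omega)
  by_cases h29 : i < 120000
  · exact (allR_iff _ _ _).mp INV0_29 i (by omega) (by omega)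
  exact (allR_iff _ _ _).mp INV0_30 i (by omega) (by omega)


theorem INV1_all : ∀ i, i < N → (pInvK c1 c0) i = true := by
  intro i hi
  have hN : N = 122760 := rfl
  by_cases h0 : i < 4000
  · exact (allR_iff _ _ _).mp INV1_0 i (by omega) (by omega)
  by_cases h1 : i < 8000
  · exact (allR_iff _ _ _).mp INV1_1 i (by omega) (by omega)
  by_cases h2 : i < 12000
  · exact (allR_iff _ _ _).mp INV1_2 i (by omega) (by omega)
  by_cases h3 : i < 16000
  · exact (allR_iff _ _ _).mp INV1_3 i (by omega) (by omega)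
  by_cases h4 : i < 20000
  · exact (allR_iff _ _ _).mp INV1_4 i (by omega) (by omega)
  by_cases h5 : i < 24000
  · exact (allR_iff _ _ _).mp INV1_5 i (by omega) (by omega)
  by_cases h6 : i < 28000
  · exact (allR_iff _ _ _).mp INV1_6 i (by omega) (by omega)
  by_cases h7 : i < 32000
  · exact (allR_iff _ _ _).mp INV1_7 i (by omega) (by omega)
  by_cases h8 : i < 36000
  · exact (allR_iff _ _ _).mp INV1_8 i (by omega) (by omega)
  by_cases h9 : i < 40000
  · exact (allR_iff _ _ _).mp INV1_9 i (by omega) (by omega)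
  by_cases h10 : i < 44000
  · exact (allR_iff _ _ _).mp INV1_10 i (by omega) (by omega)
  by_cases h11 : i < 48000
  · exact (allR_iff _ _ _).mp INV1_11 i (by omega) (by omega)
  by_cases h12 : i < 52000
  · exact (allR_iff _ _ _).mp INV1_12 i (by omega) (by omega)
  by_cases h13 : i < 56000
  · exact (allR_iff _ _ _).mp INV1_13 i (by omega) (by omega)
  by_cases h14 : i < 60000
  · exact (allR_iff _ _ _).mp INV1_14 i (by omega) (by omega)
  by_cases h15 : i < 64000
  · exact (allR_iff _ _ _).mp INV1_15 i (by omega) (by omega)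
  by_cases h16 : i < 68000
  · exact (allR_iff _ _ _).mp INV1_16 i (by omega) (by omega)
  by_cases h17 : i < 72000
  · exact (allR_iff _ _ _).mp INV1_17 i (by omega) (by omega)
  by_cases h18 : i < 76000
  · exact (allR_iff _ _ _).mp INV1_18 i (by omega) (by omega)
  by_cases h19 : i < 80000
  · exact (allR_iff _ _ _).mp INV1_19 i (by omega) (by omega)
  by_cases h20 : i < 84000
  · exact (allR_iff _ _ _).mp INV1_20 i (by omega) (by omega)
  by_cases h21 : i < 88000
  · exact (allR_iff _ _ _).mp INV1_21 i (by omega) (by omega)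
  by_cases h22 : i < 92000
  · exact (allR_iff _ _ _).mp INV1_22 i (by omega) (by omega)
  by_cases h23 : i < 96000
  · exact (allR_iff _ _ _).mp INV1_23 i (by omega) (by omega)
  by_cases h24 : i < 100000
  · exact (allR_iff _ _ _).mp INV1_24 i (by omega) (by omega)
  by_cases h25 : i < 104000
  · exact (allR_iff _ _ _).mp INV1_25 i (by omega) (by omega)
  by_cases h26 : i < 108000
  · exact (allR_iff _ _ _).mp INV1_26 i (by omega) (by omega)
  by_cases h27 : i < 112000
  · exact (allR_iff _ _ _).mp INV1_27 i (by omega) (by omega)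
  by_cases h28 : i < 116000
  · exact (allR_iff _ _ _).mp INV1_28 i (by omega) (by omega)
  by_cases h29 : i < 120000
  · exact (allR_iff _ _ _).mp INV1_29 i (by omega) (by omega)
  exact (allR_iff _ _ _).mp INV1_30 i (by omega) (by omega)


theorem INV2_all : ∀ i, i < N → (pInvK c2 c2) i = true := by
  intro i hi
  have hN : N = 122760 := rfl
  by_cases h0 : i < 4000
  · exact (allR_iff _ _ _).mp INV2_0 i (by omega) (by omega)
  by_cases h1 : i < 8000
  · exact (allR_iff _ _ _).mp INV2_1 i (by omega) (by omega)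
  by_cases h2 : i < 12000
  · exact (allR_iff _ _ _).mp INV2_2 i (by omega) (by omega)
  by_cases h3 : i < 16000
  · exact (allR_iff _ _ _).mp INV2_3 i (by omega) (by omega)
  by_cases h4 : i < 20000
  · exact (allR_iff _ _ _).mp INV2_4 i (by omega) (by omega)
  by_cases h5 : i < 24000
  · exact (allR_iff _ _ _).mp INV2_5 i (by omega) (by omega)
  by_cases h6 : i < 28000
  · exact (allR_iff _ _ _).mp INV2_6 i (by omega) (by omega)
  by_cases h7 : i < 32000
  · exact (allR_iff _ _ _).mp INV2_7 i (by omega) (by omega)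
  by_cases h8 : i < 36000
  · exact (allR_iff _ _ _).mp INV2_8 i (by omega) (by omega)
  by_cases h9 : i < 40000
  · exact (allR_iff _ _ _).mp INV2_9 i (by omega) (by omega)
  by_cases h10 : i < 44000
  · exact (allR_iff _ _ _).mp INV2_10 i (by omega) (by omega)
  by_cases h11 : i < 48000
  · exact (allR_iff _ _ _).mp INV2_11 i (by omega) (by omega)
  by_cases h12 : i < 52000
  · exact (allR_iff _ _ _).mp INV2_12 i (by omega) (by omega)
  by_cases h13 : i < 56000
  · exact (allR_iff _ _ _).mp INV2_13 i (by omega) (by omega)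
  by_cases h14 : i < 60000
  · exact (allR_iff _ _ _).mp INV2_14 i (by omega) (by omega)
  by_cases h15 : i < 64000
  · exact (allR_iff _ _ _).mp INV2_15 i (by omega) (by omega)
  by_cases h16 : i < 68000
  · exact (allR_iff _ _ _).mp INV2_16 i (by omega) (by omega)
  by_cases h17 : i < 72000
  · exact (allR_iff _ _ _).mp INV2_17 i (by omega) (by omega)
  by_cases h18 : i < 76000
  · exact (allR_iff _ _ _).mp INV2_18 i (by omega) (by omega)
  by_cases h19 : i < 80000
  · exact (allR_iff _ _ _).mp INV2_19 i (by omega) (by omega)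
  by_cases h20 : i < 84000
  · exact (allR_iff _ _ _).mp INV2_20 i (by omega) (by omega)
  by_cases h21 : i < 88000
  · exact (allR_iff _ _ _).mp INV2_21 i (by omega) (by omega)
  by_cases h22 : i < 92000
  · exact (allR_iff _ _ _).mp INV2_22 i (by omega) (by omega)
  by_cases h23 : i < 96000
  · exact (allR_iff _ _ _).mp INV2_23 i (by omega) (by omega)
  by_cases h24 : i < 100000
  · exact (allR_iff _ _ _).mp INV2_24 i (by omega) (by omega)
  by_cases h25 : i < 104000
  · exact (allR_iff _ _ _).mp INV2_25 i (by omega) (by omega)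
  by_cases h26 : i < 108000
  · exact (allR_iff _ _ _).mp INV2_26 i (by omega) (by omega)
  by_cases h27 : i < 112000
  · exact (allR_iff _ _ _).mp INV2_27 i (by omega) (by omega)
  by_cases h28 : i < 116000
  · exact (allR_iff _ _ _).mp INV2_28 i (by omega) (by omega)
  by_cases h29 : i < 120000
  · exact (allR_iff _ _ _).mp INV2_29 i (by omega) (by omega)
  exact (allR_iff _ _ _).mp INV2_30 i (by omega) (by omega)


theorem INV3_all : ∀ i, i < N → (pInvK c3 c3) i = true := by
  intro i hi
  have hN : N = 122760 := rfl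
  by_cases h0 : i < 4000
  · exact (allR_iff _ _ _).mp INV3_0 i (by omega) (by omega)
  by_cases h1 : i < 8000
  · exact (allR_iff _ _ _).mp INV3_1 i (by omega) (by omega)
  by_cases h2 : i < 12000
  · exact (allR_iff _ _ _).mp INV3_2 i (by omega) (by omega)
  by_cases h3 : i < 16000
  · exact (allR_iff _ _ _).mp INV3_3 i (by omega) (by omega)
  by_cases h4 : i < 20000
  · exact (allR_iff _ _ _).mp INV3_4 i (by omega) (by omega)
  by_cases h5 : i < 24000
  · exact (allR_iff _ _ _).mp INV3_5 i (by omega) (by omega)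
  by_cases h6 : i < 28000
  · exact (allR_iff _ _ _).mp INV3_6 i (by omega) (by omega)
  by_cases h7 : i < 32000
  · exact (allR_iff _ _ _).mp INV3_7 i (by omega) (by omega)
  by_cases h8 : i < 36000
  · exact (allR_iff _ _ _).mp INV3_8 i (by omega) (by omega)
  by_cases h9 : i < 40000
  · exact (allR_iff _ _ _).mp INV3_9 i (by omega) (by omega)
  by_cases h10 : i < 44000
  · exact (allR_iff _ _ _).mp INV3_10 i (by omega) (by omega)
  by_cases h11 : i < 48000
  · exact (allR_iff _ _ _).mp INV3_11 i (by omega) (by omega)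
  by_cases h12 : i < 52000
  · exact (allR_iff _ _ _).mp INV3_12 i (by omega) (by omega)
  by_cases h13 : i < 56000
  · exact (allR_iff _ _ _).mp INV3_13 i (by omega) (by omega)
  by_cases h14 : i < 60000
  · exact (allR_iff _ _ _).mp INV3_14 i (by omega) (by omega)
  by_cases h15 : i < 64000
  · exact (allR_iff _ _ _).mp INV3_15 i (by omega) (by omega)
  by_cases h16 : i < 68000
  · exact (allR_iff _ _ _).mp INV3_16 i (by omega) (by omega)
  by_cases h17 : i < 72000
  · exact (allR_iff _ _ _).mp INV3_17 i (by omega) (by omega)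
  by_cases h18 : i < 76000
  · exact (allR_iff _ _ _).mp INV3_18 i (by omega) (by omega)
  by_cases h19 : i < 80000
  · exact (allR_iff _ _ _).mp INV3_19 i (by omega) (by omega)
  by_cases h20 : i < 84000
  · exact (allR_iff _ _ _).mp INV3_20 i (by omega) (by omega)
  by_cases h21 : i < 88000
  · exact (allR_iff _ _ _).mp INV3_21 i (by omega) (by omega)
  by_cases h22 : i < 92000
  · exact (allR_iff _ _ _).mp INV3_22 i (by omega) (by omega)
  by_cases h23 : i < 96000
  · exact (allR_iff _ _ _).mp INV3_23 i (by omega) (by omega)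
  by_cases h24 : i < 100000
  · exact (allR_iff _ _ _).mp INV3_24 i (by omega) (by omega)
  by_cases h25 : i < 104000
  · exact (allR_iff _ _ _).mp INV3_25 i (by omega) (by omega)
  by_cases h26 : i < 108000
  · exact (allR_iff _ _ _).mp INV3_26 i (by omega) (by omega)
  by_cases h27 : i < 112000
  · exact (allR_iff _ _ _).mp INV3_27 i (by omega) (by omega)
  by_cases h28 : i < 116000
  · exact (allR_iff _ _ _).mp INV3_28 i (by omega) (by omega)
  by_cases h29 : i < 120000
  · exact (allR_iff _ _ _).mp INV3_29 i (by omega) (by omega)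
  exact (allR_iff _ _ _).mp INV3_30 i (by omega) (by omega)


theorem INV4_all : ∀ i, i < N → (pInvK c4 c4) i = true := by
  intro i hi
  have hN : N = 122760 := rfl
  by_cases h0 : i < 4000
  · exact (allR_iff _ _ _).mp INV4_0 i (by omega) (by omega)
  by_cases h1 : i < 8000
  · exact (allR_iff _ _ _).mp INV4_1 i (by omega) (by omega)
  by_cases h2 : i < 12000
  · exact (allR_iff _ _ _).mp INV4_2 i (by omega) (by omega)
  by_cases h3 : i < 16000
  · exact (allR_iff _ _ _).mp INV4_3 i (by omega) (by omega)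
  by_cases h4 : i < 20000
  · exact (allR_iff _ _ _).mp INV4_4 i (by omega) (by omega)
  by_cases h5 : i < 24000
  · exact (allR_iff _ _ _).mp INV4_5 i (by omega) (by omega)
  by_cases h6 : i < 28000
  · exact (allR_iff _ _ _).mp INV4_6 i (by omega) (by omega)
  by_cases h7 : i < 32000
  · exact (allR_iff _ _ _).mp INV4_7 i (by omega) (by omega)
  by_cases h8 : i < 36000
  · exact (allR_iff _ _ _).mp INV4_8 i (by omega) (by omega)
  by_cases h9 : i < 40000
  · exact (allR_iff _ _ _).mp INV4_9 i (by omega) (by omega)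
  by_cases h10 : i < 44000
  · exact (allR_iff _ _ _).mp INV4_10 i (by omega) (by omega)
  by_cases h11 : i < 48000
  · exact (allR_iff _ _ _).mp INV4_11 i (by omega) (by omega)
  by_cases h12 : i < 52000
  · exact (allR_iff _ _ _).mp INV4_12 i (by omega) (by omega)
  by_cases h13 : i < 56000
  · exact (allR_iff _ _ _).mp INV4_13 i (by omega) (by omega)
  by_cases h14 : i < 60000
  · exact (allR_iff _ _ _).mp INV4_14 i (by omega) (by omega)
  by_cases h15 : i < 64000
  · exact (allR_iff _ _ _).mp INV4_15 i (by omega) (by omega)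
  by_cases h16 : i < 68000
  · exact (allR_iff _ _ _).mp INV4_16 i (by omega) (by omega)
  by_cases h17 : i < 72000
  · exact (allR_iff _ _ _).mp INV4_17 i (by omega) (by omega)
  by_cases h18 : i < 76000
  · exact (allR_iff _ _ _).mp INV4_18 i (by omega) (by omega)
  by_cases h19 : i < 80000
  · exact (allR_iff _ _ _).mp INV4_19 i (by omega) (by omega)
  by_cases h20 : i < 84000
  · exact (allR_iff _ _ _).mp INV4_20 i (by omega) (by omega)
  by_cases h21 : i < 88000
  · exact (allR_iff _ _ _).mp INV4_21 i (by omega) (by omega)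
  by_cases h22 : i < 92000
  · exact (allR_iff _ _ _).mp INV4_22 i (by omega) (by omega)
  by_cases h23 : i < 96000
  · exact (allR_iff _ _ _).mp INV4_23 i (by omega) (by omega)
  by_cases h24 : i < 100000
  · exact (allR_iff _ _ _).mp INV4_24 i (by omega) (by omega)
  by_cases h25 : i < 104000
  · exact (allR_iff _ _ _).mp INV4_25 i (by omega) (by omega)
  by_cases h26 : i < 108000
  · exact (allR_iff _ _ _).mp INV4_26 i (by omega) (by omega)
  by_cases h27 : i < 112000
  · exact (allR_iff _ _ _).mp INV4_27 i (by omega) (by omega)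
  by_cases h28 : i < 116000
  · exact (allR_iff _ _ _).mp INV4_28 i (by omega) (by omega)
  by_cases h29 : i < 120000
  · exact (allR_iff _ _ _).mp INV4_29 i (by omega) (by omega)
  exact (allR_iff _ _ _).mp INV4_30 i (by omega) (by omega)


theorem INV5_all : ∀ i, i < N → (pInvK c5 c5) i = true := by
  intro i hi
  have hN : N = 122760 := rfl
  by_cases h0 : i < 4000
  · exact (allR_iff _ _ _).mp INV5_0 i (by omega) (by omega)
  by_cases h1 : i < 8000
  · exact (allR_iff _ _ _).mp INV5_1 i (by omega) (by omega)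
  by_cases h2 : i < 12000
  · exact (allR_iff _ _ _).mp INV5_2 i (by omega) (by omega)
  by_cases h3 : i < 16000
  · exact (allR_iff _ _ _).mp INV5_3 i (by omega) (by omega)
  by_cases h4 : i < 20000
  · exact (allR_iff _ _ _).mp INV5_4 i (by omega) (by omega)
  by_cases h5 : i < 24000
  · exact (allR_iff _ _ _).mp INV5_5 i (by omega) (by omega)
  by_cases h6 : i < 28000
  · exact (allR_iff _ _ _).mp INV5_6 i (by omega) (by omega)
  by_cases h7 : i < 32000
  · exact (allR_iff _ _ _).mp INV5_7 i (by omega) (by omega)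
  by_cases h8 : i < 36000
  · exact (allR_iff _ _ _).mp INV5_8 i (by omega) (by omega)
  by_cases h9 : i < 40000
  · exact (allR_iff _ _ _).mp INV5_9 i (by omega) (by omega)
  by_cases h10 : i < 44000
  · exact (allR_iff _ _ _).mp INV5_10 i (by omega) (by omega)
  by_cases h11 : i < 48000
  · exact (allR_iff _ _ _).mp INV5_11 i (by omega) (by omega)
  by_cases h12 : i < 52000
  · exact (allR_iff _ _ _).mp INV5_12 i (by omega) (by omega)
  by_cases h13 : i < 56000
  · exact (allR_iff _ _ _).mp INV5_13 i (by omega) (by omega)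
  by_cases h14 : i < 60000
  · exact (allR_iff _ _ _).mp INV5_14 i (by omega) (by omega)
  by_cases h15 : i < 64000
  · exact (allR_iff _ _ _).mp INV5_15 i (by omega) (by omega)
  by_cases h16 : i < 68000
  · exact (allR_iff _ _ _).mp INV5_16 i (by omega) (by omega)
  by_cases h17 : i < 72000
  · exact (allR_iff _ _ _).mp INV5_17 i (by omega) (by omega)
  by_cases h18 : i < 76000
  · exact (allR_iff _ _ _).mp INV5_18 i (by omega) (by omega)
  by_cases h19 : i < 80000
  · exact (allR_iff _ _ _).mp INV5_19 i (by omega) (by omega)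
  by_cases h20 : i < 84000
  · exact (allR_iff _ _ _).mp INV5_20 i (by omega) (by omega)
  by_cases h21 : i < 88000
  · exact (allR_iff _ _ _).mp INV5_21 i (by omega) (by omega)
  by_cases h22 : i < 92000
  · exact (allR_iff _ _ _).mp INV5_22 i (by omega) (by omega)
  by_cases h23 : i < 96000
  · exact (allR_iff _ _ _).mp INV5_23 i (by omega) (by omega)
  by_cases h24 : i < 100000
  · exact (allR_iff _ _ _).mp INV5_24 i (by omega) (by omega)
  by_cases h25 : i < 104000
  · exact (allR_iff _ _ _).mp INV5_25 i (by omega) (by omega)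
  by_cases h26 : i < 108000
  · exact (allR_iff _ _ _).mp INV5_26 i (by omega) (by omega)
  by_cases h27 : i < 112000
  · exact (allR_iff _ _ _).mp INV5_27 i (by omega) (by omega)
  by_cases h28 : i < 116000
  · exact (allR_iff _ _ _).mp INV5_28 i (by omega) (by omega)
  by_cases h29 : i < 120000
  · exact (allR_iff _ _ _).mp INV5_29 i (by omega) (by omega)
  exact (allR_iff _ _ _).mp INV5_30 i (by omega) (by omega)


theorem INV6_all : ∀ i, i < N → (pInvK c6 c6) i = true := by
  intro i hi
  have hN : N = 122760 := rfl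
  by_cases h0 : i < 4000
  · exact (allR_iff _ _ _).mp INV6_0 i (by omega) (by omega)
  by_cases h1 : i < 8000
  · exact (allR_iff _ _ _).mp INV6_1 i (by omega) (by omega)
  by_cases h2 : i < 12000
  · exact (allR_iff _ _ _).mp INV6_2 i (by omega) (by omega)
  by_cases h3 : i < 16000
  · exact (allR_iff _ _ _).mp INV6_3 i (by omega) (by omega)
  by_cases h4 : i < 20000
  · exact (allR_iff _ _ _).mp INV6_4 i (by omega) (by omega)
  by_cases h5 : i < 24000
  · exact (allR_iff _ _ _).mp INV6_5 i (by omega) (by omega)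
  by_cases h6 : i < 28000
  · exact (allR_iff _ _ _).mp INV6_6 i (by omega) (by omega)
  by_cases h7 : i < 32000
  · exact (allR_iff _ _ _).mp INV6_7 i (by omega) (by omega)
  by_cases h8 : i < 36000
  · exact (allR_iff _ _ _).mp INV6_8 i (by omega) (by omega)
  by_cases h9 : i < 40000
  · exact (allR_iff _ _ _).mp INV6_9 i (by omega) (by omega)
  by_cases h10 : i < 44000
  · exact (allR_iff _ _ _).mp INV6_10 i (by omega) (by omega)
  by_cases h11 : i < 48000
  · exact (allR_iff _ _ _).mp INV6_11 i (by omega) (by omega)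
  by_cases h12 : i < 52000
  · exact (allR_iff _ _ _).mp INV6_12 i (by omega) (by omega)
  by_cases h13 : i < 56000
  · exact (allR_iff _ _ _).mp INV6_13 i (by omega) (by omega)
  by_cases h14 : i < 60000
  · exact (allR_iff _ _ _).mp INV6_14 i (by omega) (by omega)
  by_cases h15 : i < 64000
  · exact (allR_iff _ _ _).mp INV6_15 i (by omega) (by omega)
  by_cases h16 : i < 68000
  · exact (allR_iff _ _ _).mp INV6_16 i (by omega) (by omega)
  by_cases h17 : i < 72000
  · exact (allR_iff _ _ _).mp INV6_17 i (by omega) (by omega)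
  by_cases h18 : i < 76000
  · exact (allR_iff _ _ _).mp INV6_18 i (by omega) (by omega)
  by_cases h19 : i < 80000
  · exact (allR_iff _ _ _).mp INV6_19 i (by omega) (by omega)
  by_cases h20 : i < 84000
  · exact (allR_iff _ _ _).mp INV6_20 i (by omega) (by omega)
  by_cases h21 : i < 88000
  · exact (allR_iff _ _ _).mp INV6_21 i (by omega) (by omega)
  by_cases h22 : i < 92000
  · exact (allR_iff _ _ _).mp INV6_22 i (by omega) (by omega)
  by_cases h23 : i < 96000
  · exact (allR_iff _ _ _).mp INV6_23 i (by omega) (by omega)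
  by_cases h24 : i < 100000
  · exact (allR_iff _ _ _).mp INV6_24 i (by omega) (by omega)
  by_cases h25 : i < 104000
  · exact (allR_iff _ _ _).mp INV6_25 i (by omega) (by omega)
  by_cases h26 : i < 108000
  · exact (allR_iff _ _ _).mp INV6_26 i (by omega) (by omega)
  by_cases h27 : i < 112000
  · exact (allR_iff _ _ _).mp INV6_27 i (by omega) (by omega)
  by_cases h28 : i < 116000
  · exact (allR_iff _ _ _).mp INV6_28 i (by omega) (by omega)
  by_cases h29 : i < 120000
  · exact (allR_iff _ _ _).mp INV6_29 i (by omega) (by omega)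
  exact (allR_iff _ _ _).mp INV6_30 i (by omega) (by omega)


theorem INV7_all : ∀ i, i < N → (pInvK c7 c7) i = true := by
  intro i hi
  have hN : N = 122760 := rfl
  by_cases h0 : i < 4000
  · exact (allR_iff _ _ _).mp INV7_0 i (by omega) (by omega)
  by_cases h1 : i < 8000
  · exact (allR_iff _ _ _).mp INV7_1 i (by omega) (by omega)
  by_cases h2 : i < 12000
  · exact (allR_iff _ _ _).mp INV7_2 i (by omega) (by omega)
  by_cases h3 : i < 16000
  · exact (allR_iff _ _ _).mp INV7_3 i (by omega) (by omega)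
  by_cases h4 : i < 20000
  · exact (allR_iff _ _ _).mp INV7_4 i (by omega) (by omega)
  by_cases h5 : i < 24000
  · exact (allR_iff _ _ _).mp INV7_5 i (by omega) (by omega)
  by_cases h6 : i < 28000
  · exact (allR_iff _ _ _).mp INV7_6 i (by omega) (by omega)
  by_cases h7 : i < 32000
  · exact (allR_iff _ _ _).mp INV7_7 i (by omega) (by omega)
  by_cases h8 : i < 36000
  · exact (allR_iff _ _ _).mp INV7_8 i (by omega) (by omega)
  by_cases h9 : i < 40000
  · exact (allR_iff _ _ _).mp INV7_9 i (by omega) (by omega)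
  by_cases h10 : i < 44000
  · exact (allR_iff _ _ _).mp INV7_10 i (by omega) (by omega)
  by_cases h11 : i < 48000
  · exact (allR_iff _ _ _).mp INV7_11 i (by omega) (by omega)
  by_cases h12 : i < 52000
  · exact (allR_iff _ _ _).mp INV7_12 i (by omega) (by omega)
  by_cases h13 : i < 56000
  · exact (allR_iff _ _ _).mp INV7_13 i (by omega) (by omega)
  by_cases h14 : i < 60000
  · exact (allR_iff _ _ _).mp INV7_14 i (by omega) (by omega)
  by_cases h15 : i < 64000
  · exact (allR_iff _ _ _).mp INV7_15 i (by omega) (by omega)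
  by_cases h16 : i < 68000
  · exact (allR_iff _ _ _).mp INV7_16 i (by omega) (by omega)
  by_cases h17 : i < 72000
  · exact (allR_iff _ _ _).mp INV7_17 i (by omega) (by omega)
  by_cases h18 : i < 76000
  · exact (allR_iff _ _ _).mp INV7_18 i (by omega) (by omega)
  by_cases h19 : i < 80000
  · exact (allR_iff _ _ _).mp INV7_19 i (by omega) (by omega)
  by_cases h20 : i < 84000
  · exact (allR_iff _ _ _).mp INV7_20 i (by omega) (by omega)
  by_cases h21 : i < 88000
  · exact (allR_iff _ _ _).mp INV7_21 i (by omega) (by omega)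
  by_cases h22 : i < 92000
  · exact (allR_iff _ _ _).mp INV7_22 i (by omega) (by omega)
  by_cases h23 : i < 96000
  · exact (allR_iff _ _ _).mp INV7_23 i (by omega) (by omega)
  by_cases h24 : i < 100000
  · exact (allR_iff _ _ _).mp INV7_24 i (by omega) (by omega)
  by_cases h25 : i < 104000
  · exact (allR_iff _ _ _).mp INV7_25 i (by omega) (by omega)
  by_cases h26 : i < 108000
  · exact (allR_iff _ _ _).mp INV7_26 i (by omega) (by omega)
  by_cases h27 : i < 112000
  · exact (allR_iff _ _ _).mp INV7_27 i (by omega) (by omega)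
  by_cases h28 : i < 116000
  · exact (allR_iff _ _ _).mp INV7_28 i (by omega) (by omega)
  by_cases h29 : i < 120000
  · exact (allR_iff _ _ _).mp INV7_29 i (by omega) (by omega)
  exact (allR_iff _ _ _).mp INV7_30 i (by omega) (by omega)

theorem INV_all : ∀ l, l < nl → ∀ i, i < N → pInv l i = true := by
  intro l hl
  unfold nl at hl
  interval_cases l
  · exact INV0_all
  · exact INV1_all
  · exact INV2_all
  · exact INV3_all
  · exact INV4_all
  · exact INV5_all
  · exact INV6_all
  · exact INV7_all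

theorem tb_spec {i l : ℕ} (hl : l < nl) (hi : i < N) : tb i l < N ∧ tb (tb i l) (li l) = i := by
  have h := INV_all l hl i hi
  simp only [pInv, pInvK, Bool.and_eq_true, nble_succ, nbeq] at h
  rw [tb_eq, tb_eq]
  exact h

def sg (l i : ℕ) : ℕ := if l < nl ∧ i < N then tb i l else i

theorem sg_li (l i : ℕ) : sg (li l) (sg l i) = i := by
  unfold sg
  by_cases h : l < nl ∧ i < N
  · obtain ⟨h1, h2⟩ := tb_spec h.1 h.2
    rw [if_pos h, if_pos ⟨li_lt l h.1, h1⟩, h2]
  · rw [if_neg h]
    by_cases h' : l < nl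
    · have hi : ¬ i < N := fun hi => h ⟨h', hi⟩
      rw [if_neg (fun hh => hi hh.2)]
    · rw [li_ge (not_lt.mp h'), if_neg h]

theorem sg_li' (l i : ℕ) : sg l (sg (li l) i) = i := by
  have := sg_li (li l) i
  rwa [li_li] at this

theorem sg_lt {l i : ℕ} (hi : i < N) : sg l i < N := by
  unfold sg
  split_ifs with h
  · exact (tb_spec h.1 h.2).1
  · exact hi

theorem sg_ge {l i : ℕ} (hi : N ≤ i) : sg l i = i := by
  unfold sg; rw [if_neg]; omega

def σ (l : ℕ) : Equiv.Perm ℕ := ⟨sg l, sg (li l), sg_li l, sg_li' l⟩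

theorem σ_apply (l i : ℕ) : σ l i = sg l i := rfl

theorem σ_inv (l : ℕ) : (σ l)⁻¹ = σ (li l) := Equiv.ext fun _ => rfl

def evalw : List ℕ → ℕ → ℕ
  | [], i => i
  | l :: w, i => evalw w (sg l i)

def permw : List ℕ → Equiv.Perm ℕ
  | [] => 1
  | l :: w => permw w * σ l

theorem permw_apply (w : List ℕ) (i : ℕ) : permw w i = evalw w i := by
  induction w generalizing i with
  | nil => rfl
  | cons l w ih => simp [permw, evalw, ih, σ_apply]

theorem evalw_ge (w : List ℕ) {i : ℕ} (hi : N ≤ i) : evalw w i = i := by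
  induction w with
  | nil => rfl
  | cons l w ih => rw [evalw, sg_ge hi, ih]

theorem evalw_lt (w : List ℕ) {i : ℕ} (hi : i < N) : evalw w i < N := by
  induction w generalizing i with
  | nil => exact hi
  | cons l w ih => rw [evalw]; exact ih (sg_lt hi)

theorem evalw_eq_evalC (w : List ℕ) (hw : ∀ l ∈ w, l < nl) {i : ℕ} (hi : i < N) :
    evalw w i = evalC w i := by
  induction w generalizing i with
  | nil => rfl
  | cons l w ih =>
    have hl : l < nl := hw l (List.mem_cons_self ..)
    have e : sg l i = lk2 l i := by unfold sg; rw [if_pos ⟨hl, hi⟩, tb_eq]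
    show evalw w (sg l i) = evalC (l :: w) i
    rw [evalC_cons, ← e]
    exact ih (fun l' h' => hw l' (List.mem_cons_of_mem _ h')) (sg_lt hi)

def pW (w : List ℕ) (i : ℕ) : Bool := Nat.beq (evalC w i) i

theorem permw_one {w : List ℕ} (h1 : ltAll w = true) (h2 : ∀ i, i < N → pW w i = true) :
    permw w = 1 := by
  ext i
  rw [permw_apply, Equiv.Perm.one_apply]
  by_cases hi : i < N
  · rw [evalw_eq_evalC w (ltAll_spec h1) hi]
    exact nbeq.mp (h2 i hi)
  · exact evalw_ge w (not_lt.mp hi)

theorem gen_idx (a : Gn) : gen (idx a) = a := by cases a <;> rfl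

theorem idx_lt (a : Gn) : idx a < nl := by cases a <;> decide

def fG (a : Gn) : Equiv.Perm ℕ := σ (idx a)

def coxW (i j m : ℕ) : List ℕ := (List.replicate m [j, i]).flatten


theorem coxW_map (i j m : ℕ) : (coxW i j m).map colOf = coxK (colOf i) (colOf j) m := by
  induction m with
  | zero => rfl
  | succ m ih =>
    simp only [coxW, coxK, List.replicate_succ, List.flatten_cons, List.map_append, List.map_cons,
      List.map_nil] at ih ⊢
    rw [ih]

theorem pW_of_pK {w cw : List ℕ} (hm : w.map colOf = cw) (h : ∀ i, i < N → pK cw i = true) :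
    ∀ i, i < N → pW w i = true := by
  intro i hi
  rw [pW, evalC_eq_evalK, hm]
  exact h i hi

theorem permw_coxW (i j m : ℕ) : permw (coxW i j m) = (σ i * σ j) ^ m := by
  induction m with
  | zero => rfl
  | succ m ih =>
    rw [pow_succ, ← ih]
    simp [coxW, List.replicate_succ, permw, mul_assoc]

theorem pow_swap {i j m : ℕ} (hi : (σ i)⁻¹ = σ i) (hj : (σ j)⁻¹ = σ j) (h : (σ j * σ i) ^ m = 1) :
    (σ i * σ j) ^ m = 1 := by
  have e : σ i * σ j = (σ j * σ i)⁻¹ := by rw [mul_inv_rev, hi, hj]
  rw [e, inv_pow, h, inv_one]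

def PC (i j : ℕ) : Prop := (σ i * σ j) ^ coxLabel ON.edges (gen i) (gen j) = 1

theorem σi0 : (σ 0)⁻¹ = σ 1 := σ_inv 0
theorem σi1 : (σ 1)⁻¹ = σ 0 := σ_inv 1
theorem σi2 : (σ 2)⁻¹ = σ 2 := σ_inv 2
theorem σi3 : (σ 3)⁻¹ = σ 3 := σ_inv 3
theorem σi4 : (σ 4)⁻¹ = σ 4 := σ_inv 4
theorem σi5 : (σ 5)⁻¹ = σ 5 := σ_inv 5
theorem σi6 : (σ 6)⁻¹ = σ 6 := σ_inv 6
theorem σi7 : (σ 7)⁻¹ = σ 7 := σ_inv 7


theorem CX_2_3_all : ∀ i, i < N → (pK (coxK c2 c3 3)) i = true := by
  intro i hi
  have hN : N = 122760 := rfl
  by_cases h0 : i < 2000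
  · exact (allR_iff _ _ _).mp CX_2_3_0 i (by omega) (by omega)
  by_cases h1 : i < 4000
  · exact (allR_iff _ _ _).mp CX_2_3_1 i (by omega) (by omega)
  by_cases h2 : i < 6000
  · exact (allR_iff _ _ _).mp CX_2_3_2 i (by omega) (by omega)
  by_cases h3 : i < 8000
  · exact (allR_iff _ _ _).mp CX_2_3_3 i (by omega) (by omega)
  by_cases h4 : i < 10000
  · exact (allR_iff _ _ _).mp CX_2_3_4 i (by omega) (by omega)
  by_cases h5 : i < 12000
  · exact (allR_iff _ _ _).mp CX_2_3_5 i (by omega) (by omega)
  by_cases h6 : i < 14000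
  · exact (allR_iff _ _ _).mp CX_2_3_6 i (by omega) (by omega)
  by_cases h7 : i < 16000
  · exact (allR_iff _ _ _).mp CX_2_3_7 i (by omega) (by omega)
  by_cases h8 : i < 18000
  · exact (allR_iff _ _ _).mp CX_2_3_8 i (by omega) (by omega)
  by_cases h9 : i < 20000
  · exact (allR_iff _ _ _).mp CX_2_3_9 i (by omega) (by omega)
  by_cases h10 : i < 22000
  · exact (allR_iff _ _ _).mp CX_2_3_10 i (by omega) (by omega)
  by_cases h11 : i < 24000
  · exact (allR_iff _ _ _).mp CX_2_3_11 i (by omega) (by omega)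
  by_cases h12 : i < 26000
  · exact (allR_iff _ _ _).mp CX_2_3_12 i (by omega) (by omega)
  by_cases h13 : i < 28000
  · exact (allR_iff _ _ _).mp CX_2_3_13 i (by omega) (by omega)
  by_cases h14 : i < 30000
  · exact (allR_iff _ _ _).mp CX_2_3_14 i (by omega) (by omega)
  by_cases h15 : i < 32000
  · exact (allR_iff _ _ _).mp CX_2_3_15 i (by omega) (by omega)
  by_cases h16 : i < 34000
  · exact (allR_iff _ _ _).mp CX_2_3_16 i (by omega) (by omega)
  by_cases h17 : i < 36000
  · exact (allR_iff _ _ _).mp CX_2_3_17 i (by omega) (by omega)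
  by_cases h18 : i < 38000
  · exact (allR_iff _ _ _).mp CX_2_3_18 i (by omega) (by omega)
  by_cases h19 : i < 40000
  · exact (allR_iff _ _ _).mp CX_2_3_19 i (by omega) (by omega)
  by_cases h20 : i < 42000
  · exact (allR_iff _ _ _).mp CX_2_3_20 i (by omega) (by omega)
  by_cases h21 : i < 44000
  · exact (allR_iff _ _ _).mp CX_2_3_21 i (by omega) (by omega)
  by_cases h22 : i < 46000
  · exact (allR_iff _ _ _).mp CX_2_3_22 i (by omega) (by omega)
  by_cases h23 : i < 48000
  · exact (allR_iff _ _ _).mp CX_2_3_23 i (by omega) (by omega)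
  by_cases h24 : i < 50000
  · exact (allR_iff _ _ _).mp CX_2_3_24 i (by omega) (by omega)
  by_cases h25 : i < 52000
  · exact (allR_iff _ _ _).mp CX_2_3_25 i (by omega) (by omega)
  by_cases h26 : i < 54000
  · exact (allR_iff _ _ _).mp CX_2_3_26 i (by omega) (by omega)
  by_cases h27 : i < 56000
  · exact (allR_iff _ _ _).mp CX_2_3_27 i (by omega) (by omega)
  by_cases h28 : i < 58000
  · exact (allR_iff _ _ _).mp CX_2_3_28 i (by omega) (by omega)
  by_cases h29 : i < 60000
  · exact (allR_iff _ _ _).mp CX_2_3_29 i (by omega) (by omega)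
  by_cases h30 : i < 62000
  · exact (allR_iff _ _ _).mp CX_2_3_30 i (by omega) (by omega)
  by_cases h31 : i < 64000
  · exact (allR_iff _ _ _).mp CX_2_3_31 i (by omega) (by omega)
  by_cases h32 : i < 66000
  · exact (allR_iff _ _ _).mp CX_2_3_32 i (by omega) (by omega)
  by_cases h33 : i < 68000
  · exact (allR_iff _ _ _).mp CX_2_3_33 i (by omega) (by omega)
  by_cases h34 : i < 70000
  · exact (allR_iff _ _ _).mp CX_2_3_34 i (by omega) (by omega)
  by_cases h35 : i < 72000
  · exact (allR_iff _ _ _).mp CX_2_3_35 i (by omega) (by omega)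
  by_cases h36 : i < 74000
  · exact (allR_iff _ _ _).mp CX_2_3_36 i (by omega) (by omega)
  by_cases h37 : i < 76000
  · exact (allR_iff _ _ _).mp CX_2_3_37 i (by omega) (by omega)
  by_cases h38 : i < 78000
  · exact (allR_iff _ _ _).mp CX_2_3_38 i (by omega) (by omega)
  by_cases h39 : i < 80000
  · exact (allR_iff _ _ _).mp CX_2_3_39 i (by omega) (by omega)
  by_cases h40 : i < 82000
  · exact (allR_iff _ _ _).mp CX_2_3_40 i (by omega) (by omega)
  by_cases h41 : i < 84000
  · exact (allR_iff _ _ _).mp CX_2_3_41 i (by omega) (by omega)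
  by_cases h42 : i < 86000
  · exact (allR_iff _ _ _).mp CX_2_3_42 i (by omega) (by omega)
  by_cases h43 : i < 88000
  · exact (allR_iff _ _ _).mp CX_2_3_43 i (by omega) (by omega)
  by_cases h44 : i < 90000
  · exact (allR_iff _ _ _).mp CX_2_3_44 i (by omega) (by omega)
  by_cases h45 : i < 92000
  · exact (allR_iff _ _ _).mp CX_2_3_45 i (by omega) (by omega)
  by_cases h46 : i < 94000
  · exact (allR_iff _ _ _).mp CX_2_3_46 i (by omega) (by omega)
  by_cases h47 : i < 96000
  · exact (allR_iff _ _ _).mp CX_2_3_47 i (by omega) (by omega)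
  by_cases h48 : i < 98000
  · exact (allR_iff _ _ _).mp CX_2_3_48 i (by omega) (by omega)
  by_cases h49 : i < 100000
  · exact (allR_iff _ _ _).mp CX_2_3_49 i (by omega) (by omega)
  by_cases h50 : i < 102000
  · exact (allR_iff _ _ _).mp CX_2_3_50 i (by omega) (by omega)
  by_cases h51 : i < 104000
  · exact (allR_iff _ _ _).mp CX_2_3_51 i (by omega) (by omega)
  by_cases h52 : i < 106000
  · exact (allR_iff _ _ _).mp CX_2_3_52 i (by omega) (by omega)
  by_cases h53 : i < 108000
  · exact (allR_iff _ _ _).mp CX_2_3_53 i (by omega) (by omega)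
  by_cases h54 : i < 110000
  · exact (allR_iff _ _ _).mp CX_2_3_54 i (by omega) (by omega)
  by_cases h55 : i < 112000
  · exact (allR_iff _ _ _).mp CX_2_3_55 i (by omega) (by omega)
  by_cases h56 : i < 114000
  · exact (allR_iff _ _ _).mp CX_2_3_56 i (by omega) (by omega)
  by_cases h57 : i < 116000
  · exact (allR_iff _ _ _).mp CX_2_3_57 i (by omega) (by omega)
  by_cases h58 : i < 118000
  · exact (allR_iff _ _ _).mp CX_2_3_58 i (by omega) (by omega)
  by_cases h59 : i < 120000
  · exact (allR_iff _ _ _).mp CX_2_3_59 i (by omega) (by omega)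
  by_cases h60 : i < 122000
  · exact (allR_iff _ _ _).mp CX_2_3_60 i (by omega) (by omega)
  exact (allR_iff _ _ _).mp CX_2_3_61 i (by omega) (by omega)


theorem CX_2_4_all : ∀ i, i < N → (pK (coxK c2 c4 2)) i = true := by
  intro i hi
  have hN : N = 122760 := rfl
  by_cases h0 : i < 3000
  · exact (allR_iff _ _ _).mp CX_2_4_0 i (by omega) (by omega)
  by_cases h1 : i < 6000
  · exact (allR_iff _ _ _).mp CX_2_4_1 i (by omega) (by omega)
  by_cases h2 : i < 9000
  · exact (allR_iff _ _ _).mp CX_2_4_2 i (by omega) (by omega)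
  by_cases h3 : i < 12000
  · exact (allR_iff _ _ _).mp CX_2_4_3 i (by omega) (by omega)
  by_cases h4 : i < 15000
  · exact (allR_iff _ _ _).mp CX_2_4_4 i (by omega) (by omega)
  by_cases h5 : i < 18000
  · exact (allR_iff _ _ _).mp CX_2_4_5 i (by omega) (by omega)
  by_cases h6 : i < 21000
  · exact (allR_iff _ _ _).mp CX_2_4_6 i (by omega) (by omega)
  by_cases h7 : i < 24000
  · exact (allR_iff _ _ _).mp CX_2_4_7 i (by omega) (by omega)
  by_cases h8 : i < 27000
  · exact (allR_iff _ _ _).mp CX_2_4_8 i (by omega) (by omega)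
  by_cases h9 : i < 30000
  · exact (allR_iff _ _ _).mp CX_2_4_9 i (by omega) (by omega)
  by_cases h10 : i < 33000
  · exact (allR_iff _ _ _).mp CX_2_4_10 i (by omega) (by omega)
  by_cases h11 : i < 36000
  · exact (allR_iff _ _ _).mp CX_2_4_11 i (by omega) (by omega)
  by_cases h12 : i < 39000
  · exact (allR_iff _ _ _).mp CX_2_4_12 i (by omega) (by omega)
  by_cases h13 : i < 42000
  · exact (allR_iff _ _ _).mp CX_2_4_13 i (by omega) (by omega)
  by_cases h14 : i < 45000
  · exact (allR_iff _ _ _).mp CX_2_4_14 i (by omega) (by omega)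
  by_cases h15 : i < 48000
  · exact (allR_iff _ _ _).mp CX_2_4_15 i (by omega) (by omega)
  by_cases h16 : i < 51000
  · exact (allR_iff _ _ _).mp CX_2_4_16 i (by omega) (by omega)
  by_cases h17 : i < 54000
  · exact (allR_iff _ _ _).mp CX_2_4_17 i (by omega) (by omega)
  by_cases h18 : i < 57000
  · exact (allR_iff _ _ _).mp CX_2_4_18 i (by omega) (by omega)
  by_cases h19 : i < 60000
  · exact (allR_iff _ _ _).mp CX_2_4_19 i (by omega) (by omega)
  by_cases h20 : i < 63000
  · exact (allR_iff _ _ _).mp CX_2_4_20 i (by omega) (by omega)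
  by_cases h21 : i < 66000
  · exact (allR_iff _ _ _).mp CX_2_4_21 i (by omega) (by omega)
  by_cases h22 : i < 69000
  · exact (allR_iff _ _ _).mp CX_2_4_22 i (by omega) (by omega)
  by_cases h23 : i < 72000
  · exact (allR_iff _ _ _).mp CX_2_4_23 i (by omega) (by omega)
  by_cases h24 : i < 75000
  · exact (allR_iff _ _ _).mp CX_2_4_24 i (by omega) (by omega)
  by_cases h25 : i < 78000
  · exact (allR_iff _ _ _).mp CX_2_4_25 i (by omega) (by omega)
  by_cases h26 : i < 81000
  · exact (allR_iff _ _ _).mp CX_2_4_26 i (by omega) (by omega)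
  by_cases h27 : i < 84000
  · exact (allR_iff _ _ _).mp CX_2_4_27 i (by omega) (by omega)
  by_cases h28 : i < 87000
  · exact (allR_iff _ _ _).mp CX_2_4_28 i (by omega) (by omega)
  by_cases h29 : i < 90000
  · exact (allR_iff _ _ _).mp CX_2_4_29 i (by omega) (by omega)
  by_cases h30 : i < 93000
  · exact (allR_iff _ _ _).mp CX_2_4_30 i (by omega) (by omega)
  by_cases h31 : i < 96000
  · exact (allR_iff _ _ _).mp CX_2_4_31 i (by omega) (by omega)
  by_cases h32 : i < 99000
  · exact (allR_iff _ _ _).mp CX_2_4_32 i (by omega) (by omega)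
  by_cases h33 : i < 102000
  · exact (allR_iff _ _ _).mp CX_2_4_33 i (by omega) (by omega)
  by_cases h34 : i < 105000
  · exact (allR_iff _ _ _).mp CX_2_4_34 i (by omega) (by omega)
  by_cases h35 : i < 108000
  · exact (allR_iff _ _ _).mp CX_2_4_35 i (by omega) (by omega)
  by_cases h36 : i < 111000
  · exact (allR_iff _ _ _).mp CX_2_4_36 i (by omega) (by omega)
  by_cases h37 : i < 114000
  · exact (allR_iff _ _ _).mp CX_2_4_37 i (by omega) (by omega)
  by_cases h38 : i < 117000
  · exact (allR_iff _ _ _).mp CX_2_4_38 i (by omega) (by omega)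
  by_cases h39 : i < 120000
  · exact (allR_iff _ _ _).mp CX_2_4_39 i (by omega) (by omega)
  exact (allR_iff _ _ _).mp CX_2_4_40 i (by omega) (by omega)


theorem CX_2_5_all : ∀ i, i < N → (pK (coxK c2 c5 2)) i = true := by
  intro i hi
  have hN : N = 122760 := rfl
  by_cases h0 : i < 3000
  · exact (allR_iff _ _ _).mp CX_2_5_0 i (by omega) (by omega)
  by_cases h1 : i < 6000
  · exact (allR_iff _ _ _).mp CX_2_5_1 i (by omega) (by omega)
  by_cases h2 : i < 9000
  · exact (allR_iff _ _ _).mp CX_2_5_2 i (by omega) (by omega)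
  by_cases h3 : i < 12000
  · exact (allR_iff _ _ _).mp CX_2_5_3 i (by omega) (by omega)
  by_cases h4 : i < 15000
  · exact (allR_iff _ _ _).mp CX_2_5_4 i (by omega) (by omega)
  by_cases h5 : i < 18000
  · exact (allR_iff _ _ _).mp CX_2_5_5 i (by omega) (by omega)
  by_cases h6 : i < 21000
  · exact (allR_iff _ _ _).mp CX_2_5_6 i (by omega) (by omega)
  by_cases h7 : i < 24000
  · exact (allR_iff _ _ _).mp CX_2_5_7 i (by omega) (by omega)
  by_cases h8 : i < 27000
  · exact (allR_iff _ _ _).mp CX_2_5_8 i (by omega) (by omega)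
  by_cases h9 : i < 30000
  · exact (allR_iff _ _ _).mp CX_2_5_9 i (by omega) (by omega)
  by_cases h10 : i < 33000
  · exact (allR_iff _ _ _).mp CX_2_5_10 i (by omega) (by omega)
  by_cases h11 : i < 36000
  · exact (allR_iff _ _ _).mp CX_2_5_11 i (by omega) (by omega)
  by_cases h12 : i < 39000
  · exact (allR_iff _ _ _).mp CX_2_5_12 i (by omega) (by omega)
  by_cases h13 : i < 42000
  · exact (allR_iff _ _ _).mp CX_2_5_13 i (by omega) (by omega)
  by_cases h14 : i < 45000
  · exact (allR_iff _ _ _).mp CX_2_5_14 i (by omega) (by omega)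
  by_cases h15 : i < 48000
  · exact (allR_iff _ _ _).mp CX_2_5_15 i (by omega) (by omega)
  by_cases h16 : i < 51000
  · exact (allR_iff _ _ _).mp CX_2_5_16 i (by omega) (by omega)
  by_cases h17 : i < 54000
  · exact (allR_iff _ _ _).mp CX_2_5_17 i (by omega) (by omega)
  by_cases h18 : i < 57000
  · exact (allR_iff _ _ _).mp CX_2_5_18 i (by omega) (by omega)
  by_cases h19 : i < 60000
  · exact (allR_iff _ _ _).mp CX_2_5_19 i (by omega) (by omega)
  by_cases h20 : i < 63000
  · exact (allR_iff _ _ _).mp CX_2_5_20 i (by omega) (by omega)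
  by_cases h21 : i < 66000
  · exact (allR_iff _ _ _).mp CX_2_5_21 i (by omega) (by omega)
  by_cases h22 : i < 69000
  · exact (allR_iff _ _ _).mp CX_2_5_22 i (by omega) (by omega)
  by_cases h23 : i < 72000
  · exact (allR_iff _ _ _).mp CX_2_5_23 i (by omega) (by omega)
  by_cases h24 : i < 75000
  · exact (allR_iff _ _ _).mp CX_2_5_24 i (by omega) (by omega)
  by_cases h25 : i < 78000
  · exact (allR_iff _ _ _).mp CX_2_5_25 i (by omega) (by omega)
  by_cases h26 : i < 81000
  · exact (allR_iff _ _ _).mp CX_2_5_26 i (by omega) (by omega)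
  by_cases h27 : i < 84000
  · exact (allR_iff _ _ _).mp CX_2_5_27 i (by omega) (by omega)
  by_cases h28 : i < 87000
  · exact (allR_iff _ _ _).mp CX_2_5_28 i (by omega) (by omega)
  by_cases h29 : i < 90000
  · exact (allR_iff _ _ _).mp CX_2_5_29 i (by omega) (by omega)
  by_cases h30 : i < 93000
  · exact (allR_iff _ _ _).mp CX_2_5_30 i (by omega) (by omega)
  by_cases h31 : i < 96000
  · exact (allR_iff _ _ _).mp CX_2_5_31 i (by omega) (by omega)
  by_cases h32 : i < 99000
  · exact (allR_iff _ _ _).mp CX_2_5_32 i (by omega) (by omega)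
  by_cases h33 : i < 102000
  · exact (allR_iff _ _ _).mp CX_2_5_33 i (by omega) (by omega)
  by_cases h34 : i < 105000
  · exact (allR_iff _ _ _).mp CX_2_5_34 i (by omega) (by omega)
  by_cases h35 : i < 108000
  · exact (allR_iff _ _ _).mp CX_2_5_35 i (by omega) (by omega)
  by_cases h36 : i < 111000
  · exact (allR_iff _ _ _).mp CX_2_5_36 i (by omega) (by omega)
  by_cases h37 : i < 114000
  · exact (allR_iff _ _ _).mp CX_2_5_37 i (by omega) (by omega)
  by_cases h38 : i < 117000
  · exact (allR_iff _ _ _).mp CX_2_5_38 i (by omega) (by omega)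
  by_cases h39 : i < 120000
  · exact (allR_iff _ _ _).mp CX_2_5_39 i (by omega) (by omega)
  exact (allR_iff _ _ _).mp CX_2_5_40 i (by omega) (by omega)


theorem CX_2_6_all : ∀ i, i < N → (pK (coxK c2 c6 2)) i = true := by
  intro i hi
  have hN : N = 122760 := rfl
  by_cases h0 : i < 3000
  · exact (allR_iff _ _ _).mp CX_2_6_0 i (by omega) (by omega)
  by_cases h1 : i < 6000
  · exact (allR_iff _ _ _).mp CX_2_6_1 i (by omega) (by omega)
  by_cases h2 : i < 9000
  · exact (allR_iff _ _ _).mp CX_2_6_2 i (by omega) (by omega)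
  by_cases h3 : i < 12000
  · exact (allR_iff _ _ _).mp CX_2_6_3 i (by omega) (by omega)
  by_cases h4 : i < 15000
  · exact (allR_iff _ _ _).mp CX_2_6_4 i (by omega) (by omega)
  by_cases h5 : i < 18000
  · exact (allR_iff _ _ _).mp CX_2_6_5 i (by omega) (by omega)
  by_cases h6 : i < 21000
  · exact (allR_iff _ _ _).mp CX_2_6_6 i (by omega) (by omega)
  by_cases h7 : i < 24000
  · exact (allR_iff _ _ _).mp CX_2_6_7 i (by omega) (by omega)
  by_cases h8 : i < 27000
  · exact (allR_iff _ _ _).mp CX_2_6_8 i (by omega) (by omega)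
  by_cases h9 : i < 30000
  · exact (allR_iff _ _ _).mp CX_2_6_9 i (by omega) (by omega)
  by_cases h10 : i < 33000
  · exact (allR_iff _ _ _).mp CX_2_6_10 i (by omega) (by omega)
  by_cases h11 : i < 36000
  · exact (allR_iff _ _ _).mp CX_2_6_11 i (by omega) (by omega)
  by_cases h12 : i < 39000
  · exact (allR_iff _ _ _).mp CX_2_6_12 i (by omega) (by omega)
  by_cases h13 : i < 42000
  · exact (allR_iff _ _ _).mp CX_2_6_13 i (by omega) (by omega)
  by_cases h14 : i < 45000
  · exact (allR_iff _ _ _).mp CX_2_6_14 i (by omega) (by omega)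
  by_cases h15 : i < 48000
  · exact (allR_iff _ _ _).mp CX_2_6_15 i (by omega) (by omega)
  by_cases h16 : i < 51000
  · exact (allR_iff _ _ _).mp CX_2_6_16 i (by omega) (by omega)
  by_cases h17 : i < 54000
  · exact (allR_iff _ _ _).mp CX_2_6_17 i (by omega) (by omega)
  by_cases h18 : i < 57000
  · exact (allR_iff _ _ _).mp CX_2_6_18 i (by omega) (by omega)
  by_cases h19 : i < 60000
  · exact (allR_iff _ _ _).mp CX_2_6_19 i (by omega) (by omega)
  by_cases h20 : i < 63000
  · exact (allR_iff _ _ _).mp CX_2_6_20 i (by omega) (by omega)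
  by_cases h21 : i < 66000
  · exact (allR_iff _ _ _).mp CX_2_6_21 i (by omega) (by omega)
  by_cases h22 : i < 69000
  · exact (allR_iff _ _ _).mp CX_2_6_22 i (by omega) (by omega)
  by_cases h23 : i < 72000
  · exact (allR_iff _ _ _).mp CX_2_6_23 i (by omega) (by omega)
  by_cases h24 : i < 75000
  · exact (allR_iff _ _ _).mp CX_2_6_24 i (by omega) (by omega)
  by_cases h25 : i < 78000
  · exact (allR_iff _ _ _).mp CX_2_6_25 i (by omega) (by omega)
  by_cases h26 : i < 81000
  · exact (allR_iff _ _ _).mp CX_2_6_26 i (by omega) (by omega)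
  by_cases h27 : i < 84000
  · exact (allR_iff _ _ _).mp CX_2_6_27 i (by omega) (by omega)
  by_cases h28 : i < 87000
  · exact (allR_iff _ _ _).mp CX_2_6_28 i (by omega) (by omega)
  by_cases h29 : i < 90000
  · exact (allR_iff _ _ _).mp CX_2_6_29 i (by omega) (by omega)
  by_cases h30 : i < 93000
  · exact (allR_iff _ _ _).mp CX_2_6_30 i (by omega) (by omega)
  by_cases h31 : i < 96000
  · exact (allR_iff _ _ _).mp CX_2_6_31 i (by omega) (by omega)
  by_cases h32 : i < 99000
  · exact (allR_iff _ _ _).mp CX_2_6_32 i (by omega) (by omega)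
  by_cases h33 : i < 102000
  · exact (allR_iff _ _ _).mp CX_2_6_33 i (by omega) (by omega)
  by_cases h34 : i < 105000
  · exact (allR_iff _ _ _).mp CX_2_6_34 i (by omega) (by omega)
  by_cases h35 : i < 108000
  · exact (allR_iff _ _ _).mp CX_2_6_35 i (by omega) (by omega)
  by_cases h36 : i < 111000
  · exact (allR_iff _ _ _).mp CX_2_6_36 i (by omega) (by omega)
  by_cases h37 : i < 114000
  · exact (allR_iff _ _ _).mp CX_2_6_37 i (by omega) (by omega)
  by_cases h38 : i < 117000
  · exact (allR_iff _ _ _).mp CX_2_6_38 i (by omega) (by omega)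
  by_cases h39 : i < 120000
  · exact (allR_iff _ _ _).mp CX_2_6_39 i (by omega) (by omega)
  exact (allR_iff _ _ _).mp CX_2_6_40 i (by omega) (by omega)


theorem CX_2_7_all : ∀ i, i < N → (pK (coxK c2 c7 2)) i = true := by
  intro i hi
  have hN : N = 122760 := rfl
  by_cases h0 : i < 3000
  · exact (allR_iff _ _ _).mp CX_2_7_0 i (by omega) (by omega)
  by_cases h1 : i < 6000
  · exact (allR_iff _ _ _).mp CX_2_7_1 i (by omega) (by omega)
  by_cases h2 : i < 9000
  · exact (allR_iff _ _ _).mp CX_2_7_2 i (by omega) (by omega)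
  by_cases h3 : i < 12000
  · exact (allR_iff _ _ _).mp CX_2_7_3 i (by omega) (by omega)
  by_cases h4 : i < 15000
  · exact (allR_iff _ _ _).mp CX_2_7_4 i (by omega) (by omega)
  by_cases h5 : i < 18000
  · exact (allR_iff _ _ _).mp CX_2_7_5 i (by omega) (by omega)
  by_cases h6 : i < 21000
  · exact (allR_iff _ _ _).mp CX_2_7_6 i (by omega) (by omega)
  by_cases h7 : i < 24000
  · exact (allR_iff _ _ _).mp CX_2_7_7 i (by omega) (by omega)
  by_cases h8 : i < 27000
  · exact (allR_iff _ _ _).mp CX_2_7_8 i (by omega) (by omega)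
  by_cases h9 : i < 30000
  · exact (allR_iff _ _ _).mp CX_2_7_9 i (by omega) (by omega)
  by_cases h10 : i < 33000
  · exact (allR_iff _ _ _).mp CX_2_7_10 i (by omega) (by omega)
  by_cases h11 : i < 36000
  · exact (allR_iff _ _ _).mp CX_2_7_11 i (by omega) (by omega)
  by_cases h12 : i < 39000
  · exact (allR_iff _ _ _).mp CX_2_7_12 i (by omega) (by omega)
  by_cases h13 : i < 42000
  · exact (allR_iff _ _ _).mp CX_2_7_13 i (by omega) (by omega)
  by_cases h14 : i < 45000
  · exact (allR_iff _ _ _).mp CX_2_7_14 i (by omega) (by omega)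
  by_cases h15 : i < 48000
  · exact (allR_iff _ _ _).mp CX_2_7_15 i (by omega) (by omega)
  by_cases h16 : i < 51000
  · exact (allR_iff _ _ _).mp CX_2_7_16 i (by omega) (by omega)
  by_cases h17 : i < 54000
  · exact (allR_iff _ _ _).mp CX_2_7_17 i (by omega) (by omega)
  by_cases h18 : i < 57000
  · exact (allR_iff _ _ _).mp CX_2_7_18 i (by omega) (by omega)
  by_cases h19 : i < 60000
  · exact (allR_iff _ _ _).mp CX_2_7_19 i (by omega) (by omega)
  by_cases h20 : i < 63000
  · exact (allR_iff _ _ _).mp CX_2_7_20 i (by omega) (by omega)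
  by_cases h21 : i < 66000
  · exact (allR_iff _ _ _).mp CX_2_7_21 i (by omega) (by omega)
  by_cases h22 : i < 69000
  · exact (allR_iff _ _ _).mp CX_2_7_22 i (by omega) (by omega)
  by_cases h23 : i < 72000
  · exact (allR_iff _ _ _).mp CX_2_7_23 i (by omega) (by omega)
  by_cases h24 : i < 75000
  · exact (allR_iff _ _ _).mp CX_2_7_24 i (by omega) (by omega)
  by_cases h25 : i < 78000
  · exact (allR_iff _ _ _).mp CX_2_7_25 i (by omega) (by omega)
  by_cases h26 : i < 81000
  · exact (allR_iff _ _ _).mp CX_2_7_26 i (by omega) (by omega)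
  by_cases h27 : i < 84000
  · exact (allR_iff _ _ _).mp CX_2_7_27 i (by omega) (by omega)
  by_cases h28 : i < 87000
  · exact (allR_iff _ _ _).mp CX_2_7_28 i (by omega) (by omega)
  by_cases h29 : i < 90000
  · exact (allR_iff _ _ _).mp CX_2_7_29 i (by omega) (by omega)
  by_cases h30 : i < 93000
  · exact (allR_iff _ _ _).mp CX_2_7_30 i (by omega) (by omega)
  by_cases h31 : i < 96000
  · exact (allR_iff _ _ _).mp CX_2_7_31 i (by omega) (by omega)
  by_cases h32 : i < 99000
  · exact (allR_iff _ _ _).mp CX_2_7_32 i (by omega) (by omega)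
  by_cases h33 : i < 102000
  · exact (allR_iff _ _ _).mp CX_2_7_33 i (by omega) (by omega)
  by_cases h34 : i < 105000
  · exact (allR_iff _ _ _).mp CX_2_7_34 i (by omega) (by omega)
  by_cases h35 : i < 108000
  · exact (allR_iff _ _ _).mp CX_2_7_35 i (by omega) (by omega)
  by_cases h36 : i < 111000
  · exact (allR_iff _ _ _).mp CX_2_7_36 i (by omega) (by omega)
  by_cases h37 : i < 114000
  · exact (allR_iff _ _ _).mp CX_2_7_37 i (by omega) (by omega)
  by_cases h38 : i < 117000
  · exact (allR_iff _ _ _).mp CX_2_7_38 i (by omega) (by omega)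
  by_cases h39 : i < 120000
  · exact (allR_iff _ _ _).mp CX_2_7_39 i (by omega) (by omega)
  exact (allR_iff _ _ _).mp CX_2_7_40 i (by omega) (by omega)


theorem CX_3_4_all : ∀ i, i < N → (pK (coxK c3 c4 3)) i = true := by
  intro i hi
  have hN : N = 122760 := rfl
  by_cases h0 : i < 2000
  · exact (allR_iff _ _ _).mp CX_3_4_0 i (by omega) (by omega)
  by_cases h1 : i < 4000
  · exact (allR_iff _ _ _).mp CX_3_4_1 i (by omega) (by omega)
  by_cases h2 : i < 6000
  · exact (allR_iff _ _ _).mp CX_3_4_2 i (by omega) (by omega)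
  by_cases h3 : i < 8000
  · exact (allR_iff _ _ _).mp CX_3_4_3 i (by omega) (by omega)
  by_cases h4 : i < 10000
  · exact (allR_iff _ _ _).mp CX_3_4_4 i (by omega) (by omega)
  by_cases h5 : i < 12000
  · exact (allR_iff _ _ _).mp CX_3_4_5 i (by omega) (by omega)
  by_cases h6 : i < 14000
  · exact (allR_iff _ _ _).mp CX_3_4_6 i (by omega) (by omega)
  by_cases h7 : i < 16000
  · exact (allR_iff _ _ _).mp CX_3_4_7 i (by omega) (by omega)
  by_cases h8 : i < 18000
  · exact (allR_iff _ _ _).mp CX_3_4_8 i (by omega) (by omega)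
  by_cases h9 : i < 20000
  · exact (allR_iff _ _ _).mp CX_3_4_9 i (by omega) (by omega)
  by_cases h10 : i < 22000
  · exact (allR_iff _ _ _).mp CX_3_4_10 i (by omega) (by omega)
  by_cases h11 : i < 24000
  · exact (allR_iff _ _ _).mp CX_3_4_11 i (by omega) (by omega)
  by_cases h12 : i < 26000
  · exact (allR_iff _ _ _).mp CX_3_4_12 i (by omega) (by omega)
  by_cases h13 : i < 28000
  · exact (allR_iff _ _ _).mp CX_3_4_13 i (by omega) (by omega)
  by_cases h14 : i < 30000
  · exact (allR_iff _ _ _).mp CX_3_4_14 i (by omega) (by omega)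
  by_cases h15 : i < 32000
  · exact (allR_iff _ _ _).mp CX_3_4_15 i (by omega) (by omega)
  by_cases h16 : i < 34000
  · exact (allR_iff _ _ _).mp CX_3_4_16 i (by omega) (by omega)
  by_cases h17 : i < 36000
  · exact (allR_iff _ _ _).mp CX_3_4_17 i (by omega) (by omega)
  by_cases h18 : i < 38000
  · exact (allR_iff _ _ _).mp CX_3_4_18 i (by omega) (by omega)
  by_cases h19 : i < 40000
  · exact (allR_iff _ _ _).mp CX_3_4_19 i (by omega) (by omega)
  by_cases h20 : i < 42000
  · exact (allR_iff _ _ _).mp CX_3_4_20 i (by omega) (by omega)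
  by_cases h21 : i < 44000
  · exact (allR_iff _ _ _).mp CX_3_4_21 i (by omega) (by omega)
  by_cases h22 : i < 46000
  · exact (allR_iff _ _ _).mp CX_3_4_22 i (by omega) (by omega)
  by_cases h23 : i < 48000
  · exact (allR_iff _ _ _).mp CX_3_4_23 i (by omega) (by omega)
  by_cases h24 : i < 50000
  · exact (allR_iff _ _ _).mp CX_3_4_24 i (by omega) (by omega)
  by_cases h25 : i < 52000
  · exact (allR_iff _ _ _).mp CX_3_4_25 i (by omega) (by omega)
  by_cases h26 : i < 54000
  · exact (allR_iff _ _ _).mp CX_3_4_26 i (by omega) (by omega)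
  by_cases h27 : i < 56000
  · exact (allR_iff _ _ _).mp CX_3_4_27 i (by omega) (by omega)
  by_cases h28 : i < 58000
  · exact (allR_iff _ _ _).mp CX_3_4_28 i (by omega) (by omega)
  by_cases h29 : i < 60000
  · exact (allR_iff _ _ _).mp CX_3_4_29 i (by omega) (by omega)
  by_cases h30 : i < 62000
  · exact (allR_iff _ _ _).mp CX_3_4_30 i (by omega) (by omega)
  by_cases h31 : i < 64000
  · exact (allR_iff _ _ _).mp CX_3_4_31 i (by omega) (by omega)
  by_cases h32 : i < 66000
  · exact (allR_iff _ _ _).mp CX_3_4_32 i (by omega) (by omega)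
  by_cases h33 : i < 68000
  · exact (allR_iff _ _ _).mp CX_3_4_33 i (by omega) (by omega)
  by_cases h34 : i < 70000
  · exact (allR_iff _ _ _).mp CX_3_4_34 i (by omega) (by omega)
  by_cases h35 : i < 72000
  · exact (allR_iff _ _ _).mp CX_3_4_35 i (by omega) (by omega)
  by_cases h36 : i < 74000
  · exact (allR_iff _ _ _).mp CX_3_4_36 i (by omega) (by omega)
  by_cases h37 : i < 76000
  · exact (allR_iff _ _ _).mp CX_3_4_37 i (by omega) (by omega)
  by_cases h38 : i < 78000
  · exact (allR_iff _ _ _).mp CX_3_4_38 i (by omega) (by omega)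
  by_cases h39 : i < 80000
  · exact (allR_iff _ _ _).mp CX_3_4_39 i (by omega) (by omega)
  by_cases h40 : i < 82000
  · exact (allR_iff _ _ _).mp CX_3_4_40 i (by omega) (by omega)
  by_cases h41 : i < 84000
  · exact (allR_iff _ _ _).mp CX_3_4_41 i (by omega) (by omega)
  by_cases h42 : i < 86000
  · exact (allR_iff _ _ _).mp CX_3_4_42 i (by omega) (by omega)
  by_cases h43 : i < 88000
  · exact (allR_iff _ _ _).mp CX_3_4_43 i (by omega) (by omega)
  by_cases h44 : i < 90000
  · exact (allR_iff _ _ _).mp CX_3_4_44 i (by omega) (by omega)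
  by_cases h45 : i < 92000
  · exact (allR_iff _ _ _).mp CX_3_4_45 i (by omega) (by omega)
  by_cases h46 : i < 94000
  · exact (allR_iff _ _ _).mp CX_3_4_46 i (by omega) (by omega)
  by_cases h47 : i < 96000
  · exact (allR_iff _ _ _).mp CX_3_4_47 i (by omega) (by omega)
  by_cases h48 : i < 98000
  · exact (allR_iff _ _ _).mp CX_3_4_48 i (by omega) (by omega)
  by_cases h49 : i < 100000
  · exact (allR_iff _ _ _).mp CX_3_4_49 i (by omega) (by omega)
  by_cases h50 : i < 102000
  · exact (allR_iff _ _ _).mp CX_3_4_50 i (by omega) (by omega)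
  by_cases h51 : i < 104000
  · exact (allR_iff _ _ _).mp CX_3_4_51 i (by omega) (by omega)
  by_cases h52 : i < 106000
  · exact (allR_iff _ _ _).mp CX_3_4_52 i (by omega) (by omega)
  by_cases h53 : i < 108000
  · exact (allR_iff _ _ _).mp CX_3_4_53 i (by omega) (by omega)
  by_cases h54 : i < 110000
  · exact (allR_iff _ _ _).mp CX_3_4_54 i (by omega) (by omega)
  by_cases h55 : i < 112000
  · exact (allR_iff _ _ _).mp CX_3_4_55 i (by omega) (by omega)
  by_cases h56 : i < 114000
  · exact (allR_iff _ _ _).mp CX_3_4_56 i (by omega) (by omega)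
  by_cases h57 : i < 116000
  · exact (allR_iff _ _ _).mp CX_3_4_57 i (by omega) (by omega)
  by_cases h58 : i < 118000
  · exact (allR_iff _ _ _).mp CX_3_4_58 i (by omega) (by omega)
  by_cases h59 : i < 120000
  · exact (allR_iff _ _ _).mp CX_3_4_59 i (by omega) (by omega)
  by_cases h60 : i < 122000
  · exact (allR_iff _ _ _).mp CX_3_4_60 i (by omega) (by omega)
  exact (allR_iff _ _ _).mp CX_3_4_61 i (by omega) (by omega)


theorem CX_3_5_all : ∀ i, i < N → (pK (coxK c3 c5 2)) i = true := by
  intro i hi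
  have hN : N = 122760 := rfl
  by_cases h0 : i < 3000
  · exact (allR_iff _ _ _).mp CX_3_5_0 i (by omega) (by omega)
  by_cases h1 : i < 6000
  · exact (allR_iff _ _ _).mp CX_3_5_1 i (by omega) (by omega)
  by_cases h2 : i < 9000
  · exact (allR_iff _ _ _).mp CX_3_5_2 i (by omega) (by omega)
  by_cases h3 : i < 12000
  · exact (allR_iff _ _ _).mp CX_3_5_3 i (by omega) (by omega)
  by_cases h4 : i < 15000
  · exact (allR_iff _ _ _).mp CX_3_5_4 i (by omega) (by omega)
  by_cases h5 : i < 18000
  · exact (allR_iff _ _ _).mp CX_3_5_5 i (by omega) (by omega)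
  by_cases h6 : i < 21000
  · exact (allR_iff _ _ _).mp CX_3_5_6 i (by omega) (by omega)
  by_cases h7 : i < 24000
  · exact (allR_iff _ _ _).mp CX_3_5_7 i (by omega) (by omega)
  by_cases h8 : i < 27000
  · exact (allR_iff _ _ _).mp CX_3_5_8 i (by omega) (by omega)
  by_cases h9 : i < 30000
  · exact (allR_iff _ _ _).mp CX_3_5_9 i (by omega) (by omega)
  by_cases h10 : i < 33000
  · exact (allR_iff _ _ _).mp CX_3_5_10 i (by omega) (by omega)
  by_cases h11 : i < 36000
  · exact (allR_iff _ _ _).mp CX_3_5_11 i (by omega) (by omega)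
  by_cases h12 : i < 39000
  · exact (allR_iff _ _ _).mp CX_3_5_12 i (by omega) (by omega)
  by_cases h13 : i < 42000
  · exact (allR_iff _ _ _).mp CX_3_5_13 i (by omega) (by omega)
  by_cases h14 : i < 45000
  · exact (allR_iff _ _ _).mp CX_3_5_14 i (by omega) (by omega)
  by_cases h15 : i < 48000
  · exact (allR_iff _ _ _).mp CX_3_5_15 i (by omega) (by omega)
  by_cases h16 : i < 51000
  · exact (allR_iff _ _ _).mp CX_3_5_16 i (by omega) (by omega)
  by_cases h17 : i < 54000
  · exact (allR_iff _ _ _).mp CX_3_5_17 i (by omega) (by omega)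
  by_cases h18 : i < 57000
  · exact (allR_iff _ _ _).mp CX_3_5_18 i (by omega) (by omega)
  by_cases h19 : i < 60000
  · exact (allR_iff _ _ _).mp CX_3_5_19 i (by omega) (by omega)
  by_cases h20 : i < 63000
  · exact (allR_iff _ _ _).mp CX_3_5_20 i (by omega) (by omega)
  by_cases h21 : i < 66000
  · exact (allR_iff _ _ _).mp CX_3_5_21 i (by omega) (by omega)
  by_cases h22 : i < 69000
  · exact (allR_iff _ _ _).mp CX_3_5_22 i (by omega) (by omega)
  by_cases h23 : i < 72000
  · exact (allR_iff _ _ _).mp CX_3_5_23 i (by omega) (by omega)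
  by_cases h24 : i < 75000
  · exact (allR_iff _ _ _).mp CX_3_5_24 i (by omega) (by omega)
  by_cases h25 : i < 78000
  · exact (allR_iff _ _ _).mp CX_3_5_25 i (by omega) (by omega)
  by_cases h26 : i < 81000
  · exact (allR_iff _ _ _).mp CX_3_5_26 i (by omega) (by omega)
  by_cases h27 : i < 84000
  · exact (allR_iff _ _ _).mp CX_3_5_27 i (by omega) (by omega)
  by_cases h28 : i < 87000
  · exact (allR_iff _ _ _).mp CX_3_5_28 i (by omega) (by omega)
  by_cases h29 : i < 90000
  · exact (allR_iff _ _ _).mp CX_3_5_29 i (by omega) (by omega)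
  by_cases h30 : i < 93000
  · exact (allR_iff _ _ _).mp CX_3_5_30 i (by omega) (by omega)
  by_cases h31 : i < 96000
  · exact (allR_iff _ _ _).mp CX_3_5_31 i (by omega) (by omega)
  by_cases h32 : i < 99000
  · exact (allR_iff _ _ _).mp CX_3_5_32 i (by omega) (by omega)
  by_cases h33 : i < 102000
  · exact (allR_iff _ _ _).mp CX_3_5_33 i (by omega) (by omega)
  by_cases h34 : i < 105000
  · exact (allR_iff _ _ _).mp CX_3_5_34 i (by omega) (by omega)
  by_cases h35 : i < 108000
  · exact (allR_iff _ _ _).mp CX_3_5_35 i (by omega) (by omega)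
  by_cases h36 : i < 111000
  · exact (allR_iff _ _ _).mp CX_3_5_36 i (by omega) (by omega)
  by_cases h37 : i < 114000
  · exact (allR_iff _ _ _).mp CX_3_5_37 i (by omega) (by omega)
  by_cases h38 : i < 117000
  · exact (allR_iff _ _ _).mp CX_3_5_38 i (by omega) (by omega)
  by_cases h39 : i < 120000
  · exact (allR_iff _ _ _).mp CX_3_5_39 i (by omega) (by omega)
  exact (allR_iff _ _ _).mp CX_3_5_40 i (by omega) (by omega)


theorem CX_3_6_all : ∀ i, i < N → (pK (coxK c3 c6 2)) i = true := by
  intro i hi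
  have hN : N = 122760 := rfl
  by_cases h0 : i < 3000
  · exact (allR_iff _ _ _).mp CX_3_6_0 i (by omega) (by omega)
  by_cases h1 : i < 6000
  · exact (allR_iff _ _ _).mp CX_3_6_1 i (by omega) (by omega)
  by_cases h2 : i < 9000
  · exact (allR_iff _ _ _).mp CX_3_6_2 i (by omega) (by omega)
  by_cases h3 : i < 12000
  · exact (allR_iff _ _ _).mp CX_3_6_3 i (by omega) (by omega)
  by_cases h4 : i < 15000
  · exact (allR_iff _ _ _).mp CX_3_6_4 i (by omega) (by omega)
  by_cases h5 : i < 18000
  · exact (allR_iff _ _ _).mp CX_3_6_5 i (by omega) (by omega)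
  by_cases h6 : i < 21000
  · exact (allR_iff _ _ _).mp CX_3_6_6 i (by omega) (by omega)
  by_cases h7 : i < 24000
  · exact (allR_iff _ _ _).mp CX_3_6_7 i (by omega) (by omega)
  by_cases h8 : i < 27000
  · exact (allR_iff _ _ _).mp CX_3_6_8 i (by omega) (by omega)
  by_cases h9 : i < 30000
  · exact (allR_iff _ _ _).mp CX_3_6_9 i (by omega) (by omega)
  by_cases h10 : i < 33000
  · exact (allR_iff _ _ _).mp CX_3_6_10 i (by omega) (by omega)
  by_cases h11 : i < 36000
  · exact (allR_iff _ _ _).mp CX_3_6_11 i (by omega) (by omega)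
  by_cases h12 : i < 39000
  · exact (allR_iff _ _ _).mp CX_3_6_12 i (by omega) (by omega)
  by_cases h13 : i < 42000
  · exact (allR_iff _ _ _).mp CX_3_6_13 i (by omega) (by omega)
  by_cases h14 : i < 45000
  · exact (allR_iff _ _ _).mp CX_3_6_14 i (by omega) (by omega)
  by_cases h15 : i < 48000
  · exact (allR_iff _ _ _).mp CX_3_6_15 i (by omega) (by omega)
  by_cases h16 : i < 51000
  · exact (allR_iff _ _ _).mp CX_3_6_16 i (by omega) (by omega)
  by_cases h17 : i < 54000
  · exact (allR_iff _ _ _).mp CX_3_6_17 i (by omega) (by omega)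
  by_cases h18 : i < 57000
  · exact (allR_iff _ _ _).mp CX_3_6_18 i (by omega) (by omega)
  by_cases h19 : i < 60000
  · exact (allR_iff _ _ _).mp CX_3_6_19 i (by omega) (by omega)
  by_cases h20 : i < 63000
  · exact (allR_iff _ _ _).mp CX_3_6_20 i (by omega) (by omega)
  by_cases h21 : i < 66000
  · exact (allR_iff _ _ _).mp CX_3_6_21 i (by omega) (by omega)
  by_cases h22 : i < 69000
  · exact (allR_iff _ _ _).mp CX_3_6_22 i (by omega) (by omega)
  by_cases h23 : i < 72000
  · exact (allR_iff _ _ _).mp CX_3_6_23 i (by omega) (by omega)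
  by_cases h24 : i < 75000
  · exact (allR_iff _ _ _).mp CX_3_6_24 i (by omega) (by omega)
  by_cases h25 : i < 78000
  · exact (allR_iff _ _ _).mp CX_3_6_25 i (by omega) (by omega)
  by_cases h26 : i < 81000
  · exact (allR_iff _ _ _).mp CX_3_6_26 i (by omega) (by omega)
  by_cases h27 : i < 84000
  · exact (allR_iff _ _ _).mp CX_3_6_27 i (by omega) (by omega)
  by_cases h28 : i < 87000
  · exact (allR_iff _ _ _).mp CX_3_6_28 i (by omega) (by omega)
  by_cases h29 : i < 90000
  · exact (allR_iff _ _ _).mp CX_3_6_29 i (by omega) (by omega)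
  by_cases h30 : i < 93000
  · exact (allR_iff _ _ _).mp CX_3_6_30 i (by omega) (by omega)
  by_cases h31 : i < 96000
  · exact (allR_iff _ _ _).mp CX_3_6_31 i (by omega) (by omega)
  by_cases h32 : i < 99000
  · exact (allR_iff _ _ _).mp CX_3_6_32 i (by omega) (by omega)
  by_cases h33 : i < 102000
  · exact (allR_iff _ _ _).mp CX_3_6_33 i (by omega) (by omega)
  by_cases h34 : i < 105000
  · exact (allR_iff _ _ _).mp CX_3_6_34 i (by omega) (by omega)
  by_cases h35 : i < 108000
  · exact (allR_iff _ _ _).mp CX_3_6_35 i (by omega) (by omega)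
  by_cases h36 : i < 111000
  · exact (allR_iff _ _ _).mp CX_3_6_36 i (by omega) (by omega)
  by_cases h37 : i < 114000
  · exact (allR_iff _ _ _).mp CX_3_6_37 i (by omega) (by omega)
  by_cases h38 : i < 117000
  · exact (allR_iff _ _ _).mp CX_3_6_38 i (by omega) (by omega)
  by_cases h39 : i < 120000
  · exact (allR_iff _ _ _).mp CX_3_6_39 i (by omega) (by omega)
  exact (allR_iff _ _ _).mp CX_3_6_40 i (by omega) (by omega)


theorem CX_3_7_all : ∀ i, i < N → (pK (coxK c3 c7 2)) i = true := by
  intro i hi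
  have hN : N = 122760 := rfl
  by_cases h0 : i < 3000
  · exact (allR_iff _ _ _).mp CX_3_7_0 i (by omega) (by omega)
  by_cases h1 : i < 6000
  · exact (allR_iff _ _ _).mp CX_3_7_1 i (by omega) (by omega)
  by_cases h2 : i < 9000
  · exact (allR_iff _ _ _).mp CX_3_7_2 i (by omega) (by omega)
  by_cases h3 : i < 12000
  · exact (allR_iff _ _ _).mp CX_3_7_3 i (by omega) (by omega)
  by_cases h4 : i < 15000
  · exact (allR_iff _ _ _).mp CX_3_7_4 i (by omega) (by omega)
  by_cases h5 : i < 18000
  · exact (allR_iff _ _ _).mp CX_3_7_5 i (by omega) (by omega)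
  by_cases h6 : i < 21000
  · exact (allR_iff _ _ _).mp CX_3_7_6 i (by omega) (by omega)
  by_cases h7 : i < 24000
  · exact (allR_iff _ _ _).mp CX_3_7_7 i (by omega) (by omega)
  by_cases h8 : i < 27000
  · exact (allR_iff _ _ _).mp CX_3_7_8 i (by omega) (by omega)
  by_cases h9 : i < 30000
  · exact (allR_iff _ _ _).mp CX_3_7_9 i (by omega) (by omega)
  by_cases h10 : i < 33000
  · exact (allR_iff _ _ _).mp CX_3_7_10 i (by omega) (by omega)
  by_cases h11 : i < 36000
  · exact (allR_iff _ _ _).mp CX_3_7_11 i (by omega) (by omega)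
  by_cases h12 : i < 39000
  · exact (allR_iff _ _ _).mp CX_3_7_12 i (by omega) (by omega)
  by_cases h13 : i < 42000
  · exact (allR_iff _ _ _).mp CX_3_7_13 i (by omega) (by omega)
  by_cases h14 : i < 45000
  · exact (allR_iff _ _ _).mp CX_3_7_14 i (by omega) (by omega)
  by_cases h15 : i < 48000
  · exact (allR_iff _ _ _).mp CX_3_7_15 i (by omega) (by omega)
  by_cases h16 : i < 51000
  · exact (allR_iff _ _ _).mp CX_3_7_16 i (by omega) (by omega)
  by_cases h17 : i < 54000
  · exact (allR_iff _ _ _).mp CX_3_7_17 i (by omega) (by omega)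
  by_cases h18 : i < 57000
  · exact (allR_iff _ _ _).mp CX_3_7_18 i (by omega) (by omega)
  by_cases h19 : i < 60000
  · exact (allR_iff _ _ _).mp CX_3_7_19 i (by omega) (by omega)
  by_cases h20 : i < 63000
  · exact (allR_iff _ _ _).mp CX_3_7_20 i (by omega) (by omega)
  by_cases h21 : i < 66000
  · exact (allR_iff _ _ _).mp CX_3_7_21 i (by omega) (by omega)
  by_cases h22 : i < 69000
  · exact (allR_iff _ _ _).mp CX_3_7_22 i (by omega) (by omega)
  by_cases h23 : i < 72000
  · exact (allR_iff _ _ _).mp CX_3_7_23 i (by omega) (by omega)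
  by_cases h24 : i < 75000
  · exact (allR_iff _ _ _).mp CX_3_7_24 i (by omega) (by omega)
  by_cases h25 : i < 78000
  · exact (allR_iff _ _ _).mp CX_3_7_25 i (by omega) (by omega)
  by_cases h26 : i < 81000
  · exact (allR_iff _ _ _).mp CX_3_7_26 i (by omega) (by omega)
  by_cases h27 : i < 84000
  · exact (allR_iff _ _ _).mp CX_3_7_27 i (by omega) (by omega)
  by_cases h28 : i < 87000
  · exact (allR_iff _ _ _).mp CX_3_7_28 i (by omega) (by omega)
  by_cases h29 : i < 90000
  · exact (allR_iff _ _ _).mp CX_3_7_29 i (by omega) (by omega)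
  by_cases h30 : i < 93000
  · exact (allR_iff _ _ _).mp CX_3_7_30 i (by omega) (by omega)
  by_cases h31 : i < 96000
  · exact (allR_iff _ _ _).mp CX_3_7_31 i (by omega) (by omega)
  by_cases h32 : i < 99000
  · exact (allR_iff _ _ _).mp CX_3_7_32 i (by omega) (by omega)
  by_cases h33 : i < 102000
  · exact (allR_iff _ _ _).mp CX_3_7_33 i (by omega) (by omega)
  by_cases h34 : i < 105000
  · exact (allR_iff _ _ _).mp CX_3_7_34 i (by omega) (by omega)
  by_cases h35 : i < 108000
  · exact (allR_iff _ _ _).mp CX_3_7_35 i (by omega) (by omega)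
  by_cases h36 : i < 111000
  · exact (allR_iff _ _ _).mp CX_3_7_36 i (by omega) (by omega)
  by_cases h37 : i < 114000
  · exact (allR_iff _ _ _).mp CX_3_7_37 i (by omega) (by omega)
  by_cases h38 : i < 117000
  · exact (allR_iff _ _ _).mp CX_3_7_38 i (by omega) (by omega)
  by_cases h39 : i < 120000
  · exact (allR_iff _ _ _).mp CX_3_7_39 i (by omega) (by omega)
  exact (allR_iff _ _ _).mp CX_3_7_40 i (by omega) (by omega)


theorem CX_4_5_all : ∀ i, i < N → (pK (coxK c4 c5 8)) i = true := by
  intro i hi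
  have hN : N = 122760 := rfl
  by_cases h0 : i < 750
  · exact (allR_iff _ _ _).mp CX_4_5_0 i (by omega) (by omega)
  by_cases h1 : i < 1500
  · exact (allR_iff _ _ _).mp CX_4_5_1 i (by omega) (by omega)
  by_cases h2 : i < 2250
  · exact (allR_iff _ _ _).mp CX_4_5_2 i (by omega) (by omega)
  by_cases h3 : i < 3000
  · exact (allR_iff _ _ _).mp CX_4_5_3 i (by omega) (by omega)
  by_cases h4 : i < 3750
  · exact (allR_iff _ _ _).mp CX_4_5_4 i (by omega) (by omega)
  by_cases h5 : i < 4500
  · exact (allR_iff _ _ _).mp CX_4_5_5 i (by omega) (by omega)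
  by_cases h6 : i < 5250
  · exact (allR_iff _ _ _).mp CX_4_5_6 i (by omega) (by omega)
  by_cases h7 : i < 6000
  · exact (allR_iff _ _ _).mp CX_4_5_7 i (by omega) (by omega)
  by_cases h8 : i < 6750
  · exact (allR_iff _ _ _).mp CX_4_5_8 i (by omega) (by omega)
  by_cases h9 : i < 7500
  · exact (allR_iff _ _ _).mp CX_4_5_9 i (by omega) (by omega)
  by_cases h10 : i < 8250
  · exact (allR_iff _ _ _).mp CX_4_5_10 i (by omega) (by omega)
  by_cases h11 : i < 9000
  · exact (allR_iff _ _ _).mp CX_4_5_11 i (by omega) (by omega)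
  by_cases h12 : i < 9750
  · exact (allR_iff _ _ _).mp CX_4_5_12 i (by omega) (by omega)
  by_cases h13 : i < 10500
  · exact (allR_iff _ _ _).mp CX_4_5_13 i (by omega) (by omega)
  by_cases h14 : i < 11250
  · exact (allR_iff _ _ _).mp CX_4_5_14 i (by omega) (by omega)
  by_cases h15 : i < 12000
  · exact (allR_iff _ _ _).mp CX_4_5_15 i (by omega) (by omega)
  by_cases h16 : i < 12750
  · exact (allR_iff _ _ _).mp CX_4_5_16 i (by omega) (by omega)
  by_cases h17 : i < 13500
  · exact (allR_iff _ _ _).mp CX_4_5_17 i (by omega) (by omega)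
  by_cases h18 : i < 14250
  · exact (allR_iff _ _ _).mp CX_4_5_18 i (by omega) (by omega)
  by_cases h19 : i < 15000
  · exact (allR_iff _ _ _).mp CX_4_5_19 i (by omega) (by omega)
  by_cases h20 : i < 15750
  · exact (allR_iff _ _ _).mp CX_4_5_20 i (by omega) (by omega)
  by_cases h21 : i < 16500
  · exact (allR_iff _ _ _).mp CX_4_5_21 i (by omega) (by omega)
  by_cases h22 : i < 17250
  · exact (allR_iff _ _ _).mp CX_4_5_22 i (by omega) (by omega)
  by_cases h23 : i < 18000
  · exact (allR_iff _ _ _).mp CX_4_5_23 i (by omega) (by omega)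
  by_cases h24 : i < 18750
  · exact (allR_iff _ _ _).mp CX_4_5_24 i (by omega) (by omega)
  by_cases h25 : i < 19500
  · exact (allR_iff _ _ _).mp CX_4_5_25 i (by omega) (by omega)
  by_cases h26 : i < 20250
  · exact (allR_iff _ _ _).mp CX_4_5_26 i (by omega) (by omega)
  by_cases h27 : i < 21000
  · exact (allR_iff _ _ _).mp CX_4_5_27 i (by omega) (by omega)
  by_cases h28 : i < 21750
  · exact (allR_iff _ _ _).mp CX_4_5_28 i (by omega) (by omega)
  by_cases h29 : i < 22500
  · exact (allR_iff _ _ _).mp CX_4_5_29 i (by omega) (by omega)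
  by_cases h30 : i < 23250
  · exact (allR_iff _ _ _).mp CX_4_5_30 i (by omega) (by omega)
  by_cases h31 : i < 24000
  · exact (allR_iff _ _ _).mp CX_4_5_31 i (by omega) (by omega)
  by_cases h32 : i < 24750
  · exact (allR_iff _ _ _).mp CX_4_5_32 i (by omega) (by omega)
  by_cases h33 : i < 25500
  · exact (allR_iff _ _ _).mp CX_4_5_33 i (by omega) (by omega)
  by_cases h34 : i < 26250
  · exact (allR_iff _ _ _).mp CX_4_5_34 i (by omega) (by omega)
  by_cases h35 : i < 27000
  · exact (allR_iff _ _ _).mp CX_4_5_35 i (by omega) (by omega)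
  by_cases h36 : i < 27750
  · exact (allR_iff _ _ _).mp CX_4_5_36 i (by omega) (by omega)
  by_cases h37 : i < 28500
  · exact (allR_iff _ _ _).mp CX_4_5_37 i (by omega) (by omega)
  by_cases h38 : i < 29250
  · exact (allR_iff _ _ _).mp CX_4_5_38 i (by omega) (by omega)
  by_cases h39 : i < 30000
  · exact (allR_iff _ _ _).mp CX_4_5_39 i (by omega) (by omega)
  by_cases h40 : i < 30750
  · exact (allR_iff _ _ _).mp CX_4_5_40 i (by omega) (by omega)
  by_cases h41 : i < 31500
  · exact (allR_iff _ _ _).mp CX_4_5_41 i (by omega) (by omega)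
  by_cases h42 : i < 32250
  · exact (allR_iff _ _ _).mp CX_4_5_42 i (by omega) (by omega)
  by_cases h43 : i < 33000
  · exact (allR_iff _ _ _).mp CX_4_5_43 i (by omega) (by omega)
  by_cases h44 : i < 33750
  · exact (allR_iff _ _ _).mp CX_4_5_44 i (by omega) (by omega)
  by_cases h45 : i < 34500
  · exact (allR_iff _ _ _).mp CX_4_5_45 i (by omega) (by omega)
  by_cases h46 : i < 35250
  · exact (allR_iff _ _ _).mp CX_4_5_46 i (by omega) (by omega)
  by_cases h47 : i < 36000
  · exact (allR_iff _ _ _).mp CX_4_5_47 i (by omega) (by omega)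
  by_cases h48 : i < 36750
  · exact (allR_iff _ _ _).mp CX_4_5_48 i (by omega) (by omega)
  by_cases h49 : i < 37500
  · exact (allR_iff _ _ _).mp CX_4_5_49 i (by omega) (by omega)
  by_cases h50 : i < 38250
  · exact (allR_iff _ _ _).mp CX_4_5_50 i (by omega) (by omega)
  by_cases h51 : i < 39000
  · exact (allR_iff _ _ _).mp CX_4_5_51 i (by omega) (by omega)
  by_cases h52 : i < 39750
  · exact (allR_iff _ _ _).mp CX_4_5_52 i (by omega) (by omega)
  by_cases h53 : i < 40500
  · exact (allR_iff _ _ _).mp CX_4_5_53 i (by omega) (by omega)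
  by_cases h54 : i < 41250
  · exact (allR_iff _ _ _).mp CX_4_5_54 i (by omega) (by omega)
  by_cases h55 : i < 42000
  · exact (allR_iff _ _ _).mp CX_4_5_55 i (by omega) (by omega)
  by_cases h56 : i < 42750
  · exact (allR_iff _ _ _).mp CX_4_5_56 i (by omega) (by omega)
  by_cases h57 : i < 43500
  · exact (allR_iff _ _ _).mp CX_4_5_57 i (by omega) (by omega)
  by_cases h58 : i < 44250
  · exact (allR_iff _ _ _).mp CX_4_5_58 i (by omega) (by omega)
  by_cases h59 : i < 45000
  · exact (allR_iff _ _ _).mp CX_4_5_59 i (by omega) (by omega)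
  by_cases h60 : i < 45750
  · exact (allR_iff _ _ _).mp CX_4_5_60 i (by omega) (by omega)
  by_cases h61 : i < 46500
  · exact (allR_iff _ _ _).mp CX_4_5_61 i (by omega) (by omega)
  by_cases h62 : i < 47250
  · exact (allR_iff _ _ _).mp CX_4_5_62 i (by omega) (by omega)
  by_cases h63 : i < 48000
  · exact (allR_iff _ _ _).mp CX_4_5_63 i (by omega) (by omega)
  by_cases h64 : i < 48750
  · exact (allR_iff _ _ _).mp CX_4_5_64 i (by omega) (by omega)
  by_cases h65 : i < 49500
  · exact (allR_iff _ _ _).mp CX_4_5_65 i (by omega) (by omega)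
  by_cases h66 : i < 50250
  · exact (allR_iff _ _ _).mp CX_4_5_66 i (by omega) (by omega)
  by_cases h67 : i < 51000
  · exact (allR_iff _ _ _).mp CX_4_5_67 i (by omega) (by omega)
  by_cases h68 : i < 51750
  · exact (allR_iff _ _ _).mp CX_4_5_68 i (by omega) (by omega)
  by_cases h69 : i < 52500
  · exact (allR_iff _ _ _).mp CX_4_5_69 i (by omega) (by omega)
  by_cases h70 : i < 53250
  · exact (allR_iff _ _ _).mp CX_4_5_70 i (by omega) (by omega)
  by_cases h71 : i < 54000
  · exact (allR_iff _ _ _).mp CX_4_5_71 i (by omega) (by omega)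
  by_cases h72 : i < 54750
  · exact (allR_iff _ _ _).mp CX_4_5_72 i (by omega) (by omega)
  by_cases h73 : i < 55500
  · exact (allR_iff _ _ _).mp CX_4_5_73 i (by omega) (by omega)
  by_cases h74 : i < 56250
  · exact (allR_iff _ _ _).mp CX_4_5_74 i (by omega) (by omega)
  by_cases h75 : i < 57000
  · exact (allR_iff _ _ _).mp CX_4_5_75 i (by omega) (by omega)
  by_cases h76 : i < 57750
  · exact (allR_iff _ _ _).mp CX_4_5_76 i (by omega) (by omega)
  by_cases h77 : i < 58500
  · exact (allR_iff _ _ _).mp CX_4_5_77 i (by omega) (by omega)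
  by_cases h78 : i < 59250
  · exact (allR_iff _ _ _).mp CX_4_5_78 i (by omega) (by omega)
  by_cases h79 : i < 60000
  · exact (allR_iff _ _ _).mp CX_4_5_79 i (by omega) (by omega)
  by_cases h80 : i < 60750
  · exact (allR_iff _ _ _).mp CX_4_5_80 i (by omega) (by omega)
  by_cases h81 : i < 61500
  · exact (allR_iff _ _ _).mp CX_4_5_81 i (by omega) (by omega)
  by_cases h82 : i < 62250
  · exact (allR_iff _ _ _).mp CX_4_5_82 i (by omega) (by omega)
  by_cases h83 : i < 63000
  · exact (allR_iff _ _ _).mp CX_4_5_83 i (by omega) (by omega)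
  by_cases h84 : i < 63750
  · exact (allR_iff _ _ _).mp CX_4_5_84 i (by omega) (by omega)
  by_cases h85 : i < 64500
  · exact (allR_iff _ _ _).mp CX_4_5_85 i (by omega) (by omega)
  by_cases h86 : i < 65250
  · exact (allR_iff _ _ _).mp CX_4_5_86 i (by omega) (by omega)
  by_cases h87 : i < 66000
  · exact (allR_iff _ _ _).mp CX_4_5_87 i (by omega) (by omega)
  by_cases h88 : i < 66750
  · exact (allR_iff _ _ _).mp CX_4_5_88 i (by omega) (by omega)
  by_cases h89 : i < 67500
  · exact (allR_iff _ _ _).mp CX_4_5_89 i (by omega) (by omega)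
  by_cases h90 : i < 68250
  · exact (allR_iff _ _ _).mp CX_4_5_90 i (by omega) (by omega)
  by_cases h91 : i < 69000
  · exact (allR_iff _ _ _).mp CX_4_5_91 i (by omega) (by omega)
  by_cases h92 : i < 69750
  · exact (allR_iff _ _ _).mp CX_4_5_92 i (by omega) (by omega)
  by_cases h93 : i < 70500
  · exact (allR_iff _ _ _).mp CX_4_5_93 i (by omega) (by omega)
  by_cases h94 : i < 71250
  · exact (allR_iff _ _ _).mp CX_4_5_94 i (by omega) (by omega)
  by_cases h95 : i < 72000
  · exact (allR_iff _ _ _).mp CX_4_5_95 i (by omega) (by omega)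
  by_cases h96 : i < 72750
  · exact (allR_iff _ _ _).mp CX_4_5_96 i (by omega) (by omega)
  by_cases h97 : i < 73500
  · exact (allR_iff _ _ _).mp CX_4_5_97 i (by omega) (by omega)
  by_cases h98 : i < 74250
  · exact (allR_iff _ _ _).mp CX_4_5_98 i (by omega) (by omega)
  by_cases h99 : i < 75000
  · exact (allR_iff _ _ _).mp CX_4_5_99 i (by omega) (by omega)
  by_cases h100 : i < 75750
  · exact (allR_iff _ _ _).mp CX_4_5_100 i (by omega) (by omega)
  by_cases h101 : i < 76500
  · exact (allR_iff _ _ _).mp CX_4_5_101 i (by omega) (by omega)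
  by_cases h102 : i < 77250
  · exact (allR_iff _ _ _).mp CX_4_5_102 i (by omega) (by omega)
  by_cases h103 : i < 78000
  · exact (allR_iff _ _ _).mp CX_4_5_103 i (by omega) (by omega)
  by_cases h104 : i < 78750
  · exact (allR_iff _ _ _).mp CX_4_5_104 i (by omega) (by omega)
  by_cases h105 : i < 79500
  · exact (allR_iff _ _ _).mp CX_4_5_105 i (by omega) (by omega)
  by_cases h106 : i < 80250
  · exact (allR_iff _ _ _).mp CX_4_5_106 i (by omega) (by omega)
  by_cases h107 : i < 81000
  · exact (allR_iff _ _ _).mp CX_4_5_107 i (by omega) (by omega)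
  by_cases h108 : i < 81750
  · exact (allR_iff _ _ _).mp CX_4_5_108 i (by omega) (by omega)
  by_cases h109 : i < 82500
  · exact (allR_iff _ _ _).mp CX_4_5_109 i (by omega) (by omega)
  by_cases h110 : i < 83250
  · exact (allR_iff _ _ _).mp CX_4_5_110 i (by omega) (by omega)
  by_cases h111 : i < 84000
  · exact (allR_iff _ _ _).mp CX_4_5_111 i (by omega) (by omega)
  by_cases h112 : i < 84750
  · exact (allR_iff _ _ _).mp CX_4_5_112 i (by omega) (by omega)
  by_cases h113 : i < 85500
  · exact (allR_iff _ _ _).mp CX_4_5_113 i (by omega) (by omega)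
  by_cases h114 : i < 86250
  · exact (allR_iff _ _ _).mp CX_4_5_114 i (by omega) (by omega)
  by_cases h115 : i < 87000
  · exact (allR_iff _ _ _).mp CX_4_5_115 i (by omega) (by omega)
  by_cases h116 : i < 87750
  · exact (allR_iff _ _ _).mp CX_4_5_116 i (by omega) (by omega)
  by_cases h117 : i < 88500
  · exact (allR_iff _ _ _).mp CX_4_5_117 i (by omega) (by omega)
  by_cases h118 : i < 89250
  · exact (allR_iff _ _ _).mp CX_4_5_118 i (by omega) (by omega)
  by_cases h119 : i < 90000
  · exact (allR_iff _ _ _).mp CX_4_5_119 i (by omega) (by omega)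
  by_cases h120 : i < 90750
  · exact (allR_iff _ _ _).mp CX_4_5_120 i (by omega) (by omega)
  by_cases h121 : i < 91500
  · exact (allR_iff _ _ _).mp CX_4_5_121 i (by omega) (by omega)
  by_cases h122 : i < 92250
  · exact (allR_iff _ _ _).mp CX_4_5_122 i (by omega) (by omega)
  by_cases h123 : i < 93000
  · exact (allR_iff _ _ _).mp CX_4_5_123 i (by omega) (by omega)
  by_cases h124 : i < 93750
  · exact (allR_iff _ _ _).mp CX_4_5_124 i (by omega) (by omega)
  by_cases h125 : i < 94500
  · exact (allR_iff _ _ _).mp CX_4_5_125 i (by omega) (by omega)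
  by_cases h126 : i < 95250
  · exact (allR_iff _ _ _).mp CX_4_5_126 i (by omega) (by omega)
  by_cases h127 : i < 96000
  · exact (allR_iff _ _ _).mp CX_4_5_127 i (by omega) (by omega)
  by_cases h128 : i < 96750
  · exact (allR_iff _ _ _).mp CX_4_5_128 i (by omega) (by omega)
  by_cases h129 : i < 97500
  · exact (allR_iff _ _ _).mp CX_4_5_129 i (by omega) (by omega)
  by_cases h130 : i < 98250
  · exact (allR_iff _ _ _).mp CX_4_5_130 i (by omega) (by omega)
  by_cases h131 : i < 99000
  · exact (allR_iff _ _ _).mp CX_4_5_131 i (by omega) (by omega)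
  by_cases h132 : i < 99750
  · exact (allR_iff _ _ _).mp CX_4_5_132 i (by omega) (by omega)
  by_cases h133 : i < 100500
  · exact (allR_iff _ _ _).mp CX_4_5_133 i (by omega) (by omega)
  by_cases h134 : i < 101250
  · exact (allR_iff _ _ _).mp CX_4_5_134 i (by omega) (by omega)
  by_cases h135 : i < 102000
  · exact (allR_iff _ _ _).mp CX_4_5_135 i (by omega) (by omega)
  by_cases h136 : i < 102750
  · exact (allR_iff _ _ _).mp CX_4_5_136 i (by omega) (by omega)
  by_cases h137 : i < 103500
  · exact (allR_iff _ _ _).mp CX_4_5_137 i (by omega) (by omega)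
  by_cases h138 : i < 104250
  · exact (allR_iff _ _ _).mp CX_4_5_138 i (by omega) (by omega)
  by_cases h139 : i < 105000
  · exact (allR_iff _ _ _).mp CX_4_5_139 i (by omega) (by omega)
  by_cases h140 : i < 105750
  · exact (allR_iff _ _ _).mp CX_4_5_140 i (by omega) (by omega)
  by_cases h141 : i < 106500
  · exact (allR_iff _ _ _).mp CX_4_5_141 i (by omega) (by omega)
  by_cases h142 : i < 107250
  · exact (allR_iff _ _ _).mp CX_4_5_142 i (by omega) (by omega)
  by_cases h143 : i < 108000
  · exact (allR_iff _ _ _).mp CX_4_5_143 i (by omega) (by omega)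
  by_cases h144 : i < 108750
  · exact (allR_iff _ _ _).mp CX_4_5_144 i (by omega) (by omega)
  by_cases h145 : i < 109500
  · exact (allR_iff _ _ _).mp CX_4_5_145 i (by omega) (by omega)
  by_cases h146 : i < 110250
  · exact (allR_iff _ _ _).mp CX_4_5_146 i (by omega) (by omega)
  by_cases h147 : i < 111000
  · exact (allR_iff _ _ _).mp CX_4_5_147 i (by omega) (by omega)
  by_cases h148 : i < 111750
  · exact (allR_iff _ _ _).mp CX_4_5_148 i (by omega) (by omega)
  by_cases h149 : i < 112500
  · exact (allR_iff _ _ _).mp CX_4_5_149 i (by omega) (by omega)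
  by_cases h150 : i < 113250
  · exact (allR_iff _ _ _).mp CX_4_5_150 i (by omega) (by omega)
  by_cases h151 : i < 114000
  · exact (allR_iff _ _ _).mp CX_4_5_151 i (by omega) (by omega)
  by_cases h152 : i < 114750
  · exact (allR_iff _ _ _).mp CX_4_5_152 i (by omega) (by omega)
  by_cases h153 : i < 115500
  · exact (allR_iff _ _ _).mp CX_4_5_153 i (by omega) (by omega)
  by_cases h154 : i < 116250
  · exact (allR_iff _ _ _).mp CX_4_5_154 i (by omega) (by omega)
  by_cases h155 : i < 117000
  · exact (allR_iff _ _ _).mp CX_4_5_155 i (by omega) (by omega)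
  by_cases h156 : i < 117750
  · exact (allR_iff _ _ _).mp CX_4_5_156 i (by omega) (by omega)
  by_cases h157 : i < 118500
  · exact (allR_iff _ _ _).mp CX_4_5_157 i (by omega) (by omega)
  by_cases h158 : i < 119250
  · exact (allR_iff _ _ _).mp CX_4_5_158 i (by omega) (by omega)
  by_cases h159 : i < 120000
  · exact (allR_iff _ _ _).mp CX_4_5_159 i (by omega) (by omega)
  by_cases h160 : i < 120750
  · exact (allR_iff _ _ _).mp CX_4_5_160 i (by omega) (by omega)
  by_cases h161 : i < 121500
  · exact (allR_iff _ _ _).mp CX_4_5_161 i (by omega) (by omega)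
  by_cases h162 : i < 122250
  · exact (allR_iff _ _ _).mp CX_4_5_162 i (by omega) (by omega)
  exact (allR_iff _ _ _).mp CX_4_5_163 i (by omega) (by omega)


theorem CX_4_6_all : ∀ i, i < N → (pK (coxK c4 c6 2)) i = true := by
  intro i hi
  have hN : N = 122760 := rfl
  by_cases h0 : i < 3000
  · exact (allR_iff _ _ _).mp CX_4_6_0 i (by omega) (by omega)
  by_cases h1 : i < 6000
  · exact (allR_iff _ _ _).mp CX_4_6_1 i (by omega) (by omega)
  by_cases h2 : i < 9000
  · exact (allR_iff _ _ _).mp CX_4_6_2 i (by omega) (by omega)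
  by_cases h3 : i < 12000
  · exact (allR_iff _ _ _).mp CX_4_6_3 i (by omega) (by omega)
  by_cases h4 : i < 15000
  · exact (allR_iff _ _ _).mp CX_4_6_4 i (by omega) (by omega)
  by_cases h5 : i < 18000
  · exact (allR_iff _ _ _).mp CX_4_6_5 i (by omega) (by omega)
  by_cases h6 : i < 21000
  · exact (allR_iff _ _ _).mp CX_4_6_6 i (by omega) (by omega)
  by_cases h7 : i < 24000
  · exact (allR_iff _ _ _).mp CX_4_6_7 i (by omega) (by omega)
  by_cases h8 : i < 27000
  · exact (allR_iff _ _ _).mp CX_4_6_8 i (by omega) (by omega)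
  by_cases h9 : i < 30000
  · exact (allR_iff _ _ _).mp CX_4_6_9 i (by omega) (by omega)
  by_cases h10 : i < 33000
  · exact (allR_iff _ _ _).mp CX_4_6_10 i (by omega) (by omega)
  by_cases h11 : i < 36000
  · exact (allR_iff _ _ _).mp CX_4_6_11 i (by omega) (by omega)
  by_cases h12 : i < 39000
  · exact (allR_iff _ _ _).mp CX_4_6_12 i (by omega) (by omega)
  by_cases h13 : i < 42000
  · exact (allR_iff _ _ _).mp CX_4_6_13 i (by omega) (by omega)
  by_cases h14 : i < 45000
  · exact (allR_iff _ _ _).mp CX_4_6_14 i (by omega) (by omega)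
  by_cases h15 : i < 48000
  · exact (allR_iff _ _ _).mp CX_4_6_15 i (by omega) (by omega)
  by_cases h16 : i < 51000
  · exact (allR_iff _ _ _).mp CX_4_6_16 i (by omega) (by omega)
  by_cases h17 : i < 54000
  · exact (allR_iff _ _ _).mp CX_4_6_17 i (by omega) (by omega)
  by_cases h18 : i < 57000
  · exact (allR_iff _ _ _).mp CX_4_6_18 i (by omega) (by omega)
  by_cases h19 : i < 60000
  · exact (allR_iff _ _ _).mp CX_4_6_19 i (by omega) (by omega)
  by_cases h20 : i < 63000
  · exact (allR_iff _ _ _).mp CX_4_6_20 i (by omega) (by omega)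
  by_cases h21 : i < 66000
  · exact (allR_iff _ _ _).mp CX_4_6_21 i (by omega) (by omega)
  by_cases h22 : i < 69000
  · exact (allR_iff _ _ _).mp CX_4_6_22 i (by omega) (by omega)
  by_cases h23 : i < 72000
  · exact (allR_iff _ _ _).mp CX_4_6_23 i (by omega) (by omega)
  by_cases h24 : i < 75000
  · exact (allR_iff _ _ _).mp CX_4_6_24 i (by omega) (by omega)
  by_cases h25 : i < 78000
  · exact (allR_iff _ _ _).mp CX_4_6_25 i (by omega) (by omega)
  by_cases h26 : i < 81000
  · exact (allR_iff _ _ _).mp CX_4_6_26 i (by omega) (by omega)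
  by_cases h27 : i < 84000
  · exact (allR_iff _ _ _).mp CX_4_6_27 i (by omega) (by omega)
  by_cases h28 : i < 87000
  · exact (allR_iff _ _ _).mp CX_4_6_28 i (by omega) (by omega)
  by_cases h29 : i < 90000
  · exact (allR_iff _ _ _).mp CX_4_6_29 i (by omega) (by omega)
  by_cases h30 : i < 93000
  · exact (allR_iff _ _ _).mp CX_4_6_30 i (by omega) (by omega)
  by_cases h31 : i < 96000
  · exact (allR_iff _ _ _).mp CX_4_6_31 i (by omega) (by omega)
  by_cases h32 : i < 99000
  · exact (allR_iff _ _ _).mp CX_4_6_32 i (by omega) (by omega)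
  by_cases h33 : i < 102000
  · exact (allR_iff _ _ _).mp CX_4_6_33 i (by omega) (by omega)
  by_cases h34 : i < 105000
  · exact (allR_iff _ _ _).mp CX_4_6_34 i (by omega) (by omega)
  by_cases h35 : i < 108000
  · exact (allR_iff _ _ _).mp CX_4_6_35 i (by omega) (by omega)
  by_cases h36 : i < 111000
  · exact (allR_iff _ _ _).mp CX_4_6_36 i (by omega) (by omega)
  by_cases h37 : i < 114000
  · exact (allR_iff _ _ _).mp CX_4_6_37 i (by omega) (by omega)
  by_cases h38 : i < 117000
  · exact (allR_iff _ _ _).mp CX_4_6_38 i (by omega) (by omega)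
  by_cases h39 : i < 120000
  · exact (allR_iff _ _ _).mp CX_4_6_39 i (by omega) (by omega)
  exact (allR_iff _ _ _).mp CX_4_6_40 i (by omega) (by omega)


theorem CX_4_7_all : ∀ i, i < N → (pK (coxK c4 c7 2)) i = true := by
  intro i hi
  have hN : N = 122760 := rfl
  by_cases h0 : i < 3000
  · exact (allR_iff _ _ _).mp CX_4_7_0 i (by omega) (by omega)
  by_cases h1 : i < 6000
  · exact (allR_iff _ _ _).mp CX_4_7_1 i (by omega) (by omega)
  by_cases h2 : i < 9000
  · exact (allR_iff _ _ _).mp CX_4_7_2 i (by omega) (by omega)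
  by_cases h3 : i < 12000
  · exact (allR_iff _ _ _).mp CX_4_7_3 i (by omega) (by omega)
  by_cases h4 : i < 15000
  · exact (allR_iff _ _ _).mp CX_4_7_4 i (by omega) (by omega)
  by_cases h5 : i < 18000
  · exact (allR_iff _ _ _).mp CX_4_7_5 i (by omega) (by omega)
  by_cases h6 : i < 21000
  · exact (allR_iff _ _ _).mp CX_4_7_6 i (by omega) (by omega)
  by_cases h7 : i < 24000
  · exact (allR_iff _ _ _).mp CX_4_7_7 i (by omega) (by omega)
  by_cases h8 : i < 27000
  · exact (allR_iff _ _ _).mp CX_4_7_8 i (by omega) (by omega)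
  by_cases h9 : i < 30000
  · exact (allR_iff _ _ _).mp CX_4_7_9 i (by omega) (by omega)
  by_cases h10 : i < 33000
  · exact (allR_iff _ _ _).mp CX_4_7_10 i (by omega) (by omega)
  by_cases h11 : i < 36000
  · exact (allR_iff _ _ _).mp CX_4_7_11 i (by omega) (by omega)
  by_cases h12 : i < 39000
  · exact (allR_iff _ _ _).mp CX_4_7_12 i (by omega) (by omega)
  by_cases h13 : i < 42000
  · exact (allR_iff _ _ _).mp CX_4_7_13 i (by omega) (by omega)
  by_cases h14 : i < 45000
  · exact (allR_iff _ _ _).mp CX_4_7_14 i (by omega) (by omega)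
  by_cases h15 : i < 48000
  · exact (allR_iff _ _ _).mp CX_4_7_15 i (by omega) (by omega)
  by_cases h16 : i < 51000
  · exact (allR_iff _ _ _).mp CX_4_7_16 i (by omega) (by omega)
  by_cases h17 : i < 54000
  · exact (allR_iff _ _ _).mp CX_4_7_17 i (by omega) (by omega)
  by_cases h18 : i < 57000
  · exact (allR_iff _ _ _).mp CX_4_7_18 i (by omega) (by omega)
  by_cases h19 : i < 60000
  · exact (allR_iff _ _ _).mp CX_4_7_19 i (by omega) (by omega)
  by_cases h20 : i < 63000
  · exact (allR_iff _ _ _).mp CX_4_7_20 i (by omega) (by omega)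
  by_cases h21 : i < 66000
  · exact (allR_iff _ _ _).mp CX_4_7_21 i (by omega) (by omega)
  by_cases h22 : i < 69000
  · exact (allR_iff _ _ _).mp CX_4_7_22 i (by omega) (by omega)
  by_cases h23 : i < 72000
  · exact (allR_iff _ _ _).mp CX_4_7_23 i (by omega) (by omega)
  by_cases h24 : i < 75000
  · exact (allR_iff _ _ _).mp CX_4_7_24 i (by omega) (by omega)
  by_cases h25 : i < 78000
  · exact (allR_iff _ _ _).mp CX_4_7_25 i (by omega) (by omega)
  by_cases h26 : i < 81000
  · exact (allR_iff _ _ _).mp CX_4_7_26 i (by omega) (by omega)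
  by_cases h27 : i < 84000
  · exact (allR_iff _ _ _).mp CX_4_7_27 i (by omega) (by omega)
  by_cases h28 : i < 87000
  · exact (allR_iff _ _ _).mp CX_4_7_28 i (by omega) (by omega)
  by_cases h29 : i < 90000
  · exact (allR_iff _ _ _).mp CX_4_7_29 i (by omega) (by omega)
  by_cases h30 : i < 93000
  · exact (allR_iff _ _ _).mp CX_4_7_30 i (by omega) (by omega)
  by_cases h31 : i < 96000
  · exact (allR_iff _ _ _).mp CX_4_7_31 i (by omega) (by omega)
  by_cases h32 : i < 99000
  · exact (allR_iff _ _ _).mp CX_4_7_32 i (by omega) (by omega)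
  by_cases h33 : i < 102000
  · exact (allR_iff _ _ _).mp CX_4_7_33 i (by omega) (by omega)
  by_cases h34 : i < 105000
  · exact (allR_iff _ _ _).mp CX_4_7_34 i (by omega) (by omega)
  by_cases h35 : i < 108000
  · exact (allR_iff _ _ _).mp CX_4_7_35 i (by omega) (by omega)
  by_cases h36 : i < 111000
  · exact (allR_iff _ _ _).mp CX_4_7_36 i (by omega) (by omega)
  by_cases h37 : i < 114000
  · exact (allR_iff _ _ _).mp CX_4_7_37 i (by omega) (by omega)
  by_cases h38 : i < 117000
  · exact (allR_iff _ _ _).mp CX_4_7_38 i (by omega) (by omega)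
  by_cases h39 : i < 120000
  · exact (allR_iff _ _ _).mp CX_4_7_39 i (by omega) (by omega)
  exact (allR_iff _ _ _).mp CX_4_7_40 i (by omega) (by omega)


theorem CX_5_6_all : ∀ i, i < N → (pK (coxK c5 c6 3)) i = true := by
  intro i hi
  have hN : N = 122760 := rfl
  by_cases h0 : i < 2000
  · exact (allR_iff _ _ _).mp CX_5_6_0 i (by omega) (by omega)
  by_cases h1 : i < 4000
  · exact (allR_iff _ _ _).mp CX_5_6_1 i (by omega) (by omega)
  by_cases h2 : i < 6000
  · exact (allR_iff _ _ _).mp CX_5_6_2 i (by omega) (by omega)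
  by_cases h3 : i < 8000
  · exact (allR_iff _ _ _).mp CX_5_6_3 i (by omega) (by omega)
  by_cases h4 : i < 10000
  · exact (allR_iff _ _ _).mp CX_5_6_4 i (by omega) (by omega)
  by_cases h5 : i < 12000
  · exact (allR_iff _ _ _).mp CX_5_6_5 i (by omega) (by omega)
  by_cases h6 : i < 14000
  · exact (allR_iff _ _ _).mp CX_5_6_6 i (by omega) (by omega)
  by_cases h7 : i < 16000
  · exact (allR_iff _ _ _).mp CX_5_6_7 i (by omega) (by omega)
  by_cases h8 : i < 18000
  · exact (allR_iff _ _ _).mp CX_5_6_8 i (by omega) (by omega)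
  by_cases h9 : i < 20000
  · exact (allR_iff _ _ _).mp CX_5_6_9 i (by omega) (by omega)
  by_cases h10 : i < 22000
  · exact (allR_iff _ _ _).mp CX_5_6_10 i (by omega) (by omega)
  by_cases h11 : i < 24000
  · exact (allR_iff _ _ _).mp CX_5_6_11 i (by omega) (by omega)
  by_cases h12 : i < 26000
  · exact (allR_iff _ _ _).mp CX_5_6_12 i (by omega) (by omega)
  by_cases h13 : i < 28000
  · exact (allR_iff _ _ _).mp CX_5_6_13 i (by omega) (by omega)
  by_cases h14 : i < 30000
  · exact (allR_iff _ _ _).mp CX_5_6_14 i (by omega) (by omega)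
  by_cases h15 : i < 32000
  · exact (allR_iff _ _ _).mp CX_5_6_15 i (by omega) (by omega)
  by_cases h16 : i < 34000
  · exact (allR_iff _ _ _).mp CX_5_6_16 i (by omega) (by omega)
  by_cases h17 : i < 36000
  · exact (allR_iff _ _ _).mp CX_5_6_17 i (by omega) (by omega)
  by_cases h18 : i < 38000
  · exact (allR_iff _ _ _).mp CX_5_6_18 i (by omega) (by omega)
  by_cases h19 : i < 40000
  · exact (allR_iff _ _ _).mp CX_5_6_19 i (by omega) (by omega)
  by_cases h20 : i < 42000
  · exact (allR_iff _ _ _).mp CX_5_6_20 i (by omega) (by omega)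
  by_cases h21 : i < 44000
  · exact (allR_iff _ _ _).mp CX_5_6_21 i (by omega) (by omega)
  by_cases h22 : i < 46000
  · exact (allR_iff _ _ _).mp CX_5_6_22 i (by omega) (by omega)
  by_cases h23 : i < 48000
  · exact (allR_iff _ _ _).mp CX_5_6_23 i (by omega) (by omega)
  by_cases h24 : i < 50000
  · exact (allR_iff _ _ _).mp CX_5_6_24 i (by omega) (by omega)
  by_cases h25 : i < 52000
  · exact (allR_iff _ _ _).mp CX_5_6_25 i (by omega) (by omega)
  by_cases h26 : i < 54000
  · exact (allR_iff _ _ _).mp CX_5_6_26 i (by omega) (by omega)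
  by_cases h27 : i < 56000
  · exact (allR_iff _ _ _).mp CX_5_6_27 i (by omega) (by omega)
  by_cases h28 : i < 58000
  · exact (allR_iff _ _ _).mp CX_5_6_28 i (by omega) (by omega)
  by_cases h29 : i < 60000
  · exact (allR_iff _ _ _).mp CX_5_6_29 i (by omega) (by omega)
  by_cases h30 : i < 62000
  · exact (allR_iff _ _ _).mp CX_5_6_30 i (by omega) (by omega)
  by_cases h31 : i < 64000
  · exact (allR_iff _ _ _).mp CX_5_6_31 i (by omega) (by omega)
  by_cases h32 : i < 66000
  · exact (allR_iff _ _ _).mp CX_5_6_32 i (by omega) (by omega)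
  by_cases h33 : i < 68000
  · exact (allR_iff _ _ _).mp CX_5_6_33 i (by omega) (by omega)
  by_cases h34 : i < 70000
  · exact (allR_iff _ _ _).mp CX_5_6_34 i (by omega) (by omega)
  by_cases h35 : i < 72000
  · exact (allR_iff _ _ _).mp CX_5_6_35 i (by omega) (by omega)
  by_cases h36 : i < 74000
  · exact (allR_iff _ _ _).mp CX_5_6_36 i (by omega) (by omega)
  by_cases h37 : i < 76000
  · exact (allR_iff _ _ _).mp CX_5_6_37 i (by omega) (by omega)
  by_cases h38 : i < 78000
  · exact (allR_iff _ _ _).mp CX_5_6_38 i (by omega) (by omega)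
  by_cases h39 : i < 80000
  · exact (allR_iff _ _ _).mp CX_5_6_39 i (by omega) (by omega)
  by_cases h40 : i < 82000
  · exact (allR_iff _ _ _).mp CX_5_6_40 i (by omega) (by omega)
  by_cases h41 : i < 84000
  · exact (allR_iff _ _ _).mp CX_5_6_41 i (by omega) (by omega)
  by_cases h42 : i < 86000
  · exact (allR_iff _ _ _).mp CX_5_6_42 i (by omega) (by omega)
  by_cases h43 : i < 88000
  · exact (allR_iff _ _ _).mp CX_5_6_43 i (by omega) (by omega)
  by_cases h44 : i < 90000
  · exact (allR_iff _ _ _).mp CX_5_6_44 i (by omega) (by omega)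
  by_cases h45 : i < 92000
  · exact (allR_iff _ _ _).mp CX_5_6_45 i (by omega) (by omega)
  by_cases h46 : i < 94000
  · exact (allR_iff _ _ _).mp CX_5_6_46 i (by omega) (by omega)
  by_cases h47 : i < 96000
  · exact (allR_iff _ _ _).mp CX_5_6_47 i (by omega) (by omega)
  by_cases h48 : i < 98000
  · exact (allR_iff _ _ _).mp CX_5_6_48 i (by omega) (by omega)
  by_cases h49 : i < 100000
  · exact (allR_iff _ _ _).mp CX_5_6_49 i (by omega) (by omega)
  by_cases h50 : i < 102000
  · exact (allR_iff _ _ _).mp CX_5_6_50 i (by omega) (by omega)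
  by_cases h51 : i < 104000
  · exact (allR_iff _ _ _).mp CX_5_6_51 i (by omega) (by omega)
  by_cases h52 : i < 106000
  · exact (allR_iff _ _ _).mp CX_5_6_52 i (by omega) (by omega)
  by_cases h53 : i < 108000
  · exact (allR_iff _ _ _).mp CX_5_6_53 i (by omega) (by omega)
  by_cases h54 : i < 110000
  · exact (allR_iff _ _ _).mp CX_5_6_54 i (by omega) (by omega)
  by_cases h55 : i < 112000
  · exact (allR_iff _ _ _).mp CX_5_6_55 i (by omega) (by omega)
  by_cases h56 : i < 114000
  · exact (allR_iff _ _ _).mp CX_5_6_56 i (by omega) (by omega)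
  by_cases h57 : i < 116000
  · exact (allR_iff _ _ _).mp CX_5_6_57 i (by omega) (by omega)
  by_cases h58 : i < 118000
  · exact (allR_iff _ _ _).mp CX_5_6_58 i (by omega) (by omega)
  by_cases h59 : i < 120000
  · exact (allR_iff _ _ _).mp CX_5_6_59 i (by omega) (by omega)
  by_cases h60 : i < 122000
  · exact (allR_iff _ _ _).mp CX_5_6_60 i (by omega) (by omega)
  exact (allR_iff _ _ _).mp CX_5_6_61 i (by omega) (by omega)


theorem CX_5_7_all : ∀ i, i < N → (pK (coxK c5 c7 2)) i = true := by
  intro i hi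
  have hN : N = 122760 := rfl
  by_cases h0 : i < 3000
  · exact (allR_iff _ _ _).mp CX_5_7_0 i (by omega) (by omega)
  by_cases h1 : i < 6000
  · exact (allR_iff _ _ _).mp CX_5_7_1 i (by omega) (by omega)
  by_cases h2 : i < 9000
  · exact (allR_iff _ _ _).mp CX_5_7_2 i (by omega) (by omega)
  by_cases h3 : i < 12000
  · exact (allR_iff _ _ _).mp CX_5_7_3 i (by omega) (by omega)
  by_cases h4 : i < 15000
  · exact (allR_iff _ _ _).mp CX_5_7_4 i (by omega) (by omega)
  by_cases h5 : i < 18000
  · exact (allR_iff _ _ _).mp CX_5_7_5 i (by omega) (by omega)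
  by_cases h6 : i < 21000
  · exact (allR_iff _ _ _).mp CX_5_7_6 i (by omega) (by omega)
  by_cases h7 : i < 24000
  · exact (allR_iff _ _ _).mp CX_5_7_7 i (by omega) (by omega)
  by_cases h8 : i < 27000
  · exact (allR_iff _ _ _).mp CX_5_7_8 i (by omega) (by omega)
  by_cases h9 : i < 30000
  · exact (allR_iff _ _ _).mp CX_5_7_9 i (by omega) (by omega)
  by_cases h10 : i < 33000
  · exact (allR_iff _ _ _).mp CX_5_7_10 i (by omega) (by omega)
  by_cases h11 : i < 36000
  · exact (allR_iff _ _ _).mp CX_5_7_11 i (by omega) (by omega)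
  by_cases h12 : i < 39000
  · exact (allR_iff _ _ _).mp CX_5_7_12 i (by omega) (by omega)
  by_cases h13 : i < 42000
  · exact (allR_iff _ _ _).mp CX_5_7_13 i (by omega) (by omega)
  by_cases h14 : i < 45000
  · exact (allR_iff _ _ _).mp CX_5_7_14 i (by omega) (by omega)
  by_cases h15 : i < 48000
  · exact (allR_iff _ _ _).mp CX_5_7_15 i (by omega) (by omega)
  by_cases h16 : i < 51000
  · exact (allR_iff _ _ _).mp CX_5_7_16 i (by omega) (by omega)
  by_cases h17 : i < 54000
  · exact (allR_iff _ _ _).mp CX_5_7_17 i (by omega) (by omega)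
  by_cases h18 : i < 57000
  · exact (allR_iff _ _ _).mp CX_5_7_18 i (by omega) (by omega)
  by_cases h19 : i < 60000
  · exact (allR_iff _ _ _).mp CX_5_7_19 i (by omega) (by omega)
  by_cases h20 : i < 63000
  · exact (allR_iff _ _ _).mp CX_5_7_20 i (by omega) (by omega)
  by_cases h21 : i < 66000
  · exact (allR_iff _ _ _).mp CX_5_7_21 i (by omega) (by omega)
  by_cases h22 : i < 69000
  · exact (allR_iff _ _ _).mp CX_5_7_22 i (by omega) (by omega)
  by_cases h23 : i < 72000
  · exact (allR_iff _ _ _).mp CX_5_7_23 i (by omega) (by omega)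
  by_cases h24 : i < 75000
  · exact (allR_iff _ _ _).mp CX_5_7_24 i (by omega) (by omega)
  by_cases h25 : i < 78000
  · exact (allR_iff _ _ _).mp CX_5_7_25 i (by omega) (by omega)
  by_cases h26 : i < 81000
  · exact (allR_iff _ _ _).mp CX_5_7_26 i (by omega) (by omega)
  by_cases h27 : i < 84000
  · exact (allR_iff _ _ _).mp CX_5_7_27 i (by omega) (by omega)
  by_cases h28 : i < 87000
  · exact (allR_iff _ _ _).mp CX_5_7_28 i (by omega) (by omega)
  by_cases h29 : i < 90000
  · exact (allR_iff _ _ _).mp CX_5_7_29 i (by omega) (by omega)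
  by_cases h30 : i < 93000
  · exact (allR_iff _ _ _).mp CX_5_7_30 i (by omega) (by omega)
  by_cases h31 : i < 96000
  · exact (allR_iff _ _ _).mp CX_5_7_31 i (by omega) (by omega)
  by_cases h32 : i < 99000
  · exact (allR_iff _ _ _).mp CX_5_7_32 i (by omega) (by omega)
  by_cases h33 : i < 102000
  · exact (allR_iff _ _ _).mp CX_5_7_33 i (by omega) (by omega)
  by_cases h34 : i < 105000
  · exact (allR_iff _ _ _).mp CX_5_7_34 i (by omega) (by omega)
  by_cases h35 : i < 108000
  · exact (allR_iff _ _ _).mp CX_5_7_35 i (by omega) (by omega)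
  by_cases h36 : i < 111000
  · exact (allR_iff _ _ _).mp CX_5_7_36 i (by omega) (by omega)
  by_cases h37 : i < 114000
  · exact (allR_iff _ _ _).mp CX_5_7_37 i (by omega) (by omega)
  by_cases h38 : i < 117000
  · exact (allR_iff _ _ _).mp CX_5_7_38 i (by omega) (by omega)
  by_cases h39 : i < 120000
  · exact (allR_iff _ _ _).mp CX_5_7_39 i (by omega) (by omega)
  exact (allR_iff _ _ _).mp CX_5_7_40 i (by omega) (by omega)


theorem CX_6_7_all : ∀ i, i < N → (pK (coxK c6 c7 3)) i = true := by
  intro i hi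
  have hN : N = 122760 := rfl
  by_cases h0 : i < 2000
  · exact (allR_iff _ _ _).mp CX_6_7_0 i (by omega) (by omega)
  by_cases h1 : i < 4000
  · exact (allR_iff _ _ _).mp CX_6_7_1 i (by omega) (by omega)
  by_cases h2 : i < 6000
  · exact (allR_iff _ _ _).mp CX_6_7_2 i (by omega) (by omega)
  by_cases h3 : i < 8000
  · exact (allR_iff _ _ _).mp CX_6_7_3 i (by omega) (by omega)
  by_cases h4 : i < 10000
  · exact (allR_iff _ _ _).mp CX_6_7_4 i (by omega) (by omega)
  by_cases h5 : i < 12000
  · exact (allR_iff _ _ _).mp CX_6_7_5 i (by omega) (by omega)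
  by_cases h6 : i < 14000
  · exact (allR_iff _ _ _).mp CX_6_7_6 i (by omega) (by omega)
  by_cases h7 : i < 16000
  · exact (allR_iff _ _ _).mp CX_6_7_7 i (by omega) (by omega)
  by_cases h8 : i < 18000
  · exact (allR_iff _ _ _).mp CX_6_7_8 i (by omega) (by omega)
  by_cases h9 : i < 20000
  · exact (allR_iff _ _ _).mp CX_6_7_9 i (by omega) (by omega)
  by_cases h10 : i < 22000
  · exact (allR_iff _ _ _).mp CX_6_7_10 i (by omega) (by omega)
  by_cases h11 : i < 24000
  · exact (allR_iff _ _ _).mp CX_6_7_11 i (by omega) (by omega)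
  by_cases h12 : i < 26000
  · exact (allR_iff _ _ _).mp CX_6_7_12 i (by omega) (by omega)
  by_cases h13 : i < 28000
  · exact (allR_iff _ _ _).mp CX_6_7_13 i (by omega) (by omega)
  by_cases h14 : i < 30000
  · exact (allR_iff _ _ _).mp CX_6_7_14 i (by omega) (by omega)
  by_cases h15 : i < 32000
  · exact (allR_iff _ _ _).mp CX_6_7_15 i (by omega) (by omega)
  by_cases h16 : i < 34000
  · exact (allR_iff _ _ _).mp CX_6_7_16 i (by omega) (by omega)
  by_cases h17 : i < 36000
  · exact (allR_iff _ _ _).mp CX_6_7_17 i (by omega) (by omega)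
  by_cases h18 : i < 38000
  · exact (allR_iff _ _ _).mp CX_6_7_18 i (by omega) (by omega)
  by_cases h19 : i < 40000
  · exact (allR_iff _ _ _).mp CX_6_7_19 i (by omega) (by omega)
  by_cases h20 : i < 42000
  · exact (allR_iff _ _ _).mp CX_6_7_20 i (by omega) (by omega)
  by_cases h21 : i < 44000
  · exact (allR_iff _ _ _).mp CX_6_7_21 i (by omega) (by omega)
  by_cases h22 : i < 46000
  · exact (allR_iff _ _ _).mp CX_6_7_22 i (by omega) (by omega)
  by_cases h23 : i < 48000
  · exact (allR_iff _ _ _).mp CX_6_7_23 i (by omega) (by omega)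
  by_cases h24 : i < 50000
  · exact (allR_iff _ _ _).mp CX_6_7_24 i (by omega) (by omega)
  by_cases h25 : i < 52000
  · exact (allR_iff _ _ _).mp CX_6_7_25 i (by omega) (by omega)
  by_cases h26 : i < 54000
  · exact (allR_iff _ _ _).mp CX_6_7_26 i (by omega) (by omega)
  by_cases h27 : i < 56000
  · exact (allR_iff _ _ _).mp CX_6_7_27 i (by omega) (by omega)
  by_cases h28 : i < 58000
  · exact (allR_iff _ _ _).mp CX_6_7_28 i (by omega) (by omega)
  by_cases h29 : i < 60000
  · exact (allR_iff _ _ _).mp CX_6_7_29 i (by omega) (by omega)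
  by_cases h30 : i < 62000
  · exact (allR_iff _ _ _).mp CX_6_7_30 i (by omega) (by omega)
  by_cases h31 : i < 64000
  · exact (allR_iff _ _ _).mp CX_6_7_31 i (by omega) (by omega)
  by_cases h32 : i < 66000
  · exact (allR_iff _ _ _).mp CX_6_7_32 i (by omega) (by omega)
  by_cases h33 : i < 68000
  · exact (allR_iff _ _ _).mp CX_6_7_33 i (by omega) (by omega)
  by_cases h34 : i < 70000
  · exact (allR_iff _ _ _).mp CX_6_7_34 i (by omega) (by omega)
  by_cases h35 : i < 72000
  · exact (allR_iff _ _ _).mp CX_6_7_35 i (by omega) (by omega)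
  by_cases h36 : i < 74000
  · exact (allR_iff _ _ _).mp CX_6_7_36 i (by omega) (by omega)
  by_cases h37 : i < 76000
  · exact (allR_iff _ _ _).mp CX_6_7_37 i (by omega) (by omega)
  by_cases h38 : i < 78000
  · exact (allR_iff _ _ _).mp CX_6_7_38 i (by omega) (by omega)
  by_cases h39 : i < 80000
  · exact (allR_iff _ _ _).mp CX_6_7_39 i (by omega) (by omega)
  by_cases h40 : i < 82000
  · exact (allR_iff _ _ _).mp CX_6_7_40 i (by omega) (by omega)
  by_cases h41 : i < 84000
  · exact (allR_iff _ _ _).mp CX_6_7_41 i (by omega) (by omega)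
  by_cases h42 : i < 86000
  · exact (allR_iff _ _ _).mp CX_6_7_42 i (by omega) (by omega)
  by_cases h43 : i < 88000
  · exact (allR_iff _ _ _).mp CX_6_7_43 i (by omega) (by omega)
  by_cases h44 : i < 90000
  · exact (allR_iff _ _ _).mp CX_6_7_44 i (by omega) (by omega)
  by_cases h45 : i < 92000
  · exact (allR_iff _ _ _).mp CX_6_7_45 i (by omega) (by omega)
  by_cases h46 : i < 94000
  · exact (allR_iff _ _ _).mp CX_6_7_46 i (by omega) (by omega)
  by_cases h47 : i < 96000
  · exact (allR_iff _ _ _).mp CX_6_7_47 i (by omega) (by omega)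
  by_cases h48 : i < 98000
  · exact (allR_iff _ _ _).mp CX_6_7_48 i (by omega) (by omega)
  by_cases h49 : i < 100000
  · exact (allR_iff _ _ _).mp CX_6_7_49 i (by omega) (by omega)
  by_cases h50 : i < 102000
  · exact (allR_iff _ _ _).mp CX_6_7_50 i (by omega) (by omega)
  by_cases h51 : i < 104000
  · exact (allR_iff _ _ _).mp CX_6_7_51 i (by omega) (by omega)
  by_cases h52 : i < 106000
  · exact (allR_iff _ _ _).mp CX_6_7_52 i (by omega) (by omega)
  by_cases h53 : i < 108000
  · exact (allR_iff _ _ _).mp CX_6_7_53 i (by omega) (by omega)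
  by_cases h54 : i < 110000
  · exact (allR_iff _ _ _).mp CX_6_7_54 i (by omega) (by omega)
  by_cases h55 : i < 112000
  · exact (allR_iff _ _ _).mp CX_6_7_55 i (by omega) (by omega)
  by_cases h56 : i < 114000
  · exact (allR_iff _ _ _).mp CX_6_7_56 i (by omega) (by omega)
  by_cases h57 : i < 116000
  · exact (allR_iff _ _ _).mp CX_6_7_57 i (by omega) (by omega)
  by_cases h58 : i < 118000
  · exact (allR_iff _ _ _).mp CX_6_7_58 i (by omega) (by omega)
  by_cases h59 : i < 120000
  · exact (allR_iff _ _ _).mp CX_6_7_59 i (by omega) (by omega)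
  by_cases h60 : i < 122000
  · exact (allR_iff _ _ _).mp CX_6_7_60 i (by omega) (by omega)
  exact (allR_iff _ _ _).mp CX_6_7_61 i (by omega) (by omega)

theorem HC_2_2 : PC 2 2 := by
  unfold PC
  rw [show coxLabel ON.edges (gen 2) (gen 2) = 1 from by decide, pow_one]
  have := σi2
  rwa [inv_eq_iff_mul_eq_one] at this
theorem HC_2_3 : PC 2 3 := by
  unfold PC
  rw [show coxLabel ON.edges (gen 2) (gen 3) = 3 from by decide, ← permw_coxW]
  exact permw_one (by decide) (pW_of_pK (coxW_map 2 3 3) CX_2_3_all)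
theorem HC_2_4 : PC 2 4 := by
  unfold PC
  rw [show coxLabel ON.edges (gen 2) (gen 4) = 2 from by decide, ← permw_coxW]
  exact permw_one (by decide) (pW_of_pK (coxW_map 2 4 2) CX_2_4_all)
theorem HC_2_5 : PC 2 5 := by
  unfold PC
  rw [show coxLabel ON.edges (gen 2) (gen 5) = 2 from by decide, ← permw_coxW]
  exact permw_one (by decide) (pW_of_pK (coxW_map 2 5 2) CX_2_5_all)
theorem HC_2_6 : PC 2 6 := by
  unfold PC
  rw [show coxLabel ON.edges (gen 2) (gen 6) = 2 from by decide, ← permw_coxW]
  exact permw_one (by decide) (pW_of_pK (coxW_map 2 6 2) CX_2_6_all)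
theorem HC_2_7 : PC 2 7 := by
  unfold PC
  rw [show coxLabel ON.edges (gen 2) (gen 7) = 2 from by decide, ← permw_coxW]
  exact permw_one (by decide) (pW_of_pK (coxW_map 2 7 2) CX_2_7_all)
theorem HC_3_3 : PC 3 3 := by
  unfold PC
  rw [show coxLabel ON.edges (gen 3) (gen 3) = 1 from by decide, pow_one]
  have := σi3
  rwa [inv_eq_iff_mul_eq_one] at this
theorem HC_3_4 : PC 3 4 := by
  unfold PC
  rw [show coxLabel ON.edges (gen 3) (gen 4) = 3 from by decide, ← permw_coxW]
  exact permw_one (by decide) (pW_of_pK (coxW_map 3 4 3) CX_3_4_all)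
theorem HC_3_5 : PC 3 5 := by
  unfold PC
  rw [show coxLabel ON.edges (gen 3) (gen 5) = 2 from by decide, ← permw_coxW]
  exact permw_one (by decide) (pW_of_pK (coxW_map 3 5 2) CX_3_5_all)
theorem HC_3_6 : PC 3 6 := by
  unfold PC
  rw [show coxLabel ON.edges (gen 3) (gen 6) = 2 from by decide, ← permw_coxW]
  exact permw_one (by decide) (pW_of_pK (coxW_map 3 6 2) CX_3_6_all)
theorem HC_3_7 : PC 3 7 := by
  unfold PC
  rw [show coxLabel ON.edges (gen 3) (gen 7) = 2 from by decide, ← permw_coxW]
  exact permw_one (by decide) (pW_of_pK (coxW_map 3 7 2) CX_3_7_all)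
theorem HC_4_4 : PC 4 4 := by
  unfold PC
  rw [show coxLabel ON.edges (gen 4) (gen 4) = 1 from by decide, pow_one]
  have := σi4
  rwa [inv_eq_iff_mul_eq_one] at this
theorem HC_4_5 : PC 4 5 := by
  unfold PC
  rw [show coxLabel ON.edges (gen 4) (gen 5) = 8 from by decide, ← permw_coxW]
  exact permw_one (by decide) (pW_of_pK (coxW_map 4 5 8) CX_4_5_all)
theorem HC_4_6 : PC 4 6 := by
  unfold PC
  rw [show coxLabel ON.edges (gen 4) (gen 6) = 2 from by decide, ← permw_coxW]
  exact permw_one (by decide) (pW_of_pK (coxW_map 4 6 2) CX_4_6_all)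
theorem HC_4_7 : PC 4 7 := by
  unfold PC
  rw [show coxLabel ON.edges (gen 4) (gen 7) = 2 from by decide, ← permw_coxW]
  exact permw_one (by decide) (pW_of_pK (coxW_map 4 7 2) CX_4_7_all)
theorem HC_5_5 : PC 5 5 := by
  unfold PC
  rw [show coxLabel ON.edges (gen 5) (gen 5) = 1 from by decide, pow_one]
  have := σi5
  rwa [inv_eq_iff_mul_eq_one] at this
theorem HC_5_6 : PC 5 6 := by
  unfold PC
  rw [show coxLabel ON.edges (gen 5) (gen 6) = 3 from by decide, ← permw_coxW]
  exact permw_one (by decide) (pW_of_pK (coxW_map 5 6 3) CX_5_6_all)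
theorem HC_5_7 : PC 5 7 := by
  unfold PC
  rw [show coxLabel ON.edges (gen 5) (gen 7) = 2 from by decide, ← permw_coxW]
  exact permw_one (by decide) (pW_of_pK (coxW_map 5 7 2) CX_5_7_all)
theorem HC_6_6 : PC 6 6 := by
  unfold PC
  rw [show coxLabel ON.edges (gen 6) (gen 6) = 1 from by decide, pow_one]
  have := σi6
  rwa [inv_eq_iff_mul_eq_one] at this
theorem HC_6_7 : PC 6 7 := by
  unfold PC
  rw [show coxLabel ON.edges (gen 6) (gen 7) = 3 from by decide, ← permw_coxW]
  exact permw_one (by decide) (pW_of_pK (coxW_map 6 7 3) CX_6_7_all)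
theorem HC_7_7 : PC 7 7 := by
  unfold PC
  rw [show coxLabel ON.edges (gen 7) (gen 7) = 1 from by decide, pow_one]
  have := σi7
  rwa [inv_eq_iff_mul_eq_one] at this
theorem HC_3_2 : PC 3 2 := by
  have h := HC_2_3
  unfold PC at h ⊢
  rw [show coxLabel ON.edges (gen 2) (gen 3) = 3 from by decide] at h
  rw [show coxLabel ON.edges (gen 3) (gen 2) = 3 from by decide]
  exact pow_swap σi3 σi2 h
theorem HC_4_2 : PC 4 2 := by
  have h := HC_2_4
  unfold PC at h ⊢
  rw [show coxLabel ON.edges (gen 2) (gen 4) = 2 from by decide] at h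
  rw [show coxLabel ON.edges (gen 4) (gen 2) = 2 from by decide]
  exact pow_swap σi4 σi2 h
theorem HC_4_3 : PC 4 3 := by
  have h := HC_3_4
  unfold PC at h ⊢
  rw [show coxLabel ON.edges (gen 3) (gen 4) = 3 from by decide] at h
  rw [show coxLabel ON.edges (gen 4) (gen 3) = 3 from by decide]
  exact pow_swap σi4 σi3 h
theorem HC_5_2 : PC 5 2 := by
  have h := HC_2_5
  unfold PC at h ⊢
  rw [show coxLabel ON.edges (gen 2) (gen 5) = 2 from by decide] at h
  rw [show coxLabel ON.edges (gen 5) (gen 2) = 2 from by decide]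
  exact pow_swap σi5 σi2 h
theorem HC_5_3 : PC 5 3 := by
  have h := HC_3_5
  unfold PC at h ⊢
  rw [show coxLabel ON.edges (gen 3) (gen 5) = 2 from by decide] at h
  rw [show coxLabel ON.edges (gen 5) (gen 3) = 2 from by decide]
  exact pow_swap σi5 σi3 h
theorem HC_5_4 : PC 5 4 := by
  have h := HC_4_5
  unfold PC at h ⊢
  rw [show coxLabel ON.edges (gen 4) (gen 5) = 8 from by decide] at h
  rw [show coxLabel ON.edges (gen 5) (gen 4) = 8 from by decide]
  exact pow_swap σi5 σi4 h
theorem HC_6_2 : PC 6 2 := by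
  have h := HC_2_6
  unfold PC at h ⊢
  rw [show coxLabel ON.edges (gen 2) (gen 6) = 2 from by decide] at h
  rw [show coxLabel ON.edges (gen 6) (gen 2) = 2 from by decide]
  exact pow_swap σi6 σi2 h
theorem HC_6_3 : PC 6 3 := by
  have h := HC_3_6
  unfold PC at h ⊢
  rw [show coxLabel ON.edges (gen 3) (gen 6) = 2 from by decide] at h
  rw [show coxLabel ON.edges (gen 6) (gen 3) = 2 from by decide]
  exact pow_swap σi6 σi3 h
theorem HC_6_4 : PC 6 4 := by
  have h := HC_4_6
  unfold PC at h ⊢
  rw [show coxLabel ON.edges (gen 4) (gen 6) = 2 from by decide] at h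
  rw [show coxLabel ON.edges (gen 6) (gen 4) = 2 from by decide]
  exact pow_swap σi6 σi4 h
theorem HC_6_5 : PC 6 5 := by
  have h := HC_5_6
  unfold PC at h ⊢
  rw [show coxLabel ON.edges (gen 5) (gen 6) = 3 from by decide] at h
  rw [show coxLabel ON.edges (gen 6) (gen 5) = 3 from by decide]
  exact pow_swap σi6 σi5 h
theorem HC_7_2 : PC 7 2 := by
  have h := HC_2_7
  unfold PC at h ⊢
  rw [show coxLabel ON.edges (gen 2) (gen 7) = 2 from by decide] at h
  rw [show coxLabel ON.edges (gen 7) (gen 2) = 2 from by decide]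
  exact pow_swap σi7 σi2 h
theorem HC_7_3 : PC 7 3 := by
  have h := HC_3_7
  unfold PC at h ⊢
  rw [show coxLabel ON.edges (gen 3) (gen 7) = 2 from by decide] at h
  rw [show coxLabel ON.edges (gen 7) (gen 3) = 2 from by decide]
  exact pow_swap σi7 σi3 h
theorem HC_7_4 : PC 7 4 := by
  have h := HC_4_7
  unfold PC at h ⊢
  rw [show coxLabel ON.edges (gen 4) (gen 7) = 2 from by decide] at h
  rw [show coxLabel ON.edges (gen 7) (gen 4) = 2 from by decide]
  exact pow_swap σi7 σi4 h
theorem HC_7_5 : PC 7 5 := by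
  have h := HC_5_7
  unfold PC at h ⊢
  rw [show coxLabel ON.edges (gen 5) (gen 7) = 2 from by decide] at h
  rw [show coxLabel ON.edges (gen 7) (gen 5) = 2 from by decide]
  exact pow_swap σi7 σi5 h
theorem HC_7_6 : PC 7 6 := by
  have h := HC_6_7
  unfold PC at h ⊢
  rw [show coxLabel ON.edges (gen 6) (gen 7) = 3 from by decide] at h
  rw [show coxLabel ON.edges (gen 7) (gen 6) = 3 from by decide]
  exact pow_swap σi7 σi6 h

theorem hcoxN : ∀ i j, 2 ≤ i → i < 8 → 2 ≤ j → j < 8 → PC i j := by
  intro i j h1 h2 h3 h4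
  interval_cases i <;> interval_cases j
  · exact HC_2_2
  · exact HC_2_3
  · exact HC_2_4
  · exact HC_2_5
  · exact HC_2_6
  · exact HC_2_7
  · exact HC_3_2
  · exact HC_3_3
  · exact HC_3_4
  · exact HC_3_5
  · exact HC_3_6
  · exact HC_3_7
  · exact HC_4_2
  · exact HC_4_3
  · exact HC_4_4
  · exact HC_4_5
  · exact HC_4_6
  · exact HC_4_7
  · exact HC_5_2
  · exact HC_5_3
  · exact HC_5_4
  · exact HC_5_5
  · exact HC_5_6
  · exact HC_5_7
  · exact HC_6_2
  · exact HC_6_3
  · exact HC_6_4
  · exact HC_6_5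
  · exact HC_6_6
  · exact HC_6_7
  · exact HC_7_2
  · exact HC_7_3
  · exact HC_7_4
  · exact HC_7_5
  · exact HC_7_6
  · exact HC_7_7

theorem hcox (x y : Gn) (hx : x ∈ coxNodes ON.edges) (hy : y ∈ coxNodes ON.edges) :
    (fG x * fG y) ^ coxLabel ON.edges x y = 1 := by
  have h1 : 2 ≤ idx x ∧ idx x < 8 := by
    cases x <;> first | exact absurd hx (by decide) | decide
  have h2 : 2 ≤ idx y ∧ idx y < 8 := by
    cases y <;> first | exact absurd hy (by decide) | decide
  have h := hcoxN (idx x) (idx y) h1.1 h1.2 h2.1 h2.2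
  unfold PC at h
  rw [gen_idx, gen_idx] at h
  exact h

def wX0 : List ℕ := [1, 1, 7, 2]


theorem mX0 : wX0.map colOf = kX0 := rfl


theorem XS0_all : ∀ i, i < N → (pK kX0) i = true := by
  intro i hi
  have hN : N = 122760 := rfl
  by_cases h0 : i < 3000
  · exact (allR_iff _ _ _).mp XS0_0 i (by omega) (by omega)
  by_cases h1 : i < 6000
  · exact (allR_iff _ _ _).mp XS0_1 i (by omega) (by omega)
  by_cases h2 : i < 9000
  · exact (allR_iff _ _ _).mp XS0_2 i (by omega) (by omega)
  by_cases h3 : i < 12000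
  · exact (allR_iff _ _ _).mp XS0_3 i (by omega) (by omega)
  by_cases h4 : i < 15000
  · exact (allR_iff _ _ _).mp XS0_4 i (by omega) (by omega)
  by_cases h5 : i < 18000
  · exact (allR_iff _ _ _).mp XS0_5 i (by omega) (by omega)
  by_cases h6 : i < 21000
  · exact (allR_iff _ _ _).mp XS0_6 i (by omega) (by omega)
  by_cases h7 : i < 24000
  · exact (allR_iff _ _ _).mp XS0_7 i (by omega) (by omega)
  by_cases h8 : i < 27000
  · exact (allR_iff _ _ _).mp XS0_8 i (by omega) (by omega)
  by_cases h9 : i < 30000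
  · exact (allR_iff _ _ _).mp XS0_9 i (by omega) (by omega)
  by_cases h10 : i < 33000
  · exact (allR_iff _ _ _).mp XS0_10 i (by omega) (by omega)
  by_cases h11 : i < 36000
  · exact (allR_iff _ _ _).mp XS0_11 i (by omega) (by omega)
  by_cases h12 : i < 39000
  · exact (allR_iff _ _ _).mp XS0_12 i (by omega) (by omega)
  by_cases h13 : i < 42000
  · exact (allR_iff _ _ _).mp XS0_13 i (by omega) (by omega)
  by_cases h14 : i < 45000
  · exact (allR_iff _ _ _).mp XS0_14 i (by omega) (by omega)
  by_cases h15 : i < 48000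
  · exact (allR_iff _ _ _).mp XS0_15 i (by omega) (by omega)
  by_cases h16 : i < 51000
  · exact (allR_iff _ _ _).mp XS0_16 i (by omega) (by omega)
  by_cases h17 : i < 54000
  · exact (allR_iff _ _ _).mp XS0_17 i (by omega) (by omega)
  by_cases h18 : i < 57000
  · exact (allR_iff _ _ _).mp XS0_18 i (by omega) (by omega)
  by_cases h19 : i < 60000
  · exact (allR_iff _ _ _).mp XS0_19 i (by omega) (by omega)
  by_cases h20 : i < 63000
  · exact (allR_iff _ _ _).mp XS0_20 i (by omega) (by omega)
  by_cases h21 : i < 66000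
  · exact (allR_iff _ _ _).mp XS0_21 i (by omega) (by omega)
  by_cases h22 : i < 69000
  · exact (allR_iff _ _ _).mp XS0_22 i (by omega) (by omega)
  by_cases h23 : i < 72000
  · exact (allR_iff _ _ _).mp XS0_23 i (by omega) (by omega)
  by_cases h24 : i < 75000
  · exact (allR_iff _ _ _).mp XS0_24 i (by omega) (by omega)
  by_cases h25 : i < 78000
  · exact (allR_iff _ _ _).mp XS0_25 i (by omega) (by omega)
  by_cases h26 : i < 81000
  · exact (allR_iff _ _ _).mp XS0_26 i (by omega) (by omega)
  by_cases h27 : i < 84000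
  · exact (allR_iff _ _ _).mp XS0_27 i (by omega) (by omega)
  by_cases h28 : i < 87000
  · exact (allR_iff _ _ _).mp XS0_28 i (by omega) (by omega)
  by_cases h29 : i < 90000
  · exact (allR_iff _ _ _).mp XS0_29 i (by omega) (by omega)
  by_cases h30 : i < 93000
  · exact (allR_iff _ _ _).mp XS0_30 i (by omega) (by omega)
  by_cases h31 : i < 96000
  · exact (allR_iff _ _ _).mp XS0_31 i (by omega) (by omega)
  by_cases h32 : i < 99000
  · exact (allR_iff _ _ _).mp XS0_32 i (by omega) (by omega)
  by_cases h33 : i < 102000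
  · exact (allR_iff _ _ _).mp XS0_33 i (by omega) (by omega)
  by_cases h34 : i < 105000
  · exact (allR_iff _ _ _).mp XS0_34 i (by omega) (by omega)
  by_cases h35 : i < 108000
  · exact (allR_iff _ _ _).mp XS0_35 i (by omega) (by omega)
  by_cases h36 : i < 111000
  · exact (allR_iff _ _ _).mp XS0_36 i (by omega) (by omega)
  by_cases h37 : i < 114000
  · exact (allR_iff _ _ _).mp XS0_37 i (by omega) (by omega)
  by_cases h38 : i < 117000
  · exact (allR_iff _ _ _).mp XS0_38 i (by omega) (by omega)
  by_cases h39 : i < 120000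
  · exact (allR_iff _ _ _).mp XS0_39 i (by omega) (by omega)
  exact (allR_iff _ _ _).mp XS0_40 i (by omega) (by omega)

theorem X0 : FreeGroup.lift fG ((ON.a * ON.f) * ((ON.g ^ 2)⁻¹)) = 1 := by
  have h : permw wX0 = 1 := permw_one (by decide) (pW_of_pK mX0 XS0_all)
  simp only [map_mul, map_inv, map_pow, FreeGroup.lift_apply_of, fG, idx]
  simp only [pow_succ, pow_zero, one_mul, mul_inv_rev, inv_inv, σi0, σi1, σi2, σi3, σi4, σi5, σi6, σi7, mul_assoc]
  simp only [wX0, permw, one_mul, mul_assoc] at h
  exact h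

def wX1 : List ℕ := [4, 5, 4, 5, 4, 5, 4, 5, 7, 2]


theorem mX1 : wX1.map colOf = kX1 := rfl


theorem XS1_all : ∀ i, i < N → (pK kX1) i = true := by
  intro i hi
  have hN : N = 122760 := rfl
  by_cases h0 : i < 1200
  · exact (allR_iff _ _ _).mp XS1_0 i (by omega) (by omega)
  by_cases h1 : i < 2400
  · exact (allR_iff _ _ _).mp XS1_1 i (by omega) (by omega)
  by_cases h2 : i < 3600
  · exact (allR_iff _ _ _).mp XS1_2 i (by omega) (by omega)
  by_cases h3 : i < 4800
  · exact (allR_iff _ _ _).mp XS1_3 i (by omega) (by omega)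
  by_cases h4 : i < 6000
  · exact (allR_iff _ _ _).mp XS1_4 i (by omega) (by omega)
  by_cases h5 : i < 7200
  · exact (allR_iff _ _ _).mp XS1_5 i (by omega) (by omega)
  by_cases h6 : i < 8400
  · exact (allR_iff _ _ _).mp XS1_6 i (by omega) (by omega)
  by_cases h7 : i < 9600
  · exact (allR_iff _ _ _).mp XS1_7 i (by omega) (by omega)
  by_cases h8 : i < 10800
  · exact (allR_iff _ _ _).mp XS1_8 i (by omega) (by omega)
  by_cases h9 : i < 12000
  · exact (allR_iff _ _ _).mp XS1_9 i (by omega) (by omega)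
  by_cases h10 : i < 13200
  · exact (allR_iff _ _ _).mp XS1_10 i (by omega) (by omega)
  by_cases h11 : i < 14400
  · exact (allR_iff _ _ _).mp XS1_11 i (by omega) (by omega)
  by_cases h12 : i < 15600
  · exact (allR_iff _ _ _).mp XS1_12 i (by omega) (by omega)
  by_cases h13 : i < 16800
  · exact (allR_iff _ _ _).mp XS1_13 i (by omega) (by omega)
  by_cases h14 : i < 18000
  · exact (allR_iff _ _ _).mp XS1_14 i (by omega) (by omega)
  by_cases h15 : i < 19200
  · exact (allR_iff _ _ _).mp XS1_15 i (by omega) (by omega)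
  by_cases h16 : i < 20400
  · exact (allR_iff _ _ _).mp XS1_16 i (by omega) (by omega)
  by_cases h17 : i < 21600
  · exact (allR_iff _ _ _).mp XS1_17 i (by omega) (by omega)
  by_cases h18 : i < 22800
  · exact (allR_iff _ _ _).mp XS1_18 i (by omega) (by omega)
  by_cases h19 : i < 24000
  · exact (allR_iff _ _ _).mp XS1_19 i (by omega) (by omega)
  by_cases h20 : i < 25200
  · exact (allR_iff _ _ _).mp XS1_20 i (by omega) (by omega)
  by_cases h21 : i < 26400
  · exact (allR_iff _ _ _).mp XS1_21 i (by omega) (by omega)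
  by_cases h22 : i < 27600
  · exact (allR_iff _ _ _).mp XS1_22 i (by omega) (by omega)
  by_cases h23 : i < 28800
  · exact (allR_iff _ _ _).mp XS1_23 i (by omega) (by omega)
  by_cases h24 : i < 30000
  · exact (allR_iff _ _ _).mp XS1_24 i (by omega) (by omega)
  by_cases h25 : i < 31200
  · exact (allR_iff _ _ _).mp XS1_25 i (by omega) (by omega)
  by_cases h26 : i < 32400
  · exact (allR_iff _ _ _).mp XS1_26 i (by omega) (by omega)
  by_cases h27 : i < 33600
  · exact (allR_iff _ _ _).mp XS1_27 i (by omega) (by omega)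
  by_cases h28 : i < 34800
  · exact (allR_iff _ _ _).mp XS1_28 i (by omega) (by omega)
  by_cases h29 : i < 36000
  · exact (allR_iff _ _ _).mp XS1_29 i (by omega) (by omega)
  by_cases h30 : i < 37200
  · exact (allR_iff _ _ _).mp XS1_30 i (by omega) (by omega)
  by_cases h31 : i < 38400
  · exact (allR_iff _ _ _).mp XS1_31 i (by omega) (by omega)
  by_cases h32 : i < 39600
  · exact (allR_iff _ _ _).mp XS1_32 i (by omega) (by omega)
  by_cases h33 : i < 40800
  · exact (allR_iff _ _ _).mp XS1_33 i (by omega) (by omega)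
  by_cases h34 : i < 42000
  · exact (allR_iff _ _ _).mp XS1_34 i (by omega) (by omega)
  by_cases h35 : i < 43200
  · exact (allR_iff _ _ _).mp XS1_35 i (by omega) (by omega)
  by_cases h36 : i < 44400
  · exact (allR_iff _ _ _).mp XS1_36 i (by omega) (by omega)
  by_cases h37 : i < 45600
  · exact (allR_iff _ _ _).mp XS1_37 i (by omega) (by omega)
  by_cases h38 : i < 46800
  · exact (allR_iff _ _ _).mp XS1_38 i (by omega) (by omega)
  by_cases h39 : i < 48000
  · exact (allR_iff _ _ _).mp XS1_39 i (by omega) (by omega)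
  by_cases h40 : i < 49200
  · exact (allR_iff _ _ _).mp XS1_40 i (by omega) (by omega)
  by_cases h41 : i < 50400
  · exact (allR_iff _ _ _).mp XS1_41 i (by omega) (by omega)
  by_cases h42 : i < 51600
  · exact (allR_iff _ _ _).mp XS1_42 i (by omega) (by omega)
  by_cases h43 : i < 52800
  · exact (allR_iff _ _ _).mp XS1_43 i (by omega) (by omega)
  by_cases h44 : i < 54000
  · exact (allR_iff _ _ _).mp XS1_44 i (by omega) (by omega)
  by_cases h45 : i < 55200
  · exact (allR_iff _ _ _).mp XS1_45 i (by omega) (by omega)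
  by_cases h46 : i < 56400
  · exact (allR_iff _ _ _).mp XS1_46 i (by omega) (by omega)
  by_cases h47 : i < 57600
  · exact (allR_iff _ _ _).mp XS1_47 i (by omega) (by omega)
  by_cases h48 : i < 58800
  · exact (allR_iff _ _ _).mp XS1_48 i (by omega) (by omega)
  by_cases h49 : i < 60000
  · exact (allR_iff _ _ _).mp XS1_49 i (by omega) (by omega)
  by_cases h50 : i < 61200
  · exact (allR_iff _ _ _).mp XS1_50 i (by omega) (by omega)
  by_cases h51 : i < 62400
  · exact (allR_iff _ _ _).mp XS1_51 i (by omega) (by omega)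
  by_cases h52 : i < 63600
  · exact (allR_iff _ _ _).mp XS1_52 i (by omega) (by omega)
  by_cases h53 : i < 64800
  · exact (allR_iff _ _ _).mp XS1_53 i (by omega) (by omega)
  by_cases h54 : i < 66000
  · exact (allR_iff _ _ _).mp XS1_54 i (by omega) (by omega)
  by_cases h55 : i < 67200
  · exact (allR_iff _ _ _).mp XS1_55 i (by omega) (by omega)
  by_cases h56 : i < 68400
  · exact (allR_iff _ _ _).mp XS1_56 i (by omega) (by omega)
  by_cases h57 : i < 69600
  · exact (allR_iff _ _ _).mp XS1_57 i (by omega) (by omega)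
  by_cases h58 : i < 70800
  · exact (allR_iff _ _ _).mp XS1_58 i (by omega) (by omega)
  by_cases h59 : i < 72000
  · exact (allR_iff _ _ _).mp XS1_59 i (by omega) (by omega)
  by_cases h60 : i < 73200
  · exact (allR_iff _ _ _).mp XS1_60 i (by omega) (by omega)
  by_cases h61 : i < 74400
  · exact (allR_iff _ _ _).mp XS1_61 i (by omega) (by omega)
  by_cases h62 : i < 75600
  · exact (allR_iff _ _ _).mp XS1_62 i (by omega) (by omega)
  by_cases h63 : i < 76800
  · exact (allR_iff _ _ _).mp XS1_63 i (by omega) (by omega)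
  by_cases h64 : i < 78000
  · exact (allR_iff _ _ _).mp XS1_64 i (by omega) (by omega)
  by_cases h65 : i < 79200
  · exact (allR_iff _ _ _).mp XS1_65 i (by omega) (by omega)
  by_cases h66 : i < 80400
  · exact (allR_iff _ _ _).mp XS1_66 i (by omega) (by omega)
  by_cases h67 : i < 81600
  · exact (allR_iff _ _ _).mp XS1_67 i (by omega) (by omega)
  by_cases h68 : i < 82800
  · exact (allR_iff _ _ _).mp XS1_68 i (by omega) (by omega)
  by_cases h69 : i < 84000
  · exact (allR_iff _ _ _).mp XS1_69 i (by omega) (by omega)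
  by_cases h70 : i < 85200
  · exact (allR_iff _ _ _).mp XS1_70 i (by omega) (by omega)
  by_cases h71 : i < 86400
  · exact (allR_iff _ _ _).mp XS1_71 i (by omega) (by omega)
  by_cases h72 : i < 87600
  · exact (allR_iff _ _ _).mp XS1_72 i (by omega) (by omega)
  by_cases h73 : i < 88800
  · exact (allR_iff _ _ _).mp XS1_73 i (by omega) (by omega)
  by_cases h74 : i < 90000
  · exact (allR_iff _ _ _).mp XS1_74 i (by omega) (by omega)
  by_cases h75 : i < 91200
  · exact (allR_iff _ _ _).mp XS1_75 i (by omega) (by omega)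
  by_cases h76 : i < 92400
  · exact (allR_iff _ _ _).mp XS1_76 i (by omega) (by omega)
  by_cases h77 : i < 93600
  · exact (allR_iff _ _ _).mp XS1_77 i (by omega) (by omega)
  by_cases h78 : i < 94800
  · exact (allR_iff _ _ _).mp XS1_78 i (by omega) (by omega)
  by_cases h79 : i < 96000
  · exact (allR_iff _ _ _).mp XS1_79 i (by omega) (by omega)
  by_cases h80 : i < 97200
  · exact (allR_iff _ _ _).mp XS1_80 i (by omega) (by omega)
  by_cases h81 : i < 98400
  · exact (allR_iff _ _ _).mp XS1_81 i (by omega) (by omega)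
  by_cases h82 : i < 99600
  · exact (allR_iff _ _ _).mp XS1_82 i (by omega) (by omega)
  by_cases h83 : i < 100800
  · exact (allR_iff _ _ _).mp XS1_83 i (by omega) (by omega)
  by_cases h84 : i < 102000
  · exact (allR_iff _ _ _).mp XS1_84 i (by omega) (by omega)
  by_cases h85 : i < 103200
  · exact (allR_iff _ _ _).mp XS1_85 i (by omega) (by omega)
  by_cases h86 : i < 104400
  · exact (allR_iff _ _ _).mp XS1_86 i (by omega) (by omega)
  by_cases h87 : i < 105600
  · exact (allR_iff _ _ _).mp XS1_87 i (by omega) (by omega)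
  by_cases h88 : i < 106800
  · exact (allR_iff _ _ _).mp XS1_88 i (by omega) (by omega)
  by_cases h89 : i < 108000
  · exact (allR_iff _ _ _).mp XS1_89 i (by omega) (by omega)
  by_cases h90 : i < 109200
  · exact (allR_iff _ _ _).mp XS1_90 i (by omega) (by omega)
  by_cases h91 : i < 110400
  · exact (allR_iff _ _ _).mp XS1_91 i (by omega) (by omega)
  by_cases h92 : i < 111600
  · exact (allR_iff _ _ _).mp XS1_92 i (by omega) (by omega)
  by_cases h93 : i < 112800
  · exact (allR_iff _ _ _).mp XS1_93 i (by omega) (by omega)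
  by_cases h94 : i < 114000
  · exact (allR_iff _ _ _).mp XS1_94 i (by omega) (by omega)
  by_cases h95 : i < 115200
  · exact (allR_iff _ _ _).mp XS1_95 i (by omega) (by omega)
  by_cases h96 : i < 116400
  · exact (allR_iff _ _ _).mp XS1_96 i (by omega) (by omega)
  by_cases h97 : i < 117600
  · exact (allR_iff _ _ _).mp XS1_97 i (by omega) (by omega)
  by_cases h98 : i < 118800
  · exact (allR_iff _ _ _).mp XS1_98 i (by omega) (by omega)
  by_cases h99 : i < 120000
  · exact (allR_iff _ _ _).mp XS1_99 i (by omega) (by omega)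
  by_cases h100 : i < 121200
  · exact (allR_iff _ _ _).mp XS1_100 i (by omega) (by omega)
  by_cases h101 : i < 122400
  · exact (allR_iff _ _ _).mp XS1_101 i (by omega) (by omega)
  exact (allR_iff _ _ _).mp XS1_102 i (by omega) (by omega)

theorem X1 : FreeGroup.lift fG ((ON.a * ON.f) * (((ON.c * ON.d) ^ 4)⁻¹)) = 1 := by
  have h : permw wX1 = 1 := permw_one (by decide) (pW_of_pK mX1 XS1_all)
  simp only [map_mul, map_inv, map_pow, FreeGroup.lift_apply_of, fG, idx]
  simp only [pow_succ, pow_zero, one_mul, mul_inv_rev, inv_inv, σi0, σi1, σi2, σi3, σi4, σi5, σi6, σi7, mul_assoc]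
  simp only [wX1, permw, one_mul, mul_assoc] at h
  exact h

def wX2 : List ℕ := [0, 5, 0, 5, 4, 5, 1, 5, 1, 4]


theorem mX2 : wX2.map colOf = kX2 := rfl


theorem XS2_all : ∀ i, i < N → (pK kX2) i = true := by
  intro i hi
  have hN : N = 122760 := rfl
  by_cases h0 : i < 1200
  · exact (allR_iff _ _ _).mp XS2_0 i (by omega) (by omega)
  by_cases h1 : i < 2400
  · exact (allR_iff _ _ _).mp XS2_1 i (by omega) (by omega)
  by_cases h2 : i < 3600
  · exact (allR_iff _ _ _).mp XS2_2 i (by omega) (by omega)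
  by_cases h3 : i < 4800
  · exact (allR_iff _ _ _).mp XS2_3 i (by omega) (by omega)
  by_cases h4 : i < 6000
  · exact (allR_iff _ _ _).mp XS2_4 i (by omega) (by omega)
  by_cases h5 : i < 7200
  · exact (allR_iff _ _ _).mp XS2_5 i (by omega) (by omega)
  by_cases h6 : i < 8400
  · exact (allR_iff _ _ _).mp XS2_6 i (by omega) (by omega)
  by_cases h7 : i < 9600
  · exact (allR_iff _ _ _).mp XS2_7 i (by omega) (by omega)
  by_cases h8 : i < 10800
  · exact (allR_iff _ _ _).mp XS2_8 i (by omega) (by omega)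
  by_cases h9 : i < 12000
  · exact (allR_iff _ _ _).mp XS2_9 i (by omega) (by omega)
  by_cases h10 : i < 13200
  · exact (allR_iff _ _ _).mp XS2_10 i (by omega) (by omega)
  by_cases h11 : i < 14400
  · exact (allR_iff _ _ _).mp XS2_11 i (by omega) (by omega)
  by_cases h12 : i < 15600
  · exact (allR_iff _ _ _).mp XS2_12 i (by omega) (by omega)
  by_cases h13 : i < 16800
  · exact (allR_iff _ _ _).mp XS2_13 i (by omega) (by omega)
  by_cases h14 : i < 18000
  · exact (allR_iff _ _ _).mp XS2_14 i (by omega) (by omega)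
  by_cases h15 : i < 19200
  · exact (allR_iff _ _ _).mp XS2_15 i (by omega) (by omega)
  by_cases h16 : i < 20400
  · exact (allR_iff _ _ _).mp XS2_16 i (by omega) (by omega)
  by_cases h17 : i < 21600
  · exact (allR_iff _ _ _).mp XS2_17 i (by omega) (by omega)
  by_cases h18 : i < 22800
  · exact (allR_iff _ _ _).mp XS2_18 i (by omega) (by omega)
  by_cases h19 : i < 24000
  · exact (allR_iff _ _ _).mp XS2_19 i (by omega) (by omega)
  by_cases h20 : i < 25200
  · exact (allR_iff _ _ _).mp XS2_20 i (by omega) (by omega)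
  by_cases h21 : i < 26400
  · exact (allR_iff _ _ _).mp XS2_21 i (by omega) (by omega)
  by_cases h22 : i < 27600
  · exact (allR_iff _ _ _).mp XS2_22 i (by omega) (by omega)
  by_cases h23 : i < 28800
  · exact (allR_iff _ _ _).mp XS2_23 i (by omega) (by omega)
  by_cases h24 : i < 30000
  · exact (allR_iff _ _ _).mp XS2_24 i (by omega) (by omega)
  by_cases h25 : i < 31200
  · exact (allR_iff _ _ _).mp XS2_25 i (by omega) (by omega)
  by_cases h26 : i < 32400
  · exact (allR_iff _ _ _).mp XS2_26 i (by omega) (by omega)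
  by_cases h27 : i < 33600
  · exact (allR_iff _ _ _).mp XS2_27 i (by omega) (by omega)
  by_cases h28 : i < 34800
  · exact (allR_iff _ _ _).mp XS2_28 i (by omega) (by omega)
  by_cases h29 : i < 36000
  · exact (allR_iff _ _ _).mp XS2_29 i (by omega) (by omega)
  by_cases h30 : i < 37200
  · exact (allR_iff _ _ _).mp XS2_30 i (by omega) (by omega)
  by_cases h31 : i < 38400
  · exact (allR_iff _ _ _).mp XS2_31 i (by omega) (by omega)
  by_cases h32 : i < 39600
  · exact (allR_iff _ _ _).mp XS2_32 i (by omega) (by omega)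
  by_cases h33 : i < 40800
  · exact (allR_iff _ _ _).mp XS2_33 i (by omega) (by omega)
  by_cases h34 : i < 42000
  · exact (allR_iff _ _ _).mp XS2_34 i (by omega) (by omega)
  by_cases h35 : i < 43200
  · exact (allR_iff _ _ _).mp XS2_35 i (by omega) (by omega)
  by_cases h36 : i < 44400
  · exact (allR_iff _ _ _).mp XS2_36 i (by omega) (by omega)
  by_cases h37 : i < 45600
  · exact (allR_iff _ _ _).mp XS2_37 i (by omega) (by omega)
  by_cases h38 : i < 46800
  · exact (allR_iff _ _ _).mp XS2_38 i (by omega) (by omega)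
  by_cases h39 : i < 48000
  · exact (allR_iff _ _ _).mp XS2_39 i (by omega) (by omega)
  by_cases h40 : i < 49200
  · exact (allR_iff _ _ _).mp XS2_40 i (by omega) (by omega)
  by_cases h41 : i < 50400
  · exact (allR_iff _ _ _).mp XS2_41 i (by omega) (by omega)
  by_cases h42 : i < 51600
  · exact (allR_iff _ _ _).mp XS2_42 i (by omega) (by omega)
  by_cases h43 : i < 52800
  · exact (allR_iff _ _ _).mp XS2_43 i (by omega) (by omega)
  by_cases h44 : i < 54000
  · exact (allR_iff _ _ _).mp XS2_44 i (by omega) (by omega)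
  by_cases h45 : i < 55200
  · exact (allR_iff _ _ _).mp XS2_45 i (by omega) (by omega)
  by_cases h46 : i < 56400
  · exact (allR_iff _ _ _).mp XS2_46 i (by omega) (by omega)
  by_cases h47 : i < 57600
  · exact (allR_iff _ _ _).mp XS2_47 i (by omega) (by omega)
  by_cases h48 : i < 58800
  · exact (allR_iff _ _ _).mp XS2_48 i (by omega) (by omega)
  by_cases h49 : i < 60000
  · exact (allR_iff _ _ _).mp XS2_49 i (by omega) (by omega)
  by_cases h50 : i < 61200
  · exact (allR_iff _ _ _).mp XS2_50 i (by omega) (by omega)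
  by_cases h51 : i < 62400
  · exact (allR_iff _ _ _).mp XS2_51 i (by omega) (by omega)
  by_cases h52 : i < 63600
  · exact (allR_iff _ _ _).mp XS2_52 i (by omega) (by omega)
  by_cases h53 : i < 64800
  · exact (allR_iff _ _ _).mp XS2_53 i (by omega) (by omega)
  by_cases h54 : i < 66000
  · exact (allR_iff _ _ _).mp XS2_54 i (by omega) (by omega)
  by_cases h55 : i < 67200
  · exact (allR_iff _ _ _).mp XS2_55 i (by omega) (by omega)
  by_cases h56 : i < 68400
  · exact (allR_iff _ _ _).mp XS2_56 i (by omega) (by omega)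
  by_cases h57 : i < 69600
  · exact (allR_iff _ _ _).mp XS2_57 i (by omega) (by omega)
  by_cases h58 : i < 70800
  · exact (allR_iff _ _ _).mp XS2_58 i (by omega) (by omega)
  by_cases h59 : i < 72000
  · exact (allR_iff _ _ _).mp XS2_59 i (by omega) (by omega)
  by_cases h60 : i < 73200
  · exact (allR_iff _ _ _).mp XS2_60 i (by omega) (by omega)
  by_cases h61 : i < 74400
  · exact (allR_iff _ _ _).mp XS2_61 i (by omega) (by omega)
  by_cases h62 : i < 75600
  · exact (allR_iff _ _ _).mp XS2_62 i (by omega) (by omega)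
  by_cases h63 : i < 76800
  · exact (allR_iff _ _ _).mp XS2_63 i (by omega) (by omega)
  by_cases h64 : i < 78000
  · exact (allR_iff _ _ _).mp XS2_64 i (by omega) (by omega)
  by_cases h65 : i < 79200
  · exact (allR_iff _ _ _).mp XS2_65 i (by omega) (by omega)
  by_cases h66 : i < 80400
  · exact (allR_iff _ _ _).mp XS2_66 i (by omega) (by omega)
  by_cases h67 : i < 81600
  · exact (allR_iff _ _ _).mp XS2_67 i (by omega) (by omega)
  by_cases h68 : i < 82800
  · exact (allR_iff _ _ _).mp XS2_68 i (by omega) (by omega)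
  by_cases h69 : i < 84000
  · exact (allR_iff _ _ _).mp XS2_69 i (by omega) (by omega)
  by_cases h70 : i < 85200
  · exact (allR_iff _ _ _).mp XS2_70 i (by omega) (by omega)
  by_cases h71 : i < 86400
  · exact (allR_iff _ _ _).mp XS2_71 i (by omega) (by omega)
  by_cases h72 : i < 87600
  · exact (allR_iff _ _ _).mp XS2_72 i (by omega) (by omega)
  by_cases h73 : i < 88800
  · exact (allR_iff _ _ _).mp XS2_73 i (by omega) (by omega)
  by_cases h74 : i < 90000
  · exact (allR_iff _ _ _).mp XS2_74 i (by omega) (by omega)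
  by_cases h75 : i < 91200
  · exact (allR_iff _ _ _).mp XS2_75 i (by omega) (by omega)
  by_cases h76 : i < 92400
  · exact (allR_iff _ _ _).mp XS2_76 i (by omega) (by omega)
  by_cases h77 : i < 93600
  · exact (allR_iff _ _ _).mp XS2_77 i (by omega) (by omega)
  by_cases h78 : i < 94800
  · exact (allR_iff _ _ _).mp XS2_78 i (by omega) (by omega)
  by_cases h79 : i < 96000
  · exact (allR_iff _ _ _).mp XS2_79 i (by omega) (by omega)
  by_cases h80 : i < 97200
  · exact (allR_iff _ _ _).mp XS2_80 i (by omega) (by omega)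
  by_cases h81 : i < 98400
  · exact (allR_iff _ _ _).mp XS2_81 i (by omega) (by omega)
  by_cases h82 : i < 99600
  · exact (allR_iff _ _ _).mp XS2_82 i (by omega) (by omega)
  by_cases h83 : i < 100800
  · exact (allR_iff _ _ _).mp XS2_83 i (by omega) (by omega)
  by_cases h84 : i < 102000
  · exact (allR_iff _ _ _).mp XS2_84 i (by omega) (by omega)
  by_cases h85 : i < 103200
  · exact (allR_iff _ _ _).mp XS2_85 i (by omega) (by omega)
  by_cases h86 : i < 104400
  · exact (allR_iff _ _ _).mp XS2_86 i (by omega) (by omega)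
  by_cases h87 : i < 105600
  · exact (allR_iff _ _ _).mp XS2_87 i (by omega) (by omega)
  by_cases h88 : i < 106800
  · exact (allR_iff _ _ _).mp XS2_88 i (by omega) (by omega)
  by_cases h89 : i < 108000
  · exact (allR_iff _ _ _).mp XS2_89 i (by omega) (by omega)
  by_cases h90 : i < 109200
  · exact (allR_iff _ _ _).mp XS2_90 i (by omega) (by omega)
  by_cases h91 : i < 110400
  · exact (allR_iff _ _ _).mp XS2_91 i (by omega) (by omega)
  by_cases h92 : i < 111600
  · exact (allR_iff _ _ _).mp XS2_92 i (by omega) (by omega)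
  by_cases h93 : i < 112800
  · exact (allR_iff _ _ _).mp XS2_93 i (by omega) (by omega)
  by_cases h94 : i < 114000
  · exact (allR_iff _ _ _).mp XS2_94 i (by omega) (by omega)
  by_cases h95 : i < 115200
  · exact (allR_iff _ _ _).mp XS2_95 i (by omega) (by omega)
  by_cases h96 : i < 116400
  · exact (allR_iff _ _ _).mp XS2_96 i (by omega) (by omega)
  by_cases h97 : i < 117600
  · exact (allR_iff _ _ _).mp XS2_97 i (by omega) (by omega)
  by_cases h98 : i < 118800
  · exact (allR_iff _ _ _).mp XS2_98 i (by omega) (by omega)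
  by_cases h99 : i < 120000
  · exact (allR_iff _ _ _).mp XS2_99 i (by omega) (by omega)
  by_cases h100 : i < 121200
  · exact (allR_iff _ _ _).mp XS2_100 i (by omega) (by omega)
  by_cases h101 : i < 122400
  · exact (allR_iff _ _ _).mp XS2_101 i (by omega) (by omega)
  exact (allR_iff _ _ _).mp XS2_102 i (by omega) (by omega)

theorem X2 : FreeGroup.lift fG (ON.c * ((ON.d * ON.g * ON.d * ON.g)⁻¹ * ON.c * (ON.d * ON.g * ON.d * ON.g))) = 1 := by
  have h : permw wX2 = 1 := permw_one (by decide) (pW_of_pK mX2 XS2_all)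
  simp only [map_mul, map_inv, map_pow, FreeGroup.lift_apply_of, fG, idx]
  simp only [pow_succ, pow_zero, one_mul, mul_inv_rev, inv_inv, σi0, σi1, σi2, σi3, σi4, σi5, σi6, σi7, mul_assoc]
  simp only [wX2, permw, one_mul, mul_assoc] at h
  exact h

def wX3 : List ℕ := [0, 4, 0, 4, 5, 4, 1, 4, 1, 5]


theorem mX3 : wX3.map colOf = kX3 := rfl


theorem XS3_all : ∀ i, i < N → (pK kX3) i = true := by
  intro i hi
  have hN : N = 122760 := rfl
  by_cases h0 : i < 1200
  · exact (allR_iff _ _ _).mp XS3_0 i (by omega) (by omega)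
  by_cases h1 : i < 2400
  · exact (allR_iff _ _ _).mp XS3_1 i (by omega) (by omega)
  by_cases h2 : i < 3600
  · exact (allR_iff _ _ _).mp XS3_2 i (by omega) (by omega)
  by_cases h3 : i < 4800
  · exact (allR_iff _ _ _).mp XS3_3 i (by omega) (by omega)
  by_cases h4 : i < 6000
  · exact (allR_iff _ _ _).mp XS3_4 i (by omega) (by omega)
  by_cases h5 : i < 7200
  · exact (allR_iff _ _ _).mp XS3_5 i (by omega) (by omega)
  by_cases h6 : i < 8400
  · exact (allR_iff _ _ _).mp XS3_6 i (by omega) (by omega)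
  by_cases h7 : i < 9600
  · exact (allR_iff _ _ _).mp XS3_7 i (by omega) (by omega)
  by_cases h8 : i < 10800
  · exact (allR_iff _ _ _).mp XS3_8 i (by omega) (by omega)
  by_cases h9 : i < 12000
  · exact (allR_iff _ _ _).mp XS3_9 i (by omega) (by omega)
  by_cases h10 : i < 13200
  · exact (allR_iff _ _ _).mp XS3_10 i (by omega) (by omega)
  by_cases h11 : i < 14400
  · exact (allR_iff _ _ _).mp XS3_11 i (by omega) (by omega)
  by_cases h12 : i < 15600
  · exact (allR_iff _ _ _).mp XS3_12 i (by omega) (by omega)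
  by_cases h13 : i < 16800
  · exact (allR_iff _ _ _).mp XS3_13 i (by omega) (by omega)
  by_cases h14 : i < 18000
  · exact (allR_iff _ _ _).mp XS3_14 i (by omega) (by omega)
  by_cases h15 : i < 19200
  · exact (allR_iff _ _ _).mp XS3_15 i (by omega) (by omega)
  by_cases h16 : i < 20400
  · exact (allR_iff _ _ _).mp XS3_16 i (by omega) (by omega)
  by_cases h17 : i < 21600
  · exact (allR_iff _ _ _).mp XS3_17 i (by omega) (by omega)
  by_cases h18 : i < 22800
  · exact (allR_iff _ _ _).mp XS3_18 i (by omega) (by omega)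
  by_cases h19 : i < 24000
  · exact (allR_iff _ _ _).mp XS3_19 i (by omega) (by omega)
  by_cases h20 : i < 25200
  · exact (allR_iff _ _ _).mp XS3_20 i (by omega) (by omega)
  by_cases h21 : i < 26400
  · exact (allR_iff _ _ _).mp XS3_21 i (by omega) (by omega)
  by_cases h22 : i < 27600
  · exact (allR_iff _ _ _).mp XS3_22 i (by omega) (by omega)
  by_cases h23 : i < 28800
  · exact (allR_iff _ _ _).mp XS3_23 i (by omega) (by omega)
  by_cases h24 : i < 30000
  · exact (allR_iff _ _ _).mp XS3_24 i (by omega) (by omega)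
  by_cases h25 : i < 31200
  · exact (allR_iff _ _ _).mp XS3_25 i (by omega) (by omega)
  by_cases h26 : i < 32400
  · exact (allR_iff _ _ _).mp XS3_26 i (by omega) (by omega)
  by_cases h27 : i < 33600
  · exact (allR_iff _ _ _).mp XS3_27 i (by omega) (by omega)
  by_cases h28 : i < 34800
  · exact (allR_iff _ _ _).mp XS3_28 i (by omega) (by omega)
  by_cases h29 : i < 36000
  · exact (allR_iff _ _ _).mp XS3_29 i (by omega) (by omega)
  by_cases h30 : i < 37200
  · exact (allR_iff _ _ _).mp XS3_30 i (by omega) (by omega)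
  by_cases h31 : i < 38400
  · exact (allR_iff _ _ _).mp XS3_31 i (by omega) (by omega)
  by_cases h32 : i < 39600
  · exact (allR_iff _ _ _).mp XS3_32 i (by omega) (by omega)
  by_cases h33 : i < 40800
  · exact (allR_iff _ _ _).mp XS3_33 i (by omega) (by omega)
  by_cases h34 : i < 42000
  · exact (allR_iff _ _ _).mp XS3_34 i (by omega) (by omega)
  by_cases h35 : i < 43200
  · exact (allR_iff _ _ _).mp XS3_35 i (by omega) (by omega)
  by_cases h36 : i < 44400
  · exact (allR_iff _ _ _).mp XS3_36 i (by omega) (by omega)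
  by_cases h37 : i < 45600
  · exact (allR_iff _ _ _).mp XS3_37 i (by omega) (by omega)
  by_cases h38 : i < 46800
  · exact (allR_iff _ _ _).mp XS3_38 i (by omega) (by omega)
  by_cases h39 : i < 48000
  · exact (allR_iff _ _ _).mp XS3_39 i (by omega) (by omega)
  by_cases h40 : i < 49200
  · exact (allR_iff _ _ _).mp XS3_40 i (by omega) (by omega)
  by_cases h41 : i < 50400
  · exact (allR_iff _ _ _).mp XS3_41 i (by omega) (by omega)
  by_cases h42 : i < 51600
  · exact (allR_iff _ _ _).mp XS3_42 i (by omega) (by omega)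
  by_cases h43 : i < 52800
  · exact (allR_iff _ _ _).mp XS3_43 i (by omega) (by omega)
  by_cases h44 : i < 54000
  · exact (allR_iff _ _ _).mp XS3_44 i (by omega) (by omega)
  by_cases h45 : i < 55200
  · exact (allR_iff _ _ _).mp XS3_45 i (by omega) (by omega)
  by_cases h46 : i < 56400
  · exact (allR_iff _ _ _).mp XS3_46 i (by omega) (by omega)
  by_cases h47 : i < 57600
  · exact (allR_iff _ _ _).mp XS3_47 i (by omega) (by omega)
  by_cases h48 : i < 58800
  · exact (allR_iff _ _ _).mp XS3_48 i (by omega) (by omega)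
  by_cases h49 : i < 60000
  · exact (allR_iff _ _ _).mp XS3_49 i (by omega) (by omega)
  by_cases h50 : i < 61200
  · exact (allR_iff _ _ _).mp XS3_50 i (by omega) (by omega)
  by_cases h51 : i < 62400
  · exact (allR_iff _ _ _).mp XS3_51 i (by omega) (by omega)
  by_cases h52 : i < 63600
  · exact (allR_iff _ _ _).mp XS3_52 i (by omega) (by omega)
  by_cases h53 : i < 64800
  · exact (allR_iff _ _ _).mp XS3_53 i (by omega) (by omega)
  by_cases h54 : i < 66000
  · exact (allR_iff _ _ _).mp XS3_54 i (by omega) (by omega)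
  by_cases h55 : i < 67200
  · exact (allR_iff _ _ _).mp XS3_55 i (by omega) (by omega)
  by_cases h56 : i < 68400
  · exact (allR_iff _ _ _).mp XS3_56 i (by omega) (by omega)
  by_cases h57 : i < 69600
  · exact (allR_iff _ _ _).mp XS3_57 i (by omega) (by omega)
  by_cases h58 : i < 70800
  · exact (allR_iff _ _ _).mp XS3_58 i (by omega) (by omega)
  by_cases h59 : i < 72000
  · exact (allR_iff _ _ _).mp XS3_59 i (by omega) (by omega)
  by_cases h60 : i < 73200
  · exact (allR_iff _ _ _).mp XS3_60 i (by omega) (by omega)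
  by_cases h61 : i < 74400
  · exact (allR_iff _ _ _).mp XS3_61 i (by omega) (by omega)
  by_cases h62 : i < 75600
  · exact (allR_iff _ _ _).mp XS3_62 i (by omega) (by omega)
  by_cases h63 : i < 76800
  · exact (allR_iff _ _ _).mp XS3_63 i (by omega) (by omega)
  by_cases h64 : i < 78000
  · exact (allR_iff _ _ _).mp XS3_64 i (by omega) (by omega)
  by_cases h65 : i < 79200
  · exact (allR_iff _ _ _).mp XS3_65 i (by omega) (by omega)
  by_cases h66 : i < 80400
  · exact (allR_iff _ _ _).mp XS3_66 i (by omega) (by omega)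
  by_cases h67 : i < 81600
  · exact (allR_iff _ _ _).mp XS3_67 i (by omega) (by omega)
  by_cases h68 : i < 82800
  · exact (allR_iff _ _ _).mp XS3_68 i (by omega) (by omega)
  by_cases h69 : i < 84000
  · exact (allR_iff _ _ _).mp XS3_69 i (by omega) (by omega)
  by_cases h70 : i < 85200
  · exact (allR_iff _ _ _).mp XS3_70 i (by omega) (by omega)
  by_cases h71 : i < 86400
  · exact (allR_iff _ _ _).mp XS3_71 i (by omega) (by omega)
  by_cases h72 : i < 87600
  · exact (allR_iff _ _ _).mp XS3_72 i (by omega) (by omega)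
  by_cases h73 : i < 88800
  · exact (allR_iff _ _ _).mp XS3_73 i (by omega) (by omega)
  by_cases h74 : i < 90000
  · exact (allR_iff _ _ _).mp XS3_74 i (by omega) (by omega)
  by_cases h75 : i < 91200
  · exact (allR_iff _ _ _).mp XS3_75 i (by omega) (by omega)
  by_cases h76 : i < 92400
  · exact (allR_iff _ _ _).mp XS3_76 i (by omega) (by omega)
  by_cases h77 : i < 93600
  · exact (allR_iff _ _ _).mp XS3_77 i (by omega) (by omega)
  by_cases h78 : i < 94800
  · exact (allR_iff _ _ _).mp XS3_78 i (by omega) (by omega)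
  by_cases h79 : i < 96000
  · exact (allR_iff _ _ _).mp XS3_79 i (by omega) (by omega)
  by_cases h80 : i < 97200
  · exact (allR_iff _ _ _).mp XS3_80 i (by omega) (by omega)
  by_cases h81 : i < 98400
  · exact (allR_iff _ _ _).mp XS3_81 i (by omega) (by omega)
  by_cases h82 : i < 99600
  · exact (allR_iff _ _ _).mp XS3_82 i (by omega) (by omega)
  by_cases h83 : i < 100800
  · exact (allR_iff _ _ _).mp XS3_83 i (by omega) (by omega)
  by_cases h84 : i < 102000
  · exact (allR_iff _ _ _).mp XS3_84 i (by omega) (by omega)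
  by_cases h85 : i < 103200
  · exact (allR_iff _ _ _).mp XS3_85 i (by omega) (by omega)
  by_cases h86 : i < 104400
  · exact (allR_iff _ _ _).mp XS3_86 i (by omega) (by omega)
  by_cases h87 : i < 105600
  · exact (allR_iff _ _ _).mp XS3_87 i (by omega) (by omega)
  by_cases h88 : i < 106800
  · exact (allR_iff _ _ _).mp XS3_88 i (by omega) (by omega)
  by_cases h89 : i < 108000
  · exact (allR_iff _ _ _).mp XS3_89 i (by omega) (by omega)
  by_cases h90 : i < 109200
  · exact (allR_iff _ _ _).mp XS3_90 i (by omega) (by omega)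
  by_cases h91 : i < 110400
  · exact (allR_iff _ _ _).mp XS3_91 i (by omega) (by omega)
  by_cases h92 : i < 111600
  · exact (allR_iff _ _ _).mp XS3_92 i (by omega) (by omega)
  by_cases h93 : i < 112800
  · exact (allR_iff _ _ _).mp XS3_93 i (by omega) (by omega)
  by_cases h94 : i < 114000
  · exact (allR_iff _ _ _).mp XS3_94 i (by omega) (by omega)
  by_cases h95 : i < 115200
  · exact (allR_iff _ _ _).mp XS3_95 i (by omega) (by omega)
  by_cases h96 : i < 116400
  · exact (allR_iff _ _ _).mp XS3_96 i (by omega) (by omega)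
  by_cases h97 : i < 117600
  · exact (allR_iff _ _ _).mp XS3_97 i (by omega) (by omega)
  by_cases h98 : i < 118800
  · exact (allR_iff _ _ _).mp XS3_98 i (by omega) (by omega)
  by_cases h99 : i < 120000
  · exact (allR_iff _ _ _).mp XS3_99 i (by omega) (by omega)
  by_cases h100 : i < 121200
  · exact (allR_iff _ _ _).mp XS3_100 i (by omega) (by omega)
  by_cases h101 : i < 122400
  · exact (allR_iff _ _ _).mp XS3_101 i (by omega) (by omega)
  exact (allR_iff _ _ _).mp XS3_102 i (by omega) (by omega)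

theorem X3 : FreeGroup.lift fG (ON.d * ((ON.c * ON.g * ON.c * ON.g)⁻¹ * ON.d * (ON.c * ON.g * ON.c * ON.g))) = 1 := by
  have h : permw wX3 = 1 := permw_one (by decide) (pW_of_pK mX3 XS3_all)
  simp only [map_mul, map_inv, map_pow, FreeGroup.lift_apply_of, fG, idx]
  simp only [pow_succ, pow_zero, one_mul, mul_inv_rev, inv_inv, σi0, σi1, σi2, σi3, σi4, σi5, σi6, σi7, mul_assoc]
  simp only [wX3, permw, one_mul, mul_assoc] at h
  exact h

def wX4 : List ℕ := [0, 5, 4, 3, 0, 5, 4, 3, 0, 5, 4, 3, 0, 5, 4, 3, 0, 5, 4, 3]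


theorem mX4 : wX4.map colOf = kX4 := rfl


theorem XS4_all : ∀ i, i < N → (pK kX4) i = true := by
  intro i hi
  have hN : N = 122760 := rfl
  by_cases h0 : i < 600
  · exact (allR_iff _ _ _).mp XS4_0 i (by omega) (by omega)
  by_cases h1 : i < 1200
  · exact (allR_iff _ _ _).mp XS4_1 i (by omega) (by omega)
  by_cases h2 : i < 1800
  · exact (allR_iff _ _ _).mp XS4_2 i (by omega) (by omega)
  by_cases h3 : i < 2400
  · exact (allR_iff _ _ _).mp XS4_3 i (by omega) (by omega)
  by_cases h4 : i < 3000
  · exact (allR_iff _ _ _).mp XS4_4 i (by omega) (by omega)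
  by_cases h5 : i < 3600
  · exact (allR_iff _ _ _).mp XS4_5 i (by omega) (by omega)
  by_cases h6 : i < 4200
  · exact (allR_iff _ _ _).mp XS4_6 i (by omega) (by omega)
  by_cases h7 : i < 4800
  · exact (allR_iff _ _ _).mp XS4_7 i (by omega) (by omega)
  by_cases h8 : i < 5400
  · exact (allR_iff _ _ _).mp XS4_8 i (by omega) (by omega)
  by_cases h9 : i < 6000
  · exact (allR_iff _ _ _).mp XS4_9 i (by omega) (by omega)
  by_cases h10 : i < 6600
  · exact (allR_iff _ _ _).mp XS4_10 i (by omega) (by omega)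
  by_cases h11 : i < 7200
  · exact (allR_iff _ _ _).mp XS4_11 i (by omega) (by omega)
  by_cases h12 : i < 7800
  · exact (allR_iff _ _ _).mp XS4_12 i (by omega) (by omega)
  by_cases h13 : i < 8400
  · exact (allR_iff _ _ _).mp XS4_13 i (by omega) (by omega)
  by_cases h14 : i < 9000
  · exact (allR_iff _ _ _).mp XS4_14 i (by omega) (by omega)
  by_cases h15 : i < 9600
  · exact (allR_iff _ _ _).mp XS4_15 i (by omega) (by omega)
  by_cases h16 : i < 10200
  · exact (allR_iff _ _ _).mp XS4_16 i (by omega) (by omega)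
  by_cases h17 : i < 10800
  · exact (allR_iff _ _ _).mp XS4_17 i (by omega) (by omega)
  by_cases h18 : i < 11400
  · exact (allR_iff _ _ _).mp XS4_18 i (by omega) (by omega)
  by_cases h19 : i < 12000
  · exact (allR_iff _ _ _).mp XS4_19 i (by omega) (by omega)
  by_cases h20 : i < 12600
  · exact (allR_iff _ _ _).mp XS4_20 i (by omega) (by omega)
  by_cases h21 : i < 13200
  · exact (allR_iff _ _ _).mp XS4_21 i (by omega) (by omega)
  by_cases h22 : i < 13800
  · exact (allR_iff _ _ _).mp XS4_22 i (by omega) (by omega)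
  by_cases h23 : i < 14400
  · exact (allR_iff _ _ _).mp XS4_23 i (by omega) (by omega)
  by_cases h24 : i < 15000
  · exact (allR_iff _ _ _).mp XS4_24 i (by omega) (by omega)
  by_cases h25 : i < 15600
  · exact (allR_iff _ _ _).mp XS4_25 i (by omega) (by omega)
  by_cases h26 : i < 16200
  · exact (allR_iff _ _ _).mp XS4_26 i (by omega) (by omega)
  by_cases h27 : i < 16800
  · exact (allR_iff _ _ _).mp XS4_27 i (by omega) (by omega)
  by_cases h28 : i < 17400
  · exact (allR_iff _ _ _).mp XS4_28 i (by omega) (by omega)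
  by_cases h29 : i < 18000
  · exact (allR_iff _ _ _).mp XS4_29 i (by omega) (by omega)
  by_cases h30 : i < 18600
  · exact (allR_iff _ _ _).mp XS4_30 i (by omega) (by omega)
  by_cases h31 : i < 19200
  · exact (allR_iff _ _ _).mp XS4_31 i (by omega) (by omega)
  by_cases h32 : i < 19800
  · exact (allR_iff _ _ _).mp XS4_32 i (by omega) (by omega)
  by_cases h33 : i < 20400
  · exact (allR_iff _ _ _).mp XS4_33 i (by omega) (by omega)
  by_cases h34 : i < 21000
  · exact (allR_iff _ _ _).mp XS4_34 i (by omega) (by omega)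
  by_cases h35 : i < 21600
  · exact (allR_iff _ _ _).mp XS4_35 i (by omega) (by omega)
  by_cases h36 : i < 22200
  · exact (allR_iff _ _ _).mp XS4_36 i (by omega) (by omega)
  by_cases h37 : i < 22800
  · exact (allR_iff _ _ _).mp XS4_37 i (by omega) (by omega)
  by_cases h38 : i < 23400
  · exact (allR_iff _ _ _).mp XS4_38 i (by omega) (by omega)
  by_cases h39 : i < 24000
  · exact (allR_iff _ _ _).mp XS4_39 i (by omega) (by omega)
  by_cases h40 : i < 24600
  · exact (allR_iff _ _ _).mp XS4_40 i (by omega) (by omega)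
  by_cases h41 : i < 25200
  · exact (allR_iff _ _ _).mp XS4_41 i (by omega) (by omega)
  by_cases h42 : i < 25800
  · exact (allR_iff _ _ _).mp XS4_42 i (by omega) (by omega)
  by_cases h43 : i < 26400
  · exact (allR_iff _ _ _).mp XS4_43 i (by omega) (by omega)
  by_cases h44 : i < 27000
  · exact (allR_iff _ _ _).mp XS4_44 i (by omega) (by omega)
  by_cases h45 : i < 27600
  · exact (allR_iff _ _ _).mp XS4_45 i (by omega) (by omega)
  by_cases h46 : i < 28200
  · exact (allR_iff _ _ _).mp XS4_46 i (by omega) (by omega)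
  by_cases h47 : i < 28800
  · exact (allR_iff _ _ _).mp XS4_47 i (by omega) (by omega)
  by_cases h48 : i < 29400
  · exact (allR_iff _ _ _).mp XS4_48 i (by omega) (by omega)
  by_cases h49 : i < 30000
  · exact (allR_iff _ _ _).mp XS4_49 i (by omega) (by omega)
  by_cases h50 : i < 30600
  · exact (allR_iff _ _ _).mp XS4_50 i (by omega) (by omega)
  by_cases h51 : i < 31200
  · exact (allR_iff _ _ _).mp XS4_51 i (by omega) (by omega)
  by_cases h52 : i < 31800
  · exact (allR_iff _ _ _).mp XS4_52 i (by omega) (by omega)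
  by_cases h53 : i < 32400
  · exact (allR_iff _ _ _).mp XS4_53 i (by omega) (by omega)
  by_cases h54 : i < 33000
  · exact (allR_iff _ _ _).mp XS4_54 i (by omega) (by omega)
  by_cases h55 : i < 33600
  · exact (allR_iff _ _ _).mp XS4_55 i (by omega) (by omega)
  by_cases h56 : i < 34200
  · exact (allR_iff _ _ _).mp XS4_56 i (by omega) (by omega)
  by_cases h57 : i < 34800
  · exact (allR_iff _ _ _).mp XS4_57 i (by omega) (by omega)
  by_cases h58 : i < 35400
  · exact (allR_iff _ _ _).mp XS4_58 i (by omega) (by omega)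
  by_cases h59 : i < 36000
  · exact (allR_iff _ _ _).mp XS4_59 i (by omega) (by omega)
  by_cases h60 : i < 36600
  · exact (allR_iff _ _ _).mp XS4_60 i (by omega) (by omega)
  by_cases h61 : i < 37200
  · exact (allR_iff _ _ _).mp XS4_61 i (by omega) (by omega)
  by_cases h62 : i < 37800
  · exact (allR_iff _ _ _).mp XS4_62 i (by omega) (by omega)
  by_cases h63 : i < 38400
  · exact (allR_iff _ _ _).mp XS4_63 i (by omega) (by omega)
  by_cases h64 : i < 39000
  · exact (allR_iff _ _ _).mp XS4_64 i (by omega) (by omega)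
  by_cases h65 : i < 39600
  · exact (allR_iff _ _ _).mp XS4_65 i (by omega) (by omega)
  by_cases h66 : i < 40200
  · exact (allR_iff _ _ _).mp XS4_66 i (by omega) (by omega)
  by_cases h67 : i < 40800
  · exact (allR_iff _ _ _).mp XS4_67 i (by omega) (by omega)
  by_cases h68 : i < 41400
  · exact (allR_iff _ _ _).mp XS4_68 i (by omega) (by omega)
  by_cases h69 : i < 42000
  · exact (allR_iff _ _ _).mp XS4_69 i (by omega) (by omega)
  by_cases h70 : i < 42600
  · exact (allR_iff _ _ _).mp XS4_70 i (by omega) (by omega)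
  by_cases h71 : i < 43200
  · exact (allR_iff _ _ _).mp XS4_71 i (by omega) (by omega)
  by_cases h72 : i < 43800
  · exact (allR_iff _ _ _).mp XS4_72 i (by omega) (by omega)
  by_cases h73 : i < 44400
  · exact (allR_iff _ _ _).mp XS4_73 i (by omega) (by omega)
  by_cases h74 : i < 45000
  · exact (allR_iff _ _ _).mp XS4_74 i (by omega) (by omega)
  by_cases h75 : i < 45600
  · exact (allR_iff _ _ _).mp XS4_75 i (by omega) (by omega)
  by_cases h76 : i < 46200
  · exact (allR_iff _ _ _).mp XS4_76 i (by omega) (by omega)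
  by_cases h77 : i < 46800
  · exact (allR_iff _ _ _).mp XS4_77 i (by omega) (by omega)
  by_cases h78 : i < 47400
  · exact (allR_iff _ _ _).mp XS4_78 i (by omega) (by omega)
  by_cases h79 : i < 48000
  · exact (allR_iff _ _ _).mp XS4_79 i (by omega) (by omega)
  by_cases h80 : i < 48600
  · exact (allR_iff _ _ _).mp XS4_80 i (by omega) (by omega)
  by_cases h81 : i < 49200
  · exact (allR_iff _ _ _).mp XS4_81 i (by omega) (by omega)
  by_cases h82 : i < 49800
  · exact (allR_iff _ _ _).mp XS4_82 i (by omega) (by omega)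
  by_cases h83 : i < 50400
  · exact (allR_iff _ _ _).mp XS4_83 i (by omega) (by omega)
  by_cases h84 : i < 51000
  · exact (allR_iff _ _ _).mp XS4_84 i (by omega) (by omega)
  by_cases h85 : i < 51600
  · exact (allR_iff _ _ _).mp XS4_85 i (by omega) (by omega)
  by_cases h86 : i < 52200
  · exact (allR_iff _ _ _).mp XS4_86 i (by omega) (by omega)
  by_cases h87 : i < 52800
  · exact (allR_iff _ _ _).mp XS4_87 i (by omega) (by omega)
  by_cases h88 : i < 53400
  · exact (allR_iff _ _ _).mp XS4_88 i (by omega) (by omega)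
  by_cases h89 : i < 54000
  · exact (allR_iff _ _ _).mp XS4_89 i (by omega) (by omega)
  by_cases h90 : i < 54600
  · exact (allR_iff _ _ _).mp XS4_90 i (by omega) (by omega)
  by_cases h91 : i < 55200
  · exact (allR_iff _ _ _).mp XS4_91 i (by omega) (by omega)
  by_cases h92 : i < 55800
  · exact (allR_iff _ _ _).mp XS4_92 i (by omega) (by omega)
  by_cases h93 : i < 56400
  · exact (allR_iff _ _ _).mp XS4_93 i (by omega) (by omega)
  by_cases h94 : i < 57000
  · exact (allR_iff _ _ _).mp XS4_94 i (by omega) (by omega)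
  by_cases h95 : i < 57600
  · exact (allR_iff _ _ _).mp XS4_95 i (by omega) (by omega)
  by_cases h96 : i < 58200
  · exact (allR_iff _ _ _).mp XS4_96 i (by omega) (by omega)
  by_cases h97 : i < 58800
  · exact (allR_iff _ _ _).mp XS4_97 i (by omega) (by omega)
  by_cases h98 : i < 59400
  · exact (allR_iff _ _ _).mp XS4_98 i (by omega) (by omega)
  by_cases h99 : i < 60000
  · exact (allR_iff _ _ _).mp XS4_99 i (by omega) (by omega)
  by_cases h100 : i < 60600
  · exact (allR_iff _ _ _).mp XS4_100 i (by omega) (by omega)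
  by_cases h101 : i < 61200
  · exact (allR_iff _ _ _).mp XS4_101 i (by omega) (by omega)
  by_cases h102 : i < 61800
  · exact (allR_iff _ _ _).mp XS4_102 i (by omega) (by omega)
  by_cases h103 : i < 62400
  · exact (allR_iff _ _ _).mp XS4_103 i (by omega) (by omega)
  by_cases h104 : i < 63000
  · exact (allR_iff _ _ _).mp XS4_104 i (by omega) (by omega)
  by_cases h105 : i < 63600
  · exact (allR_iff _ _ _).mp XS4_105 i (by omega) (by omega)
  by_cases h106 : i < 64200
  · exact (allR_iff _ _ _).mp XS4_106 i (by omega) (by omega)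
  by_cases h107 : i < 64800
  · exact (allR_iff _ _ _).mp XS4_107 i (by omega) (by omega)
  by_cases h108 : i < 65400
  · exact (allR_iff _ _ _).mp XS4_108 i (by omega) (by omega)
  by_cases h109 : i < 66000
  · exact (allR_iff _ _ _).mp XS4_109 i (by omega) (by omega)
  by_cases h110 : i < 66600
  · exact (allR_iff _ _ _).mp XS4_110 i (by omega) (by omega)
  by_cases h111 : i < 67200
  · exact (allR_iff _ _ _).mp XS4_111 i (by omega) (by omega)
  by_cases h112 : i < 67800
  · exact (allR_iff _ _ _).mp XS4_112 i (by omega) (by omega)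
  by_cases h113 : i < 68400
  · exact (allR_iff _ _ _).mp XS4_113 i (by omega) (by omega)
  by_cases h114 : i < 69000
  · exact (allR_iff _ _ _).mp XS4_114 i (by omega) (by omega)
  by_cases h115 : i < 69600
  · exact (allR_iff _ _ _).mp XS4_115 i (by omega) (by omega)
  by_cases h116 : i < 70200
  · exact (allR_iff _ _ _).mp XS4_116 i (by omega) (by omega)
  by_cases h117 : i < 70800
  · exact (allR_iff _ _ _).mp XS4_117 i (by omega) (by omega)
  by_cases h118 : i < 71400
  · exact (allR_iff _ _ _).mp XS4_118 i (by omega) (by omega)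
  by_cases h119 : i < 72000
  · exact (allR_iff _ _ _).mp XS4_119 i (by omega) (by omega)
  by_cases h120 : i < 72600
  · exact (allR_iff _ _ _).mp XS4_120 i (by omega) (by omega)
  by_cases h121 : i < 73200
  · exact (allR_iff _ _ _).mp XS4_121 i (by omega) (by omega)
  by_cases h122 : i < 73800
  · exact (allR_iff _ _ _).mp XS4_122 i (by omega) (by omega)
  by_cases h123 : i < 74400
  · exact (allR_iff _ _ _).mp XS4_123 i (by omega) (by omega)
  by_cases h124 : i < 75000
  · exact (allR_iff _ _ _).mp XS4_124 i (by omega) (by omega)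
  by_cases h125 : i < 75600
  · exact (allR_iff _ _ _).mp XS4_125 i (by omega) (by omega)
  by_cases h126 : i < 76200
  · exact (allR_iff _ _ _).mp XS4_126 i (by omega) (by omega)
  by_cases h127 : i < 76800
  · exact (allR_iff _ _ _).mp XS4_127 i (by omega) (by omega)
  by_cases h128 : i < 77400
  · exact (allR_iff _ _ _).mp XS4_128 i (by omega) (by omega)
  by_cases h129 : i < 78000
  · exact (allR_iff _ _ _).mp XS4_129 i (by omega) (by omega)
  by_cases h130 : i < 78600
  · exact (allR_iff _ _ _).mp XS4_130 i (by omega) (by omega)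
  by_cases h131 : i < 79200
  · exact (allR_iff _ _ _).mp XS4_131 i (by omega) (by omega)
  by_cases h132 : i < 79800
  · exact (allR_iff _ _ _).mp XS4_132 i (by omega) (by omega)
  by_cases h133 : i < 80400
  · exact (allR_iff _ _ _).mp XS4_133 i (by omega) (by omega)
  by_cases h134 : i < 81000
  · exact (allR_iff _ _ _).mp XS4_134 i (by omega) (by omega)
  by_cases h135 : i < 81600
  · exact (allR_iff _ _ _).mp XS4_135 i (by omega) (by omega)
  by_cases h136 : i < 82200
  · exact (allR_iff _ _ _).mp XS4_136 i (by omega) (by omega)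
  by_cases h137 : i < 82800
  · exact (allR_iff _ _ _).mp XS4_137 i (by omega) (by omega)
  by_cases h138 : i < 83400
  · exact (allR_iff _ _ _).mp XS4_138 i (by omega) (by omega)
  by_cases h139 : i < 84000
  · exact (allR_iff _ _ _).mp XS4_139 i (by omega) (by omega)
  by_cases h140 : i < 84600
  · exact (allR_iff _ _ _).mp XS4_140 i (by omega) (by omega)
  by_cases h141 : i < 85200
  · exact (allR_iff _ _ _).mp XS4_141 i (by omega) (by omega)
  by_cases h142 : i < 85800
  · exact (allR_iff _ _ _).mp XS4_142 i (by omega) (by omega)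
  by_cases h143 : i < 86400
  · exact (allR_iff _ _ _).mp XS4_143 i (by omega) (by omega)
  by_cases h144 : i < 87000
  · exact (allR_iff _ _ _).mp XS4_144 i (by omega) (by omega)
  by_cases h145 : i < 87600
  · exact (allR_iff _ _ _).mp XS4_145 i (by omega) (by omega)
  by_cases h146 : i < 88200
  · exact (allR_iff _ _ _).mp XS4_146 i (by omega) (by omega)
  by_cases h147 : i < 88800
  · exact (allR_iff _ _ _).mp XS4_147 i (by omega) (by omega)
  by_cases h148 : i < 89400
  · exact (allR_iff _ _ _).mp XS4_148 i (by omega) (by omega)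
  by_cases h149 : i < 90000
  · exact (allR_iff _ _ _).mp XS4_149 i (by omega) (by omega)
  by_cases h150 : i < 90600
  · exact (allR_iff _ _ _).mp XS4_150 i (by omega) (by omega)
  by_cases h151 : i < 91200
  · exact (allR_iff _ _ _).mp XS4_151 i (by omega) (by omega)
  by_cases h152 : i < 91800
  · exact (allR_iff _ _ _).mp XS4_152 i (by omega) (by omega)
  by_cases h153 : i < 92400
  · exact (allR_iff _ _ _).mp XS4_153 i (by omega) (by omega)
  by_cases h154 : i < 93000
  · exact (allR_iff _ _ _).mp XS4_154 i (by omega) (by omega)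
  by_cases h155 : i < 93600
  · exact (allR_iff _ _ _).mp XS4_155 i (by omega) (by omega)
  by_cases h156 : i < 94200
  · exact (allR_iff _ _ _).mp XS4_156 i (by omega) (by omega)
  by_cases h157 : i < 94800
  · exact (allR_iff _ _ _).mp XS4_157 i (by omega) (by omega)
  by_cases h158 : i < 95400
  · exact (allR_iff _ _ _).mp XS4_158 i (by omega) (by omega)
  by_cases h159 : i < 96000
  · exact (allR_iff _ _ _).mp XS4_159 i (by omega) (by omega)
  by_cases h160 : i < 96600
  · exact (allR_iff _ _ _).mp XS4_160 i (by omega) (by omega)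
  by_cases h161 : i < 97200
  · exact (allR_iff _ _ _).mp XS4_161 i (by omega) (by omega)
  by_cases h162 : i < 97800
  · exact (allR_iff _ _ _).mp XS4_162 i (by omega) (by omega)
  by_cases h163 : i < 98400
  · exact (allR_iff _ _ _).mp XS4_163 i (by omega) (by omega)
  by_cases h164 : i < 99000
  · exact (allR_iff _ _ _).mp XS4_164 i (by omega) (by omega)
  by_cases h165 : i < 99600
  · exact (allR_iff _ _ _).mp XS4_165 i (by omega) (by omega)
  by_cases h166 : i < 100200
  · exact (allR_iff _ _ _).mp XS4_166 i (by omega) (by omega)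
  by_cases h167 : i < 100800
  · exact (allR_iff _ _ _).mp XS4_167 i (by omega) (by omega)
  by_cases h168 : i < 101400
  · exact (allR_iff _ _ _).mp XS4_168 i (by omega) (by omega)
  by_cases h169 : i < 102000
  · exact (allR_iff _ _ _).mp XS4_169 i (by omega) (by omega)
  by_cases h170 : i < 102600
  · exact (allR_iff _ _ _).mp XS4_170 i (by omega) (by omega)
  by_cases h171 : i < 103200
  · exact (allR_iff _ _ _).mp XS4_171 i (by omega) (by omega)
  by_cases h172 : i < 103800
  · exact (allR_iff _ _ _).mp XS4_172 i (by omega) (by omega)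
  by_cases h173 : i < 104400
  · exact (allR_iff _ _ _).mp XS4_173 i (by omega) (by omega)
  by_cases h174 : i < 105000
  · exact (allR_iff _ _ _).mp XS4_174 i (by omega) (by omega)
  by_cases h175 : i < 105600
  · exact (allR_iff _ _ _).mp XS4_175 i (by omega) (by omega)
  by_cases h176 : i < 106200
  · exact (allR_iff _ _ _).mp XS4_176 i (by omega) (by omega)
  by_cases h177 : i < 106800
  · exact (allR_iff _ _ _).mp XS4_177 i (by omega) (by omega)
  by_cases h178 : i < 107400
  · exact (allR_iff _ _ _).mp XS4_178 i (by omega) (by omega)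
  by_cases h179 : i < 108000
  · exact (allR_iff _ _ _).mp XS4_179 i (by omega) (by omega)
  by_cases h180 : i < 108600
  · exact (allR_iff _ _ _).mp XS4_180 i (by omega) (by omega)
  by_cases h181 : i < 109200
  · exact (allR_iff _ _ _).mp XS4_181 i (by omega) (by omega)
  by_cases h182 : i < 109800
  · exact (allR_iff _ _ _).mp XS4_182 i (by omega) (by omega)
  by_cases h183 : i < 110400
  · exact (allR_iff _ _ _).mp XS4_183 i (by omega) (by omega)
  by_cases h184 : i < 111000
  · exact (allR_iff _ _ _).mp XS4_184 i (by omega) (by omega)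
  by_cases h185 : i < 111600
  · exact (allR_iff _ _ _).mp XS4_185 i (by omega) (by omega)
  by_cases h186 : i < 112200
  · exact (allR_iff _ _ _).mp XS4_186 i (by omega) (by omega)
  by_cases h187 : i < 112800
  · exact (allR_iff _ _ _).mp XS4_187 i (by omega) (by omega)
  by_cases h188 : i < 113400
  · exact (allR_iff _ _ _).mp XS4_188 i (by omega) (by omega)
  by_cases h189 : i < 114000
  · exact (allR_iff _ _ _).mp XS4_189 i (by omega) (by omega)
  by_cases h190 : i < 114600
  · exact (allR_iff _ _ _).mp XS4_190 i (by omega) (by omega)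
  by_cases h191 : i < 115200
  · exact (allR_iff _ _ _).mp XS4_191 i (by omega) (by omega)
  by_cases h192 : i < 115800
  · exact (allR_iff _ _ _).mp XS4_192 i (by omega) (by omega)
  by_cases h193 : i < 116400
  · exact (allR_iff _ _ _).mp XS4_193 i (by omega) (by omega)
  by_cases h194 : i < 117000
  · exact (allR_iff _ _ _).mp XS4_194 i (by omega) (by omega)
  by_cases h195 : i < 117600
  · exact (allR_iff _ _ _).mp XS4_195 i (by omega) (by omega)
  by_cases h196 : i < 118200
  · exact (allR_iff _ _ _).mp XS4_196 i (by omega) (by omega)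
  by_cases h197 : i < 118800
  · exact (allR_iff _ _ _).mp XS4_197 i (by omega) (by omega)
  by_cases h198 : i < 119400
  · exact (allR_iff _ _ _).mp XS4_198 i (by omega) (by omega)
  by_cases h199 : i < 120000
  · exact (allR_iff _ _ _).mp XS4_199 i (by omega) (by omega)
  by_cases h200 : i < 120600
  · exact (allR_iff _ _ _).mp XS4_200 i (by omega) (by omega)
  by_cases h201 : i < 121200
  · exact (allR_iff _ _ _).mp XS4_201 i (by omega) (by omega)
  by_cases h202 : i < 121800
  · exact (allR_iff _ _ _).mp XS4_202 i (by omega) (by omega)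
  by_cases h203 : i < 122400
  · exact (allR_iff _ _ _).mp XS4_203 i (by omega) (by omega)
  exact (allR_iff _ _ _).mp XS4_204 i (by omega) (by omega)

theorem X4 : FreeGroup.lift fG ((ON.b * ON.c * ON.d * ON.g) ^ 5) = 1 := by
  have h : permw wX4 = 1 := permw_one (by decide) (pW_of_pK mX4 XS4_all)
  simp only [map_mul, map_inv, map_pow, FreeGroup.lift_apply_of, fG, idx]
  simp only [pow_succ, pow_zero, one_mul, mul_inv_rev, inv_inv, σi0, σi1, σi2, σi3, σi4, σi5, σi6, σi7, mul_assoc]
  simp only [wX4, permw, one_mul, mul_assoc] at h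
  exact h

def wX5 : List ℕ := [4, 0, 4, 3, 0, 3, 4, 0, 4, 3, 0]


theorem mX5 : wX5.map colOf = kX5 := rfl


theorem XS5_all : ∀ i, i < N → (pK kX5) i = true := by
  intro i hi
  have hN : N = 122760 := rfl
  by_cases h0 : i < 1090
  · exact (allR_iff _ _ _).mp XS5_0 i (by omega) (by omega)
  by_cases h1 : i < 2180
  · exact (allR_iff _ _ _).mp XS5_1 i (by omega) (by omega)
  by_cases h2 : i < 3270
  · exact (allR_iff _ _ _).mp XS5_2 i (by omega) (by omega)
  by_cases h3 : i < 4360
  · exact (allR_iff _ _ _).mp XS5_3 i (by omega) (by omega)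
  by_cases h4 : i < 5450
  · exact (allR_iff _ _ _).mp XS5_4 i (by omega) (by omega)
  by_cases h5 : i < 6540
  · exact (allR_iff _ _ _).mp XS5_5 i (by omega) (by omega)
  by_cases h6 : i < 7630
  · exact (allR_iff _ _ _).mp XS5_6 i (by omega) (by omega)
  by_cases h7 : i < 8720
  · exact (allR_iff _ _ _).mp XS5_7 i (by omega) (by omega)
  by_cases h8 : i < 9810
  · exact (allR_iff _ _ _).mp XS5_8 i (by omega) (by omega)
  by_cases h9 : i < 10900
  · exact (allR_iff _ _ _).mp XS5_9 i (by omega) (by omega)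
  by_cases h10 : i < 11990
  · exact (allR_iff _ _ _).mp XS5_10 i (by omega) (by omega)
  by_cases h11 : i < 13080
  · exact (allR_iff _ _ _).mp XS5_11 i (by omega) (by omega)
  by_cases h12 : i < 14170
  · exact (allR_iff _ _ _).mp XS5_12 i (by omega) (by omega)
  by_cases h13 : i < 15260
  · exact (allR_iff _ _ _).mp XS5_13 i (by omega) (by omega)
  by_cases h14 : i < 16350
  · exact (allR_iff _ _ _).mp XS5_14 i (by omega) (by omega)
  by_cases h15 : i < 17440
  · exact (allR_iff _ _ _).mp XS5_15 i (by omega) (by omega)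
  by_cases h16 : i < 18530
  · exact (allR_iff _ _ _).mp XS5_16 i (by omega) (by omega)
  by_cases h17 : i < 19620
  · exact (allR_iff _ _ _).mp XS5_17 i (by omega) (by omega)
  by_cases h18 : i < 20710
  · exact (allR_iff _ _ _).mp XS5_18 i (by omega) (by omega)
  by_cases h19 : i < 21800
  · exact (allR_iff _ _ _).mp XS5_19 i (by omega) (by omega)
  by_cases h20 : i < 22890
  · exact (allR_iff _ _ _).mp XS5_20 i (by omega) (by omega)
  by_cases h21 : i < 23980
  · exact (allR_iff _ _ _).mp XS5_21 i (by omega) (by omega)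
  by_cases h22 : i < 25070
  · exact (allR_iff _ _ _).mp XS5_22 i (by omega) (by omega)
  by_cases h23 : i < 26160
  · exact (allR_iff _ _ _).mp XS5_23 i (by omega) (by omega)
  by_cases h24 : i < 27250
  · exact (allR_iff _ _ _).mp XS5_24 i (by omega) (by omega)
  by_cases h25 : i < 28340
  · exact (allR_iff _ _ _).mp XS5_25 i (by omega) (by omega)
  by_cases h26 : i < 29430
  · exact (allR_iff _ _ _).mp XS5_26 i (by omega) (by omega)
  by_cases h27 : i < 30520
  · exact (allR_iff _ _ _).mp XS5_27 i (by omega) (by omega)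
  by_cases h28 : i < 31610
  · exact (allR_iff _ _ _).mp XS5_28 i (by omega) (by omega)
  by_cases h29 : i < 32700
  · exact (allR_iff _ _ _).mp XS5_29 i (by omega) (by omega)
  by_cases h30 : i < 33790
  · exact (allR_iff _ _ _).mp XS5_30 i (by omega) (by omega)
  by_cases h31 : i < 34880
  · exact (allR_iff _ _ _).mp XS5_31 i (by omega) (by omega)
  by_cases h32 : i < 35970
  · exact (allR_iff _ _ _).mp XS5_32 i (by omega) (by omega)
  by_cases h33 : i < 37060
  · exact (allR_iff _ _ _).mp XS5_33 i (by omega) (by omega)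
  by_cases h34 : i < 38150
  · exact (allR_iff _ _ _).mp XS5_34 i (by omega) (by omega)
  by_cases h35 : i < 39240
  · exact (allR_iff _ _ _).mp XS5_35 i (by omega) (by omega)
  by_cases h36 : i < 40330
  · exact (allR_iff _ _ _).mp XS5_36 i (by omega) (by omega)
  by_cases h37 : i < 41420
  · exact (allR_iff _ _ _).mp XS5_37 i (by omega) (by omega)
  by_cases h38 : i < 42510
  · exact (allR_iff _ _ _).mp XS5_38 i (by omega) (by omega)
  by_cases h39 : i < 43600
  · exact (allR_iff _ _ _).mp XS5_39 i (by omega) (by omega)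
  by_cases h40 : i < 44690
  · exact (allR_iff _ _ _).mp XS5_40 i (by omega) (by omega)
  by_cases h41 : i < 45780
  · exact (allR_iff _ _ _).mp XS5_41 i (by omega) (by omega)
  by_cases h42 : i < 46870
  · exact (allR_iff _ _ _).mp XS5_42 i (by omega) (by omega)
  by_cases h43 : i < 47960
  · exact (allR_iff _ _ _).mp XS5_43 i (by omega) (by omega)
  by_cases h44 : i < 49050
  · exact (allR_iff _ _ _).mp XS5_44 i (by omega) (by omega)
  by_cases h45 : i < 50140
  · exact (allR_iff _ _ _).mp XS5_45 i (by omega) (by omega)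
  by_cases h46 : i < 51230
  · exact (allR_iff _ _ _).mp XS5_46 i (by omega) (by omega)
  by_cases h47 : i < 52320
  · exact (allR_iff _ _ _).mp XS5_47 i (by omega) (by omega)
  by_cases h48 : i < 53410
  · exact (allR_iff _ _ _).mp XS5_48 i (by omega) (by omega)
  by_cases h49 : i < 54500
  · exact (allR_iff _ _ _).mp XS5_49 i (by omega) (by omega)
  by_cases h50 : i < 55590
  · exact (allR_iff _ _ _).mp XS5_50 i (by omega) (by omega)
  by_cases h51 : i < 56680
  · exact (allR_iff _ _ _).mp XS5_51 i (by omega) (by omega)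
  by_cases h52 : i < 57770
  · exact (allR_iff _ _ _).mp XS5_52 i (by omega) (by omega)
  by_cases h53 : i < 58860
  · exact (allR_iff _ _ _).mp XS5_53 i (by omega) (by omega)
  by_cases h54 : i < 59950
  · exact (allR_iff _ _ _).mp XS5_54 i (by omega) (by omega)
  by_cases h55 : i < 61040
  · exact (allR_iff _ _ _).mp XS5_55 i (by omega) (by omega)
  by_cases h56 : i < 62130
  · exact (allR_iff _ _ _).mp XS5_56 i (by omega) (by omega)
  by_cases h57 : i < 63220
  · exact (allR_iff _ _ _).mp XS5_57 i (by omega) (by omega)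
  by_cases h58 : i < 64310
  · exact (allR_iff _ _ _).mp XS5_58 i (by omega) (by omega)
  by_cases h59 : i < 65400
  · exact (allR_iff _ _ _).mp XS5_59 i (by omega) (by omega)
  by_cases h60 : i < 66490
  · exact (allR_iff _ _ _).mp XS5_60 i (by omega) (by omega)
  by_cases h61 : i < 67580
  · exact (allR_iff _ _ _).mp XS5_61 i (by omega) (by omega)
  by_cases h62 : i < 68670
  · exact (allR_iff _ _ _).mp XS5_62 i (by omega) (by omega)
  by_cases h63 : i < 69760
  · exact (allR_iff _ _ _).mp XS5_63 i (by omega) (by omega)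
  by_cases h64 : i < 70850
  · exact (allR_iff _ _ _).mp XS5_64 i (by omega) (by omega)
  by_cases h65 : i < 71940
  · exact (allR_iff _ _ _).mp XS5_65 i (by omega) (by omega)
  by_cases h66 : i < 73030
  · exact (allR_iff _ _ _).mp XS5_66 i (by omega) (by omega)
  by_cases h67 : i < 74120
  · exact (allR_iff _ _ _).mp XS5_67 i (by omega) (by omega)
  by_cases h68 : i < 75210
  · exact (allR_iff _ _ _).mp XS5_68 i (by omega) (by omega)
  by_cases h69 : i < 76300
  · exact (allR_iff _ _ _).mp XS5_69 i (by omega) (by omega)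
  by_cases h70 : i < 77390
  · exact (allR_iff _ _ _).mp XS5_70 i (by omega) (by omega)
  by_cases h71 : i < 78480
  · exact (allR_iff _ _ _).mp XS5_71 i (by omega) (by omega)
  by_cases h72 : i < 79570
  · exact (allR_iff _ _ _).mp XS5_72 i (by omega) (by omega)
  by_cases h73 : i < 80660
  · exact (allR_iff _ _ _).mp XS5_73 i (by omega) (by omega)
  by_cases h74 : i < 81750
  · exact (allR_iff _ _ _).mp XS5_74 i (by omega) (by omega)
  by_cases h75 : i < 82840
  · exact (allR_iff _ _ _).mp XS5_75 i (by omega) (by omega)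
  by_cases h76 : i < 83930
  · exact (allR_iff _ _ _).mp XS5_76 i (by omega) (by omega)
  by_cases h77 : i < 85020
  · exact (allR_iff _ _ _).mp XS5_77 i (by omega) (by omega)
  by_cases h78 : i < 86110
  · exact (allR_iff _ _ _).mp XS5_78 i (by omega) (by omega)
  by_cases h79 : i < 87200
  · exact (allR_iff _ _ _).mp XS5_79 i (by omega) (by omega)
  by_cases h80 : i < 88290
  · exact (allR_iff _ _ _).mp XS5_80 i (by omega) (by omega)
  by_cases h81 : i < 89380
  · exact (allR_iff _ _ _).mp XS5_81 i (by omega) (by omega)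
  by_cases h82 : i < 90470
  · exact (allR_iff _ _ _).mp XS5_82 i (by omega) (by omega)
  by_cases h83 : i < 91560
  · exact (allR_iff _ _ _).mp XS5_83 i (by omega) (by omega)
  by_cases h84 : i < 92650
  · exact (allR_iff _ _ _).mp XS5_84 i (by omega) (by omega)
  by_cases h85 : i < 93740
  · exact (allR_iff _ _ _).mp XS5_85 i (by omega) (by omega)
  by_cases h86 : i < 94830
  · exact (allR_iff _ _ _).mp XS5_86 i (by omega) (by omega)
  by_cases h87 : i < 95920
  · exact (allR_iff _ _ _).mp XS5_87 i (by omega) (by omega)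
  by_cases h88 : i < 97010
  · exact (allR_iff _ _ _).mp XS5_88 i (by omega) (by omega)
  by_cases h89 : i < 98100
  · exact (allR_iff _ _ _).mp XS5_89 i (by omega) (by omega)
  by_cases h90 : i < 99190
  · exact (allR_iff _ _ _).mp XS5_90 i (by omega) (by omega)
  by_cases h91 : i < 100280
  · exact (allR_iff _ _ _).mp XS5_91 i (by omega) (by omega)
  by_cases h92 : i < 101370
  · exact (allR_iff _ _ _).mp XS5_92 i (by omega) (by omega)
  by_cases h93 : i < 102460
  · exact (allR_iff _ _ _).mp XS5_93 i (by omega) (by omega)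
  by_cases h94 : i < 103550
  · exact (allR_iff _ _ _).mp XS5_94 i (by omega) (by omega)
  by_cases h95 : i < 104640
  · exact (allR_iff _ _ _).mp XS5_95 i (by omega) (by omega)
  by_cases h96 : i < 105730
  · exact (allR_iff _ _ _).mp XS5_96 i (by omega) (by omega)
  by_cases h97 : i < 106820
  · exact (allR_iff _ _ _).mp XS5_97 i (by omega) (by omega)
  by_cases h98 : i < 107910
  · exact (allR_iff _ _ _).mp XS5_98 i (by omega) (by omega)
  by_cases h99 : i < 109000
  · exact (allR_iff _ _ _).mp XS5_99 i (by omega) (by omega)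
  by_cases h100 : i < 110090
  · exact (allR_iff _ _ _).mp XS5_100 i (by omega) (by omega)
  by_cases h101 : i < 111180
  · exact (allR_iff _ _ _).mp XS5_101 i (by omega) (by omega)
  by_cases h102 : i < 112270
  · exact (allR_iff _ _ _).mp XS5_102 i (by omega) (by omega)
  by_cases h103 : i < 113360
  · exact (allR_iff _ _ _).mp XS5_103 i (by omega) (by omega)
  by_cases h104 : i < 114450
  · exact (allR_iff _ _ _).mp XS5_104 i (by omega) (by omega)
  by_cases h105 : i < 115540
  · exact (allR_iff _ _ _).mp XS5_105 i (by omega) (by omega)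
  by_cases h106 : i < 116630
  · exact (allR_iff _ _ _).mp XS5_106 i (by omega) (by omega)
  by_cases h107 : i < 117720
  · exact (allR_iff _ _ _).mp XS5_107 i (by omega) (by omega)
  by_cases h108 : i < 118810
  · exact (allR_iff _ _ _).mp XS5_108 i (by omega) (by omega)
  by_cases h109 : i < 119900
  · exact (allR_iff _ _ _).mp XS5_109 i (by omega) (by omega)
  by_cases h110 : i < 120990
  · exact (allR_iff _ _ _).mp XS5_110 i (by omega) (by omega)
  by_cases h111 : i < 122080
  · exact (allR_iff _ _ _).mp XS5_111 i (by omega) (by omega)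
  exact (allR_iff _ _ _).mp XS5_112 i (by omega) (by omega)

theorem X5 : FreeGroup.lift fG (ON.g * ON.b * (ON.c⁻¹ * ON.g * ON.c) * (ON.b⁻¹ * ON.g * ON.b) * (ON.c⁻¹ * ON.g * ON.c)) = 1 := by
  have h : permw wX5 = 1 := permw_one (by decide) (pW_of_pK mX5 XS5_all)
  simp only [map_mul, map_inv, map_pow, FreeGroup.lift_apply_of, fG, idx]
  simp only [pow_succ, pow_zero, one_mul, mul_inv_rev, inv_inv, σi0, σi1, σi2, σi3, σi4, σi5, σi6, σi7, mul_assoc]
  simp only [wX5, permw, one_mul, mul_assoc] at h
  exact h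

def wX6 : List ℕ := [5, 0, 5, 6, 0, 6, 5, 0, 5, 6, 0]


theorem mX6 : wX6.map colOf = kX6 := rfl


theorem XS6_all : ∀ i, i < N → (pK kX6) i = true := by
  intro i hi
  have hN : N = 122760 := rfl
  by_cases h0 : i < 1090
  · exact (allR_iff _ _ _).mp XS6_0 i (by omega) (by omega)
  by_cases h1 : i < 2180
  · exact (allR_iff _ _ _).mp XS6_1 i (by omega) (by omega)
  by_cases h2 : i < 3270
  · exact (allR_iff _ _ _).mp XS6_2 i (by omega) (by omega)
  by_cases h3 : i < 4360
  · exact (allR_iff _ _ _).mp XS6_3 i (by omega) (by omega)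
  by_cases h4 : i < 5450
  · exact (allR_iff _ _ _).mp XS6_4 i (by omega) (by omega)
  by_cases h5 : i < 6540
  · exact (allR_iff _ _ _).mp XS6_5 i (by omega) (by omega)
  by_cases h6 : i < 7630
  · exact (allR_iff _ _ _).mp XS6_6 i (by omega) (by omega)
  by_cases h7 : i < 8720
  · exact (allR_iff _ _ _).mp XS6_7 i (by omega) (by omega)
  by_cases h8 : i < 9810
  · exact (allR_iff _ _ _).mp XS6_8 i (by omega) (by omega)
  by_cases h9 : i < 10900
  · exact (allR_iff _ _ _).mp XS6_9 i (by omega) (by omega)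
  by_cases h10 : i < 11990
  · exact (allR_iff _ _ _).mp XS6_10 i (by omega) (by omega)
  by_cases h11 : i < 13080
  · exact (allR_iff _ _ _).mp XS6_11 i (by omega) (by omega)
  by_cases h12 : i < 14170
  · exact (allR_iff _ _ _).mp XS6_12 i (by omega) (by omega)
  by_cases h13 : i < 15260
  · exact (allR_iff _ _ _).mp XS6_13 i (by omega) (by omega)
  by_cases h14 : i < 16350
  · exact (allR_iff _ _ _).mp XS6_14 i (by omega) (by omega)
  by_cases h15 : i < 17440
  · exact (allR_iff _ _ _).mp XS6_15 i (by omega) (by omega)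
  by_cases h16 : i < 18530
  · exact (allR_iff _ _ _).mp XS6_16 i (by omega) (by omega)
  by_cases h17 : i < 19620
  · exact (allR_iff _ _ _).mp XS6_17 i (by omega) (by omega)
  by_cases h18 : i < 20710
  · exact (allR_iff _ _ _).mp XS6_18 i (by omega) (by omega)
  by_cases h19 : i < 21800
  · exact (allR_iff _ _ _).mp XS6_19 i (by omega) (by omega)
  by_cases h20 : i < 22890
  · exact (allR_iff _ _ _).mp XS6_20 i (by omega) (by omega)
  by_cases h21 : i < 23980
  · exact (allR_iff _ _ _).mp XS6_21 i (by omega) (by omega)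
  by_cases h22 : i < 25070
  · exact (allR_iff _ _ _).mp XS6_22 i (by omega) (by omega)
  by_cases h23 : i < 26160
  · exact (allR_iff _ _ _).mp XS6_23 i (by omega) (by omega)
  by_cases h24 : i < 27250
  · exact (allR_iff _ _ _).mp XS6_24 i (by omega) (by omega)
  by_cases h25 : i < 28340
  · exact (allR_iff _ _ _).mp XS6_25 i (by omega) (by omega)
  by_cases h26 : i < 29430
  · exact (allR_iff _ _ _).mp XS6_26 i (by omega) (by omega)
  by_cases h27 : i < 30520
  · exact (allR_iff _ _ _).mp XS6_27 i (by omega) (by omega)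
  by_cases h28 : i < 31610
  · exact (allR_iff _ _ _).mp XS6_28 i (by omega) (by omega)
  by_cases h29 : i < 32700
  · exact (allR_iff _ _ _).mp XS6_29 i (by omega) (by omega)
  by_cases h30 : i < 33790
  · exact (allR_iff _ _ _).mp XS6_30 i (by omega) (by omega)
  by_cases h31 : i < 34880
  · exact (allR_iff _ _ _).mp XS6_31 i (by omega) (by omega)
  by_cases h32 : i < 35970
  · exact (allR_iff _ _ _).mp XS6_32 i (by omega) (by omega)
  by_cases h33 : i < 37060
  · exact (allR_iff _ _ _).mp XS6_33 i (by omega) (by omega)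
  by_cases h34 : i < 38150
  · exact (allR_iff _ _ _).mp XS6_34 i (by omega) (by omega)
  by_cases h35 : i < 39240
  · exact (allR_iff _ _ _).mp XS6_35 i (by omega) (by omega)
  by_cases h36 : i < 40330
  · exact (allR_iff _ _ _).mp XS6_36 i (by omega) (by omega)
  by_cases h37 : i < 41420
  · exact (allR_iff _ _ _).mp XS6_37 i (by omega) (by omega)
  by_cases h38 : i < 42510
  · exact (allR_iff _ _ _).mp XS6_38 i (by omega) (by omega)
  by_cases h39 : i < 43600
  · exact (allR_iff _ _ _).mp XS6_39 i (by omega) (by omega)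
  by_cases h40 : i < 44690
  · exact (allR_iff _ _ _).mp XS6_40 i (by omega) (by omega)
  by_cases h41 : i < 45780
  · exact (allR_iff _ _ _).mp XS6_41 i (by omega) (by omega)
  by_cases h42 : i < 46870
  · exact (allR_iff _ _ _).mp XS6_42 i (by omega) (by omega)
  by_cases h43 : i < 47960
  · exact (allR_iff _ _ _).mp XS6_43 i (by omega) (by omega)
  by_cases h44 : i < 49050
  · exact (allR_iff _ _ _).mp XS6_44 i (by omega) (by omega)
  by_cases h45 : i < 50140
  · exact (allR_iff _ _ _).mp XS6_45 i (by omega) (by omega)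
  by_cases h46 : i < 51230
  · exact (allR_iff _ _ _).mp XS6_46 i (by omega) (by omega)
  by_cases h47 : i < 52320
  · exact (allR_iff _ _ _).mp XS6_47 i (by omega) (by omega)
  by_cases h48 : i < 53410
  · exact (allR_iff _ _ _).mp XS6_48 i (by omega) (by omega)
  by_cases h49 : i < 54500
  · exact (allR_iff _ _ _).mp XS6_49 i (by omega) (by omega)
  by_cases h50 : i < 55590
  · exact (allR_iff _ _ _).mp XS6_50 i (by omega) (by omega)
  by_cases h51 : i < 56680
  · exact (allR_iff _ _ _).mp XS6_51 i (by omega) (by omega)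
  by_cases h52 : i < 57770
  · exact (allR_iff _ _ _).mp XS6_52 i (by omega) (by omega)
  by_cases h53 : i < 58860
  · exact (allR_iff _ _ _).mp XS6_53 i (by omega) (by omega)
  by_cases h54 : i < 59950
  · exact (allR_iff _ _ _).mp XS6_54 i (by omega) (by omega)
  by_cases h55 : i < 61040
  · exact (allR_iff _ _ _).mp XS6_55 i (by omega) (by omega)
  by_cases h56 : i < 62130
  · exact (allR_iff _ _ _).mp XS6_56 i (by omega) (by omega)
  by_cases h57 : i < 63220
  · exact (allR_iff _ _ _).mp XS6_57 i (by omega) (by omega)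
  by_cases h58 : i < 64310
  · exact (allR_iff _ _ _).mp XS6_58 i (by omega) (by omega)
  by_cases h59 : i < 65400
  · exact (allR_iff _ _ _).mp XS6_59 i (by omega) (by omega)
  by_cases h60 : i < 66490
  · exact (allR_iff _ _ _).mp XS6_60 i (by omega) (by omega)
  by_cases h61 : i < 67580
  · exact (allR_iff _ _ _).mp XS6_61 i (by omega) (by omega)
  by_cases h62 : i < 68670
  · exact (allR_iff _ _ _).mp XS6_62 i (by omega) (by omega)
  by_cases h63 : i < 69760
  · exact (allR_iff _ _ _).mp XS6_63 i (by omega) (by omega)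
  by_cases h64 : i < 70850
  · exact (allR_iff _ _ _).mp XS6_64 i (by omega) (by omega)
  by_cases h65 : i < 71940
  · exact (allR_iff _ _ _).mp XS6_65 i (by omega) (by omega)
  by_cases h66 : i < 73030
  · exact (allR_iff _ _ _).mp XS6_66 i (by omega) (by omega)
  by_cases h67 : i < 74120
  · exact (allR_iff _ _ _).mp XS6_67 i (by omega) (by omega)
  by_cases h68 : i < 75210
  · exact (allR_iff _ _ _).mp XS6_68 i (by omega) (by omega)
  by_cases h69 : i < 76300
  · exact (allR_iff _ _ _).mp XS6_69 i (by omega) (by omega)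
  by_cases h70 : i < 77390
  · exact (allR_iff _ _ _).mp XS6_70 i (by omega) (by omega)
  by_cases h71 : i < 78480
  · exact (allR_iff _ _ _).mp XS6_71 i (by omega) (by omega)
  by_cases h72 : i < 79570
  · exact (allR_iff _ _ _).mp XS6_72 i (by omega) (by omega)
  by_cases h73 : i < 80660
  · exact (allR_iff _ _ _).mp XS6_73 i (by omega) (by omega)
  by_cases h74 : i < 81750
  · exact (allR_iff _ _ _).mp XS6_74 i (by omega) (by omega)
  by_cases h75 : i < 82840
  · exact (allR_iff _ _ _).mp XS6_75 i (by omega) (by omega)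
  by_cases h76 : i < 83930
  · exact (allR_iff _ _ _).mp XS6_76 i (by omega) (by omega)
  by_cases h77 : i < 85020
  · exact (allR_iff _ _ _).mp XS6_77 i (by omega) (by omega)
  by_cases h78 : i < 86110
  · exact (allR_iff _ _ _).mp XS6_78 i (by omega) (by omega)
  by_cases h79 : i < 87200
  · exact (allR_iff _ _ _).mp XS6_79 i (by omega) (by omega)
  by_cases h80 : i < 88290
  · exact (allR_iff _ _ _).mp XS6_80 i (by omega) (by omega)
  by_cases h81 : i < 89380
  · exact (allR_iff _ _ _).mp XS6_81 i (by omega) (by omega)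
  by_cases h82 : i < 90470
  · exact (allR_iff _ _ _).mp XS6_82 i (by omega) (by omega)
  by_cases h83 : i < 91560
  · exact (allR_iff _ _ _).mp XS6_83 i (by omega) (by omega)
  by_cases h84 : i < 92650
  · exact (allR_iff _ _ _).mp XS6_84 i (by omega) (by omega)
  by_cases h85 : i < 93740
  · exact (allR_iff _ _ _).mp XS6_85 i (by omega) (by omega)
  by_cases h86 : i < 94830
  · exact (allR_iff _ _ _).mp XS6_86 i (by omega) (by omega)
  by_cases h87 : i < 95920
  · exact (allR_iff _ _ _).mp XS6_87 i (by omega) (by omega)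
  by_cases h88 : i < 97010
  · exact (allR_iff _ _ _).mp XS6_88 i (by omega) (by omega)
  by_cases h89 : i < 98100
  · exact (allR_iff _ _ _).mp XS6_89 i (by omega) (by omega)
  by_cases h90 : i < 99190
  · exact (allR_iff _ _ _).mp XS6_90 i (by omega) (by omega)
  by_cases h91 : i < 100280
  · exact (allR_iff _ _ _).mp XS6_91 i (by omega) (by omega)
  by_cases h92 : i < 101370
  · exact (allR_iff _ _ _).mp XS6_92 i (by omega) (by omega)
  by_cases h93 : i < 102460
  · exact (allR_iff _ _ _).mp XS6_93 i (by omega) (by omega)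
  by_cases h94 : i < 103550
  · exact (allR_iff _ _ _).mp XS6_94 i (by omega) (by omega)
  by_cases h95 : i < 104640
  · exact (allR_iff _ _ _).mp XS6_95 i (by omega) (by omega)
  by_cases h96 : i < 105730
  · exact (allR_iff _ _ _).mp XS6_96 i (by omega) (by omega)
  by_cases h97 : i < 106820
  · exact (allR_iff _ _ _).mp XS6_97 i (by omega) (by omega)
  by_cases h98 : i < 107910
  · exact (allR_iff _ _ _).mp XS6_98 i (by omega) (by omega)
  by_cases h99 : i < 109000
  · exact (allR_iff _ _ _).mp XS6_99 i (by omega) (by omega)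
  by_cases h100 : i < 110090
  · exact (allR_iff _ _ _).mp XS6_100 i (by omega) (by omega)
  by_cases h101 : i < 111180
  · exact (allR_iff _ _ _).mp XS6_101 i (by omega) (by omega)
  by_cases h102 : i < 112270
  · exact (allR_iff _ _ _).mp XS6_102 i (by omega) (by omega)
  by_cases h103 : i < 113360
  · exact (allR_iff _ _ _).mp XS6_103 i (by omega) (by omega)
  by_cases h104 : i < 114450
  · exact (allR_iff _ _ _).mp XS6_104 i (by omega) (by omega)
  by_cases h105 : i < 115540
  · exact (allR_iff _ _ _).mp XS6_105 i (by omega) (by omega)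
  by_cases h106 : i < 116630
  · exact (allR_iff _ _ _).mp XS6_106 i (by omega) (by omega)
  by_cases h107 : i < 117720
  · exact (allR_iff _ _ _).mp XS6_107 i (by omega) (by omega)
  by_cases h108 : i < 118810
  · exact (allR_iff _ _ _).mp XS6_108 i (by omega) (by omega)
  by_cases h109 : i < 119900
  · exact (allR_iff _ _ _).mp XS6_109 i (by omega) (by omega)
  by_cases h110 : i < 120990
  · exact (allR_iff _ _ _).mp XS6_110 i (by omega) (by omega)
  by_cases h111 : i < 122080
  · exact (allR_iff _ _ _).mp XS6_111 i (by omega) (by omega)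
  exact (allR_iff _ _ _).mp XS6_112 i (by omega) (by omega)

theorem X6 : FreeGroup.lift fG (ON.g * ON.e * (ON.d⁻¹ * ON.g * ON.d) * (ON.e⁻¹ * ON.g * ON.e) * (ON.d⁻¹ * ON.g * ON.d)) = 1 := by
  have h : permw wX6 = 1 := permw_one (by decide) (pW_of_pK mX6 XS6_all)
  simp only [map_mul, map_inv, map_pow, FreeGroup.lift_apply_of, fG, idx]
  simp only [pow_succ, pow_zero, one_mul, mul_inv_rev, inv_inv, σi0, σi1, σi2, σi3, σi4, σi5, σi6, σi7, mul_assoc]
  simp only [wX6, permw, one_mul, mul_assoc] at h
  exact h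

theorem hextra : ∀ r ∈ ON.extra, FreeGroup.lift fG r = 1 := by
  intro r hr
  simp only [ON.extra, List.mem_cons, List.mem_singleton, List.not_mem_nil, or_false] at hr
  rcases hr with rfl | rfl | rfl | rfl | rfl | rfl | rfl
  · exact X0
  · exact X1
  · exact X2
  · exact X3
  · exact X4
  · exact X5
  · exact X6

theorem hrel : ∀ r ∈ Rels, FreeGroup.lift fG r = 1 := by
  intro r hr
  rcases hr with ⟨x, hx, y, hy, rfl⟩ | hr
  · rw [map_pow, map_mul, FreeGroup.lift_apply_of, FreeGroup.lift_apply_of]
    exact hcox x y hx hy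
  · exact hextra r hr

def phi : G →* Equiv.Perm ℕ := PresentedGroup.toGroup hrel

theorem phi_mk (x : FreeGroup Gn) : phi (PresentedGroup.mk Rels x) = FreeGroup.lift fG x := rfl

theorem phi_of (a : Gn) : phi (PresentedGroup.of a) = σ (idx a) := PresentedGroup.toGroup.of hrel

theorem Hs_eq : Hs = (Subgroup.closure subS).map (PresentedGroup.mk Rels) := rfl

theorem phi_gG : ∀ l, l < nl → phi (gG l) = σ l := by
  intro l hl
  unfold nl at hl
  interval_cases l
  · exact phi_of ON.Gen.g
  · show phi (PresentedGroup.of ON.Gen.g)⁻¹ = σ 1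
    rw [map_inv, phi_of]
    exact σi0
  · exact phi_of ON.Gen.a
  · exact phi_of ON.Gen.b
  · exact phi_of ON.Gen.c
  · exact phi_of ON.Gen.d
  · exact phi_of ON.Gen.e
  · exact phi_of ON.Gen.f

theorem Y0 : phi (PresentedGroup.mk Rels (ON.a)) = permw (subW 0) := by
  rw [phi_mk, show subW 0 = [2] from rfl]
  simp only [map_mul, map_inv, map_pow, FreeGroup.lift_apply_of, fG, idx]
  try simp only [pow_succ, pow_zero, one_mul, mul_inv_rev, inv_inv, σi0, σi1, σi2, σi3, σi4, σi5, σi6, σi7, mul_assoc]
  simp only [permw, one_mul, mul_assoc]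

theorem Y1 : phi (PresentedGroup.mk Rels (ON.b)) = permw (subW 1) := by
  rw [phi_mk, show subW 1 = [3] from rfl]
  simp only [map_mul, map_inv, map_pow, FreeGroup.lift_apply_of, fG, idx]
  try simp only [pow_succ, pow_zero, one_mul, mul_inv_rev, inv_inv, σi0, σi1, σi2, σi3, σi4, σi5, σi6, σi7, mul_assoc]
  simp only [permw, one_mul, mul_assoc]

theorem Y2 : phi (PresentedGroup.mk Rels (ON.c)) = permw (subW 2) := by
  rw [phi_mk, show subW 2 = [4] from rfl]
  simp only [map_mul, map_inv, map_pow, FreeGroup.lift_apply_of, fG, idx]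
  try simp only [pow_succ, pow_zero, one_mul, mul_inv_rev, inv_inv, σi0, σi1, σi2, σi3, σi4, σi5, σi6, σi7, mul_assoc]
  simp only [permw, one_mul, mul_assoc]

theorem Y3 : phi (PresentedGroup.mk Rels (ON.d)) = permw (subW 3) := by
  rw [phi_mk, show subW 3 = [5] from rfl]
  simp only [map_mul, map_inv, map_pow, FreeGroup.lift_apply_of, fG, idx]
  try simp only [pow_succ, pow_zero, one_mul, mul_inv_rev, inv_inv, σi0, σi1, σi2, σi3, σi4, σi5, σi6, σi7, mul_assoc]
  simp only [permw, one_mul, mul_assoc]

theorem Y4 : phi (PresentedGroup.mk Rels (ON.e)) = permw (subW 4) := by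
  rw [phi_mk, show subW 4 = [6] from rfl]
  simp only [map_mul, map_inv, map_pow, FreeGroup.lift_apply_of, fG, idx]
  try simp only [pow_succ, pow_zero, one_mul, mul_inv_rev, inv_inv, σi0, σi1, σi2, σi3, σi4, σi5, σi6, σi7, mul_assoc]
  simp only [permw, one_mul, mul_assoc]

theorem Y5 : phi (PresentedGroup.mk Rels (ON.f)) = permw (subW 5) := by
  rw [phi_mk, show subW 5 = [7] from rfl]
  simp only [map_mul, map_inv, map_pow, FreeGroup.lift_apply_of, fG, idx]
  try simp only [pow_succ, pow_zero, one_mul, mul_inv_rev, inv_inv, σi0, σi1, σi2, σi3, σi4, σi5, σi6, σi7, mul_assoc]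
  simp only [permw, one_mul, mul_assoc]

theorem subgen_cases (P : FreeGroup Gn → Prop) (h0 : P (ON.a)) (h1 : P (ON.b)) (h2 : P (ON.c)) (h3 : P (ON.d)) (h4 : P (ON.e)) (h5 : P (ON.f)) :
    ∀ s ∈ subS, P s := by
  intro s hs
  simp only [subS, Set.mem_insert_iff, Set.mem_singleton_iff] at hs
  rcases hs with rfl | rfl | rfl | rfl | rfl | rfl
  · exact h0
  · exact h1
  · exact h2
  · exact h3
  · exact h4
  · exact h5

theorem subgen_perm : ∀ s ∈ subS, ∃ k, k < nsub ∧ phi (PresentedGroup.mk Rels s) = permw (subW k) :=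
  subgen_cases _ ⟨0, by decide, Y0⟩ ⟨1, by decide, Y1⟩ ⟨2, by decide, Y2⟩ ⟨3, by decide, Y3⟩ ⟨4, by decide, Y4⟩ ⟨5, by decide, Y5⟩

theorem subW_mem : ∀ k, k < nsub → ∃ s ∈ subS, phi (PresentedGroup.mk Rels s) = permw (subW k) := by
  intro k hk
  unfold nsub at hk
  interval_cases k
  · exact ⟨ON.a, (Or.inl rfl), Y0⟩
  · exact ⟨ON.b, (Or.inr (Or.inl rfl)), Y1⟩
  · exact ⟨ON.c, (Or.inr (Or.inr (Or.inl rfl))), Y2⟩
  · exact ⟨ON.d, (Or.inr (Or.inr (Or.inr (Or.inl rfl)))), Y3⟩
  · exact ⟨ON.e, (Or.inr (Or.inr (Or.inr (Or.inr (Or.inl rfl))))), Y4⟩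
  · exact ⟨ON.f, (Or.inr (Or.inr (Or.inr (Or.inr (Or.inr rfl))))), Y5⟩

theorem phi_ge (g : G) {i : ℕ} (hi : N ≤ i) : phi g i = i := by
  induction g using PresentedGroup.induction_on with
  | H z =>
    rw [phi_mk]
    induction z using FreeGroup.induction_on with
    | C1 => simp
    | of a => rw [FreeGroup.lift_apply_of, fG, σ_apply, sg_ge hi]
    | inv_of a h =>
      rw [map_inv, Equiv.Perm.inv_eq_iff_eq]
      exact h.symm
    | mul x y hx hy => rw [map_mul, Equiv.Perm.mul_apply, hy, hx]

theorem phi_lt (g : G) {i : ℕ} (hi : i < N) : phi g i < N := by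
  by_contra hcon
  have h1 := phi_ge g⁻¹ (not_lt.mp hcon)
  rw [map_inv, Equiv.Perm.inv_eq_iff_eq] at h1
  have h2 := (phi g).injective h1
  omega

theorem Hs_le (T : Subgroup (Equiv.Perm ℕ)) (hT : ∀ k, k < nsub → permw (subW k) ∈ T) :
    ∀ h ∈ Hs, phi h ∈ T := by
  intro h hh
  rw [Hs_eq, Subgroup.mem_map] at hh
  obtain ⟨s, hs, rfl⟩ := hh
  induction hs using Subgroup.closure_induction with
  | mem x hx =>
    obtain ⟨k, hk, e⟩ := subgen_perm x hx
    rw [e]; exact hT k hk
  | one => rw [map_one, map_one]; exact T.one_mem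
  | mul x y _ _ hx hy => rw [map_mul, map_mul]; exact T.mul_mem hx hy
  | inv x _ hx => rw [map_inv, map_inv]; exact T.inv_mem hx

def chkSubL : Bool := allD nsub fun k => ltAll (subW k)

theorem chkSubL_ok : chkSubL = true := by decide +kernel

theorem subW_lt {k : ℕ} (hk : k < nsub) : ∀ l ∈ subW k, l < nl := by
  have h := chkSubL_ok
  simp only [chkSubL, allD_iff] at h
  exact ltAll_spec (h k hk)

def chkSub0 : Bool := allD nsub fun k => Nat.beq (evalC (subW k) 0) 0

theorem chkSub0_ok : chkSub0 = true := by decide +kernel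

theorem N_pos : 0 < N := by decide

theorem hH : ∀ h ∈ Hs, phi h 0 = 0 := by
  intro h hh
  have := Hs_le (MulAction.stabilizer (Equiv.Perm ℕ) (0 : ℕ)) (fun k hk => by
    rw [MulAction.mem_stabilizer_iff, Equiv.Perm.smul_def, permw_apply,
      evalw_eq_evalC _ (subW_lt hk) N_pos]
    have h := chkSub0_ok
    simp only [chkSub0, allD_iff, nbeq] at h
    exact h k hk) h hh
  rwa [MulAction.mem_stabilizer_iff, Equiv.Perm.smul_def] at this

abbrev psiQ : Q → ℕ := TCG.psi Hs phi hH

theorem psi_act {l : ℕ} (hl : l < nl) (q : Q) : psiQ (act l q) = sg l (psiQ q) := by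
  unfold act psiQ
  rw [TCG.psi_smul, phi_gG l hl, σ_apply]

theorem psi_n0 : psiQ n0 = 0 := by
  unfold n0 psiQ
  rw [TCG.psi_mk, map_one, Equiv.Perm.one_apply]

def parK (i : ℕ) : ℕ := Nat.land (Nat.shiftRight parT (Nat.mul 17 i)) 131071

def pletK (i : ℕ) : ℕ := Nat.land (Nat.shiftRight pletT (Nat.mul 3 i)) 7

theorem parK_eq (i : ℕ) : parK i = par i := rfl

theorem pletK_eq (i : ℕ) : pletK i = plet i := rfl

def pPar (i : ℕ) : Bool :=
  Nat.beq i 0 || (Nat.ble (Nat.succ (parK i)) i && Nat.ble (Nat.succ (pletK i)) nl &&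
    Nat.beq (lk2 (pletK i) (parK i)) i)

theorem PAR_0 : allR 0 4000 (pPar) = true := by decide +kernel
theorem PAR_1 : allR 4000 4000 (pPar) = true := by decide +kernel
theorem PAR_2 : allR 8000 4000 (pPar) = true := by decide +kernel
theorem PAR_3 : allR 12000 4000 (pPar) = true := by decide +kernel
theorem PAR_4 : allR 16000 4000 (pPar) = true := by decide +kernel
theorem PAR_5 : allR 20000 4000 (pPar) = true := by decide +kernel
theorem PAR_6 : allR 24000 4000 (pPar) = true := by decide +kernel
theorem PAR_7 : allR 28000 4000 (pPar) = true := by decide +kernel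
theorem PAR_8 : allR 32000 4000 (pPar) = true := by decide +kernel
theorem PAR_9 : allR 36000 4000 (pPar) = true := by decide +kernel
theorem PAR_10 : allR 40000 4000 (pPar) = true := by decide +kernel
theorem PAR_11 : allR 44000 4000 (pPar) = true := by decide +kernel
theorem PAR_12 : allR 48000 4000 (pPar) = true := by decide +kernel
theorem PAR_13 : allR 52000 4000 (pPar) = true := by decide +kernel
theorem PAR_14 : allR 56000 4000 (pPar) = true := by decide +kernel
theorem PAR_15 : allR 60000 4000 (pPar) = true := by decide +kernel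
theorem PAR_16 : allR 64000 4000 (pPar) = true := by decide +kernel
theorem PAR_17 : allR 68000 4000 (pPar) = true := by decide +kernel
theorem PAR_18 : allR 72000 4000 (pPar) = true := by decide +kernel
theorem PAR_19 : allR 76000 4000 (pPar) = true := by decide +kernel
theorem PAR_20 : allR 80000 4000 (pPar) = true := by decide +kernel
theorem PAR_21 : allR 84000 4000 (pPar) = true := by decide +kernel
theorem PAR_22 : allR 88000 4000 (pPar) = true := by decide +kernel
theorem PAR_23 : allR 92000 4000 (pPar) = true := by decide +kernel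
theorem PAR_24 : allR 96000 4000 (pPar) = true := by decide +kernel
theorem PAR_25 : allR 100000 4000 (pPar) = true := by decide +kernel
theorem PAR_26 : allR 104000 4000 (pPar) = true := by decide +kernel
theorem PAR_27 : allR 108000 4000 (pPar) = true := by decide +kernel
theorem PAR_28 : allR 112000 4000 (pPar) = true := by decide +kernel
theorem PAR_29 : allR 116000 4000 (pPar) = true := by decide +kernel
theorem PAR_30 : allR 120000 2760 (pPar) = true := by decide +kernel

theorem PAR_all : ∀ i, i < N → (pPar) i = true := by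
  intro i hi
  have hN : N = 122760 := rfl
  by_cases h0 : i < 4000
  · exact (allR_iff _ _ _).mp PAR_0 i (by omega) (by omega)
  by_cases h1 : i < 8000
  · exact (allR_iff _ _ _).mp PAR_1 i (by omega) (by omega)
  by_cases h2 : i < 12000
  · exact (allR_iff _ _ _).mp PAR_2 i (by omega) (by omega)
  by_cases h3 : i < 16000
  · exact (allR_iff _ _ _).mp PAR_3 i (by omega) (by omega)
  by_cases h4 : i < 20000
  · exact (allR_iff _ _ _).mp PAR_4 i (by omega) (by omega)
  by_cases h5 : i < 24000
  · exact (allR_iff _ _ _).mp PAR_5 i (by omega) (by omega)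
  by_cases h6 : i < 28000
  · exact (allR_iff _ _ _).mp PAR_6 i (by omega) (by omega)
  by_cases h7 : i < 32000
  · exact (allR_iff _ _ _).mp PAR_7 i (by omega) (by omega)
  by_cases h8 : i < 36000
  · exact (allR_iff _ _ _).mp PAR_8 i (by omega) (by omega)
  by_cases h9 : i < 40000
  · exact (allR_iff _ _ _).mp PAR_9 i (by omega) (by omega)
  by_cases h10 : i < 44000
  · exact (allR_iff _ _ _).mp PAR_10 i (by omega) (by omega)
  by_cases h11 : i < 48000
  · exact (allR_iff _ _ _).mp PAR_11 i (by omega) (by omega)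
  by_cases h12 : i < 52000
  · exact (allR_iff _ _ _).mp PAR_12 i (by omega) (by omega)
  by_cases h13 : i < 56000
  · exact (allR_iff _ _ _).mp PAR_13 i (by omega) (by omega)
  by_cases h14 : i < 60000
  · exact (allR_iff _ _ _).mp PAR_14 i (by omega) (by omega)
  by_cases h15 : i < 64000
  · exact (allR_iff _ _ _).mp PAR_15 i (by omega) (by omega)
  by_cases h16 : i < 68000
  · exact (allR_iff _ _ _).mp PAR_16 i (by omega) (by omega)
  by_cases h17 : i < 72000
  · exact (allR_iff _ _ _).mp PAR_17 i (by omega) (by omega)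
  by_cases h18 : i < 76000
  · exact (allR_iff _ _ _).mp PAR_18 i (by omega) (by omega)
  by_cases h19 : i < 80000
  · exact (allR_iff _ _ _).mp PAR_19 i (by omega) (by omega)
  by_cases h20 : i < 84000
  · exact (allR_iff _ _ _).mp PAR_20 i (by omega) (by omega)
  by_cases h21 : i < 88000
  · exact (allR_iff _ _ _).mp PAR_21 i (by omega) (by omega)
  by_cases h22 : i < 92000
  · exact (allR_iff _ _ _).mp PAR_22 i (by omega) (by omega)
  by_cases h23 : i < 96000
  · exact (allR_iff _ _ _).mp PAR_23 i (by omega) (by omega)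
  by_cases h24 : i < 100000
  · exact (allR_iff _ _ _).mp PAR_24 i (by omega) (by omega)
  by_cases h25 : i < 104000
  · exact (allR_iff _ _ _).mp PAR_25 i (by omega) (by omega)
  by_cases h26 : i < 108000
  · exact (allR_iff _ _ _).mp PAR_26 i (by omega) (by omega)
  by_cases h27 : i < 112000
  · exact (allR_iff _ _ _).mp PAR_27 i (by omega) (by omega)
  by_cases h28 : i < 116000
  · exact (allR_iff _ _ _).mp PAR_28 i (by omega) (by omega)
  by_cases h29 : i < 120000
  · exact (allR_iff _ _ _).mp PAR_29 i (by omega) (by omega)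
  exact (allR_iff _ _ _).mp PAR_30 i (by omega) (by omega)

theorem par_spec {i : ℕ} (hi : i < N) (h0 : 0 < i) :
    par i < i ∧ plet i < nl ∧ tb (par i) (plet i) = i := by
  have h := PAR_all i hi
  simp only [pPar, parK_eq, pletK_eq, Bool.or_eq_true, Bool.and_eq_true, nble_succ, nbeq] at h
  rcases h with h | h
  · omega
  · exact ⟨h.1.1, h.1.2, by rw [tb_eq]; exact h.2⟩

theorem hpsi : ∀ i, i < N → psiQ (nd i) = i := by
  intro i
  induction i using Nat.strong_induction_on with
  | _ i ih =>
    intro hi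
    rcases Nat.eq_zero_or_pos i with rfl | h0
    · rw [nd_zero, psi_n0]
    · obtain ⟨h1, h2, h3⟩ := par_spec hi h0
      have hc : chk i (par i) (plet i) = true := by
        simp [chk, h0, hi, h1]
      rw [nd_step hc, psi_act h2, ih _ h1 (lt_trans h1 hi)]
      unfold sg
      rw [if_pos ⟨h2, lt_trans h1 hi⟩, h3]

theorem hsurj : ∀ q : Q, ∃ i, i < N ∧ q = nd i := by
  have hgen : Subgroup.closure {g : G | ∃ l, l < nl ∧ g = gG l} = ⊤ := by
    rw [eq_top_iff, ← PresentedGroup.closure_range_of]
    apply Subgroup.closure_mono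
    rintro _ ⟨a, rfl⟩
    exact ⟨idx a, idx_lt a, by cases a <;> rfl⟩
  have hall := TCG.exists_nd_of_closed Hs _ hgen
    (by rintro _ ⟨l, hl, rfl⟩; exact ⟨li l, li_lt l hl, (gG_li l).symm⟩) nd nd_zero
    (by
      rintro i _ ⟨l, hl, rfl⟩
      by_cases hi : i < N
      · exact closedN i hi l hl
      · rw [nd_ge (not_lt.mp hi), ← nd_zero]
        exact closedN 0 N_pos l hl)
  intro q
  obtain ⟨i, rfl⟩ := hall q
  by_cases hi : i < N
  · exact ⟨i, hi, rfl⟩
  · exact ⟨0, N_pos, by rw [nd_ge (not_lt.mp hi), nd_zero]⟩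

theorem card_Q : Nat.card Q = N := (TCG.card_eq Hs phi hH N nd hsurj hpsi).1

theorem psi_inj : Function.Injective psiQ := (TCG.card_eq Hs phi hH N nd hsurj hpsi).2


end Cfsg.Agent.Helper17.ONTC
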